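import Mathlib
import Cfsg.Agent.H2.BGU.L91b
import Cfsg.Agent.Lib.Helper4.BGUniqA
import Cfsg.Agent.S1395
import Cfsg.Agent.S1396
import Cfsg.Agent.S0025

/-!
# BG Lemma 9.5 (S1402): the case where every maximal subgroup over `A` has `H' ≤ F(H)`

`A ∈ SCN_3(P)`, `P` a Sylow `p`-subgroup of the minimal simple group `G` of odd order.
Put `A₀ = A ∩ N_G(A)'`.  Then `A₀ ≠ 1` (Burnside transfer), and by BG Theorem 7.5(d) (S1395 with
`P := A`) `A₀ ≤ N_G(Q)'` for every `Q ∈ И*(A; q)`.  If every maximal subgroup `H ≥ A` has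
`H' ≤ F(H)`, then `A₀ ≤ O_p(H)` for `H ≥ N_G(Q)`, while `Q ≤ O_{p'}(H)`; hence `Q ≤ C_G(A₀)`.
So every `A`-invariant `p'`-subgroup lies in a maximal subgroup over `C_G(A₀)`, and BG Lemma 9.1(b)
gives `A ∈ 𝒰`.
-/

set_option autoImplicit false
set_option linter.unusedVariables false
set_option linter.unusedSectionVars false
set_option linter.style.haveILetI false

open scoped commutatorElement Pointwise

namespace Cfsg.Agent.Lib.Helper5.BG95I

open Cfsg Cfsg.Agent.H2.BGU Cfsg.Agent.Lib.Helper4.ThreeStep Cfsg.Agent.Lib.Lead.Conj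
  Cfsg.Agent.Lib.Lead.PiCore Cfsg.Agent.Lib.Helper4.BGTrans Cfsg.Agent.Lib.Helper4.Puig

universe u

variable {G : Type u} [Group G] [Finite G]

/-- `A₀ = A ∩ N_G(A)'` -/
def A0 (A : Subgroup G) : Subgroup G :=
  A ⊓ ⁅Subgroup.normalizer (A : Set G), Subgroup.normalizer (A : Set G)⁆

theorem A0_le (A : Subgroup G) : A0 A ≤ A := inf_le_left

/-- `A ∩ N_G(A)' ≠ 1` for `A ∈ SCN(P)`, `P` a Sylow subgroup of a minimal simple group -/
theorem scn_inf_commutator_normalizer_ne_bot (hG : Cfsg.IsMinSimpleOddOrder G) {p : ℕ}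
    [hp : Fact p.Prime] (P : Sylow p G) {A : Subgroup G} (hA : Cfsg.IsSCN (P : Subgroup G) A)
    (hAne : A ≠ ⊥) : A0 A ≠ ⊥ := by
  intro hbot
  have hNC : Subgroup.normalizer (A : Set G) ≤ Subgroup.centralizer (A : Set G) := by
    intro n hn
    rw [Subgroup.mem_centralizer_iff]
    intro a ha
    have h1 : ⁅n, a⁆ ∈ A0 A := by
      refine ⟨?_, Subgroup.commutator_mem_commutator hn (Subgroup.le_normalizer ha)⟩
      rw [commutatorElement_def]
      exact A.mul_mem ((Subgroup.mem_normalizer_iff.mp hn a).mp ha) (A.inv_mem ha)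
    rw [hbot, Subgroup.mem_bot, commutatorElement_eq_one_iff_mul_comm] at h1
    exact h1.symm
  have hPA : (P : Subgroup G) = A := by
    apply le_antisymm _ hA.1
    intro x hx
    rw [← hA.2.2]
    exact ⟨hx, hNC (hA.2.1 hx)⟩
  have hPN : Subgroup.normalizer ((P : Subgroup G) : Set G) ≤
      Subgroup.centralizer ((P : Subgroup G) : Set G) := by
    rw [hPA]; exact hNC
  have hc := MonoidHom.ker_transferSylow_isComplement' P hPN
  haveI : IsSimpleGroup G := hG.2.1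
  rcases (MonoidHom.normal_ker (MonoidHom.transferSylow P hPN)).eq_bot_or_eq_top with hk | hk
  · -- then `P = ⊤`, so `G = A` is commutative
    rw [hk] at hc
    have hPtop : (P : Subgroup G) = ⊤ := Subgroup.isComplement'_bot_left.mp hc
    apply hG.2.2.1
    refine ⟨⟨fun x y => ?_⟩⟩
    have hx : x ∈ A := by rw [← hPA, hPtop]; exact Subgroup.mem_top x
    have hy : y ∈ A := by rw [← hPA, hPtop]; exact Subgroup.mem_top y
    have := Subgroup.mem_centralizer_iff.mp (hNC (Subgroup.le_normalizer hx)) y hy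
    exact this.symm
  · rw [hk] at hc
    have hPbot : (P : Subgroup G) = ⊥ := Subgroup.isComplement'_top_left.mp hc
    exact hAne (by rw [← hPA, hPbot])

section main

variable (hG : Cfsg.IsMinSimpleOddOrder G) {p : ℕ} [hp : Fact p.Prime] {A : Subgroup G}
  (hTA : Cfsg.TransitivityHypothesis A) (hAp : IsPGroup p ↥A)
  (hAc : A ≤ Subgroup.centralizer (A : Set G))
  (hA3 : ¬ Cfsg.RankLE 2 ↥(A ⊓ Subgroup.centralizer (A : Set G)))
  (hI : ∀ H : Subgroup G, IsCoatom H → A ≤ H → ⁅H, H⁆ ≤ Cfsg.fittingOf H)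

include hG hTA hAp hA3 hI

/-- every member of `И*(A; q)` is centralized by `A₀` when all maximal subgroups over `A` have
`H' ≤ F(H)` -/
theorem maxInv_le_centralizer_A0 {q : ℕ} (hq : q.Prime) (hqp : q ≠ p) {Q : Subgroup G}
    (hQ : Q ∈ Cfsg.maxInvSubgroups ⊤ A {q}) : Q ≤ Subgroup.centralizer (A0 A : Set G) := by
  haveI := Fact.mk hq
  have hAne : A ≠ ⊥ := hTA.1
  have hpA : p ∣ Nat.card ↥A := dvd_card_of_ne_bot_of_isPGroup hAp hAne
  have hqA : ¬ q ∣ Nat.card ↥A := by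
    obtain ⟨k, hk⟩ := hAp.exists_card_eq
    rw [hk]
    intro hd
    exact hqp ((Nat.prime_dvd_prime_iff_eq hq hp.out).mp (hq.dvd_of_dvd_pow hd))
  by_cases hQbot : Q = ⊥
  · rw [hQbot]; exact bot_le
  have hQq : IsPGroup q ↥Q := isPGroup_of_isPiNat hq hQ.1.2.1
  have hQs : Group.IsSolvable ↥Q := by
    haveI := hQq.isNilpotent
    infer_instance
  have hAQ : A ≤ Subgroup.normalizer (Q : Set G) := hQ.1.2.2
  have hNtop : Subgroup.normalizer (Q : Set G) ≠ ⊤ :=
    Cfsg.Agent.Lib.Helper4.ThreeStep.normalizer_ne_top hG.2 Q hQbot hQs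
  obtain ⟨M, hM, hNM⟩ := exists_coatom_ge hNtop
  have hAM : A ≤ M := hAQ.trans hNM
  have hMtop : M ≠ ⊤ := hM.1
  -- S1395 with `P := A`
  have h95 := Cfsg.Agent.S1395.result hG A hTA q hq hqA A hTA.2.1
    (fun r hr hrd => hrd) le_rfl
    (isSubnormal_subgroupOf_of_nilpotent hAp.isNilpotent)
    (fun Q₁ hQ₁ Q₂ hQ₂ => transitivity_rank_three hG hTA hA3 hq hqA hQ₁ hQ₂)
  have h1 : A0 A ≤ ⁅Subgroup.normalizer (Q : Set G), Subgroup.normalizer (Q : Set G)⁆ :=
    (h95.2.2.2 Q hQ).1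
  have h2 : A0 A ≤ Cfsg.fittingOf M :=
    h1.trans ((Subgroup.commutator_mono hNM hNM).trans (hI M hM hAM))
  have h3 : A0 A ≤ Oq p (Cfsg.fittingOf M) :=
    le_Oq_of_isPGroup (fittingOf_nilpotent M) h2 (hAp.to_le (A0_le A))
  have h4 : Q ≤ Op' (Nat.card ↥A) M := by
    apply le_piCoreOf_of_inv hTA hMtop hAM
    refine ⟨Subgroup.le_normalizer.trans hNM, ?_, hAQ⟩
    intro r hr hrd
    have hrq : r = q := hQ.1.2.1 r hr hrd
    rw [hrq]
    exact ⟨hq, hqA⟩
  have hcop : (Nat.card ↥(Op' (Nat.card ↥A) M)).Coprime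
      (Nat.card ↥(Oq p (Cfsg.fittingOf M))) := by
    obtain ⟨k, hk⟩ := (isPGroup_Oq hp.out (Cfsg.fittingOf M)).exists_card_eq
    rw [hk]
    apply Nat.Coprime.pow_right
    have h5 := coprime_card_Op' (Nat.card ↥A) M
    exact (Nat.Coprime.coprime_dvd_left hpA h5).symm
  have h6 : Op' (Nat.card ↥A) M ≤ Subgroup.centralizer (Oq p (Cfsg.fittingOf M) : Set G) :=
    le_centralizer_of_coprime
      ((Op'_le _ M).trans (le_normalizer_Oq_fittingOf p M))
      ((Oq_le p _).trans ((fittingOf_le M).trans (le_normalizer_Op' _ M))) hcop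
  exact h4.trans (h6.trans (Subgroup.centralizer_le h3))

/-- every `A`-invariant `p'`-subgroup is centralized by `A₀` -/
theorem inv_le_centralizer_A0 {Y : Subgroup G}
    (hY : Y ∈ Cfsg.invSubgroups ⊤ A (Cfsg.primesNotDvd p)) :
    Y ≤ Subgroup.centralizer (A0 A : Set G) := by
  rw [mem_invSubgroups_top] at hY
  obtain ⟨hYπ, hAY⟩ := hY
  have hYp : p.Coprime (Nat.card ↥Y) := (isPiNat_primesNotDvd_iff p _).mp hYπ
  have hcop : (Nat.card ↥A).Coprime (Nat.card ↥Y) := by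
    obtain ⟨k, hk⟩ := hAp.exists_card_eq
    rw [hk]
    exact Nat.Coprime.pow_left k hYp
  set C := Subgroup.centralizer (A0 A : Set G) with hC
  set D : Subgroup ↥Y := C.subgroupOf Y with hD
  have hidx : D.index = 1 := by
    by_contra hne
    obtain ⟨q, hq, hqd⟩ := Nat.exists_prime_and_dvd hne
    haveI := Fact.mk hq
    have hqY : q ∣ Nat.card ↥Y := hqd.trans (Subgroup.index_dvd_card D)
    have hqp : q ≠ p := by
      rintro rfl
      exact (Nat.Prime.coprime_iff_not_dvd hq).mp hYp hqY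
    obtain ⟨S, -, hAS⟩ := Cfsg.Agent.S0025.result A Y hAY hcop
      (Or.inl (IsNilpotent.to_isSolvable (h := hAp.isNilpotent))) q ⊥ bot_le
      (IsPGroup.of_bot) (by
        have hbn : Subgroup.normalizer (((⊥ : Subgroup G)) : Set G) = ⊤ :=
          Subgroup.normalizer_eq_top_iff.mpr inferInstance
        rw [hbn]; exact le_top)
    have hSinv : (S : Subgroup ↥Y).map Y.subtype ∈ Cfsg.invSubgroups ⊤ A {q} := by
      rw [mem_invSubgroups_top]
      exact ⟨isPiNat_of_isPGroup (S.isPGroup'.map Y.subtype), hAS⟩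
    obtain ⟨Q, hQ, hSQ⟩ := exists_maxInv_ge hSinv
    have hSC : (S : Subgroup ↥Y).map Y.subtype ≤ C :=
      hSQ.trans (maxInv_le_centralizer_A0 hG hTA hAp hA3 hI hq hqp hQ)
    have hSD : (S : Subgroup ↥Y) ≤ D := by
      intro y hy
      rw [hD, Subgroup.mem_subgroupOf]
      exact hSC (Subgroup.mem_map_of_mem _ hy)
    have h1 : D.index ∣ (S : Subgroup ↥Y).index := Subgroup.index_dvd_of_le hSD
    exact S.not_dvd_index (hqd.trans h1)
  have hDtop : D = ⊤ := Subgroup.index_eq_one.mp hidx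
  intro y hy
  have : (⟨y, hy⟩ : ↥Y) ∈ D := by rw [hDtop]; exact Subgroup.mem_top _
  exact Subgroup.mem_subgroupOf.mp this

end main

/-- **BG Lemma 9.5 when all maximal subgroups over `A` have `H' ≤ F(H)`** -/
theorem typeI_case (hG : Cfsg.IsMinSimpleOddOrder G) (p : ℕ) [hp : Fact p.Prime] (P : Sylow p G)
    (A : Subgroup G) (hA : Cfsg.IsSCN (P : Subgroup G) A) (hA3 : ¬ Cfsg.PRankLE p 2 ↥A)
    (hI : ∀ H : Subgroup G, IsCoatom H → A ≤ H → ⁅H, H⁆ ≤ Cfsg.fittingOf H) :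
    Cfsg.InUniqueMaximal A := by
  have hAp : IsPGroup p ↥A := P.isPGroup'.to_le hA.1
  have hAcent : A ≤ Subgroup.centralizer (A : Set G) := H81b.scn_comm hA
  obtain ⟨E, hEA, hEe, hEcard⟩ := exists_elementary_of_not_pRankLE hA3
  have hAne : A ≠ ⊥ := by
    intro hbot
    rw [hbot, le_bot_iff] at hEA
    rw [hEA, Subgroup.card_bot] at hEcard
    have : 1 < p ^ (2 + 1) := Nat.one_lt_pow (by norm_num) hp.out.one_lt
    omega
  have hrank : ¬ Cfsg.RankLE 2 ↥(A ⊓ Subgroup.centralizer (A : Set G)) :=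
    not_rankLE_of_elementary hp.out (le_inf hEA (hEA.trans hAcent)) hEe hEcard
  have hpG : p ∣ Nat.card G :=
    (dvd_card_of_ne_bot_of_isPGroup hAp hAne).trans (Subgroup.card_subgroup_dvd_card A)
  have hAc : IsMulCommutative ↥A := by
    refine ⟨⟨fun x y => ?_⟩⟩
    have := Subgroup.mem_centralizer_iff.mp (hAcent y.2) _ x.2
    exact Subtype.ext this
  have hTA : Cfsg.TransitivityHypothesis A := by
    apply Cfsg.Agent.S1396.result hG p hpG A hAp hAc
    exact Or.inr ⟨P, hA, fun h1 => hA3 (pRankLE_mono hp.out (by norm_num) h1)⟩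
  have hA0 : A0 A ≠ ⊥ := scn_inf_commutator_normalizer_ne_bot hG P hA hAne
  have hCtop : Subgroup.centralizer (A0 A : Set G) ≠ ⊤ :=
    Cfsg.Agent.Lib.Helper4.BGUniq.centralizer_ne_top hG hA0
  obtain ⟨M, hM, hCM⟩ := exists_coatom_ge hCtop
  have hAM : A ≤ M := (hAcent.trans (Subgroup.centralizer_le (A0_le A))).trans hCM
  exact lemma91b hG hM hAM hAp hAne
    (fun Y hY => (inv_le_centralizer_A0 hG hTA hAp hrank hI hY).trans hCM)

end Cfsg.Agent.Lib.Helper5.BG95I
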