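import Mathlib
import Cfsg.Agent.S0126
import Cfsg.Agent.Lib.Helper4.Rank2Fit
import Cfsg.Agent.Lib.Helper7.SylowLib
import Cfsg.Agent.Lib.Lead.PiCore

/-!
# General lemmas for B&G Lemma 12.1

* `isZGroup_of_pRankLE_one`: an odd-order group of `p`-rank at most 1 for all `p` dividing its order is a Z-group;
* `inf_commutator_le_of_isComplement'`: in a semidirect product `K ⋊ H`, `H ∩ G' ≤ H'`;
* `sylow_le_of_not_dvd_index`, `le_of_hall_nilpotent`: Hall subgroups of a nilpotent group are unique.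
-/

set_option autoImplicit false
set_option linter.style.haveILetI false
set_option linter.unusedSectionVars false
set_option linter.unusedVariables false

open scoped commutatorElement

namespace Cfsg.Agent.Lib.Helper5.BGTwelve

open Cfsg Cfsg.Agent.Lib.Helper7

universe u

/-- a `p`-subgroup lies in every normal subgroup of index prime to `p` -/
theorem pGroup_le_of_not_dvd_index {X : Type u} [Group X] [Finite X] {p : ℕ} (hp : p.Prime)
    {P K : Subgroup X} (hP : IsPGroup p ↥P) [K.Normal] (hK : ¬ p ∣ K.index) : P ≤ K := by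
  haveI : Fact p.Prime := ⟨hp⟩
  rw [← Subgroup.relIndex_eq_one]
  obtain ⟨a, ha⟩ := IsPGroup.iff_card.mp hP
  have h1 : K.relIndex P ∣ K.index := Subgroup.relIndex_dvd_index_of_normal K P
  have h2 : K.relIndex P ∣ p ^ a := ha ▸ Subgroup.relIndex_dvd_card K P
  obtain ⟨j, -, hj⟩ := (Nat.dvd_prime_pow hp).mp h2
  rcases Nat.eq_zero_or_pos j with h0 | h0
  · rw [hj, h0, pow_zero]
  · exfalso
    apply hK
    refine dvd_trans ?_ h1
    rw [hj]
    exact dvd_pow_self p h0.ne'

/-- for odd `p`, a finite `p`-group of `p`-rank at most 1 is cyclic -/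
theorem isCyclic_of_pRankLE_one {P : Type u} [Group P] [Finite P] {p : ℕ} [hp : Fact p.Prime]
    (hp2 : p ≠ 2) (hP : IsPGroup p P) (hr : Cfsg.PRankLE p 1 P) : IsCyclic P := by
  by_contra hnc
  obtain ⟨A, -, hAe, hA2⟩ := Cfsg.Agent.S0126.result (R := P) hp2 hP hnc
  have h1 := hr A hAe.1 hAe.2
  rw [hA2, pow_one] at h1
  have h2 : p * p ≤ p * 1 := by rw [mul_one, ← sq]; exact h1
  have h3 := Nat.le_of_mul_le_mul_left h2 hp.out.pos
  exact absurd hp.out.one_lt (not_lt.mpr h3)

/-- an odd-order group of `p`-rank at most 1 for every prime `p` dividing its order is a Z-group -/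
theorem isZGroup_of_pRankLE_one {X : Type u} [Group X] [Finite X] (hodd : Odd (Nat.card X))
    (h : ∀ p : ℕ, p.Prime → p ∣ Nat.card X → Cfsg.PRankLE p 1 X) : IsZGroup X := by
  refine ⟨?_⟩
  intro p hp P
  haveI : Fact p.Prime := ⟨hp⟩
  by_cases hpX : p ∣ Nat.card X
  · have hr : Cfsg.PRankLE p 1 ↥(P : Subgroup X) :=
      Cfsg.Agent.Lib.Helper4.Rank2Fit.pRankLE_of_injective (P : Subgroup X).subtype
        (Subgroup.subtype_injective _) (h p hp hpX)
    have hp2 : p ≠ 2 := by
      rintro rfl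
      exact hodd.not_two_dvd_nat hpX
    by_contra hnc
    obtain ⟨A, -, hAe, hA2⟩ := Cfsg.Agent.S0126.result (R := ↥(P : Subgroup X)) hp2 P.isPGroup' hnc
    have h1 := hr A hAe.1 hAe.2
    rw [hA2, pow_one] at h1
    have h2 : p * p ≤ p * 1 := by rw [mul_one, ← sq]; exact h1
    have h3 := Nat.le_of_mul_le_mul_left h2 hp.pos
    exact absurd hp.one_lt (not_lt.mpr h3)
  · obtain ⟨k, hk⟩ := IsPGroup.iff_card.mp P.isPGroup'
    have hk0 : k = 0 := by
      rcases Nat.eq_zero_or_pos k with h0 | h0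
      · exact h0
      · exfalso
        apply hpX
        have h1 : p ∣ Nat.card ↥(P : Subgroup X) := by
          rw [hk]
          exact dvd_pow_self p h0.ne'
        exact h1.trans (Subgroup.card_subgroup_dvd_card _)
    rw [hk0, pow_zero] at hk
    haveI : Subsingleton ↥(P : Subgroup X) := (Nat.card_eq_one_iff_unique.mp hk).1
    exact isCyclic_of_subsingleton

/-- in a semidirect product `K ⋊ H`, `H ∩ G' ≤ H'` -/
theorem inf_commutator_le_of_isComplement' {Y : Type u} [Group Y] (H K : Subgroup Y) [K.Normal]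
    (h : H.IsComplement' K) : H ⊓ _root_.commutator Y ≤ (_root_.commutator ↥H).map H.subtype := by
  let r : Y →* ↥H := h.QuotientMulEquiv.toMonoidHom.comp (QuotientGroup.mk' K)
  have hr : ∀ x : ↥H, r (x : Y) = x := by
    intro x
    have h1 := h.QuotientMulEquiv.apply_symm_apply x
    exact h1
  have hsurj : Function.Surjective r := fun x => ⟨x, hr x⟩
  rintro x ⟨hxH, hxC⟩
  have h1 : r x ∈ (_root_.commutator Y).map r := ⟨x, hxC, rfl⟩
  rw [commutator_def, Subgroup.map_commutator, Subgroup.map_top_of_surjective r hsurj,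
    ← commutator_def] at h1
  refine ⟨r x, h1, ?_⟩
  have h2 := hr ⟨x, hxH⟩
  have h3 := congrArg Subtype.val h2
  exact h3

/-- a normal Sylow `p`-subgroup lies in every subgroup of index prime to `p` -/
theorem sylow_le_of_not_dvd_index {N : Type u} [Group N] [Finite N] {p : ℕ} [hp : Fact p.Prime]
    (P : Sylow p N) [hPn : (P : Subgroup N).Normal] (A : Subgroup N) (h : ¬ p ∣ A.index) :
    (P : Subgroup N) ≤ A := by
  set K : Subgroup N := A ⊔ (P : Subgroup N) with hK
  have hAK : A ≤ K := le_sup_left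
  have h1 : A.relIndex K ∣ A.index := Subgroup.relIndex_dvd_index_of_le hAK
  have h2 : Nat.card ↥A * A.relIndex K = Nat.card ↥K := by
    have h3 := (A.subgroupOf K).card_mul_index
    rw [card_subgroupOf_of_le hAK] at h3
    exact h3
  have h4 : Nat.card ↥K ∣ Nat.card ↥A * Nat.card ↥(P : Subgroup N) :=
    Cfsg.Agent.Lib.Lead.PiCore.card_sup_dvd A (P : Subgroup N)
  rw [← h2] at h4
  have h5 : A.relIndex K ∣ Nat.card ↥(P : Subgroup N) :=
    Nat.dvd_of_mul_dvd_mul_left Nat.card_pos h4
  obtain ⟨a, ha⟩ := IsPGroup.iff_card.mp P.isPGroup'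
  rw [ha] at h5
  obtain ⟨j, -, hj⟩ := (Nat.dvd_prime_pow hp.out).mp h5
  have hj0 : A.relIndex K = 1 := by
    rcases Nat.eq_zero_or_pos j with h0 | h0
    · rw [hj, h0, pow_zero]
    · exfalso
      apply h
      refine dvd_trans ?_ h1
      rw [hj]
      exact dvd_pow_self p h0.ne'
  exact le_sup_right.trans (Subgroup.relIndex_eq_one.mp hj0)

/-- in a nilpotent group, a Hall subgroup is contained in every Hall subgroup for the same primes -/
theorem le_of_hall_nilpotent {N : Type u} [Group N] [Finite N] [hN : Group.IsNilpotent N]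
    (A₁ A₂ : Subgroup N)
    (h : ∀ p : ℕ, p.Prime → p ∣ Nat.card ↥A₁ → ¬ p ∣ A₁.index ∧ ¬ p ∣ A₂.index) : A₁ ≤ A₂ := by
  have h1 : (A₁ ⊓ A₂).relIndex A₁ = 1 := by
    by_contra hne
    obtain ⟨p, hp, hdvd⟩ := Nat.exists_prime_and_dvd hne
    haveI : Fact p.Prime := ⟨hp⟩
    have hpA : p ∣ Nat.card ↥A₁ := hdvd.trans (Subgroup.relIndex_dvd_card _ _)
    obtain ⟨h2, h3⟩ := h p hp hpA
    obtain ⟨P⟩ : Nonempty (Sylow p N) := inferInstance
    haveI hPn : (P : Subgroup N).Normal := inferInstance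
    have hP1 := sylow_le_of_not_dvd_index P A₁ h2
    have hP2 := sylow_le_of_not_dvd_index P A₂ h3
    have h4 : (A₁ ⊓ A₂).relIndex A₁ ∣ (P : Subgroup N).relIndex A₁ :=
      Subgroup.relIndex_dvd_of_le_left A₁ (le_inf hP1 hP2)
    have h5 : (P : Subgroup N).relIndex A₁ ∣ (P : Subgroup N).index :=
      Subgroup.relIndex_dvd_index_of_normal _ _
    exact P.not_dvd_index (hdvd.trans (h4.trans h5))
  exact (Subgroup.relIndex_eq_one.mp h1).trans inf_le_right

end Cfsg.Agent.Lib.Helper5.BGTwelve
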