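import Mathlib
import Cfsg.Agent.S0206

set_option autoImplicit false

namespace Cfsg.Agent.Lib.Helper5.DihedralRecog

/-- a group of order `2n` containing two distinct involutions whose product has order divisible
by `n` is dihedral -/
theorem dihedral_of_involutions {G : Type*} [Group G] [Finite G] (n : ℕ)
    (hcard : Nat.card G = 2 * n) (x y : G) (hx : orderOf x = 2) (hy : orderOf y = 2)
    (hxy : x ≠ y) (hn : n ∣ orderOf (x * y)) : Nonempty (G ≃* DihedralGroup n) := by
  obtain ⟨e⟩ := Cfsg.Agent.S0206.result x y hx hy hxy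
  have h1 : Nat.card (Subgroup.closure ({x, y} : Set G)) = 2 * orderOf (x * y) := by
    rw [Nat.card_congr e.toEquiv, DihedralGroup.nat_card]
  have h2 : 2 * orderOf (x * y) ∣ 2 * n := by
    rw [← h1, ← hcard]
    exact Subgroup.card_subgroup_dvd_card _
  have h3 : orderOf (x * y) ∣ n := Nat.dvd_of_mul_dvd_mul_left (by norm_num) h2
  have h4 : orderOf (x * y) = n := Nat.dvd_antisymm h3 hn
  rw [h4] at e h1
  have h5 : Subgroup.closure ({x, y} : Set G) = ⊤ := by
    apply Subgroup.eq_top_of_card_eq
    rw [h1, hcard]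
  exact ⟨(Subgroup.topEquiv.symm.trans (MulEquiv.subgroupCongr h5.symm)).trans e⟩

end Cfsg.Agent.Lib.Helper5.DihedralRecog
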