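import Mathlib
import Cfsg.Agent.Lib.Lead.NormalPComplement
import Cfsg.Agent.Lib.Lead.PiCore

/-!
# Groups with normal `p`-complements for all primes outside a set `ρ`

* `hasNormalPComplement_of_mulEquiv`, `hasNormalPComplement_of_not_dvd`;
* `isNilpotent_of_forall_hasNormalPComplement`: a finite group with a normal `p`-complement for every prime `p`
  is nilpotent;
* `pGroup_le_piCore`: if `X` has normal `p`-complements for all primes `p ∉ ρ`, every `q`-subgroup (`q ∈ ρ`) lies in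
  `O_ρ(X)`;
* `exists_nilpotent_hall_compl`: and `O_ρ(X)` has a nilpotent complement.
-/

set_option autoImplicit false
set_option linter.style.haveILetI false
set_option linter.unusedSectionVars false
set_option linter.unusedVariables false

namespace Cfsg.Agent.Lib.Helper5.BGBeta

open Cfsg Cfsg.Agent.Lib.Lead.NormalPComplement Cfsg.Agent.Lib.Lead.PiCore

universe u v
variable {X : Type u} [Group X] [Finite X]

theorem hasNormalPComplement_of_mulEquiv {Y : Type v} [Group Y] [Finite Y] {p : ℕ} [hp : Fact p.Prime]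
    (e : X ≃* Y) (h : HasNormalPComplement p X) : HasNormalPComplement p Y := by
  obtain ⟨N, hN, hc, k, hk⟩ := exists_normal_of_hasNormalPComplement h
  rw [hasNormalPComplement_iff]
  refine ⟨N.map e.toMonoidHom, ?_, ?_, k, ?_⟩
  · exact hN.map e.toMonoidHom e.surjective
  · rw [Subgroup.card_map_of_injective e.injective]
    exact hc
  · rw [← hk]
    exact Subgroup.index_map_of_bijective e.bijective N

theorem hasNormalPComplement_of_not_dvd {p : ℕ} [hp : Fact p.Prime] (h : ¬ p ∣ Nat.card X) :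
    HasNormalPComplement p X := by
  rw [hasNormalPComplement_iff]
  refine ⟨⊤, inferInstance, ?_, 0, ?_⟩
  · rw [Subgroup.card_top]
    exact ((Nat.Prime.coprime_iff_not_dvd hp.out).mpr h).symm
  · simp

/-- a `p`-subgroup lies in every normal subgroup of index a power of a different prime -/
theorem pGroup_le_of_index_pow {p q k : ℕ} (hp : p.Prime) (hq : q.Prime) (hpq : p ≠ q)
    {P K : Subgroup X} (hP : IsPGroup p ↥P) [K.Normal] (hK : K.index = q ^ k) : P ≤ K := by
  haveI : Fact p.Prime := ⟨hp⟩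
  rw [← Subgroup.relIndex_eq_one]
  obtain ⟨a, ha⟩ := IsPGroup.iff_card.mp hP
  have h1 : K.relIndex P ∣ q ^ k := hK ▸ Subgroup.relIndex_dvd_index_of_normal K P
  have h2 : K.relIndex P ∣ p ^ a := ha ▸ Subgroup.relIndex_dvd_card K P
  have hcop : Nat.Coprime (p ^ a) (q ^ k) :=
    Nat.Coprime.pow _ _ ((Nat.coprime_primes hp hq).mpr hpq)
  exact Nat.eq_one_of_dvd_coprimes hcop h2 h1

/-- a finite group having a normal `p`-complement for every prime `p` is nilpotent -/
theorem isNilpotent_of_forall_hasNormalPComplement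
    (h : ∀ q : ℕ, ∀ hq : q.Prime, haveI : Fact q.Prime := ⟨hq⟩; HasNormalPComplement q X) :
    Group.IsNilpotent X := by
  have hK : ∀ q : ℕ, ∃ N : Subgroup X, N.Normal ∧
      (q.Prime → (Nat.card ↥N).Coprime q ∧ ∃ k : ℕ, N.index = q ^ k) := by
    intro q
    by_cases hq : q.Prime
    · haveI : Fact q.Prime := ⟨hq⟩
      obtain ⟨N, hN, hc, k, hk⟩ := exists_normal_of_hasNormalPComplement (h q hq)
      exact ⟨N, hN, fun _ => ⟨hc, k, hk⟩⟩
    · exact ⟨⊤, inferInstance, fun h' => absurd h' hq⟩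
  choose K hKn hKp using hK
  apply (Group.isNilpotent_of_finite_tfae (G := X)).out 3 0 rfl rfl |>.mp
  intro p hp P
  set L : Subgroup X := ⨅ q : {q : ℕ // q.Prime ∧ q ≠ p}, K q.1 with hL
  haveI hLn : L.Normal := Subgroup.normal_iInf_normal (fun q => hKn q.1)
  have hPL : (P : Subgroup X) ≤ L := by
    rw [hL]
    apply le_iInf
    rintro ⟨q, hq, hqp⟩
    obtain ⟨-, k, hk⟩ := hKp q hq
    haveI := hKn q
    exact pGroup_le_of_index_pow hp.out hq (Ne.symm hqp) P.2 hk
  have hLp : IsPGroup p ↥L := by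
    obtain ⟨n, hn⟩ : ∃ n, Nat.card ↥L = p ^ n := by
      refine ⟨(Nat.card ↥L).primeFactorsList.length, ?_⟩
      apply Nat.eq_prime_pow_of_unique_prime_dvd Nat.card_pos.ne'
      intro q hq hdvd
      by_contra hqp
      have hle : L ≤ K q := iInf_le (fun q : {q : ℕ // q.Prime ∧ q ≠ p} => K q.1) ⟨q, hq, hqp⟩
      have h1 : q ∣ Nat.card ↥(K q) := hdvd.trans (Subgroup.card_dvd_of_le hle)
      have h2 := (hKp q hq).1
      exact (Nat.Prime.coprime_iff_not_dvd hq).mp h2.symm h1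
    exact IsPGroup.of_card hn
  have hPe : L = (P : Subgroup X) := P.is_maximal' hLp hPL
  rw [← hPe]
  exact hLn

variable (ρ : Set ℕ)

/-- if `X` has a normal `p`-complement for every prime `p ∉ ρ`, then every `q`-subgroup with `q ∈ ρ`
lies in `O_ρ(X)` -/
theorem pGroup_le_piCore
    (h : ∀ q : ℕ, ∀ hq : q.Prime, q ∉ ρ → haveI : Fact q.Prime := ⟨hq⟩; HasNormalPComplement q X)
    {q : ℕ} (hq : q.Prime) (hqρ : q ∈ ρ) (Q : Subgroup X) (hQ : IsPGroup q ↥Q) : Q ≤ piCore ρ X := by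
  have hK : ∀ r : ℕ, ∃ N : Subgroup X, N.Normal ∧
      (r.Prime → r ∉ ρ → (Nat.card ↥N).Coprime r ∧ ∃ k : ℕ, N.index = r ^ k) := by
    intro r
    by_cases hr : r.Prime ∧ r ∉ ρ
    · haveI : Fact r.Prime := ⟨hr.1⟩
      obtain ⟨N, hN, hc, k, hk⟩ := exists_normal_of_hasNormalPComplement (h r hr.1 hr.2)
      exact ⟨N, hN, fun _ _ => ⟨hc, k, hk⟩⟩
    · exact ⟨⊤, inferInstance, fun h1 h2 => absurd ⟨h1, h2⟩ hr⟩
  choose K hKn hKp using hK
  set L : Subgroup X := ⨅ r : {r : ℕ // r.Prime ∧ r ∉ ρ}, K r.1 with hL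
  haveI hLn : L.Normal := Subgroup.normal_iInf_normal (fun r => hKn r.1)
  have hQL : Q ≤ L := by
    rw [hL]
    apply le_iInf
    rintro ⟨r, hr, hrρ⟩
    obtain ⟨-, k, hk⟩ := hKp r hr hrρ
    haveI := hKn r
    refine pGroup_le_of_index_pow hq hr ?_ hQ hk
    rintro rfl
    exact hrρ hqρ
  refine hQL.trans (le_piCore hLn ?_)
  intro r hr hdvd
  by_contra hrρ
  have hle : L ≤ K r := iInf_le (fun r : {r : ℕ // r.Prime ∧ r ∉ ρ} => K r.1) ⟨r, hr, hrρ⟩
  have h1 : r ∣ Nat.card ↥(K r) := hdvd.trans (Subgroup.card_dvd_of_le hle)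
  have h2 := (hKp r hr hrρ).1
  exact (Nat.Prime.coprime_iff_not_dvd hr).mp h2.symm h1

/-- under the same hypothesis, no prime of `ρ` divides the index of `O_ρ(X)` -/
theorem not_dvd_index_piCore
    (h : ∀ q : ℕ, ∀ hq : q.Prime, q ∉ ρ → haveI : Fact q.Prime := ⟨hq⟩; HasNormalPComplement q X)
    {q : ℕ} (hq : q.Prime) (hqρ : q ∈ ρ) : ¬ q ∣ (piCore ρ X).index := by
  haveI : Fact q.Prime := ⟨hq⟩
  obtain ⟨Q⟩ : Nonempty (Sylow q X) := inferInstance
  have hle := pGroup_le_piCore ρ h hq hqρ (Q : Subgroup X) Q.2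
  intro hdvd
  exact Q.not_dvd_index (hdvd.trans (Subgroup.index_dvd_of_le hle))

/-- under the same hypothesis, `X` has a nilpotent Hall `ρ'`-subgroup (a complement of `O_ρ(X)`) -/
theorem exists_nilpotent_hall_compl
    (h : ∀ q : ℕ, ∀ hq : q.Prime, q ∉ ρ → haveI : Fact q.Prime := ⟨hq⟩; HasNormalPComplement q X) :
    ∃ H : Subgroup X, Group.IsNilpotent ↥H ∧ (∀ q : ℕ, q.Prime → q ∣ Nat.card ↥H → q ∉ ρ) ∧
      (∀ q : ℕ, q.Prime → q ∉ ρ → ¬ q ∣ H.index) := by
  set D := piCore ρ X with hD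
  have hDπ : IsPiNat ρ (Nat.card ↥D) := piCore_isPiNat ρ
  have hcop : Nat.Coprime (Nat.card ↥D) D.index := by
    apply Nat.coprime_of_dvd
    intro k hk h1 h2
    exact not_dvd_index_piCore ρ h hk (hDπ k hk h1) h2
  obtain ⟨H, hH⟩ := Subgroup.exists_right_complement'_of_coprime hcop
  have hcard : Nat.card ↥D * Nat.card ↥H = Nat.card X := hH.card_mul_card
  have hHc : Nat.card ↥H = D.index := by
    have h3 := D.card_mul_index
    rw [← hcard] at h3
    exact (Nat.eq_of_mul_eq_mul_left Nat.card_pos h3).symm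
  have hHi : H.index = Nat.card ↥D := by
    have h3 := H.card_mul_index
    rw [← hcard, mul_comm] at h3
    exact Nat.eq_of_mul_eq_mul_right Nat.card_pos h3
  have hHρ : ∀ q : ℕ, q.Prime → q ∣ Nat.card ↥H → q ∉ ρ := by
    intro q hq hdvd hqρ
    rw [hHc] at hdvd
    exact not_dvd_index_piCore ρ h hq hqρ hdvd
  refine ⟨H, ?_, hHρ, ?_⟩
  · apply isNilpotent_of_forall_hasNormalPComplement
    intro q hq
    haveI : Fact q.Prime := ⟨hq⟩
    by_cases hqρ : q ∈ ρ
    · apply hasNormalPComplement_of_not_dvd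
      intro hdvd
      exact hHρ q hq hdvd hqρ
    · exact hasNormalPComplement_subgroup (h q hq hqρ) H
  · intro q hq hqρ hdvd
    rw [hHi] at hdvd
    exact hqρ (hDπ q hq hdvd)

end Cfsg.Agent.Lib.Helper5.BGBeta
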