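import Mathlib
import Cfsg.Agent.S1453
import Cfsg.Agent.S0126
import Cfsg.Agent.H1.ElemAbelian
import Cfsg.Agent.Lib.Helper4.Rank2Fit

/-!
# Narrow `p`-groups

* `isNarrow_of_mulEquiv`: narrowness is invariant under isomorphism;
* `isNarrow_of_maximal_elementary`: for odd `p`, a `p`-group with a maximal elementary abelian subgroup of order
  `p ^ 2` is narrow (B&G Lemma 5.2, via the statement S1453).
-/

set_option autoImplicit false
set_option linter.style.haveILetI false
set_option linter.unusedSectionVars false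
set_option linter.unusedVariables false

namespace Cfsg.Agent.Lib.Helper5.BGBeta

open Cfsg

universe u v

theorem isNarrow_of_mulEquiv {R : Type u} {R' : Type v} [Group R] [Group R'] {p : ℕ} (e : R ≃* R')
    (h : Cfsg.IsNarrow p R) : Cfsg.IsNarrow p R' := by
  rcases h with h | ⟨R₀, R₁, h0, h1, h2, h3, h4⟩
  · left
    exact Cfsg.Agent.Lib.Helper4.Rank2Fit.pRankLE_of_injective e.symm.toMonoidHom e.symm.injective h
  · right
    refine ⟨R₀.map e.toMonoidHom, R₁.map e.toMonoidHom, ?_, ?_, ?_, ?_, ?_⟩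
    · rw [Subgroup.card_map_of_injective e.injective]
      exact h0
    · haveI := h1
      exact isCyclic_of_surjective (e.subgroupMap R₁).toMonoidHom (e.subgroupMap R₁).surjective
    · rw [← Subgroup.map_inf _ _ _ e.injective, h2, Subgroup.map_bot]
    · rintro _ ⟨a, ha, rfl⟩ _ ⟨b, hb, rfl⟩
      show e a * e b = e b * e a
      rw [← map_mul, ← map_mul, h3 a ha b hb]
    · rw [← Subgroup.map_sup, h4]
      ext y
      constructor
      · rintro ⟨g, hg, rfl⟩
        rw [Subgroup.mem_centralizer_iff]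
        rintro _ ⟨a, ha, rfl⟩
        have h5 := Subgroup.mem_centralizer_iff.mp hg a ha
        show e a * e g = e g * e a
        rw [← map_mul, ← map_mul, h5]
      · intro hy
        refine ⟨e.symm y, ?_, e.apply_symm_apply y⟩
        apply Subgroup.mem_centralizer_iff.mpr
        intro a ha
        have h5 := Subgroup.mem_centralizer_iff.mp hy (e a) ⟨a, ha, rfl⟩
        apply e.injective
        rw [map_mul, map_mul, e.apply_symm_apply]
        exact h5

/-- for odd `p`, a `p`-group with a maximal elementary abelian subgroup of order `p ^ 2` is narrow -/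
theorem isNarrow_of_maximal_elementary {R : Type u} [Group R] [Finite R] (p : ℕ) [Fact p.Prime]
    (hp : p ≠ 2) (hR : IsPGroup p R) (E : Subgroup R) (hE : Cfsg.IsElementaryAbelian p E)
    (hE2 : Nat.card E = p ^ 2)
    (hEmax : ∀ B : Subgroup R, Cfsg.IsElementaryAbelian p B → E ≤ B → B = E) : Cfsg.IsNarrow p R := by
  have hpp : p.Prime := Fact.out
  by_cases hr : Cfsg.PRankLE p 2 R
  · exact Or.inl hr
  right
  obtain ⟨hET, hZ0, -, hTchar, hTidx⟩ := Cfsg.Agent.S1453.result p hp hR hr E hE hE2 hEmax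
  obtain ⟨T, hT⟩ : ∃ T, T = Subgroup.centralizer ((Subgroup.closure
      {x : R | x ∈ Subgroup.upperCentralSeries R 2 ∧ x ^ p = 1} : Subgroup R) : Set R) := ⟨_, rfl⟩
  obtain ⟨Z, hZ⟩ : ∃ Z, Z = Subgroup.closure {x : R | x ∈ Subgroup.center R ∧ x ^ p = 1} :=
    ⟨_, rfl⟩
  rw [← hT] at hET hTchar hTidx
  rw [← hZ] at hZ0
  haveI hTn : T.Normal := by haveI := hTchar; infer_instance
  have L1 : ∀ x : R, x ^ p = 1 → (∀ e ∈ E, e * x = x * e) → x ∈ E := by
    intro x hxp hx
    have hxc : x ∈ Subgroup.centralizer (E : Set R) := by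
      rw [Subgroup.mem_centralizer_iff]
      intro e he
      exact hx e he
    have hB := Cfsg.Agent.H1.isElementaryAbelian_sup_zpowers p E hE x hxc hxp
    have hBE := hEmax _ hB le_sup_left
    have h1 : x ∈ E ⊔ Subgroup.zpowers x := Subgroup.mem_sup_right (Subgroup.mem_zpowers x)
    rw [hBE] at h1
    exact h1
  have hZcen : Z ≤ Subgroup.center R := by
    rw [hZ]
    exact (Subgroup.closure_le _).mpr (fun x hx => hx.1)
  have hZE : Z ≤ E := by
    rw [hZ]
    refine (Subgroup.closure_le _).mpr ?_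
    intro x hx
    exact L1 x hx.2 (fun e _ => Subgroup.mem_center_iff.mp hx.1 e)
  have hZT : Z ≤ T := by
    rw [hT]
    exact hZcen.trans (Subgroup.center_le_centralizer _)
  have hETZ : E ⊓ T = Z := by
    symm
    apply Subgroup.eq_of_le_of_card_ge (le_inf hZE hZT)
    rw [hZ0]
    have h1 : Nat.card ↥(E ⊓ T) ∣ p ^ 2 := hE2 ▸ Subgroup.card_dvd_of_le inf_le_left
    obtain ⟨j, hj, hjc⟩ := (Nat.dvd_prime_pow hpp).mp h1
    have hj2 : j ≠ 2 := by
      rintro rfl
      apply hET
      have h2 : E ⊓ T = E := Subgroup.eq_of_le_of_card_ge inf_le_left (by rw [hjc, hE2])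
      rw [← h2]
      exact inf_le_right
    rw [hjc]
    have hj1 : j ≤ 1 := by omega
    calc p ^ j ≤ p ^ 1 := Nat.pow_le_pow_right hpp.pos hj1
      _ = p := pow_one p
  obtain ⟨x, hxE, hxT⟩ := SetLike.not_le_iff_exists.mp hET
  have hxp : x ^ p = 1 := hE.2 x hxE
  have hx1 : x ≠ 1 := by
    rintro rfl
    exact hxT T.one_mem
  have hcard : Nat.card ↥(Subgroup.zpowers x) = p := by
    rw [Nat.card_zpowers]
    exact orderOf_eq_prime hxp hx1
  have hsup : Subgroup.zpowers x ⊔ T = ⊤ := by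
    have h1 := Subgroup.relIndex_mul_index (le_sup_right : T ≤ Subgroup.zpowers x ⊔ T)
    rw [hTidx] at h1
    have h2 : T.relIndex (Subgroup.zpowers x ⊔ T) ≠ 1 := by
      rw [Ne, Subgroup.relIndex_eq_one]
      intro hle
      exact hxT (hle (Subgroup.mem_sup_left (Subgroup.mem_zpowers x)))
    have h3 : T.relIndex (Subgroup.zpowers x ⊔ T) ∣ p := Dvd.intro _ h1
    rcases (Nat.dvd_prime hpp).mp h3 with h4 | h4
    · exact absurd h4 h2
    · rw [h4] at h1
      have h5 : (Subgroup.zpowers x ⊔ T).index = 1 :=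
        Nat.eq_of_mul_eq_mul_left hpp.pos (h1.trans (mul_one p).symm)
      exact Subgroup.index_eq_one.mp h5
  have hdec : ∀ g : R, ∃ a ∈ Subgroup.zpowers x, ∃ t ∈ T, a * t = g := by
    intro g
    have hg : g ∈ ((Subgroup.zpowers x ⊔ T : Subgroup R) : Set R) := by
      rw [hsup]
      exact Set.mem_univ g
    rw [Subgroup.mul_normal] at hg
    exact Set.mem_mul.mp hg
  have hxE' : Subgroup.zpowers x ≤ E := (Subgroup.zpowers_le).mpr hxE
  have hdecE : ∀ e ∈ E, ∃ a ∈ Subgroup.zpowers x, ∃ z ∈ Z, a * z = e := by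
    intro e he
    obtain ⟨a, ha, t, ht, hat⟩ := hdec e
    refine ⟨a, ha, t, ?_, hat⟩
    rw [← hETZ]
    refine ⟨?_, ht⟩
    have h1 : t = a⁻¹ * e := by rw [← hat]; group
    rw [h1]
    exact E.mul_mem (E.inv_mem (hxE' ha)) he
  set R₀ : Subgroup R := Subgroup.zpowers x with hR₀
  set C : Subgroup R := Subgroup.centralizer (R₀ : Set R) with hC
  have hcomm : ∀ y ∈ C, ∀ e ∈ E, e * y = y * e := by
    intro y hy e he
    obtain ⟨a, ha, z, hz, rfl⟩ := hdecE e he
    have h1 : a * y = y * a := Subgroup.mem_centralizer_iff.mp hy a ha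
    have h2 : y * z = z * y := Subgroup.mem_center_iff.mp (hZcen hz) y
    calc a * z * y = a * (z * y) := mul_assoc _ _ _
      _ = a * (y * z) := by rw [h2]
      _ = (a * y) * z := (mul_assoc _ _ _).symm
      _ = (y * a) * z := by rw [h1]
      _ = y * (a * z) := mul_assoc _ _ _
  have hdisjT : R₀ ⊓ T = ⊥ := by
    haveI : Fact (Nat.card ↥R₀).Prime := ⟨by rw [hcard]; exact hpp⟩
    rcases Subgroup.eq_bot_or_eq_top_of_prime_card (T.subgroupOf R₀) with h | h
    · have h1 := disjoint_iff.mp (Subgroup.subgroupOf_eq_bot.mp h)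
      rw [inf_comm]
      exact h1
    · exfalso
      exact hxT (Subgroup.subgroupOf_eq_top.mp h (Subgroup.mem_zpowers x))
  have hcyc : IsCyclic ↥(T ⊓ C) := by
    by_contra hnc
    obtain ⟨A, -, hAe, hA2⟩ := Cfsg.Agent.S0126.result (R := ↥(T ⊓ C)) hp (hR.to_subgroup (T ⊓ C)) hnc
    have hle : A.map (T ⊓ C).subtype ≤ Z := by
      rintro _ ⟨a, ha, rfl⟩
      rw [← hETZ]
      refine ⟨?_, a.2.1⟩
      apply L1
      · have h1 := hAe.2 a ha
        have h2 := congrArg Subtype.val h1
        simpa using h2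
      · intro e he
        exact hcomm _ a.2.2 e he
    have h1 := Subgroup.card_le_of_le hle
    rw [Subgroup.card_map_of_injective (Subgroup.subtype_injective _), hA2, hZ0] at h1
    have h2 : p * p ≤ p * 1 := by rw [mul_one, ← sq]; exact h1
    have h3 := Nat.le_of_mul_le_mul_left h2 hpp.pos
    exact absurd hpp.one_lt (not_lt.mpr h3)
  refine ⟨R₀, T ⊓ C, hcard, hcyc, ?_, ?_, ?_⟩
  · rw [eq_bot_iff, ← hdisjT]
    exact inf_le_inf_left _ inf_le_left
  · intro a ha b hb
    exact Subgroup.mem_centralizer_iff.mp hb.2 a ha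
  · apply le_antisymm
    · apply sup_le _ inf_le_right
      intro a ha
      apply Subgroup.mem_centralizer_iff.mpr
      intro b hb
      obtain ⟨i, rfl⟩ := Subgroup.mem_zpowers_iff.mp ha
      obtain ⟨j, rfl⟩ := Subgroup.mem_zpowers_iff.mp hb
      rw [← zpow_add, ← zpow_add, add_comm]
    · intro g hg
      obtain ⟨a, ha, t, ht, rfl⟩ := hdec g
      have haC : a ∈ C := by
        apply Subgroup.mem_centralizer_iff.mpr
        intro b hb
        obtain ⟨i, rfl⟩ := Subgroup.mem_zpowers_iff.mp ha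
        obtain ⟨j, rfl⟩ := Subgroup.mem_zpowers_iff.mp hb
        rw [← zpow_add, ← zpow_add, add_comm]
      have htC : t ∈ C := by
        have h1 : t = a⁻¹ * (a * t) := by group
        rw [h1]
        exact C.mul_mem (C.inv_mem haC) hg
      exact Subgroup.mul_mem_sup ha ⟨ht, htC⟩

end Cfsg.Agent.Lib.Helper5.BGBeta
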