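import Mathlib
import Cfsg.Agent.Lib.Helper5.BGBetaA
import Cfsg.Agent.Lib.Helper5.BGBetaB
import Cfsg.Agent.Lib.Helper8.BGTenG
import Cfsg.Agent.S1455

/-!
# B&G Corollary 10.7: `M_β`, conditionally on the Uniqueness Theorem and on `p`-length one

`UniqThm G` is the statement of S1403 and `PL1 G` the statement of S1410.
-/

set_option autoImplicit false
set_option linter.style.haveILetI false
set_option linter.unusedSectionVars false
set_option linter.unusedVariables false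

open scoped commutatorElement

namespace Cfsg.Agent.Lib.Helper5.BGBeta

open Cfsg Cfsg.Agent.Lib.Helper7 Cfsg.Agent.Lib.Helper8.BGTen Cfsg.Agent.Lib.Lead.PiCore
  Cfsg.Agent.Lib.Lead.NormalPComplement

universe u
variable {G : Type u} [Group G] [Finite G]

/-- the statement of S1410, as a hypothesis -/
def PL1 (G : Type u) [Group G] : Prop :=
  ∀ (p : ℕ) [Fact p.Prime] (H : Subgroup G), H ≠ ⊤ → Cfsg.PLengthLE p 1 ↥H

/-- a Sylow `p`-subgroup of `M` is narrow when `p ∉ β(M)` -/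
theorem sylow_narrow (hG : Cfsg.IsMinSimpleOddOrder G) (hU : UniqThm G) {M : Subgroup G}
    (hM : IsCoatom M) {p : ℕ} [hpp : Fact p.Prime] (hpM : p ∣ Nat.card ↥M)
    (hpβ : p ∉ Cfsg.beta M) (S : Sylow p ↥M) : Cfsg.IsNarrow p ↥(S : Subgroup ↥M) := by
  by_cases hα : p ∈ Cfsg.alpha M
  · have hni : ¬ Cfsg.IsIdealPrime p G := fun h => hpβ ⟨hα, h⟩
    have hrM : ¬ Cfsg.PRankLE p 2 ↥M := hα.2
    have hrG : ¬ Cfsg.PRankLE p 2 G := fun h =>
      hrM (Cfsg.Agent.Lib.Helper4.Rank2Fit.pRankLE_of_injective M.subtype M.subtype_injective h)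
    have hex : ∃ (P : Sylow p G) (A : Subgroup G), A ≤ (P : Subgroup G) ∧
        Cfsg.IsElementaryAbelian p A ∧ Nat.card ↥A = p ^ 2 ∧
        ∀ B : Subgroup G, B ≤ (P : Subgroup G) → Cfsg.IsElementaryAbelian p B → ¬ A < B := by
      by_contra hcon
      apply hni
      refine ⟨hpp.out, hrG, ?_⟩
      intro P A hAP hAe hA2
      by_contra hB
      apply hcon
      refine ⟨P, A, hAP, hAe, hA2, ?_⟩
      intro B hBP hBe hAB
      exact hB ⟨B, hBP, hBe, hAB⟩
    obtain ⟨P, A, hAP, hAe, hA2, hAmax⟩ := hex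
    have hp2 : p ≠ 2 := by
      rintro rfl
      exact (odd_card_subgroup hG M).not_two_dvd_nat hpM
    have hnarrowP : Cfsg.IsNarrow p ↥(P : Subgroup G) := by
      apply isNarrow_of_maximal_elementary p hp2 P.isPGroup' (A.subgroupOf (P : Subgroup G))
      · refine ⟨?_, ?_⟩
        · haveI := hAe.1
          infer_instance
        · intro a ha
          have h1 := hAe.2 (a : G) (Subgroup.mem_subgroupOf.mp ha)
          apply Subtype.ext
          simpa using h1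
      · rw [card_subgroupOf_of_le hAP]
        exact hA2
      · intro B hBe hle
        have hB'P : B.map (P : Subgroup G).subtype ≤ (P : Subgroup G) := Subgroup.map_subtype_le _
        have hB'e : Cfsg.IsElementaryAbelian p (B.map (P : Subgroup G).subtype) := by
          refine ⟨?_, ?_⟩
          · haveI := hBe.1
            infer_instance
          · rintro _ ⟨b, hb, rfl⟩
            have h1 := hBe.2 b hb
            have h2 := congrArg Subtype.val h1
            simpa using h2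
        have hAB' : A ≤ B.map (P : Subgroup G).subtype := by
          intro a ha
          exact ⟨⟨a, hAP ha⟩, hle (Subgroup.mem_subgroupOf.mpr ha), rfl⟩
        have hB'A : B.map (P : Subgroup G).subtype ≤ A := by
          by_contra hnot
          exact hAmax _ hB'P hB'e (lt_of_le_not_ge hAB' hnot)
        apply le_antisymm _ hle
        intro b hb
        exact Subgroup.mem_subgroupOf.mpr (hB'A ⟨b, hb, rfl⟩)
    have hσ : p ∈ Cfsg.sigma M := alpha_subset_sigma hG hU hM hα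
    have hS' : IsSylowIn p ((S : Subgroup ↥M).map M.subtype) ⊤ :=
      sigma_sylow_top hσ (IsSylowIn.of_sylow S)
    have hP' : IsSylowIn p (P : Subgroup G) ⊤ := IsSylowIn.of_sylow_top P
    obtain ⟨g, -, hg⟩ := hP'.conj hS'
    let e1 : ↥(P : Subgroup G) ≃* ↥((P : Subgroup G).map (MulAut.conj g).toMonoidHom) :=
      (P : Subgroup G).equivMapOfInjective _ (MulAut.conj g).injective
    let e2 : ↥(S : Subgroup ↥M) ≃* ↥((S : Subgroup ↥M).map M.subtype) :=
      (S : Subgroup ↥M).equivMapOfInjective _ M.subtype_injective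
    let e3 : ↥((P : Subgroup G).map (MulAut.conj g).toMonoidHom) ≃*
        ↥((S : Subgroup ↥M).map M.subtype) := MulEquiv.subgroupCongr hg.symm
    exact isNarrow_of_mulEquiv (e1.trans (e3.trans e2.symm)) hnarrowP
  · left
    have h1 : Cfsg.PRankLE p 2 ↥M := pRankLE_of_not_mem_alpha hpp.out hα
    exact Cfsg.Agent.Lib.Helper4.Rank2Fit.pRankLE_of_injective (S : Subgroup ↥M).subtype
      (Subgroup.subtype_injective _) h1

/-- `O_σ(M) ≤ M'` inside `↥M` -/
theorem piCore_sigma_le_commutator (hG : Cfsg.IsMinSimpleOddOrder G) (hU : UniqThm G)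
    {M : Subgroup G} (hM : IsCoatom M) :
    piCore (Cfsg.sigma M) ↥M ≤ _root_.commutator ↥M := by
  rw [← Subgroup.relIndex_eq_one]
  by_contra hne
  obtain ⟨q, hq, hdvd⟩ := Nat.exists_prime_and_dvd hne
  haveI : Fact q.Prime := ⟨hq⟩
  have hqσ : q ∈ Cfsg.sigma M :=
    piCore_isPiNat (Cfsg.sigma M) q hq (hdvd.trans (Subgroup.relIndex_dvd_card _ _))
  have h1 : q ∣ (_root_.commutator ↥M).index :=
    hdvd.trans (Subgroup.relIndex_dvd_index_of_normal _ _)
  obtain ⟨Q⟩ : Nonempty (Sylow q ↥M) := inferInstance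
  have h2 := sylow_le_commutator_sub hG hU hM hqσ Q
  exact Q.not_dvd_index (h1.trans (Subgroup.index_dvd_of_le h2))

/-- `M_σ ≤ M'` -/
theorem sigmaCore_le_commutator (hG : Cfsg.IsMinSimpleOddOrder G) (hU : UniqThm G)
    {M : Subgroup G} (hM : IsCoatom M) : Cfsg.sigmaCore M ≤ ⁅M, M⁆ := by
  rw [← Subgroup.map_subtype_commutator]
  exact Subgroup.map_mono (piCore_sigma_le_commutator hG hU hM)

/-- the isomorphism between the derived subgroup of `↥M` and `⁅M, M⁆` -/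
noncomputable def commEquiv (M : Subgroup G) : ↥(_root_.commutator ↥M) ≃* ↥⁅M, M⁆ :=
  ((_root_.commutator ↥M).equivMapOfInjective M.subtype M.subtype_injective).trans
    (MulEquiv.subgroupCongr (Subgroup.map_subtype_commutator M))

/-- B&G 10.7 (a): the local data at a prime `p ∈ π(M)`, `p ∉ β(M)` -/
theorem prime_data (hG : Cfsg.IsMinSimpleOddOrder G) (hU : UniqThm G) (hPL : PL1 G)
    {M : Subgroup G} (hM : IsCoatom M) {p : ℕ} (hp : p.Prime) (hpM : p ∣ Nat.card ↥M)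
    (hpβ : p ∉ Cfsg.beta M) :
    Cfsg.HasNormalPComplement p ↥⁅M, M⁆ ∧ Cfsg.HasNormalPComplement p ↥(Cfsg.sigmaCore M) ∧
      ∀ q : ℕ, q.Prime → q ∣ (Cfsg.pPrimeCore p ↥M).index → q ≤ p := by
  haveI : Fact p.Prime := ⟨hp⟩
  haveI : Group.IsSolvable ↥M := hG.2.2.2 M hM.1
  have hodd : Odd (Nat.card ↥M) := odd_card_subgroup hG M
  obtain ⟨S⟩ : Nonempty (Sylow p ↥M) := inferInstance
  have hS := sylow_narrow hG hU hM hpM hpβ S
  obtain ⟨h1, -, h3, -, -, -⟩ :=
    Cfsg.Agent.S1455.result hodd p hpM S hS (fun _ => hPL p M hM.1)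
  have h4 : Cfsg.HasNormalPComplement p ↥⁅M, M⁆ := hasNormalPComplement_of_mulEquiv (commEquiv M) h3
  have hle : Cfsg.sigmaCore M ≤ ⁅M, M⁆ := sigmaCore_le_commutator hG hU hM
  have h5 : Cfsg.HasNormalPComplement p ↥(Cfsg.sigmaCore M) :=
    hasNormalPComplement_of_mulEquiv (Subgroup.subgroupOfEquivOfLe hle)
      (hasNormalPComplement_subgroup h4 _)
  exact ⟨h4, h5, h1⟩

/-- a subgroup `X ≤ M` containing... has normal `q`-complements for all primes `q ∉ β(M)` once `M'` does -/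
theorem hasNormalPComplement_of_le (hG : Cfsg.IsMinSimpleOddOrder G) (hU : UniqThm G) (hPL : PL1 G)
    {M : Subgroup G} (hM : IsCoatom M) {X : Subgroup G} (hXM : X ≤ M)
    (hX : ∀ p : ℕ, p.Prime → p ∣ Nat.card ↥M → p ∉ Cfsg.beta M → Cfsg.HasNormalPComplement p ↥X)
    (q : ℕ) (hq : q.Prime) (hqβ : q ∉ Cfsg.beta M) : Cfsg.HasNormalPComplement q ↥X := by
  haveI : Fact q.Prime := ⟨hq⟩
  by_cases hqM : q ∣ Nat.card ↥M
  · exact hX q hq hqM hqβ
  · apply hasNormalPComplement_of_not_dvd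
    intro hdvd
    exact hqM (hdvd.trans (Subgroup.card_dvd_of_le hXM))

/-- a subgroup of `G` with normal `q`-complements for all `q ∉ ρ` has a nilpotent Hall `ρ'`-subgroup -/
theorem exists_hall_of_sub (X : Subgroup G) (ρ : Set ℕ)
    (h : ∀ q : ℕ, q.Prime → q ∉ ρ → Cfsg.HasNormalPComplement q ↥X) :
    ∃ H : Subgroup G, Cfsg.IsPiHallOf {q | q.Prime ∧ q ∉ ρ} H X ∧ Group.IsNilpotent ↥H := by
  obtain ⟨H, hnil, h1, h2⟩ := exists_nilpotent_hall_compl (X := ↥X) ρ (fun q hq hqρ => h q hq hqρ)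
  refine ⟨H.map X.subtype, ⟨Subgroup.map_subtype_le _, ?_, ?_⟩, ?_⟩
  · intro q hq hdvd
    rw [Subgroup.card_map_of_injective X.subtype_injective] at hdvd
    exact ⟨hq, h1 q hq hdvd⟩
  · intro q hq hqρ
    rw [relIndex_map_subtype_self]
    exact h2 q hq hqρ.2
  · haveI := hnil
    exact Group.nilpotent_of_mulEquiv (H.equivMapOfInjective X.subtype X.subtype_injective)

/-- every Sylow `q`-subgroup of `↥M`, `q ∈ β(M)`, lies in `O_β(M)` -/
theorem sylow_le_piCore_beta (hG : Cfsg.IsMinSimpleOddOrder G) (hU : UniqThm G)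
    {M : Subgroup G} (hM : IsCoatom M)
    (hC : ∀ q : ℕ, q.Prime → q ∉ Cfsg.beta M → Cfsg.HasNormalPComplement q ↥⁅M, M⁆)
    {q : ℕ} [hqq : Fact q.Prime] (hqβ : q ∈ Cfsg.beta M) (Q : Sylow q ↥M) :
    (Q : Subgroup ↥M) ≤ piCore (Cfsg.beta M) ↥M := by
  have hqσ : q ∈ Cfsg.sigma M := alpha_subset_sigma hG hU hM hqβ.1
  have hQC : (Q : Subgroup ↥M) ≤ _root_.commutator ↥M := sylow_le_commutator_sub hG hU hM hqσ Q
  set C : Subgroup ↥M := _root_.commutator ↥M with hCdef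
  have hC' : ∀ r : ℕ, ∀ hr : r.Prime, r ∉ Cfsg.beta M →
      haveI : Fact r.Prime := ⟨hr⟩; Cfsg.HasNormalPComplement r ↥C := by
    intro r hr hrβ
    haveI : Fact r.Prime := ⟨hr⟩
    exact hasNormalPComplement_of_mulEquiv (commEquiv M).symm (hC r hr hrβ)
  have h1 : (Q : Subgroup ↥M).subgroupOf C ≤ piCore (Cfsg.beta M) ↥C :=
    pGroup_le_piCore (Cfsg.beta M) hC' hqq.out hqβ _ (Q.2.comap_subtype)
  haveI hchar : (piCore (Cfsg.beta M) ↥C).Characteristic := piCore_characteristic (Cfsg.beta M)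
  have hnorm : ((piCore (Cfsg.beta M) ↥C).map C.subtype).Normal :=
    ConjAct.normal_of_characteristic_of_normal
  have h2 : (piCore (Cfsg.beta M) ↥C).map C.subtype ≤ piCore (Cfsg.beta M) ↥M := by
    apply le_piCore hnorm
    intro r hr hdvd
    rw [Subgroup.card_map_of_injective C.subtype_injective] at hdvd
    exact piCore_isPiNat (Cfsg.beta M) r hr hdvd
  intro x hx
  apply h2
  exact ⟨⟨x, hQC hx⟩, h1 (Subgroup.mem_subgroupOf.mpr hx), rfl⟩

/-- **B&G Corollary 10.7** (the statement of S1414), conditionally on the statements of S1403 and S1410 -/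
theorem beta_core (hG : Cfsg.IsMinSimpleOddOrder G) (hU : UniqThm G) (hPL : PL1 G)
    (M : Subgroup G) (hM : IsCoatom M) :
    Cfsg.IsPiHallOf (Cfsg.beta M) (Cfsg.piCoreOf (Cfsg.beta M) M) M ∧
      Cfsg.IsPiHall (Cfsg.beta M) (Cfsg.piCoreOf (Cfsg.beta M) M) ∧
      (∃ H : Subgroup G, Cfsg.IsPiHallOf {q | q.Prime ∧ q ∉ Cfsg.beta M} H ⁅M, M⁆ ∧
        Group.IsNilpotent H) ∧
      (∃ H : Subgroup G, Cfsg.IsPiHallOf {q | q.Prime ∧ q ∉ Cfsg.beta M} H (Cfsg.sigmaCore M) ∧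
        Group.IsNilpotent H) ∧
      ∀ p : ℕ, p.Prime → p ∣ Nat.card M → p ∉ Cfsg.beta M →
        Cfsg.HasNormalPComplement p ↥⁅M, M⁆ ∧ Cfsg.HasNormalPComplement p ↥(Cfsg.sigmaCore M) ∧
        ∀ q : ℕ, q.Prime → q ∣ (Cfsg.pPrimeCore p ↥M).index → q ≤ p := by
  have h5 : ∀ p : ℕ, p.Prime → p ∣ Nat.card M → p ∉ Cfsg.beta M →
      Cfsg.HasNormalPComplement p ↥⁅M, M⁆ ∧ Cfsg.HasNormalPComplement p ↥(Cfsg.sigmaCore M) ∧
      ∀ q : ℕ, q.Prime → q ∣ (Cfsg.pPrimeCore p ↥M).index → q ≤ p :=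
    fun p hp hpM hpβ => prime_data hG hU hPL hM hp hpM hpβ
  have hCM : ⁅M, M⁆ ≤ M := Subgroup.commutator_le_self M
  have hσM : Cfsg.sigmaCore M ≤ M := Subgroup.map_subtype_le _
  have hC : ∀ q : ℕ, q.Prime → q ∉ Cfsg.beta M → Cfsg.HasNormalPComplement q ↥⁅M, M⁆ :=
    hasNormalPComplement_of_le hG hU hPL hM hCM (fun p hp hpM hpβ => (h5 p hp hpM hpβ).1)
  have hσ : ∀ q : ℕ, q.Prime → q ∉ Cfsg.beta M → Cfsg.HasNormalPComplement q ↥(Cfsg.sigmaCore M) :=
    hasNormalPComplement_of_le hG hU hPL hM hσM (fun p hp hpM hpβ => (h5 p hp hpM hpβ).2.1)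
  have hπ : ∀ p : ℕ, p.Prime → p ∣ Nat.card ↥(Cfsg.piCoreOf (Cfsg.beta M) M) → p ∈ Cfsg.beta M := by
    intro p hp hdvd
    unfold Cfsg.piCoreOf at hdvd
    rw [Subgroup.card_map_of_injective M.subtype_injective] at hdvd
    exact piCore_isPiNat (Cfsg.beta M) p hp hdvd
  have hrel : ∀ p : ℕ, p.Prime → p ∈ Cfsg.beta M →
      ¬ p ∣ (Cfsg.piCoreOf (Cfsg.beta M) M).relIndex M := by
    intro p hp hpβ
    haveI : Fact p.Prime := ⟨hp⟩
    unfold Cfsg.piCoreOf
    rw [relIndex_map_subtype_self]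
    obtain ⟨S⟩ : Nonempty (Sylow p ↥M) := inferInstance
    intro hdvd
    exact S.not_dvd_index
      (hdvd.trans (Subgroup.index_dvd_of_le (sylow_le_piCore_beta hG hU hM hC hpβ S)))
  have hle : Cfsg.piCoreOf (Cfsg.beta M) M ≤ M := Subgroup.map_subtype_le _
  refine ⟨⟨hle, hπ, hrel⟩, ⟨hπ, ?_⟩, exists_hall_of_sub _ _ hC, exists_hall_of_sub _ _ hσ, h5⟩
  intro p hp hpβ
  haveI : Fact p.Prime := ⟨hp⟩
  rw [← Subgroup.relIndex_mul_index hle]
  intro hdvd
  rcases (Nat.Prime.dvd_mul hp).mp hdvd with h | h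
  · exact hrel p hp hpβ h
  · exact not_dvd_index_of_sigma (alpha_subset_sigma hG hU hM hpβ.1) h

end Cfsg.Agent.Lib.Helper5.BGBeta
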