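import Mathlib
import Cfsg.Agent.Lib.Helper7.Narrow55
import Cfsg.Agent.Lib.Helper4.NarrowData
import Cfsg.Agent.H1.ConjEqualOrder

/-!
# p-group lemmas for Bender-Glauberman Section 11 (helper5)

* `exists_conj_pow_eq`: the "transvection lemma" (B&G 10.12 (c), elementwise form).
* `comm_of_cprod`, `comm_of_rank_three`, `centralizer_comm_of_sylow`: for a Sylow `p`-subgroup `S` of a
  minimal simple group of odd order and `A ≤ S` maximal elementary abelian of order `p ^ 2`, the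
  centralizer `C_S(A)` is abelian.
-/

set_option autoImplicit false
set_option linter.style.haveILetI false
set_option linter.unusedVariables false
set_option linter.unusedSectionVars false

namespace Cfsg.Agent.Lib.Helper5.BG11P

open Cfsg Cfsg.Agent.Lib.Helper7.Narrow55

section transvection

variable {G : Type*} [Group G]

/-- conjugation by a power -/
theorem conj_pow_eq (u a z : G) (hz : u * a * u⁻¹ = a * z) (hzu : u * z = z * u) (i : ℕ) :
    u ^ i * a * (u ^ i)⁻¹ = a * z ^ i := by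
  induction i with
  | zero => simp
  | succ n ih =>
    have h1 : u ^ (n + 1) * a * (u ^ (n + 1))⁻¹ = u * (u ^ n * a * (u ^ n)⁻¹) * u⁻¹ := by
      rw [pow_succ']; group
    rw [h1, ih]
    have h2 : u * (a * z ^ n) * u⁻¹ = (u * a * u⁻¹) * (u * z ^ n * u⁻¹) := by group
    rw [h2, hz]
    have h3 : u * z ^ n * u⁻¹ = z ^ n := by
      have : Commute u (z ^ n) := (show Commute u z from hzu).pow_right n
      rw [this.eq]; group
    rw [h3, mul_assoc, ← pow_succ']

theorem conj_pow_mem (Z : Subgroup G) (u a : G) (m : ℕ)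
    (hZu : ∀ z ∈ Z, u * z = z * u) (hZa : ∀ z ∈ Z, a * z = z * a)
    (h : ∃ z ∈ Z, u * a * u⁻¹ = a ^ m * z) (n : ℕ) :
    ∃ z ∈ Z, u ^ n * a * (u ^ n)⁻¹ = a ^ (m ^ n) * z := by
  obtain ⟨z, hzZ, hz⟩ := h
  induction n with
  | zero => exact ⟨1, Z.one_mem, by simp⟩
  | succ n ih =>
    obtain ⟨w, hwZ, hw⟩ := ih
    have h1 : u ^ (n + 1) * a * (u ^ (n + 1))⁻¹ = u * (u ^ n * a * (u ^ n)⁻¹) * u⁻¹ := by
      rw [pow_succ']; group
    have h2 : u * (a ^ (m ^ n) * w) * u⁻¹ = (u * a * u⁻¹) ^ (m ^ n) * (u * w * u⁻¹) := by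
      have : (u * a * u⁻¹) ^ (m ^ n) = u * a ^ (m ^ n) * u⁻¹ := by
        rw [conj_pow]
      rw [this]; group
    have h3 : u * w * u⁻¹ = w := by rw [hZu w hwZ]; group
    have h4 : (a ^ m * z) ^ (m ^ n) = (a ^ m) ^ (m ^ n) * z ^ (m ^ n) := by
      have hc : Commute (a ^ m) z := (show Commute a z from hZa z hzZ).pow_left m
      exact hc.mul_pow _
    refine ⟨z ^ (m ^ n) * w, Z.mul_mem (Z.pow_mem hzZ _) hwZ, ?_⟩
    rw [h1, hw, h2, hz, h3, h4, ← pow_mul, ← pow_succ', mul_assoc]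

variable [Finite G] {p : ℕ} [hp : Fact p.Prime]

/-- decomposition of an elementary abelian group of order `p ^ 2` -/
theorem exists_pow_mul_pow (A : Subgroup G)
    (hAc : ∀ a ∈ A, ∀ b ∈ A, a * b = b * a) (hAp : ∀ a ∈ A, a ^ p = 1) (hcard : Nat.card A = p ^ 2)
    (a z : G) (ha : a ∈ A) (hz : z ∈ A) (hz1 : z ≠ 1) (haz : a ∉ Subgroup.zpowers z) :
    ∀ x ∈ A, ∃ j k : ℕ, x = a ^ j * z ^ k := by
  have hpp := hp.out
  set Z := Subgroup.zpowers z with hZ
  set H := Subgroup.zpowers a ⊔ Z with hH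
  have hHA : H ≤ A := sup_le (by rw [Subgroup.zpowers_le]; exact ha) (by rw [hZ, Subgroup.zpowers_le]; exact hz)
  have hZcard : Nat.card Z = p := by
    rw [hZ, Nat.card_zpowers]
    have h1 : orderOf z ∣ p := orderOf_dvd_of_pow_eq_one (hAp z hz)
    rcases (Nat.dvd_prime hpp).mp h1 with h | h
    · exact absurd (orderOf_eq_one_iff.mp h) hz1
    · exact h
  have hZH : Z ≤ H := le_sup_right
  have hHcard : Nat.card H = p ^ 2 := by
    have h1 : Nat.card H ∣ p ^ 2 := by rw [← hcard]; exact Subgroup.card_dvd_of_le hHA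
    obtain ⟨i, hi, hi2⟩ := (Nat.dvd_prime_pow hpp).mp h1
    have h2 : p ∣ Nat.card H := by rw [← hZcard]; exact Subgroup.card_dvd_of_le hZH
    have hne : Nat.card H ≠ p := by
      intro h
      have : Z = H := Subgroup.eq_of_le_of_card_ge hZH (by rw [h, hZcard])
      apply haz
      rw [this]
      exact Subgroup.mem_sup_left (Subgroup.mem_zpowers a)
    interval_cases i
    · rw [hi2, pow_zero] at h2
      exact absurd (Nat.le_of_dvd one_pos h2) (not_le.mpr hpp.one_lt)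
    · rw [pow_one] at hi2; exact absurd hi2 hne
    · exact hi2
  have hHeq : H = A := Subgroup.eq_of_le_of_card_ge hHA (by rw [hHcard, hcard])
  intro x hx
  rw [← hHeq, hH] at hx
  have hcomm : ∀ s ∈ Subgroup.zpowers a, ∀ t ∈ Z, s * t = t * s := by
    intro s hs t ht
    have hsA : s ∈ A := by
      have : Subgroup.zpowers a ≤ A := by rw [Subgroup.zpowers_le]; exact ha
      exact this hs
    have htA : t ∈ A := by
      have : Z ≤ A := by rw [hZ, Subgroup.zpowers_le]; exact hz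
      exact this ht
    exact hAc s hsA t htA
  obtain ⟨s, hs, t, ht, rfl⟩ := exists_mul_of_mem_sup _ _ hcomm hx
  obtain ⟨j, rfl⟩ := (Submonoid.mem_powers_iff _ _).mp ((mem_powers_iff_mem_zpowers).mpr hs)
  obtain ⟨k, rfl⟩ := (Submonoid.mem_powers_iff _ _).mp ((mem_powers_iff_mem_zpowers).mpr ht)
  exact ⟨j, k, rfl⟩

omit [Finite G] in
/-- if `a ^ p = 1`, `p ∤ t` and `a ^ t ∈ Z` then `a ∈ Z` -/
theorem mem_of_pow_mem (Z : Subgroup G) (a : G) (hap : a ^ p = 1) (t : ℕ) (ht : ¬ p ∣ t)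
    (h : a ^ t ∈ Z) : a ∈ Z := by
  have hpp := hp.out
  have hcop : Nat.Coprime t p := (Nat.Coprime.symm ((Nat.Prime.coprime_iff_not_dvd hpp).mpr ht))
  obtain ⟨s, -, hs⟩ := Nat.exists_mul_mod_eq_one_of_coprime hcop hpp.one_lt
  have h1 : a ^ (t * s) = a := by
    rw [pow_eq_pow_mod (t * s) hap, hs, pow_one]
  rw [← h1, pow_mul]
  exact Z.pow_mem h s

/-- **transvection lemma**: `A` elementary abelian of order `p ^ 2`, `u` a `p`-element normalizing
`A` with a nontrivial fixed point `z` in `A`; then any two elements of `A` not fixed by `u` are,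
up to powers, conjugate under `⟨u⟩`. -/
theorem exists_conj_pow_eq (A : Subgroup G)
    (hAc : ∀ a ∈ A, ∀ b ∈ A, a * b = b * a) (hAp : ∀ a ∈ A, a ^ p = 1) (hcard : Nat.card A = p ^ 2)
    (u : G) (huN : ∀ a ∈ A, u * a * u⁻¹ ∈ A) (huo : ∃ k : ℕ, u ^ (p ^ k) = 1)
    (z : G) (hzA : z ∈ A) (hz1 : z ≠ 1) (hzu : u * z = z * u)
    (a : G) (ha : a ∈ A) (hau : u * a ≠ a * u) (b : G) (hb : b ∈ A) (hbu : u * b ≠ b * u) :
    ∃ i j : ℕ, (u ^ i * a * (u ^ i)⁻¹) ^ j = b := by
  have hpp := hp.out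
  set Z := Subgroup.zpowers z with hZ
  have hZA : Z ≤ A := by rw [hZ, Subgroup.zpowers_le]; exact hzA
  have hZu : ∀ w ∈ Z, u * w = w * u := by
    intro w hw
    obtain ⟨k, rfl⟩ := Subgroup.mem_zpowers_iff.mp hw
    exact ((show Commute u z from hzu).zpow_right k).eq
  have hZa : ∀ w ∈ Z, a * w = w * a := fun w hw => hAc a ha w (hZA hw)
  have haZ : a ∉ Z := fun h => hau (hZu a h)
  -- u a u⁻¹ = a ^ m * w
  obtain ⟨m, k, hmk⟩ := exists_pow_mul_pow A hAc hAp hcard a z ha hzA hz1 haZ _ (huN a ha)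
  obtain ⟨k₀, hk₀⟩ := huo
  obtain ⟨w', hw'Z, hw'⟩ := conj_pow_mem Z u a m hZu hZa
    ⟨z ^ k, Subgroup.pow_mem _ (Subgroup.mem_zpowers z) k, hmk⟩ (p ^ k₀)
  rw [hk₀, inv_one, one_mul, mul_one] at hw'
  -- a ^ (m ^ n + (p - 1)) ∈ Z
  have h1 : a ^ (m ^ (p ^ k₀) + (p - 1)) ∈ Z := by
    have e : a ^ (m ^ (p ^ k₀) + (p - 1)) = w'⁻¹ := by
      have hc : Commute a w' := hZa w' hw'Z
      have h2 : a ^ (m ^ (p ^ k₀)) = a * w'⁻¹ := by
        rw [eq_mul_inv_iff_mul_eq]; exact hw'.symm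
      rw [pow_add, h2]
      have h3 : a * w'⁻¹ * a ^ (p - 1) = a ^ (p - 1 + 1) * w'⁻¹ := by
        rw [pow_succ]
        have hc' : Commute (a ^ (p - 1)) w'⁻¹ := (hc.pow_left _).inv_right
        have hc'' : Commute a (a ^ (p - 1)) := (Commute.refl a).pow_right _
        calc a * w'⁻¹ * a ^ (p - 1) = a * (w'⁻¹ * a ^ (p - 1)) := by group
          _ = a * (a ^ (p - 1) * w'⁻¹) := by rw [hc'.eq]
          _ = (a * a ^ (p - 1)) * w'⁻¹ := by group
          _ = a ^ (p - 1) * a * w'⁻¹ := by rw [hc''.eq]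
      rw [h3, Nat.sub_add_cancel hpp.one_le, hAp a ha, one_mul]
    rw [e]; exact Z.inv_mem hw'Z
  have h2 : p ∣ m ^ (p ^ k₀) + (p - 1) := by
    by_contra hnd
    exact haZ (mem_of_pow_mem Z a (hAp a ha) _ hnd h1)
  have h3 : (m : ZMod p) = 1 := by
    have h4 : ((m ^ (p ^ k₀) + (p - 1) : ℕ) : ZMod p) = 0 := (ZMod.natCast_eq_zero_iff _ _).mpr h2
    push_cast at h4
    rw [Nat.cast_sub hpp.one_le, ZMod.natCast_self, ZMod.pow_card_pow] at h4
    have h5 : (m : ZMod p) + (0 - ((1 : ℕ) : ZMod p)) = 0 := h4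
    rw [Nat.cast_one, zero_sub, add_neg_eq_zero] at h5
    exact h5
  have h4 : m % p = 1 := by
    have := (ZMod.natCast_eq_natCast_iff' m 1 p).mp (by rw [h3, Nat.cast_one])
    rw [this, Nat.mod_eq_of_lt hpp.one_lt]
  have h5 : a ^ m = a := by rw [pow_eq_pow_mod m (hAp a ha), h4, pow_one]
  rw [h5] at hmk
  set w := z ^ k with hw
  have hwZ : w ∈ Z := Subgroup.pow_mem _ (Subgroup.mem_zpowers z) k
  have hwA : w ∈ A := hZA hwZ
  have hw1 : w ≠ 1 := by
    intro h
    apply hau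
    rw [h, mul_one] at hmk
    have e : u * a = (u * a * u⁻¹) * u := by group
    rw [e, hmk]
  have hwu : u * w = w * u := hZu w hwZ
  have haw : a ∉ Subgroup.zpowers w := by
    intro h
    have : Subgroup.zpowers w ≤ Z := by rw [Subgroup.zpowers_le]; exact hwZ
    exact haZ (this h)
  obtain ⟨j, l, hjl⟩ := exists_pow_mul_pow A hAc hAp hcard a w ha hwA hw1 haw b hb
  have hwp : w ^ p = 1 := hAp w hwA
  have hjp : ¬ p ∣ j := by
    intro hd
    obtain ⟨c, rfl⟩ := hd
    apply hbu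
    rw [hjl, pow_mul, hAp a ha, one_pow, one_mul]
    exact ((show Commute u w from hwu).pow_right l).eq
  have hcop : Nat.Coprime j p := (Nat.Coprime.symm ((Nat.Prime.coprime_iff_not_dvd hpp).mpr hjp))
  obtain ⟨i, -, hi⟩ := Nat.exists_mul_mod_eq_of_coprime l hcop hpp.pos.ne'
  refine ⟨i, j, ?_⟩
  rw [conj_pow_eq u a w hmk hwu i]
  have hc : Commute a (w ^ i) := (show Commute a w from hAc a ha w hwA).pow_right i
  rw [hc.mul_pow, ← pow_mul, hjl, pow_eq_pow_mod (i * j) hwp, mul_comm i j, hi, ← pow_eq_pow_mod l hwp]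


end transvection

section cs

variable {G : Type*} [Group G]

/-- rank two case of "`C_S(A)` is abelian": `S = P₁ * P₂` a central product with `P₁` of exponent `p`,
`P₂` cyclic and `Ω₁(P₂) ≤ P₁`. -/
theorem comm_of_cprod {p : ℕ} (S P₁ P₂ A : Subgroup G) (h12 : P₁ ⊔ P₂ = S)
    (hcomm : ∀ a ∈ P₁, ∀ b ∈ P₂, a * b = b * a) (hexp : ∀ a ∈ P₁, a ^ p = 1)
    (hcyc : IsCyclic ↥P₂) (hcl : Subgroup.closure {x : G | x ∈ P₂ ∧ x ^ p = 1} ≤ P₁)
    (hAS : A ≤ S) (hAc : ∀ a ∈ A, ∀ b ∈ A, a * b = b * a) (hAp : ∀ a ∈ A, a ^ p = 1)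
    (hmax : ∀ x ∈ S, x ^ p = 1 → (∀ a ∈ A, a * x = x * a) → x ∈ A) :
    ∀ x ∈ S ⊓ Subgroup.centralizer (A : Set G), ∀ y ∈ S ⊓ Subgroup.centralizer (A : Set G),
      x * y = y * x := by
  have hAP₁ : A ≤ P₁ := by
    intro a ha
    have haS : a ∈ P₁ ⊔ P₂ := h12 ▸ hAS ha
    obtain ⟨s₁, hs₁, s₂, hs₂, rfl⟩ := exists_mul_of_mem_sup P₁ P₂ hcomm haS
    have hc : Commute s₁ s₂ := hcomm s₁ hs₁ s₂ hs₂
    have h1 := hAp _ ha
    rw [hc.mul_pow, hexp s₁ hs₁, one_mul] at h1
    have h2 : s₂ ∈ P₁ := hcl (Subgroup.subset_closure ⟨hs₂, h1⟩)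
    exact P₁.mul_mem hs₁ h2
  have hP₂c : ∀ b ∈ P₂, ∀ d ∈ P₂, b * d = d * b := by
    intro b hb d hd
    haveI : IsMulCommutative ↥P₂ := IsCyclic.isMulCommutative
    have := IsMulCommutative.is_comm.comm (⟨b, hb⟩ : ↥P₂) ⟨d, hd⟩
    exact congrArg Subtype.val this
  -- decomposition of elements of S ⊓ C(A)
  have hdec : ∀ x ∈ S ⊓ Subgroup.centralizer (A : Set G), ∃ x₁ ∈ A, ∃ x₂ ∈ P₂, x = x₁ * x₂ := by
    rintro x ⟨hxS, hxC⟩
    have hxS' : x ∈ P₁ ⊔ P₂ := h12 ▸ hxS
    obtain ⟨x₁, hx₁, x₂, hx₂, rfl⟩ := exists_mul_of_mem_sup P₁ P₂ hcomm hxS'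
    refine ⟨x₁, ?_, x₂, hx₂, rfl⟩
    apply hmax x₁ (h12 ▸ (Subgroup.mem_sup_left hx₁)) (hexp x₁ hx₁)
    intro a ha
    have h1 : a * (x₁ * x₂) = (x₁ * x₂) * a := (Subgroup.mem_centralizer_iff.mp hxC a ha)
    have h2 : a * x₂ = x₂ * a := hcomm a (hAP₁ ha) x₂ hx₂
    have h3 : a * x₁ * x₂ = x₁ * a * x₂ := by
      calc a * x₁ * x₂ = a * (x₁ * x₂) := by group
        _ = x₁ * x₂ * a := h1
        _ = x₁ * (x₂ * a) := by group
        _ = x₁ * (a * x₂) := by rw [h2]
        _ = x₁ * a * x₂ := by group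
    exact mul_right_cancel h3
  intro x hx y hy
  obtain ⟨x₁, hx₁, x₂, hx₂, rfl⟩ := hdec x hx
  obtain ⟨y₁, hy₁, y₂, hy₂, rfl⟩ := hdec y hy
  have e1 : x₂ * y₁ = y₁ * x₂ := (hcomm y₁ (hAP₁ hy₁) x₂ hx₂).symm
  have e2 : y₂ * x₁ = x₁ * y₂ := (hcomm x₁ (hAP₁ hx₁) y₂ hy₂).symm
  have e3 : x₁ * y₁ = y₁ * x₁ := hAc x₁ hx₁ y₁ hy₁
  have e4 : x₂ * y₂ = y₂ * x₂ := hP₂c x₂ hx₂ y₂ hy₂
  calc x₁ * x₂ * (y₁ * y₂) = x₁ * (x₂ * y₁) * y₂ := by group
    _ = x₁ * (y₁ * x₂) * y₂ := by rw [e1]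
    _ = (x₁ * y₁) * (x₂ * y₂) := by group
    _ = (y₁ * x₁) * (y₂ * x₂) := by rw [e3, e4]
    _ = y₁ * (x₁ * y₂) * x₂ := by group
    _ = y₁ * (y₂ * x₁) * x₂ := by rw [e2]
    _ = y₁ * y₂ * (x₁ * x₂) := by group


/-- a finite `p`-group (`p` odd) all of whose elements `x` with `x ^ p = 1` lie in a subgroup of
order at most `p` is cyclic -/
theorem isCyclic_of_omega_le {K : Type*} [Group K] [Finite K] {p : ℕ} [hp : Fact p.Prime] (hp2 : p ≠ 2)
    (hK : IsPGroup p K) (D : Subgroup K) (hDcard : Nat.card D ≤ p)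
    (hD : ∀ x : K, x ^ p = 1 → x ∈ D) : IsCyclic K := by
  have hpp := hp.out
  obtain ⟨n, hn⟩ := hK.exists_card_eq
  by_cases hle : Nat.card K ≤ p
  · -- order 1 or p
    rcases Nat.lt_or_ge n 1 with h0 | h1
    · have : n = 0 := by omega
      rw [this, pow_zero] at hn
      haveI : Subsingleton K := (Nat.card_eq_one_iff_unique.mp hn).1
      exact isCyclic_of_subsingleton
    · have hn1 : n = 1 := by
        by_contra hne
        have h2 : 2 ≤ n := by omega
        have : p ^ 2 ≤ p ^ n := Nat.pow_le_pow_right hpp.pos h2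
        have h3 : p ^ 2 ≤ p := by rw [← hn] at this; exact this.trans hle
        have h4 : p * p ≤ p * 1 := by rw [mul_one, ← sq]; exact h3
        exact absurd hpp.one_lt (not_lt.mpr (Nat.le_of_mul_le_mul_left h4 hpp.pos))
      rw [hn1, pow_one] at hn
      exact isCyclic_of_prime_card hn
  · push Not at hle
    -- an element of order p
    have hpK : p ∣ Nat.card K := by
      rw [hn]
      have : n ≠ 0 := by
        rintro rfl
        rw [pow_zero] at hn
        rw [hn] at hle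
        exact absurd hpp.one_lt (not_lt.mpr hle.le)
      exact dvd_pow_self p this
    obtain ⟨x, hx⟩ := exists_prime_orderOf_dvd_card' (G := K) p hpK
    have hxD : x ∈ D := hD x (by rw [← hx]; exact pow_orderOf_eq_one x)
    have hx1 : x ≠ 1 := by
      rintro rfl
      rw [orderOf_one] at hx
      exact hpp.one_lt.ne hx
    have hDbot : D ≠ ⊥ := by
      intro h
      rw [h, Subgroup.mem_bot] at hxD
      exact hx1 hxD
    have hDp : Nat.card D = p := by
      have h1 : p ∣ Nat.card D := by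
        have : orderOf x ∣ Nat.card D := by
          have := orderOf_dvd_natCard (⟨x, hxD⟩ : ↥D)
          rwa [Subgroup.orderOf_mk] at this
        rwa [hx] at this
      exact le_antisymm hDcard (Nat.le_of_dvd Nat.card_pos h1)
    have hDtop : D ≠ ⊤ := by
      intro h
      rw [h, Subgroup.card_top] at hDp
      rw [hDp] at hle
      exact lt_irrefl _ hle
    apply Cfsg.Agent.H1.isCyclic_of_unique_card hp2 hK D hDbot hDtop
    intro X hX
    have hXD : X ≤ D := by
      intro y hy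
      apply hD
      have h1 : (⟨y, hy⟩ : ↥X) ^ Nat.card X = 1 := pow_card_eq_one'
      rw [hX, hDp] at h1
      have := congrArg Subtype.val h1
      simpa using this
    exact Subgroup.eq_of_le_of_card_ge hXD (by rw [hX])

/-- rank at least three case of "`C_S(A)` is abelian" -/
theorem comm_of_rank_three {R : Type*} [Group R] [Finite R] (p : ℕ) [hp' : Fact p.Prime] (hp : p ≠ 2)
    (hR : IsPGroup p R) (hr : ¬ Cfsg.PRankLE p 2 R)
    (E : Subgroup R) (hE : Cfsg.IsElementaryAbelian p E) (hE2 : Nat.card E = p ^ 2)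
    (hEmax : ∀ B : Subgroup R, Cfsg.IsElementaryAbelian p B → E ≤ B → B = E) :
    ∀ x ∈ Subgroup.centralizer (E : Set R), ∀ y ∈ Subgroup.centralizer (E : Set R), x * y = y * x := by
  have hpp := hp'.out
  obtain ⟨hET, -, -, hTchar, hTidx⟩ := Cfsg.Agent.S1453.result p hp hR hr E hE hE2 hEmax
  obtain ⟨T, hT⟩ : ∃ T : Subgroup R, T = Subgroup.centralizer ((Subgroup.closure
      {x : R | x ∈ Subgroup.upperCentralSeries R 2 ∧ x ^ p = 1} : Subgroup R) : Set R) := ⟨_, rfl⟩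
  rw [← hT] at hET hTchar hTidx
  haveI : T.Characteristic := hTchar
  haveI hTn : T.Normal := inferInstance
  obtain ⟨e, heE, heT⟩ := SetLike.not_le_iff_exists.mp hET
  have hEc : ∀ a ∈ E, ∀ b ∈ E, a * b = b * a := by
    intro a ha b hb
    haveI := hE.1
    have := IsMulCommutative.is_comm.comm (⟨a, ha⟩ : ↥E) ⟨b, hb⟩
    exact congrArg Subtype.val this
  have hEC : E ≤ Subgroup.centralizer (E : Set R) := by
    intro a ha
    rw [Subgroup.mem_centralizer_iff]
    intro b hb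
    exact hEc b hb a ha
  set K : Subgroup R := T ⊓ Subgroup.centralizer (E : Set R) with hK
  -- K is commutative
  have hKc : ∀ s ∈ K, ∀ t ∈ K, s * t = t * s := by
    set D : Subgroup R := E ⊓ T with hD
    have hDK : D ≤ K := le_inf inf_le_right (inf_le_left.trans hEC)
    have hDE : D ≠ E := by
      intro h
      apply heT
      have : e ∈ D := h ▸ heE
      exact this.2
    have hDcard : Nat.card D ≤ p := by
      have h1 : Nat.card D ∣ p ^ 2 := hE2 ▸ Subgroup.card_dvd_of_le (inf_le_left : D ≤ E)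
      obtain ⟨i, hi, hi2⟩ := (Nat.dvd_prime_pow hpp).mp h1
      interval_cases i
      · rw [hi2, pow_zero]; exact hpp.one_le
      · rw [hi2, pow_one]
      · exfalso
        apply hDE
        exact Subgroup.eq_of_le_of_card_ge inf_le_left (by rw [hi2, hE2])
    have hcyc : IsCyclic ↥K := by
      apply isCyclic_of_omega_le hp (hR.to_subgroup K) (D.subgroupOf K)
      · rw [Cfsg.Agent.Lib.Helper7.card_subgroupOf_of_le hDK]; exact hDcard
      · intro x hx
        rw [Subgroup.mem_subgroupOf]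
        have hx' : (x : R) ^ p = 1 := by
          have := congrArg Subtype.val hx
          simpa using this
        refine ⟨?_, x.2.1⟩
        apply Cfsg.Agent.Lib.Helper4.NarrowData.mem_of_max hE hEmax hx'
        intro a ha
        exact Subgroup.mem_centralizer_iff.mp x.2.2 a ha
    intro s hs t ht
    haveI : IsMulCommutative ↥K := IsCyclic.isMulCommutative
    have := IsMulCommutative.is_comm.comm (⟨s, hs⟩ : ↥K) ⟨t, ht⟩
    exact congrArg Subtype.val this
  -- decomposition x = e ^ k * t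
  have hdec : ∀ x ∈ Subgroup.centralizer (E : Set R), ∃ k : ℤ, ∃ t ∈ K, x = e ^ k * t := by
    intro x hx
    have hcard : Nat.card (R ⧸ T) = p := by rw [← hTidx]; rfl
    have hne : (QuotientGroup.mk e : R ⧸ T) ≠ 1 := by
      intro h
      exact heT ((QuotientGroup.eq_one_iff e).mp h)
    have htop := zpowers_eq_top_of_prime_card hcard hne
    have hmem : (QuotientGroup.mk x : R ⧸ T) ∈ Subgroup.zpowers (QuotientGroup.mk e : R ⧸ T) := by
      rw [htop]; exact Subgroup.mem_top _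
    obtain ⟨k, hk⟩ := Subgroup.mem_zpowers_iff.mp hmem
    have h1 : (QuotientGroup.mk (e ^ k) : R ⧸ T) = QuotientGroup.mk x := by
      rw [← hk]; rfl
    have h2 : (e ^ k)⁻¹ * x ∈ T := QuotientGroup.eq.mp h1
    refine ⟨k, (e ^ k)⁻¹ * x, ⟨h2, ?_⟩, by group⟩
    exact Subgroup.mul_mem _ (Subgroup.inv_mem _ (hEC (Subgroup.zpow_mem _ heE k))) hx
  intro x hx y hy
  obtain ⟨k, t, ht, rfl⟩ := hdec x hx
  obtain ⟨l, t', ht', rfl⟩ := hdec y hy
  have e1 : t * e ^ l = e ^ l * t :=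
    (Subgroup.mem_centralizer_iff.mp ht.2 _ (Subgroup.zpow_mem _ heE l)).symm
  have e2 : t' * e ^ k = e ^ k * t' :=
    (Subgroup.mem_centralizer_iff.mp ht'.2 _ (Subgroup.zpow_mem _ heE k)).symm
  have e3 : t * t' = t' * t := hKc t ht t' ht'
  have e4 : e ^ k * e ^ l = e ^ l * e ^ k := by rw [← zpow_add, ← zpow_add, add_comm]
  calc e ^ k * t * (e ^ l * t') = e ^ k * (t * e ^ l) * t' := by group
    _ = e ^ k * (e ^ l * t) * t' := by rw [e1]
    _ = (e ^ k * e ^ l) * (t * t') := by group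
    _ = (e ^ l * e ^ k) * (t' * t) := by rw [e3, e4]
    _ = e ^ l * (e ^ k * t') * t := by group
    _ = e ^ l * (t' * e ^ k) * t := by rw [e2]
    _ = e ^ l * t' * (e ^ k * t) := by group


end cs

section sylow

variable {G : Type*} [Group G] [Finite G]

/-- **`C_S(A)` is abelian** for a Sylow `p`-subgroup `S` of `G` and `A ≤ S` elementary abelian of order
`p ^ 2`, maximal among the elementary abelian `p`-subgroups of `G`; `h1412` is the conclusion of S1412
for `S`. -/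
theorem centralizer_comm_of_sylow {p : ℕ} [hp : Fact p.Prime] (hp2 : p ≠ 2) (S : Sylow p G)
    (h1412 : Cfsg.PRankLE p 2 ↥(S : Subgroup G) →
      (IsMulCommutative ↥(S : Subgroup G) ∨ ∃ P₁ P₂ : Subgroup G, P₁ ⊔ P₂ = (S : Subgroup G) ∧
        (∀ a ∈ P₁, ∀ b ∈ P₂, a * b = b * a) ∧ ¬ IsMulCommutative ↥P₁ ∧ Nat.card ↥P₁ = p ^ 3 ∧
        Monoid.exponent ↥P₁ = p ∧ IsCyclic ↥P₂ ∧
        Subgroup.closure {x : G | x ∈ P₂ ∧ x ^ p = 1} = P₁ ⊓ Subgroup.centralizer (P₁ : Set G)))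
    (A : Subgroup G) (hAS : A ≤ (S : Subgroup G)) (hA : Cfsg.IsElementaryAbelian p A)
    (hA2 : Nat.card ↥A = p ^ 2)
    (hmax : ∀ B : Subgroup G, Cfsg.IsElementaryAbelian p B → A ≤ B → B = A) :
    ∀ x ∈ (S : Subgroup G) ⊓ Subgroup.centralizer (A : Set G),
      ∀ y ∈ (S : Subgroup G) ⊓ Subgroup.centralizer (A : Set G), x * y = y * x := by
  have hAc : ∀ a ∈ A, ∀ b ∈ A, a * b = b * a := by
    intro a ha b hb
    haveI := hA.1
    have := IsMulCommutative.is_comm.comm (⟨a, ha⟩ : ↥A) ⟨b, hb⟩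
    exact congrArg Subtype.val this
  by_cases hr : Cfsg.PRankLE p 2 ↥(S : Subgroup G)
  · rcases h1412 hr with hab | ⟨P₁, P₂, h12, hcomm, -, -, hexp, hcyc, hcl⟩
    · intro x hx y hy
      have := IsMulCommutative.is_comm.comm (⟨x, hx.1⟩ : ↥(S : Subgroup G)) ⟨y, hy.1⟩
      exact congrArg Subtype.val this
    · apply comm_of_cprod (p := p) (S : Subgroup G) P₁ P₂ A h12 hcomm ?_ hcyc ?_ hAS hAc hA.2
      · intro x hxS hxp hx
        exact Cfsg.Agent.Lib.Helper4.NarrowData.mem_of_max hA hmax hxp hx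
      · intro a ha
        have h1 := Monoid.pow_exponent_eq_one (⟨a, ha⟩ : ↥P₁)
        rw [hexp] at h1
        have := congrArg Subtype.val h1
        simpa using this
      · rw [hcl]; exact inf_le_left
  · set E : Subgroup ↥(S : Subgroup G) := A.subgroupOf (S : Subgroup G) with hE
    have hEel : Cfsg.IsElementaryAbelian p E := by
      refine ⟨⟨⟨?_⟩⟩, ?_⟩
      · rintro ⟨a, ha⟩ ⟨b, hb⟩
        apply Subtype.ext
        apply Subtype.ext
        exact hAc _ (Subgroup.mem_subgroupOf.mp ha) _ (Subgroup.mem_subgroupOf.mp hb)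
      · intro a ha
        apply Subtype.ext
        have := hA.2 _ (Subgroup.mem_subgroupOf.mp ha)
        simpa using this
    have hE2 : Nat.card ↥E = p ^ 2 := by
      rw [hE, Cfsg.Agent.Lib.Helper7.card_subgroupOf_of_le hAS]; exact hA2
    have hEmax : ∀ B : Subgroup ↥(S : Subgroup G), Cfsg.IsElementaryAbelian p B → E ≤ B → B = E := by
      intro B hB hEB
      have hB' : Cfsg.IsElementaryAbelian p (B.map (S : Subgroup G).subtype) := by
        refine ⟨⟨⟨?_⟩⟩, ?_⟩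
        · rintro ⟨a, ha⟩ ⟨b, hb⟩
          obtain ⟨a', ha', rfl⟩ := ha
          obtain ⟨b', hb', rfl⟩ := hb
          apply Subtype.ext
          haveI := hB.1
          have := IsMulCommutative.is_comm.comm (⟨a', ha'⟩ : ↥B) ⟨b', hb'⟩
          have h2 := congrArg Subtype.val this
          have h3 := congrArg Subtype.val h2
          simpa using h3
        · rintro a ⟨a', ha', rfl⟩
          have := hB.2 a' ha'
          have h2 := congrArg Subtype.val this
          simpa using h2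
      have hAB' : A ≤ B.map (S : Subgroup G).subtype := by
        intro a ha
        exact ⟨⟨a, hAS ha⟩, hEB (Subgroup.mem_subgroupOf.mpr ha), rfl⟩
      have hBA := hmax _ hB' hAB'
      ext x
      rw [hE, Subgroup.mem_subgroupOf, ← hBA]
      constructor
      · intro hx; exact ⟨x, hx, rfl⟩
      · rintro ⟨y, hy, hyx⟩
        have : y = x := Subtype.ext hyx
        rwa [← this]
    have hcent : ∀ x : G, ∀ hx : x ∈ (S : Subgroup G) ⊓ Subgroup.centralizer (A : Set G),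
        (⟨x, hx.1⟩ : ↥(S : Subgroup G)) ∈ Subgroup.centralizer (E : Set ↥(S : Subgroup G)) := by
      intro x hx
      rw [Subgroup.mem_centralizer_iff]
      intro e he
      apply Subtype.ext
      exact Subgroup.mem_centralizer_iff.mp hx.2 _ (Subgroup.mem_subgroupOf.mp he)
    intro x hx y hy
    have := comm_of_rank_three p hp2 S.isPGroup' hr E hEel hE2 hEmax _ (hcent x hx) _ (hcent y hy)
    exact congrArg Subtype.val this

end sylow

end Cfsg.Agent.Lib.Helper5.BG11P
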