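import Mathlib
import Cfsg.Agent.H2.BG11.B
import Cfsg.Agent.Lib.Helper5.BG11P
import Cfsg.Agent.S1412
import Cfsg.Agent.S1451
import Cfsg.Agent.S0058

/-!
# B&G Theorem 11.5 / Corollary 11.6 for an exceptional triple (helper5)

For `h : ExcTriple M p A A₀` (helper2's `Cfsg.Agent.H2.BG11.ExcTriple`):
* `exists_mem_sigma`: `σ(M) ≠ ∅` for every maximal subgroup `M`;
* `exc_disjoint`: B&G 11.1(b) for the normal Sylow subgroup `O_q(M_σ)`;
* `sylow_abelian`: a Sylow `p`-subgroup `P ⊇ A` of `M` is abelian and `Ω₁(P) = A`;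
* `exists_fpf_pair`: two distinct subgroups of order `p` of `A` acting fixed-point-freely on `M_σ`.
-/

set_option autoImplicit false
set_option linter.unusedVariables false
set_option linter.unusedSectionVars false
set_option linter.style.haveILetI false

open scoped commutatorElement Pointwise

namespace Cfsg.Agent.Lib.Helper5.BG11b

open Cfsg Cfsg.Agent.Lib.Helper8.BGTen Cfsg.Agent.Lib.Helper4.BGTrans Cfsg.Agent.H2.BG11
open Cfsg.Agent.Lib.Helper7 (IsSylowIn exists_isSylowIn_ge)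
open Cfsg.Agent.H2.BGU (Oq Oq_le isPGroup_Oq le_normalizer_Oq solvable_of_le_coatom
  normalizer_eq_coatom)

universe u

variable {G : Type u} [Group G] [Finite G]

/-! ### `σ(M) ≠ ∅` -/

theorem coatom_ne_bot (hG : Cfsg.IsMinSimpleOddOrder G) {M : Subgroup G} (hM : IsCoatom M) :
    M ≠ ⊥ := by
  rintro rfl
  apply hG.2.2.1
  haveI := hG.2.1
  obtain ⟨x, hx⟩ : ∃ x : G, x ≠ 1 := exists_ne 1
  have h0 : Subgroup.zpowers x ≠ ⊥ := by
    intro h
    apply hx
    have : x ∈ Subgroup.zpowers x := Subgroup.mem_zpowers x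
    rwa [h, Subgroup.mem_bot] at this
  have h1 : Subgroup.zpowers x = ⊤ := hM.2 _ (bot_lt_iff_ne_bot.mpr h0)
  haveI : IsCyclic G := ⟨⟨x, fun y => by
    have : y ∈ Subgroup.zpowers x := h1 ▸ Subgroup.mem_top y
    exact this⟩⟩
  exact IsCyclic.isMulCommutative

theorem exists_mem_sigma (hG : Cfsg.IsMinSimpleOddOrder G) {M : Subgroup G} (hM : IsCoatom M) :
    ∃ q : ℕ, q ∈ Cfsg.sigma M := by
  by_cases hα : ∃ q, q ∈ Cfsg.alpha M
  · obtain ⟨q, hq⟩ := hα
    exact ⟨q, alpha_subset_sigma hG (uniq hG) hM hq⟩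
  push Not at hα
  have hr : Cfsg.RankLE 2 ↥M := by
    intro q hq
    by_contra hc
    exact hα q ⟨hq, hc⟩
  haveI : Group.IsSolvable ↥M := solvable_of_le_coatom hG hM le_rfl
  have hodd : Odd (Nat.card ↥M) := odd_card_subgroup hG M
  obtain ⟨-, -, hH⟩ := Cfsg.Agent.S1451.result (G := ↥M) hodd (Or.inl hr)
  have hM1 : 1 < Nat.card ↥M := by
    have h1 : Nat.card ↥M ≠ 1 := fun h => coatom_ne_bot hG hM (Subgroup.card_eq_one.mp h)
    have h0 : 0 < Nat.card ↥M := Nat.card_pos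
    omega
  have hne : (Nat.card ↥M).primeFactors.Nonempty := Nat.nonempty_primeFactors.mpr hM1
  set q₀ := (Nat.card ↥M).primeFactors.max' hne with hq₀
  have hq₀mem : q₀ ∈ (Nat.card ↥M).primeFactors := Finset.max'_mem _ hne
  obtain ⟨hq₀p, hq₀d, -⟩ := Nat.mem_primeFactors.mp hq₀mem
  haveI : Fact q₀.Prime := ⟨hq₀p⟩
  have hmax : ∀ r : ℕ, r.Prime → r ∣ Nat.card ↥M → r ≤ q₀ := by
    intro r hr hd
    exact Finset.le_max' _ r (Nat.mem_primeFactors.mpr ⟨hr, hd, by omega⟩)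
  obtain ⟨N, hNchar, hN1, hN2⟩ := hH (q₀ - 1)
  haveI := hNchar
  haveI hNn : N.Normal := inferInstance
  -- N is a q₀-group
  have hNq : ∀ r : ℕ, r.Prime → r ∣ Nat.card ↥N → r = q₀ := by
    intro r hr hd
    have h1 := (hN1 r hr hd).2
    have h2 := hmax r hr (hd.trans (Subgroup.card_subgroup_dvd_card N))
    omega
  have hNp : IsPGroup q₀ ↥N := by
    have h1 := Nat.eq_prime_pow_of_unique_prime_dvd (n := Nat.card ↥N) (p := q₀) Nat.card_pos.ne'
      (fun {d} hd hdd => hNq d hd hdd)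
    exact IsPGroup.of_card h1
  have hNidx : ¬ q₀ ∣ N.index := hN2 q₀ hq₀p ⟨hq₀p, by have := hq₀p.two_le; omega⟩
  -- the Sylow subgroup
  set R : Sylow q₀ ↥M := hNp.toSylow hNidx with hR
  have hRN : (R : Subgroup ↥M) = N := IsPGroup.toSylow_coe hNp hNidx
  have hS : IsSylowIn q₀ ((R : Subgroup ↥M).map M.subtype) M := IsSylowIn.of_sylow R
  rw [hRN] at hS
  set P : Subgroup G := N.map M.subtype with hP
  have hPM : P ≤ M := hS.1
  have hP1 : P ≠ ⊥ := by
    apply sylIn_ne_bot hS hq₀d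
  have hMP : M ≤ Subgroup.normalizer (P : Set G) := by
    have h1 : (P.subgroupOf M).Normal := by
      have e : P.subgroupOf M = N := by
        rw [hP, Subgroup.subgroupOf]
        exact Subgroup.comap_map_eq_self_of_injective M.subtype_injective N
      rw [e]
      exact hNn
    exact (Subgroup.normal_subgroupOf_iff_le_normalizer hPM).mp h1
  have hNP := normalizer_eq_coatom hG hM hP1 hPM hMP
  exact ⟨q₀, mem_sigma_iff.mpr ⟨hq₀d, P, hS, hNP.le⟩⟩

/-! ### B&G 11.1(b) for the normal Sylow subgroup `O_q(M_σ)` -/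

variable {M A A0 : Subgroup G} {p : ℕ} [hp : Fact p.Prime]

theorem centralizer_singleton_ne_top (hG : Cfsg.IsMinSimpleOddOrder G) {a : G} (ha : a ≠ 1)
    (hat : Subgroup.zpowers a ≠ ⊤) : Subgroup.centralizer ({a} : Set G) ≠ ⊤ := by
  intro h
  have h0 : Subgroup.zpowers a ≠ ⊥ := by
    intro hb
    apply ha
    have : a ∈ Subgroup.zpowers a := Subgroup.mem_zpowers a
    rwa [hb, Subgroup.mem_bot] at this
  apply normalizer_ne_top' hG h0 hat
  rw [eq_top_iff, ← h, ← centralizer_zpowers_eq]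
  exact Subgroup.centralizer_le_normalizer _

theorem mem_comm (h : ExcTriple M p A A0) {a b : G} (ha : a ∈ A) (hb : b ∈ A) : a * b = b * a :=
  congrArg Subtype.val (h.elem.1.is_comm.comm (⟨a, ha⟩ : ↥A) ⟨b, hb⟩)

theorem le_centralizer_singleton (h : ExcTriple M p A A0) {a : G} (ha : a ∈ A) :
    A ≤ Subgroup.centralizer ({a} : Set G) := by
  intro b hb
  rw [Subgroup.mem_centralizer_iff]
  intro x hx
  rw [Set.mem_singleton_iff] at hx
  subst hx
  exact mem_comm h ha hb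

theorem zpowers_ne_top_of_mem (h : ExcTriple M p A A0) {a : G} (ha : a ∈ A) :
    Subgroup.zpowers a ≠ ⊤ := by
  intro ht
  apply h.coatom.1
  rw [eq_top_iff, ← ht, Subgroup.zpowers_le]
  exact h.le ha

/-- **B&G 11.1(b)**, for `Q = O_q(M_σ)`: no nonidentity element of `A` has fixed points both on `Q`
and on `gQg⁻¹` (`g ∉ M`, `A ≤ gMg⁻¹`). -/
theorem exc_disjoint (hG : Cfsg.IsMinSimpleOddOrder G) (h : ExcTriple M p A A0) {q : ℕ}
    (hq : q ∈ Cfsg.sigma M) {g : G} (hg : g ∉ M) (hAg : A ≤ cj g M) {a : G} (haA : a ∈ A)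
    (ha1 : a ≠ 1) :
    Oq q (Cfsg.sigmaCore M) ⊓ Subgroup.centralizer ({a} : Set G) = ⊥ ∨
      cj g (Oq q (Cfsg.sigmaCore M)) ⊓ Subgroup.centralizer ({a} : Set G) = ⊥ := by
  by_contra hcon
  push Not at hcon
  obtain ⟨h1, h2⟩ := hcon
  have hH : Subgroup.centralizer ({a} : Set G) ≠ ⊤ :=
    centralizer_singleton_ne_top hG ha1 (zpowers_ne_top_of_mem h haA)
  have hAH : A ≤ Subgroup.centralizer ({a} : Set G) := le_centralizer_singleton h haA
  have hD : Subgroup.centralizer ({a} : Set G) ⊓ Oq q (Cfsg.sigmaCore M) ≠ ⊥ := by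
    rwa [inf_comm]
  have hT : IsPGroup q ↥(cj g (Oq q (Cfsg.sigmaCore M)) ⊓ Subgroup.centralizer ({a} : Set G)) :=
    (isPGroup_cj g (isPGroup_Oq hq.1 _)).to_inf_left
  have hAT : A ≤ Subgroup.normalizer
      ((cj g (Oq q (Cfsg.sigmaCore M)) ⊓ Subgroup.centralizer ({a} : Set G) : Subgroup G) : Set G) := by
    apply le_normalizer_inf
    · rw [← cj_normalizer]
      exact hAg.trans (cj_mono g (ExcTriple.le_normalizer_Oq_sigmaCore q M))
    · exact hAH.trans Subgroup.le_normalizer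
  have hTQ := h.alpha hG hH hAH hq hD inf_le_right hT hAT
  have hle : cj g (Oq q (Cfsg.sigmaCore M)) ⊓ Subgroup.centralizer ({a} : Set G) ≤
      Cfsg.sigmaCore M ⊓ cj g M :=
    le_inf (hTQ.trans (Oq_le q _)) (inf_le_left.trans (cj_mono g (ExcTriple.Oq_sigmaCore_le q M)))
  rw [h.sigmaCore_inf_cj hG hg hAg] at hle
  exact h2 (le_bot_iff.mp hle)

/-! ### Theorem 11.5 -/

omit [Finite G] in
theorem inf_centralizer_ne_bot_iff {X : Subgroup G} {a : G} :
    X ⊓ Subgroup.centralizer ({a} : Set G) ≠ ⊥ ↔ ∃ y ∈ X, y ≠ 1 ∧ y * a = a * y := by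
  rw [Subgroup.ne_bot_iff_exists_ne_one]
  constructor
  · rintro ⟨⟨y, hyX, hyC⟩, hy1⟩
    refine ⟨y, hyX, fun h => hy1 (Subtype.ext h), ?_⟩
    exact (Subgroup.mem_centralizer_singleton_iff.mp hyC)
  · rintro ⟨y, hyX, hy1, hya⟩
    refine ⟨⟨y, hyX, Subgroup.mem_centralizer_singleton_iff.mpr hya⟩, fun h => hy1 ?_⟩
    exact congrArg Subtype.val h

/-- in a group, if `z ^ p = 1`, `w ∈ ⟨z⟩` and `w ≠ 1` then `z ∈ ⟨w⟩` -/
theorem mem_zpowers_of_mem_zpowers {z w : G} (hz : z ^ p = 1) (hw : w ∈ Subgroup.zpowers z)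
    (hw1 : w ≠ 1) : z ∈ Subgroup.zpowers w := by
  obtain ⟨t, rfl⟩ := (Submonoid.mem_powers_iff _ _).mp ((mem_powers_iff_mem_zpowers).mpr hw)
  apply Cfsg.Agent.Lib.Helper5.BG11P.mem_of_pow_mem (p := p) _ z hz t ?_ (Subgroup.mem_zpowers _)
  rintro ⟨c, rfl⟩
  apply hw1
  rw [pow_mul, hz, one_pow]

omit [Finite G] in
theorem commute_of_mem_zpowers {z w y : G} (hz : z ∈ Subgroup.zpowers w) (hy : y * w = w * y) :
    y * z = z * y := by
  obtain ⟨k, rfl⟩ := Subgroup.mem_zpowers_iff.mp hz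
  exact ((show Commute y w from hy).zpow_right k).eq

theorem not_isCyclic (h : ExcTriple M p A A0) : ¬ IsCyclic ↥A := by
  intro hc
  obtain ⟨g, hg⟩ := hc.exists_generator
  have h1 : Nat.card ↥A = orderOf g := by
    rw [← Nat.card_zpowers]
    have : Subgroup.zpowers g = ⊤ := (Subgroup.eq_top_iff' _).mpr hg
    rw [this, Subgroup.card_top]
  have h2 : orderOf g ∣ p := by
    apply orderOf_dvd_of_pow_eq_one
    apply Subtype.ext
    have := h.elem.2 g g.2
    simpa using this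
  rw [← h1, h.card] at h2
  have h3 := Nat.le_of_dvd hp.out.pos h2
  nlinarith [hp.out.one_lt]

theorem exists_fixed (h : ExcTriple M p A A0) {K : Subgroup G} (hK1 : K ≠ ⊥)
    (hAK : A ≤ Subgroup.normalizer (K : Set G)) (hcop : (Nat.card ↥A).Coprime (Nat.card ↥K)) :
    ∃ a ∈ A, a ≠ 1 ∧ K ⊓ Subgroup.centralizer ({a} : Set G) ≠ ⊥ := by
  by_contra hcon
  push Not at hcon
  haveI := h.elem.1
  have h1 := Cfsg.Agent.S0058.result A K (not_isCyclic h) hAK hcop
  apply hK1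
  rw [← h1]
  apply le_bot_iff.mp
  apply iSup₂_le
  rintro a ⟨haA, ha1⟩
  rw [hcon a haA ha1]

/-- **B&G Theorem 11.5 + Corollary 11.6(a)**: a Sylow `p`-subgroup `P ⊇ A` of `M` is abelian, and
`A` is the set of elements of order dividing `p` of `P`. -/
theorem sylow_abelian (hG : Cfsg.IsMinSimpleOddOrder G) (h : ExcTriple M p A A0) {P : Subgroup G}
    (hP : IsSylowIn p P M) (hAP : A ≤ P) :
    (∀ x ∈ P, ∀ y ∈ P, x * y = y * x) ∧ ∀ x ∈ P, (x ^ p = 1 ↔ x ∈ A) := by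
  have hpp := hp.out
  have hab : ∀ x ∈ P, ∀ y ∈ P, x * y = y * x := by
    by_contra hna
    have hPp : IsPGroup p ↥P := hP.isPGroup
    have hNP : ¬ Subgroup.normalizer (P : Set G) ≤ M := fun hN =>
      h.not_sigma (mem_sigma_iff.mpr ⟨h.dvd_card, P, hP, hN⟩)
    obtain ⟨g, hgN, hgM⟩ := SetLike.not_le_iff_exists.mp hNP
    have hcjP : cj g P = P := cj_eq_of_mem_normalizer hgN
    have hAg : A ≤ cj g M := by
      calc A ≤ P := hAP
        _ = cj g P := hcjP.symm
        _ ≤ cj g M := cj_mono g hP.1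
    obtain ⟨S, hPS⟩ := hPp.exists_le_sylow
    have hp2 : p ≠ 2 := by
      rintro rfl
      have h1 : Odd (Nat.card G) := hG.1
      have h2 : 2 ∣ Nat.card G := h.dvd_card_top
      exact (Nat.not_even_iff_odd.mpr h1) (even_iff_two_dvd.mpr h2)
    -- Step 1: `P ≰ C(A)`
    have hAZ : ¬ P ≤ Subgroup.centralizer (A : Set G) := by
      intro hc
      apply hna
      intro x hx y hy
      exact Cfsg.Agent.Lib.Helper5.BG11P.centralizer_comm_of_sylow hp2 S
        (fun hr => Cfsg.Agent.S1412.result hG p S hr) A (hAP.trans hPS) h.elem h.card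
        (fun B hB hAB => h.max_elem hG hB hAB) x ⟨hPS hx, hc hx⟩ y ⟨hPS hy, hc hy⟩
    -- Step 2: the element `u`
    haveI : Group.IsNilpotent ↥P := hPp.isNilpotent
    have hC' : (Subgroup.centralizer (A : Set G)).subgroupOf P < ⊤ :=
      lt_top_iff_ne_top.mpr (fun ht => hAZ (Subgroup.subgroupOf_eq_top.mp ht))
    have hnc := Group.normalizerCondition_of_isNilpotent (G := ↥P) _ hC'
    obtain ⟨u', hu'N, hu'C⟩ := SetLike.exists_of_lt hnc
    obtain ⟨u, huP⟩ := u'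
    have huC : u ∉ Subgroup.centralizer (A : Set G) := fun hc =>
      hu'C (Subgroup.mem_subgroupOf.mpr hc)
    have huN : ∀ a ∈ A, u * a * u⁻¹ ∈ A := by
      intro a ha
      have haC : (⟨a, hAP ha⟩ : ↥P) ∈ (Subgroup.centralizer (A : Set G)).subgroupOf P :=
        Subgroup.mem_subgroupOf.mpr (h.le_centralizer ha)
      have h1 := (Subgroup.mem_normalizer_iff.mp hu'N _).mp haC
      have h2 : u * a * u⁻¹ ∈ Subgroup.centralizer (A : Set G) := Subgroup.mem_subgroupOf.mp h1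
      have h3 : (u * a * u⁻¹) ^ p = 1 := by rw [conj_pow, h.elem.2 a ha]; group
      exact (h.mem_iff_pow hG _ h2).mp h3
    have huo : ∃ k : ℕ, u ^ (p ^ k) = 1 := by
      obtain ⟨k, hk⟩ := hPp ⟨u, huP⟩
      exact ⟨k, by simpa using congrArg Subtype.val hk⟩
    -- a central element `z` of order `p`
    haveI : Nontrivial ↥P := (Subgroup.nontrivial_iff_ne_bot P).mpr
      (fun hb => h.ne_bot (le_bot_iff.mp (hb ▸ hAP)))
    haveI := hPp.center_nontrivial
    have hZp : IsPGroup p ↥(Subgroup.center ↥P) := hPp.to_subgroup _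
    obtain ⟨k, hk⟩ := hZp.exists_card_eq
    have hk0 : k ≠ 0 := by
      rintro rfl
      rw [pow_zero] at hk
      exact absurd hk (Finite.one_lt_card (α := ↥(Subgroup.center ↥P))).ne'
    have hpZ : p ∣ Nat.card ↥(Subgroup.center ↥P) := hk ▸ dvd_pow_self p hk0
    obtain ⟨⟨⟨z, hzP⟩, hzcen⟩, hz'⟩ := exists_prime_orderOf_dvd_card' (G := ↥(Subgroup.center ↥P)) p hpZ
    have hzo : orderOf z = p := by
      rw [← hz', Subgroup.orderOf_mk, Subgroup.orderOf_mk]
    have hzc : ∀ x ∈ P, z * x = x * z := by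
      intro x hx
      have := Subgroup.mem_center_iff.mp hzcen ⟨x, hx⟩
      exact (congrArg Subtype.val this).symm
    have hz1 : z ≠ 1 := by
      rintro rfl
      rw [orderOf_one] at hzo
      exact hpp.one_lt.ne hzo
    have hzp : z ^ p = 1 := by rw [← hzo]; exact pow_orderOf_eq_one z
    have central_mem : ∀ w ∈ P, (∀ x ∈ P, w * x = x * w) → w ^ p = 1 → w ∈ A := by
      intro w hwP hwc hwp
      refine (h.mem_iff_pow hG w ?_).mp hwp
      rw [Subgroup.mem_centralizer_iff]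
      intro a ha
      exact (hwc a (hAP ha)).symm
    have hzA : z ∈ A := central_mem z hzP hzc hzp
    have hzu : u * z = z * u := (hzc u huP).symm
    -- `W = C_A(u) = ⟨z⟩`
    have hW : ∀ a ∈ A, u * a = a * u → a ∈ Subgroup.zpowers z := by
      set W : Subgroup G := A ⊓ Subgroup.centralizer ({u} : Set G) with hWdef
      have hzW : Subgroup.zpowers z ≤ W := by
        rw [Subgroup.zpowers_le]
        exact ⟨hzA, Subgroup.mem_centralizer_singleton_iff.mpr hzu.symm⟩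
      have hWA : W ≠ A := by
        intro hWA
        apply huC
        rw [Subgroup.mem_centralizer_iff]
        intro a ha
        have : a ∈ W := hWA ▸ ha
        exact Subgroup.mem_centralizer_singleton_iff.mp this.2
      have hzcard : Nat.card ↥(Subgroup.zpowers z) = p := by rw [Nat.card_zpowers, hzo]
      have hWcard : Nat.card ↥W = p := by
        have h1 : Nat.card ↥W ∣ p ^ 2 := h.card ▸ Subgroup.card_dvd_of_le (inf_le_left : W ≤ A)
        obtain ⟨i, hi, hi2⟩ := (Nat.dvd_prime_pow hpp).mp h1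
        have h2 : p ∣ Nat.card ↥W := hzcard ▸ Subgroup.card_dvd_of_le hzW
        interval_cases i
        · rw [hi2, pow_zero] at h2
          exact absurd (Nat.le_of_dvd one_pos h2) (not_le.mpr hpp.one_lt)
        · rw [hi2, pow_one]
        · exfalso
          apply hWA
          exact Subgroup.eq_of_le_of_card_ge inf_le_left (by rw [hi2, h.card])
      have hWz : Subgroup.zpowers z = W :=
        Subgroup.eq_of_le_of_card_ge hzW (by rw [hWcard, hzcard])
      intro a ha hua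
      rw [hWz]
      exact ⟨ha, Subgroup.mem_centralizer_singleton_iff.mpr hua.symm⟩
    -- conjugates of `z` under `g`
    have hconj : ∀ n ∈ Subgroup.normalizer (P : Set G), n * z * n⁻¹ ∈ Subgroup.zpowers z := by
      intro n hn
      have hnP : ∀ x, x ∈ P ↔ n * x * n⁻¹ ∈ P := Subgroup.mem_normalizer_iff.mp hn
      have hn' : ∀ x, x ∈ P ↔ n⁻¹ * x * n⁻¹⁻¹ ∈ P :=
        Subgroup.mem_normalizer_iff.mp (Subgroup.inv_mem _ hn)
      have h1 : n * z * n⁻¹ ∈ P := (hnP z).mp hzP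
      have h2 : ∀ x ∈ P, n * z * n⁻¹ * x = x * (n * z * n⁻¹) := by
        intro x hx
        have hx' : n⁻¹ * x * n ∈ P := by
          have := (hn' x).mp hx
          rwa [inv_inv] at this
        have h3 := hzc _ hx'
        calc n * z * n⁻¹ * x = n * (z * (n⁻¹ * x * n)) * n⁻¹ := by group
          _ = n * ((n⁻¹ * x * n) * z) * n⁻¹ := by rw [h3]
          _ = x * (n * z * n⁻¹) := by group
      have h3 : (n * z * n⁻¹) ^ p = 1 := by rw [conj_pow, hzp]; group
      have h4 : n * z * n⁻¹ ∈ A := central_mem _ h1 h2 h3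
      exact hW _ h4 (h2 u huP).symm
    have hconj1 : ∀ n ∈ Subgroup.normalizer (P : Set G), n * z * n⁻¹ ≠ 1 := by
      intro n hn h1
      apply hz1
      have : z = n⁻¹ * (n * z * n⁻¹) * n := by group
      rw [this, h1]; group
    obtain ⟨q, hq⟩ := exists_mem_sigma hG h.coatom
    set Q := Oq q (Cfsg.sigmaCore M) with hQ
    have hQ1 : Q ≠ ⊥ := h.Oq_ne_bot hG hq
    have hMQ : M ≤ Subgroup.normalizer (Q : Set G) := ExcTriple.le_normalizer_Oq_sigmaCore q M
    -- (K): `z` has no fixed points on `Q` and `gQg⁻¹`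
    have hK : Q ⊓ Subgroup.centralizer ({z} : Set G) = ⊥ ∧
        cj g Q ⊓ Subgroup.centralizer ({z} : Set G) = ⊥ := by
      rcases exc_disjoint hG h hq hgM hAg hzA hz1 with h1 | h1
      · refine ⟨h1, ?_⟩
        by_contra h2
        obtain ⟨y, hyQ, hy1, hyz⟩ := inf_centralizer_ne_bot_iff.mp h2
        apply (inf_centralizer_ne_bot_iff.mpr ?_) h1
        refine ⟨g⁻¹ * y * g, mem_cj.mp hyQ, ?_, ?_⟩
        · intro h3
          apply hy1
          have : y = g * (g⁻¹ * y * g) * g⁻¹ := by group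
          rw [this, h3]; group
        · -- commutes with g⁻¹ z g, a generator of ⟨z⟩
          have hgi : g⁻¹ ∈ Subgroup.normalizer (P : Set G) := Subgroup.inv_mem _ hgN
          have h4 : g⁻¹ * z * g⁻¹⁻¹ ∈ Subgroup.zpowers z := hconj _ hgi
          have h5 : g⁻¹ * z * g⁻¹⁻¹ ≠ 1 := hconj1 _ hgi
          rw [inv_inv] at h4 h5
          have h6 : z ∈ Subgroup.zpowers (g⁻¹ * z * g) := mem_zpowers_of_mem_zpowers hzp h4 h5
          apply commute_of_mem_zpowers h6
          calc g⁻¹ * y * g * (g⁻¹ * z * g) = g⁻¹ * (y * z) * g := by group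
            _ = g⁻¹ * (z * y) * g := by rw [hyz]
            _ = g⁻¹ * z * g * (g⁻¹ * y * g) := by group
      · refine ⟨?_, h1⟩
        by_contra h2
        obtain ⟨y, hyQ, hy1, hyz⟩ := inf_centralizer_ne_bot_iff.mp h2
        apply (inf_centralizer_ne_bot_iff.mpr ?_) h1
        refine ⟨g * y * g⁻¹, conj_mem_cj hyQ, ?_, ?_⟩
        · intro h3
          apply hy1
          have : y = g⁻¹ * (g * y * g⁻¹) * g := by group
          rw [this, h3]; group
        · have h4 : g * z * g⁻¹ ∈ Subgroup.zpowers z := hconj _ hgN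
          have h5 : g * z * g⁻¹ ≠ 1 := hconj1 _ hgN
          have h6 : z ∈ Subgroup.zpowers (g * z * g⁻¹) := mem_zpowers_of_mem_zpowers hzp h4 h5
          apply commute_of_mem_zpowers h6
          calc g * y * g⁻¹ * (g * z * g⁻¹) = g * (y * z) * g⁻¹ := by group
            _ = g * (z * y) * g⁻¹ := by rw [hyz]
            _ = g * z * g⁻¹ * (g * y * g⁻¹) := by group
    -- elements of type 1 and 2
    have hcopQ : (Nat.card ↥A).Coprime (Nat.card ↥Q) :=
      Nat.Coprime.coprime_dvd_right (Subgroup.card_dvd_of_le (Oq_le q _)) (h.coprime_sigmaCore hG)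
    obtain ⟨a₁, ha₁A, ha₁1, ha₁Q⟩ := exists_fixed h hQ1 (h.le.trans hMQ) hcopQ
    have hAgQ : A ≤ Subgroup.normalizer ((cj g Q : Subgroup G) : Set G) := by
      rw [← cj_normalizer]
      exact hAg.trans (cj_mono g hMQ)
    obtain ⟨a₂, ha₂A, ha₂1, ha₂Q⟩ := exists_fixed h (cj_ne_bot hQ1) hAgQ (by rw [card_cj]; exact hcopQ)
    have hnotW : ∀ a ∈ A, a ≠ 1 → ∀ X : Subgroup G,
        X ⊓ Subgroup.centralizer ({z} : Set G) = ⊥ →
        X ⊓ Subgroup.centralizer ({a} : Set G) ≠ ⊥ → u * a ≠ a * u := by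
      intro a haA ha1 X hXz hXa hua
      have h1 : a ∈ Subgroup.zpowers z := hW a haA hua
      have h2 : z ∈ Subgroup.zpowers a := mem_zpowers_of_mem_zpowers hzp h1 ha1
      obtain ⟨y, hyX, hy1, hya⟩ := inf_centralizer_ne_bot_iff.mp hXa
      apply (inf_centralizer_ne_bot_iff.mpr ?_) hXz
      exact ⟨y, hyX, hy1, commute_of_mem_zpowers h2 hya⟩
    have hua₁ : u * a₁ ≠ a₁ * u := hnotW a₁ ha₁A ha₁1 Q hK.1 ha₁Q
    have hua₂ : u * a₂ ≠ a₂ * u := hnotW a₂ ha₂A ha₂1 _ hK.2 ha₂Q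
    obtain ⟨i, j, hij⟩ := Cfsg.Agent.Lib.Helper5.BG11P.exists_conj_pow_eq A
      (fun a ha b hb => mem_comm h ha hb) h.elem.2 h.card u huN huo z hzA hz1 hzu
      a₁ ha₁A hua₁ a₂ ha₂A hua₂
    -- `a₂` is of both types
    have hboth : Q ⊓ Subgroup.centralizer ({a₂} : Set G) ≠ ⊥ := by
      obtain ⟨y, hyQ, hy1, hya⟩ := inf_centralizer_ne_bot_iff.mp ha₁Q
      have hvM : u ^ i ∈ M := hP.1 (Subgroup.pow_mem _ huP i)
      have hyQ' : u ^ i * y * (u ^ i)⁻¹ ∈ Q :=
        (Subgroup.mem_normalizer_iff.mp (hMQ hvM) y).mp hyQ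
      apply inf_centralizer_ne_bot_iff.mpr
      refine ⟨u ^ i * y * (u ^ i)⁻¹, hyQ', ?_, ?_⟩
      · intro h3
        apply hy1
        have : y = (u ^ i)⁻¹ * (u ^ i * y * (u ^ i)⁻¹) * (u ^ i) := by group
        rw [this, h3]; group
      · rw [← hij]
        have hc : Commute (u ^ i * y * (u ^ i)⁻¹) (u ^ i * a₁ * (u ^ i)⁻¹) := by
          show u ^ i * y * (u ^ i)⁻¹ * (u ^ i * a₁ * (u ^ i)⁻¹) =
            u ^ i * a₁ * (u ^ i)⁻¹ * (u ^ i * y * (u ^ i)⁻¹)
          calc u ^ i * y * (u ^ i)⁻¹ * (u ^ i * a₁ * (u ^ i)⁻¹)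
              = u ^ i * (y * a₁) * (u ^ i)⁻¹ := by group
            _ = u ^ i * (a₁ * y) * (u ^ i)⁻¹ := by rw [hya]
            _ = u ^ i * a₁ * (u ^ i)⁻¹ * (u ^ i * y * (u ^ i)⁻¹) := by group
        exact (hc.pow_right j).eq
    rcases exc_disjoint hG h hq hgM hAg ha₂A ha₂1 with h1 | h1
    · exact hboth h1
    · exact ha₂Q h1
  refine ⟨hab, ?_⟩
  intro x hx
  refine h.mem_iff_pow hG x ?_
  rw [Subgroup.mem_centralizer_iff]
  intro a ha
  exact hab a (hAP ha) x hx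

/-- the same for a `Sylow p ↥M` (the shape used in S1417(b)) -/
theorem sylow_abelian' (hG : Cfsg.IsMinSimpleOddOrder G) (h : ExcTriple M p A A0) (P : Sylow p ↥M)
    (hAP : A ≤ (P : Subgroup ↥M).map M.subtype) :
    IsMulCommutative ↥(P : Subgroup ↥M) ∧
      ∀ x ∈ (P : Subgroup ↥M).map M.subtype, (x ^ p = 1 ↔ x ∈ A) := by
  obtain ⟨h1, h2⟩ := sylow_abelian hG h (IsSylowIn.of_sylow P) hAP
  refine ⟨⟨⟨?_⟩⟩, h2⟩
  rintro ⟨x, hx⟩ ⟨y, hy⟩
  apply Subtype.ext
  apply Subtype.ext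
  exact h1 _ ⟨x, hx, rfl⟩ _ ⟨y, hy, rfl⟩

/-- `N_G(P) ⊄ M` for every Sylow `p`-subgroup `P` of `M` -/
theorem normalizer_not_le (h : ExcTriple M p A A0) {P : Subgroup G} (hP : IsSylowIn p P M) :
    ¬ Subgroup.normalizer (P : Set G) ≤ M := fun hN =>
  h.not_sigma (mem_sigma_iff.mpr ⟨h.dvd_card, P, hP, hN⟩)

/-- `N_G(P) ≤ N_G(A)`, as `A = Ω₁(P)` -/
theorem cj_eq_of_mem_normalizer_sylow (hG : Cfsg.IsMinSimpleOddOrder G) (h : ExcTriple M p A A0)
    {P : Subgroup G} (hP : IsSylowIn p P M) (hAP : A ≤ P) {n : G}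
    (hn : n ∈ Subgroup.normalizer (P : Set G)) : cj n A = A := by
  have h2 := (sylow_abelian hG h hP hAP).2
  have hle : cj n A ≤ A := by
    rintro _ ⟨a, ha, rfl⟩
    have h3 : n * a * n⁻¹ ∈ P := (Subgroup.mem_normalizer_iff.mp hn a).mp (hAP ha)
    apply (h2 _ h3).mp
    show (n * a * n⁻¹) ^ p = 1
    rw [conj_pow, h.elem.2 a ha]; group
  exact Subgroup.eq_of_le_of_card_ge hle (by rw [card_cj])

theorem normalizer_sylow_le (hG : Cfsg.IsMinSimpleOddOrder G) (h : ExcTriple M p A A0)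
    {P : Subgroup G} (hP : IsSylowIn p P M) (hAP : A ≤ P) :
    Subgroup.normalizer (P : Set G) ≤ Subgroup.normalizer (A : Set G) := fun n hn =>
  mem_normalizer_of_cj_eq (cj_eq_of_mem_normalizer_sylow hG h hP hAP hn)

/-- `N_G(A) ⊄ M` -/
theorem normalizer_A_not_le (hG : Cfsg.IsMinSimpleOddOrder G) (h : ExcTriple M p A A0) :
    ¬ Subgroup.normalizer (A : Set G) ≤ M := by
  obtain ⟨P, hP, hAP, hN⟩ := h.exists_sylow
  exact fun hle => hN ((normalizer_sylow_le hG h hP hAP).trans hle)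

/-- for `x ∈ N_G(A) − M`, the conjugate `xA₀x⁻¹ ≤ A` acts fixed-point-freely on `M_σ` -/
theorem fpf_of_mem_normalizer (hG : Cfsg.IsMinSimpleOddOrder G) (h : ExcTriple M p A A0) {x : G}
    (hxA : cj x A = A) (hxM : x ∉ M) :
    cj x A0 ≤ A ∧ Nat.card ↥(cj x A0) = p ∧
      Cfsg.sigmaCore M ⊓ Subgroup.centralizer ((cj x A0 : Subgroup G) : Set G) = ⊥ := by
  refine ⟨?_, by rw [card_cj]; exact h.card0, ?_⟩
  · calc cj x A0 ≤ cj x A := cj_mono x h.le0
      _ = A := hxA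
  · have hAx : A ≤ cj x M := by
      calc A = cj x A := hxA.symm
        _ ≤ cj x M := cj_mono x h.le
    have h1 := h.sigmaCore_inf_cj hG hxM hAx
    apply le_bot_iff.mp
    rw [← h1]
    apply inf_le_inf_left
    rw [← cj_centralizer]
    exact cj_mono x h.centralizer0_le

omit [Finite G] in
theorem not_mem_sq_of_odd [Finite G] (hodd : Odd (Nat.card G)) {M : Subgroup G} {x : G} (hx : x ∉ M) :
    x * x ∉ M := by
  intro h2
  apply hx
  have ho : Odd (orderOf x) := Odd.of_dvd_nat hodd (orderOf_dvd_natCard x)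
  obtain ⟨m, hm⟩ := ho
  have e : x = (x * x) ^ (m + 1) := by
    rw [← pow_two, ← pow_mul]
    have : 2 * (m + 1) = orderOf x + 1 := by omega
    rw [this, pow_succ, pow_orderOf_eq_one, one_mul]
  rw [e]
  exact M.pow_mem h2 _

/-- **two distinct fixed-point-free points** of `A` on `M_σ` -/
theorem exists_fpf_pair (hG : Cfsg.IsMinSimpleOddOrder G) (h : ExcTriple M p A A0) :
    ∃ B0 B1 : Subgroup G, B0 ≤ A ∧ B1 ≤ A ∧ Nat.card ↥B0 = p ∧ Nat.card ↥B1 = p ∧ B0 ≠ B1 ∧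
      Cfsg.sigmaCore M ⊓ Subgroup.centralizer (B0 : Set G) = ⊥ ∧
      Cfsg.sigmaCore M ⊓ Subgroup.centralizer (B1 : Set G) = ⊥ := by
  obtain ⟨P, x, hP, hAP, hxN, hxM⟩ := h.exists_conj
  have hx2N : x * x ∈ Subgroup.normalizer (P : Set G) := Subgroup.mul_mem _ hxN hxN
  have hx2M : x * x ∉ M := not_mem_sq_of_odd hG.1 hxM
  obtain ⟨h1, h2, h3⟩ := fpf_of_mem_normalizer hG h
    (cj_eq_of_mem_normalizer_sylow hG h hP hAP hxN) hxM
  obtain ⟨h4, h5, h6⟩ := fpf_of_mem_normalizer hG h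
    (cj_eq_of_mem_normalizer_sylow hG h hP hAP hx2N) hx2M
  refine ⟨cj x A0, cj (x * x) A0, h1, h4, h2, h5, ?_, h3, h6⟩
  intro he
  apply hxM
  apply h.norm0
  apply mem_normalizer_of_cj_eq
  have h7 : cj x⁻¹ (cj x A0) = cj x⁻¹ (cj (x * x) A0) := by rw [← he]
  rw [cj_inv_cj, cj_mul, cj_inv_cj] at h7
  exact h7.symm

end Cfsg.Agent.Lib.Helper5.BG11b
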