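import Mathlib
import Cfsg.Agent.Lib.helper3.BG12I
import Cfsg.Agent.Lib.Helper4.BG1218D
import Cfsg.Agent.H1.CoprimeHall
import Cfsg.Agent.Lib.Helper4.Nilpotent
import Cfsg.Agent.Lib.Helper5.BGBetaC
import Cfsg.Agent.S1405

/-!
# B&G Lemma 12.18 (S1428), case `p ∈ σ(L) ∖ α(L)` (helper5), part 1: Lemma F0

`L` not conjugate to `M`, `p ∈ σ(L) ∖ α(L)`, `p ∉ σ(M)`, `Y ≤ L' ∩ M_σ`.  Then `Y` centralizes a
Sylow `p`-subgroup of `L`.
-/

set_option autoImplicit false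
set_option linter.unusedSectionVars false
set_option linter.unusedVariables false
set_option linter.style.haveILetI false
set_option maxHeartbeats 1000000
open Cfsg
open scoped commutatorElement Pointwise

namespace Cfsg.Agent.Lib.Helper5.BG1218F

open Cfsg.Agent.Lib.Helper7 (IsSylowIn exists_isSylowIn_ge card_subgroupOf_of_le)
open Cfsg.Agent.Lib.Helper8.BGTen Cfsg.Agent.Lib.Helper4.BGTrans
open Cfsg.Agent.Lib.helper3.BG11 Cfsg.Agent.Lib.helper3.BG12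
open Cfsg.Agent.H2.BG12 (St1416 St1417 St1418)

universe u

variable {G : Type u} [Group G] [Finite G]

/-- elements of coprime orders of `L'` commute modulo `L_α` -/
theorem commutatorElement_mem_alphaCore (hG : Cfsg.IsMinSimpleOddOrder G) {L : Subgroup G}
    (hL : IsCoatom L) {x y : G} (hx : x ∈ ⁅L, L⁆) (hy : y ∈ ⁅L, L⁆)
    (hc : (orderOf x).Coprime (orderOf y)) : ⁅x, y⁆ ∈ Cfsg.alphaCore L := by
  obtain ⟨-, -, -, -, hnil⟩ := Cfsg.Agent.S1405.result hG L hL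
  rw [← Subgroup.map_subtype_commutator] at hx hy
  obtain ⟨x', hx', rfl⟩ := hx
  obtain ⟨y', hy', rfl⟩ := hy
  have hxQ : (QuotientGroup.mk' (Cfsg.piCore (Cfsg.alpha L) ↥L)) x' ∈
      (commutator ↥L).map (QuotientGroup.mk' (Cfsg.piCore (Cfsg.alpha L) ↥L)) :=
    Subgroup.mem_map_of_mem _ hx'
  have hyQ : (QuotientGroup.mk' (Cfsg.piCore (Cfsg.alpha L) ↥L)) y' ∈
      (commutator ↥L).map (QuotientGroup.mk' (Cfsg.piCore (Cfsg.alpha L) ↥L)) :=
    Subgroup.mem_map_of_mem _ hy'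
  haveI := hnil
  have hco : (orderOf (⟨_, hxQ⟩ : ↥((commutator ↥L).map
      (QuotientGroup.mk' (Cfsg.piCore (Cfsg.alpha L) ↥L))))).Coprime
      (orderOf (⟨_, hyQ⟩ : ↥((commutator ↥L).map
      (QuotientGroup.mk' (Cfsg.piCore (Cfsg.alpha L) ↥L))))) := by
    rw [Subgroup.orderOf_mk, Subgroup.orderOf_mk]
    have h1 : orderOf ((QuotientGroup.mk' (Cfsg.piCore (Cfsg.alpha L) ↥L)) x') ∣ orderOf (L.subtype x') := by
      rw [Subgroup.coe_subtype, Subgroup.orderOf_coe]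
      exact orderOf_map_dvd _ x'
    have h2 : orderOf ((QuotientGroup.mk' (Cfsg.piCore (Cfsg.alpha L) ↥L)) y') ∣ orderOf (L.subtype y') := by
      rw [Subgroup.coe_subtype, Subgroup.orderOf_coe]
      exact orderOf_map_dvd _ y'
    exact Nat.Coprime.coprime_dvd_left h1 (Nat.Coprime.coprime_dvd_right h2 hc)
  have hcomm := Cfsg.Agent.Lib.Helper4.Nilpotent.commute_of_coprime_orderOf _ _ _ hco
  have hcomm' : (QuotientGroup.mk' (Cfsg.piCore (Cfsg.alpha L) ↥L)) x' *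
      (QuotientGroup.mk' (Cfsg.piCore (Cfsg.alpha L) ↥L)) y' =
      (QuotientGroup.mk' (Cfsg.piCore (Cfsg.alpha L) ↥L)) y' *
      (QuotientGroup.mk' (Cfsg.piCore (Cfsg.alpha L) ↥L)) x' := congrArg Subtype.val hcomm
  have hmem : ⁅x', y'⁆ ∈ Cfsg.piCore (Cfsg.alpha L) ↥L := by
    rw [← QuotientGroup.eq_one_iff, ← QuotientGroup.mk'_apply, map_commutatorElement,
      commutatorElement_eq_one_iff_mul_comm]
    exact hcomm'
  refine ⟨⁅x', y'⁆, hmem, ?_⟩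
  rw [map_commutatorElement]

/-- `alphaCore L` is normalized by `L` -/
theorem le_normalizer_alphaCore (L : Subgroup G) :
    L ≤ Subgroup.normalizer (Cfsg.alphaCore L : Set G) :=
  le_normalizer_piCoreOf (Cfsg.alpha L) L

/-- a subgroup of `M_σ` has order prime to `|L_α|` when `L` is not conjugate to `M` -/
theorem coprime_alphaCore (hG : Cfsg.IsMinSimpleOddOrder G) {M L : Subgroup G}
    (hM : IsCoatom M) (hL : IsCoatom L) (hnc : ∀ g : G, cj g L ≠ M) {Y : Subgroup G}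
    (hYM : Y ≤ Cfsg.sigmaCore M) : (Nat.card ↥Y).Coprime (Nat.card ↥(Cfsg.alphaCore L)) := by
  apply Nat.coprime_of_dvd
  intro q hq hqY hqA
  haveI : Fact q.Prime := ⟨hq⟩
  have hqM : q ∈ Cfsg.sigma M :=
    mem_sigma_of_dvd_sigmaCore hG hM hq (hqY.trans (Subgroup.card_dvd_of_le hYM))
  have hqα : q ∈ Cfsg.alpha L := (Cfsg.Agent.S1405.result hG L hL).1.2.1 q hq hqA
  obtain ⟨g, hg⟩ := exists_cj_eq_of_alpha_sigma hG hM hL hqα hqM
  exact hnc g hg

/-- **Lemma F0**: `L` not conjugate to `M`, `p ∈ σ(L) ∖ α(L)`, `p ∉ σ(M)`, `Y ≤ L' ∩ M_σ`.  Then `Y`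
centralizes a Sylow `p`-subgroup of `L`. -/
theorem exists_sylow_centralized (hG : Cfsg.IsMinSimpleOddOrder G) {M L : Subgroup G}
    (hM : IsCoatom M) (hL : IsCoatom L) (hnc : ∀ g : G, cj g L ≠ M) {p : ℕ} [hp : Fact p.Prime]
    (hpL : p ∈ Cfsg.sigma L) (hpα : p ∉ Cfsg.alpha L) (hpM : p ∉ Cfsg.sigma M) {Y : Subgroup G}
    (hYL : Y ≤ ⁅L, L⁆) (hYM : Y ≤ Cfsg.sigmaCore M) :
    ∃ S1 : Subgroup G, IsSylowIn p S1 L ∧ Y ≤ Subgroup.centralizer (S1 : Set G) := by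
  obtain ⟨SL, hSL, -⟩ := exists_isSylowIn_ge (p := p) (Q := ⊥) (H := L) IsPGroup.of_bot bot_le
  have hK : ⁅L, L⁆ ≤ L := Subgroup.commutator_le_self L
  have hσK : Cfsg.sigmaCore L ≤ ⁅L, L⁆ :=
    Cfsg.Agent.Lib.Helper5.BGBeta.sigmaCore_le_commutator hG (Cfsg.Agent.H2.BG11.uniq hG) hL
  have hSLK : SL ≤ ⁅L, L⁆ :=
    (Cfsg.Agent.H2.BG11.le_sigmaCore_of_pgroup hG hL hpL hSL.1 hSL.isPGroup).trans hσK
  have hAσ : Cfsg.alphaCore L ≤ Cfsg.sigmaCore L := (Cfsg.Agent.S1405.result hG L hL).2.2.1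
  have hAK : Cfsg.alphaCore L ≤ ⁅L, L⁆ := hAσ.trans hσK
  have hAn := le_normalizer_alphaCore L
  -- coprimality
  have hYA : (Nat.card ↥Y).Coprime (Nat.card ↥(Cfsg.alphaCore L)) :=
    coprime_alphaCore hG hM hL hnc hYM
  have hpY : ¬ p ∣ Nat.card ↥Y := fun h =>
    hpM (mem_sigma_of_dvd_sigmaCore hG hM hp.out (h.trans (Subgroup.card_dvd_of_le hYM)))
  have hpA : ¬ p ∣ Nat.card ↥(Cfsg.alphaCore L) := fun h =>
    hpα ((Cfsg.Agent.S1405.result hG L hL).1.2.1 p hp.out h)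
  -- `[y, s] ∈ L_α` for `y ∈ Y` and `s` a `p`-element of `L'`
  have hcomm : ∀ y ∈ Y, ∀ s ∈ ⁅L, L⁆, (∃ k : ℕ, orderOf s = p ^ k) → ⁅y, s⁆ ∈ Cfsg.alphaCore L := by
    intro y hy s hs ⟨k, hk⟩
    apply commutatorElement_mem_alphaCore hG hL (hYL hy) hs
    rw [hk]
    apply Nat.Coprime.pow_right
    rw [Nat.coprime_comm, Nat.Prime.coprime_iff_not_dvd hp.out]
    intro h
    exact hpY (h.trans (Subgroup.orderOf_dvd_natCard Y hy))
  have hSLp : ∀ s ∈ SL, ∃ k : ℕ, orderOf s = p ^ k := by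
    intro s hs
    obtain ⟨k, hk⟩ := hSL.isPGroup ⟨s, hs⟩
    have : orderOf s ∣ p ^ k := by
      apply orderOf_dvd_of_pow_eq_one
      have := congrArg Subtype.val hk
      simpa using this
    obtain ⟨j, -, hj⟩ := (Nat.dvd_prime_pow hp.out).mp this
    exact ⟨j, hj⟩
  -- `Y` normalizes `N2 := L_α ⊔ SL`
  have hconj : ∀ y ∈ Y, ∀ n ∈ Cfsg.alphaCore L ⊔ SL, y * n * y⁻¹ ∈ Cfsg.alphaCore L ⊔ SL := by
    intro y hy n hn
    have hyL : y ∈ L := hK (hYL hy)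
    have hle : (Cfsg.alphaCore L ⊔ SL).map (MulAut.conj y).toMonoidHom ≤ Cfsg.alphaCore L ⊔ SL := by
      rw [Subgroup.map_sup]
      apply sup_le
      · refine le_trans ?_ le_sup_left
        rintro _ ⟨a, ha, rfl⟩
        have := (Subgroup.mem_normalizer_iff.mp (hAn hyL) a).mp ha
        simpa [MulAut.conj_apply] using this
      · rintro _ ⟨s, hs, rfl⟩
        have h1 : ⁅y, s⁆ ∈ Cfsg.alphaCore L := hcomm y hy s (hSLK hs) (hSLp s hs)
        have h2 : (MulAut.conj y).toMonoidHom s = ⁅y, s⁆ * s := by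
          simp [MulAut.conj_apply, commutatorElement_def]
        rw [h2]
        exact Subgroup.mul_mem _ (Subgroup.mem_sup_left h1) (Subgroup.mem_sup_right hs)
    exact hle ⟨n, hn, by simp [MulAut.conj_apply]⟩
  have hYN2 : Y ≤ Subgroup.normalizer ((Cfsg.alphaCore L ⊔ SL : Subgroup G) : Set G) := by
    intro y hy
    rw [Subgroup.mem_normalizer_iff]
    intro n
    constructor
    · exact hconj y hy n
    · intro h
      have := hconj y⁻¹ (Subgroup.inv_mem _ hy) _ h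
      have e : y⁻¹ * (y * n * y⁻¹) * y⁻¹⁻¹ = n := by group
      rwa [e] at this
  have hN2L : Cfsg.alphaCore L ⊔ SL ≤ L := sup_le (hAK.trans hK) hSL.1
  have hN2K : Cfsg.alphaCore L ⊔ SL ≤ ⁅L, L⁆ := sup_le hAK hSLK
  have hN2top : Cfsg.alphaCore L ⊔ SL ≠ ⊤ := fun h => hL.1 (top_le_iff.mp (h ▸ hN2L))
  have hsolv : Group.IsSolvable ↥(Cfsg.alphaCore L ⊔ SL : Subgroup G) := hG.2.2.2 _ hN2top
  have hcard : Nat.card ↥(Cfsg.alphaCore L ⊔ SL : Subgroup G) ∣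
      Nat.card ↥SL * Nat.card ↥(Cfsg.alphaCore L) := by
    have h1 := Cfsg.Agent.H1.card_sup_mul_card_inf SL (Cfsg.alphaCore L) (hSL.1.trans hAn)
    rw [sup_comm] at h1
    exact Dvd.intro _ h1
  have hcop : (Nat.card ↥Y).Coprime (Nat.card ↥(Cfsg.alphaCore L ⊔ SL : Subgroup G)) := by
    apply Nat.Coprime.coprime_dvd_right hcard
    apply Nat.Coprime.mul_right _ hYA
    rw [hSL.2]
    apply Nat.Coprime.pow_right
    rw [Nat.coprime_comm, Nat.Prime.coprime_iff_not_dvd hp.out]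
    exact hpY
  obtain ⟨H, hH, hYH⟩ := Cfsg.Agent.H1.exists_invariant_isPiHallOf Y (Cfsg.alphaCore L ⊔ SL)
    hYN2 hcop hsolv {p}
  obtain ⟨hHN2, hHπ, hHidx⟩ := hH
  have hHp : IsPGroup p ↥H := by
    have : Nat.card ↥H = p ^ (Nat.card ↥H).primeFactorsList.length :=
      Nat.eq_prime_pow_of_unique_prime_dvd Nat.card_pos.ne' (fun {d} hd hdv => hHπ d hd hdv)
    exact IsPGroup.of_card this
  have hHsyl : IsSylowIn p H (Cfsg.alphaCore L ⊔ SL) :=
    sylIn_of_not_dvd hHN2 hHp (hHidx p hp.out rfl)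
  have hSLsyl : IsSylowIn p SL (Cfsg.alphaCore L ⊔ SL) :=
    ⟨le_sup_right, by
      rw [hSL.2]
      congr 1
      apply le_antisymm
      · have h1 : p ^ (Nat.card ↥L).factorization p ∣ Nat.card ↥(Cfsg.alphaCore L ⊔ SL : Subgroup G) := by
          rw [← hSL.2]; exact Subgroup.card_dvd_of_le le_sup_right
        exact (hp.out.pow_dvd_iff_le_factorization Nat.card_pos.ne').mp h1
      · exact (Nat.factorization_le_iff_dvd Nat.card_pos.ne' Nat.card_pos.ne').mpr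
          (Subgroup.card_dvd_of_le hN2L) p⟩
  have hHL : IsSylowIn p H L := ⟨hHN2.trans hN2L, by rw [hHsyl.2, ← hSLsyl.2, hSL.2]⟩
  refine ⟨H, hHL, ?_⟩
  -- `[Y, H] ≤ H ∩ L_α = 1`
  have hHA : H ⊓ Cfsg.alphaCore L = ⊥ := by
    apply Subgroup.inf_eq_bot_of_coprime
    obtain ⟨k, hk⟩ := hHp.exists_card_eq
    rw [hk]
    apply Nat.Coprime.pow_left
    rw [Nat.Prime.coprime_iff_not_dvd hp.out]
    exact hpA
  intro y hy
  rw [Subgroup.mem_centralizer_iff]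
  intro h hh
  have hhp : ∃ k : ℕ, orderOf h = p ^ k := by
    obtain ⟨k, hk⟩ := hHp ⟨h, hh⟩
    have : orderOf h ∣ p ^ k := by
      apply orderOf_dvd_of_pow_eq_one
      have := congrArg Subtype.val hk
      simpa using this
    obtain ⟨j, -, hj⟩ := (Nat.dvd_prime_pow hp.out).mp this
    exact ⟨j, hj⟩
  have h1 : ⁅y, h⁆ ∈ Cfsg.alphaCore L := hcomm y hy h (hN2K (hHN2 hh)) hhp
  have h2 : ⁅y, h⁆ ∈ H := by
    have := (Subgroup.mem_normalizer_iff.mp (hYH hy) h).mp hh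
    rw [commutatorElement_def]
    exact Subgroup.mul_mem _ this (Subgroup.inv_mem _ hh)
  have h3 : ⁅y, h⁆ ∈ H ⊓ Cfsg.alphaCore L := ⟨h2, h1⟩
  rw [hHA, Subgroup.mem_bot, commutatorElement_eq_one_iff_mul_comm] at h3
  exact h3.symm

end Cfsg.Agent.Lib.Helper5.BG1218F
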