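import Mathlib
import Cfsg.Agent.Lib.Helper5.BG1218F1
import Cfsg.Agent.S1411

/-!
# B&G Lemma 12.18 (S1428), case `p ∈ σ(L) ∖ α(L)` (helper5), part 2: the Frattini step (F1)

`S1` a Sylow `p`-subgroup of `G`, `Y ≠ 1` a `σ(M)`-subgroup of `C_G(S1)`.  Then there is a
`σ(M)`-subgroup `Ŷ ⊇ Y` (a Hall `σ(M)`-subgroup of `C_G(S1)`) with `S1 ≤ N_G(Ŷ)'`.
-/

set_option autoImplicit false
set_option linter.unusedSectionVars false
set_option linter.unusedVariables false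
set_option linter.style.haveILetI false
set_option maxHeartbeats 1000000
open Cfsg
open scoped commutatorElement Pointwise

namespace Cfsg.Agent.Lib.Helper5.BG1218F

open Cfsg.Agent.Lib.Helper7 (IsSylowIn exists_isSylowIn_ge card_subgroupOf_of_le)
open Cfsg.Agent.Lib.Helper8.BGTen Cfsg.Agent.Lib.Helper4.BGTrans
open Cfsg.Agent.Lib.helper3.BG11 Cfsg.Agent.Lib.helper3.BG12
open Cfsg.Agent.H2.BG12 (St1416 St1417 St1418)

universe u

variable {G : Type u} [Group G] [Finite G]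

omit [Finite G] in
theorem mem_normalizer_of_map_conj_eq {H : Subgroup G} {g : G}
    (h : H.map (MulAut.conj g).toMonoidHom = H) : g ∈ Subgroup.normalizer (H : Set G) := by
  rw [Subgroup.mem_normalizer_iff]
  intro x
  constructor
  · intro hx
    rw [← h]
    exact ⟨x, hx, by simp [MulAut.conj_apply]⟩
  · intro hx
    rw [← h] at hx
    obtain ⟨y, hy, hyx⟩ := hx
    have : y = x := by
      have h1 : g * y * g⁻¹ = g * x * g⁻¹ := by simpa [MulAut.conj_apply] using hyx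
      have h2 : y = g⁻¹ * (g * y * g⁻¹) * g := by group
      rw [h2, h1]; group
    rwa [this] at hy

omit [Finite G] in
theorem normalizer_le_normalizer_centralizer (S : Subgroup G) :
    Subgroup.normalizer (S : Set G) ≤
      Subgroup.normalizer ((Subgroup.centralizer (S : Set G) : Subgroup G) : Set G) := by
  have key : ∀ n ∈ Subgroup.normalizer (S : Set G), ∀ c ∈ Subgroup.centralizer (S : Set G),
      n * c * n⁻¹ ∈ Subgroup.centralizer (S : Set G) := by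
    intro n hn c hc
    rw [Subgroup.mem_centralizer_iff]
    intro s hs
    have hs' : n⁻¹ * s * n⁻¹⁻¹ ∈ S :=
      (Subgroup.mem_normalizer_iff.mp (Subgroup.inv_mem _ hn) s).mp hs
    have h1 := Subgroup.mem_centralizer_iff.mp hc _ hs'
    have e1 : s * (n * c * n⁻¹) = n * ((n⁻¹ * s * n⁻¹⁻¹) * c) * n⁻¹ := by group
    have e2 : n * c * n⁻¹ * s = n * (c * (n⁻¹ * s * n⁻¹⁻¹)) * n⁻¹ := by group
    rw [e1, e2, h1]
  intro n hn
  rw [Subgroup.mem_normalizer_iff]
  intro c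
  constructor
  · exact key n hn c
  · intro h
    have := key n⁻¹ (Subgroup.inv_mem _ hn) _ h
    have e : n⁻¹ * (n * c * n⁻¹) * n⁻¹⁻¹ = c := by group
    rwa [e] at this

/-- **(F1)**, the Frattini step -/
theorem exists_hall_commutator (hG : Cfsg.IsMinSimpleOddOrder G) (π : Set ℕ) {p : ℕ}
    [hp : Fact p.Prime] {S1 : Subgroup G} (hS1 : IsSylowIn p S1 ⊤) (hS1ne : S1 ≠ ⊥)
    {Y : Subgroup G} (hYπ : ∀ q : ℕ, q.Prime → q ∣ Nat.card ↥Y → q ∈ π)
    (hYC : Y ≤ Subgroup.centralizer (S1 : Set G)) :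
    ∃ Yh : Subgroup G, Y ≤ Yh ∧ (∀ q : ℕ, q.Prime → q ∣ Nat.card ↥Yh → q ∈ π) ∧
      S1 ≤ ⁅Subgroup.normalizer (Yh : Set G), Subgroup.normalizer (Yh : Set G)⁆ := by
  have hcardS : Nat.card ↥S1 = p ^ (Nat.card G).factorization p := by
    have := hS1.2
    rwa [Subgroup.card_top] at this
  obtain ⟨P, rfl⟩ : ∃ P : Sylow p G, (P : Subgroup G) = S1 := ⟨Sylow.ofCard S1 hcardS, rfl⟩
  obtain ⟨S1, hS1def⟩ : ∃ S1 : Subgroup G, S1 = (P : Subgroup G) := ⟨_, rfl⟩
  rw [← hS1def] at hS1 hS1ne hYC hcardS ⊢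
  have hCtop : Subgroup.centralizer (S1 : Set G) ≠ ⊤ :=
    Cfsg.Agent.Lib.Helper4.BGUniq.centralizer_ne_top hG hS1ne
  have hsolv : Group.IsSolvable ↥(Subgroup.centralizer (S1 : Set G)) := hG.2.2.2 _ hCtop
  obtain ⟨H0, hH0⟩ := Cfsg.Agent.H1.exists_isPiHallOf π (Subgroup.centralizer (S1 : Set G)) hsolv
  obtain ⟨g, hg, hYg⟩ := Cfsg.Agent.H1.isPiHallOf_dominance π H0 _ Y hsolv hH0 hYC hYπ
  have hYh : Cfsg.IsPiHallOf π (H0.map (MulAut.conj g).toMonoidHom)
      (Subgroup.centralizer (S1 : Set G)) :=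
    Cfsg.Agent.H1.isPiHallOf_map_conj π H0 _ hH0 g (Subgroup.le_normalizer hg)
  obtain ⟨Yh, hYhdef⟩ : ∃ Yh : Subgroup G, Yh = H0.map (MulAut.conj g).toMonoidHom := ⟨_, rfl⟩
  rw [← hYhdef] at hYg hYh
  refine ⟨Yh, hYg, hYh.2.1, ?_⟩
  -- Frattini
  have hfrat : ∀ n ∈ Subgroup.normalizer (S1 : Set G), ∃ c ∈ Subgroup.centralizer (S1 : Set G),
      c⁻¹ * n ∈ Subgroup.normalizer (Yh : Set G) := by
    intro n hn
    have h1 : Cfsg.IsPiHallOf π (Yh.map (MulAut.conj n).toMonoidHom)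
        (Subgroup.centralizer (S1 : Set G)) :=
      Cfsg.Agent.H1.isPiHallOf_map_conj π Yh _ hYh n (normalizer_le_normalizer_centralizer S1 hn)
    obtain ⟨c, hc, hcn⟩ := Cfsg.Agent.H1.isPiHallOf_conj π Yh _ _ hsolv hYh h1
    refine ⟨c, hc, ?_⟩
    apply mem_normalizer_of_map_conj_eq
    have e : (MulAut.conj (c⁻¹ * n)).toMonoidHom =
        (MulAut.conj c⁻¹).toMonoidHom.comp (MulAut.conj n).toMonoidHom := by
      ext x; simp [MulAut.conj_apply, mul_assoc]
    rw [e, ← Subgroup.map_map, hcn, Subgroup.map_map]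
    have e2 : (MulAut.conj c⁻¹).toMonoidHom.comp (MulAut.conj c).toMonoidHom = MonoidHom.id G := by
      ext x; simp [MulAut.conj_apply, mul_assoc]
    rw [e2, Subgroup.map_id]
  -- the Sylow structure and a complement
  have hS1N : S1 ≤ Subgroup.normalizer (S1 : Set G) := Subgroup.le_normalizer
  haveI hnorm : (S1.subgroupOf (Subgroup.normalizer (S1 : Set G))).Normal :=
    Subgroup.normal_in_normalizer
  have hcop : (Nat.card ↥(S1.subgroupOf (Subgroup.normalizer (S1 : Set G)))).Coprime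
      (S1.subgroupOf (Subgroup.normalizer (S1 : Set G))).index := by
    rw [card_subgroupOf_of_le hS1N, hcardS]
    apply Nat.Coprime.pow_left
    rw [Nat.Prime.coprime_iff_not_dvd hp.out]
    intro hdvd
    have h1 : p ∣ S1.index := by
      have h2 := Subgroup.relIndex_mul_index hS1N
      rw [← h2]
      exact Dvd.dvd.mul_right hdvd _
    rw [hS1def] at h1
    exact P.not_dvd_index h1
  obtain ⟨V, hV⟩ := Subgroup.exists_right_complement'_of_coprime hcop
  have hVcompl : Cfsg.IsComplIn S1 (V.map (Subgroup.normalizer (S1 : Set G)).subtype)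
      (Subgroup.normalizer (S1 : Set G)) := by
    refine ⟨hS1N, Subgroup.map_subtype_le _, ?_, ?_⟩
    · rw [eq_bot_iff]
      rintro x ⟨hx1, v, hv, hvx⟩
      have h1 : v ∈ S1.subgroupOf (Subgroup.normalizer (S1 : Set G)) ⊓ V := by
        refine ⟨Subgroup.mem_subgroupOf.mpr ?_, hv⟩
        have : (v : G) = x := hvx
        rw [this]; exact hx1
      rw [hV.disjoint.eq_bot, Subgroup.mem_bot] at h1
      rw [Subgroup.mem_bot, ← hvx, h1]
      rfl
    · intro m hm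
      obtain ⟨⟨⟨a, ha⟩, ⟨b, hb⟩⟩, hab, -⟩ := hV.existsUnique ⟨m, hm⟩
      refine ⟨a.1, Subgroup.mem_subgroupOf.mp ha, b.1, ⟨b, hb, rfl⟩, ?_⟩
      have := congrArg Subtype.val hab
      simpa using this.symm
  have hVcompl' : Cfsg.IsComplIn (P : Subgroup G)
      (V.map (Subgroup.normalizer (S1 : Set G)).subtype)
      (Subgroup.normalizer ((P : Subgroup G) : Set G)) := by
    rw [← hS1def]; exact hVcompl
  have h11 := (Cfsg.Agent.S1411.result hG p P _ hVcompl').1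
  rw [← hS1def] at h11
  rw [h11, Subgroup.commutator_le]
  rintro s hs _ ⟨v, hv, rfl⟩
  obtain ⟨c, hc, hm⟩ := hfrat v.1 v.2
  have hmN : c⁻¹ * v.1 ∈ Subgroup.normalizer (S1 : Set G) :=
    Subgroup.mul_mem _ (Subgroup.inv_mem _ (Subgroup.centralizer_le_normalizer _ hc)) v.2
  have hsm : (c⁻¹ * v.1) * s⁻¹ * (c⁻¹ * v.1)⁻¹ ∈ S1 :=
    (Subgroup.mem_normalizer_iff.mp hmN s⁻¹).mp (Subgroup.inv_mem _ hs)
  have hc1 := Subgroup.mem_centralizer_iff.mp hc s hs
  have hc2 := Subgroup.mem_centralizer_iff.mp hc _ hsm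
  have e : ⁅s, (Subgroup.normalizer (S1 : Set G)).subtype v⁆ = ⁅s, c⁻¹ * v.1⁆ := by
    rw [Subgroup.coe_subtype, commutatorElement_def, commutatorElement_def]
    have e1 : s * (v : G) * s⁻¹ * (v : G)⁻¹ =
        s * (c * ((c⁻¹ * v.1) * s⁻¹ * (c⁻¹ * v.1)⁻¹)) * c⁻¹ := by group
    rw [e1, ← hc2]
    have e2 : s * ((c⁻¹ * v.1) * s⁻¹ * (c⁻¹ * v.1)⁻¹ * c) * c⁻¹ =
        s * (c⁻¹ * v.1) * s⁻¹ * (c⁻¹ * v.1)⁻¹ := by group
    rw [e2]
  rw [e]
  apply Subgroup.commutator_mem_commutator _ hm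
  -- `S1` centralizes `Yh`
  apply Subgroup.centralizer_le_normalizer
  rw [Subgroup.mem_centralizer_iff]
  intro y hy
  exact (Subgroup.mem_centralizer_iff.mp (hYh.1 hy) s hs).symm

end Cfsg.Agent.Lib.Helper5.BG1218F
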