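import Mathlib
import Cfsg.Agent.Lib.Helper5.BG1218F2
import Cfsg.Agent.Lib.Helper4.BG1218C
import Cfsg.Agent.S1409
import Cfsg.Agent.S1415
import Cfsg.Agent.S1420

/-!
# B&G Lemma 12.18 (S1428), case `p ∈ σ(L) ∖ α(L)` (helper5), part 3: auxiliary lemmas

* `not_dvd_card_commutator_of_sup`: `Ms = J B`, `B ⊴ Ms`, `p ∤ |B|`, `p ∤ |J'|` ⇒ `p ∤ |Ms'|`;
* `pRankLE_top_of_sylow`: the `p`-rank of `G` is the `p`-rank of any subgroup containing a Sylow
  `p`-subgroup of `G`;
* `tau2_of_cj`, `nilpotent_sigmaCore_of_cj`: transport along conjugation;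
* `no_tau2_elt` (helper5's (1d), helper2's proof), `no_tau3_elt` (B&G 12.6(e)).
-/

set_option autoImplicit false
set_option linter.unusedSectionVars false
set_option linter.unusedVariables false
set_option linter.style.haveILetI false
set_option maxHeartbeats 1000000
open Cfsg
open scoped commutatorElement Pointwise

namespace Cfsg.Agent.Lib.Helper5.BG1218F

open Cfsg.Agent.Lib.Helper7 (IsSylowIn exists_isSylowIn_ge card_subgroupOf_of_le)
open Cfsg.Agent.Lib.Helper8.BGTen Cfsg.Agent.Lib.Helper4.BGTrans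
open Cfsg.Agent.Lib.helper3.BG11 Cfsg.Agent.Lib.helper3.BG12
open Cfsg.Agent.Lib.Helper4.BG1218
open Cfsg.Agent.H2.BG12 (St1416 St1417 St1418)

universe u

variable {G : Type u} [Group G] [Finite G]

/-- `Ms = J B` with `B ⊴ Ms`, `p ∤ |B|`, `p ∤ |J'|`: then `p ∤ |Ms'|` -/
theorem not_dvd_card_commutator_of_sup {Ms J B : Subgroup G} (hB : B ≤ Ms)
    (hBn : Ms ≤ Subgroup.normalizer (B : Set G)) (hJ : J ≤ Ms) (hsup : Ms ≤ J ⊔ B) {p : ℕ}
    (hp : p.Prime) (hpB : ¬ p ∣ Nat.card ↥B) (hpJ : ¬ p ∣ Nat.card ↥⁅J, J⁆) :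
    ¬ p ∣ Nat.card ↥⁅Ms, Ms⁆ := by
  intro h
  haveI hBnorm : (B.subgroupOf Ms).Normal :=
    (Subgroup.normal_subgroupOf_iff_le_normalizer hB).mpr hBn
  have e : Nat.card ↥⁅Ms, Ms⁆ = Nat.card ↥(_root_.commutator ↥Ms) := by
    rw [← Subgroup.map_subtype_commutator]
    exact Subgroup.card_map_of_injective Ms.subtype_injective
  rw [e] at h
  have hsup' : B.subgroupOf Ms ⊔ J.subgroupOf Ms = ⊤ := by
    rw [eq_top_iff]
    intro x _
    have h1 := hsup x.2
    have h2 : (x : G) ∈ (B.subgroupOf Ms ⊔ J.subgroupOf Ms).map Ms.subtype := by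
      rw [Subgroup.map_sup, Subgroup.subgroupOf_map_subtype, Subgroup.subgroupOf_map_subtype,
        inf_eq_left.mpr hB, inf_eq_left.mpr hJ, sup_comm]
      exact h1
    obtain ⟨y, hy, hyx⟩ := h2
    have : y = x := Subtype.ext hyx
    rwa [this] at hy
  have h1 := h.trans (Subgroup.card_dvd_of_le
    (commutator_le_of_sup_eq_top (B.subgroupOf Ms) (J.subgroupOf Ms) hsup'))
  have h2 := Cfsg.Agent.H1.card_sup_mul_card_inf ⁅J.subgroupOf Ms, J.subgroupOf Ms⁆
    (B.subgroupOf Ms) (by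
      intro x _
      exact (Subgroup.normalizer_eq_top (H := B.subgroupOf Ms)) ▸ Subgroup.mem_top x)
  have h3 : p ∣ Nat.card ↥⁅J.subgroupOf Ms, J.subgroupOf Ms⁆ * Nat.card ↥(B.subgroupOf Ms) := by
    rw [← h2]
    exact h1.trans (Dvd.intro _ rfl)
  rcases (Nat.Prime.dvd_mul hp).mp h3 with h4 | h4
  · apply hpJ
    have e2 : Nat.card ↥((⁅J.subgroupOf Ms, J.subgroupOf Ms⁆).map Ms.subtype)
        = Nat.card ↥⁅J.subgroupOf Ms, J.subgroupOf Ms⁆ :=
      Subgroup.card_map_of_injective Ms.subtype_injective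
    rw [← e2] at h4
    apply h4.trans
    apply Subgroup.card_dvd_of_le
    rw [Subgroup.map_commutator, Subgroup.subgroupOf_map_subtype]
    exact Subgroup.commutator_mono inf_le_left inf_le_left
  · apply hpB
    rwa [card_subgroupOf_of_le hB] at h4

omit [Finite G] in
/-- the rank does not grow along injective homomorphisms (local copy) -/
theorem pRankLE_of_inj {H K : Type*} [Group H] [Group K] {p k : ℕ} (f : H →* K)
    (hf : Function.Injective f) (h : Cfsg.PRankLE p k K) : Cfsg.PRankLE p k H := by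
  intro B hB hBe
  have hBc : IsMulCommutative ↥(B.map f) := by
    have := hB
    infer_instance
  have := h (B.map f) hBc (by
    rintro _ ⟨b, hb, rfl⟩
    rw [← map_pow, hBe b hb, map_one])
  rwa [Subgroup.card_map_of_injective hf] at this

/-- conjugation by `g⁻¹` as an injective homomorphism `↥(cj g L) →* ↥L` -/
noncomputable def cjBack (g : G) (L : Subgroup G) : ↥(cj g L) →* ↥L :=
  ((MulAut.conj g⁻¹).toMonoidHom.comp (cj g L).subtype).codRestrict L (by
    rintro ⟨x, l, hl, rfl⟩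
    simp only [MonoidHom.coe_comp, Function.comp_apply, Subgroup.coe_subtype,
      MulEquiv.coe_toMonoidHom, MulAut.conj_apply, inv_inv]
    have : g⁻¹ * (g * l * g⁻¹) * g = l := by group
    rw [this]; exact hl)

theorem cjBack_injective (g : G) (L : Subgroup G) : Function.Injective (cjBack g L) := by
  intro a b h
  have h1 := congrArg Subtype.val h
  simp only [cjBack, MonoidHom.codRestrict_apply, MonoidHom.coe_comp, Function.comp_apply,
    Subgroup.coe_subtype, MulEquiv.coe_toMonoidHom] at h1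
  exact Subtype.ext ((MulAut.conj g⁻¹).injective h1)

/-- the `p`-rank of `G` is attained in any subgroup containing a Sylow `p`-subgroup of `G` -/
theorem pRankLE_top_of_sylow {p : ℕ} [hp : Fact p.Prime] {S L : Subgroup G}
    (hS : IsSylowIn p S ⊤) (hSL : S ≤ L) {k : ℕ} (h : Cfsg.PRankLE p k ↥L) :
    Cfsg.PRankLE p k G := by
  intro A hAc hAe
  have hAp : IsPGroup p ↥A := by
    intro a
    refine ⟨1, ?_⟩
    apply Subtype.ext
    rw [pow_one]
    exact hAe a.1 a.2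
  obtain ⟨T, hT, hAT⟩ := exists_isSylowIn_ge hAp (le_top : A ≤ ⊤)
  obtain ⟨x, -, hx⟩ := hS.conj hT
  have hx' : T = cj x S := hx
  have hAL : A ≤ cj x L := by
    refine hAT.trans ?_
    rw [hx']
    exact cj_mono x hSL
  have h1 : Cfsg.PRankLE p k ↥(cj x L) := pRankLE_of_inj (cjBack x L) (cjBack_injective x L) h
  have h2 : Cfsg.PRankLE p k ↥A :=
    pRankLE_of_inj (Subgroup.inclusion hAL) (Subgroup.inclusion_injective hAL) h1
  have h3 := h2 ⊤ ⟨⟨fun a b => by
      apply Subtype.ext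
      apply Subtype.ext
      have := hAc.is_comm.comm a.1 b.1
      exact congrArg Subtype.val this⟩⟩ (by
      intro a _
      apply Subtype.ext
      exact hAe a.1 a.2)
  rwa [Subgroup.card_top] at h3

/-- `τ₂` is invariant under conjugation (one direction) -/
theorem tau2_of_cj {q : ℕ} {g : G} {L : Subgroup G} (h : q ∈ Cfsg.tau2 (cj g L)) :
    q ∈ Cfsg.tau2 L := by
  obtain ⟨hq, hσ, h2, h1⟩ := h
  refine ⟨hq, ?_, ?_, ?_⟩
  · rwa [Cfsg.Agent.H2.BG11.sigma_cj] at hσ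
  · exact pRankLE_of_inj ((MulAut.conj g).toMonoidHom.subgroupMap L)
      (fun a b hab => Subtype.ext ((MulAut.conj g).injective (congrArg Subtype.val hab))) h2
  · intro h
    exact h1 (pRankLE_of_inj (cjBack g L) (cjBack_injective g L) h)

/-- nilpotency of `M_σ` is invariant under conjugation (one direction) -/
theorem nilpotent_sigmaCore_of_cj (hG : Cfsg.IsMinSimpleOddOrder G) {L : Subgroup G}
    (hL : IsCoatom L) {g : G} (h : Group.IsNilpotent ↥(Cfsg.sigmaCore (cj g L))) :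
    Group.IsNilpotent ↥(Cfsg.sigmaCore L) := by
  rw [Cfsg.Agent.H2.BG11.sigmaCore_cj hG hL g] at h
  exact (Group.isNilpotent_congr (MulEquiv.subgroupMap (MulAut.conj g) (Cfsg.sigmaCore L))).mpr h

omit [Finite G] in
theorem cent_singleton_le_norm_zpowers (b : G) :
    Subgroup.centralizer ({b} : Set G) ≤
      Subgroup.normalizer ((Subgroup.zpowers b : Subgroup G) : Set G) := by
  have key : ∀ g ∈ Subgroup.centralizer ({b} : Set G), ∀ r ∈ Subgroup.zpowers b,
      g * r * g⁻¹ = r := by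
    intro g hg r hr
    rw [Subgroup.mem_centralizer_singleton_iff] at hg
    obtain ⟨n, rfl⟩ := Subgroup.mem_zpowers_iff.mp hr
    have hc : Commute g (b ^ n) := (Commute.zpow_right (show Commute g b from hg) n)
    rw [hc.eq]; group
  intro g hg
  rw [Subgroup.mem_normalizer_iff]
  intro r
  constructor
  · intro hr
    rw [key g hg r hr]; exact hr
  · intro hr
    have h1 := key g⁻¹ (Subgroup.inv_mem _ hg) _ hr
    have e : g⁻¹ * (g * r * g⁻¹) * g⁻¹⁻¹ = r := by group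
    rw [e] at h1
    rw [h1]; exact hr

/-- **(1d)** (helper2's proof): no element of prime order `u ∈ σ(M) ∩ τ₂(L)` of `M ∩ L`
centralizes a nontrivial subgroup of `L_σ ∩ M`, when `L ≠ M`. -/
theorem no_tau2_elt (hG : Cfsg.IsMinSimpleOddOrder G) {M L : Subgroup G} (hM : IsCoatom M)
    (hL : IsCoatom L) (hne : L ≠ M) {u : ℕ} [hu : Fact u.Prime] (huM : u ∈ Cfsg.sigma M)
    (huL : u ∈ Cfsg.tau2 L) {y : G} (hyM : y ∈ M) (hyL : y ∈ L) (hyo : orderOf y = u)
    {P : Subgroup G} (hP1 : P ≠ ⊥) (hPσ : P ≤ Cfsg.sigmaCore L) (hPM : P ≤ M)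
    (hyP : y ∈ Subgroup.centralizer (P : Set G)) : False := by
  obtain ⟨EL, hEL⟩ := exists_compl hG hL
  have hy1 : y ≠ 1 := by
    intro h
    rw [h, orderOf_one] at hyo
    exact hu.out.ne_one hyo.symm
  obtain ⟨⟨z, hzP⟩, hz1⟩ := (Subgroup.ne_bot_iff_exists_ne_one).mp hP1
  have hz1' : z ≠ 1 := fun h => hz1 (Subtype.ext h)
  have hhat : y ∈ Cfsg.sigmaHat L :=
    ⟨hyL, z, hPσ hzP, hz1', (Subgroup.mem_centralizer_iff.mp hyP z hzP).symm⟩
  obtain ⟨hC, huniq⟩ := (Cfsg.Agent.S1420.result hG L hL EL hEL).2.2.2 y hyL hy1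
    (fun p hp hpd => by
      rw [hyo] at hpd
      have := (Nat.prime_dvd_prime_iff_eq hp hu.out).mp hpd
      rw [this]; exact huL) hhat
  have hXc : Nat.card ↥(Subgroup.zpowers y) = u := by rw [Nat.card_zpowers, hyo]
  have hXu : IsPGroup u ↥(Subgroup.zpowers y) := IsPGroup.of_card (n := 1) (by rw [hXc, pow_one])
  have hX1 : Subgroup.zpowers y ≠ ⊥ := fun h => hy1 (Subgroup.zpowers_eq_bot.mp h)
  have hXM : Subgroup.zpowers y ≤ M := Subgroup.zpowers_le.mpr hyM
  have hXt : Subgroup.zpowers y ≠ ⊤ := fun h => hM.1 (top_le_iff.mp (h ▸ hXM))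
  have hNt : Subgroup.normalizer ((Subgroup.zpowers y : Subgroup G) : Set G) ≠ ⊤ :=
    Cfsg.Agent.Lib.Helper4.BGUniq.normalizer_ne_top hG hX1 hXt
  obtain ⟨H, hH, hNH⟩ := exists_coatom_ge hNt
  have hHL : H = L := huniq H hH ((cent_singleton_le_norm_zpowers y).trans hNH)
  rw [hHL] at hNH
  have hbot := (bg1214_d hG hM hL huM huL.2.1 hXu hX1 hXM hne hNH).2.2.2.2.1
  apply hP1
  rw [eq_bot_iff, ← hbot]
  exact le_inf hPσ hPM

/-- **B&G 12.6(e)**: if `τ₂(L) ≠ ∅`, no element of prime order `u ∈ τ₃(L)` of `L` centralizes a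
nontrivial subgroup of `L_σ`. -/
theorem no_tau3_elt (hG : Cfsg.IsMinSimpleOddOrder G) {L : Subgroup G} (hL : IsCoatom L)
    {q : ℕ} [hq : Fact q.Prime] (hqL : q ∈ Cfsg.tau2 L) {u : ℕ} [hu : Fact u.Prime]
    (huL : u ∈ Cfsg.tau3 L) {y : G} (hyL : y ∈ L) (hyo : orderOf y = u)
    {P : Subgroup G} (hP1 : P ≠ ⊥) (hPσ : P ≤ Cfsg.sigmaCore L)
    (hyP : y ∈ Subgroup.centralizer (P : Set G)) : False := by
  have hy1 : y ≠ 1 := by
    intro h
    rw [h, orderOf_one] at hyo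
    exact hu.out.ne_one hyo.symm
  have hKc : Nat.card ↥(Subgroup.zpowers y) = u := by rw [Nat.card_zpowers, hyo]
  have hKu : IsPGroup u ↥(Subgroup.zpowers y) := IsPGroup.of_card (n := 1) (by rw [hKc, pow_one])
  have hK1 : Subgroup.zpowers y ≠ ⊥ := fun h => hy1 (Subgroup.zpowers_eq_bot.mp h)
  have hKL : Subgroup.zpowers y ≤ L := Subgroup.zpowers_le.mpr hyL
  have hKt : Subgroup.zpowers y ≠ ⊤ := fun h => hL.1 (top_le_iff.mp (h ▸ hKL))
  have hKcop : (Nat.card ↥(Subgroup.zpowers y)).Coprime (Nat.card ↥(Cfsg.sigmaCore L)) :=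
    coprime_sigmaCore_of_isPGroup hG hL huL.2.1 hKu
  obtain ⟨EL, A, hEL, hKE, hAE, hAe, hAc, hEN, hEX⟩ :=
    exists_compl_ge_and_sq hG hL hqL hKL hKcop
  have hELt : EL ≠ ⊤ := fun h => hL.1 (top_le_iff.mp (h ▸ hEL.1))
  have hsolv : Group.IsSolvable ↥EL := hG.2.2.2 _ hELt
  obtain ⟨E3, hE3⟩ := Cfsg.Agent.H1.exists_isPiHallOf (Cfsg.tau3 L) EL hsolv
  obtain ⟨hE3c, -, hE3n⟩ := (Cfsg.Agent.S1415.result hG L hL EL hEL).2.2 E3 hE3
  have hKE3 : Subgroup.zpowers y ≤ E3 := by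
    apply le_of_coprime_relIndex hKE hE3.1 hE3n
    rw [hKc, Nat.Prime.coprime_iff_not_dvd hu.out]
    exact hE3.2.2 u hu.out huL
  haveI := hE3c
  have hE3nil : Group.IsNilpotent ↥E3 := by
    letI : CommGroup ↥E3 := IsCyclic.commGroup
    infer_instance
  have hKU : Subgroup.zpowers y ≤ Cfsg.Agent.H2.BGU.Oq u E3 :=
    Cfsg.Agent.H2.BGU.le_Oq_of_isPGroup hE3nil hKE3 hKu
  have hUu : IsPGroup u ↥(Cfsg.Agent.H2.BGU.Oq u E3) := Cfsg.Agent.H2.BGU.isPGroup_Oq hu.out E3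
  have hUc : IsCyclic ↥(Cfsg.Agent.H2.BGU.Oq u E3) :=
    Subgroup.isCyclic_of_le (Cfsg.Agent.H2.BGU.Oq_le u E3)
  have hEU : EL ≤ Subgroup.normalizer ((Cfsg.Agent.H2.BGU.Oq u E3 : Subgroup G) : Set G) :=
    hE3n.trans (Cfsg.Agent.H2.BGU.normalizer_le_normalizer_Oq u E3)
  have hEK : EL ≤ Subgroup.normalizer ((Subgroup.zpowers y : Subgroup G) : Set G) := by
    intro e he
    apply mem_normalizer_of_map_conj_eq
    have h1 : (Subgroup.zpowers y).map (MulAut.conj e).toMonoidHom ≤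
        Cfsg.Agent.H2.BGU.Oq u E3 := by
      rintro _ ⟨k, hk, rfl⟩
      have := (Subgroup.mem_normalizer_iff.mp (hEU he) k).mp (hKU hk)
      simpa [MulAut.conj_apply] using this
    exact Cfsg.Agent.Lib.Helper4.BGUniq.eq_of_card_eq_of_le_cyclic hUu hUc h1 hKU
      (Subgroup.card_map_of_injective (MulAut.conj e).injective)
  have hNt : Subgroup.normalizer ((Subgroup.zpowers y : Subgroup G) : Set G) ≠ ⊤ :=
    Cfsg.Agent.Lib.Helper4.BGUniq.normalizer_ne_top hG hK1 hKt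
  obtain ⟨H, hH, hNH⟩ := exists_coatom_ge hNt
  have hHL : H ≠ L := by
    intro h
    rw [h] at hNH
    exact (Cfsg.Agent.S1409.result hG L hL u huL.2.1 _ hKc hNH).1.2 huL.2.2.2
  have hAH : A ≤ H := (hAE.trans hEK).trans hNH
  have hbot := (Cfsg.Agent.S1417.result hG L hL q hqL A ⟨hAE.trans hEL.1, hAe, hAc⟩).2.2.2.2.1
    H hH hHL hAH
  have hPH : P ≤ H := by
    intro z hz
    apply hNH
    apply cent_singleton_le_norm_zpowers y
    rw [Subgroup.mem_centralizer_singleton_iff]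
    exact Subgroup.mem_centralizer_iff.mp hyP z hz
  apply hP1
  rw [eq_bot_iff, ← hbot]
  exact le_inf hPσ hPH

end Cfsg.Agent.Lib.Helper5.BG1218F
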