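import Mathlib
import Cfsg.Agent.Lib.Helper5.BG1218F3
import Cfsg.Agent.S1425

/-!
# B&G Lemma 12.18 (S1428), case `p ∈ σ(L) ∖ α(L)` (helper5), part 4: LEMMA F

`p ∈ τ₁(M)`, `P ≤ M` of order `p`, `L` maximal over `N_G(P)`, `p ∈ σ(L) ∖ α(L)`.  Then every
subgroup `Y ≤ L' ∩ C_{M_σ}(P)` is trivial; in particular `[C_{M_σ}(P), R] = 1` for every
`R ≤ C_M(P)` normalizing... (`hyp2d_not_alpha`): the case `p ∉ α(L)` of helper4's `Hyp2d`.
-/

set_option autoImplicit false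
set_option linter.unusedSectionVars false
set_option linter.unusedVariables false
set_option linter.style.haveILetI false
set_option maxHeartbeats 1000000
open Cfsg
open scoped commutatorElement Pointwise

namespace Cfsg.Agent.Lib.Helper5.BG1218F

open Cfsg.Agent.Lib.Helper7 (IsSylowIn exists_isSylowIn_ge card_subgroupOf_of_le)
open Cfsg.Agent.Lib.Helper8.BGTen Cfsg.Agent.Lib.Helper4.BGTrans
open Cfsg.Agent.Lib.helper3.BG11 Cfsg.Agent.Lib.helper3.BG12
open Cfsg.Agent.Lib.Helper4.BG1218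
open Cfsg.Agent.H2.BGU (Oq Oq_le isPGroup_Oq le_normalizer_Oq le_Oq_of_isPGroup)
open Cfsg.Agent.H2.BG12 (St1416 St1417 St1418)

universe u

variable {G : Type u} [Group G] [Finite G]

/-- **LEMMA F** -/
theorem not_alpha_case (hG : Cfsg.IsMinSimpleOddOrder G) {M L : Subgroup G} (hM : IsCoatom M)
    (hL : IsCoatom L) {p : ℕ} [hp : Fact p.Prime] (hpτ : p ∈ Cfsg.tau1 M) {P : Subgroup G}
    (hPM : P ≤ M) (hP : Nat.card ↥P = p) (hNL : Subgroup.normalizer (P : Set G) ≤ L)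
    (hpL : p ∈ Cfsg.sigma L) (hpα : p ∉ Cfsg.alpha L) {Y : Subgroup G} (hYL : Y ≤ ⁅L, L⁆)
    (hYM : Y ≤ Cfsg.sigmaCore M) (hYP : Y ≤ Subgroup.centralizer (P : Set G)) : Y = ⊥ := by
  by_contra hY1
  have hpM : p ∉ Cfsg.sigma M := hpτ.2.1
  have hnc : ∀ g : G, cj g L ≠ M := cj_ne_of_sigma hG hpL hpM
  have hneLM : L ≠ M := by
    intro h
    apply hnc 1
    rw [cj_one, h]
  have hK : ⁅L, L⁆ ≤ L := Subgroup.commutator_le_self L
  -- `P`
  have hP1 : P ≠ ⊥ := by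
    intro h0
    rw [h0, Subgroup.card_bot] at hP
    exact hp.out.one_lt.ne hP
  have hPp : IsPGroup p ↥P := IsPGroup.of_card (n := 1) (by rw [hP, pow_one])
  have hPL : P ≤ L := Subgroup.le_normalizer.trans hNL
  have hPσ : P ≤ Cfsg.sigmaCore L := Cfsg.Agent.H2.BG11.le_sigmaCore_of_pgroup hG hL hpL hPL hPp
  -- F0
  obtain ⟨S1, hS1L, hYS1⟩ := exists_sylow_centralized hG hM hL hnc hpL hpα hpM hYL hYM
  have hS1top : IsSylowIn p S1 ⊤ := sigma_sylow_top hpL hS1L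
  have hNS1 : Subgroup.normalizer (S1 : Set G) ≤ L := sigma_normalizer_le hpL hS1L
  have hS1ne : S1 ≠ ⊥ := by
    intro h
    have h1 := hS1L.2
    rw [h, Subgroup.card_bot] at h1
    have h2 : 0 < (Nat.card ↥L).factorization p :=
      Nat.Prime.factorization_pos_of_dvd hp.out Nat.card_pos.ne' hpL.2.1
    have h3 : 1 < p ^ (Nat.card ↥L).factorization p := Nat.one_lt_pow h2.ne' hp.out.one_lt
    omega
  have hYσ : ∀ q : ℕ, q.Prime → q ∣ Nat.card ↥Y → q ∈ Cfsg.sigma M := fun q hq hqY =>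
    mem_sigma_of_dvd_sigmaCore hG hM hq (hqY.trans (Subgroup.card_dvd_of_le hYM))
  -- F1
  obtain ⟨Yh, hYYh, hYhσ, hS1comm⟩ :=
    exists_hall_commutator hG (Cfsg.sigma M) hS1top hS1ne hYσ hYS1
  have hYh1 : Yh ≠ ⊥ := fun h => hY1 (le_bot_iff.mp (h ▸ hYYh))
  -- S1425
  obtain ⟨g, hg⟩ := Cfsg.Agent.S1425.result hG M hM Yh hYh1 hYhσ
  have hg' : cj g Yh ≤ Cfsg.sigmaCore M := hg
  have hS1' : cj g S1 ≤ ⁅Subgroup.normalizer ((cj g Yh : Subgroup G) : Set G),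
      Subgroup.normalizer ((cj g Yh : Subgroup G) : Set G)⁆ := by
    have h1 := cj_mono g hS1comm
    have h2 : cj g ⁅Subgroup.normalizer (Yh : Set G), Subgroup.normalizer (Yh : Set G)⁆ =
        ⁅cj g (Subgroup.normalizer (Yh : Set G)), cj g (Subgroup.normalizer (Yh : Set G))⁆ := by
      show Subgroup.map (MulAut.conj g).toMonoidHom _ = _
      rw [Subgroup.map_commutator]
    rw [h2, cj_normalizer] at h1
    exact h1
  have hY'σ : ∀ q : ℕ, q.Prime → q ∣ Nat.card ↥(cj g Yh) → q ∈ Cfsg.sigma M := by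
    intro q hq hqd
    rw [card_cj] at hqd
    exact hYhσ q hq hqd
  have hY'1 : cj g Yh ≠ ⊥ := cj_ne_bot hYh1
  have hY't : cj g Yh ≠ ⊤ := ne_top_of_sigma_group hG hM hY'σ
  haveI : Group.IsSolvable ↥(cj g Yh) := hG.2.2.2 _ hY't
  have hF : Cfsg.fittingOf (cj g Yh) ≠ ⊥ :=
    fun h => hY'1 (Cfsg.Agent.H2.BGU.eq_bot_of_fittingOf_eq_bot h)
  have hFc : Nat.card ↥(Cfsg.fittingOf (cj g Yh)) ≠ 1 := fun h => hF (Subgroup.card_eq_one.mp h)
  obtain ⟨q, hq, hqd⟩ := Nat.exists_prime_and_dvd hFc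
  haveI : Fact q.Prime := ⟨hq⟩
  have hX1 : Oq q (Cfsg.fittingOf (cj g Yh)) ≠ ⊥ :=
    Cfsg.Agent.H2.BGU.Oq_ne_bot_of_dvd (Cfsg.Agent.H2.BGU.fittingOf_nilpotent _) hqd
  have hXq : IsPGroup q ↥(Oq q (Cfsg.fittingOf (cj g Yh))) := isPGroup_Oq hq _
  have hXY' : Oq q (Cfsg.fittingOf (cj g Yh)) ≤ cj g Yh :=
    (Oq_le q _).trans (Cfsg.Agent.H2.BGU.fittingOf_le _)
  have hXM : Oq q (Cfsg.fittingOf (cj g Yh)) ≤ M := hXY'.trans (hg'.trans (sigmaCore_le M))
  have hqM : q ∈ Cfsg.sigma M :=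
    hY'σ q hq (hqd.trans (Subgroup.card_dvd_of_le (Cfsg.Agent.H2.BGU.fittingOf_le _)))
  have hNN : Subgroup.normalizer ((cj g Yh : Subgroup G) : Set G) ≤
      Subgroup.normalizer ((Oq q (Cfsg.fittingOf (cj g Yh)) : Subgroup G) : Set G) :=
    (Cfsg.Agent.H2.BGU.normalizer_le_normalizer_fittingOf _).trans
      (Cfsg.Agent.H2.BGU.normalizer_le_normalizer_Oq q _)
  have hXt : Oq q (Cfsg.fittingOf (cj g Yh)) ≠ ⊤ := fun h => hM.1 (top_le_iff.mp (h ▸ hXM))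
  have hNt := Cfsg.Agent.Lib.Helper4.BGUniq.normalizer_ne_top hG hX1 hXt
  obtain ⟨Ms, hMs, hNMs⟩ := exists_coatom_ge hNt
  have hS1Ms' : cj g S1 ≤ ⁅Ms, Ms⁆ :=
    hS1'.trans (Subgroup.commutator_mono (hNN.trans hNMs) (hNN.trans hNMs))
  have hS1'p : IsPGroup p ↥(cj g S1) := isPGroup_cj g hS1top.isPGroup
  have hpS1' : p ∣ Nat.card ↥(cj g S1) := by
    rw [card_cj]
    obtain ⟨k, hk⟩ := hS1top.isPGroup.exists_card_eq
    rw [hk]
    apply dvd_pow_self
    intro hk0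
    rw [hk0, pow_zero] at hk
    exact hS1ne (Subgroup.card_eq_one.mp hk)
  have hpMs' : p ∣ Nat.card ↥⁅Ms, Ms⁆ := hpS1'.trans (Subgroup.card_dvd_of_le hS1Ms')
  have hrkL : Cfsg.PRankLE p 2 ↥L := by
    by_contra h
    exact hpα ⟨hp.out, h⟩
  have hrk : Cfsg.PRankLE p 2 G := pRankLE_top_of_sylow hS1top hS1L.1 hrkL
  by_cases hMsM : Ms = M
  · rw [hMsM] at hpMs'
    exact hpτ.2.2.2.1 hpMs'
  by_cases hqMs : q ∈ Cfsg.sigma Ms
  · obtain ⟨-, -, hPC, -⟩ := bg1214_c hG hM hMs hqM hqMs hXq hX1 hXM hMsM hNMs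
    have hpαMs : p ∉ Cfsg.alpha Ms :=
      fun h => h.2 (pRankLE_of_inj Ms.subtype Ms.subtype_injective hrk)
    have h1 := hPC.2.2.2.2.2 p hpτ hpαMs
    exact h1.2.2.2.1 hpMs'
  · obtain ⟨-, hτ, hnil, hdis, hbot, hcompl, -⟩ :=
      bg1214_d hG hM hMs hqM hqMs hXq hX1 hXM hMsM hNMs
    by_cases hpMs : p ∈ Cfsg.sigma Ms
    · -- `Ms = cj g L`
      have hS1'Ms : cj g S1 ≤ Ms := hS1Ms'.trans (Subgroup.commutator_le_self Ms)
      have hS1σ : cj g S1 ≤ Cfsg.sigmaCore Ms :=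
        Cfsg.Agent.H2.BG11.le_sigmaCore_of_pgroup hG hMs hpMs hS1'Ms hS1'p
      have hO := sylIn_Oq_of_nilpotent hnil p
      have hS1'syl : IsSylowIn p (cj g S1) (Cfsg.sigmaCore Ms) :=
        Cfsg.Agent.H2.BG11.sylIn_of_sylIn_top
          (⟨le_top, by rw [card_cj]; exact hS1top.2⟩ : IsSylowIn p (cj g S1) ⊤) hS1σ
      obtain ⟨k, hk, hkk⟩ := hO.conj hS1'syl
      have hkn : k ∈ Subgroup.normalizer ((Oq p (Cfsg.sigmaCore Ms) : Subgroup G) : Set G) :=
        le_normalizer_Oq p _ hk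
      have hOeq : (Oq p (Cfsg.sigmaCore Ms)).map (MulAut.conj k).toMonoidHom =
          Oq p (Cfsg.sigmaCore Ms) := by
        ext x
        constructor
        · rintro ⟨y, hy, rfl⟩
          have := (Subgroup.mem_normalizer_iff.mp hkn y).mp hy
          simpa [MulAut.conj_apply] using this
        · intro hx
          refine ⟨k⁻¹ * x * k, ?_, by simp [MulAut.conj_apply, mul_assoc]⟩
          have := (Subgroup.mem_normalizer_iff.mp (Subgroup.inv_mem _ hkn) x).mp hx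
          simpa using this
      rw [hOeq] at hkk
      have hMsN : Ms ≤ Subgroup.normalizer ((cj g S1 : Subgroup G) : Set G) := by
        rw [hkk]
        exact (le_normalizer_sigmaCore Ms).trans
          (Cfsg.Agent.H2.BGU.normalizer_le_normalizer_Oq p _)
      have hMsL : Ms ≤ cj g L := by
        refine hMsN.trans ?_
        rw [← cj_normalizer]
        exact cj_mono g hNS1
      have hMseq : cj g L = Ms := (hMs.le_iff_eq (isCoatom_cj hL g).1).mp hMsL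
      rw [← hMseq] at hτ hnil
      have hτL : q ∈ Cfsg.tau2 L := tau2_of_cj hτ
      have hnilL : Group.IsNilpotent ↥(Cfsg.sigmaCore L) := nilpotent_sigmaCore_of_cj hG hL hnil
      -- an element of prime order of `Y`
      have hYc : Nat.card ↥Y ≠ 1 := fun h => hY1 (Subgroup.card_eq_one.mp h)
      obtain ⟨u, hu, hud⟩ := Nat.exists_prime_and_dvd hYc
      haveI : Fact u.Prime := ⟨hu⟩
      obtain ⟨⟨y, hyY⟩, hyo⟩ := exists_prime_orderOf_dvd_card' (G := ↥Y) u hud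
      have hyo' : orderOf y = u := by rw [← hyo, Subgroup.orderOf_mk]
      have huM : u ∈ Cfsg.sigma M := hYσ u hu hud
      have huL : u ∉ Cfsg.sigma L := by
        intro h
        obtain ⟨g', hg'⟩ := aux2c hG hM hL hnilL h huM
        apply hnc g'⁻¹
        rw [hg', cj_inv_cj]
      have hyK : y ∈ ⁅L, L⁆ := hYL hyY
      have hyL : y ∈ L := hK hyK
      have hyM : y ∈ M := sigmaCore_le M (hYM hyY)
      have hudvd : u ∣ Nat.card ↥⁅L, L⁆ := by
        rw [← hyo']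
        exact Subgroup.orderOf_dvd_natCard _ hyK
      have hu2 : Cfsg.PRankLE u 2 ↥L := by
        by_contra h
        exact huL (alpha_subset_sigma hG (uT hG) hL ⟨hu, h⟩)
      by_cases hu1 : Cfsg.PRankLE u 1 ↥L
      · exact no_tau3_elt hG hL hτL ⟨hu, huL, hudvd, hu1⟩ hyL hyo' hP1 hPσ (hYP hyY)
      · exact no_tau2_elt hG hM hL hneLM huM ⟨hu, huL, hu2, hu1⟩ hyM hyL hyo' hP1 hPσ hPM
          (hYP hyY)
    · -- `p ∉ σ(Ms)`: `Ms'` is a `p'`-group
      refine not_dvd_card_commutator_of_sup (B := Cfsg.sigmaCore Ms) (J := M ⊓ Ms)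
        (sigmaCore_le Ms) (le_normalizer_sigmaCore Ms) inf_le_right ?_ hp.out ?_ ?_ hpMs'
      · intro m hm
        obtain ⟨a, ha, b, hb, hab⟩ := hcompl.2.2.2 m hm
        rw [hab]
        exact Subgroup.mul_mem _ (Subgroup.mem_sup_left ha) (Subgroup.mem_sup_right hb)
      · exact fun h => hpMs (mem_sigma_of_dvd_sigmaCore hG hMs hp.out h)
      · exact fun h => hpτ.2.2.2.1 (h.trans (Subgroup.card_dvd_of_le
          (Subgroup.commutator_mono inf_le_left inf_le_left)))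

/-- the case `p ∉ α(L)` of helper4's `Hyp2d` (no hypothesis on `|R|`) -/
theorem hyp2d_not_alpha (hG : Cfsg.IsMinSimpleOddOrder G) {M : Subgroup G} (hM : IsCoatom M)
    {E : Subgroup G} (hE : Cfsg.IsComplIn E (Cfsg.sigmaCore M) M) {p : ℕ}
    (hpτ : p ∈ Cfsg.tau1 M) {P : Subgroup G} (hPE : P ≤ E) (hP : Nat.card ↥P = p)
    {R : Subgroup G} (hRE : R ≤ E ⊓ Subgroup.centralizer (P : Set G))
    {L : Subgroup G} (hL : IsCoatom L) (hNL : Subgroup.normalizer (P : Set G) ≤ L)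
    (hpL : p ∈ Cfsg.sigma L) (hpα : p ∉ Cfsg.alpha L) :
    ⁅Cfsg.sigmaCore M ⊓ Subgroup.centralizer (P : Set G), R⁆ = ⊥ := by
  haveI hpf : Fact p.Prime := ⟨hpτ.1⟩
  have hEM : E ≤ M := hE.1
  have hPM : P ≤ M := hPE.trans hEM
  have hRM : R ≤ M := (hRE.trans inf_le_left).trans hEM
  have hRCP : R ≤ Subgroup.centralizer (P : Set G) := hRE.trans inf_le_right
  have hCL : Subgroup.centralizer (P : Set G) ≤ L :=
    (Subgroup.centralizer_le_normalizer _).trans hNL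
  have hRD : R ≤ Subgroup.normalizer
      ((Cfsg.sigmaCore M ⊓ Subgroup.centralizer (P : Set G) : Subgroup G) : Set G) :=
    Cfsg.Agent.Lib.Helper8.BGTen.le_normalizer_inf (hRM.trans (le_normalizer_sigmaCore M))
      (hRCP.trans Subgroup.le_normalizer)
  have hD₁D := commutator_le_left_of_le_normalizer hRD
  exact not_alpha_case hG hM hL hpτ hPM hP hNL hpL hpα
    (Subgroup.commutator_mono (inf_le_right.trans hCL) (hRCP.trans hCL))
    (hD₁D.trans inf_le_left) (hD₁D.trans inf_le_right)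

end Cfsg.Agent.Lib.Helper5.BG1218F
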