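import Mathlib
import Cfsg.Agent.Lib.Helper5.BG1218F3
import Cfsg.Agent.Lib.Helper4.BG1218E
import Cfsg.Agent.S1423

/-!
# S1378 (B&G 13.9, blueprint Part 14), helper5's blocks, part 1: (H5-2)

`s ∈ β(M)`, `X ≤ C_{M_α}(P)` of order `s`, `C_{M_α}(P)` of rank `≤ 1`.  Then the Sylow
`s`-subgroups of `C_G(P)` are cyclic (and lie in conjugates of `C_{M_α}(P)`).
-/

set_option autoImplicit false
set_option linter.unusedSectionVars false
set_option linter.unusedVariables false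
set_option linter.style.haveILetI false
set_option maxHeartbeats 1000000
open Cfsg
open scoped commutatorElement Pointwise

namespace Cfsg.Agent.Lib.Helper5.BG13S

open Cfsg.Agent.Lib.Helper7 (IsSylowIn exists_isSylowIn_ge card_subgroupOf_of_le)
open Cfsg.Agent.Lib.Helper8.BGTen Cfsg.Agent.Lib.Helper4.BGTrans
open Cfsg.Agent.Lib.helper3.BG11 Cfsg.Agent.Lib.helper3.BG12
open Cfsg.Agent.Lib.Helper4.BG1218
open Cfsg.Agent.Lib.Helper5.BG1218F

universe u

variable {G : Type u} [Group G] [Finite G]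

/-- an `s`-subgroup of `M`, `s ∈ α(M)`, lies in `M_α` -/
theorem le_alphaCore_of_pgroup (hG : Cfsg.IsMinSimpleOddOrder G) {M : Subgroup G}
    (hM : IsCoatom M) {s : ℕ} [hs : Fact s.Prime] (hsα : s ∈ Cfsg.alpha M) {Z : Subgroup G}
    (hZs : IsPGroup s ↥Z) (hZM : Z ≤ M) : Z ≤ Cfsg.alphaCore M := by
  have hH := (Cfsg.Agent.S1405.result hG M hM).1
  apply le_of_coprime_relIndex hZM hH.1 (Cfsg.Agent.Lib.Helper5.BG1218F.le_normalizer_alphaCore M)
  obtain ⟨k, hk⟩ := hZs.exists_card_eq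
  rw [hk]
  apply Nat.Coprime.pow_left
  rw [Nat.Prime.coprime_iff_not_dvd hs.out]
  exact hH.2.2 s hs.out hsα

/-- **(H5-2)**: the Sylow `s`-subgroups of `C_G(P)` are cyclic -/
theorem sylow_centralizer_cyclic (hG : Cfsg.IsMinSimpleOddOrder G) {M : Subgroup G}
    (hM : IsCoatom M) {P : Subgroup G} {s : ℕ} [hs : Fact s.Prime] (hsβ : s ∈ Cfsg.beta M)
    {X : Subgroup G} (hXα : X ≤ Cfsg.alphaCore M) (hXP : X ≤ Subgroup.centralizer (P : Set G))
    (hXc : Nat.card ↥X = s)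
    (hrk : Cfsg.RankLE 1 ↥(Cfsg.alphaCore M ⊓ Subgroup.centralizer (P : Set G))) :
    ∀ S : Subgroup G, IsSylowIn s S (Subgroup.centralizer (P : Set G)) → IsCyclic ↥S := by
  have hsα : s ∈ Cfsg.alpha M := hsβ.1
  have hsσ : s ∈ Cfsg.sigma M := alpha_subset_sigma hG (uT hG) hM hsα
  have hαM : Cfsg.alphaCore M ≤ M := (Cfsg.Agent.S1405.result hG M hM).1.1
  have hXM : X ≤ M := hXα.trans hαM
  obtain ⟨Psyl⟩ : Nonempty (Sylow s ↥(Cfsg.sigmaCore M)) := inferInstance
  have hCX : Subgroup.centralizer (X : Set G) ≤ M :=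
    (Cfsg.Agent.S1423.result hG M hM s hsσ X hXM hXc Psyl (Or.inl hsβ)).1.1
  have hXs : IsPGroup s ↥X := IsPGroup.of_card (n := 1) (by rw [hXc, pow_one])
  have hX1 : X ≠ ⊥ := by
    intro h0
    rw [h0, Subgroup.card_bot] at hXc
    exact hs.out.one_lt.ne hXc
  obtain ⟨S0, hS0, hXS0⟩ := exists_isSylowIn_ge hXs hXP
  have hle : ∀ Z : Subgroup G, IsPGroup s ↥Z → Z ≤ M → Z ≤ Subgroup.centralizer (P : Set G) →
      Z ≤ Cfsg.alphaCore M ⊓ Subgroup.centralizer (P : Set G) :=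
    fun Z hZs hZM hZP => le_inf (le_alphaCore_of_pgroup hG hM hsα hZs hZM) hZP
  have hrks : Cfsg.PRankLE s 1 ↥(Cfsg.alphaCore M ⊓ Subgroup.centralizer (P : Set G)) :=
    hrk s hs.out
  -- a central element of order `s` of `S0`
  have hS0p : IsPGroup s ↥S0 := hS0.isPGroup
  haveI : Nontrivial ↥S0 := by
    rw [Subgroup.nontrivial_iff_ne_bot]
    exact fun h => hX1 (le_bot_iff.mp (h ▸ hXS0))
  haveI hcn : Nontrivial ↥(Subgroup.center ↥S0) := hS0p.center_nontrivial
  have hcp : IsPGroup s ↥(Subgroup.center ↥S0) := hS0p.to_subgroup _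
  have hdvd : s ∣ Nat.card ↥(Subgroup.center ↥S0) := by
    obtain ⟨k, hk⟩ := hcp.exists_card_eq
    rw [hk]
    apply dvd_pow_self
    intro hk0
    rw [hk0, pow_zero] at hk
    have := (Nat.card_eq_one_iff_unique.mp hk).1
    exact not_subsingleton _ this
  obtain ⟨⟨⟨z, hzS⟩, hzc⟩, hzo⟩ := exists_prime_orderOf_dvd_card' (G := ↥(Subgroup.center ↥S0)) s hdvd
  have hzo' : orderOf z = s := by
    rw [← hzo, Subgroup.orderOf_mk, Subgroup.orderOf_mk]
  have hzcomm : ∀ x ∈ S0, z * x = x * z := by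
    intro x hx
    have := Subgroup.mem_center_iff.mp hzc ⟨x, hx⟩
    exact (congrArg Subtype.val this).symm
  have hZc : Nat.card ↥(Subgroup.zpowers z) = s := by rw [Nat.card_zpowers, hzo']
  have hZs : IsPGroup s ↥(Subgroup.zpowers z) := IsPGroup.of_card (n := 1) (by rw [hZc, pow_one])
  have hZS0 : Subgroup.zpowers z ≤ S0 := Subgroup.zpowers_le.mpr hzS
  have hZX : Subgroup.zpowers z ≤ Subgroup.centralizer (X : Set G) := by
    apply Subgroup.zpowers_le.mpr
    rw [Subgroup.mem_centralizer_iff]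
    intro x hx
    exact (hzcomm x (hXS0 hx)).symm
  have hZZP : Subgroup.zpowers z ≤ Cfsg.alphaCore M ⊓ Subgroup.centralizer (P : Set G) :=
    hle _ hZs (hZX.trans hCX) (hZS0.trans hS0.1)
  have hXZP : X ≤ Cfsg.alphaCore M ⊓ Subgroup.centralizer (P : Set G) := le_inf hXα hXP
  have hZel := Cfsg.Agent.Lib.Helper4.BGUniq.isElementaryAbelian_of_card_prime hZc
  have hXel := Cfsg.Agent.Lib.Helper4.BGUniq.isElementaryAbelian_of_card_prime hXc
  have hsup : Cfsg.IsElementaryAbelian s (Subgroup.zpowers z ⊔ X) := by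
    apply Cfsg.Agent.H2.RankTwoGraph.isElementaryAbelian_sup hZel hXel
    intro a ha b hb
    exact (Subgroup.mem_centralizer_iff.mp (hZX ha) b hb).symm
  have hcard : Nat.card ↥(Subgroup.zpowers z ⊔ X : Subgroup G) ≤ s ^ 1 := by
    by_contra hlt
    push Not at hlt
    exact Cfsg.Agent.Lib.Helper4.BGUniq.not_pRankLE_of_le hsup (sup_le hZZP hXZP) hlt hrks
  rw [pow_one] at hcard
  have h1 : Subgroup.zpowers z = Subgroup.zpowers z ⊔ X :=
    Subgroup.eq_of_le_of_card_ge le_sup_left (by rw [hZc]; exact hcard)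
  have h2 : X = Subgroup.zpowers z ⊔ X :=
    Subgroup.eq_of_le_of_card_ge le_sup_right (by rw [hXc]; exact hcard)
  have hXZ : X = Subgroup.zpowers z := h2.trans h1.symm
  -- `S0` centralizes `X`
  have hS0X : S0 ≤ Subgroup.centralizer (X : Set G) := by
    intro y hy
    rw [Subgroup.mem_centralizer_iff]
    intro x hx
    rw [hXZ] at hx
    obtain ⟨k, rfl⟩ := Subgroup.mem_zpowers_iff.mp hx
    have hc : Commute z y := hzcomm y hy
    exact (hc.zpow_left k).eq
  have hS0ZP : S0 ≤ Cfsg.alphaCore M ⊓ Subgroup.centralizer (P : Set G) :=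
    hle _ hS0p (hS0X.trans hCX) hS0.1
  have hS0c : IsCyclic ↥S0 :=
    Cfsg.Agent.Lib.Helper4.BGTw.isCyclic_of_pRankLE_one hG hrks hS0ZP hS0p
  intro S hS
  obtain ⟨c, hc, hSc⟩ := hS0.conj hS
  rw [hSc]
  haveI := hS0c
  exact isCyclic_of_surjective ((MulAut.conj c).toMonoidHom.subgroupMap S0)
    ((MulAut.conj c).toMonoidHom.subgroupMap_surjective S0)

end Cfsg.Agent.Lib.Helper5.BG13S
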