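import Mathlib
import Cfsg.Agent.Lib.Helper5.BG13S1
import Cfsg.Agent.S0025

/-!
# S1378 (B&G 13.9, blueprint Part 14), helper5's blocks, part 2: (H5-1)

`E` a complement of `M_σ`, `P ≤ E` of prime order `p` with `C_E(P) = P`, and `P` fixed-point-free on
every `P`-invariant Sylow `q`-subgroup of `M_σ` for `q ∈ σ(M) ∖ α(M)`.  Then
`C_M(P) = C_{M_α}(P) × P`; in particular `π(C_M(P)) ⊆ α(M) ∪ {p}`.
-/

set_option autoImplicit false
set_option linter.unusedSectionVars false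
set_option linter.unusedVariables false
set_option linter.style.haveILetI false
set_option maxHeartbeats 1000000
open Cfsg
open scoped commutatorElement Pointwise

namespace Cfsg.Agent.Lib.Helper5.BG13S

open Cfsg.Agent.Lib.Helper7 (IsSylowIn exists_isSylowIn_ge card_subgroupOf_of_le)
open Cfsg.Agent.Lib.Helper8.BGTen Cfsg.Agent.Lib.Helper4.BGTrans
open Cfsg.Agent.Lib.helper3.BG11 Cfsg.Agent.Lib.helper3.BG12
open Cfsg.Agent.Lib.Helper4.BG1218
open Cfsg.Agent.Lib.Helper5.BG1218F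

universe u

variable {G : Type u} [Group G] [Finite G]

omit [Finite G] in
/-- `C_M(P) = C_E(P) · C_{M_σ}(P)` for `P ≤ E`, `E` a complement of the normal subgroup `K` -/
theorem centralizer_decomp {M E K P : Subgroup G} (hE : Cfsg.IsComplIn E K M)
    (hKn : M ≤ Subgroup.normalizer (K : Set G)) (hPE : P ≤ E) {x : G} (hxM : x ∈ M)
    (hxP : x ∈ Subgroup.centralizer (P : Set G)) :
    ∃ a ∈ E ⊓ Subgroup.centralizer (P : Set G), ∃ b ∈ K ⊓ Subgroup.centralizer (P : Set G),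
      x = a * b := by
  obtain ⟨hEM, hKM, hEK, hprod⟩ := hE
  obtain ⟨a, ha, b, hb, hab⟩ := hprod x hxM
  have haP : a ∈ Subgroup.centralizer (P : Set G) := by
    rw [Subgroup.mem_centralizer_iff]
    intro y hy
    have hyx : y * x = x * y := Subgroup.mem_centralizer_iff.mp hxP y hy
    -- `a⁻¹ y a = b y b⁻¹`
    have h1 : a⁻¹ * y * a = b * y * b⁻¹ := by
      have hx' : x⁻¹ * y * x = y := by
        rw [mul_assoc, hyx, ← mul_assoc, inv_mul_cancel, one_mul]
      have ha' : a = x * b⁻¹ := by rw [hab]; group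
      calc a⁻¹ * y * a = b * (x⁻¹ * y * x) * b⁻¹ := by rw [ha']; group
        _ = b * y * b⁻¹ := by rw [hx']
    -- `y⁻¹ (a⁻¹ y a) ∈ E ∩ K`
    have hyE : y ∈ E := hPE hy
    have h2 : y⁻¹ * (a⁻¹ * y * a) ∈ E :=
      E.mul_mem (E.inv_mem hyE) (E.mul_mem (E.mul_mem (E.inv_mem ha) hyE) ha)
    have h3 : y⁻¹ * (a⁻¹ * y * a) ∈ K := by
      rw [h1]
      have hyn : y⁻¹ ∈ Subgroup.normalizer (K : Set G) := hKn (hEM (E.inv_mem hyE))
      have h4 : y⁻¹ * b * y⁻¹⁻¹ ∈ K := (Subgroup.mem_normalizer_iff.mp hyn b).mp hb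
      have e : y⁻¹ * (b * y * b⁻¹) = (y⁻¹ * b * y⁻¹⁻¹) * b⁻¹ := by group
      rw [e]
      exact K.mul_mem h4 (K.inv_mem hb)
    have h5 : y⁻¹ * (a⁻¹ * y * a) ∈ E ⊓ K := ⟨h2, h3⟩
    rw [hEK, Subgroup.mem_bot] at h5
    have h6 : a⁻¹ * y * a = y := by
      have := congrArg (fun w => y * w) h5
      simpa using this
    calc y * a = a * (a⁻¹ * y * a) := by group
      _ = a * y := by rw [h6]
  refine ⟨a, ⟨ha, haP⟩, b, ⟨hb, ?_⟩, hab⟩
  have hb' : b = a⁻¹ * x := by rw [hab]; group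
  rw [hb']
  exact Subgroup.mul_mem _ (Subgroup.inv_mem _ haP) hxP

/-- **(H5-1)** -/
theorem centralizer_primes (hG : Cfsg.IsMinSimpleOddOrder G) {M : Subgroup G} (hM : IsCoatom M)
    {E : Subgroup G} (hE : Cfsg.IsComplIn E (Cfsg.sigmaCore M) M) {p : ℕ} [hp : Fact p.Prime]
    {P : Subgroup G} (hPE : P ≤ E) (hPc : Nat.card ↥P = p)
    (hCE : E ⊓ Subgroup.centralizer (P : Set G) ≤ P)
    (hfpf : ∀ q : ℕ, q.Prime → q ∈ Cfsg.sigma M → q ∉ Cfsg.alpha M → ∀ Q : Subgroup G,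
      IsSylowIn q Q (Cfsg.sigmaCore M) → P ≤ Subgroup.normalizer (Q : Set G) →
      Q ⊓ Subgroup.centralizer (P : Set G) = ⊥) :
    (M ⊓ Subgroup.centralizer (P : Set G) =
        (Cfsg.alphaCore M ⊓ Subgroup.centralizer (P : Set G)) ⊔ P) ∧
      ∀ q : ℕ, q.Prime → q ∣ Nat.card ↥(M ⊓ Subgroup.centralizer (P : Set G) : Subgroup G) →
        q ∈ Cfsg.alpha M ∨ q = p := by
  have hEM : E ≤ M := hE.1
  have hPM : P ≤ M := hPE.trans hEM
  have hpσ : p ∉ Cfsg.sigma M := by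
    apply Cfsg.Agent.H2.BG12.not_mem_sigma_of_dvd_compl hG hM hE hp.out
    rw [← hPc]
    exact Subgroup.card_dvd_of_le hPE
  have hPel := Cfsg.Agent.Lib.Helper4.BGUniq.isElementaryAbelian_of_card_prime hPc
  have hPP : P ≤ Subgroup.centralizer (P : Set G) := by
    intro a ha
    rw [Subgroup.mem_centralizer_iff]
    intro b hb
    exact congrArg Subtype.val (isMulCommutative_iff.1 hPel.1 ⟨b, hb⟩ ⟨a, ha⟩)
  have hαM : Cfsg.alphaCore M ≤ M := (Cfsg.Agent.S1405.result hG M hM).1.1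
  have hασ : Cfsg.alphaCore M ≤ Cfsg.sigmaCore M := (Cfsg.Agent.S1405.result hG M hM).2.2.1
  have hH := (Cfsg.Agent.S1405.result hG M hM).1
  -- `D := C_{M_σ}(P)` is an `α(M)`-group
  have hDα : ∀ q : ℕ, q.Prime →
      q ∣ Nat.card ↥(Cfsg.sigmaCore M ⊓ Subgroup.centralizer (P : Set G) : Subgroup G) →
      q ∈ Cfsg.alpha M := by
    intro q hq hqd
    by_contra hqα
    haveI : Fact q.Prime := ⟨hq⟩
    have hqσ : q ∈ Cfsg.sigma M :=
      mem_sigma_of_dvd_sigmaCore hG hM hq (hqd.trans (Subgroup.card_dvd_of_le inf_le_left))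
    obtain ⟨⟨y, hyD⟩, hyo⟩ := exists_prime_orderOf_dvd_card'
      (G := ↥(Cfsg.sigmaCore M ⊓ Subgroup.centralizer (P : Set G) : Subgroup G)) q hqd
    have hyo' : orderOf y = q := by rw [← hyo, Subgroup.orderOf_mk]
    have hUc : Nat.card ↥(Subgroup.zpowers y) = q := by rw [Nat.card_zpowers, hyo']
    have hUq : IsPGroup q ↥(Subgroup.zpowers y) := IsPGroup.of_card (n := 1) (by rw [hUc, pow_one])
    have hUK : Subgroup.zpowers y ≤ Cfsg.sigmaCore M := Subgroup.zpowers_le.mpr hyD.1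
    have hUP : Subgroup.zpowers y ≤ Subgroup.centralizer (P : Set G) :=
      Subgroup.zpowers_le.mpr hyD.2
    have hPU : P ≤ Subgroup.normalizer ((Subgroup.zpowers y : Subgroup G) : Set G) := by
      refine le_trans ?_ (Subgroup.centralizer_le_normalizer _)
      intro a ha
      rw [Subgroup.mem_centralizer_iff]
      intro u hu
      exact (Subgroup.mem_centralizer_iff.mp (hUP hu) a ha).symm
    have hcop : (Nat.card ↥P).Coprime (Nat.card ↥(Cfsg.sigmaCore M)) := by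
      rw [hPc, Nat.Prime.coprime_iff_not_dvd hp.out]
      exact fun h => hpσ (mem_sigma_of_dvd_sigmaCore hG hM hp.out h)
    have hsolvP : Group.IsSolvable ↥P := by
      haveI : IsCyclic ↥P := isCyclic_of_prime_card hPc
      haveI : CommGroup ↥P := IsCyclic.commGroup
      infer_instance
    obtain ⟨Q, hUQ, hPQ⟩ := Cfsg.Agent.S0025.result P (Cfsg.sigmaCore M)
      (hPM.trans (le_normalizer_sigmaCore M)) hcop (Or.inl hsolvP) q (Subgroup.zpowers y) hUK hUq hPU
    have hQs : IsSylowIn q ((Q : Subgroup ↥(Cfsg.sigmaCore M)).map (Cfsg.sigmaCore M).subtype)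
        (Cfsg.sigmaCore M) := IsSylowIn.of_sylow Q
    have hbot := hfpf q hq hqσ hqα _ hQs hPQ
    have hy1 : y ∈ ((Q : Subgroup ↥(Cfsg.sigmaCore M)).map (Cfsg.sigmaCore M).subtype) ⊓
        Subgroup.centralizer (P : Set G) := ⟨hUQ (Subgroup.mem_zpowers y), hyD.2⟩
    rw [hbot, Subgroup.mem_bot] at hy1
    rw [hy1, orderOf_one] at hyo'
    exact hq.ne_one hyo'.symm
  have hDle : Cfsg.sigmaCore M ⊓ Subgroup.centralizer (P : Set G) ≤ Cfsg.alphaCore M := by
    apply le_of_coprime_relIndex (inf_le_left.trans (sigmaCore_le M)) hH.1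
      (Cfsg.Agent.Lib.Helper5.BG1218F.le_normalizer_alphaCore M)
    apply Nat.coprime_of_dvd
    intro k hk hk1 hk2
    exact hH.2.2 k hk (hDα k hk hk1) hk2
  have hDeq : Cfsg.sigmaCore M ⊓ Subgroup.centralizer (P : Set G) =
      Cfsg.alphaCore M ⊓ Subgroup.centralizer (P : Set G) :=
    le_antisymm (le_inf hDle inf_le_right) (inf_le_inf_right _ hασ)
  have heq : M ⊓ Subgroup.centralizer (P : Set G) =
      (Cfsg.alphaCore M ⊓ Subgroup.centralizer (P : Set G)) ⊔ P := by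
    apply le_antisymm
    · rintro x ⟨hxM, hxP⟩
      obtain ⟨a, ha, b, hb, hab⟩ :=
        centralizer_decomp hE (le_normalizer_sigmaCore M) hPE hxM hxP
      rw [hab, ← hDeq]
      exact Subgroup.mul_mem _ (Subgroup.mem_sup_right (hCE ha)) (Subgroup.mem_sup_left hb)
    · exact sup_le (inf_le_inf_right _ hαM) (le_inf hPM hPP)
  refine ⟨heq, ?_⟩
  intro q hq hqd
  rw [heq] at hqd
  have hPn : P ≤ Subgroup.normalizer
      ((Cfsg.alphaCore M ⊓ Subgroup.centralizer (P : Set G) : Subgroup G) : Set G) := by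
    refine le_trans ?_ (Subgroup.centralizer_le_normalizer _)
    intro a ha
    rw [Subgroup.mem_centralizer_iff]
    intro u hu
    exact (Subgroup.mem_centralizer_iff.mp hu.2 a ha).symm
  have h1 := Cfsg.Agent.H1.card_sup_mul_card_inf P
    (Cfsg.alphaCore M ⊓ Subgroup.centralizer (P : Set G)) hPn
  rw [sup_comm] at h1
  have h2 : q ∣ Nat.card ↥P *
      Nat.card ↥(Cfsg.alphaCore M ⊓ Subgroup.centralizer (P : Set G) : Subgroup G) := by
    rw [← h1]
    exact Dvd.dvd.mul_right hqd _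
  rcases (Nat.Prime.dvd_mul hq).mp h2 with h3 | h3
  · right
    rw [hPc] at h3
    exact (Nat.prime_dvd_prime_iff_eq hq hp.out).mp h3
  · left
    rw [← hDeq] at h3
    exact hDα q hq h3

end Cfsg.Agent.Lib.Helper5.BG13S
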