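import Mathlib
import Cfsg.Agent.Lib.Helper5.BG13S2
import Cfsg.Agent.S4213

/-!
# S1378 (B&G 13.9, blueprint Part 14), helper5's blocks, part 3: (H5-3) = step (Σ9)

`s ∈ β(M)`, `s' ∈ β(L)`, `X ≤ C_{M_α}(P)` of order `s`, `X' ≤ C_{L_α}(P)` of order `s'`, both
`C_{M_α}(P)` and `C_{L_α}(P)` of rank `≤ 1`, `π(C_M(P)) ⊆ α(M) ∪ {p}`, `π(C_L(P)) ⊆ α(L) ∪ {p}`,
`s' ∉ α(M) ∪ {p}`, `s ∉ α(L) ∪ {p}`: contradiction (a Hall `{s,s'}`-subgroup of `C_G(P)` has a normal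
subgroup of order `s` or `s'`).
-/

set_option autoImplicit false
set_option linter.unusedSectionVars false
set_option linter.unusedVariables false
set_option linter.style.haveILetI false
set_option maxHeartbeats 1000000
open Cfsg
open scoped commutatorElement Pointwise

namespace Cfsg.Agent.Lib.Helper5.BG13S

open Cfsg.Agent.Lib.Helper7 (IsSylowIn exists_isSylowIn_ge card_subgroupOf_of_le)
open Cfsg.Agent.Lib.Helper8.BGTen Cfsg.Agent.Lib.Helper4.BGTrans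
open Cfsg.Agent.Lib.helper3.BG11 Cfsg.Agent.Lib.helper3.BG12
open Cfsg.Agent.Lib.Helper4.BG1218
open Cfsg.Agent.Lib.Helper5.BG1218F

universe u

variable {G : Type u} [Group G] [Finite G]

/-- `N_G(X) ≤ M` for `X ≤ M` of order `s ∈ β(M)` -/
theorem normalizer_le_of_beta (hG : Cfsg.IsMinSimpleOddOrder G) {M : Subgroup G}
    (hM : IsCoatom M) {s : ℕ} [hs : Fact s.Prime] (hsβ : s ∈ Cfsg.beta M) {X : Subgroup G}
    (hXM : X ≤ M) (hXc : Nat.card ↥X = s) : Subgroup.normalizer (X : Set G) ≤ M := by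
  have hsσ : s ∈ Cfsg.sigma M := alpha_subset_sigma hG (uT hG) hM hsβ.1
  obtain ⟨Psyl⟩ : Nonempty (Sylow s ↥(Cfsg.sigmaCore M)) := inferInstance
  obtain ⟨hCX, huniq⟩ := (Cfsg.Agent.S1423.result hG M hM s hsσ X hXM hXc Psyl (Or.inl hsβ)).1
  have hX1 : X ≠ ⊥ := by
    intro h0
    rw [h0, Subgroup.card_bot] at hXc
    exact hs.out.one_lt.ne hXc
  have hXt : X ≠ ⊤ := fun h => hM.1 (top_le_iff.mp (h ▸ hXM))
  have hNt : Subgroup.normalizer (X : Set G) ≠ ⊤ :=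
    Cfsg.Agent.Lib.Helper4.BGUniq.normalizer_ne_top hG hX1 hXt
  obtain ⟨H, hH, hNH⟩ := exists_coatom_ge hNt
  have hHM : H = M := huniq H hH ((Subgroup.centralizer_le_normalizer _).trans hNH)
  rw [hHM] at hNH
  exact hNH

/-- a nontrivial solvable subgroup `B` all of whose subgroups of prime power order are cyclic has a
normal subgroup of prime order -/
theorem exists_normal_prime_order {B : Subgroup G} (hB1 : B ≠ ⊥) (hsolv : Group.IsSolvable ↥B)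
    (hcyc : ∀ ℓ : ℕ, ℓ.Prime → ℓ ∣ Nat.card ↥B → ∀ N : Subgroup G, N ≤ B → IsPGroup ℓ ↥N →
      IsCyclic ↥N) :
    ∃ ℓ : ℕ, ℓ.Prime ∧ ∃ N : Subgroup G, N ≤ B ∧ Nat.card ↥N = ℓ ∧
      B ≤ Subgroup.normalizer (N : Set G) := by
  haveI : Nontrivial ↥B := (Subgroup.nontrivial_iff_ne_bot B).mpr hB1
  obtain ⟨N, ℓ, hℓ, hNn, hN1, hexp⟩ := Cfsg.Agent.S4213.exists_normal_elementary hsolv
  haveI := hNn
  haveI : Fact ℓ.Prime := ⟨hℓ⟩
  have hN'B : N.map B.subtype ≤ B := Subgroup.map_subtype_le N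
  have hexp' : ∀ g ∈ N.map B.subtype, g ^ ℓ = 1 := by
    rintro g ⟨x, hx, rfl⟩
    have := hexp x hx
    rw [← map_pow, this, map_one]
  have hN'p : IsPGroup ℓ ↥(N.map B.subtype) := by
    rintro ⟨g, hg⟩
    refine ⟨1, ?_⟩
    rw [pow_one]
    exact Subtype.ext (by simpa using hexp' g hg)
  have hN'1 : N.map B.subtype ≠ ⊥ := by
    intro h
    apply hN1
    rwa [Subgroup.map_eq_bot_iff_of_injective _ B.subtype_injective] at h
  -- `ℓ ∣ |N'|`
  obtain ⟨⟨x, hxN⟩, hx1⟩ := (Subgroup.ne_bot_iff_exists_ne_one).mp hN'1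
  have hx1' : x ≠ 1 := fun h => hx1 (Subtype.ext h)
  have hxo : orderOf x = ℓ := orderOf_eq_prime (hexp' x hxN) hx1'
  have hℓN : ℓ ∣ Nat.card ↥(N.map B.subtype) := by
    have h1 : orderOf (⟨x, hxN⟩ : ↥(N.map B.subtype)) = ℓ := by rw [Subgroup.orderOf_mk, hxo]
    rw [← h1]
    exact orderOf_dvd_natCard _
  have hℓB : ℓ ∣ Nat.card ↥B := hℓN.trans (Subgroup.card_dvd_of_le hN'B)
  haveI hc : IsCyclic ↥(N.map B.subtype) := hcyc ℓ hℓ hℓB _ hN'B hN'p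
  obtain ⟨⟨g, hgN⟩, hg⟩ := IsCyclic.exists_generator (α := ↥(N.map B.subtype))
  have hcard : Nat.card ↥(N.map B.subtype) = orderOf (⟨g, hgN⟩ : ↥(N.map B.subtype)) :=
    (orderOf_eq_card_of_forall_mem_zpowers hg).symm
  have hgo : orderOf (⟨g, hgN⟩ : ↥(N.map B.subtype)) ∣ ℓ := by
    rw [Subgroup.orderOf_mk]
    exact orderOf_dvd_of_pow_eq_one (hexp' g hgN)
  refine ⟨ℓ, hℓ, N.map B.subtype, hN'B, ?_,
    Cfsg.Agent.Lib.Helper4.TypeP.le_normalizer_map_subtype B N⟩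
  rcases (Nat.dvd_prime hℓ).mp hgo with h1 | h1
  · exfalso
    rw [h1] at hcard
    exact hN'1 (Subgroup.card_eq_one.mp hcard)
  · rw [hcard, h1]

/-- one side of (Σ9): if `B ≤ C_G(P)` normalizes a subgroup `N ≤ C_G(P)` of order `s ∈ β(M)`, then
`π(B) ⊆ α(M) ∪ {p}` -/
theorem sigma9_side (hG : Cfsg.IsMinSimpleOddOrder G) {M : Subgroup G} (hM : IsCoatom M)
    {P : Subgroup G} {p s : ℕ} [hs : Fact s.Prime] (hsβ : s ∈ Cfsg.beta M) {X : Subgroup G}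
    (hXα : X ≤ Cfsg.alphaCore M) (hXP : X ≤ Subgroup.centralizer (P : Set G))
    (hXc : Nat.card ↥X = s)
    (hrk : Cfsg.RankLE 1 ↥(Cfsg.alphaCore M ⊓ Subgroup.centralizer (P : Set G)))
    (hpr : ∀ q : ℕ, q.Prime → q ∣ Nat.card ↥(M ⊓ Subgroup.centralizer (P : Set G) : Subgroup G) →
      q ∈ Cfsg.alpha M ∨ q = p)
    {B N : Subgroup G} (hBC : B ≤ Subgroup.centralizer (P : Set G)) (hNB : N ≤ B)
    (hNc : Nat.card ↥N = s) (hBN : B ≤ Subgroup.normalizer (N : Set G)) :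
    ∀ q : ℕ, q.Prime → q ∣ Nat.card ↥B → q ∈ Cfsg.alpha M ∨ q = p := by
  have hαM : Cfsg.alphaCore M ≤ M := (Cfsg.Agent.S1405.result hG M hM).1.1
  have hXM : X ≤ M := hXα.trans hαM
  have hXs : IsPGroup s ↥X := IsPGroup.of_card (n := 1) (by rw [hXc, pow_one])
  have hNs : IsPGroup s ↥N := IsPGroup.of_card (n := 1) (by rw [hNc, pow_one])
  obtain ⟨S0, hS0, hXS0⟩ := exists_isSylowIn_ge hXs hXP
  obtain ⟨S, hS, hNS⟩ := exists_isSylowIn_ge hNs (hNB.trans hBC)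
  have hScyc : IsCyclic ↥S := sylow_centralizer_cyclic hG hM hsβ hXα hXP hXc hrk S hS
  obtain ⟨c, hc, hSc⟩ := hS0.conj hS
  have hcX : cj c X ≤ S := by
    rw [hSc]
    exact cj_mono c hXS0
  have hNX : N = cj c X :=
    Cfsg.Agent.Lib.Helper4.BGUniq.eq_of_card_eq_of_le_cyclic hS.isPGroup hScyc hNS hcX
      (by rw [card_cj, hNc, hXc])
  have hNX' : Subgroup.normalizer (X : Set G) ≤ M := normalizer_le_of_beta hG hM hsβ hXM hXc
  have h1 : B ≤ cj c M := by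
    refine hBN.trans ?_
    rw [hNX, ← cj_normalizer]
    exact cj_mono c hNX'
  have h2 : cj c⁻¹ B ≤ M := by
    have := cj_mono c⁻¹ h1
    rwa [cj_inv_cj] at this
  have h3 : cj c⁻¹ B ≤ Subgroup.centralizer (P : Set G) := by
    have := cj_mono c⁻¹ hBC
    rwa [cj_eq_of_mem (Subgroup.inv_mem _ hc)] at this
  intro q hq hqd
  apply hpr q hq
  rw [← card_cj c⁻¹ B] at hqd
  exact hqd.trans (Subgroup.card_dvd_of_le (le_inf h2 h3))

/-- **(H5-3)** = step (Σ9) of the blueprint for S1378 -/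
theorem sigma9 (hG : Cfsg.IsMinSimpleOddOrder G) {M L : Subgroup G} (hM : IsCoatom M)
    (hL : IsCoatom L) {P : Subgroup G} (hP1 : P ≠ ⊥) {p s s' : ℕ} [hs : Fact s.Prime]
    [hs' : Fact s'.Prime] (hss' : s ≠ s') (hsβ : s ∈ Cfsg.beta M) (hs'β : s' ∈ Cfsg.beta L)
    (hs'M : s' ∉ Cfsg.alpha M) (hsL : s ∉ Cfsg.alpha L) (hsp : s ≠ p) (hs'p : s' ≠ p)
    {X X' : Subgroup G}
    (hXα : X ≤ Cfsg.alphaCore M) (hXP : X ≤ Subgroup.centralizer (P : Set G))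
    (hXc : Nat.card ↥X = s)
    (hX'α : X' ≤ Cfsg.alphaCore L) (hX'P : X' ≤ Subgroup.centralizer (P : Set G))
    (hX'c : Nat.card ↥X' = s')
    (hrkM : Cfsg.RankLE 1 ↥(Cfsg.alphaCore M ⊓ Subgroup.centralizer (P : Set G)))
    (hrkL : Cfsg.RankLE 1 ↥(Cfsg.alphaCore L ⊓ Subgroup.centralizer (P : Set G)))
    (hprM : ∀ q : ℕ, q.Prime →
      q ∣ Nat.card ↥(M ⊓ Subgroup.centralizer (P : Set G) : Subgroup G) → q ∈ Cfsg.alpha M ∨ q = p)
    (hprL : ∀ q : ℕ, q.Prime →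
      q ∣ Nat.card ↥(L ⊓ Subgroup.centralizer (P : Set G) : Subgroup G) → q ∈ Cfsg.alpha L ∨ q = p) :
    False := by
  have hCt : Subgroup.centralizer (P : Set G) ≠ ⊤ :=
    Cfsg.Agent.Lib.Helper4.BGUniq.centralizer_ne_top hG hP1
  have hsolvC : Group.IsSolvable ↥(Subgroup.centralizer (P : Set G)) := hG.2.2.2 _ hCt
  obtain ⟨B, hB⟩ := Cfsg.Agent.H1.exists_isPiHallOf ({s, s'} : Set ℕ)
    (Subgroup.centralizer (P : Set G)) hsolvC
  obtain ⟨hBC, hBπ, hBidx⟩ := hB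
  have hBt : B ≠ ⊤ := fun h => hCt (top_le_iff.mp (h ▸ hBC))
  have hsolvB : Group.IsSolvable ↥B := hG.2.2.2 _ hBt
  have hcardC : B.relIndex (Subgroup.centralizer (P : Set G)) * Nat.card ↥B =
      Nat.card ↥(Subgroup.centralizer (P : Set G)) :=
    (Cfsg.Agent.H1.card_eq_relIndex_mul_card hBC).symm
  have hdvdB : ∀ q : ℕ, q.Prime → q ∈ ({s, s'} : Set ℕ) →
      q ∣ Nat.card ↥(Subgroup.centralizer (P : Set G)) → q ∣ Nat.card ↥B := by
    intro q hq hqπ hqd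
    rw [← hcardC] at hqd
    rcases (Nat.Prime.dvd_mul hq).mp hqd with h | h
    · exact absurd h (hBidx q hq hqπ)
    · exact h
  have hsB : s ∣ Nat.card ↥B := by
    apply hdvdB s hs.out (Set.mem_insert _ _)
    rw [← hXc]
    exact Subgroup.card_dvd_of_le hXP
  have hs'B : s' ∣ Nat.card ↥B := by
    apply hdvdB s' hs'.out (Set.mem_insert_of_mem _ rfl)
    rw [← hX'c]
    exact Subgroup.card_dvd_of_le hX'P
  have hB1 : B ≠ ⊥ := by
    intro h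
    rw [h, Subgroup.card_bot] at hsB
    exact hs.out.one_lt.ne' (Nat.dvd_one.mp hsB)
  have hcyc : ∀ ℓ : ℕ, ℓ.Prime → ℓ ∣ Nat.card ↥B → ∀ N : Subgroup G, N ≤ B → IsPGroup ℓ ↥N →
      IsCyclic ↥N := by
    intro ℓ hℓ hℓB N hNB hNℓ
    haveI : Fact ℓ.Prime := ⟨hℓ⟩
    obtain ⟨S, hS, hNS⟩ := exists_isSylowIn_ge hNℓ (hNB.trans hBC)
    have hScyc : IsCyclic ↥S := by
      rcases hBπ ℓ hℓ hℓB with h | h
      · subst h
        exact sylow_centralizer_cyclic hG hM hsβ hXα hXP hXc hrkM S hS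
      · rw [Set.mem_singleton_iff] at h
        subst h
        exact sylow_centralizer_cyclic hG hL hs'β hX'α hX'P hX'c hrkL S hS
    haveI := hScyc
    exact isCyclic_of_injective (Subgroup.inclusion hNS) (Subgroup.inclusion_injective hNS)
  obtain ⟨ℓ, hℓ, N, hNB, hNc, hBN⟩ := exists_normal_prime_order hB1 hsolvB hcyc
  have hℓB : ℓ ∣ Nat.card ↥B := by
    rw [← hNc]
    exact Subgroup.card_dvd_of_le hNB
  rcases hBπ ℓ hℓ hℓB with h | h
  · subst h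
    rcases sigma9_side hG hM hsβ hXα hXP hXc hrkM hprM hBC hNB hNc hBN s' hs'.out hs'B with h1 | h1
    · exact hs'M h1
    · exact hs'p h1
  · rw [Set.mem_singleton_iff] at h
    subst h
    rcases sigma9_side hG hL hs'β hX'α hX'P hX'c hrkL hprL hBC hNB hNc hBN s hs.out hsB with h1 | h1
    · exact hsL h1
    · exact hsp h1

end Cfsg.Agent.Lib.Helper5.BG13S
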