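import Mathlib

/-!
# Transvections in `SL_n` (helper5's shared lemmas)
-/

set_option autoImplicit false

namespace Cfsg.Agent.Lib.Helper5.SLn

open Matrix Matrix.SpecialLinearGroup
open scoped commutatorElement

variable {F : Type*} [Field F] {ι : Type*} [Fintype ι] [DecidableEq ι]

theorem transvection_mulVec' {i j : ι} (hij : i ≠ j) (c : F) (v : ι → F) :
    (SpecialLinearGroup.transvection hij c).1 *ᵥ v = Function.update v i (v i + c * v j) := by
  ext k
  rw [transvection_coe, Matrix.add_mulVec, Matrix.one_mulVec]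
  by_cases hk : k = i
  · subst hk
    simp [Matrix.single_mulVec_eq]
  · simp [Matrix.single_mulVec_eq, hk]

theorem diag2n_decompose {i j : ι} (hij : i ≠ j) (a : F) (ha : a ≠ 0) :
    diag2n hij a ha = SpecialLinearGroup.transvection hij a *
      SpecialLinearGroup.transvection hij.symm (- a⁻¹) *
      SpecialLinearGroup.transvection hij a *
      SpecialLinearGroup.transvection hij (-1) *
      SpecialLinearGroup.transvection hij.symm 1 *
      SpecialLinearGroup.transvection hij (-1) := by
  apply Subtype.ext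
  rw [Matrix.ext_iff_mulVec]
  intro v
  simp only [coe_mul]
  simp only [← Matrix.mulVec_mulVec]
  simp only [transvection_mulVec', diag2n_coe]
  ext k
  rw [Matrix.mulVec_diagonal]
  have hji := hij.symm
  by_cases hki : k = i
  · subst hki
    simp [hij, hji]
    field_simp
    ring
  · by_cases hkj : k = j
    · subst hkj
      simp [hij, hji]
      field_simp
      ring
    · simp [hki, hkj]

/-- For three distinct indices, `T_ij(c) = ⁅T_ik(c), T_kj(1)⁆`. -/
theorem transvection_eq_commutator {i j k : ι} (hij : i ≠ j) (hik : i ≠ k) (hkj : k ≠ j) (c : F) :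
    SpecialLinearGroup.transvection hij c =
      ⁅SpecialLinearGroup.transvection hik c, SpecialLinearGroup.transvection hkj (1 : F)⁆ := by
  rw [commutatorElement_def, transvection_inv, transvection_inv]
  apply Subtype.ext
  rw [Matrix.ext_iff_mulVec]
  intro v
  simp only [coe_mul]
  simp only [← Matrix.mulVec_mulVec]
  simp only [transvection_mulVec']
  ext l
  have hji := hij.symm
  have hki := hik.symm
  have hjk := hkj.symm
  by_cases hli : l = i
  · subst hli
    simp [hik, hji, hki, hjk]
    ring
  · by_cases hlk : l = k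
    · subst hlk
      simp [hik, hji, hki, hjk]
    · simp [hli, hlk, hik, hji, hki, hjk]

/-- `⁅diag2n_ij(a), T_ij(b)⁆ = T_ij(b (a² - 1))`. -/
theorem commutator_diag2n_transvection {i j : ι} (hij : i ≠ j) (a : F) (ha : a ≠ 0) (b : F) :
    ⁅diag2n hij a ha, SpecialLinearGroup.transvection hij b⁆ =
      SpecialLinearGroup.transvection hij (b * (a ^ 2 - 1)) := by
  rw [commutatorElement_def, mul_inv_eq_iff_eq_mul, mul_inv_eq_iff_eq_mul]
  apply Subtype.ext
  rw [Matrix.ext_iff_mulVec]
  intro v
  simp only [coe_mul]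
  simp only [← Matrix.mulVec_mulVec]
  simp only [transvection_mulVec', diag2n_coe]
  ext k
  have hji := hij.symm
  by_cases hki : k = i
  · subst hki
    simp [Matrix.mulVec_diagonal, hji]
    field_simp
    ring
  · by_cases hkj : k = j
    · subst hkj
      simp [Matrix.mulVec_diagonal, hji]
    · simp [Matrix.mulVec_diagonal, hki, hkj]

/-- Elementary transvections are commutators, for `n ≥ 3` or when there is `x ≠ 0` with `x² ≠ 1`. -/
theorem transvection_mem_commutatorSet {i j : ι}
    (h : (∃ k, k ≠ i ∧ k ≠ j) ∨ ∃ x : F, x ≠ 0 ∧ x ^ 2 ≠ 1) (hij : i ≠ j) (c : F) :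
    SpecialLinearGroup.transvection hij c ∈ commutatorSet (SpecialLinearGroup ι F) := by
  rcases h with ⟨k, hki, hkj⟩ | ⟨x, hx, hx2⟩
  · exact ⟨_, _, (transvection_eq_commutator hij hki.symm hkj c).symm⟩
  · refine ⟨diag2n hij x hx, SpecialLinearGroup.transvection hij (c / (x ^ 2 - 1)), ?_⟩
    rw [commutator_diag2n_transvection, div_mul_cancel₀ c (sub_ne_zero_of_ne hx2)]

/-- `SL_n(F)` is perfect when every pair of indices has a third index, or `F` has `x ≠ 0, x² ≠ 1`. -/
theorem commutator_eq_top [Nontrivial ι]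
    (h : (∀ i j : ι, ∃ k, k ≠ i ∧ k ≠ j) ∨ ∃ x : F, x ≠ 0 ∧ x ^ 2 ≠ 1) :
    commutator (SpecialLinearGroup ι F) = ⊤ := by
  have htr : ∀ (i j : ι) (hij : i ≠ j) (c : F),
      SpecialLinearGroup.transvection hij c ∈ commutator (SpecialLinearGroup ι F) := by
    intro i j hij c
    rw [commutator_eq_closure]
    apply Subgroup.subset_closure
    apply transvection_mem_commutatorSet _ hij c
    rcases h with h | h
    · exact Or.inl (h i j)
    · exact Or.inr h
  refine le_antisymm le_top (fun A _ ↦ ?_)
  refine diagonal_transvection_induction' (fun A => A ∈ commutator (SpecialLinearGroup ι F)) A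
    ?_ htr (fun _ _ ↦ mul_mem)
  intro i j hij c hc
  rw [diag2n_decompose hij c hc]
  exact mul_mem (mul_mem (mul_mem (mul_mem (mul_mem (htr _ _ _ _) (htr _ _ _ _)) (htr _ _ _ _))
    (htr _ _ _ _)) (htr _ _ _ _)) (htr _ _ _ _)

end Cfsg.Agent.Lib.Helper5.SLn
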