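import Mathlib
import Cfsg.Prelude.Def_ClassicalGeometry

/-!
# The standard Hermitian form over a field with `q²` elements (helper5's shared lemmas)
-/

set_option autoImplicit false

namespace Cfsg.Agent.Lib.Helper5.Herm

open Matrix Cfsg

variable {F : Type*} [Field F] [Fintype F] {q : ℕ}

set_option linter.unusedSectionVars false

/-- If `|F| = q²` then `q` is a power of the characteristic; we package the Frobenius-like map. -/
theorem exists_char_pow (hF : Fintype.card F = q ^ 2) :
    ∃ (p j : ℕ), p.Prime ∧ CharP F p ∧ q = p ^ j := by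
  obtain ⟨p, hp⟩ := CharP.exists F
  obtain ⟨n, hprime, hcard⟩ := FiniteField.card F p
  have hdvd : q ∣ p ^ (n : ℕ) := by
    rw [← hcard, hF]
    exact Dvd.intro_left _ (by ring)
  obtain ⟨j, _, hj⟩ := (Nat.dvd_prime_pow hprime).1 hdvd
  exact ⟨p, j, hprime, hp, hj⟩

theorem one_lt_q (hF : Fintype.card F = q ^ 2) : 1 < q := by
  have := Fintype.one_lt_card (α := F)
  rw [hF] at this
  by_contra h
  push Not at h
  interval_cases q <;> simp at this

theorem frob_add (hF : Fintype.card F = q ^ 2) (a b : F) : (a + b) ^ q = a ^ q + b ^ q := by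
  obtain ⟨p, j, hp, hchar, rfl⟩ := exists_char_pow hF
  have : Fact p.Prime := ⟨hp⟩
  exact add_pow_char_pow a b p j

theorem frob_sum (hF : Fintype.card F = q ^ 2) {ι : Type*} (s : Finset ι) (f : ι → F) :
    (∑ i ∈ s, f i) ^ q = ∑ i ∈ s, f i ^ q := by
  obtain ⟨p, j, hp, hchar, rfl⟩ := exists_char_pow hF
  have : Fact p.Prime := ⟨hp⟩
  exact sum_pow_char_pow p j s f

theorem frob_neg (hF : Fintype.card F = q ^ 2) (a : F) : (-a) ^ q = -(a ^ q) := by
  have h := frob_add hF a (-a)
  rw [add_neg_cancel, zero_pow (by have := one_lt_q hF; omega)] at h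
  exact (eq_neg_of_add_eq_zero_right h.symm)

theorem frob_sub (hF : Fintype.card F = q ^ 2) (a b : F) : (a - b) ^ q = a ^ q - b ^ q := by
  rw [sub_eq_add_neg, frob_add hF, frob_neg hF, sub_eq_add_neg]

theorem frob_frob (hF : Fintype.card F = q ^ 2) (a : F) : (a ^ q) ^ q = a := by
  rw [← pow_mul, ← sq, ← hF, FiniteField.pow_card]

theorem hermForm_add_left (n : ℕ) (x x' y : Fin n → F) :
    hermForm n F q (x + x') y = hermForm n F q x y + hermForm n F q x' y := by
  unfold hermForm
  rw [← Finset.sum_add_distrib]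
  apply Finset.sum_congr rfl
  intro i _
  simp only [Pi.add_apply]
  ring

theorem hermForm_smul_left (n : ℕ) (a : F) (x y : Fin n → F) :
    hermForm n F q (a • x) y = a * hermForm n F q x y := by
  unfold hermForm
  rw [Finset.mul_sum]
  apply Finset.sum_congr rfl
  intro i _
  simp only [Pi.smul_apply, smul_eq_mul]
  ring

theorem hermForm_add_right (hF : Fintype.card F = q ^ 2) (n : ℕ) (x y y' : Fin n → F) :
    hermForm n F q x (y + y') = hermForm n F q x y + hermForm n F q x y' := by
  unfold hermForm
  rw [← Finset.sum_add_distrib]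
  apply Finset.sum_congr rfl
  intro i _
  simp only [Pi.add_apply]
  rw [frob_add hF]
  ring

theorem hermForm_smul_right (n : ℕ) (a : F) (x y : Fin n → F) :
    hermForm n F q x (a • y) = a ^ q * hermForm n F q x y := by
  unfold hermForm
  rw [Finset.mul_sum]
  apply Finset.sum_congr rfl
  intro i _
  simp only [Pi.smul_apply, smul_eq_mul, mul_pow]
  ring

/-- Hermitian symmetry. -/
theorem hermForm_swap (hF : Fintype.card F = q ^ 2) (n : ℕ) (x y : Fin n → F) :
    hermForm n F q x y = (hermForm n F q y x) ^ q := by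
  unfold hermForm
  rw [frob_sum hF]
  apply Finset.sum_congr rfl
  intro i _
  rw [mul_pow, frob_frob hF, mul_comm]

theorem hermForm_zero_left (n : ℕ) (y : Fin n → F) : hermForm n F q 0 y = 0 := by
  unfold hermForm
  simp

theorem hermForm_zero_right (hF : Fintype.card F = q ^ 2) (n : ℕ) (x : Fin n → F) :
    hermForm n F q x 0 = 0 := by
  unfold hermForm
  have := one_lt_q hF
  simp [zero_pow (show q ≠ 0 by omega)]

theorem hermForm_single_left (n : ℕ) (i : Fin n) (y : Fin n → F) :
    hermForm n F q (Pi.single i 1) y = (y i) ^ q := by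
  unfold hermForm
  simp [Pi.single_apply]

theorem hermForm_single_right (hq : q ≠ 0) (n : ℕ) (i : Fin n) (x : Fin n → F) :
    hermForm n F q x (Pi.single i 1) = x i := by
  unfold hermForm
  rw [Finset.sum_eq_single i]
  · simp
  · intro j _ hj
    simp [hj, hq]
  · intro h
    exact absurd (Finset.mem_univ i) h

/-- action of the unitary transvection on a vector -/
theorem unitaryTransvection_mulVec (n : ℕ) (v : Fin n → F) (c : F) (x : Fin n → F) :
    unitaryTransvection n q v c *ᵥ x = x + (c * hermForm n F q x v) • v := by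
  unfold unitaryTransvection hermForm
  rw [Matrix.add_mulVec, Matrix.one_mulVec, Matrix.smul_mulVec, Matrix.vecMulVec_mulVec,
    op_smul_eq_smul, smul_smul, dotProduct_comm]
  rfl

end Cfsg.Agent.Lib.Helper5.Herm
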