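import Mathlib
import Cfsg.Prelude.Def_Classical
import Cfsg.Agent.Lib.Helper5.Herm
import Cfsg.Agent.S0754

/-!
# Counting vectors of given norm for the standard Hermitian form (helper5)
-/

set_option autoImplicit false

namespace Cfsg.Agent.Lib.Helper5.HermCount

open Cfsg Cfsg.Agent.Lib.Helper5.Herm

variable {F : Type*} [Field F] [Fintype F] {q : ℕ}

/-- number of `v ∈ F^n` with `∑ v_i^(q+1) = c` -/
noncomputable def cnt (F : Type*) [Field F] (q n : ℕ) (c : F) : ℕ :=
  Nat.card {v : Fin n → F // ∑ i, v i ^ (q + 1) = c}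

theorem card_hermForm_eq (n : ℕ) (c : F) :
    Nat.card {v : Fin n → F // hermForm n F q v v = c} = cnt F q n c := by
  unfold cnt hermForm
  simp only [pow_succ']

theorem cnt_zero (c : F) [DecidableEq F] : cnt F q 0 c = if c = 0 then 1 else 0 := by
  unfold cnt
  simp only [Finset.univ_eq_empty, Finset.sum_empty]
  split_ifs with h
  · subst h
    rw [Nat.card_eq_one_iff_unique]
    exact ⟨⟨fun a b => Subtype.ext (Subsingleton.elim _ _)⟩, ⟨⟨0, rfl⟩⟩⟩
  · rw [Nat.card_eq_zero]
    left
    exact ⟨fun v => h v.2.symm⟩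

theorem cnt_succ (n : ℕ) (c : F) :
    cnt F q (n + 1) c = ∑ x : F, cnt F q n (c - x ^ (q + 1)) := by
  classical
  unfold cnt
  rw [← Nat.card_sigma]
  apply Nat.card_congr
  exact
    { toFun := fun v => ⟨v.1 0, ⟨fun i => v.1 i.succ, by
        have := v.2
        rw [Fin.sum_univ_succ] at this
        exact eq_sub_of_add_eq' this⟩⟩
      invFun := fun p => ⟨Fin.cons p.1 p.2.1, by
        rw [Fin.sum_univ_succ]
        simp only [Fin.cons_zero, Fin.cons_succ]
        rw [p.2.2]; ring⟩
      left_inv := fun v => by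
        apply Subtype.ext
        funext i
        refine Fin.cases ?_ (fun j => ?_) i <;> simp
      right_inv := fun p => by
        rcases p with ⟨x, w, hw⟩
        rfl }

/-- fibres of the norm map -/
theorem card_norm_fiber [DecidableEq F] (hF : Fintype.card F = q ^ 2) (d : F) :
    (Finset.univ.filter (fun x : F => x ^ (q + 1) = d)).card =
      if d = 0 then 1 else if d ^ q = d then q + 1 else 0 := by
  have hq := one_lt_q hF
  split_ifs with h0 h1
  · subst h0
    have : (Finset.univ.filter (fun x : F => x ^ (q + 1) = 0)) = {0} := by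
      ext x
      simp
    rw [this, Finset.card_singleton]
  · have := Cfsg.Agent.S0754.result hF d h0 h1
    rw [← Fintype.card_subtype, ← Nat.card_eq_fintype_card]
    exact this
  · rw [Finset.card_eq_zero, Finset.filter_eq_empty_iff]
    intro x _ hx
    apply h1
    rw [← hx, ← pow_mul, add_mul, one_mul, pow_add, ← sq, ← hF, FiniteField.pow_card, pow_succ']

/-- regrouping a sum along the norm map -/
theorem sum_norm [DecidableEq F] (hF : Fintype.card F = q ^ 2) (f : F → ℕ) :
    ∑ x : F, f (x ^ (q + 1)) =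
      f 0 + (q + 1) * ∑ d ∈ Finset.univ.filter (fun d : F => d ≠ 0 ∧ d ^ q = d), f d := by
  rw [← Finset.sum_fiberwise Finset.univ (fun x : F => x ^ (q + 1)) (fun x => f (x ^ (q + 1)))]
  have h1 : ∀ d : F, ∑ x ∈ Finset.univ.filter (fun x : F => x ^ (q + 1) = d), f (x ^ (q + 1)) =
      (if d = 0 then f 0 else 0) + (if d ≠ 0 ∧ d ^ q = d then (q + 1) * f d else 0) := by
    intro d
    have h2 : ∑ x ∈ Finset.univ.filter (fun x : F => x ^ (q + 1) = d), f (x ^ (q + 1)) =
        ∑ x ∈ Finset.univ.filter (fun x : F => x ^ (q + 1) = d), f d := by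
      apply Finset.sum_congr rfl
      intro x hx
      rw [(Finset.mem_filter.mp hx).2]
    rw [h2, Finset.sum_const, card_norm_fiber hF d, smul_eq_mul]
    by_cases h0 : d = 0
    · subst h0; simp
    · by_cases hd : d ^ q = d
      · simp [h0, hd]
      · simp [h0, hd]
  rw [Finset.sum_congr rfl (fun d _ => h1 d), Finset.sum_add_distrib, Finset.sum_ite_eq',
    if_pos (Finset.mem_univ _), ← Finset.sum_filter, Finset.mul_sum]

/-- the fixed field minus zero has `q - 1` elements -/
theorem card_Kx [DecidableEq F] (hF : Fintype.card F = q ^ 2) :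
    (Finset.univ.filter (fun d : F => d ≠ 0 ∧ d ^ q = d)).card = q - 1 := by
  have hq := one_lt_q hF
  have h := sum_norm hF (fun _ : F => 1)
  simp only [Finset.sum_const, Finset.card_univ, smul_eq_mul, mul_one] at h
  rw [hF] at h
  have h3 : q ^ 2 = 1 + (q + 1) * (q - 1) := by
    obtain ⟨k, rfl⟩ : ∃ k, q = k + 1 := ⟨q - 1, by omega⟩
    simp only [Nat.add_sub_cancel]; ring
  rw [h3] at h
  have h4 : (q + 1) * (q - 1) = (q + 1) * (Finset.univ.filter (fun d : F => d ≠ 0 ∧ d ^ q = d)).card := by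
    omega
  exact (Nat.eq_of_mul_eq_mul_left (by omega) h4).symm

/-- the recurrences -/
def uz (q : ℕ) : ℕ → ℕ × ℕ
  | 0 => (0, 1)
  | n + 1 => ((uz q n).1 + (q + 1) * ((uz q n).2 + (q - 2) * (uz q n).1),
              (uz q n).2 + (q + 1) * ((q - 1) * (uz q n).1))

theorem cnt_eq_uz (hF : Fintype.card F = q ^ 2) (n : ℕ) :
    (∀ c : F, c ≠ 0 → c ^ q = c → cnt F q n c = (uz q n).1) ∧ cnt F q n (0 : F) = (uz q n).2 := by
  classical
  have hq := one_lt_q hF
  induction n with
  | zero =>
    refine ⟨fun c hc _ => ?_, ?_⟩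
    · rw [cnt_zero, if_neg hc]; rfl
    · rw [cnt_zero, if_pos rfl]; rfl
  | succ n ih =>
    obtain ⟨ihu, ihz⟩ := ih
    refine ⟨fun c hc hcq => ?_, ?_⟩
    · rw [cnt_succ, sum_norm hF (fun d => cnt F q n (c - d)), sub_zero, ihu c hc hcq]
      change _ = (uz q n).1 + (q + 1) * ((uz q n).2 + (q - 2) * (uz q n).1)
      congr 2
      have hcmem : c ∈ Finset.univ.filter (fun d : F => d ≠ 0 ∧ d ^ q = d) := by
        simp [hc, hcq]
      rw [← Finset.add_sum_erase _ _ hcmem, sub_self, ihz]
      congr 1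
      have : ∀ d ∈ (Finset.univ.filter (fun d : F => d ≠ 0 ∧ d ^ q = d)).erase c,
          cnt F q n (c - d) = (uz q n).1 := by
        intro d hd
        rw [Finset.mem_erase, Finset.mem_filter] at hd
        apply ihu
        · exact sub_ne_zero.mpr (Ne.symm hd.1)
        · rw [frob_sub hF, hcq, hd.2.2.2]
      rw [Finset.sum_congr rfl this, Finset.sum_const, Finset.card_erase_of_mem hcmem,
        card_Kx hF, smul_eq_mul]
      congr 1
    · rw [cnt_succ, sum_norm hF (fun d => cnt F q n (0 - d)), sub_zero, ihz]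
      change _ = (uz q n).2 + (q + 1) * ((q - 1) * (uz q n).1)
      congr 2
      have : ∀ d ∈ (Finset.univ.filter (fun d : F => d ≠ 0 ∧ d ^ q = d)),
          cnt F q n (0 - d) = (uz q n).1 := by
        intro d hd
        rw [Finset.mem_filter] at hd
        apply ihu
        · rw [zero_sub]; exact neg_ne_zero.mpr hd.2.1
        · rw [zero_sub, frob_neg hF, hd.2.2]
      rw [Finset.sum_congr rfl this, Finset.sum_const, card_Kx hF, smul_eq_mul]

/-- closed forms over ℤ -/
theorem uz_closed (hq : 2 ≤ q) (n : ℕ) :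
    (q : ℤ) * ((uz q n).1 : ℤ) = (q : ℤ) ^ n * ((q : ℤ) ^ n - (-1) ^ n) ∧
    ((uz q n).2 : ℤ) + ((q : ℤ) - 1) * ((uz q n).1 : ℤ) = (q : ℤ) ^ (2 * n) := by
  induction n with
  | zero => simp [uz]
  | succ n ih =>
    obtain ⟨h1, h2⟩ := ih
    have e1 : (uz q (n + 1)).1 = (uz q n).1 + (q + 1) * ((uz q n).2 + (q - 2) * (uz q n).1) := rfl
    have e2 : (uz q (n + 1)).2 = (uz q n).2 + (q + 1) * ((q - 1) * (uz q n).1) := rfl
    rw [e1, e2]
    push_cast [show 2 ≤ q from hq, show 1 ≤ q by omega]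
    have h3 : ((uz q n).2 : ℤ) = (q : ℤ) ^ (2 * n) - ((q : ℤ) - 1) * ((uz q n).1 : ℤ) := by
      linarith
    rw [h3]
    constructor
    · have : (q : ℤ) ^ (2 * n) = (q : ℤ) ^ n * (q : ℤ) ^ n := by rw [two_mul, pow_add]
      rw [this]
      rw [pow_succ, pow_succ]
      linear_combination (-(q : ℤ)) * h1
    · have : (q : ℤ) ^ (2 * (n + 1)) = (q : ℤ) ^ (2 * n) * (q : ℤ) ^ 2 := by
        rw [mul_add, pow_add]
      rw [this]
      ring

end Cfsg.Agent.Lib.Helper5.HermCount
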