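import Mathlib
import Cfsg.Agent.S0755

/-!
# Counting orthonormal bases of Hermitian spaces over finite fields (helper5's shared lemmas)
-/

set_option autoImplicit false

namespace Cfsg.Agent.Lib.Helper5.UnitaryCount

universe u v

section
variable {F : Type v} {V : Type u} [Field F] [AddCommGroup V] [Module F V] {σ : F →+* F}
  (B : V →ₛₗ[σ] V →ₗ[F] F)

/-- orthonormal families -/
def IsON (n : ℕ) (v : Fin n → V) : Prop := ∀ i j, B (v i) (v j) = if i = j then 1 else 0

/-- the type of orthonormal families of length `n` -/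
abbrev ON (n : ℕ) : Type u := {v : Fin n → V // IsON B n v}

/-- the orthogonal complement of a vector -/
abbrev perp (u : V) : Submodule F V := LinearMap.ker (B u)

/-- the form restricted to the orthogonal complement of a vector -/
abbrev restr (u : V) : perp B u →ₛₗ[σ] perp B u →ₗ[F] F :=
  B.domRestrict₁₂ (perp B u) (perp B u)

variable {B}

theorem restr_isSymm (hS : B.IsSymm) (u : V) : (restr B u).IsSymm := hS.domRestrict _

theorem finrank_perp [FiniteDimensional F V] {u : V} (hu : B u u = 1) :
    Module.finrank F (perp B u) + 1 = Module.finrank F V := by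
  have hsurj : Function.Surjective (B u) := by
    intro c
    exact ⟨c • u, by rw [map_smul, hu, smul_eq_mul, mul_one]⟩
  have := LinearMap.finrank_range_add_finrank_ker (B u)
  rw [LinearMap.range_eq_top.2 hsurj] at this
  simp at this
  change 1 + Module.finrank F (perp B u) = Module.finrank F V at this
  omega

theorem restr_sepLeft (hS : B.IsSymm) (hB : B.SeparatingLeft) {u : V} (hu : B u u = 1) :
    (restr B u).SeparatingLeft := by
  intro w hw
  have hw' : ∀ y ∈ perp B u, B w y = 0 := by
    intro y hy
    have := hw ⟨y, hy⟩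
    rw [LinearMap.domRestrict₁₂_apply] at this
    exact this
  have hwu : B (w : V) u = 0 := by
    rw [← hS.eq u w, LinearMap.mem_ker.1 w.2, map_zero]
  have : (w : V) = 0 := by
    apply hB
    intro x
    have hx : x - (B u x) • u ∈ perp B u := by
      rw [LinearMap.mem_ker, map_sub, map_smul, hu, smul_eq_mul, mul_one, sub_self]
    have h1 := hw' _ hx
    rw [map_sub, map_smul, hwu, smul_zero, sub_zero] at h1
    exact h1
  exact Subtype.ext this

/-- first vector of an orthonormal family -/
def headU (n : ℕ) (x : ON B (n + 1)) : {u : V // B u u = 1} :=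
  ⟨x.1 0, by have := x.2 0 0; simpa using this⟩

theorem isON_cons (hS : B.IsSymm) (n : ℕ) {u : V} (hu : B u u = 1) (y : ON (restr B u) n) :
    IsON B (n + 1) (Fin.cons u (fun i => (y.1 i : V))) := by
  intro i j
  refine Fin.cases ?_ (fun i => ?_) i <;> refine Fin.cases ?_ (fun j => ?_) j
  · simpa using hu
  · simp only [Fin.cons_zero, Fin.cons_succ]
    rw [LinearMap.mem_ker.1 (y.1 j).2, if_neg (Fin.succ_ne_zero j).symm]
  · simp only [Fin.cons_zero, Fin.cons_succ]
    rw [← hS.eq u (y.1 i), LinearMap.mem_ker.1 (y.1 i).2, map_zero, if_neg (Fin.succ_ne_zero i)]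
  · simp only [Fin.cons_succ, Fin.succ_inj]
    have := y.2 i j
    rw [LinearMap.domRestrict₁₂_apply] at this
    exact this

/-- the fibre of `headU` over a unit vector -/
def fiberEquiv (hS : B.IsSymm) (n : ℕ) (p : {u : V // B u u = 1}) :
    {x : ON B (n + 1) // headU n x = p} ≃ ON (restr B p.1) n where
  toFun x :=
    have he : x.1.1 0 = p.1 := congrArg Subtype.val x.2
    ⟨fun i => ⟨x.1.1 i.succ, by
        rw [LinearMap.mem_ker, ← he, x.1.2 0 i.succ, if_neg (Fin.succ_ne_zero i).symm]⟩,
      fun i j => by
        have := x.1.2 i.succ j.succ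
        rw [LinearMap.domRestrict₁₂_apply]
        simpa [Fin.succ_inj] using this⟩
  invFun y := ⟨⟨_, isON_cons hS n p.2 y⟩, Subtype.ext rfl⟩
  left_inv := by
    rintro ⟨⟨E, hx⟩, hp⟩
    have he : E 0 = p.1 := congrArg Subtype.val hp
    apply Subtype.ext
    apply Subtype.ext
    funext i
    refine Fin.cases ?_ (fun i => ?_) i
    · simp [he]
    · simp
  right_inv := by
    rintro ⟨E, hy⟩
    apply Subtype.ext
    funext i
    apply Subtype.ext
    simp

end

section
variable {F : Type v} [Field F] [Finite F] (σ : F →+* F)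

/-- number of vectors of norm one in the standard space -/
noncomputable def unitCount (n : ℕ) : ℕ := Nat.card {x : Fin n → F // ∑ i, σ (x i) * x i = 1}

variable {σ}
variable {V : Type u} [AddCommGroup V] [Module F V] [FiniteDimensional F V]
  {B : V →ₛₗ[σ] V →ₗ[F] F}

theorem exists_basis (hσ : σ ≠ RingHom.id F) (hσ2 : ∀ a : F, σ (σ a) = a) (hS : B.IsSymm)
    (hB : B.SeparatingLeft) {n : ℕ} (hn : Module.finrank F V = n) :
    ∃ b : Module.Basis (Fin n) F V, ∀ i j, B (b i) (b j) = if i = j then 1 else 0 := by
  obtain ⟨v, hv⟩ := Cfsg.Agent.S0755.exists_orthonormal σ hσ hσ2 n V B hS hB hn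
  have hli : LinearIndependent F v := by
    rw [Fintype.linearIndependent_iff]
    intro g hg j
    have := congrArg (B (v j)) hg
    simp only [map_sum, map_smul, hv, smul_eq_mul, map_zero] at this
    simpa using this
  have hsp := hli.span_eq_top_of_card_eq_finrank' (by simp [hn])
  refine ⟨Module.Basis.mk hli hsp.ge, ?_⟩
  simp only [Module.Basis.coe_mk]
  exact hv

theorem card_unit (hσ : σ ≠ RingHom.id F) (hσ2 : ∀ a : F, σ (σ a) = a) (hS : B.IsSymm)
    (hB : B.SeparatingLeft) {n : ℕ} (hn : Module.finrank F V = n) :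
    Nat.card {u : V // B u u = 1} = unitCount σ n := by
  classical
  obtain ⟨b, hb⟩ := exists_basis hσ hσ2 hS hB hn
  unfold unitCount
  apply Nat.card_congr
  refine Equiv.subtypeEquiv b.equivFun.toEquiv (fun u => ?_)
  have hu : u = ∑ i, b.equivFun u i • b i := (b.sum_equivFun u).symm
  have : B u u = ∑ i, σ (b.equivFun u i) * b.equivFun u i := by
    conv_lhs => rw [hu]
    simp only [map_sum, LinearMap.sum_apply, LinearMap.map_smulₛₗ₂, map_smul, hb, smul_eq_mul,
      mul_ite, mul_one, mul_zero]
    refine Finset.sum_congr rfl (fun i _ => ?_)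
    rw [Finset.sum_ite_eq' Finset.univ i, if_pos (Finset.mem_univ _), mul_comm]
  rw [this]
  rfl

end

/-- number of orthonormal bases of a non-degenerate Hermitian space of dimension `n` -/
theorem card_ON {F : Type v} [Field F] [Finite F] {σ : F →+* F} (hσ : σ ≠ RingHom.id F)
    (hσ2 : ∀ a : F, σ (σ a) = a) : ∀ (n : ℕ) (V : Type u) [AddCommGroup V]
    [Module F V] [FiniteDimensional F V] (B : V →ₛₗ[σ] V →ₗ[F] F), B.IsSymm → B.SeparatingLeft →
    Module.finrank F V = n →
    Nat.card (ON B n) = ∏ i ∈ Finset.range n, unitCount σ (i + 1) := by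
  intro n
  induction n with
  | zero =>
    intro V _ _ _ B _ _ _
    rw [Finset.range_zero, Finset.prod_empty]
    have : Unique (ON B 0) :=
      { default := ⟨Fin.elim0, fun i => i.elim0⟩
        uniq := fun x => Subtype.ext (funext fun i => i.elim0) }
    exact Nat.card_unique
  | succ n ih =>
    intro V _ _ _ B hS hB hn
    have : Finite V := Module.finite_of_finite F
    have := Fintype.ofFinite {u : V // B u u = 1}
    rw [← Nat.card_congr (Equiv.sigmaFiberEquiv (headU (B := B) n)), Nat.card_sigma]
    have hfib : ∀ p : {u : V // B u u = 1},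
        Nat.card {x : ON B (n + 1) // headU n x = p} =
          ∏ i ∈ Finset.range n, unitCount σ (i + 1) := by
      intro p
      rw [Nat.card_congr (fiberEquiv hS n p)]
      apply ih
      · exact restr_isSymm hS p.1
      · exact restr_sepLeft hS hB p.2
      · have := finrank_perp p.2
        omega
    rw [Finset.sum_congr rfl (fun p _ => hfib p), Finset.sum_const, Finset.card_univ, smul_eq_mul,
      ← Nat.card_eq_fintype_card, card_unit hσ hσ2 hS hB hn, Finset.prod_range_succ, mul_comm]

end Cfsg.Agent.Lib.Helper5.UnitaryCount
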