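import Mathlib

/-!
# Counting symplectic bases (helper5's shared lemmas)
-/

set_option autoImplicit false

namespace Cfsg.Agent.Lib.Helper5.SympCount

universe u v

section
variable {F : Type v} {V : Type u} [Field F] [Finite F] [AddCommGroup V] [Module F V]
  [FiniteDimensional F V] (B : LinearMap.BilinForm F V)

/-- fibre of a nonzero functional -/
theorem card_fiber (φ : V →ₗ[F] F) (hφ : φ ≠ 0) (c : F) :
    Nat.card {f : V // φ f = c} * Nat.card F = Nat.card V := by
  have hsurj : Function.Surjective φ := by
    obtain ⟨x, hx⟩ : ∃ x, φ x ≠ 0 := by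
      by_contra h
      push Not at h
      exact hφ (LinearMap.ext h)
    intro a
    exact ⟨(a / φ x) • x, by rw [map_smul, smul_eq_mul, div_mul_cancel₀ _ hx]⟩
  have : Finite V := Module.finite_of_finite F
  -- all fibres have the same cardinality as the kernel
  have hfib : ∀ a : F, Nat.card {f : V // φ f = a} = Nat.card {f : V // φ f = c} := by
    intro a
    obtain ⟨x, hx⟩ := hsurj (c - a)
    apply Nat.card_congr
    exact
      { toFun := fun f => ⟨f.1 + x, by rw [map_add, f.2, hx]; ring⟩
        invFun := fun f => ⟨f.1 - x, by rw [map_sub, f.2, hx]; ring⟩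
        left_inv := fun f => Subtype.ext (by simp)
        right_inv := fun f => Subtype.ext (by simp) }
  have := Fintype.ofFinite F
  have h1 : Nat.card V = ∑ a : F, Nat.card {f : V // φ f = a} := by
    rw [← Nat.card_sigma]
    exact Nat.card_congr (Equiv.sigmaFiberEquiv φ).symm
  rw [h1, Finset.sum_congr rfl (fun a _ => hfib a), Finset.sum_const, Finset.card_univ,
    smul_eq_mul, mul_comm, Nat.card_eq_fintype_card]

/-- number of hyperbolic pairs -/
theorem card_hypPair (hB : B.Nondegenerate) (n : ℕ) (hn : Module.finrank F V = n + 1) :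
    Nat.card {p : V × V // B p.1 p.2 = 1} =
      (Nat.card F ^ (n + 1) - 1) * Nat.card F ^ n := by
  classical
  have : Finite V := Module.finite_of_finite F
  have := Fintype.ofFinite V
  have hV : Nat.card V = Nat.card F ^ (n + 1) := by
    rw [Module.natCard_eq_pow_finrank (K := F), hn]
  have hq : 0 < Nat.card F := Nat.card_pos
  rw [Nat.card_congr (Equiv.subtypeProdEquivSigmaSubtype (fun e f : V => B e f = 1)),
    Nat.card_sigma]
  have hfib : ∀ e : V, Nat.card {f : V // B e f = 1} = if e = 0 then 0 else Nat.card F ^ n := by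
    intro e
    split_ifs with he
    · subst he
      rw [Nat.card_eq_zero]
      left
      exact ⟨fun f => by simpa using f.2⟩
    · have hne : B e ≠ 0 := fun h0 => he (hB.1 e (fun y => by rw [h0]; rfl))
      have h1 := card_fiber (B e) hne 1
      rw [hV, pow_succ] at h1
      exact Nat.eq_of_mul_eq_mul_right hq h1
  rw [Finset.sum_congr rfl (fun e _ => hfib e), ← Finset.sum_erase Finset.univ (a := (0 : V))
    (by simp)]
  rw [Finset.sum_congr rfl (fun e he => if_neg (Finset.ne_of_mem_erase he)), Finset.sum_const,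
    Finset.card_erase_of_mem (Finset.mem_univ _), Finset.card_univ, smul_eq_mul,
    ← Nat.card_eq_fintype_card, hV]

end

section
variable {F : Type v} {V : Type u} [Field F] [AddCommGroup V] [Module F V]
  (B : LinearMap.BilinForm F V)

/-- symplectic families `(e_i, f_i)` -/
def IsSB (m : ℕ) (p : (Fin m → V) × (Fin m → V)) : Prop :=
  (∀ i j, B (p.1 i) (p.2 j) = if i = j then 1 else 0) ∧ (∀ i j, B (p.1 i) (p.1 j) = 0) ∧
    (∀ i j, B (p.2 i) (p.2 j) = 0)

/-- the type of symplectic families of length `m` -/
abbrev SB (m : ℕ) : Type u := {p : (Fin m → V) × (Fin m → V) // IsSB B m p}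

/-- the orthogonal complement of a pair -/
def perp (e f : V) : Submodule F V := LinearMap.ker ((B e).prod (B f))

theorem mem_perp (e f x : V) : x ∈ perp B e f ↔ B e x = 0 ∧ B f x = 0 := by
  simp [perp, LinearMap.mem_ker]

variable {B}

theorem sub_mem_perp (hA : B.IsAlt) {e f : V} (hef : B e f = 1) (x : V) :
    x - (B x f) • e - (B e x) • f ∈ perp B e f := by
  have h1' : B f e = -1 := by rw [← hA.neg_eq e f, hef]
  rw [mem_perp]
  constructor
  · simp [hA e, hef]
  · simp [hA f, h1']
    rw [← hA.neg_eq x f]; ring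

theorem finrank_perp [FiniteDimensional F V] (hA : B.IsAlt) {e f : V} (hef : B e f = 1) :
    Module.finrank F (perp B e f) + 2 = Module.finrank F V := by
  have h1' : B f e = -1 := by rw [← hA.neg_eq e f, hef]
  have hφ : Function.Surjective ((B e).prod (B f)) := by
    rintro ⟨a, b⟩
    refine ⟨a • f - b • e, ?_⟩
    simp [hef, h1', hA e, hA f]
  have := LinearMap.finrank_range_add_finrank_ker ((B e).prod (B f))
  rw [LinearMap.range_eq_top.2 hφ] at this
  simp at this
  change 2 + Module.finrank F (perp B e f) = Module.finrank F V at this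
  omega

theorem restrict_perp_nondegenerate (hB : B.Nondegenerate) (hA : B.IsAlt) {e f : V}
    (hef : B e f = 1) : (B.restrict (perp B e f)).Nondegenerate := by
  have key : ∀ w : perp B e f, (∀ w' : perp B e f, B w w' = 0) → w = 0 := by
    intro w hw
    have : (w : V) = 0 := by
      apply hB.1
      intro x
      have hx := sub_mem_perp hA hef x
      have h1 := hw ⟨_, hx⟩
      have hwe : B w e = 0 := by rw [← hA.neg_eq, ((mem_perp B e f w).1 w.2).1, neg_zero]
      have hwf : B w f = 0 := by rw [← hA.neg_eq, ((mem_perp B e f w).1 w.2).2, neg_zero]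
      simp only [map_sub, map_smul, hwe, hwf, smul_zero, sub_zero] at h1
      exact h1
    exact Subtype.ext this
  constructor
  · intro w hw
    exact key w hw
  · intro w hw
    apply key w
    intro w'
    have := hw w'
    change B w' w = 0 at this
    change B w w' = 0
    rw [← hA.neg_eq, this, neg_zero]

/-- first pair of a symplectic family -/
def headPair (m : ℕ) (x : SB B (m + 1)) : {p : V × V // B p.1 p.2 = 1} :=
  ⟨(x.1.1 0, x.1.2 0), by have := x.2.1 0 0; simpa using this⟩

theorem isSB_cons (hA : B.IsAlt) (m : ℕ) {e f : V} (hef : B e f = 1)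
    (y : SB (B.restrict (perp B e f)) m) :
    IsSB B (m + 1) (Fin.cons e (fun i => (y.1.1 i : V)), Fin.cons f (fun i => (y.1.2 i : V))) := by
  have hbe : ∀ w : perp B e f, B e w = 0 := fun w => ((mem_perp B e f w).1 w.2).1
  have hbf : ∀ w : perp B e f, B f w = 0 := fun w => ((mem_perp B e f w).1 w.2).2
  have hbe' : ∀ w : perp B e f, B w e = 0 := fun w => by rw [← hA.neg_eq, hbe, neg_zero]
  have hbf' : ∀ w : perp B e f, B w f = 0 := fun w => by rw [← hA.neg_eq, hbf, neg_zero]
  obtain ⟨h1, h2, h3⟩ := y.2
  refine ⟨?_, ?_, ?_⟩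
  · intro i j
    refine Fin.cases ?_ (fun i => ?_) i <;> refine Fin.cases ?_ (fun j => ?_) j
    · simpa using hef
    · simp only [Fin.cons_zero, Fin.cons_succ]
      rw [hbe, if_neg (Fin.succ_ne_zero j).symm]
    · simp only [Fin.cons_zero, Fin.cons_succ]
      rw [hbf', if_neg (Fin.succ_ne_zero i)]
    · simp only [Fin.cons_succ, Fin.succ_inj]
      exact h1 i j
  · intro i j
    refine Fin.cases ?_ (fun i => ?_) i <;> refine Fin.cases ?_ (fun j => ?_) j
    · simpa using hA e
    · simp only [Fin.cons_zero, Fin.cons_succ]; exact hbe _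
    · simp only [Fin.cons_zero, Fin.cons_succ]; exact hbe' _
    · simp only [Fin.cons_succ]; exact h2 i j
  · intro i j
    refine Fin.cases ?_ (fun i => ?_) i <;> refine Fin.cases ?_ (fun j => ?_) j
    · simpa using hA f
    · simp only [Fin.cons_zero, Fin.cons_succ]; exact hbf _
    · simp only [Fin.cons_zero, Fin.cons_succ]; exact hbf' _
    · simp only [Fin.cons_succ]; exact h3 i j

/-- the fibre of `headPair` over a hyperbolic pair -/
def fiberEquiv (hA : B.IsAlt) (m : ℕ) (p : {p : V × V // B p.1 p.2 = 1}) :
    {x : SB B (m + 1) // headPair m x = p} ≃ SB (B.restrict (perp B p.1.1 p.1.2)) m where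
  toFun x :=
    have he : x.1.1.1 0 = p.1.1 := congrArg (fun q => q.1.1) x.2
    have hf : x.1.1.2 0 = p.1.2 := congrArg (fun q => q.1.2) x.2
    ⟨(fun i => ⟨x.1.1.1 i.succ, by
        rw [mem_perp, ← he, ← hf]
        refine ⟨x.1.2.2.1 0 i.succ, ?_⟩
        rw [← hA.neg_eq, x.1.2.1 i.succ 0, if_neg (Fin.succ_ne_zero i), neg_zero]⟩,
      fun i => ⟨x.1.1.2 i.succ, by
        rw [mem_perp, ← he, ← hf]
        refine ⟨?_, x.1.2.2.2 0 i.succ⟩
        rw [x.1.2.1 0 i.succ, if_neg (Fin.succ_ne_zero i).symm]⟩),
     ⟨fun i j => by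
        have := x.1.2.1 i.succ j.succ
        simpa [Fin.succ_inj] using this,
      fun i j => x.1.2.2.1 i.succ j.succ, fun i j => x.1.2.2.2 i.succ j.succ⟩⟩
  invFun y := ⟨⟨_, isSB_cons hA m p.2 y⟩, Subtype.ext rfl⟩
  left_inv := by
    rintro ⟨⟨⟨E, Fv⟩, hx⟩, hp⟩
    have he : E 0 = p.1.1 := congrArg (fun q => q.1.1) hp
    have hf : Fv 0 = p.1.2 := congrArg (fun q => q.1.2) hp
    apply Subtype.ext
    apply Subtype.ext
    refine Prod.ext ?_ ?_
    · funext i
      refine Fin.cases ?_ (fun i => ?_) i
      · simp [he]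
      · simp
    · funext i
      refine Fin.cases ?_ (fun i => ?_) i
      · simp [hf]
      · simp
  right_inv := by
    rintro ⟨⟨E, Fv⟩, hy⟩
    apply Subtype.ext
    refine Prod.ext ?_ ?_
    · funext i
      apply Subtype.ext
      simp
    · funext i
      apply Subtype.ext
      simp

end

/-- number of symplectic bases of a non-degenerate symplectic space of dimension `2m` -/
theorem card_SB {F : Type v} [Field F] [Finite F] : ∀ (m : ℕ) (V : Type u) [AddCommGroup V]
    [Module F V] [FiniteDimensional F V] (B : LinearMap.BilinForm F V), B.Nondegenerate → B.IsAlt →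
    Module.finrank F V = 2 * m →
    Nat.card (SB B m) =
      ∏ i ∈ Finset.range m, ((Nat.card F ^ (2 * (i + 1)) - 1) * Nat.card F ^ (2 * i + 1)) := by
  intro m
  induction m with
  | zero =>
    intro V _ _ _ B _ _ _
    rw [Finset.range_zero, Finset.prod_empty]
    have : Unique (SB B 0) :=
      { default := ⟨(Fin.elim0, Fin.elim0), fun i => i.elim0, fun i => i.elim0, fun i => i.elim0⟩
        uniq := fun x => Subtype.ext (Prod.ext (funext fun i => i.elim0) (funext fun i => i.elim0)) }
    exact Nat.card_unique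
  | succ m ih =>
    intro V _ _ _ B hB hA hn
    have : Finite V := Module.finite_of_finite F
    have := Fintype.ofFinite {p : V × V // B p.1 p.2 = 1}
    rw [← Nat.card_congr (Equiv.sigmaFiberEquiv (headPair (B := B) m)), Nat.card_sigma]
    have hfib : ∀ p : {p : V × V // B p.1 p.2 = 1},
        Nat.card {x : SB B (m + 1) // headPair m x = p} =
          ∏ i ∈ Finset.range m, ((Nat.card F ^ (2 * (i + 1)) - 1) * Nat.card F ^ (2 * i + 1)) := by
      intro p
      rw [Nat.card_congr (fiberEquiv hA m p)]
      apply ih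
      · exact restrict_perp_nondegenerate hB hA p.2
      · exact fun x => hA x
      · have := finrank_perp hA p.2
        omega
    rw [Finset.sum_congr rfl (fun p _ => hfib p), Finset.sum_const, Finset.card_univ, smul_eq_mul,
      ← Nat.card_eq_fintype_card, card_hypPair B hB (2 * m + 1) (by omega), Finset.prod_range_succ,
      mul_comm]
    rfl

end Cfsg.Agent.Lib.Helper5.SympCount
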