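import Mathlib
import Cfsg.Prelude.Def_ClassicalGeometry

/-!
# Symplectic form, symplectic transvections (helper5's shared lemmas)
-/

set_option autoImplicit false

namespace Cfsg.Agent.Lib.Helper5.Symp

open Matrix Cfsg

variable {F : Type*} [CommRing F] (m : ℕ)

/-- Explicit formula for the symplectic form. -/
theorem sympForm_eq_sum (u v : Fin m ⊕ Fin m → F) :
    sympForm m F u v = ∑ i : Fin m, (u (.inr i) * v (.inl i) - u (.inl i) * v (.inr i)) := by
  unfold sympForm
  simp only [dotProduct, Fintype.sum_sum_type, Matrix.mulVec, Matrix.J, Matrix.fromBlocks,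
    Matrix.of_apply, Sum.elim_inl, Sum.elim_inr, Matrix.zero_apply, zero_mul, Finset.sum_const_zero,
    zero_add, add_zero, Matrix.neg_apply, Matrix.one_apply, neg_mul, Finset.sum_neg_distrib]
  simp only [ite_mul, one_mul, zero_mul, Finset.sum_ite_eq, Finset.mem_univ, if_true]
  rw [Finset.sum_sub_distrib]
  simp [mul_neg, Finset.sum_neg_distrib]
  ring

theorem sympForm_self (v : Fin m ⊕ Fin m → F) : sympForm m F v v = 0 := by
  rw [sympForm_eq_sum]
  apply Finset.sum_eq_zero
  intro i _
  ring

theorem sympForm_swap (u v : Fin m ⊕ Fin m → F) : sympForm m F u v = - sympForm m F v u := by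
  rw [sympForm_eq_sum, sympForm_eq_sum, ← Finset.sum_neg_distrib]
  apply Finset.sum_congr rfl
  intro i _
  ring

theorem sympForm_add_left (u u' v : Fin m ⊕ Fin m → F) :
    sympForm m F (u + u') v = sympForm m F u v + sympForm m F u' v := by
  unfold sympForm
  rw [add_dotProduct]

theorem sympForm_add_right (u v v' : Fin m ⊕ Fin m → F) :
    sympForm m F u (v + v') = sympForm m F u v + sympForm m F u v' := by
  unfold sympForm
  rw [mulVec_add, dotProduct_add]

theorem sympForm_smul_left (c : F) (u v : Fin m ⊕ Fin m → F) :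
    sympForm m F (c • u) v = c * sympForm m F u v := by
  unfold sympForm
  rw [smul_dotProduct, smul_eq_mul]

theorem sympForm_smul_right (c : F) (u v : Fin m ⊕ Fin m → F) :
    sympForm m F u (c • v) = c * sympForm m F u v := by
  unfold sympForm
  rw [mulVec_smul, dotProduct_smul, smul_eq_mul]

theorem sympForm_zero_left (v : Fin m ⊕ Fin m → F) : sympForm m F 0 v = 0 := by
  unfold sympForm
  rw [zero_dotProduct]

theorem sympForm_zero_right (u : Fin m ⊕ Fin m → F) : sympForm m F u 0 = 0 := by
  unfold sympForm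
  rw [mulVec_zero, dotProduct_zero]

theorem sympForm_neg_left (u v : Fin m ⊕ Fin m → F) :
    sympForm m F (-u) v = - sympForm m F u v := by
  unfold sympForm
  rw [neg_dotProduct]

theorem sympForm_neg_right (u v : Fin m ⊕ Fin m → F) :
    sympForm m F u (-v) = - sympForm m F u v := by
  unfold sympForm
  rw [mulVec_neg, dotProduct_neg]

theorem sympForm_sub_left (u u' v : Fin m ⊕ Fin m → F) :
    sympForm m F (u - u') v = sympForm m F u v - sympForm m F u' v := by
  rw [sub_eq_add_neg, sympForm_add_left, sympForm_neg_left, sub_eq_add_neg]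

theorem sympForm_sub_right (u v v' : Fin m ⊕ Fin m → F) :
    sympForm m F u (v - v') = sympForm m F u v - sympForm m F u v' := by
  rw [sub_eq_add_neg, sympForm_add_right, sympForm_neg_right, sub_eq_add_neg]

/-- The form as `uᵀ J v`. -/
theorem sympForm_mulVec_mulVec (A : Matrix (Fin m ⊕ Fin m) (Fin m ⊕ Fin m) F)
    (u v : Fin m ⊕ Fin m → F) :
    sympForm m F (A *ᵥ u) (A *ᵥ v) = u ⬝ᵥ ((Aᵀ * J (Fin m) F * A) *ᵥ v) := by
  unfold sympForm
  rw [Matrix.mulVec_mulVec, Matrix.mul_assoc, ← Matrix.mulVec_mulVec v Aᵀ,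
    Matrix.dotProduct_mulVec u Aᵀ, Matrix.vecMul_transpose]

/-- Symplectic matrices preserve the symplectic form. -/
theorem sympForm_of_mem {A : Matrix (Fin m ⊕ Fin m) (Fin m ⊕ Fin m) F}
    (hA : A ∈ symplecticGroup (Fin m) F) (u v : Fin m ⊕ Fin m → F) :
    sympForm m F (A *ᵥ u) (A *ᵥ v) = sympForm m F u v := by
  rw [sympForm_mulVec_mulVec, SymplecticGroup.mem_iff'.1 hA]
  rfl

/-- A matrix preserving the symplectic form is symplectic. -/
theorem mem_of_sympForm {A : Matrix (Fin m ⊕ Fin m) (Fin m ⊕ Fin m) F}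
    (hA : ∀ u v : Fin m ⊕ Fin m → F, sympForm m F (A *ᵥ u) (A *ᵥ v) = sympForm m F u v) :
    A ∈ symplecticGroup (Fin m) F := by
  rw [SymplecticGroup.mem_iff']
  ext i j
  have h := hA (Pi.single i 1) (Pi.single j 1)
  rw [sympForm_mulVec_mulVec] at h
  unfold sympForm at h
  simpa using h

theorem mem_iff_sympForm {A : Matrix (Fin m ⊕ Fin m) (Fin m ⊕ Fin m) F} :
    A ∈ symplecticGroup (Fin m) F ↔
      ∀ u v : Fin m ⊕ Fin m → F, sympForm m F (A *ᵥ u) (A *ᵥ v) = sympForm m F u v :=
  ⟨fun h => sympForm_of_mem m h, mem_of_sympForm m⟩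

/-- The action of a symplectic transvection on a vector. -/
theorem sympTransvection_mulVec (v : Fin m ⊕ Fin m → F) (c : F) (x : Fin m ⊕ Fin m → F) :
    sympTransvection m v c *ᵥ x = x + (c * sympForm m F x v) • v := by
  unfold sympTransvection sympForm
  rw [Matrix.add_mulVec, Matrix.one_mulVec, Matrix.smul_mulVec, Matrix.vecMulVec_mulVec,
    op_smul_eq_smul, smul_smul, dotProduct_comm]

/-- Symplectic transvections are symplectic. -/
theorem sympTransvection_mem (v : Fin m ⊕ Fin m → F) (c : F) :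
    sympTransvection m v c ∈ symplecticGroup (Fin m) F := by
  apply mem_of_sympForm
  intro x y
  rw [sympTransvection_mulVec, sympTransvection_mulVec]
  simp only [sympForm_add_left, sympForm_add_right, sympForm_smul_left, sympForm_smul_right,
    sympForm_self]
  rw [sympForm_swap m v y]
  ring

theorem sympTransvection_mul (v : Fin m ⊕ Fin m → F) (c d : F) :
    sympTransvection m v c * sympTransvection m v d = sympTransvection m v (c + d) := by
  unfold sympTransvection
  rw [Matrix.add_mul, Matrix.mul_add, Matrix.mul_add, Matrix.one_mul, Matrix.mul_one,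
    Matrix.one_mul, Matrix.smul_mul, Matrix.mul_smul, Matrix.vecMulVec_mul_vecMulVec]
  have h0 : (J (Fin m) F *ᵥ v) ⬝ᵥ v = 0 := by
    have := sympForm_self m v
    unfold sympForm at this
    rw [dotProduct_comm]
    exact this
  rw [h0]
  simp only [Matrix.vecMulVec_zero, zero_smul, smul_zero, add_zero, add_smul]
  abel

theorem sympTransvection_zero (v : Fin m ⊕ Fin m → F) : sympTransvection m v 0 = 1 := by
  unfold sympTransvection
  simp

/-- Conjugating a transvection by a symplectic matrix. -/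
theorem mul_sympTransvection {A : Matrix (Fin m ⊕ Fin m) (Fin m ⊕ Fin m) F}
    (hA : A ∈ symplecticGroup (Fin m) F) (v : Fin m ⊕ Fin m → F) (c : F) :
    A * sympTransvection m v c = sympTransvection m (A *ᵥ v) c * A := by
  rw [Matrix.ext_iff_mulVec]
  intro x
  rw [← Matrix.mulVec_mulVec, ← Matrix.mulVec_mulVec, sympTransvection_mulVec,
    sympTransvection_mulVec, sympForm_of_mem m hA, Matrix.mulVec_add, Matrix.mulVec_smul]

theorem sympTransvection_smul (a : F) (v : Fin m ⊕ Fin m → F) (c : F) :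
    sympTransvection m (a • v) c = sympTransvection m v (a ^ 2 * c) := by
  rw [Matrix.ext_iff_mulVec]
  intro x
  rw [sympTransvection_mulVec, sympTransvection_mulVec, sympForm_smul_right, smul_smul]
  congr 2
  ring

theorem conj_sympTransvection {A : Matrix (Fin m ⊕ Fin m) (Fin m ⊕ Fin m) F}
    (hA : A ∈ symplecticGroup (Fin m) F) (v : Fin m ⊕ Fin m → F) (c : F) :
    A * sympTransvection m v c * A⁻¹ = sympTransvection m (A *ᵥ v) c := by
  rw [mul_sympTransvection m hA, Matrix.mul_assoc,
    Matrix.mul_nonsing_inv A (SymplecticGroup.symplectic_det hA), Matrix.mul_one]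

end Cfsg.Agent.Lib.Helper5.Symp

namespace Cfsg.Agent.Lib.Helper5.Symp

open Matrix Cfsg

variable {F : Type*} [Field F] (m : ℕ)

/-- Nondegeneracy of the symplectic form. -/
theorem exists_sympForm_ne_zero {v : Fin m ⊕ Fin m → F} (hv : v ≠ 0) :
    ∃ x : Fin m ⊕ Fin m → F, sympForm m F v x ≠ 0 := by
  obtain ⟨i, hi⟩ : ∃ i, v i ≠ 0 := by
    by_contra h
    push Not at h
    exact hv (funext h)
  refine ⟨(-J (Fin m) F) *ᵥ Pi.single i 1, ?_⟩
  unfold sympForm
  rw [Matrix.mulVec_mulVec, Matrix.mul_neg, J_squared, neg_neg, Matrix.one_mulVec,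
    dotProduct_single, mul_one]
  exact hi

/-- If `f(v, w) ≠ 0`, a single transvection maps `v` to `w`. -/
theorem sympTransvection_map_of_ne_zero {v w : Fin m ⊕ Fin m → F} (h : sympForm m F v w ≠ 0) :
    sympTransvection m (v - w) (sympForm m F v w)⁻¹ *ᵥ v = w := by
  rw [sympTransvection_mulVec, sympForm_sub_right, sympForm_self, zero_sub, mul_neg,
    inv_mul_cancel₀ h, neg_smul, one_smul]
  abel

/-- A vector `x` pairing nontrivially with both of two nonzero vectors. -/
theorem exists_sympForm_ne_zero_both {v w : Fin m ⊕ Fin m → F} (hv : v ≠ 0) (hw : w ≠ 0) :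
    ∃ x : Fin m ⊕ Fin m → F, sympForm m F v x ≠ 0 ∧ sympForm m F x w ≠ 0 := by
  obtain ⟨x1, h1⟩ := exists_sympForm_ne_zero m hv
  obtain ⟨x2, h2⟩ := exists_sympForm_ne_zero m hw
  have swapne : ∀ x, sympForm m F w x ≠ 0 → sympForm m F x w ≠ 0 := by
    intro x hx
    rw [sympForm_swap]
    exact neg_ne_zero.2 hx
  by_cases h3 : sympForm m F w x1 = 0
  · by_cases h4 : sympForm m F v x2 = 0
    · refine ⟨x1 + x2, ?_, ?_⟩
      · rw [sympForm_add_right, h4, add_zero]
        exact h1
      · apply swapne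
        rw [sympForm_add_right, h3, zero_add]
        exact h2
    · exact ⟨x2, h4, swapne _ h2⟩
  · exact ⟨x1, h1, swapne _ h3⟩

/-- The subgroup of the symplectic group generated by transvections. -/
def transvectionSubgroup : Subgroup (symplecticGroup (Fin m) F) :=
  Subgroup.closure {A : symplecticGroup (Fin m) F | ∃ (w : Fin m ⊕ Fin m → F) (c : F),
    (A : Matrix (Fin m ⊕ Fin m) (Fin m ⊕ Fin m) F) = sympTransvection m w c}

/-- The symplectic transvection as an element of the symplectic group. -/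
def sympT (v : Fin m ⊕ Fin m → F) (c : F) : symplecticGroup (Fin m) F :=
  ⟨sympTransvection m v c, sympTransvection_mem m v c⟩

theorem sympT_mem (v : Fin m ⊕ Fin m → F) (c : F) : sympT m v c ∈ transvectionSubgroup m (F := F) :=
  Subgroup.subset_closure ⟨v, c, rfl⟩

/-- The transvection subgroup is transitive on nonzero vectors. -/
theorem exists_transvectionSubgroup_map {v w : Fin m ⊕ Fin m → F} (hv : v ≠ 0) (hw : w ≠ 0) :
    ∃ g ∈ transvectionSubgroup m (F := F),
      (g : Matrix (Fin m ⊕ Fin m) (Fin m ⊕ Fin m) F) *ᵥ v = w := by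
  obtain ⟨x, h1, h2⟩ := exists_sympForm_ne_zero_both m hv hw
  refine ⟨sympT m (x - w) (sympForm m F x w)⁻¹ * sympT m (v - x) (sympForm m F v x)⁻¹,
    mul_mem (sympT_mem m _ _) (sympT_mem m _ _), ?_⟩
  change (sympTransvection m (x - w) (sympForm m F x w)⁻¹ *
    sympTransvection m (v - x) (sympForm m F v x)⁻¹) *ᵥ v = w
  rw [← Matrix.mulVec_mulVec, sympTransvection_map_of_ne_zero m h1,
    sympTransvection_map_of_ne_zero m h2]

/-- A transvection along `v - v'` fixes every `u` with `f(u, v) = f(u, v')`. -/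
theorem sympTransvection_fix_of_eq {u v v' : Fin m ⊕ Fin m → F} (c : F)
    (h : sympForm m F u v = sympForm m F u v') :
    sympTransvection m (v - v') c *ᵥ u = u := by
  rw [sympTransvection_mulVec, sympForm_sub_right, h, sub_self, mul_zero, zero_smul, add_zero]

/-- The transvection subgroup is transitive on hyperbolic pairs. -/
theorem exists_transvectionSubgroup_map_pair {u v u' v' : Fin m ⊕ Fin m → F}
    (h : sympForm m F u v = 1) (h' : sympForm m F u' v' = 1) :
    ∃ g ∈ transvectionSubgroup m (F := F),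
      (g : Matrix (Fin m ⊕ Fin m) (Fin m ⊕ Fin m) F) *ᵥ u = u' ∧
      (g : Matrix (Fin m ⊕ Fin m) (Fin m ⊕ Fin m) F) *ᵥ v = v' := by
  have hu : u ≠ 0 := by
    rintro rfl
    rw [sympForm_zero_left] at h
    exact zero_ne_one h
  have hu' : u' ≠ 0 := by
    rintro rfl
    rw [sympForm_zero_left] at h'
    exact zero_ne_one h'
  obtain ⟨g1, hg1, hg1u⟩ := exists_transvectionSubgroup_map m hu hu'
  -- now `g1 u = u'`; put `w = g1 v`
  set w := (g1 : Matrix (Fin m ⊕ Fin m) (Fin m ⊕ Fin m) F) *ᵥ v with hw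
  have hw1 : sympForm m F u' w = 1 := by
    rw [← hg1u, hw, sympForm_of_mem m g1.2, h]
  -- find `g2` in the transvection subgroup fixing `u'` and mapping `w` to `v'`
  have key : ∃ g2 ∈ transvectionSubgroup m (F := F),
      (g2 : Matrix (Fin m ⊕ Fin m) (Fin m ⊕ Fin m) F) *ᵥ u' = u' ∧
      (g2 : Matrix (Fin m ⊕ Fin m) (Fin m ⊕ Fin m) F) *ᵥ w = v' := by
    by_cases hwv : sympForm m F w v' = 0
    · -- go through `u' + w`
      have h1 : sympForm m F w (u' + w) ≠ 0 := by
        rw [sympForm_add_right, sympForm_self, add_zero, sympForm_swap, hw1]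
        exact neg_ne_zero.2 one_ne_zero
      have h2 : sympForm m F (u' + w) v' ≠ 0 := by
        rw [sympForm_add_left, hwv, add_zero, h']
        exact one_ne_zero
      refine ⟨sympT m ((u' + w) - v') (sympForm m F (u' + w) v')⁻¹ *
        sympT m (w - (u' + w)) (sympForm m F w (u' + w))⁻¹,
        mul_mem (sympT_mem m _ _) (sympT_mem m _ _), ?_, ?_⟩
      · change (sympTransvection m ((u' + w) - v') (sympForm m F (u' + w) v')⁻¹ *
          sympTransvection m (w - (u' + w)) (sympForm m F w (u' + w))⁻¹) *ᵥ u' = u'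
        have e1 : sympTransvection m (w - (u' + w)) (sympForm m F w (u' + w))⁻¹ *ᵥ u' = u' := by
          apply sympTransvection_fix_of_eq
          rw [sympForm_add_right, sympForm_self, zero_add]
        have e2 : sympTransvection m ((u' + w) - v') (sympForm m F (u' + w) v')⁻¹ *ᵥ u' = u' := by
          apply sympTransvection_fix_of_eq
          rw [sympForm_add_right, sympForm_self, zero_add, hw1, h']
        rw [← Matrix.mulVec_mulVec, e1, e2]
      · change (sympTransvection m ((u' + w) - v') (sympForm m F (u' + w) v')⁻¹ *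
          sympTransvection m (w - (u' + w)) (sympForm m F w (u' + w))⁻¹) *ᵥ w = v'
        rw [← Matrix.mulVec_mulVec, sympTransvection_map_of_ne_zero m h1,
          sympTransvection_map_of_ne_zero m h2]
    · refine ⟨sympT m (w - v') (sympForm m F w v')⁻¹, sympT_mem m _ _, ?_, ?_⟩
      · change sympTransvection m (w - v') (sympForm m F w v')⁻¹ *ᵥ u' = u'
        rw [sympTransvection_fix_of_eq]
        rw [hw1, h']
      · exact sympTransvection_map_of_ne_zero m hwv
  obtain ⟨g2, hg2, hg2u, hg2w⟩ := key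
  refine ⟨g2 * g1, mul_mem hg2 hg1, ?_, ?_⟩
  · change ((g2 : Matrix (Fin m ⊕ Fin m) (Fin m ⊕ Fin m) F) *
      (g1 : Matrix (Fin m ⊕ Fin m) (Fin m ⊕ Fin m) F)) *ᵥ u = u'
    rw [← Matrix.mulVec_mulVec, hg1u, hg2u]
  · change ((g2 : Matrix (Fin m ⊕ Fin m) (Fin m ⊕ Fin m) F) *
      (g1 : Matrix (Fin m ⊕ Fin m) (Fin m ⊕ Fin m) F)) *ᵥ v = v'
    rw [← Matrix.mulVec_mulVec, ← hw, hg2w]

end Cfsg.Agent.Lib.Helper5.Symp
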