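import Mathlib
import Cfsg.Prelude.Def_Classical
import Cfsg.Agent.Lib.Helper5.Herm
import Cfsg.Agent.Lib.Helper5.HermCount
import Cfsg.Agent.Lib.Helper5.SympCount
import Cfsg.Agent.S0751
import Cfsg.Agent.S0277
import Cfsg.Agent.S0828

/-!
# Totally isotropic planes of the standard Hermitian space (helper5's shared lemmas)
-/

set_option autoImplicit false

namespace Cfsg.Agent.Lib.Helper5.HermPlanes

open Cfsg Cfsg.Agent.Lib.Helper5.Herm Cfsg.Agent.Lib.Helper5.HermCount

variable {F : Type*} [Field F] [Fintype F] {q : ℕ}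

/-- the fixed field has `q` elements -/
theorem card_fix [DecidableEq F] (hF : Fintype.card F = q ^ 2) :
    (Finset.univ.filter (fun d : F => d ^ q = d)).card = q := by
  have hq := one_lt_q hF
  have h1 := card_Kx hF
  have h2 : (Finset.univ.filter (fun d : F => d ^ q = d)) =
      insert 0 (Finset.univ.filter (fun d : F => d ≠ 0 ∧ d ^ q = d)) := by
    ext d
    simp only [Finset.mem_filter, Finset.mem_univ, true_and, Finset.mem_insert]
    constructor
    · intro h
      by_cases h0 : d = 0
      · exact Or.inl h0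
      · exact Or.inr ⟨h0, h⟩
    · rintro (h | h)
      · rw [h, zero_pow (by omega)]
      · exact h.2
  rw [h2, Finset.card_insert_of_notMem (by simp), h1]
  omega

/-- fibres of the trace map `t ↦ t + t^q` -/
theorem card_trace_fiber [DecidableEq F] (hF : Fintype.card F = q ^ 2) (c : F) (hc : c ^ q = c) :
    (Finset.univ.filter (fun t : F => t + t ^ q = c)).card = q := by
  have hq := one_lt_q hF
  obtain ⟨σ, hσ, hne, hσ2⟩ := Cfsg.Agent.S0277.exists_frob hF
  obtain ⟨t₀, ht₀⟩ := Cfsg.Agent.S0751.exists_trace_one σ hne hσ2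
  rw [hσ] at ht₀
  have hmaps : ∀ t ∈ (Finset.univ : Finset F), t + t ^ q ∈ Finset.univ.filter (fun d : F => d ^ q = d) := by
    intro t _
    rw [Finset.mem_filter]
    refine ⟨Finset.mem_univ _, ?_⟩
    rw [frob_add hF, frob_frob hF, add_comm]
  have hsum := Finset.card_eq_sum_card_fiberwise hmaps
  have heq : ∀ a ∈ Finset.univ.filter (fun d : F => d ^ q = d),
      (Finset.univ.filter (fun t : F => t + t ^ q = a)).card =
        (Finset.univ.filter (fun t : F => t + t ^ q = c)).card := by
    intro a ha
    have ha' : a ^ q = a := (Finset.mem_filter.1 ha).2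
    apply Finset.card_nbij' (fun t => t + (c - a) * t₀) (fun t => t - (c - a) * t₀)
    · intro t ht
      simp only [Finset.coe_filter, Finset.mem_univ, true_and, Set.mem_ofPred_eq] at ht ⊢
      rw [frob_add hF, mul_pow, frob_sub hF, hc, ha']
      linear_combination ht + (c - a) * ht₀
    · intro t ht
      simp only [Finset.coe_filter, Finset.mem_univ, true_and, Set.mem_ofPred_eq] at ht ⊢
      rw [frob_sub hF, mul_pow, frob_sub hF, hc, ha']
      linear_combination ht - (c - a) * ht₀
    · intro t _; ring
    · intro t _; ring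
  rw [Finset.sum_congr rfl heq, Finset.sum_const, card_fix hF, Finset.card_univ, hF, smul_eq_mul] at hsum
  have : q * q = q * (Finset.univ.filter (fun t : F => t + t ^ q = c)).card := by
    rw [← hsum]; ring
  exact (Nat.eq_of_mul_eq_mul_left (by omega) this).symm

/-- the functional `w ↦ h(w, v)` -/
def phi (n : ℕ) (v : Fin n → F) : (Fin n → F) →ₗ[F] F where
  toFun w := hermForm n F q w v
  map_add' w w' := hermForm_add_left n w w' v
  map_smul' a w := hermForm_smul_left n a w v

theorem phi_ne_zero (hF : Fintype.card F = q ^ 2) (n : ℕ) (v : Fin n → F) (hv : v ≠ 0) :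
    phi (q := q) n v ≠ 0 := by
  have hq := one_lt_q hF
  intro h
  apply hv
  funext i
  have := LinearMap.congr_fun h (Pi.single i 1)
  change hermForm n F q (Pi.single i 1) v = 0 at this
  rw [hermForm_single_left] at this
  exact pow_eq_zero_iff (by omega) |>.1 this

/-- `h(w + t v, w + t v)` for isotropic `v` with `h(w, v) = 1` -/
theorem herm_add_smul (hF : Fintype.card F = q ^ 2) (n : ℕ) (v w : Fin n → F)
    (hv0 : hermForm n F q v v = 0) (t : F) :
    hermForm n F q (w + t • v) (w + t • v) =
      hermForm n F q w w + t ^ q * hermForm n F q w v + t * (hermForm n F q w v) ^ q := by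
  rw [hermForm_add_left, hermForm_add_right hF, hermForm_add_right hF, hermForm_smul_left,
    hermForm_smul_left, hermForm_smul_right, hermForm_smul_right, hv0,
    hermForm_swap hF n v w]
  ring

/-- the number `M` of isotropic `w` with `h(w, v) = 1`, for `v ≠ 0` isotropic -/
theorem card_hyp_partner (hF : Fintype.card F = q ^ 2) (n : ℕ) (v : Fin n → F) (hv : v ≠ 0)
    (hv0 : hermForm n F q v v = 0) :
    Nat.card {w : Fin n → F // hermForm n F q w v = 1 ∧ hermForm n F q w w = 0} * q ^ 3 =
      q ^ (2 * n) := by
  classical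
  have hq := one_lt_q hF
  -- the affine hyperplane
  have hH1 : Nat.card {w : Fin n → F // hermForm n F q w v = 1} * q ^ 2 = q ^ (2 * n) := by
    have := Cfsg.Agent.Lib.Helper5.SympCount.card_fiber (phi (q := q) n v) (phi_ne_zero hF n v hv) 1
    rw [Nat.card_eq_fintype_card (α := F), hF, Nat.card_eq_fintype_card (α := Fin n → F),
      Fintype.card_fun, Fintype.card_fin, hF, ← pow_mul] at this
    exact this
  rw [Nat.card_eq_fintype_card, Fintype.card_subtype] at hH1 ⊢
  set H1 : Finset (Fin n → F) := Finset.univ.filter (fun w => hermForm n F q w v = 1) with hH1def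
  set M : ℕ := (Finset.univ.filter
    (fun w : Fin n → F => hermForm n F q w v = 1 ∧ hermForm n F q w w = 0)).card with hM
  have hdc := Finset.sum_card_bipartiteAbove_eq_sum_card_bipartiteBelow
    (fun (w : Fin n → F) (t : F) => hermForm n F q (w + t • v) (w + t • v) = 0)
    (s := H1) (t := (Finset.univ : Finset F))
  have hL : ∀ w ∈ H1, (Finset.bipartiteAbove (fun (w : Fin n → F) (t : F) =>
      hermForm n F q (w + t • v) (w + t • v) = 0) Finset.univ w).card = q := by
    intro w hw
    have hwv : hermForm n F q w v = 1 := (Finset.mem_filter.1 hw).2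
    have hc : (-hermForm n F q w w) ^ q = -hermForm n F q w w := by
      rw [frob_neg hF, ← hermForm_swap hF]
    refine Eq.trans ?_ (card_trace_fiber hF _ hc)
    congr 1
    ext t
    simp only [Finset.bipartiteAbove, Finset.mem_filter, Finset.mem_univ, true_and]
    rw [herm_add_smul hF n v w hv0, hwv, one_pow, mul_one, mul_one]
    constructor
    · intro h; linear_combination h
    · intro h; linear_combination h
  have hR : ∀ t ∈ (Finset.univ : Finset F), (Finset.bipartiteBelow (fun (w : Fin n → F) (t : F) =>
      hermForm n F q (w + t • v) (w + t • v) = 0) H1 t).card = M := by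
    intro t _
    rw [hM]
    apply Finset.card_nbij' (fun w => w + t • v) (fun w => w - t • v)
    · intro w hw
      simp only [Finset.bipartiteBelow, Finset.coe_filter, Finset.mem_filter, Finset.mem_univ,
        true_and, Set.mem_ofPred_eq, hH1def] at hw ⊢
      refine ⟨?_, hw.2⟩
      rw [hermForm_add_left, hermForm_smul_left, hv0, hw.1]
      ring
    · intro w hw
      simp only [Finset.bipartiteBelow, Finset.coe_filter, Finset.mem_filter, Finset.mem_univ,
        true_and, Set.mem_ofPred_eq, hH1def] at hw ⊢
      refine ⟨?_, ?_⟩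
      · rw [sub_eq_add_neg, hermForm_add_left, ← neg_smul, hermForm_smul_left, hv0, hw.1]
        ring
      · rw [sub_add_cancel]
        exact hw.2
    · intro w _; simp
    · intro w _; simp
  rw [Finset.sum_congr rfl hL, Finset.sum_congr rfl hR, Finset.sum_const, Finset.sum_const,
    smul_eq_mul, smul_eq_mul, Finset.card_univ, hF] at hdc
  -- hdc : H1.card * q = q ^ 2 * M
  have h3 : M * q ^ 3 * q = q ^ (2 * n) * q := by
    rw [← hH1]
    calc M * q ^ 3 * q = (q ^ 2 * M) * q ^ 2 := by ring
      _ = (H1.card * q) * q ^ 2 := by rw [hdc]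
      _ = H1.card * q ^ 2 * q := by ring
  exact Nat.eq_of_mul_eq_mul_right (by omega) h3

/-- isotropic vectors orthogonal to an isotropic vector -/
theorem card_iso_perp (hF : Fintype.card F = q ^ 2) (n : ℕ) (v : Fin n → F) :
    Nat.card {w : Fin n → F // hermForm n F q w w = 0 ∧ hermForm n F q w v = 0} +
      (q ^ 2 - 1) *
        Nat.card {w : Fin n → F // hermForm n F q w v = 1 ∧ hermForm n F q w w = 0} =
      cnt F q n 0 := by
  classical
  have hq := one_lt_q hF
  rw [← card_hermForm_eq n 0, Nat.card_eq_fintype_card, Nat.card_eq_fintype_card,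
    Nat.card_eq_fintype_card, Fintype.card_subtype, Fintype.card_subtype, Fintype.card_subtype]
  set Z : Finset (Fin n → F) := Finset.univ.filter (fun w => hermForm n F q w w = 0) with hZ
  have hsum := Finset.card_eq_sum_card_fiberwise (f := fun w : Fin n → F => hermForm n F q w v)
    (s := Z) (t := (Finset.univ : Finset F)) (fun _ _ => Finset.mem_univ _)
  rw [← Finset.add_sum_erase Finset.univ _ (Finset.mem_univ (0 : F))] at hsum
  have h0 : (Z.filter (fun w => hermForm n F q w v = 0)) =
      Finset.univ.filter (fun w : Fin n → F => hermForm n F q w w = 0 ∧ hermForm n F q w v = 0) := by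
    rw [hZ, Finset.filter_filter]
  have hc : ∀ c ∈ (Finset.univ : Finset F).erase 0, (Z.filter (fun w => hermForm n F q w v = c)).card =
      (Finset.univ.filter
        (fun w : Fin n → F => hermForm n F q w v = 1 ∧ hermForm n F q w w = 0)).card := by
    intro c hc
    have hc0 : c ≠ 0 := Finset.ne_of_mem_erase hc
    apply Finset.card_nbij' (fun w => c⁻¹ • w) (fun w => c • w)
    · intro w hw
      simp only [hZ, Finset.coe_filter, Finset.mem_filter, Finset.mem_univ, true_and,
        Set.mem_ofPred_eq] at hw ⊢
      refine ⟨?_, ?_⟩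
      · rw [hermForm_smul_left, hw.2, inv_mul_cancel₀ hc0]
      · rw [hermForm_smul_left, hermForm_smul_right, hw.1, mul_zero, mul_zero]
    · intro w hw
      simp only [hZ, Finset.coe_filter, Finset.mem_filter, Finset.mem_univ, true_and,
        Set.mem_ofPred_eq] at hw ⊢
      refine ⟨?_, ?_⟩
      · rw [hermForm_smul_left, hermForm_smul_right, hw.2, mul_zero, mul_zero]
      · rw [hermForm_smul_left, hw.1, mul_one]
    · intro w _
      simp only [smul_smul, mul_inv_cancel₀ hc0, one_smul]
    · intro w _
      simp only [smul_smul, inv_mul_cancel₀ hc0, one_smul]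
  rw [Finset.sum_congr rfl hc, Finset.sum_const, Finset.card_erase_of_mem (Finset.mem_univ _),
    Finset.card_univ, hF, smul_eq_mul, h0] at hsum
  exact hsum.symm

/-- a span of pairwise orthogonal vectors is totally isotropic -/
theorem herm_ti_span (hF : Fintype.card F = q ^ 2) (n : ℕ) (s : Set (Fin n → F))
    (h : ∀ x ∈ s, ∀ y ∈ s, hermForm n F q x y = 0) :
    ∀ x ∈ Submodule.span F s, ∀ y ∈ Submodule.span F s, hermForm n F q x y = 0 := by
  intro x hx y hy
  induction hx using Submodule.span_induction with
  | mem x hx =>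
    induction hy using Submodule.span_induction with
    | mem y hy => exact h x hx y hy
    | zero => exact hermForm_zero_right hF n x
    | add y z _ _ h1 h2 => rw [hermForm_add_right hF, h1, h2, add_zero]
    | smul a y _ h1 => rw [hermForm_smul_right, h1, mul_zero]
  | zero => exact hermForm_zero_left n y
  | add x z _ _ h1 h2 => rw [hermForm_add_left, h1, h2, add_zero]
  | smul a x _ h1 => rw [hermForm_smul_left, h1, mul_zero]

/-- totally isotropic planes through an isotropic vector -/
theorem card_planes_through (hF : Fintype.card F = q ^ 2) (n : ℕ) (v : Fin n → F) (hv : v ≠ 0)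
    (hv0 : hermForm n F q v v = 0) :
    Nat.card {W : Submodule F (Fin n → F) // Module.finrank F W = 2 ∧ v ∈ W ∧
        ∀ u ∈ W, ∀ w ∈ W, hermForm n F q u w = 0} * (q ^ 4 - q ^ 2) =
      Nat.card {w : Fin n → F // hermForm n F q w w = 0 ∧ hermForm n F q w v = 0} - q ^ 2 := by
  classical
  have hq := one_lt_q hF
  have := Fintype.ofFinite (Submodule F (Fin n → F))
  have hqF : Nat.card F = q ^ 2 := by rw [Nat.card_eq_fintype_card, hF]
  let U : Submodule F (Fin n → F) := Submodule.span F {v}
  have hcardU : Nat.card U = q ^ 2 := by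
    rw [Module.natCard_eq_pow_finrank (K := F), finrank_span_singleton hv, pow_one, hqF]
  have hUiso : ∀ x ∈ U, hermForm n F q x x = 0 ∧ hermForm n F q x v = 0 := by
    intro x hx
    obtain ⟨a, rfl⟩ := Submodule.mem_span_singleton.1 hx
    rw [hermForm_smul_left, hermForm_smul_right, hermForm_smul_left, hv0]
    simp
  let s : Finset (Submodule F (Fin n → F)) := Finset.univ.filter (fun W =>
    Module.finrank F W = 2 ∧ v ∈ W ∧ ∀ u ∈ W, ∀ w ∈ W, hermForm n F q u w = 0)
  let t : Finset (Fin n → F) := Finset.univ.filter (fun w =>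
    (hermForm n F q w w = 0 ∧ hermForm n F q w v = 0) ∧ w ∉ U)
  have hdc := Finset.sum_card_bipartiteAbove_eq_sum_card_bipartiteBelow
    (fun (W : Submodule F (Fin n → F)) (w : Fin n → F) => w ∈ W) (s := s) (t := t)
  have hL : ∀ W ∈ s, (Finset.bipartiteAbove
      (fun (W : Submodule F (Fin n → F)) (w : Fin n → F) => w ∈ W) t W).card = q ^ 4 - q ^ 2 := by
    intro W hW
    obtain ⟨hfr, hvW, hti⟩ := (Finset.mem_filter.1 hW).2
    have hUW : U ≤ W := by
      rw [Submodule.span_le]
      intro x hx
      rw [Set.mem_singleton_iff] at hx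
      subst hx
      exact hvW
    have h1 := Cfsg.Agent.S0828.card_diff W U hUW
    rw [Module.natCard_eq_pow_finrank (K := F) (V := W), hfr, hcardU, hqF, Nat.card_eq_fintype_card,
      Fintype.card_subtype, ← pow_mul] at h1
    rw [← h1]
    congr 1
    ext w
    simp only [Finset.bipartiteAbove, Finset.mem_filter, Finset.mem_univ, true_and, t]
    constructor
    · rintro ⟨⟨_, h2⟩, h3⟩
      exact ⟨h3, h2⟩
    · rintro ⟨h3, h2⟩
      exact ⟨⟨⟨hti w h3 w h3, hti w h3 v hvW⟩, h2⟩, h3⟩
  have hR : ∀ w ∈ t, (Finset.bipartiteBelow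
      (fun (W : Submodule F (Fin n → F)) (w : Fin n → F) => w ∈ W) s w).card = 1 := by
    intro w hw
    obtain ⟨⟨hww, hwv⟩, hwU⟩ := (Finset.mem_filter.1 hw).2
    have hvw : hermForm n F q v w = 0 := by
      rw [hermForm_swap hF, hwv, zero_pow (by omega)]
    have hli : LinearIndependent F ![w, v] := by
      rw [LinearIndependent.pair_iff]
      intro a b hab
      have ha : a = 0 := by
        by_contra ha
        apply hwU
        rw [Submodule.mem_span_singleton]
        refine ⟨-(b / a), ?_⟩
        have : a • w = -(b • v) := eq_neg_of_add_eq_zero_left hab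
        calc (-(b / a)) • v = a⁻¹ • (-(b • v)) := by
              rw [smul_neg, neg_smul, div_eq_inv_mul, mul_smul]
          _ = a⁻¹ • (a • w) := by rw [this]
          _ = w := by rw [smul_smul, inv_mul_cancel₀ ha, one_smul]
      refine ⟨ha, ?_⟩
      rw [ha, zero_smul, zero_add] at hab
      exact (smul_eq_zero.1 hab).resolve_right hv
    have hfr : Module.finrank F (Submodule.span F (Set.range ![w, v])) = 2 := by
      rw [finrank_span_eq_card hli, Fintype.card_fin]
    have hwmem : w ∈ Submodule.span F (Set.range ![w, v]) := Submodule.subset_span ⟨0, rfl⟩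
    have hvmem : v ∈ Submodule.span F (Set.range ![w, v]) := Submodule.subset_span ⟨1, rfl⟩
    rw [Finset.card_eq_one]
    refine ⟨Submodule.span F (Set.range ![w, v]), ?_⟩
    ext W
    simp only [Finset.bipartiteBelow, Finset.mem_filter, Finset.mem_singleton, s, Finset.mem_univ,
      true_and]
    constructor
    · rintro ⟨⟨hWfr, hvW, hWti⟩, hwW⟩
      symm
      apply Submodule.eq_of_le_of_finrank_eq
      · rw [Submodule.span_le]
        rintro _ ⟨i, rfl⟩
        fin_cases i
        · exact hwW
        · exact hvW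
      · rw [hfr, hWfr]
    · rintro rfl
      refine ⟨⟨hfr, hvmem, ?_⟩, hwmem⟩
      apply herm_ti_span hF
      rintro _ ⟨i, rfl⟩ _ ⟨j, rfl⟩
      fin_cases i <;> fin_cases j
      · exact hww
      · exact hwv
      · exact hvw
      · exact hv0
  rw [Finset.sum_congr rfl hL, Finset.sum_congr rfl hR, Finset.sum_const, Finset.sum_const,
    smul_eq_mul, smul_eq_mul, mul_one] at hdc
  have ht : t.card =
      Nat.card {w : Fin n → F // hermForm n F q w w = 0 ∧ hermForm n F q w v = 0} - q ^ 2 := by
    rw [Nat.card_eq_fintype_card, Fintype.card_subtype, ← hcardU, Nat.card_eq_fintype_card,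
      Fintype.card_subtype]
    have : t = (Finset.univ.filter (fun w : Fin n → F =>
        hermForm n F q w w = 0 ∧ hermForm n F q w v = 0)) \ (Finset.univ.filter (fun w => w ∈ U)) := by
      ext w
      simp [t]
    rw [this, Finset.card_sdiff_of_subset]
    intro w hw
    simp only [Finset.mem_filter, Finset.mem_univ, true_and] at hw ⊢
    exact hUiso w hw
  rw [ht] at hdc
  rw [Nat.card_eq_fintype_card (α := {W : Submodule F (Fin n → F) // _}), Fintype.card_subtype]
  exact hdc

/-- counting all totally isotropic planes -/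
theorem card_planes_total (hF : Fintype.card F = q ^ 2) (n : ℕ) (N : ℕ)
    (hN : ∀ v : Fin n → F, v ≠ 0 → hermForm n F q v v = 0 →
      Nat.card {W : Submodule F (Fin n → F) // Module.finrank F W = 2 ∧ v ∈ W ∧
        ∀ u ∈ W, ∀ w ∈ W, hermForm n F q u w = 0} = N) :
    Nat.card {W : Submodule F (Fin n → F) // Module.finrank F W = 2 ∧
        ∀ u ∈ W, ∀ w ∈ W, hermForm n F q u w = 0} * (q ^ 4 - 1) = (cnt F q n 0 - 1) * N := by
  classical
  have hq := one_lt_q hF
  have := Fintype.ofFinite (Submodule F (Fin n → F))
  have hqF : Nat.card F = q ^ 2 := by rw [Nat.card_eq_fintype_card, hF]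
  let s : Finset (Submodule F (Fin n → F)) := Finset.univ.filter (fun W =>
    Module.finrank F W = 2 ∧ ∀ u ∈ W, ∀ w ∈ W, hermForm n F q u w = 0)
  let t : Finset (Fin n → F) := Finset.univ.filter (fun w => hermForm n F q w w = 0 ∧ w ≠ 0)
  have hdc := Finset.sum_card_bipartiteAbove_eq_sum_card_bipartiteBelow
    (fun (W : Submodule F (Fin n → F)) (w : Fin n → F) => w ∈ W) (s := s) (t := t)
  have hL : ∀ W ∈ s, (Finset.bipartiteAbove
      (fun (W : Submodule F (Fin n → F)) (w : Fin n → F) => w ∈ W) t W).card = q ^ 4 - 1 := by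
    intro W hW
    obtain ⟨hfr, hti⟩ := (Finset.mem_filter.1 hW).2
    have h1 := Cfsg.Agent.S0828.card_diff W ⊥ bot_le
    have hbot : Nat.card (⊥ : Submodule F (Fin n → F)) = 1 := by
      rw [Module.natCard_eq_pow_finrank (K := F), finrank_bot, pow_zero]
    rw [Module.natCard_eq_pow_finrank (K := F) (V := W), hfr, hbot, hqF, Nat.card_eq_fintype_card,
      Fintype.card_subtype, ← pow_mul] at h1
    rw [← h1]
    congr 1
    ext w
    simp only [Finset.bipartiteAbove, Finset.mem_filter, Finset.mem_univ, true_and, t,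
      Submodule.mem_bot]
    constructor
    · rintro ⟨⟨_, h2⟩, h3⟩
      exact ⟨h3, h2⟩
    · rintro ⟨h3, h2⟩
      exact ⟨⟨hti w h3 w h3, h2⟩, h3⟩
  have hR : ∀ w ∈ t, (Finset.bipartiteBelow
      (fun (W : Submodule F (Fin n → F)) (w : Fin n → F) => w ∈ W) s w).card = N := by
    intro w hw
    obtain ⟨hww, hw0⟩ := (Finset.mem_filter.1 hw).2
    have h1 := hN w hw0 hww
    rw [Nat.card_eq_fintype_card, Fintype.card_subtype] at h1
    rw [← h1]
    congr 1
    ext W
    simp only [Finset.bipartiteBelow, Finset.mem_filter, Finset.mem_univ, true_and, s]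
    tauto
  rw [Finset.sum_congr rfl hL, Finset.sum_congr rfl hR, Finset.sum_const, Finset.sum_const,
    smul_eq_mul, smul_eq_mul] at hdc
  have ht : t.card = cnt F q n 0 - 1 := by
    rw [← card_hermForm_eq n 0, Nat.card_eq_fintype_card, Fintype.card_subtype]
    have : t = (Finset.univ.filter (fun w : Fin n → F => hermForm n F q w w = 0)).erase 0 := by
      ext w
      simp only [t, Finset.mem_filter, Finset.mem_univ, true_and, Finset.mem_erase]
      tauto
    rw [this, Finset.card_erase_of_mem]
    rw [Finset.mem_filter]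
    exact ⟨Finset.mem_univ _, hermForm_zero_left n 0⟩
  rw [ht] at hdc
  rw [Nat.card_eq_fintype_card, Fintype.card_subtype]
  exact hdc

end Cfsg.Agent.Lib.Helper5.HermPlanes
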