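import Mathlib
import Cfsg.Prelude.Def_Characters
import Cfsg.Prelude.Def_Blocks
import Cfsg.Agent.H1.OddCount0
import Cfsg.Agent.Lib.helper3.RealOddI2
import Cfsg.Agent.Lib.helper3.IrrCongr

set_option autoImplicit false
set_option linter.style.haveILetI false
set_option linter.unusedSectionVars false
set_option linter.unusedVariables false

/-!
# S4581, Claim C'' piece (a): Clifford transport to the inertia group (helper5)
-/

namespace Cfsg.Agent.Lib.Helper5.OddCnt

open Cfsg Cfsg.Agent.H1.OddCount Cfsg.Agent.Lib.helper3.Irr Cfsg.Agent.Lib.helper3.CharBasic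
open Cfsg.Agent.Lib.helper3.IndFun
open scoped Classical

universe u

variable {G : Type u} [Group G] [Fintype G]

/-- the inertia group contains `A` -/
theorem le_inertia (A : Subgroup G) (α : A → ℂ) (hα : IsIrrCharacter A α) (T : Subgroup G)
    (hT : ∀ g : G, g ∈ T ↔ ∀ a : A, ∀ h' : g * (a : G) * g⁻¹ ∈ A,
      α ⟨g * (a : G) * g⁻¹, h'⟩ = α a) : A ≤ T := by
  intro g hg
  rw [hT]
  intro a h'
  have hcf := isClassFunction_of_isCharacter (isCharacter_of_isIrrCharacter hα)
  have := hcf a ⟨g, hg⟩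
  rw [← this]
  congr 1

/-- `InvUnder ⊤` in the inertia group. -/
theorem invUnder_top_inertia (A : Subgroup G) (α : A → ℂ) (T : Subgroup G)
    (hT : ∀ g : G, g ∈ T ↔ ∀ a : A, ∀ h' : g * (a : G) * g⁻¹ ∈ A,
      α ⟨g * (a : G) * g⁻¹, h'⟩ = α a) :
    InvUnder ⊤ (A.subgroupOf T) (subF A T α) := by
  intro g _ a h'
  have h1 := (hT (g : G)).mp g.2 ⟨((a : T) : G), Subgroup.mem_subgroupOf.mp a.2⟩
    (Subgroup.mem_subgroupOf.mp h')
  exact h1

/-- the datum restricted to the inertia group. -/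
theorem datum_inertia (P : Sylow 2 G) (A : Subgroup G) (α : A → ℂ) (h : Datum P A α)
    (T : Subgroup G)
    (hT : ∀ g : G, g ∈ T ↔ ∀ a : A, ∀ h' : g * (a : G) * g⁻¹ ∈ A,
      α ⟨g * (a : G) * g⁻¹, h'⟩ = α a) (hPT : (P : Subgroup G) ≤ T) :
    Datum (P.subtype hPT) (A.subgroupOf T) (subF A T α) := by
  have hAT := le_inertia A α h.irr T hT
  haveI := h.normal
  refine ⟨Subgroup.normal_subgroupOf, ?_, isIrrCharacter_subFun hAT h.irr, ?_, ?_, ?_⟩
  · rw [Sylow.coe_subtype, ← Subgroup.subgroupOf_normalizer_eq hPT, h.selfNorm]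
  · show α ⟨((1 : A.subgroupOf T) : T), _⟩ = 1
    rw [← h.lin]
    congr 1
  · intro g _ a h'
    exact invUnder_top_inertia A α T hT g (Subgroup.mem_top g) a h'
  · intro a
    exact h.pow2 _

/-- the count `L` is unchanged by passing to the inertia group. -/
theorem L_inertia (P : Sylow 2 G) (A : Subgroup G) (α : A → ℂ) (h : Datum P A α)
    (T : Subgroup G)
    (hT : ∀ g : G, g ∈ T ↔ ∀ a : A, ∀ h' : g * (a : G) * g⁻¹ ∈ A,
      α ⟨g * (a : G) * g⁻¹, h'⟩ = α a) (hPT : (P : Subgroup G) ≤ T) :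
    L (A.subgroupOf T) (subF A T α) = L A α := by
  have hAT := le_inertia A α h.irr T hT
  haveI := h.normal
  have hT' : ∀ g : G, (∀ a : A, α ⟨g * a * g⁻¹, h.normal.conj_mem a a.2 g⟩ = α a) → g ∈ T := by
    intro g hg
    rw [hT]
    intro a h'
    exact hg a
  obtain ⟨e, he⟩ := Cfsg.Agent.Lib.helper3.RealOddI.exists_clifford_equiv A T α h.irr hT' hAT
  have hodd : Odd T.index := by
    have h1 : T.index ∣ (P : Subgroup G).index := Subgroup.index_dvd_of_le hPT
    have h2 : ¬ 2 ∣ (P : Subgroup G).index := P.not_dvd_index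
    rw [← Nat.not_even_iff_odd, even_iff_two_dvd]
    intro h3
    exact h2 (h3.trans h1)
  have hdeg : ∀ x : {ψ : IrrCharacter T //
        classInner (fun n : A => (ψ : T → ℂ) ⟨(n : G), hAT n.2⟩) α ≠ 0},
      Odd (charDegree ((x : IrrCharacter T) : T → ℂ)) ↔
      Odd (charDegree (((e x : IrrCharacter G)) : G → ℂ)) := by
    intro x
    rw [he x, Cfsg.Agent.Lib.helper3.RealOddI.charDegree_indFun_irr, Nat.odd_mul]
    constructor
    · intro hx; exact ⟨hodd, hx⟩
    · intro hx; exact hx.2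
  have hov : ∀ ψ : IrrCharacter T, Over (A.subgroupOf T) (subF A T α) (ψ : T → ℂ) ↔
      classInner (fun n : A => (ψ : T → ℂ) ⟨(n : G), hAT n.2⟩) α ≠ 0 := by
    intro ψ
    unfold Over
    have h2 : (fun x : A.subgroupOf T => (ψ : T → ℂ) (x : T))
        = subFun A T (fun n : A => (ψ : T → ℂ) ⟨(n : G), hAT n.2⟩) := rfl
    rw [h2]
    have h3 : subF A T α = subFun A T α := rfl
    rw [h3, classInner_subFun hAT]
  unfold L
  refine Nat.card_congr ?_
  refine (Equiv.subtypeEquivRight (fun ψ => ?_)).trans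
    ((Equiv.subtypeSubtypeEquivSubtypeInter
        (fun ψ : IrrCharacter T =>
          classInner (fun n : A => (ψ : T → ℂ) ⟨(n : G), hAT n.2⟩) α ≠ 0)
        (fun ψ : IrrCharacter T => Odd (charDegree (ψ : T → ℂ)))).symm.trans
      ((e.subtypeEquiv hdeg).trans
        ((Equiv.subtypeSubtypeEquivSubtypeInter
            (fun χ : IrrCharacter G => classInner (fun n : A => (χ : G → ℂ) n) α ≠ 0)
            (fun χ : IrrCharacter G => Odd (charDegree (χ : G → ℂ)))).trans
          (Equiv.subtypeEquivRight (fun χ => ?_)))))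
  · rw [hov ψ, and_comm]
  · unfold Over
    rw [and_comm]

/-- the count `R` is unchanged by passing to the inertia group. -/
theorem R_inertia (P : Sylow 2 G) (A : Subgroup G) (α : A → ℂ)
    (T : Subgroup G) (hAT : A ≤ T) (hPT : (P : Subgroup G) ≤ T) :
    R ((P.subtype hPT : Sylow 2 ↥T) : Subgroup ↥T) (A.subgroupOf T) (subF A T α)
      = R (P : Subgroup G) A α := by
  unfold R
  symm
  refine Nat.card_congr ?_
  let ι : ↥((P.subtype hPT : Sylow 2 ↥T) : Subgroup ↥T) ≃* ↥(P : Subgroup G) :=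
    Subgroup.subgroupOfEquivOfLe hPT
  refine (Cfsg.Agent.Lib.helper3.Block.irrCongr ι).subtypeEquiv (fun ν => ?_)
  have h1 : ((Cfsg.Agent.Lib.helper3.Block.irrCongr ι ν :
      IrrCharacter ↥((P.subtype hPT : Sylow 2 ↥T) : Subgroup ↥T)) :
        ↥((P.subtype hPT : Sylow 2 ↥T) : Subgroup ↥T) → ℂ) 1 = (ν : ↥(P : Subgroup G) → ℂ) 1 := by
    rw [Cfsg.Agent.Lib.helper3.Block.irrCongr_apply, map_one]
  rw [h1]
  refine and_congr Iff.rfl ?_
  constructor
  · intro hag a ha
    rw [Cfsg.Agent.Lib.helper3.Block.irrCongr_apply]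
    exact hag ⟨((a : T) : G), Subgroup.mem_subgroupOf.mp a.2⟩ ha
  · intro hag a ha
    have := hag ⟨⟨(a : G), hAT a.2⟩, Subgroup.mem_subgroupOf.mpr a.2⟩ ha
    rw [Cfsg.Agent.Lib.helper3.Block.irrCongr_apply] at this
    exact this

theorem step0 (P : Sylow 2 G) (A : Subgroup G) (α : A → ℂ) (h : Datum P A α) (T : Subgroup G)
    (hT : ∀ g : G, g ∈ T ↔ ∀ a : A, ∀ h' : g * (a : G) * g⁻¹ ∈ A,
      α ⟨g * (a : G) * g⁻¹, h'⟩ = α a) :
    ∃ hPT : (P : Subgroup G) ≤ T,
      Datum (P.subtype hPT) (A.subgroupOf T) (subF A T α) ∧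
      InvUnder ⊤ (A.subgroupOf T) (subF A T α) ∧
      L (A.subgroupOf T) (subF A T α) = L A α ∧
      R ((P.subtype hPT : Sylow 2 ↥T) : Subgroup ↥T) (A.subgroupOf T) (subF A T α)
        = R (P : Subgroup G) A α := by
  have hPT : (P : Subgroup G) ≤ T := by
    intro g hg
    rw [hT]
    intro a h'
    exact h.inv g hg a h'
  exact ⟨hPT, datum_inertia P A α h T hT hPT, invUnder_top_inertia A α T hT,
    L_inertia P A α h T hT hPT, R_inertia P A α T (le_inertia A α h.irr T hT) hPT⟩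

end Cfsg.Agent.Lib.Helper5.OddCnt
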