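import Mathlib
import Cfsg.Agent.H1.OddCount0
import Cfsg.Agent.Lib.helper3.Irr12
import Cfsg.Agent.Lib.helper3.Gallagher3
import Cfsg.Agent.Lib.helper3.Irr9
import Cfsg.Agent.Lib.Helper8.GS6

/-!
# S4581, Claim C'': pieces (b) `top_case` and (c') `over_of_good` (helper5)
-/

set_option autoImplicit false
set_option linter.style.haveILetI false
set_option linter.unusedSectionVars false
set_option linter.unusedVariables false

namespace Cfsg.Agent.Lib.Helper5.OddCnt

open Cfsg Cfsg.Agent.H1.OddCount Cfsg.Agent.Lib.helper3.Irr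
open scoped Classical

universe u

variable {G : Type u} [Group G] [Fintype G]

/-- (c') a character over a good extension `β` of `α` lies over `α` -/
theorem over_of_good (P : Sylow 2 G) (A B : Subgroup G) (α : A → ℂ) (hA : A.Normal)
    (hB : B.Normal) (hAB : A ≤ B) (β : B → ℂ) (hβ : Good P A B α β) (χ : IrrCharacter G)
    (hover : Over B β (χ : G → ℂ)) : Over A α (χ : G → ℂ) := by
  obtain ⟨hβirr, hβ1, hag, -, -⟩ := hβ
  unfold Over at hover ⊢
  have hχB : IsCharacter B (fun b : B => (χ : G → ℂ) b) :=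
    isCharacter_restrict (isCharacter_of_isIrrCharacter χ.2) B
  have hρ := isCharacter_sub_of_classInner_ne_zero hχB ⟨β, hβirr⟩ hover
  have hρA : IsCharacter A (fun a : A =>
      ((fun b : B => (χ : G → ℂ) b) - β) ⟨a, hAB a.2⟩) :=
    isCharacter_comp hρ (Subgroup.inclusion hAB)
  -- `α` is irreducible: it is the restriction of the linear `β`
  have hαeq : α = fun a : A => β ⟨a, hAB a.2⟩ := by
    funext a
    exact (hag a (hAB a.2)).symm
  have hαchar : IsCharacter A α := by
    rw [hαeq]
    exact isCharacter_comp (isCharacter_of_isIrrCharacter hβirr) (Subgroup.inclusion hAB)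
  have hα1 : α 1 = 1 := by
    rw [hαeq]
    exact hβ1
  have hαirr : IsIrrCharacter A α := isIrrCharacter_of_linear hαchar hα1
  obtain ⟨b, hb⟩ := exists_nat_classInner_of_isCharacter hρA ⟨α, hαirr⟩
  have hsum : (fun a : A => (χ : G → ℂ) a) = α + fun a : A =>
      ((fun b : B => (χ : G → ℂ) b) - β) ⟨a, hAB a.2⟩ := by
    funext a
    simp only [Pi.add_apply, Pi.sub_apply]
    rw [hag a (hAB a.2)]
    ring
  rw [hsum, classInner_add_left, irr_classInner_self hαirr, hb]
  have : (1 : ℕ) + b ≠ 0 := by omega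
  exact_mod_cast this

/-- (b) the case `A = ⊤` -/
theorem top_case (P : Sylow 2 G) (A : Subgroup G) (α : A → ℂ) (h : Datum P A α) (hA : A = ⊤) :
    L A α = 1 ∧ R (P : Subgroup G) A α = 1 := by
  subst hA
  have hirr := h.irr
  have hlin := h.lin
  -- the character of `G` corresponding to `α`
  set χ₀ : G → ℂ := fun g => α ⟨g, Subgroup.mem_top g⟩ with hχ₀
  have hχ₀irr : IsIrrCharacter G χ₀ :=
    isIrrCharacter_comp_mulEquiv (Subgroup.topEquiv (G := G)).symm hirr
  have hres : ∀ χ : G → ℂ, (fun a : (⊤ : Subgroup G) => χ a) = α → χ = χ₀ := by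
    intro χ hχ
    funext g
    have := congrFun hχ ⟨g, Subgroup.mem_top g⟩
    exact this
  constructor
  · unfold L
    rw [Nat.card_eq_one_iff_unique]
    constructor
    · constructor
      rintro ⟨χ, -, hχo⟩ ⟨ψ, -, hψo⟩
      apply Subtype.ext
      apply Subtype.ext
      have key : ∀ χ : IrrCharacter G, Over ⊤ α (χ : G → ℂ) → (χ : G → ℂ) = χ₀ := by
        intro χ hχo
        apply hres
        unfold Over at hχo
        have hχt : IsIrrCharacter (⊤ : Subgroup G) (fun a : (⊤ : Subgroup G) => (χ : G → ℂ) a) :=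
          isIrrCharacter_comp_mulEquiv (Subgroup.topEquiv (G := G)) χ.2
        by_contra hne
        exact hχo (irr_classInner_eq_zero hχt hirr hne)
      rw [key χ hχo, key ψ hψo]
    · refine ⟨⟨⟨χ₀, hχ₀irr⟩, ?_, ?_⟩⟩
      · have h1 : χ₀ 1 = ((1 : ℕ) : ℂ) := by
          rw [hχ₀]
          simp only [Nat.cast_one]
          exact hlin
        show Odd (charDegree χ₀)
        rw [Cfsg.Agent.Lib.Helper8.GSN.charDegree_eq_of_apply_one h1]
        exact odd_one
      · show Over ⊤ α χ₀
        unfold Over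
        have : (fun a : (⊤ : Subgroup G) => χ₀ a) = α := by
          funext a
          rfl
        rw [this, irr_classInner_self hirr]
        exact one_ne_zero
  · unfold R
    rw [Nat.card_eq_one_iff_unique]
    set ν₀ : ↥(P : Subgroup G) → ℂ := fun p => α ⟨p, Subgroup.mem_top _⟩ with hν₀
    have hν₀c : IsCharacter (P : Subgroup G) ν₀ :=
      isCharacter_restrict (isCharacter_of_isIrrCharacter hχ₀irr) (P : Subgroup G)
    have hν₀1 : ν₀ 1 = 1 := hlin
    have hν₀irr : IsIrrCharacter (P : Subgroup G) ν₀ := isIrrCharacter_of_linear hν₀c hν₀1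
    constructor
    · constructor
      rintro ⟨ν, -, hνa⟩ ⟨μ, -, hμa⟩
      apply Subtype.ext
      apply Subtype.ext
      have key : ∀ ν : IrrCharacter (P : Subgroup G),
          Agree (P : Subgroup G) ⊤ α (ν : ↥(P : Subgroup G) → ℂ) →
          (ν : ↥(P : Subgroup G) → ℂ) = ν₀ := by
        intro ν hν
        funext p
        exact hν ⟨p, Subgroup.mem_top _⟩ p.2
      rw [key ν hνa, key μ hμa]
    · refine ⟨⟨⟨ν₀, hν₀irr⟩, hν₀1, ?_⟩⟩
      intro a ha
      rfl

end Cfsg.Agent.Lib.Helper5.OddCnt
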