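import Mathlib
import Cfsg.Prelude.Def_Characters
import Cfsg.Agent.Lib.helper3.Irr12
import Cfsg.Agent.Lib.helper3.CentralChar
import Cfsg.Agent.Lib.helper3.CharBasic2
import Cfsg.Agent.Lib.helper3.Lin

/-!
# Character-theoretic lemmas for the TI Sylow argument

* central elements act as scalars of norm one;
* an irreducible character whose kernel contains all commutators is linear;
* conjugation of characters of a subgroup by elements of its normalizer.
-/

set_option autoImplicit false
set_option linter.style.haveILetI false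
set_option linter.unusedSectionVars false
set_option linter.unusedVariables false

namespace Cfsg.Agent.Lib.Helper5.TISyl

open Cfsg Module Cfsg.Agent.Lib.helper3.CharBasic Cfsg.Agent.Lib.helper3.Irr
open Cfsg.Agent.Lib.helper3.Central
open scoped ComplexConjugate commutatorElement

/-- A central element acts on an irreducible character by a scalar of norm one. -/
theorem central_scalar {H : Type*} [Group H] [Finite H] {θ : H → ℂ} (hθ : IsIrrCharacter H θ)
    (z : H) (hz : z ∈ Subgroup.center H) :
    ∃ c : ℂ, ‖c‖ = 1 ∧ ∀ g : H, θ (g * z) = c * θ g := by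
  classical
  letI : Fintype H := Fintype.ofFinite H
  obtain ⟨n, ρ, hirr, rfl⟩ := hθ
  haveI := hirr
  obtain ⟨c, hc⟩ := exists_scalar_of_central ρ z hz
  have hV := finrank_ne_zero_of_irreducible ρ
  have hmul : ∀ g : H, ρ.character (g * z) = c * ρ.character g := by
    intro g
    simp only [Representation.character, map_mul, hc]
    rw [mul_smul_comm, map_smul, smul_eq_mul]
    rfl
  refine ⟨c, ?_, hmul⟩
  have h1 := (norm_character_eq_finrank_iff ρ z).mpr ⟨c, hc⟩
  have h2 := hmul 1
  rw [one_mul, Representation.char_one] at h2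
  rw [h2, norm_mul, Complex.norm_natCast] at h1
  have hpos : (0 : ℝ) < (finrank ℂ (Fin n → ℂ) : ℝ) := by
    have : finrank ℂ (Fin n → ℂ) ≠ 0 := by exact_mod_cast hV
    exact_mod_cast Nat.pos_of_ne_zero this
  have : ‖c‖ * (finrank ℂ (Fin n → ℂ) : ℝ) = 1 * (finrank ℂ (Fin n → ℂ) : ℝ) := by
    rw [h1, one_mul]
  exact mul_right_cancel₀ hpos.ne' this

/-- An irreducible character with all commutators in its kernel is linear. -/
theorem apply_one_eq_one_of_commutator {H : Type*} [Group H] [Finite H] {θ : H → ℂ}
    (hθ : IsIrrCharacter H θ) (h : ∀ a b : H, θ ⁅a, b⁆ = θ 1) : θ 1 = 1 := by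
  classical
  letI : Fintype H := Fintype.ofFinite H
  obtain ⟨n, ρ, hirr, rfl⟩ := hθ
  haveI := hirr
  have hcomm : ∀ a b : H, ρ a * ρ b = ρ b * ρ a := by
    intro a b
    have h1 : ρ ⁅a, b⁆ = LinearMap.id := by
      rw [← character_eq_finrank_iff, h a b, Representation.char_one]
    have h2 : a * b = ⁅a, b⁆ * (b * a) := by
      rw [commutatorElement_def]
      group
    rw [← map_mul, h2, map_mul, h1, map_mul]
    rfl
  have hsc : ∀ a : H, ∃ c : ℂ, ρ a = c • LinearMap.id := by
    intro a
    apply exists_eq_smul_id ρ (ρ a)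
    intro g v
    have := congrArg (fun f : (Fin n → ℂ) →ₗ[ℂ] (Fin n → ℂ) => f v) (hcomm a g)
    simpa using this
  haveI hnt := nontrivial_of_irreducible ρ
  obtain ⟨v, hv⟩ := exists_ne (0 : Fin n → ℂ)
  let W : Subrepresentation ρ :=
    { toSubmodule := Submodule.span ℂ {v}
      apply_mem_toSubmodule := by
        intro g w hw
        obtain ⟨c, hc⟩ := hsc g
        rw [hc]
        simp only [LinearMap.smul_apply, LinearMap.id_coe, id_eq]
        exact Submodule.smul_mem _ _ hw }
  have hW : W ≠ ⊥ := by
    intro hWb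
    have h1 : v ∈ W.toSubmodule := Submodule.mem_span_singleton_self v
    rw [hWb] at h1
    exact hv ((Submodule.mem_bot ℂ).mp h1)
  have hWtop : W = ⊤ := (IsSimpleOrder.eq_bot_or_eq_top W).resolve_left hW
  have h2 : (⊤ : Submodule ℂ (Fin n → ℂ)) = Submodule.span ℂ {v} := by
    have := congrArg Subrepresentation.toSubmodule hWtop
    exact this.symm
  have h3 : finrank ℂ (Fin n → ℂ) = 1 := by
    rw [← finrank_top ℂ (Fin n → ℂ), h2]
    exact finrank_span_singleton hv
  rw [Representation.char_one, h3]
  simp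

section cjsec

variable {G : Type*} [Group G]

/-- Conjugation by an element of the normalizer of `R`, as an automorphism of `R`. -/
def cjEquiv (R : Subgroup G) (y : G) (hy : y ∈ Subgroup.normalizer (R : Set G)) : R ≃* R where
  toFun r := ⟨y * r * y⁻¹, (Subgroup.mem_normalizer_iff.mp hy r).mp r.2⟩
  invFun r := ⟨y⁻¹ * r * y, by
    have := (Subgroup.mem_normalizer_iff.mp (Subgroup.inv_mem _ hy) r).mp r.2
    rwa [inv_inv] at this⟩
  left_inv r := by
    apply Subtype.ext
    show y⁻¹ * (y * r * y⁻¹) * y = r
    group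
  right_inv r := by
    apply Subtype.ext
    show y * (y⁻¹ * r * y) * y⁻¹ = r
    group
  map_mul' a b := by
    apply Subtype.ext
    show y * (a * b) * y⁻¹ = (y * a * y⁻¹) * (y * b * y⁻¹)
    group

theorem cjEquiv_coe (R : Subgroup G) (y : G) (hy : y ∈ Subgroup.normalizer (R : Set G)) (r : R) :
    ((cjEquiv R y hy r : R) : G) = y * r * y⁻¹ := rfl

/-- The multiplicity of a conjugate character in the restriction of a class function. -/
theorem classInner_restrict_cj (R : Subgroup G) [Fintype R] {χ : G → ℂ}
    (hχ : IsClassFunction G χ) (θ : R → ℂ) (y : G) (hy : y ∈ Subgroup.normalizer (R : Set G)) :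
    classInner (fun r : R => χ r) (fun r : R => θ (cjEquiv R y hy r)) =
      classInner (fun r : R => χ r) θ := by
  have h1 := classInner_comp_mulEquiv (cjEquiv R y hy) (fun r : R => χ r) θ
  rw [← h1]
  congr 1
  funext r
  rw [cjEquiv_coe]
  exact (hχ r y).symm

end cjsec

/-- A family of pairwise distinct irreducible constituents of the same degree bounds the degree. -/
theorem card_mul_le_degree {H : Type*} [Group H] [Fintype H] {Ξ : H → ℂ} (hΞ : IsCharacter H Ξ)
    (d : ℕ) (hd : Ξ 1 = d) {ι : Type*} [Fintype ι] (f : ι → IrrCharacter H)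
    (hf : Function.Injective f) (n : ℕ) (hn : ∀ i, (f i : H → ℂ) 1 = n)
    (hm : ∀ i, classInner Ξ (f i : H → ℂ) ≠ 0) : Fintype.card ι * n ≤ d := by
  classical
  obtain ⟨m, hm'⟩ := exists_decomposition_of_isCharacter hΞ
  have hmi : ∀ i, 1 ≤ m (f i) := by
    intro i
    have := hm i
    rw [hm', classInner_decomposition_left] at this
    apply Nat.one_le_iff_ne_zero.mpr
    intro h0
    apply this
    rw [h0]
    simp
  have hk : ∀ ψ : IrrCharacter H, ∃ k : ℕ, 0 < k ∧ (ψ : H → ℂ) 1 = k :=
    fun ψ => exists_pos_nat_apply_one ψ.2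
  choose k hkpos hk using hk
  have hdsum : d = ∑ ψ : IrrCharacter H, m ψ * k ψ := by
    have h1 := congrFun hm' 1
    rw [hd, Finset.sum_apply] at h1
    have h2 : ∀ ψ : IrrCharacter H, ((m ψ : ℂ) • (ψ : H → ℂ)) 1 = ((m ψ * k ψ : ℕ) : ℂ) := by
      intro ψ
      rw [Pi.smul_apply, smul_eq_mul, hk ψ]
      push_cast
      rfl
    rw [Finset.sum_congr rfl (fun ψ _ => h2 ψ), ← Nat.cast_sum] at h1
    exact_mod_cast h1
  rw [hdsum]
  calc Fintype.card ι * n = ∑ i : ι, n := by
        rw [Finset.sum_const, Finset.card_univ, smul_eq_mul]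
    _ ≤ ∑ i : ι, m (f i) * k (f i) := by
        apply Finset.sum_le_sum
        intro i _
        have h1 : k (f i) = n := by
          have := hk (f i)
          rw [hn i] at this
          exact_mod_cast this.symm
        rw [h1]
        exact Nat.le_mul_of_pos_left n (hmi i)
    _ = ∑ ψ ∈ Finset.univ.image f, m ψ * k ψ := by
        rw [Finset.sum_image]
        intro a _ b _ hab
        exact hf hab
    _ ≤ ∑ ψ : IrrCharacter H, m ψ * k ψ := by
        apply Finset.sum_le_sum_of_subset
        exact Finset.subset_univ _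

end Cfsg.Agent.Lib.Helper5.TISyl
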