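import Mathlib
import Cfsg.Prelude.Def_Characters
import Cfsg.Agent.Lib.helper3.Cyclo

/-!
# The field of values of a character and the Galois group of a cyclotomic field (helper5)

For a function `θ` on a finite group with values in the image of the `n`-th cyclotomic field, the
degree over `ℚ` of the field generated by the values of `θ` is the index of the stabilizer of `θ`
in the Galois group of the cyclotomic field.
-/

set_option autoImplicit false
set_option linter.style.haveILetI false

namespace Cfsg.Agent.Lib.Helper5.FieldVal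

open Cfsg Module Cfsg.Agent.Lib.helper3.Cyclo

variable (n : ℕ) [NeZero n]

/-- the Galois group of the cyclotomic field -/
abbrev Gal : Type := CyclotomicField n ℚ ≃ₐ[ℚ] CyclotomicField n ℚ

/-- Galois conjugation on the image of the cyclotomic field in `ℂ` (the identity elsewhere) -/
noncomputable def gal (σ : Gal n) (z : ℂ) : ℂ :=
  open Classical in if h : ∃ a, emb n a = z then emb n (σ (Classical.choose h)) else z

theorem gal_emb (σ : Gal n) (a : CyclotomicField n ℚ) : gal n σ (emb n a) = emb n (σ a) := by
  unfold gal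
  have h : ∃ b, emb n b = emb n a := ⟨a, rfl⟩
  rw [dif_pos h]
  have := emb_injective n (Classical.choose_spec h)
  rw [this]

theorem gal_mul (σ τ : Gal n) (a : CyclotomicField n ℚ) :
    gal n (σ * τ) (emb n a) = gal n σ (gal n τ (emb n a)) := by
  rw [gal_emb, gal_emb, gal_emb]; rfl

theorem gal_one (a : CyclotomicField n ℚ) : gal n 1 (emb n a) = emb n a := by
  rw [gal_emb]; rfl

theorem gal_add (σ : Gal n) (a b : CyclotomicField n ℚ) :
    gal n σ (emb n a + emb n b) = gal n σ (emb n a) + gal n σ (emb n b) := by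
  rw [← map_add, gal_emb, gal_emb, gal_emb, map_add, map_add]

theorem gal_inj (σ : Gal n) {a b : CyclotomicField n ℚ}
    (h : gal n σ (emb n a) = gal n σ (emb n b)) : a = b := by
  rw [gal_emb, gal_emb] at h
  exact σ.injective (emb_injective n h)

variable {X : Type*}

/-- the values lie in the image of the cyclotomic field -/
def InE (θ : X → ℂ) : Prop := ∀ g, ∃ a, emb n a = θ g

/-- Galois conjugate of a function -/
noncomputable def galFun (σ : Gal n) (θ : X → ℂ) : X → ℂ := fun g => gal n σ (θ g)

theorem galFun_apply (σ : Gal n) (θ : X → ℂ) (g : X) : galFun n σ θ g = gal n σ (θ g) := rfl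

theorem inE_galFun (σ : Gal n) {θ : X → ℂ} (hθ : InE n θ) : InE n (galFun n σ θ) := by
  intro g
  obtain ⟨a, ha⟩ := hθ g
  exact ⟨σ a, by rw [galFun_apply, ← ha, gal_emb]⟩

theorem galFun_mul (σ τ : Gal n) {θ : X → ℂ} (hθ : InE n θ) :
    galFun n (σ * τ) θ = galFun n σ (galFun n τ θ) := by
  funext g
  obtain ⟨a, ha⟩ := hθ g
  rw [galFun_apply, galFun_apply, galFun_apply, ← ha, gal_mul]

theorem galFun_one {θ : X → ℂ} (hθ : InE n θ) : galFun n 1 θ = θ := by
  funext g
  obtain ⟨a, ha⟩ := hθ g
  rw [galFun_apply, ← ha, gal_one]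

theorem galFun_injective (σ : Gal n) {θ θ' : X → ℂ} (hθ : InE n θ) (hθ' : InE n θ')
    (h : galFun n σ θ = galFun n σ θ') : θ = θ' := by
  funext g
  obtain ⟨a, ha⟩ := hθ g
  obtain ⟨b, hb⟩ := hθ' g
  have := congrFun h g
  rw [galFun_apply, galFun_apply, ← ha, ← hb] at this
  rw [← ha, ← hb, gal_inj n σ this]

/-- the lifts of the values -/
def lifts (θ : X → ℂ) : Set (CyclotomicField n ℚ) := {a | emb n a ∈ Set.range θ}

/-- the stabilizer in the Galois group -/
noncomputable def stab (θ : X → ℂ) : Subgroup (Gal n) :=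
  (IntermediateField.adjoin ℚ (lifts n θ)).fixingSubgroup

theorem mem_stab_iff {θ : X → ℂ} (hθ : InE n θ) (σ : Gal n) :
    σ ∈ stab n θ ↔ galFun n σ θ = θ := by
  unfold stab
  rw [IntermediateField.mem_fixingSubgroup_iff]
  constructor
  · intro h
    funext g
    obtain ⟨a, ha⟩ := hθ g
    have ha' : a ∈ IntermediateField.adjoin ℚ (lifts n θ) :=
      IntermediateField.subset_adjoin _ _ ⟨g, ha.symm⟩
    rw [galFun_apply, ← ha, gal_emb, h a ha']
  · intro h x hx
    induction hx using IntermediateField.adjoin_induction with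
    | mem x hx =>
      obtain ⟨g, hg⟩ := hx
      have := congrFun h g
      rw [galFun_apply, hg, gal_emb] at this
      exact emb_injective n this
    | algebraMap x => exact σ.commutes x
    | add x y _ _ hx hy => rw [map_add, hx, hy]
    | inv x _ hx => rw [map_inv₀, hx]
    | mul x y _ _ hx hy => rw [map_mul, hx, hy]

/-- the degree of the field of values is the index of the stabilizer -/
theorem finrank_adjoin_range {θ : X → ℂ} (hθ : InE n θ) :
    finrank ℚ (IntermediateField.adjoin ℚ (Set.range θ)) = (stab n θ).index := by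
  haveI := isCyclo n
  haveI : FiniteDimensional ℚ (CyclotomicField n ℚ) :=
    IsCyclotomicExtension.finiteDimensional {n} ℚ (CyclotomicField n ℚ)
  haveI : IsGalois ℚ (CyclotomicField n ℚ) := IsCyclotomicExtension.isGalois {n} ℚ _
  set K' := IntermediateField.adjoin ℚ (lifts n θ) with hK'
  have himg : emb n '' lifts n θ = Set.range θ := by
    ext z
    constructor
    · rintro ⟨a, ha, rfl⟩
      exact ha
    · rintro ⟨g, rfl⟩
      obtain ⟨a, ha⟩ := hθ g
      exact ⟨a, ⟨g, ha.symm⟩, ha⟩
  have hmap : K'.map (emb n) = IntermediateField.adjoin ℚ (Set.range θ) := by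
    rw [hK', IntermediateField.adjoin_map, himg]
  rw [← hmap]
  have h1 : finrank ℚ (K'.map (emb n)) = finrank ℚ K' :=
    (IntermediateField.equivMap K' (emb n)).toLinearEquiv.finrank_eq.symm
  rw [h1]
  have h2 := IsGalois.card_fixingSubgroup_eq_finrank K'
  have h3 := Module.finrank_mul_finrank ℚ K' (CyclotomicField n ℚ)
  have h4 := IsGalois.card_aut_eq_finrank ℚ (CyclotomicField n ℚ)
  have h5 := (stab n θ).card_mul_index
  have h6 : Nat.card (stab n θ) = finrank K' (CyclotomicField n ℚ) := h2
  rw [h6, h4, ← h3, mul_comm] at h5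
  have hpos : 0 < finrank K' (CyclotomicField n ℚ) := Module.finrank_pos
  exact (Nat.eq_of_mul_eq_mul_right hpos h5).symm

end Cfsg.Agent.Lib.Helper5.FieldVal
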