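import Mathlib
import Cfsg.Prelude.Def_Characters
import Cfsg.Agent.Lib.Helper5.FieldVal1
import Cfsg.Agent.Lib.helper3.GalPow2

/-!
# Galois conjugates of characters (helper5)
-/

set_option autoImplicit false
set_option linter.style.haveILetI false

namespace Cfsg.Agent.Lib.Helper5.FieldVal

open Cfsg Module Cfsg.Agent.Lib.helper3.Cyclo Cfsg.Agent.Lib.helper3.GalPow
open Cfsg.Agent.Lib.helper3.Irr Cfsg.Agent.Lib.helper3.CharBasic

variable (n : ℕ) [NeZero n]

variable {X : Type*} [Group X] [Finite X]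

theorem inE_of_isCharacter (hexp : ∀ g : X, g ^ n = 1) {θ : X → ℂ} (hθ : IsCharacter X θ) :
    InE n θ := by
  obtain ⟨m, ρ, rfl⟩ := hθ
  intro g
  obtain ⟨a, -, ha, -⟩ := exists_cyclo_lift n hexp ρ g
  exact ⟨a, ha⟩

theorem galFun_eq_pow (hexp : ∀ g : X, g ^ n = 1) {θ : X → ℂ} (hθ : IsCharacter X θ)
    (σ : Gal n) (t : ℕ) (ht : σ (zetaK n) = zetaK n ^ t) :
    galFun n σ θ = fun g => θ (g ^ t) := by
  obtain ⟨m, ρ, rfl⟩ := hθ
  funext g
  obtain ⟨a, -, ha, h⟩ := exists_cyclo_lift n hexp ρ g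
  rw [galFun_apply, ← ha, gal_emb, h σ t ht]

theorem isIrrCharacter_galFun (hexp : ∀ g : X, g ^ n = 1)
    (hcop : ∀ t : ℕ, t.Coprime n → t.Coprime (Nat.card X)) {θ : X → ℂ}
    (hθ : IsIrrCharacter X θ) (σ : Gal n) : IsIrrCharacter X (galFun n σ θ) := by
  classical
  letI : Fintype X := Fintype.ofFinite X
  obtain ⟨t, htc, ht⟩ := aut_zeta n σ
  rw [galFun_eq_pow n hexp (isCharacter_of_isIrrCharacter hθ) σ t ht]
  exact isIrrCharacter_pow hθ t (hcop t htc)

theorem classInner_galFun [Fintype X] (hexp : ∀ g : X, g ^ n = 1)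
    (hcop : ∀ t : ℕ, t.Coprime n → t.Coprime (Nat.card X)) {θ θ' : X → ℂ}
    (hθ : IsCharacter X θ) (hθ' : IsCharacter X θ') (σ : Gal n) :
    classInner (galFun n σ θ) (galFun n σ θ') = classInner θ θ' := by
  obtain ⟨t, htc, ht⟩ := aut_zeta n σ
  rw [galFun_eq_pow n hexp hθ σ t ht, galFun_eq_pow n hexp hθ' σ t ht]
  exact classInner_pow_pow θ θ' t (hcop t htc)

theorem card_gal : Nat.card (Gal n) = n.totient := by
  haveI := isCyclo n
  haveI : FiniteDimensional ℚ (CyclotomicField n ℚ) :=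
    IsCyclotomicExtension.finiteDimensional {n} ℚ (CyclotomicField n ℚ)
  haveI : IsGalois ℚ (CyclotomicField n ℚ) := IsCyclotomicExtension.isGalois {n} ℚ _
  rw [IsGalois.card_aut_eq_finrank]
  exact IsCyclotomicExtension.finrank (CyclotomicField n ℚ)
    (Polynomial.cyclotomic.irreducible_rat (NeZero.pos n))

/-- an automorphism fixing the primitive root is trivial -/
theorem eq_one_of_zeta (σ : Gal n) (h : σ (zetaK n) = zetaK n) : σ = 1 := by
  haveI := isCyclo n
  have hadj := IsCyclotomicExtension.adjoin_primitive_root_eq_top (A := ℚ) (zetaK_spec n)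
  apply AlgEquiv.coe_toAlgHom_injective
  apply AlgHom.ext_of_adjoin_eq_top hadj
  intro x hx
  rw [Set.mem_singleton_iff] at hx
  rw [hx]
  exact h

end Cfsg.Agent.Lib.Helper5.FieldVal
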