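import Mathlib
import Cfsg.Prelude.Def_Characters
import Cfsg.Agent.Lib.helper3.FullyRam
import Cfsg.Agent.Lib.helper3.Clifford2
import Cfsg.Agent.Lib.helper3.Irr16

/-!
# The restriction of an irreducible character vanishing off a normal subgroup of prime index
(helper5)
-/

set_option autoImplicit false
set_option linter.style.haveILetI false

namespace Cfsg.Agent.Lib.Helper5.FieldVal

open Cfsg Module Cfsg.Agent.Lib.helper3.IndFun Cfsg.Agent.Lib.helper3.CharBasic
open Cfsg.Agent.Lib.helper3.Irr
open scoped ComplexConjugate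

variable {P : Type*} [Group P] [Fintype P]

/-- the inner product of two sums of pairwise distinct irreducible characters -/
theorem classInner_sum_irr {X : Type*} [Group X] [Fintype X] [DecidableEq (X → ℂ)]
    (C : Finset (X → ℂ)) (hC : ∀ ψ ∈ C, IsIrrCharacter X ψ) :
    classInner (∑ ψ ∈ C, ψ) (∑ ψ ∈ C, ψ) = (C.card : ℂ) := by
  rw [classInner_sum_left]
  have : ∀ ψ ∈ C, classInner ψ (∑ ψ' ∈ C, ψ') = 1 := by
    intro ψ hψ
    rw [classInner_sum_right]
    rw [Finset.sum_eq_single ψ]
    · exact irr_classInner_self (hC ψ hψ)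
    · intro ψ' hψ' hne
      exact irr_classInner_eq_zero (hC ψ hψ) (hC ψ' hψ') (Ne.symm hne)
    · intro h; exact absurd hψ h
  rw [Finset.sum_congr rfl this, Finset.sum_const, nsmul_eq_mul, mul_one]

/-- if an irreducible character vanishes off a normal subgroup `M` of prime index `p`, its
restriction to `M` is the sum of `p` distinct conjugates of an irreducible character of `M` -/
theorem restrict_structure (p : ℕ) (hp : p.Prime) (M : Subgroup P) [hM : M.Normal] [Fintype M]
    (hidx : M.index = p) {χ : P → ℂ} (hχ : IsIrrCharacter P χ) (hvan : ∀ g, g ∉ M → χ g = 0)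
    [DecidableEq (M → ℂ)] :
    ∃ ψ : M → ℂ, IsIrrCharacter M ψ ∧
      (fun m : M => χ m) = ∑ ψ' ∈ Finset.univ.image (conjFun M ψ), ψ' ∧
      (Finset.univ.image (conjFun M ψ)).card = p := by
  classical
  have hχc := isCharacter_of_isIrrCharacter hχ
  have hres := isCharacter_restrict hχc M
  have h0 : (fun m : M => χ m) ≠ 0 := by
    intro h
    have := congrFun h 1
    exact apply_one_ne_zero hχ this
  obtain ⟨ψ, hψ⟩ := exists_constituent hres h0
  have hcl := clifford M χ hχ (ψ : M → ℂ) ψ.2 hψ
  rw [setOf_conj_eq, finsum_mem_coe_finset] at hcl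
  obtain ⟨c, hc⟩ := exists_nat_classInner_of_isCharacter hres ψ
  rw [hc] at hcl
  -- the norm of the restriction
  have hnorm : classInner (fun m : M => χ m) (fun m : M => χ m) = (p : ℂ) := by
    have hsplit := norm_split M χ hχ
    have hz : ∑ g ∈ Finset.univ.filter (fun g : P => g ∉ M), χ g * conj (χ g) = 0 := by
      apply Finset.sum_eq_zero
      intro g hg
      rw [hvan g (Finset.mem_filter.1 hg).2, zero_mul]
    rw [hz, add_zero] at hsplit
    have hcard : (Nat.card P : ℂ) = (Nat.card M : ℂ) * (p : ℂ) := by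
      rw [← hidx, ← Nat.cast_mul, Subgroup.card_mul_index]
    rw [hcard] at hsplit
    have hMne : (Nat.card M : ℂ) ≠ 0 := card_ne_zero_complex M
    exact (mul_left_cancel₀ hMne hsplit).symm
  have hCirr : ∀ ψ' ∈ Finset.univ.image (conjFun M (ψ : M → ℂ)), IsIrrCharacter M ψ' := by
    intro ψ' hψ'
    obtain ⟨g, -, rfl⟩ := Finset.mem_image.1 hψ'
    exact isIrrCharacter_conjFun M ψ.2 g
  have hnorm2 : classInner (fun m : M => χ m) (fun m : M => χ m)
      = ((c * c * (Finset.univ.image (conjFun M (ψ : M → ℂ))).card : ℕ) : ℂ) := by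
    conv_lhs => rw [hcl]
    rw [classInner_smul_left, classInner_smul_right, classInner_sum_irr _ hCirr]
    push_cast
    rw [map_natCast]
    ring
  rw [hnorm] at hnorm2
  have hnat : p = c * c * (Finset.univ.image (conjFun M (ψ : M → ℂ))).card := by
    exact_mod_cast hnorm2
  have hc1 : c = 1 := by
    have hdvd : c ∣ p := ⟨c * (Finset.univ.image (conjFun M (ψ : M → ℂ))).card, by rw [hnat]; ring⟩
    rcases (Nat.dvd_prime hp).1 hdvd with h | h
    · exact h
    · exfalso
      rw [h] at hnat
      have h2 : p * (p * (Finset.univ.image (conjFun M (ψ : M → ℂ))).card) = p * 1 := by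
        rw [mul_one]; conv_rhs => rw [hnat]
        ring
      have h3 := Nat.eq_of_mul_eq_mul_left hp.pos h2
      have h4 : p ∣ 1 := ⟨_, h3.symm⟩
      exact hp.one_lt.ne' (Nat.dvd_one.1 h4)
  refine ⟨(ψ : M → ℂ), ψ.2, ?_, ?_⟩
  · rw [hcl, hc1]
    simp
  · rw [hnat, hc1]
    simp

end Cfsg.Agent.Lib.Helper5.FieldVal
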