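import Mathlib
import Cfsg.Prelude.Def_Characters
import Cfsg.Agent.Lib.Helper5.FieldVal2
import Cfsg.Agent.Lib.Helper5.FieldVal4

/-!
# The Galois group permutes the constituents of the restriction (helper5)
-/

set_option autoImplicit false
set_option linter.style.haveILetI false
set_option linter.unusedSectionVars false

namespace Cfsg.Agent.Lib.Helper5.FieldVal

open Cfsg Module Cfsg.Agent.Lib.helper3.IndFun Cfsg.Agent.Lib.helper3.CharBasic
open Cfsg.Agent.Lib.helper3.Irr Cfsg.Agent.Lib.helper3.Cyclo Cfsg.Agent.Lib.helper3.GalPow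
open scoped ComplexConjugate

variable (n : ℕ) [NeZero n]

variable {P : Type*} [Group P] [Fintype P]

theorem galFun_conjFun (M : Subgroup P) [hM : M.Normal] (σ : Gal n) (ψ : M → ℂ) (g : P) :
    galFun n σ (conjFun M ψ g) = conjFun M (galFun n σ ψ) g := rfl

theorem gal_zero (σ : Gal n) : gal n σ 0 = 0 := by
  have := gal_emb n σ 0
  rwa [map_zero, map_zero, map_zero] at this

section main

variable (hn : Nat.card P = n) (M : Subgroup P) [hM : M.Normal] [Fintype M]
  {χ : P → ℂ} (hχ : IsIrrCharacter P χ) (hvan : ∀ g, g ∉ M → χ g = 0)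
  {ψ : M → ℂ} (hψ : IsIrrCharacter M ψ) [DecidableEq (M → ℂ)]
  (hsum : (fun m : M => χ m) = ∑ ψ' ∈ Finset.univ.image (conjFun M ψ), ψ')

include hn in
theorem hexpP : ∀ g : P, g ^ n = 1 := by
  intro g
  rw [← hn]
  exact pow_card_eq_one'

include hn in
theorem hexpM : ∀ m : M, m ^ n = 1 := by
  intro m
  apply Subtype.ext
  rw [Subgroup.coe_pow, Subgroup.coe_one]
  exact hexpP n hn (m : P)

include hn in
theorem hcopP : ∀ t : ℕ, t.Coprime n → t.Coprime (Nat.card P) := by
  intro t ht
  rwa [hn]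

include hn in
theorem hcopM : ∀ t : ℕ, t.Coprime n → t.Coprime (Nat.card M) := by
  intro t ht
  apply Nat.Coprime.coprime_dvd_right _ ht
  rw [← hn]
  exact Subgroup.card_subgroup_dvd_card M

include hn hχ hvan hψ hsum in
/-- the stabilizer of `ψ` fixes `χ` -/
theorem stab_le : stab n ψ ≤ stab n χ := by
  intro σ hσ
  have hχc := isCharacter_of_isIrrCharacter hχ
  have hψc := isCharacter_of_isIrrCharacter hψ
  have hEψ := inE_of_isCharacter n (hexpM n hn M) hψc
  have hEχ := inE_of_isCharacter n (hexpP n hn) hχc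
  rw [mem_stab_iff n hEψ] at hσ
  rw [mem_stab_iff n hEχ]
  obtain ⟨t, htc, ht⟩ := aut_zeta n σ
  funext g
  by_cases hg : g ∈ M
  · rw [galFun_eq_pow n (hexpP n hn) hχc σ t ht]
    have h1 := congrFun hsum (⟨g, hg⟩ ^ t)
    have h2 := congrFun hsum ⟨g, hg⟩
    simp only [Finset.sum_apply, Subgroup.coe_pow] at h1 h2
    show χ (g ^ t) = χ g
    rw [h1, h2]
    apply Finset.sum_congr rfl
    intro ψ' hψ'
    obtain ⟨x, -, rfl⟩ := Finset.mem_image.1 hψ'
    have h3 : galFun n σ (conjFun M ψ x) = conjFun M ψ x := by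
      rw [galFun_conjFun, hσ]
    have h4 := galFun_eq_pow n (hexpM n hn M)
      (isCharacter_of_isIrrCharacter (isIrrCharacter_conjFun M hψ x)) σ t ht
    rw [h3] at h4
    exact (congrFun h4 ⟨g, hg⟩).symm
  · rw [galFun_apply, hvan g hg, gal_zero]

include hn hχ hψ hsum in
/-- a Galois conjugate of `ψ` by an element fixing `χ` is again a constituent -/
theorem galFun_mem (hne : ψ ∈ Finset.univ.image (conjFun M ψ)) (σ : Gal n) (hσ : σ ∈ stab n χ) :
    galFun n σ ψ ∈ Finset.univ.image (conjFun M ψ) := by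
  classical
  have hχc := isCharacter_of_isIrrCharacter hχ
  have hψc := isCharacter_of_isIrrCharacter hψ
  have hEχ := inE_of_isCharacter n (hexpP n hn) hχc
  rw [mem_stab_iff n hEχ] at hσ
  have hres := isCharacter_restrict hχc M
  have hirr := isIrrCharacter_galFun n (hexpM n hn M) (hcopM n hn M) hψ σ
  have hresσ : galFun n σ (fun m : M => χ m) = fun m : M => χ m := by
    funext m
    exact congrFun hσ (m : P)
  have h1 := classInner_galFun n (hexpM n hn M) (hcopM n hn M) hres hψc σ
  rw [hresσ] at h1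
  -- `ψ` is a constituent
  have h2 : classInner (fun m : M => χ m) ψ ≠ 0 := by
    rw [hsum, classInner_sum_left, Finset.sum_eq_single ψ]
    · rw [irr_classInner_self hψ]; exact one_ne_zero
    · intro ψ' hψ' hne'
      obtain ⟨x, -, rfl⟩ := Finset.mem_image.1 hψ'
      exact irr_classInner_eq_zero (isIrrCharacter_conjFun M hψ x) hψ hne'
    · intro h; exact absurd hne h
  have h3 : classInner (fun m : M => χ m) (galFun n σ ψ) ≠ 0 := by rw [h1]; exact h2
  obtain ⟨g, hg⟩ := exists_conj_of_constituents M χ hχ ⟨ψ, hψ⟩ ⟨galFun n σ ψ, hirr⟩ h2 h3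
  simp only at hg
  rw [hg]
  exact Finset.mem_image_of_mem _ (Finset.mem_univ g)

end main

end Cfsg.Agent.Lib.Helper5.FieldVal
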