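import Mathlib
import Cfsg.Prelude.Def_Characters
import Cfsg.Agent.Lib.Helper5.FieldVal5

/-!
# The index of the stabilizer of a constituent in the stabilizer of the character (helper5)
-/

set_option autoImplicit false
set_option linter.style.haveILetI false
set_option linter.unusedSectionVars false

namespace Cfsg.Agent.Lib.Helper5.FieldVal

open Cfsg Module Cfsg.Agent.Lib.helper3.IndFun Cfsg.Agent.Lib.helper3.CharBasic
open Cfsg.Agent.Lib.helper3.Irr Cfsg.Agent.Lib.helper3.Cyclo Cfsg.Agent.Lib.helper3.GalPow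
open scoped ComplexConjugate

variable (n : ℕ) [NeZero n]

variable {P : Type*} [Group P] [Fintype P]

variable (hn : Nat.card P = n) (M : Subgroup P) [hM : M.Normal] [Fintype M]
  {χ : P → ℂ} (hχ : IsIrrCharacter P χ) (hvan : ∀ g, g ∉ M → χ g = 0)
  {ψ : M → ℂ} (hψ : IsIrrCharacter M ψ) [DecidableEq (M → ℂ)]
  (hsum : (fun m : M => χ m) = ∑ ψ' ∈ Finset.univ.image (conjFun M ψ), ψ')

include hn hχ hψ hsum in
/-- the index of the stabilizer of `ψ` in the stabilizer of `χ` is at most the number of
constituents, and in the case of equality all constituents are Galois conjugate -/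
theorem relIndex_le (hne : ψ ∈ Finset.univ.image (conjFun M ψ)) :
    (stab n ψ).relIndex (stab n χ) ≤ (Finset.univ.image (conjFun M ψ)).card ∧
      ((stab n ψ).relIndex (stab n χ) = (Finset.univ.image (conjFun M ψ)).card →
        ∀ ψ' ∈ Finset.univ.image (conjFun M ψ), ∃ σ : Gal n, ψ' = galFun n σ ψ) := by
  classical
  have hψc := isCharacter_of_isIrrCharacter hψ
  have hEψ := inE_of_isCharacter n (hexpM n hn M) hψc
  set H := stab n χ with hH
  set K := (stab n ψ).subgroupOf H with hK
  set S : Finset (M → ℂ) := Finset.univ.image (conjFun M ψ) with hS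
  let f : H → ↥S := fun σ => ⟨galFun n (σ : Gal n) ψ, galFun_mem n hn M hχ hψ hsum hne σ σ.2⟩
  have hf : ∀ σ τ : H, f σ = f τ → σ⁻¹ * τ ∈ K := by
    intro σ τ h
    have h1 : galFun n (σ : Gal n) ψ = galFun n (τ : Gal n) ψ := congrArg Subtype.val h
    have h2 := congrArg (galFun n ((σ : Gal n)⁻¹)) h1
    rw [← galFun_mul n _ _ hEψ, ← galFun_mul n _ _ hEψ, inv_mul_cancel, galFun_one n hEψ] at h2
    rw [hK, Subgroup.mem_subgroupOf, mem_stab_iff n hEψ]
    exact h2.symm
  let g : H ⧸ K → ↥S := fun q => f (Quotient.out q)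
  have hg : Function.Injective g := by
    intro q q' h
    have h1 := hf _ _ h
    have h2 : (QuotientGroup.mk (Quotient.out q) : H ⧸ K) = QuotientGroup.mk (Quotient.out q') :=
      QuotientGroup.eq.2 h1
    rw [QuotientGroup.out_eq', QuotientGroup.out_eq'] at h2
    exact h2
  have hcardC : Nat.card ↥S = S.card := by
    rw [Nat.card_eq_fintype_card, Fintype.card_coe]
  have hrel : (stab n ψ).relIndex (stab n χ) = Nat.card (H ⧸ K) := rfl
  haveI : Finite (Gal n) := by
    apply Nat.finite_of_card_ne_zero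
    rw [card_gal]
    exact (Nat.totient_pos.2 (NeZero.pos n)).ne'
  constructor
  · rw [hrel, ← hcardC]
    exact Nat.card_le_card_of_injective g hg
  · intro heq ψ' hψ'
    have hbij : Function.Bijective g := by
      apply Function.Injective.bijective_of_nat_card_le hg
      rw [hcardC, ← heq, hrel]
    obtain ⟨q, hq⟩ := hbij.2 ⟨ψ', hψ'⟩
    exact ⟨((Quotient.out q : H) : Gal n), (congrArg Subtype.val hq).symm⟩

end Cfsg.Agent.Lib.Helper5.FieldVal
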