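import Mathlib
import Cfsg.Prelude.Def_Characters
import Cfsg.Agent.Lib.Helper5.FieldVal6
import Cfsg.Agent.Lib.helper3.PDeg5
import Cfsg.Agent.Lib.helper3.Inflate2

/-!
# Faithfulness, kernels and deflation for the constituents (helper5)
-/

set_option autoImplicit false
set_option linter.style.haveILetI false
set_option linter.unusedSectionVars false

namespace Cfsg.Agent.Lib.Helper5.FieldVal

open Cfsg Module Cfsg.Agent.Lib.helper3.IndFun Cfsg.Agent.Lib.helper3.CharBasic
open Cfsg.Agent.Lib.helper3.Irr Cfsg.Agent.Lib.helper3.Cyclo Cfsg.Agent.Lib.helper3.GalPow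
open Cfsg.Agent.Lib.helper3.PDeg
open scoped ComplexConjugate

variable {P : Type*} [Group P] [Fintype P]

variable (M : Subgroup P) [hM : M.Normal] [Fintype M]
  {χ : P → ℂ} {ψ : M → ℂ} [DecidableEq (M → ℂ)]
  (hsum : (fun m : M => χ m) = ∑ ψ' ∈ Finset.univ.image (conjFun M ψ), ψ')

theorem conjFun_apply_one (g : P) : conjFun M ψ g 1 = ψ 1 := by
  unfold conjFun
  congr 1
  apply Subtype.ext
  simp

include hsum in
/-- the degree of `χ` -/
theorem degree_eq : χ 1 = ((Finset.univ.image (conjFun M ψ)).card : ℂ) * ψ 1 := by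
  have h1 := congrFun hsum 1
  simp only [Finset.sum_apply] at h1
  have h2 : ∀ ψ' ∈ Finset.univ.image (conjFun M ψ), ψ' 1 = ψ 1 := by
    intro ψ' hψ'
    obtain ⟨g, -, rfl⟩ := Finset.mem_image.1 hψ'
    exact conjFun_apply_one M g
  rw [Finset.sum_congr rfl h2, Finset.sum_const, nsmul_eq_mul] at h1
  rw [← h1]
  rfl

include hsum in
/-- if all constituents are Galois conjugate and `χ` is faithful then `ψ` is faithful -/
theorem faithful_of_galois (n : ℕ) [NeZero n]
    (hfaith : ∀ g : P, χ g = χ 1 → g = 1)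
    (hgal : ∀ ψ' ∈ Finset.univ.image (conjFun M ψ), ∃ σ : Gal n, ψ' = galFun n σ ψ) :
    ∀ m : M, ψ m = ψ 1 → m = 1 := by
  intro m hm
  have h1 := congrFun hsum m
  have h2 := congrFun hsum 1
  simp only [Finset.sum_apply] at h1 h2
  have h3 : χ (m : P) = χ ((1 : M) : P) := by
    rw [h1, h2]
    apply Finset.sum_congr rfl
    intro ψ' hψ'
    obtain ⟨σ, rfl⟩ := hgal ψ' hψ'
    rw [galFun_apply, galFun_apply, hm]
  have h4 := hfaith (m : P) h3
  exact Subtype.ext h4

/-- the kernel of a conjugate is the preimage of the kernel -/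
theorem index_kerSub_conjFun [Finite P] (hψc : IsCharacter M ψ) (g : P)
    (hc : IsCharacter M (conjFun M ψ g)) : (kerSub hc).index = (kerSub hψc).index := by
  have h : kerSub hc = (kerSub hψc).comap (MulAut.conjNormal g : M ≃* M).toMonoidHom := by
    ext m
    rw [Subgroup.mem_comap, mem_kerSub, mem_kerSub, conjFun_apply_one]
    rfl
  rw [h]
  exact Subgroup.index_comap_of_surjective _ (MulAut.conjNormal g : M ≃* M).surjective

include hsum in
/-- the order of `M` is bounded by a power of the index of the kernel of `ψ` -/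
theorem card_le_index_pow (hψ : IsIrrCharacter M ψ) (hfaith : ∀ g : P, χ g = χ 1 → g = 1) :
    Nat.card M ≤ (kerSub (isCharacter_of_isIrrCharacter hψ)).index
      ^ (Finset.univ.image (conjFun M ψ)).card := by
  classical
  set S : Finset (M → ℂ) := Finset.univ.image (conjFun M ψ) with hS
  have hSc : ∀ ψ' : ↥S, IsCharacter M (ψ' : M → ℂ) := by
    rintro ⟨ψ', hψ'⟩
    obtain ⟨g, -, rfl⟩ := Finset.mem_image.1 hψ'
    exact isCharacter_of_isIrrCharacter (isIrrCharacter_conjFun M hψ g)
  let Nf : ↥S → Subgroup M := fun ψ' => kerSub (hSc ψ')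
  have hbot : (⨅ i, Nf i) = ⊥ := by
    rw [eq_bot_iff]
    intro m hm
    rw [Subgroup.mem_iInf] at hm
    rw [Subgroup.mem_bot]
    have h1 := congrFun hsum m
    have h2 := congrFun hsum 1
    simp only [Finset.sum_apply] at h1 h2
    have h3 : χ (m : P) = χ ((1 : M) : P) := by
      rw [h1, h2]
      apply Finset.sum_congr rfl
      intro ψ' hψ'
      exact hm ⟨ψ', hψ'⟩
    exact Subtype.ext (hfaith (m : P) h3)
  have hidx : ∀ i : ↥S, (Nf i).index = (kerSub (isCharacter_of_isIrrCharacter hψ)).index := by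
    rintro ⟨ψ', hψ'⟩
    obtain ⟨g, -, rfl⟩ := Finset.mem_image.1 hψ'
    exact index_kerSub_conjFun M _ g _
  have h := Subgroup.index_iInf_le Nf
  rw [hbot, Subgroup.index_bot, Finset.prod_congr rfl (fun i _ => hidx i), Finset.prod_const,
    Finset.card_univ, Fintype.card_coe] at h
  exact h

/-- deflation of an irreducible character to the quotient by its kernel -/
theorem exists_deflation {X : Type*} [Group X] [Finite X] {θ : X → ℂ} (hθ : IsIrrCharacter X θ) :
    ∃ θ' : X ⧸ kerSub (isCharacter_of_isIrrCharacter hθ) → ℂ,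
      IsIrrCharacter (X ⧸ kerSub (isCharacter_of_isIrrCharacter hθ)) θ' ∧
      (∀ x, θ' x = θ' 1 → x = 1) ∧ θ' 1 = θ 1 ∧ Set.range θ' = Set.range θ := by
  have hθc := isCharacter_of_isIrrCharacter hθ
  obtain ⟨θ', hirr, heq⟩ := exists_eq_inflate hθ (kerSub hθc)
    (fun g n hn => apply_mul_of_apply_eq_one hθc ((mem_kerSub hθc n).1 hn) g)
  have hval : ∀ x : X, θ' (x : X ⧸ kerSub hθc) = θ x := by
    intro x
    have := congrFun heq x
    rw [inflate_apply] at this
    exact this.symm
  refine ⟨θ', hirr, ?_, ?_, ?_⟩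
  · intro x hx
    obtain ⟨g, rfl⟩ := QuotientGroup.mk_surjective x
    have h1 : θ' ((1 : X) : X ⧸ kerSub hθc) = θ 1 := hval 1
    rw [QuotientGroup.mk_one] at h1
    rw [hval, h1] at hx
    exact (QuotientGroup.eq_one_iff g).2 ((mem_kerSub hθc g).2 hx)
  · have h1 : θ' ((1 : X) : X ⧸ kerSub hθc) = θ 1 := hval 1
    rwa [QuotientGroup.mk_one] at h1
  · ext z
    constructor
    · rintro ⟨x, rfl⟩
      obtain ⟨g, rfl⟩ := QuotientGroup.mk_surjective x
      exact ⟨g, (hval g).symm⟩
    · rintro ⟨g, rfl⟩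
      exact ⟨(g : X ⧸ kerSub hθc), hval g⟩

end Cfsg.Agent.Lib.Helper5.FieldVal
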