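import Mathlib
import Cfsg.Agent.Lib.Helper5.BG13S3

/-!
# S1378 (B&G 13.9, blueprint Part 14), helper5's blocks, part 4: (H5-1a), (H5-1b)

The two intermediate facts of (H5-1) which only need `C_E(P) = P`:
`C_M(P) ≤ C_{M_σ}(P) P`, and every element of prime order `r ∉ σ(M)` of `C_M(P)` has order `p`.
-/

set_option autoImplicit false
set_option linter.unusedSectionVars false
set_option linter.unusedVariables false
set_option linter.style.haveILetI false
set_option maxHeartbeats 1000000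
open Cfsg
open scoped commutatorElement Pointwise

namespace Cfsg.Agent.Lib.Helper5.BG13S

open Cfsg.Agent.Lib.Helper7 (IsSylowIn exists_isSylowIn_ge card_subgroupOf_of_le)
open Cfsg.Agent.Lib.Helper8.BGTen Cfsg.Agent.Lib.Helper4.BGTrans
open Cfsg.Agent.Lib.helper3.BG11 Cfsg.Agent.Lib.helper3.BG12
open Cfsg.Agent.Lib.Helper4.BG1218
open Cfsg.Agent.Lib.Helper5.BG1218F

universe u

variable {G : Type u} [Group G] [Finite G]

/-- **(H5-1a)** -/
theorem centralizer_le_sup (hG : Cfsg.IsMinSimpleOddOrder G) {M : Subgroup G} (hM : IsCoatom M)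
    {E : Subgroup G} (hE : Cfsg.IsComplIn E (Cfsg.sigmaCore M) M) {P : Subgroup G} (hPE : P ≤ E)
    (hCE : E ⊓ Subgroup.centralizer (P : Set G) ≤ P) :
    M ⊓ Subgroup.centralizer (P : Set G) ≤
      (Cfsg.sigmaCore M ⊓ Subgroup.centralizer (P : Set G)) ⊔ P := by
  rintro x ⟨hxM, hxP⟩
  obtain ⟨a, ha, b, hb, hab⟩ :=
    centralizer_decomp hE (le_normalizer_sigmaCore M) hPE hxM hxP
  rw [hab]
  exact Subgroup.mul_mem _ (Subgroup.mem_sup_right (hCE ha)) (Subgroup.mem_sup_left hb)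

/-- **(H5-1b)** -/
theorem orderOf_eq_of_mem_centralizer (hG : Cfsg.IsMinSimpleOddOrder G) {M : Subgroup G}
    (hM : IsCoatom M) {E : Subgroup G} (hE : Cfsg.IsComplIn E (Cfsg.sigmaCore M) M) {p : ℕ}
    [hp : Fact p.Prime] {P : Subgroup G} (hPE : P ≤ E) (hPc : Nat.card ↥P = p)
    (hCE : E ⊓ Subgroup.centralizer (P : Set G) ≤ P) :
    ∀ y ∈ M ⊓ Subgroup.centralizer (P : Set G), (orderOf y).Prime → orderOf y ∉ Cfsg.sigma M →
      orderOf y = p := by
  intro y hy hyo hyσ
  have hy' := centralizer_le_sup hG hM hE hPE hCE hy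
  have hPn : P ≤ Subgroup.normalizer
      ((Cfsg.sigmaCore M ⊓ Subgroup.centralizer (P : Set G) : Subgroup G) : Set G) := by
    refine le_trans ?_ (Subgroup.centralizer_le_normalizer _)
    intro a ha
    rw [Subgroup.mem_centralizer_iff]
    intro u hu
    exact (Subgroup.mem_centralizer_iff.mp hu.2 a ha).symm
  have h1 := Cfsg.Agent.H1.card_sup_mul_card_inf P
    (Cfsg.sigmaCore M ⊓ Subgroup.centralizer (P : Set G)) hPn
  rw [sup_comm] at h1
  have h0 : orderOf y ∣ Nat.card ↥((Cfsg.sigmaCore M ⊓ Subgroup.centralizer (P : Set G)) ⊔ P :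
      Subgroup G) := by
    have : orderOf (⟨y, hy'⟩ : ↥((Cfsg.sigmaCore M ⊓ Subgroup.centralizer (P : Set G)) ⊔ P :
        Subgroup G)) = orderOf y := Subgroup.orderOf_mk y hy'
    rw [← this]
    exact orderOf_dvd_natCard _
  have h2 : orderOf y ∣ Nat.card ↥P *
      Nat.card ↥(Cfsg.sigmaCore M ⊓ Subgroup.centralizer (P : Set G) : Subgroup G) := by
    rw [← h1]
    exact Dvd.dvd.mul_right h0 _
  rcases (Nat.Prime.dvd_mul hyo).mp h2 with h3 | h3
  · rw [hPc] at h3
    exact (Nat.prime_dvd_prime_iff_eq hyo hp.out).mp h3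
  · exfalso
    exact hyσ (mem_sigma_of_dvd_sigmaCore hG hM hyo
      (h3.trans (Subgroup.card_dvd_of_le inf_le_left)))

end Cfsg.Agent.Lib.Helper5.BG13S
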