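import Mathlib
import Cfsg.Agent.Lib.Helper4.BG14D
import Cfsg.Agent.H1.CoprimeHall
import Cfsg.Agent.H1.CoprimeAction

/-!
# B&G Section 14 (blueprint Part 16), helper5: the set `Ẑ = K K* ∖ (K ∪ K*)`  (S1370, S1371)

Abstract part: `K`, `Ks ≤ C_G(K)` subgroups of coprime orders, `Ks ≤ M`, with
* (f1) `Ks ∩ M^g = 1` for `g ∉ M`,
* (f2) `K ∩ K^g = 1` for `g ∈ M ∖ K Ks`.
FUSION LEMMA: `z, g z g⁻¹ ∈ Ẑ ⇒ g ∈ K Ks`.  Hence `Ẑ` is a TI-subset with `N_G(Ẑ) = K Ks`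
(if `K ≠ 1 ≠ Ks`), and the union of the `M`-conjugates of `Ẑ` is a TI-subset.

Concrete part: for `IsSigmaDecomposition M K U`, `K ≠ 1`, `Ks = C_{M_σ}(K)`, given the conclusions
of S1430 and S1431 for `(M, K)` (as hypotheses `Concl1430 M K`, `Concl1431 M K`), the statements of
S1370 and S1371.
-/

set_option autoImplicit false
set_option linter.unusedSectionVars false
set_option linter.unusedVariables false
set_option linter.style.haveILetI false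
set_option maxHeartbeats 1000000
open Cfsg
open scoped commutatorElement Pointwise

namespace Cfsg.Agent.Lib.Helper5.BG14Z

open Cfsg.Agent.Lib.Helper8.BGTen Cfsg.Agent.Lib.Helper4.BGTrans

universe u

variable {G : Type u} [Group G] [Finite G]

/-- the conclusion of S1430 for `(M, K)` -/
def Concl1430 (M K : Subgroup G) : Prop :=
  (∀ k ∈ K, k ≠ 1 → Cfsg.sigmaCore M ⊓ Subgroup.centralizer ({k} : Set G) = (Cfsg.sigmaCore M ⊓ Subgroup.centralizer (K : Set G))) ∧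
      (∃ U : Subgroup G, IsMulCommutative U ∧ Cfsg.IsPiHallOf {q | q.Prime ∧ q ∉ Cfsg.kappa M ∧ q ∉ Cfsg.sigma M} U M ∧
        K ≤ Subgroup.normalizer (U : Set G) ∧ ∀ k ∈ K, k ≠ 1 → U ⊓ Subgroup.centralizer ({k} : Set G) = ⊥) ∧
      ∀ X : Subgroup G, X ≤ K → (Nat.card X).Prime →
        M ⊓ Subgroup.normalizer (X : Set G) = K ⊔ (Cfsg.sigmaCore M ⊓ Subgroup.centralizer (K : Set G)) ∧ M ⊓ Subgroup.normalizer (K : Set G) = K ⊔ (Cfsg.sigmaCore M ⊓ Subgroup.centralizer (K : Set G)) ∧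
        ∀ Mstar : Subgroup G, IsCoatom Mstar → Subgroup.normalizer (X : Set G) ≤ Mstar → X ≤ Cfsg.sigmaCore Mstar

/-- the conclusion of S1431 for `(M, K)` -/
def Concl1431 (M K : Subgroup G) : Prop :=
  (∀ g : G, g ∉ M → (Cfsg.sigmaCore M ⊓ Subgroup.centralizer (K : Set G)) ⊓ M.map (MulAut.conj g).toMonoidHom = ⊥) ∧
      (∀ g ∈ M, g ∉ K ⊔ (Cfsg.sigmaCore M ⊓ Subgroup.centralizer (K : Set G)) → K ⊓ K.map (MulAut.conj g).toMonoidHom = ⊥) ∧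
      (∀ (p : ℕ), p.Prime → p ∣ Nat.card ↥(Cfsg.sigmaCore M ⊓ Subgroup.centralizer (K : Set G)) → ∀ S : Sylow p ↥(Cfsg.sigmaCore M),
        Cfsg.InUniqueMaximal ((S : Subgroup ↥(Cfsg.sigmaCore M)).map (Cfsg.sigmaCore M).subtype) ∧
        (S : Subgroup ↥(Cfsg.sigmaCore M)).map (Cfsg.sigmaCore M).subtype ≤ M ∧
        ¬ (S : Subgroup ↥(Cfsg.sigmaCore M)).map (Cfsg.sigmaCore M).subtype ≤ (Cfsg.sigmaCore M ⊓ Subgroup.centralizer (K : Set G))) ∧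
      ∀ Y : Subgroup G, (∀ p : ℕ, p.Prime → p ∣ Nat.card Y → p ∈ Cfsg.sigma M) → Y ⊓ (Cfsg.sigmaCore M ⊓ Subgroup.centralizer (K : Set G)) ≠ ⊥ → Y ≤ Cfsg.sigmaCore M

/-! ### the abstract part -/

/-- `Ẑ = K Ks ∖ (K ∪ Ks)` -/
abbrev Zhat (K Ks : Subgroup G) : Set G := (↑(K ⊔ Ks) : Set G) \ ((K : Set G) ∪ ↑Ks)

theorem mem_Zhat_iff {K Ks : Subgroup G} {z : G} :
    z ∈ Zhat K Ks ↔ z ∈ K ⊔ Ks ∧ z ∉ K ∧ z ∉ Ks := by
  show z ∈ (↑(K ⊔ Ks) : Set G) \ ((K : Set G) ∪ ↑Ks) ↔ _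
  rw [Set.mem_sdiff, Set.mem_union, not_or]
  rfl

theorem pow_card_of_mem {K : Subgroup G} {k : G} (hk : k ∈ K) : k ^ Nat.card ↥K = 1 := by
  have h := pow_card_eq_one' (G := ↥K) (x := ⟨k, hk⟩)
  have h2 := congrArg Subtype.val h
  rw [Subgroup.coe_pow, Subgroup.coe_one] at h2
  exact h2

theorem pow_ne_one_of_coprime {Ks : Subgroup G} {y : G} (hy : y ∈ Ks) (hy1 : y ≠ 1) {a : ℕ}
    (hcop : a.Coprime (Nat.card ↥Ks)) : y ^ a ≠ 1 := by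
  intro h
  have h1 : orderOf y ∣ a := orderOf_dvd_of_pow_eq_one h
  have h2 : orderOf y ∣ Nat.card ↥Ks := Subgroup.orderOf_dvd_natCard Ks hy
  have h3 : orderOf y ∣ 1 := by
    have := Nat.dvd_gcd h1 h2
    rwa [hcop] at this
  exact hy1 (orderOf_eq_one_iff.mp (Nat.dvd_one.mp h3))

/-- an element of `Ẑ` is a commuting product `k y` with `1 ≠ k ∈ K`, `1 ≠ y ∈ Ks` -/
theorem exists_decomp {K Ks : Subgroup G} (hc : Ks ≤ Subgroup.centralizer (K : Set G)) {z : G}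
    (hz : z ∈ Zhat K Ks) :
    ∃ k ∈ K, ∃ y ∈ Ks, z = k * y ∧ k ≠ 1 ∧ y ≠ 1 ∧ k * y = y * k := by
  obtain ⟨hzZ, hzK, hzKs⟩ := mem_Zhat_iff.mp hz
  obtain ⟨k, hk, y, hy, rfl⟩ := (Cfsg.Agent.H1.mem_sup_of_le_normalizer K Ks
    (hc.trans (Subgroup.centralizer_le_normalizer _))).mp hzZ
  refine ⟨k, hk, y, hy, rfl, ?_, ?_, ?_⟩
  · rintro rfl
    apply hzKs
    rw [one_mul]; exact hy
  · rintro rfl
    apply hzK
    rw [mul_one]; exact hk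
  · exact (Subgroup.mem_centralizer_iff.mp (hc hy) k hk)

theorem mul_pow_card_left {K : Subgroup G} {k y : G} (hk : k ∈ K) (hky : k * y = y * k) :
    (k * y) ^ Nat.card ↥K = y ^ Nat.card ↥K := by
  rw [(show Commute k y from hky).mul_pow, pow_card_of_mem hk, one_mul]

theorem mul_pow_card_right {Ks : Subgroup G} {k y : G} (hy : y ∈ Ks) (hky : k * y = y * k) :
    (k * y) ^ Nat.card ↥Ks = k ^ Nat.card ↥Ks := by
  rw [(show Commute k y from hky).mul_pow, pow_card_of_mem hy, mul_one]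

/-- **FUSION LEMMA** -/
theorem fusion {M K Ks : Subgroup G} (hcop : (Nat.card ↥K).Coprime (Nat.card ↥Ks))
    (hc : Ks ≤ Subgroup.centralizer (K : Set G)) (hKsM : Ks ≤ M)
    (f1 : ∀ g : G, g ∉ M → Ks ⊓ cj g M = ⊥)
    (f2 : ∀ g ∈ M, g ∉ K ⊔ Ks → K ⊓ cj g K = ⊥)
    {z g : G} (hz : z ∈ Zhat K Ks) (hgz : g * z * g⁻¹ ∈ Zhat K Ks) : g ∈ K ⊔ Ks := by
  obtain ⟨k, hk, y, hy, rfl, hk1, hy1, hky⟩ := exists_decomp hc hz
  obtain ⟨k', hk', y', hy', hz', hk'1, hy'1, hky'⟩ := exists_decomp hc hgz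
  have hgM : g ∈ M := by
    by_contra hgM
    have h1 : (g * (k * y) * g⁻¹) ^ Nat.card ↥K = g * y ^ Nat.card ↥K * g⁻¹ := by
      rw [conj_pow, mul_pow_card_left hk hky]
    have h2 : (g * (k * y) * g⁻¹) ^ Nat.card ↥K = y' ^ Nat.card ↥K := by
      rw [hz', mul_pow_card_left hk' hky']
    have h3 : g * y ^ Nat.card ↥K * g⁻¹ ∈ Ks ⊓ cj g M := by
      refine ⟨?_, conj_mem_cj (hKsM (Ks.pow_mem hy _))⟩
      rw [← h1, h2]
      exact Ks.pow_mem hy' _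
    rw [f1 g hgM, Subgroup.mem_bot] at h3
    have h4 : y ^ Nat.card ↥K = 1 := by
      have : y ^ Nat.card ↥K = g⁻¹ * (g * y ^ Nat.card ↥K * g⁻¹) * g := by group
      rw [this, h3]; group
    exact pow_ne_one_of_coprime hy hy1 hcop h4
  by_contra hgZ
  have h1 : (g * (k * y) * g⁻¹) ^ Nat.card ↥Ks = g * k ^ Nat.card ↥Ks * g⁻¹ := by
    rw [conj_pow, mul_pow_card_right hy hky]
  have h2 : (g * (k * y) * g⁻¹) ^ Nat.card ↥Ks = k' ^ Nat.card ↥Ks := by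
    rw [hz', mul_pow_card_right hy' hky']
  have h3 : g * k ^ Nat.card ↥Ks * g⁻¹ ∈ K ⊓ cj g K := by
    refine ⟨?_, conj_mem_cj (K.pow_mem hk _)⟩
    rw [← h1, h2]
    exact K.pow_mem hk' _
  rw [f2 g hgM hgZ, Subgroup.mem_bot] at h3
  have h4 : k ^ Nat.card ↥Ks = 1 := by
    have : k ^ Nat.card ↥Ks = g⁻¹ * (g * k ^ Nat.card ↥Ks * g⁻¹) * g := by group
    rw [this, h3]; group
  exact pow_ne_one_of_coprime hk hk1 hcop.symm h4

/-- `K Ks` normalizes `Ẑ` -/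
theorem le_normalizer_Zhat {K Ks : Subgroup G} (hc : Ks ≤ Subgroup.centralizer (K : Set G)) :
    K ⊔ Ks ≤ Subgroup.normalizer (Zhat K Ks) := by
  have hc' : K ≤ Subgroup.centralizer (Ks : Set G) := Subgroup.le_centralizer_iff.mp hc
  have hZK : K ⊔ Ks ≤ Subgroup.normalizer (K : Set G) :=
    sup_le Subgroup.le_normalizer (hc.trans (Subgroup.centralizer_le_normalizer _))
  have hZKs : K ⊔ Ks ≤ Subgroup.normalizer (Ks : Set G) :=
    sup_le (hc'.trans (Subgroup.centralizer_le_normalizer _)) Subgroup.le_normalizer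
  intro g hg
  rw [Subgroup.mem_set_normalizer_iff]
  intro n
  rw [mem_Zhat_iff, mem_Zhat_iff]
  have h1 : n ∈ K ⊔ Ks ↔ g * n * g⁻¹ ∈ K ⊔ Ks :=
    Subgroup.mem_normalizer_iff.mp (Subgroup.le_normalizer hg) n
  have h2 : n ∈ K ↔ g * n * g⁻¹ ∈ K := Subgroup.mem_normalizer_iff.mp (hZK hg) n
  have h3 : n ∈ Ks ↔ g * n * g⁻¹ ∈ Ks := Subgroup.mem_normalizer_iff.mp (hZKs hg) n
  rw [h1, h2, h3]

/-- `Ẑ ≠ ∅` -/
theorem exists_mem_Zhat {K Ks : Subgroup G} (hcop : (Nat.card ↥K).Coprime (Nat.card ↥Ks))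
    (hK1 : K ≠ ⊥) (hKs1 : Ks ≠ ⊥) : ∃ z, z ∈ Zhat K Ks := by
  obtain ⟨k, hk, hk1⟩ := Cfsg.Agent.Lib.Helper4.BG14.exists_ne_one_of_ne_bot hK1
  obtain ⟨y, hy, hy1⟩ := Cfsg.Agent.Lib.Helper4.BG14.exists_ne_one_of_ne_bot hKs1
  have hbot : K ⊓ Ks = ⊥ := (Subgroup.disjoint_of_coprime_natCard hcop).eq_bot
  refine ⟨k * y, mem_Zhat_iff.mpr ⟨Subgroup.mul_mem _ (Subgroup.mem_sup_left hk)
    (Subgroup.mem_sup_right hy), ?_, ?_⟩⟩
  · intro h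
    have : y ∈ K ⊓ Ks := ⟨by
      have e : y = k⁻¹ * (k * y) := by group
      rw [e]; exact K.mul_mem (K.inv_mem hk) h, hy⟩
    rw [hbot, Subgroup.mem_bot] at this
    exact hy1 this
  · intro h
    have : k ∈ K ⊓ Ks := ⟨hk, by
      have e : k = (k * y) * y⁻¹ := by group
      rw [e]; exact Ks.mul_mem h (Ks.inv_mem hy)⟩
    rw [hbot, Subgroup.mem_bot] at this
    exact hk1 this

/-- S1370, abstract form -/
theorem s1370_abstract {M K Ks : Subgroup G} (hcop : (Nat.card ↥K).Coprime (Nat.card ↥Ks))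
    (hc : Ks ≤ Subgroup.centralizer (K : Set G)) (hKsM : Ks ≤ M)
    (f1 : ∀ g : G, g ∉ M → Ks ⊓ cj g M = ⊥)
    (f2 : ∀ g ∈ M, g ∉ K ⊔ Ks → K ⊓ cj g K = ⊥) (hK1 : K ≠ ⊥) (hKs1 : Ks ≠ ⊥) :
    Cfsg.IsTISubset (Zhat K Ks) ∧ Subgroup.normalizer (Zhat K Ks) = K ⊔ Ks := by
  refine ⟨?_, le_antisymm ?_ (le_normalizer_Zhat hc)⟩
  · intro g hg x hx hgx
    exact absurd (le_normalizer_Zhat hc (fusion hcop hc hKsM f1 f2 hx hgx)) hg
  · intro g hg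
    obtain ⟨z, hz⟩ := exists_mem_Zhat hcop hK1 hKs1
    exact fusion hcop hc hKsM f1 f2 hz ((Subgroup.mem_set_normalizer_iff.mp hg z).mp hz)

/-- the union of the `M`-conjugates of `Ẑ` is a TI-subset -/
theorem isTISubset_conj_Zhat {M K Ks : Subgroup G} (hcop : (Nat.card ↥K).Coprime (Nat.card ↥Ks))
    (hc : Ks ≤ Subgroup.centralizer (K : Set G)) (hKM : K ≤ M) (hKsM : Ks ≤ M)
    (f1 : ∀ g : G, g ∉ M → Ks ⊓ cj g M = ⊥)
    (f2 : ∀ g ∈ M, g ∉ K ⊔ Ks → K ⊓ cj g K = ⊥) :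
    Cfsg.IsTISubset {a : G | ∃ m ∈ M, ∃ z ∈ Zhat K Ks, a = m * z * m⁻¹} := by
  intro g hg x hx hgx
  exfalso
  apply hg
  obtain ⟨m, hm, z, hz, rfl⟩ := hx
  obtain ⟨m', hm', z', hz', hgx'⟩ := hgx
  have h1 : (m'⁻¹ * g * m) * z * (m'⁻¹ * g * m)⁻¹ ∈ Zhat K Ks := by
    have e : (m'⁻¹ * g * m) * z * (m'⁻¹ * g * m)⁻¹ = m'⁻¹ * (g * (m * z * m⁻¹) * g⁻¹) * m' := by
      group
    rw [e, hgx']
    have e2 : m'⁻¹ * (m' * z' * m'⁻¹) * m' = z' := by group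
    rw [e2]; exact hz'
  have h2 : m'⁻¹ * g * m ∈ M := (sup_le hKM hKsM) (fusion hcop hc hKsM f1 f2 hz h1)
  have hgM : g ∈ M := by
    have e : g = m' * (m'⁻¹ * g * m) * m⁻¹ := by group
    rw [e]; exact M.mul_mem (M.mul_mem hm' h2) (M.inv_mem hm)
  rw [Subgroup.mem_set_normalizer_iff]
  intro n
  constructor
  · rintro ⟨a, ha, w, hw, rfl⟩
    exact ⟨g * a, M.mul_mem hgM ha, w, hw, by group⟩
  · rintro ⟨a, ha, w, hw, h⟩
    refine ⟨g⁻¹ * a, M.mul_mem (M.inv_mem hgM) ha, w, hw, ?_⟩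
    have e : n = g⁻¹ * (g * n * g⁻¹) * g := by group
    rw [e, h]; group

/-! ### the concrete part -/

theorem coprime_hall_sigmaCore (hG : Cfsg.IsMinSimpleOddOrder G) {M K : Subgroup G}
    (hM : IsCoatom M) (hK : Cfsg.IsPiHallOf (Cfsg.kappa M) K M) :
    (Nat.card ↥K).Coprime (Nat.card ↥(Cfsg.sigmaCore M)) := by
  apply Nat.coprime_of_dvd
  intro q hq hd1 hd2
  exact (hK.2.1 q hq hd1).2.2.1 (Cfsg.Agent.H2.BG11.mem_sigma_of_dvd_sigmaCore hG hM hq hd2)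

theorem coprime_hall_Ks (hG : Cfsg.IsMinSimpleOddOrder G) {M K : Subgroup G}
    (hM : IsCoatom M) (hK : Cfsg.IsPiHallOf (Cfsg.kappa M) K M) :
    (Nat.card ↥K).Coprime
      (Nat.card ↥(Cfsg.sigmaCore M ⊓ Subgroup.centralizer (K : Set G) : Subgroup G)) :=
  Nat.Coprime.coprime_dvd_right (Subgroup.card_dvd_of_le inf_le_left)
    (coprime_hall_sigmaCore hG hM hK)

/-- `K* ≠ 1` -/
theorem Ks_ne_bot (hG : Cfsg.IsMinSimpleOddOrder G) {M K : Subgroup G}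
    (hM : IsCoatom M) (hK : Cfsg.IsPiHallOf (Cfsg.kappa M) K M) (hK1 : K ≠ ⊥)
    (h1 : ∀ k ∈ K, k ≠ 1 → Cfsg.sigmaCore M ⊓ Subgroup.centralizer ({k} : Set G) =
      Cfsg.sigmaCore M ⊓ Subgroup.centralizer (K : Set G)) :
    Cfsg.sigmaCore M ⊓ Subgroup.centralizer (K : Set G) ≠ ⊥ := by
  obtain ⟨q, hqf, X, hXK, hXc⟩ := Cfsg.Agent.Lib.Helper4.BG13.exists_prime_card_le hK1
  have hqκ : q ∈ Cfsg.kappa M :=
    hK.2.1 q hqf.out (hXc ▸ Subgroup.card_dvd_of_le hXK)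
  have hfix := Cfsg.Agent.Lib.Helper4.BG14.kappa_fixed hqκ (hXK.trans hK.1) hXc
  have hX1 : X ≠ ⊥ := by
    intro h0
    rw [h0, Subgroup.card_bot] at hXc
    exact hqf.out.one_lt.ne hXc
  obtain ⟨x, hx, hx1⟩ := Cfsg.Agent.Lib.Helper4.BG14.exists_ne_one_of_ne_bot hX1
  rw [← h1 x (hXK hx) hx1]
  intro h0
  apply hfix
  rw [eq_bot_iff, ← h0]
  exact inf_le_inf_left _ (Subgroup.centralizer_le (Set.singleton_subset_iff.mpr hx))

/-- **S1370** from the conclusions of S1430 and S1431 -/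
theorem s1370_of (hG : Cfsg.IsMinSimpleOddOrder G) {M K U : Subgroup G} (hM : IsCoatom M)
    (hKU : Cfsg.IsSigmaDecomposition M K U) (hK1 : K ≠ ⊥) (h30 : Concl1430 M K)
    (h31 : Concl1431 M K) :
    Cfsg.IsTISubset ((↑(K ⊔ (Cfsg.sigmaCore M ⊓ Subgroup.centralizer (K : Set G))) : Set G) \ ((K : Set G) ∪ ↑(Cfsg.sigmaCore M ⊓ Subgroup.centralizer (K : Set G)))) ∧ Subgroup.normalizer ((↑(K ⊔ (Cfsg.sigmaCore M ⊓ Subgroup.centralizer (K : Set G))) : Set G) \ ((K : Set G) ∪ ↑(Cfsg.sigmaCore M ⊓ Subgroup.centralizer (K : Set G)))) = K ⊔ (Cfsg.sigmaCore M ⊓ Subgroup.centralizer (K : Set G)) :=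
  s1370_abstract (coprime_hall_Ks hG hM hKU.hall) inf_le_right
    (inf_le_left.trans (Cfsg.Agent.H2.BG11.sigmaCore_le M)) h31.1 h31.2.1 hK1
    (Ks_ne_bot hG hM hKU.hall hK1 h30.1)

/-! ### S1371 -/

theorem mem_normalizer_sup {A B : Subgroup G} {g : G}
    (hA : g ∈ Subgroup.normalizer (A : Set G)) (hB : g ∈ Subgroup.normalizer (B : Set G)) :
    g ∈ Subgroup.normalizer ((A ⊔ B : Subgroup G) : Set G) := by
  rw [Subgroup.mem_normalizer_iff_map_conj_eq] at hA hB ⊢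
  rw [Subgroup.map_sup, hA, hB]

section decomposition

variable {M K U : Subgroup G}

/-- `K ∩ M_σ = 1` -/
theorem K_inf_sigmaCore (hG : Cfsg.IsMinSimpleOddOrder G) (hM : IsCoatom M)
    (hK : Cfsg.IsPiHallOf (Cfsg.kappa M) K M) : K ⊓ Cfsg.sigmaCore M = ⊥ :=
  (Subgroup.disjoint_of_coprime_natCard (coprime_hall_sigmaCore hG hM hK)).eq_bot

/-- `K ∩ U M_σ = 1` -/
theorem K_inf_N (hG : Cfsg.IsMinSimpleOddOrder G) (hM : IsCoatom M)
    (hKU : Cfsg.IsSigmaDecomposition M K U) : K ⊓ (U ⊔ Cfsg.sigmaCore M) = ⊥ := by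
  rw [eq_bot_iff]
  intro x hx
  obtain ⟨hxK, hxN⟩ := hx
  rw [sup_comm] at hxN
  obtain ⟨s, hs, u, hu, rfl⟩ := (Cfsg.Agent.H1.mem_sup_of_le_normalizer (Cfsg.sigmaCore M) U
    (hKU.compl.1.trans (Cfsg.Agent.H2.BG11.le_normalizer_sigmaCore M))).mp hxN
  have hu1 : u ∈ U ⊓ (K ⊔ Cfsg.sigmaCore M) := by
    refine ⟨hu, ?_⟩
    have e : u = s⁻¹ * (s * u) := by group
    rw [e]
    exact Subgroup.mul_mem _ (Subgroup.mem_sup_right (Subgroup.inv_mem _ hs))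
      (Subgroup.mem_sup_left hxK)
  rw [hKU.compl.2.2.1, Subgroup.mem_bot] at hu1
  rw [hu1, mul_one] at hxK ⊢
  have : s ∈ K ⊓ Cfsg.sigmaCore M := ⟨hxK, hs⟩
  rw [K_inf_sigmaCore hG hM hKU.hall] at this
  exact this

/-- `U M_σ ⊴ M` -/
theorem le_normalizer_N (hKU : Cfsg.IsSigmaDecomposition M K U) :
    M ≤ Subgroup.normalizer ((U ⊔ Cfsg.sigmaCore M : Subgroup G) : Set G) := by
  have hKM : K ≤ M := hKU.hall.1
  intro m hm
  obtain ⟨u, hu, b, hb, rfl⟩ := hKU.compl.2.2.2 m hm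
  rw [sup_comm] at hb
  obtain ⟨s, hs, k, hk, rfl⟩ := (Cfsg.Agent.H1.mem_sup_of_le_normalizer (Cfsg.sigmaCore M) K
    (hKM.trans (Cfsg.Agent.H2.BG11.le_normalizer_sigmaCore M))).mp hb
  have h1 : u ∈ Subgroup.normalizer ((U ⊔ Cfsg.sigmaCore M : Subgroup G) : Set G) :=
    Subgroup.le_normalizer (Subgroup.mem_sup_left hu)
  have h2 : s ∈ Subgroup.normalizer ((U ⊔ Cfsg.sigmaCore M : Subgroup G) : Set G) :=
    Subgroup.le_normalizer (Subgroup.mem_sup_right hs)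
  have h3 : k ∈ Subgroup.normalizer ((U ⊔ Cfsg.sigmaCore M : Subgroup G) : Set G) :=
    mem_normalizer_sup (hKU.normal hk)
      (Cfsg.Agent.H2.BG11.le_normalizer_sigmaCore M (hKM hk))
  exact Subgroup.mul_mem _ h1 (Subgroup.mul_mem _ h2 h3)

/-- `M = (U M_σ) K` -/
theorem exists_mul_N_K (hKU : Cfsg.IsSigmaDecomposition M K U) {x : G} (hx : x ∈ M) :
    ∃ n ∈ U ⊔ Cfsg.sigmaCore M, ∃ k ∈ K, x = n * k := by
  have hKM : K ≤ M := hKU.hall.1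
  obtain ⟨u, hu, b, hb, rfl⟩ := hKU.compl.2.2.2 x hx
  rw [sup_comm] at hb
  obtain ⟨s, hs, k, hk, rfl⟩ := (Cfsg.Agent.H1.mem_sup_of_le_normalizer (Cfsg.sigmaCore M) K
    (hKM.trans (Cfsg.Agent.H2.BG11.le_normalizer_sigmaCore M))).mp hb
  exact ⟨u * s, Subgroup.mul_mem _ (Subgroup.mem_sup_left hu) (Subgroup.mem_sup_right hs), k, hk,
    by group⟩

/-- `(n k)^j ∈ N k^j` when `k` normalizes `N` -/
theorem exists_pow_mul {N : Subgroup G} {n k : G} (hn : n ∈ N)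
    (hk : k ∈ Subgroup.normalizer (N : Set G)) (j : ℕ) :
    ∃ n' ∈ N, (n * k) ^ j = n' * k ^ j := by
  induction j with
  | zero => exact ⟨1, N.one_mem, by simp⟩
  | succ j ih =>
    obtain ⟨n', hn', h⟩ := ih
    have hkj : k ^ j ∈ Subgroup.normalizer (N : Set G) := Subgroup.pow_mem _ hk j
    refine ⟨n' * (k ^ j * n * (k ^ j)⁻¹),
      N.mul_mem hn' ((Subgroup.mem_normalizer_iff.mp hkj n).mp hn), ?_⟩
    rw [pow_succ, h, pow_succ]
    group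

/-- `x ^ |K| ∈ U M_σ` for `x ∈ M` -/
theorem pow_card_mem_N (hKU : Cfsg.IsSigmaDecomposition M K U) {x : G} (hx : x ∈ M) :
    x ^ Nat.card ↥K ∈ U ⊔ Cfsg.sigmaCore M := by
  obtain ⟨n, hn, k, hk, rfl⟩ := exists_mul_N_K hKU hx
  obtain ⟨n', hn', h⟩ := exists_pow_mul hn (le_normalizer_N hKU (hKU.hall.1 hk)) (Nat.card ↥K)
  rw [h, pow_card_of_mem hk, mul_one]
  exact hn'

end decomposition

/-- the hard inclusion of S1371: an element of `M` outside `U M_σ` which is not `M`-conjugate to an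
element of `K` is `M`-conjugate to an element of `Ẑ` -/
theorem exists_conj_mem_Zhat (hG : Cfsg.IsMinSimpleOddOrder G) {M K U : Subgroup G}
    (hM : IsCoatom M) (hKU : Cfsg.IsSigmaDecomposition M K U)
    (f2 : ∀ g ∈ M, g ∉ K ⊔ (Cfsg.sigmaCore M ⊓ Subgroup.centralizer (K : Set G)) →
      K ⊓ cj g K = ⊥)
    {a : G} (haM : a ∈ M) (haN : a ∉ U ⊔ Cfsg.sigmaCore M)
    (haK : ¬ ∃ k ∈ K, k ≠ 1 ∧ ∃ m ∈ M, a = m * k * m⁻¹) :
    ∃ m ∈ M, ∃ z ∈ Zhat K (Cfsg.sigmaCore M ⊓ Subgroup.centralizer (K : Set G)),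
      a = m * z * m⁻¹ := by
  have hK := hKU.hall
  have hKM : K ≤ M := hK.1
  have hKsσ : Cfsg.sigmaCore M ⊓ Subgroup.centralizer (K : Set G) ≤ Cfsg.sigmaCore M := inf_le_left
  have hNM : U ⊔ Cfsg.sigmaCore M ≤ M := sup_le hKU.compl.1 (Cfsg.Agent.H2.BG11.sigmaCore_le M)
  have hsolv : Group.IsSolvable ↥M := hG.2.2.2 M hM.1
  -- `|M| = c d`, `(c, d) = 1`
  have hcard : Nat.card ↥M = K.relIndex M * Nat.card ↥K :=
    Cfsg.Agent.H1.card_eq_relIndex_mul_card hKM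
  have hcop : (Nat.card ↥K).Coprime (K.relIndex M) := by
    apply Nat.coprime_of_dvd
    intro q hq hd1 hd2
    exact hK.2.2 q hq (hK.2.1 q hq hd1) hd2
  have hbez := Nat.gcd_eq_gcd_ab (Nat.card ↥K) (K.relIndex M)
  rw [hcop] at hbez
  set u : ℤ := Nat.gcdA (Nat.card ↥K) (K.relIndex M) with hu
  set v : ℤ := Nat.gcdB (Nat.card ↥K) (K.relIndex M) with hv
  -- the two parts of `a`
  have hapow : a ^ (Nat.card ↥K * K.relIndex M) = 1 := by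
    rw [mul_comm, ← hcard]; exact pow_card_of_mem haM
  obtain ⟨k₁, hk₁⟩ : ∃ k₁ : G, k₁ = a ^ ((K.relIndex M : ℤ) * v) := ⟨_, rfl⟩
  obtain ⟨n₁, hn₁⟩ : ∃ n₁ : G, n₁ = a ^ ((Nat.card ↥K : ℤ) * u) := ⟨_, rfl⟩
  have hsplit : a = n₁ * k₁ := by
    rw [hn₁, hk₁, ← zpow_add, ← hbez]
    simp
  have hcomm : n₁ * k₁ = k₁ * n₁ := by
    rw [hn₁, hk₁]
    exact ((Commute.refl a).zpow_zpow _ _).eq
  have hk₁M : k₁ ∈ M := hk₁ ▸ M.zpow_mem haM _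
  have hn₁N : n₁ ∈ U ⊔ Cfsg.sigmaCore M := by
    rw [hn₁, zpow_mul, zpow_natCast]
    exact Subgroup.zpow_mem _ (pow_card_mem_N hKU haM) _
  have hk₁c : k₁ ^ Nat.card ↥K = 1 := by
    rw [hk₁, ← zpow_natCast, ← zpow_mul]
    have e : (K.relIndex M : ℤ) * v * (Nat.card ↥K : ℤ) =
        ((Nat.card ↥K * K.relIndex M : ℕ) : ℤ) * v := by push_cast; ring
    rw [e, zpow_mul, zpow_natCast, hapow, one_zpow]
  have hk₁1 : k₁ ≠ 1 := by
    intro h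
    apply haN
    rw [hsplit, h, mul_one]; exact hn₁N
  -- conjugate `k₁` into `K`
  have hpi : Cfsg.Agent.H1.PiNum (Cfsg.kappa M) (Nat.card ↥(Subgroup.zpowers k₁)) := by
    intro q hq hqd
    rw [Nat.card_zpowers] at hqd
    exact hK.2.1 q hq (hqd.trans (orderOf_dvd_of_pow_eq_one hk₁c))
  obtain ⟨m, hm, hle⟩ := Cfsg.Agent.H1.isPiHallOf_dominance (Cfsg.kappa M) K M
    (Subgroup.zpowers k₁) hsolv hK (Subgroup.zpowers_le.mpr hk₁M) hpi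
  have hkK : m⁻¹ * k₁ * m ∈ K := mem_cj.mp (hle (Subgroup.mem_zpowers k₁))
  have hk1' : m⁻¹ * k₁ * m ≠ 1 := by
    intro h
    apply hk₁1
    have e : k₁ = m * (m⁻¹ * k₁ * m) * m⁻¹ := by group
    rw [e, h]; group
  -- the other part
  have hminv : m⁻¹ ∈ M := M.inv_mem hm
  have hnN : m⁻¹ * n₁ * m ∈ U ⊔ Cfsg.sigmaCore M := by
    have := (Subgroup.mem_normalizer_iff.mp (le_normalizer_N hKU hminv) n₁).mp hn₁N
    rwa [inv_inv] at this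
  have hnM : m⁻¹ * n₁ * m ∈ M := hNM hnN
  have hcomm' : (m⁻¹ * n₁ * m) * (m⁻¹ * k₁ * m) = (m⁻¹ * k₁ * m) * (m⁻¹ * n₁ * m) := by
    have e1 : (m⁻¹ * n₁ * m) * (m⁻¹ * k₁ * m) = m⁻¹ * (n₁ * k₁) * m := by group
    have e2 : (m⁻¹ * k₁ * m) * (m⁻¹ * n₁ * m) = m⁻¹ * (k₁ * n₁) * m := by group
    rw [e1, e2, hcomm]
  have hnZ : m⁻¹ * n₁ * m ∈ K ⊔ (Cfsg.sigmaCore M ⊓ Subgroup.centralizer (K : Set G)) := by
    by_contra hnZ
    have hbot := f2 _ hnM hnZ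
    have : m⁻¹ * k₁ * m ∈ K ⊓ cj (m⁻¹ * n₁ * m) K := by
      refine ⟨hkK, ?_⟩
      have e : m⁻¹ * k₁ * m = (m⁻¹ * n₁ * m) * (m⁻¹ * k₁ * m) * (m⁻¹ * n₁ * m)⁻¹ := by
        rw [hcomm']; group
      rw [e]
      exact conj_mem_cj hkK
    rw [hbot, Subgroup.mem_bot] at this
    exact hk1' this
  obtain ⟨k₂, hk₂, y₂, hy₂, hny⟩ := (Cfsg.Agent.H1.mem_sup_of_le_normalizer K
    (Cfsg.sigmaCore M ⊓ Subgroup.centralizer (K : Set G))
    (inf_le_right.trans (Subgroup.centralizer_le_normalizer _))).mp hnZ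
  have hk₂1 : k₂ = 1 := by
    have : k₂ ∈ K ⊓ (U ⊔ Cfsg.sigmaCore M) := by
      refine ⟨hk₂, ?_⟩
      have e : k₂ = (m⁻¹ * n₁ * m) * y₂⁻¹ := by rw [hny]; group
      rw [e]
      exact Subgroup.mul_mem _ hnN (Subgroup.inv_mem _ (Subgroup.mem_sup_right (hKsσ hy₂)))
    rw [K_inf_N hG hM hKU, Subgroup.mem_bot] at this
    exact this
  rw [hk₂1, one_mul] at hny
  have hy₂1 : y₂ ≠ 1 := by
    intro h
    apply haK
    refine ⟨m⁻¹ * k₁ * m, hkK, hk1', m, hm, ?_⟩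
    have hn1 : n₁ = 1 := by
      have e : n₁ = m * (m⁻¹ * n₁ * m) * m⁻¹ := by group
      rw [e, hny, h]; group
    rw [hsplit, hn1, one_mul]; group
  have hbot : K ⊓ (Cfsg.sigmaCore M ⊓ Subgroup.centralizer (K : Set G)) = ⊥ :=
    (Subgroup.disjoint_of_coprime_natCard (coprime_hall_Ks hG hM hK)).eq_bot
  refine ⟨m, hm, (m⁻¹ * k₁ * m) * y₂, mem_Zhat_iff.mpr ⟨?_, ?_, ?_⟩, ?_⟩
  · exact Subgroup.mul_mem _ (Subgroup.mem_sup_left hkK) (Subgroup.mem_sup_right hy₂)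
  · intro h
    have : y₂ ∈ K ⊓ (Cfsg.sigmaCore M ⊓ Subgroup.centralizer (K : Set G)) := ⟨by
      have e : y₂ = (m⁻¹ * k₁ * m)⁻¹ * ((m⁻¹ * k₁ * m) * y₂) := by group
      rw [e]; exact K.mul_mem (K.inv_mem hkK) h, hy₂⟩
    rw [hbot, Subgroup.mem_bot] at this
    exact hy₂1 this
  · intro h
    have : m⁻¹ * k₁ * m ∈ K ⊓ (Cfsg.sigmaCore M ⊓ Subgroup.centralizer (K : Set G)) := ⟨hkK, by
      have e : m⁻¹ * k₁ * m = ((m⁻¹ * k₁ * m) * y₂) * y₂⁻¹ := by group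
      rw [e]; exact Subgroup.mul_mem _ h (Subgroup.inv_mem _ hy₂)⟩
    rw [hbot, Subgroup.mem_bot] at this
    exact hk1' this
  · rw [← hny, hsplit, hcomm]; group

/-- **S1371** from the conclusions of S1430 and S1431 -/
theorem s1371_of (hG : Cfsg.IsMinSimpleOddOrder G) {M K U : Subgroup G} (hM : IsCoatom M)
    (hKU : Cfsg.IsSigmaDecomposition M K U) (hK1 : K ≠ ⊥) (h30 : Concl1430 M K)
    (h31 : Concl1431 M K) :
    {a : G | ∃ m ∈ M, ∃ z ∈ ((↑(K ⊔ (Cfsg.sigmaCore M ⊓ Subgroup.centralizer (K : Set G))) : Set G) \ ((K : Set G) ∪ ↑(Cfsg.sigmaCore M ⊓ Subgroup.centralizer (K : Set G)))), a = m * z * m⁻¹} = Cfsg.sigmaA0 M K \ Cfsg.sigmaA M U ∧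
      Cfsg.IsTISubset (Cfsg.sigmaA0 M K \ Cfsg.sigmaA M U) := by
  have hK := hKU.hall
  have hKM : K ≤ M := hK.1
  have hKsM : Cfsg.sigmaCore M ⊓ Subgroup.centralizer (K : Set G) ≤ M :=
    inf_le_left.trans (Cfsg.Agent.H2.BG11.sigmaCore_le M)
  have hcop := coprime_hall_Ks hG hM hK
  have hc : Cfsg.sigmaCore M ⊓ Subgroup.centralizer (K : Set G) ≤
      Subgroup.centralizer (K : Set G) := inf_le_right
  have heq : {a : G | ∃ m ∈ M, ∃ z ∈ Zhat K (Cfsg.sigmaCore M ⊓ Subgroup.centralizer (K : Set G)),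
      a = m * z * m⁻¹} = Cfsg.sigmaA0 M K \ Cfsg.sigmaA M U := by
    ext a
    constructor
    · rintro ⟨m, hm, z, hz, rfl⟩
      obtain ⟨k, hk, y, hy, rfl, hk1, hy1, hky⟩ := exists_decomp hc hz
      have hzM : k * y ∈ M := M.mul_mem (hKM hk) (hKsM hy)
      have haM : m * (k * y) * m⁻¹ ∈ M := M.mul_mem (M.mul_mem hm hzM) (M.inv_mem hm)
      have hhat : m * (k * y) * m⁻¹ ∈ Cfsg.sigmaHat M := by
        refine ⟨haM, m * y * m⁻¹, ?_, ?_, ?_⟩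
        · exact (Subgroup.mem_normalizer_iff.mp
            (Cfsg.Agent.H2.BG11.le_normalizer_sigmaCore M hm) y).mp hy.1
        · intro h
          apply hy1
          have e : y = m⁻¹ * (m * y * m⁻¹) * m := by group
          rw [e, h]; group
        · have e1 : m * (k * y) * m⁻¹ * (m * y * m⁻¹) = m * ((k * y) * y) * m⁻¹ := by group
          have e2 : m * y * m⁻¹ * (m * (k * y) * m⁻¹) = m * (y * (k * y)) * m⁻¹ := by group
          have e3 : k * y * y = y * (k * y) := by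
            calc k * y * y = (y * k) * y := by rw [hky]
              _ = y * (k * y) := mul_assoc _ _ _
          rw [e1, e2, e3]
      refine ⟨⟨hhat, ?_⟩, ?_⟩
      · rintro ⟨k', hk', hk'1, m', hm', h⟩
        have h1 : (m * (k * y) * m⁻¹) ^ Nat.card ↥K = m * y ^ Nat.card ↥K * m⁻¹ := by
          rw [conj_pow, mul_pow_card_left hk hky]
        have h2 : (m * (k * y) * m⁻¹) ^ Nat.card ↥K = 1 := by
          rw [h, conj_pow, pow_card_of_mem hk']; group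
        rw [h1] at h2
        have h3 : y ^ Nat.card ↥K = 1 := by
          have e : y ^ Nat.card ↥K = m⁻¹ * (m * y ^ Nat.card ↥K * m⁻¹) * m := by group
          rw [e, h2]; group
        exact pow_ne_one_of_coprime hy hy1 hcop h3
      · rintro ⟨-, hN⟩
        have hN' : m * (k * y) * m⁻¹ ∈ U ⊔ Cfsg.sigmaCore M := hN
        have hzN : k * y ∈ U ⊔ Cfsg.sigmaCore M :=
          (Subgroup.mem_normalizer_iff.mp (le_normalizer_N hKU hm) (k * y)).mpr hN'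
        have hkN : k ∈ K ⊓ (U ⊔ Cfsg.sigmaCore M) := by
          refine ⟨hk, ?_⟩
          have e : k = (k * y) * y⁻¹ := by group
          rw [e]
          exact Subgroup.mul_mem _ hzN (Subgroup.inv_mem _ (Subgroup.mem_sup_right hy.1))
        rw [K_inf_N hG hM hKU, Subgroup.mem_bot] at hkN
        exact hk1 hkN
    · rintro ⟨⟨hhat, haK⟩, haA⟩
      have haN : a ∉ U ⊔ Cfsg.sigmaCore M := fun h => haA ⟨hhat, h⟩
      exact exists_conj_mem_Zhat hG hM hKU h31.2.1 hhat.1 haN haK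
  refine ⟨heq, ?_⟩
  rw [← heq]
  exact isTISubset_conj_Zhat hcop hc hKM hKsM h31.1 h31.2.1

end Cfsg.Agent.Lib.Helper5.BG14Z
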