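import Mathlib
import Cfsg.Agent.Lib.Helper5.BG14Z1

/-!
# B&G Section 14 (blueprint Part 16), helper5: counting the class support of `Ẑ`

* `card_class_support`: if `Z ≤ N_G(X)` and `Z` controls fusion in the set `X`
  (`x, g x g⁻¹ ∈ X ⇒ g ∈ Z`), then `|⋃_g g X g⁻¹| · |Z| = |G| · |X|`.
* `ncard_Zhat`: `|Ẑ| + |K| + |Ks| = |K| |Ks| + 1`.
* `count_Zhat`: the last two clauses of S1434 in abstract form.
* `s1434_count_of`: the last two clauses of S1434 from the conclusions of S1430 and S1431.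
-/

set_option autoImplicit false
set_option linter.unusedSectionVars false
set_option linter.unusedVariables false
set_option linter.style.haveILetI false
set_option maxHeartbeats 1000000
open Cfsg
open scoped commutatorElement Pointwise

namespace Cfsg.Agent.Lib.Helper5.BG14Z

open Cfsg.Agent.Lib.Helper8.BGTen Cfsg.Agent.Lib.Helper4.BGTrans

universe u

variable {G : Type u} [Group G] [Finite G]

/-- the general counting lemma for a set whose fusion is controlled by a subgroup normalizing it -/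
theorem card_class_support {Z : Subgroup G} {X : Set G} (hZX : Z ≤ Subgroup.normalizer X)
    (hfus : ∀ x ∈ X, ∀ g : G, g * x * g⁻¹ ∈ X → g ∈ Z) :
    Set.ncard {a : G | ∃ g : G, ∃ x ∈ X, a = g * x * g⁻¹} * Nat.card ↥Z =
      Nat.card G * Set.ncard X := by
  classical
  have hnorm : ∀ t ∈ Z, ∀ x ∈ X, t⁻¹ * x * t ∈ X := by
    intro t ht x hx
    have := (Subgroup.mem_set_normalizer_iff.mp (hZX (Z.inv_mem ht)) x).mp hx
    rwa [inv_inv] at this
  have hrep : ∀ a : ↥{a : G | ∃ g : G, ∃ x ∈ X, a = g * x * g⁻¹},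
      ∃ p : G × G, p.2 ∈ X ∧ (a : G) = p.1 * p.2 * p.1⁻¹ := by
    rintro ⟨a, g, x, hx, h⟩
    exact ⟨(g, x), hx, h⟩
  choose rep hrepX hrepeq using hrep
  let ψ : ↥{a : G | ∃ g : G, ∃ x ∈ X, a = g * x * g⁻¹} × ↥Z → G × ↥X := fun p =>
    ((rep p.1).1 * (p.2 : G),
      ⟨(p.2 : G)⁻¹ * (rep p.1).2 * (p.2 : G), hnorm _ p.2.2 _ (hrepX p.1)⟩)
  have hφψ : ∀ p, (ψ p).1 * ((ψ p).2 : G) * (ψ p).1⁻¹ = (p.1 : G) := by
    intro p
    show (rep p.1).1 * (p.2 : G) * ((p.2 : G)⁻¹ * (rep p.1).2 * (p.2 : G)) *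
      ((rep p.1).1 * (p.2 : G))⁻¹ = (p.1 : G)
    rw [hrepeq p.1]
    group
  have hinj : Function.Injective ψ := by
    intro p q hpq
    have h1 : (p.1 : G) = (q.1 : G) := by rw [← hφψ p, ← hφψ q, hpq]
    have h1' : p.1 = q.1 := Subtype.ext h1
    have h2 : (rep p.1).1 * (p.2 : G) = (rep q.1).1 * (q.2 : G) := congrArg Prod.fst hpq
    rw [h1'] at h2
    have h3 : (p.2 : G) = (q.2 : G) := mul_left_cancel h2
    exact Prod.ext h1' (Subtype.ext h3)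
  have hsurj : Function.Surjective ψ := by
    rintro ⟨g, ⟨x, hx⟩⟩
    have ha : g * x * g⁻¹ ∈ {a : G | ∃ g : G, ∃ x ∈ X, a = g * x * g⁻¹} := ⟨g, x, hx, rfl⟩
    obtain ⟨r, hr⟩ : ∃ r, r = rep ⟨g * x * g⁻¹, ha⟩ := ⟨_, rfl⟩
    have heq : g * x * g⁻¹ = r.1 * r.2 * r.1⁻¹ := by rw [hr]; exact hrepeq ⟨_, ha⟩
    have hXa : r.2 ∈ X := by rw [hr]; exact hrepX _
    have hcalc : (r.1⁻¹ * g) * x * (r.1⁻¹ * g)⁻¹ = r.2 := by
      have e : (r.1⁻¹ * g) * x * (r.1⁻¹ * g)⁻¹ = r.1⁻¹ * (g * x * g⁻¹) * r.1 := by group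
      rw [e, heq]; group
    have htZ : r.1⁻¹ * g ∈ Z := by
      apply hfus x hx
      rw [hcalc]; exact hXa
    refine ⟨(⟨g * x * g⁻¹, ha⟩, ⟨_, htZ⟩), ?_⟩
    apply Prod.ext
    · show (rep ⟨g * x * g⁻¹, ha⟩).1 * (r.1⁻¹ * g) = g
      rw [← hr]; group
    · apply Subtype.ext
      show (r.1⁻¹ * g)⁻¹ * (rep ⟨g * x * g⁻¹, ha⟩).2 * (r.1⁻¹ * g) = x
      rw [← hr, ← hcalc]; group
  have hcard := Nat.card_congr (Equiv.ofBijective ψ ⟨hinj, hsurj⟩)
  rw [Nat.card_prod, Nat.card_prod, Nat.card_coe_set_eq, Nat.card_coe_set_eq] at hcard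
  exact hcard

/-- `|K Ks| = |K| |Ks|` -/
theorem card_sup_of_coprime {K Ks : Subgroup G} (hcop : (Nat.card ↥K).Coprime (Nat.card ↥Ks))
    (hc : Ks ≤ Subgroup.centralizer (K : Set G)) :
    Nat.card ↥(K ⊔ Ks : Subgroup G) = Nat.card ↥K * Nat.card ↥Ks := by
  have hc' : K ≤ Subgroup.centralizer (Ks : Set G) := Subgroup.le_centralizer_iff.mp hc
  have h := Cfsg.Agent.H1.card_sup_mul_card_inf K Ks
    (hc'.trans (Subgroup.centralizer_le_normalizer _))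
  rw [(Subgroup.disjoint_of_coprime_natCard hcop).eq_bot, Subgroup.card_bot, mul_one] at h
  exact h

/-- `|Ẑ| + |K| + |Ks| = |K| |Ks| + 1` -/
theorem ncard_Zhat {K Ks : Subgroup G} (hcop : (Nat.card ↥K).Coprime (Nat.card ↥Ks))
    (hc : Ks ≤ Subgroup.centralizer (K : Set G)) :
    Set.ncard (Zhat K Ks) + Nat.card ↥K + Nat.card ↥Ks = Nat.card ↥K * Nat.card ↥Ks + 1 := by
  have hbot : K ⊓ Ks = ⊥ := (Subgroup.disjoint_of_coprime_natCard hcop).eq_bot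
  have hsub : ((K : Set G) ∪ ↑Ks) ⊆ (↑(K ⊔ Ks) : Set G) := by
    intro x hx
    rcases hx with h | h
    · exact Subgroup.mem_sup_left h
    · exact Subgroup.mem_sup_right h
  have h1 : Set.ncard (Zhat K Ks) + Set.ncard ((K : Set G) ∪ ↑Ks) =
      Set.ncard (↑(K ⊔ Ks) : Set G) := by
    show Set.ncard ((↑(K ⊔ Ks) : Set G) \ ((K : Set G) ∪ ↑Ks)) + _ = _
    exact Set.ncard_sdiff_add_ncard_of_subset hsub (Set.toFinite _)
  have h2 : Set.ncard ((K : Set G) ∪ ↑Ks) + Set.ncard ((K : Set G) ∩ ↑Ks) =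
      Set.ncard (K : Set G) + Set.ncard (Ks : Set G) :=
    Set.ncard_union_add_ncard_inter _ _ (Set.toFinite _) (Set.toFinite _)
  have h3 : Set.ncard ((K : Set G) ∩ ↑Ks) = 1 := by
    have : ((K : Set G) ∩ ↑Ks) = {1} := by
      ext x
      constructor
      · intro hx
        have : x ∈ K ⊓ Ks := hx
        rw [hbot, Subgroup.mem_bot] at this
        exact this
      · intro hx
        rw [Set.mem_singleton_iff] at hx
        rw [hx]
        exact ⟨K.one_mem, Ks.one_mem⟩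
    rw [this, Set.ncard_singleton]
  have h4 : Set.ncard (K : Set G) = Nat.card ↥K := (Nat.card_coe_set_eq _).symm
  have h5 : Set.ncard (Ks : Set G) = Nat.card ↥Ks := (Nat.card_coe_set_eq _).symm
  have h6 : Set.ncard (↑(K ⊔ Ks) : Set G) = Nat.card ↥K * Nat.card ↥Ks := by
    rw [← card_sup_of_coprime hcop hc]
    exact (Nat.card_coe_set_eq _).symm
  rw [h3, h4, h5] at h2
  rw [h6] at h1
  omega

/-- the last two clauses of S1434, abstract form -/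
theorem count_Zhat {M K Ks : Subgroup G} (hodd : Odd (Nat.card G))
    (hcop : (Nat.card ↥K).Coprime (Nat.card ↥Ks))
    (hc : Ks ≤ Subgroup.centralizer (K : Set G)) (hKsM : Ks ≤ M)
    (f1 : ∀ g : G, g ∉ M → Ks ⊓ cj g M = ⊥)
    (f2 : ∀ g ∈ M, g ∉ K ⊔ Ks → K ⊓ cj g K = ⊥) (hK1 : K ≠ ⊥) (hKs1 : Ks ≠ ⊥) :
    Nat.card ↥K * Nat.card ↥Ks *
        Set.ncard {a : G | ∃ g : G, ∃ z ∈ Zhat K Ks, a = g * z * g⁻¹} =
      (Nat.card ↥K * Nat.card ↥Ks - Nat.card ↥K - Nat.card ↥Ks + 1) * Nat.card G ∧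
    Nat.card G < 2 * Set.ncard {a : G | ∃ g : G, ∃ z ∈ Zhat K Ks, a = g * z * g⁻¹} := by
  have hcount := card_class_support (Z := K ⊔ Ks) (X := Zhat K Ks) (le_normalizer_Zhat hc)
    (fun x hx g hgx => fusion hcop hc hKsM f1 f2 hx hgx)
  rw [card_sup_of_coprime hcop hc] at hcount
  have hZ := ncard_Zhat hcop hc
  -- sizes of `K`, `Ks`
  have hoddK : Odd (Nat.card ↥K) := Odd.of_dvd_nat hodd (Subgroup.card_subgroup_dvd_card K)
  have hoddKs : Odd (Nat.card ↥Ks) := Odd.of_dvd_nat hodd (Subgroup.card_subgroup_dvd_card Ks)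
  have hK3 : 3 ≤ Nat.card ↥K := by
    have h1 : Nat.card ↥K ≠ 1 := fun h => hK1 (Subgroup.card_eq_one.mp h)
    have h0 : 0 < Nat.card ↥K := Nat.card_pos
    obtain ⟨t, ht⟩ := hoddK
    omega
  have hKs3 : 3 ≤ Nat.card ↥Ks := by
    have h1 : Nat.card ↥Ks ≠ 1 := fun h => hKs1 (Subgroup.card_eq_one.mp h)
    have h0 : 0 < Nat.card ↥Ks := Nat.card_pos
    obtain ⟨t, ht⟩ := hoddKs
    omega
  have hne : Nat.card ↥K ≠ Nat.card ↥Ks := by
    intro h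
    rw [h, Nat.coprime_self] at hcop
    omega
  obtain ⟨N, hN⟩ : ∃ N, N = Set.ncard {a : G | ∃ g : G, ∃ z ∈ Zhat K Ks, a = g * z * g⁻¹} :=
    ⟨_, rfl⟩
  obtain ⟨k, hk⟩ : ∃ k, k = Nat.card ↥K := ⟨_, rfl⟩
  obtain ⟨l, hl⟩ : ∃ l, l = Nat.card ↥Ks := ⟨_, rfl⟩
  obtain ⟨z, hz⟩ : ∃ z, z = Set.ncard (Zhat K Ks) := ⟨_, rfl⟩
  obtain ⟨n, hn⟩ : ∃ n, n = Nat.card G := ⟨_, rfl⟩
  rw [← hN, ← hk, ← hl, ← hz, ← hn] at hcount
  rw [← hk, ← hl, ← hz] at hZ
  rw [← hk] at hK3 hoddK hne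
  rw [← hl] at hKs3 hoddKs hne
  rw [← hN, ← hk, ← hl, ← hn]
  have hn0 : 0 < n := hn ▸ Nat.card_pos
  have hkl : k + l ≤ k * l := by nlinarith
  have hzeq : z = k * l - k - l + 1 := by omega
  have hkodd : k ≠ 4 := by
    rintro rfl
    obtain ⟨t, ht⟩ := hoddK
    omega
  have hlodd : l ≠ 4 := by
    rintro rfl
    obtain ⟨t, ht⟩ := hoddKs
    omega
  refine ⟨?_, ?_⟩
  · rw [← hzeq, mul_comm (k * l) N, hcount, mul_comm]
  · -- `k l < 2 z`
    have h2 : k * l < 2 * z := by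
      have : k * l + 3 ≤ 2 * (k * l + 1) - 2 * k - 2 * l + 0 ∨ True := Or.inr trivial
      have h5 : 5 ≤ k ∨ 5 ≤ l := by omega
      have hz' : z + k + l = k * l + 1 := hZ
      rcases h5 with h5 | h5
      · nlinarith
      · nlinarith
    by_contra hle
    push Not at hle
    have : 2 * N * (k * l) ≤ n * (k * l) := Nat.mul_le_mul_right _ hle
    have h3 : 2 * N * (k * l) = 2 * (n * z) := by rw [← hcount]; ring
    have h4 : n * (2 * z) ≤ n * (k * l) := by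
      calc n * (2 * z) = 2 * (n * z) := by ring
        _ = 2 * N * (k * l) := h3.symm
        _ ≤ n * (k * l) := this
    have h5 : 2 * z ≤ k * l := Nat.le_of_mul_le_mul_left h4 hn0
    omega

/-- the last two clauses of **S1434** from the conclusions of S1430 and S1431 -/
theorem s1434_count_of (hG : Cfsg.IsMinSimpleOddOrder G) {M K : Subgroup G} (hM : IsCoatom M)
    (hK : Cfsg.IsPiHallOf (Cfsg.kappa M) K M) (hK1 : K ≠ ⊥) (h30 : Concl1430 M K)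
    (h31 : Concl1431 M K) :
    Nat.card K * Nat.card ↥(Cfsg.sigmaCore M ⊓ Subgroup.centralizer (K : Set G)) * Set.ncard {a : G | ∃ g : G, ∃ z ∈ ((↑(K ⊔ (Cfsg.sigmaCore M ⊓ Subgroup.centralizer (K : Set G))) : Set G) \ ((K : Set G) ∪ ↑(Cfsg.sigmaCore M ⊓ Subgroup.centralizer (K : Set G)))), a = g * z * g⁻¹} =
        (Nat.card K * Nat.card ↥(Cfsg.sigmaCore M ⊓ Subgroup.centralizer (K : Set G)) - Nat.card K - Nat.card ↥(Cfsg.sigmaCore M ⊓ Subgroup.centralizer (K : Set G)) + 1) * Nat.card G ∧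
      Nat.card G < 2 * Set.ncard {a : G | ∃ g : G, ∃ z ∈ ((↑(K ⊔ (Cfsg.sigmaCore M ⊓ Subgroup.centralizer (K : Set G))) : Set G) \ ((K : Set G) ∪ ↑(Cfsg.sigmaCore M ⊓ Subgroup.centralizer (K : Set G)))), a = g * z * g⁻¹} :=
  count_Zhat hG.1 (coprime_hall_Ks hG hM hK) inf_le_right
    (inf_le_left.trans (Cfsg.Agent.H2.BG11.sigmaCore_le M)) h31.1 h31.2.1 hK1
    (Ks_ne_bot hG hM hK hK1 h30.1)

end Cfsg.Agent.Lib.Helper5.BG14Z
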