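import Mathlib
import Cfsg.Agent.Lib.Helper5.BG13S4
import Cfsg.Agent.Lib.Helper7.BG13Hyp
import Cfsg.Agent.Lib.Helper4.BG13D
import Cfsg.Agent.Lib.Helper8.BG14IVb
import Cfsg.Agent.S1378

/-!
# B&G Section 14 (blueprint Part 15), helper5: the "σ-trick" for Theorem T / Lemma B

`M`, `H` non-conjugate maximal subgroups, `P ≤ M ∩ H` of prime order `p ∈ τ₁(M) ∩ τ₁(H)` with
`C_{M_σ}(P) ≠ 1 ≠ C_{H_σ}(P)`, `C_M(P) = C_{M_σ}(P) P` and `C_H(P) = C_{H_σ}(P) P`: contradiction.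

Proof: take `X ≤ C_{M_σ}(P)`, `X' ≤ C_{H_σ}(P)` of prime orders `s`, `s'`. By Theorem (α),
`N_G(X) ≤ M`, `N_G(X') ≤ H`, `s ∈ σ(M)`, `s' ∈ σ(H)`. A maximal subgroup `L ⊇ N_G(P)` has
`p ∈ σ(L)` by (iv), so `L` is conjugate neither to `M` nor to `H`, hence `s, s' ∉ σ(L)` (S1378),
`s, s' ∉ τ₂(L)` (Lemma F (1d)): the Sylow `s`- and `s'`-subgroups of `C_G(P) ≤ L` are cyclic. Then a
Hall `{s,s'}`-subgroup of `C_G(P)` normalizes a conjugate of `X` or `X'` (Σ9), so `s' ∣ |C_M(P)|`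
or `s ∣ |C_H(P)|`, i.e. `s' ∈ σ(M)` or `s ∈ σ(H)`: `M`, `H` conjugate by S1378.
-/

set_option autoImplicit false
set_option linter.unusedSectionVars false
set_option linter.unusedVariables false
set_option linter.style.haveILetI false
set_option maxHeartbeats 1000000
open Cfsg
open scoped commutatorElement Pointwise

namespace Cfsg.Agent.Lib.Helper5.BG13S

open Cfsg.Agent.Lib.Helper7 (IsSylowIn exists_isSylowIn_ge card_subgroupOf_of_le)
open Cfsg.Agent.Lib.Helper8.BGTen Cfsg.Agent.Lib.Helper4.BGTrans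
open Cfsg.Agent.Lib.helper3.BG11 Cfsg.Agent.Lib.helper3.BG12
open Cfsg.Agent.Lib.Helper4.BG1218
open Cfsg.Agent.Lib.Helper5.BG1218F

universe u

variable {G : Type u} [Group G] [Finite G]

/-- statement (iv) holds (helper8's `mem_sigma_of_kappa'`) -/
theorem hypIV_holds (hG : Cfsg.IsMinSimpleOddOrder G) : Cfsg.Agent.Lib.Helper7.BG13.HypIV G := by
  intro M hM r R hτ hRM hRc hD L hL hNL
  haveI : Fact r.Prime := ⟨by rcases hτ with h | h <;> exact h.1⟩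
  exact Cfsg.Agent.Lib.Helper8.BG14IV.mem_sigma_of_kappa' hG hM hτ hRM hRc hD hL hNL

/-- `N_G(X) ≤ M` when `M` is the unique maximal subgroup containing `C_G(X)` -/
theorem normalizer_le_of_uniq (hG : Cfsg.IsMinSimpleOddOrder G) {M X : Subgroup G}
    (hM : IsCoatom M) (hX1 : X ≠ ⊥) (hXM : X ≤ M)
    (huniq : ∀ L : Subgroup G, IsCoatom L → Subgroup.centralizer (X : Set G) ≤ L → L = M) :
    Subgroup.normalizer (X : Set G) ≤ M := by
  have hXt : X ≠ ⊤ := fun h => hM.1 (top_le_iff.mp (h ▸ hXM))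
  have hNt : Subgroup.normalizer (X : Set G) ≠ ⊤ :=
    Cfsg.Agent.Lib.Helper4.BGUniq.normalizer_ne_top hG hX1 hXt
  obtain ⟨K, hK, hNK⟩ := exists_coatom_ge hNt
  have hKM : K = M := huniq K hK ((Subgroup.centralizer_le_normalizer _).trans hNK)
  rw [hKM] at hNK
  exact hNK

/-- abstract (Σ9): `C` solvable with cyclic Sylow `s`- and `s'`-subgroups, `X, X' ≤ C` of orders
`s`, `s'`, `N_G(X) ≤ M`, `N_G(X') ≤ H`, `s' ∤ |M ∩ C|`, `s ∤ |H ∩ C|`: contradiction -/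
theorem sigma9_abstract {C M H X X' S S' : Subgroup G} {s s' : ℕ} [hs : Fact s.Prime]
    [hs' : Fact s'.Prime] (hsolv : Group.IsSolvable ↥C) (hXC : X ≤ C) (hX'C : X' ≤ C)
    (hXc : Nat.card ↥X = s) (hX'c : Nat.card ↥X' = s')
    (hS : IsSylowIn s S C) (hSc : IsCyclic ↥S) (hS' : IsSylowIn s' S' C) (hSc' : IsCyclic ↥S')
    (hNX : Subgroup.normalizer (X : Set G) ≤ M) (hNX' : Subgroup.normalizer (X' : Set G) ≤ H)
    (hs'M : ¬ s' ∣ Nat.card ↥(M ⊓ C : Subgroup G)) (hsH : ¬ s ∣ Nat.card ↥(H ⊓ C : Subgroup G)) :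
    False := by
  obtain ⟨B, hBC, c, hcC, hsB, hs'B, hor, -⟩ :=
    Cfsg.Agent.Lib.helper3.BG13.exists_hall_normalizes hsolv hXC hX'C hXc hX'c hS hSc hS' hSc'
  have h3 : cj c⁻¹ B ≤ C := by
    have := cj_mono c⁻¹ hBC
    rwa [cj_eq_of_mem (C.inv_mem hcC)] at this
  rcases hor with h | h
  · have h1 : B ≤ cj c M := by
      refine h.trans ?_
      rw [← cj_normalizer]
      exact cj_mono c hNX
    have h2 : cj c⁻¹ B ≤ M := by
      have := cj_mono c⁻¹ h1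
      rwa [cj_inv_cj] at this
    apply hs'M
    rw [← card_cj c⁻¹ B] at hs'B
    exact hs'B.trans (Subgroup.card_dvd_of_le (le_inf h2 h3))
  · have h1 : B ≤ cj c H := by
      refine h.trans ?_
      rw [← cj_normalizer]
      exact cj_mono c hNX'
    have h2 : cj c⁻¹ B ≤ H := by
      have := cj_mono c⁻¹ h1
      rwa [cj_inv_cj] at this
    apply hsH
    rw [← card_cj c⁻¹ B] at hsB
    exact hsB.trans (Subgroup.card_dvd_of_le (le_inf h2 h3))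

/-- `r_s(L) ≤ 1` for `s ∈ σ(M)`, `X ≤ C_M(P)` of order `s`, `P ≤ M ∩ L_σ`, `C_G(P) ≤ L`, when `σ(M)`
and `σ(L)` are disjoint -/
theorem pRankLE_one_of_disjoint (hG : Cfsg.IsMinSimpleOddOrder G) {M L : Subgroup G}
    (hM : IsCoatom M) (hL : IsCoatom L)
    (hdisj : ∀ t : ℕ, t ∈ Cfsg.sigma M → t ∈ Cfsg.sigma L → False) {p : ℕ} (hpL : p ∈ Cfsg.sigma L)
    {P : Subgroup G} (hP1 : P ≠ ⊥) (hPp : IsPGroup p ↥P) (hPM : P ≤ M) (hPL : P ≤ L)
    (hCL : Subgroup.centralizer (P : Set G) ≤ L) {s : ℕ} [hs : Fact s.Prime]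
    (hsM : s ∈ Cfsg.sigma M) {X : Subgroup G} (hXM : X ≤ M)
    (hXP : X ≤ Subgroup.centralizer (P : Set G)) (hXc : Nat.card ↥X = s) :
    Cfsg.PRankLE s 1 ↥L := by
  have hne : L ≠ M := by
    rintro rfl
    exact hdisj s hsM hsM
  have hsL : s ∣ Nat.card ↥L := by
    rw [← hXc]
    exact Subgroup.card_dvd_of_le (hXP.trans hCL)
  have hsσL : s ∉ Cfsg.sigma L := fun h => hdisj s hsM h
  rcases Cfsg.Agent.H2.BG13.tau_cases hG hL hs.out hsL hsσL with h | h | h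
  · exact h.2.2.2.2
  · exfalso
    obtain ⟨x, hx⟩ := exists_prime_orderOf_dvd_card' (G := ↥X) s (dvd_of_eq hXc.symm)
    have hxo : orderOf (x : G) = s := by rw [Subgroup.orderOf_coe, hx]
    exact no_tau2_elt hG hM hL hne hsM h (hXM x.2) (hCL (hXP x.2)) hxo hP1
      (Cfsg.Agent.H2.BG11.le_sigmaCore_of_pgroup hG hL hpL hPL hPp) hPM (hXP x.2)
  · exact h.2.2.2

/-- **the σ-trick**: see the file header -/
theorem sigma_trick (hG : Cfsg.IsMinSimpleOddOrder G) (hIV : Cfsg.Agent.Lib.Helper7.BG13.HypIV G)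
    {M H : Subgroup G} (hM : IsCoatom M) (hH : IsCoatom H) (hnc : ∀ g : G, cj g H ≠ M) {p : ℕ}
    (hpM : p ∈ Cfsg.tau1 M) (hpH : p ∈ Cfsg.tau1 H) {P : Subgroup G} (hPM : P ≤ M) (hPH : P ≤ H)
    (hPc : Nat.card ↥P = p)
    (hDM : Cfsg.sigmaCore M ⊓ Subgroup.centralizer (P : Set G) ≠ ⊥)
    (hDH : Cfsg.sigmaCore H ⊓ Subgroup.centralizer (P : Set G) ≠ ⊥)
    (hCM : M ⊓ Subgroup.centralizer (P : Set G) ≤
      (Cfsg.sigmaCore M ⊓ Subgroup.centralizer (P : Set G)) ⊔ P)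
    (hCH : H ⊓ Subgroup.centralizer (P : Set G) ≤
      (Cfsg.sigmaCore H ⊓ Subgroup.centralizer (P : Set G)) ⊔ P) : False := by
  haveI hpf : Fact p.Prime := ⟨hpM.1⟩
  have hPp : IsPGroup p ↥P := IsPGroup.of_card (n := 1) (by rw [hPc, pow_one])
  have hP1 : P ≠ ⊥ := by
    intro h0
    rw [h0, Subgroup.card_bot] at hPc
    exact hpf.out.one_lt.ne hPc
  -- `σ(M) ∩ σ(H) = ∅`
  have hdisj : ∀ t : ℕ, t ∈ Cfsg.sigma M → t ∈ Cfsg.sigma H → False := by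
    intro t htM htH
    obtain ⟨g, hg⟩ := (Cfsg.Agent.S1378.result hG).2 M H hM hH ⟨t, htM, htH⟩
    apply hnc g⁻¹
    rw [hg]
    exact cj_inv_cj g M
  -- the subgroups `X`, `X'`
  obtain ⟨s, hsf, X, hXD, hXc⟩ := Cfsg.Agent.Lib.Helper4.BG13.exists_prime_card_le hDM
  obtain ⟨s', hs'f, X', hX'D, hX'c⟩ := Cfsg.Agent.Lib.Helper4.BG13.exists_prime_card_le hDH
  obtain ⟨hsM, ⟨hCXM, huM⟩, -⟩ :=
    Cfsg.Agent.Lib.Helper4.BG13.alpha_uniq hG hM hpM hPM hPc hXD hXc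
  obtain ⟨hs'H, ⟨hCX'H, huH⟩, -⟩ :=
    Cfsg.Agent.Lib.Helper4.BG13.alpha_uniq hG hH hpH hPH hPc hX'D hX'c
  have hX1 : X ≠ ⊥ := by
    intro h0
    rw [h0, Subgroup.card_bot] at hXc
    exact hsf.out.one_lt.ne hXc
  have hX'1 : X' ≠ ⊥ := by
    intro h0
    rw [h0, Subgroup.card_bot] at hX'c
    exact hs'f.out.one_lt.ne hX'c
  have hXM : X ≤ M := hXD.trans (inf_le_left.trans (Cfsg.Agent.H2.BG11.sigmaCore_le M))
  have hX'H : X' ≤ H := hX'D.trans (inf_le_left.trans (Cfsg.Agent.H2.BG11.sigmaCore_le H))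
  have hXP : X ≤ Subgroup.centralizer (P : Set G) := hXD.trans inf_le_right
  have hX'P : X' ≤ Subgroup.centralizer (P : Set G) := hX'D.trans inf_le_right
  have hNX : Subgroup.normalizer (X : Set G) ≤ M := normalizer_le_of_uniq hG hM hX1 hXM huM
  have hNX' : Subgroup.normalizer (X' : Set G) ≤ H := normalizer_le_of_uniq hG hH hX'1 hX'H huH
  -- the maximal subgroup `L ⊇ N_G(P)`
  have hPt : P ≠ ⊤ := fun h => hM.1 (top_le_iff.mp (h ▸ hPM))
  have hNPt : Subgroup.normalizer (P : Set G) ≠ ⊤ :=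
    Cfsg.Agent.Lib.Helper4.BGUniq.normalizer_ne_top hG hP1 hPt
  obtain ⟨L, hL, hNL⟩ := exists_coatom_ge hNPt
  have hpL : p ∈ Cfsg.sigma L := hIV M hM p P (Or.inl hpM) hPM hPc hDM L hL hNL
  have hPL : P ≤ L := Subgroup.le_normalizer.trans hNL
  have hCL : Subgroup.centralizer (P : Set G) ≤ L :=
    (Subgroup.centralizer_le_normalizer _).trans hNL
  have hLM : ∀ t : ℕ, t ∈ Cfsg.sigma M → t ∈ Cfsg.sigma L → False := by
    intro t htM htL
    obtain ⟨g, hg⟩ := (Cfsg.Agent.S1378.result hG).2 M L hM hL ⟨t, htM, htL⟩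
    have hσ : Cfsg.sigma L = Cfsg.sigma M := by
      rw [hg]
      exact Cfsg.Agent.H2.BG11.sigma_cj g M
    exact hpM.2.1 (hσ ▸ hpL)
  have hLH : ∀ t : ℕ, t ∈ Cfsg.sigma H → t ∈ Cfsg.sigma L → False := by
    intro t htH htL
    obtain ⟨g, hg⟩ := (Cfsg.Agent.S1378.result hG).2 H L hH hL ⟨t, htH, htL⟩
    have hσ : Cfsg.sigma L = Cfsg.sigma H := by
      rw [hg]
      exact Cfsg.Agent.H2.BG11.sigma_cj g H
    exact hpH.2.1 (hσ ▸ hpL)
  have hrs : Cfsg.PRankLE s 1 ↥L :=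
    pRankLE_one_of_disjoint hG hM hL hLM hpL hP1 hPp hPM hPL hCL hsM hXM hXP hXc
  have hrs' : Cfsg.PRankLE s' 1 ↥L :=
    pRankLE_one_of_disjoint hG hH hL hLH hpL hP1 hPp hPH hPL hCL hs'H hX'H hX'P hX'c
  -- Sylow subgroups of `C_G(P)`
  have hXs : IsPGroup s ↥X := IsPGroup.of_card (n := 1) (by rw [hXc, pow_one])
  have hX's : IsPGroup s' ↥X' := IsPGroup.of_card (n := 1) (by rw [hX'c, pow_one])
  obtain ⟨S, hS, -⟩ := exists_isSylowIn_ge hXs hXP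
  obtain ⟨S', hS', -⟩ := exists_isSylowIn_ge hX's hX'P
  have hSc : IsCyclic ↥S :=
    Cfsg.Agent.Lib.Helper4.BGTw.isCyclic_of_pRankLE_one hG hrs (hS.1.trans hCL) hS.isPGroup
  have hSc' : IsCyclic ↥S' :=
    Cfsg.Agent.Lib.Helper4.BGTw.isCyclic_of_pRankLE_one hG hrs' (hS'.1.trans hCL) hS'.isPGroup
  have hCt : Subgroup.centralizer (P : Set G) ≠ ⊤ :=
    Cfsg.Agent.Lib.Helper4.BGUniq.centralizer_ne_top hG hP1
  have hsolvC : Group.IsSolvable ↥(Subgroup.centralizer (P : Set G)) := hG.2.2.2 _ hCt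
  -- the prime divisors of `C_M(P)` lie in `σ(M) ∪ {p}`
  have hprimes : ∀ (K : Subgroup G), IsCoatom K →
      K ⊓ Subgroup.centralizer (P : Set G) ≤
        (Cfsg.sigmaCore K ⊓ Subgroup.centralizer (P : Set G)) ⊔ P →
      ∀ q : ℕ, q.Prime → q ∣ Nat.card ↥(K ⊓ Subgroup.centralizer (P : Set G) : Subgroup G) →
        q ∈ Cfsg.sigma K ∨ q = p := by
    intro K hK hCK q hq hqd
    have h1 := Cfsg.Agent.H1.card_sup_mul_card_inf
      (Cfsg.sigmaCore K ⊓ Subgroup.centralizer (P : Set G)) P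
      (inf_le_right.trans (Subgroup.centralizer_le_normalizer _))
    have h2 : q ∣ Nat.card ↥(Cfsg.sigmaCore K ⊓ Subgroup.centralizer (P : Set G) : Subgroup G) *
        Nat.card ↥P := by
      rw [← h1]
      exact (hqd.trans (Subgroup.card_dvd_of_le hCK)).trans (Dvd.intro _ rfl)
    rcases (Nat.Prime.dvd_mul hq).mp h2 with h | h
    · left
      exact Cfsg.Agent.H2.BG11.mem_sigma_of_dvd_sigmaCore hG hK hq
        (h.trans (Subgroup.card_dvd_of_le inf_le_left))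
    · right
      rw [hPc] at h
      exact (Nat.prime_dvd_prime_iff_eq hq hpf.out).mp h
  refine sigma9_abstract hsolvC hXP hX'P hXc hX'c hS hSc hS' hSc' hNX hNX' ?_ ?_
  · intro hd
    rcases hprimes M hM hCM s' hs'f.out hd with h | h
    · exact hdisj s' h hs'H
    · exact hpH.2.1 (h ▸ hs'H)
  · intro hd
    rcases hprimes H hH hCH s hsf.out hd with h | h
    · exact hdisj s hsM h
    · exact hpM.2.1 (h ▸ hsM)

/-- the σ-trick, unconditional -/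
theorem sigma_trick' (hG : Cfsg.IsMinSimpleOddOrder G)
    {M H : Subgroup G} (hM : IsCoatom M) (hH : IsCoatom H) (hnc : ∀ g : G, cj g H ≠ M) {p : ℕ}
    (hpM : p ∈ Cfsg.tau1 M) (hpH : p ∈ Cfsg.tau1 H) {P : Subgroup G} (hPM : P ≤ M) (hPH : P ≤ H)
    (hPc : Nat.card ↥P = p)
    (hDM : Cfsg.sigmaCore M ⊓ Subgroup.centralizer (P : Set G) ≠ ⊥)
    (hDH : Cfsg.sigmaCore H ⊓ Subgroup.centralizer (P : Set G) ≠ ⊥)
    (hCM : M ⊓ Subgroup.centralizer (P : Set G) ≤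
      (Cfsg.sigmaCore M ⊓ Subgroup.centralizer (P : Set G)) ⊔ P)
    (hCH : H ⊓ Subgroup.centralizer (P : Set G) ≤
      (Cfsg.sigmaCore H ⊓ Subgroup.centralizer (P : Set G)) ⊔ P) : False :=
  sigma_trick hG (hypIV_holds hG) hM hH hnc hpM hpH hPM hPH hPc hDM hDH hCM hCH

end Cfsg.Agent.Lib.Helper5.BG13S
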