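import Mathlib
import Cfsg.Agent.Lib.Helper5.BG14Z1
import Cfsg.Agent.Lib.Helper5.BGBetaC
import Cfsg.Agent.Lib.Helper8.BG14K
import Cfsg.Agent.Lib.Helper8.BGTw16A

/-!
# B&G Section 14 (blueprint Part 16), helper5: `M' = U M_σ` and `K* ≤ M''` (S1365)

`M = K U M_σ` a standard factorisation with `K ≠ 1`.
* `M' ≤ U M_σ` (helper8), `M_σ ≤ M'`, and `U ≤ M'` because `K` acts without fixed points on `U`
  (S1353), so `u ↦ u⁻¹ u^k` is a bijection of `U`.
* `N := M' = U M_σ` is a normal Hall subgroup of `M = N K` with `N ≤ M'`, hence `[N, K] = N`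
  (helper8's `commutator_eq_of_le_commutator`), and by coprime action `C_N(K) ≤ N'`
  (helper8's `inf_centralizer_le_commutator`).  So `K* = C_{M_σ}(K) ≤ N' = M''`.
-/

set_option autoImplicit false
set_option linter.unusedSectionVars false
set_option linter.unusedVariables false
set_option linter.style.haveILetI false
set_option maxHeartbeats 1000000
open Cfsg
open scoped commutatorElement Pointwise

namespace Cfsg.Agent.Lib.Helper5.BG14Z

open Cfsg.Agent.Lib.Helper8.BGTen Cfsg.Agent.Lib.Helper4.BGTrans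

universe u

variable {G : Type u} [Group G] [Finite G]

section

variable {M K U : Subgroup G}

/-- `U ≤ M'` when `K ≠ 1` -/
theorem U_le_commutator (hG : Cfsg.IsMinSimpleOddOrder G) (hM : IsCoatom M)
    (hKU : Cfsg.IsSigmaDecomposition M K U) (hK1 : K ≠ ⊥) : U ≤ ⁅M, M⁆ := by
  obtain ⟨k, hk, hk1⟩ := Cfsg.Agent.Lib.Helper4.BG14.exists_ne_one_of_ne_bot hK1
  have hfpf := Cfsg.Agent.Lib.Helper8.BG14K.s1353 hG M hM K U hKU k hk hk1
  have hkU : ∀ w ∈ U, k * w * k⁻¹ ∈ U := fun w hw =>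
    (Subgroup.mem_normalizer_iff.mp (hKU.normal hk) w).mp hw
  let f : ↥U → ↥U := fun w => ⟨(w : G)⁻¹ * (k * w * k⁻¹), U.mul_mem (U.inv_mem w.2) (hkU w w.2)⟩
  have hinj : Function.Injective f := by
    intro w w' h
    have h1 : (w : G)⁻¹ * (k * w * k⁻¹) = (w' : G)⁻¹ * (k * w' * k⁻¹) := congrArg Subtype.val h
    have h2 : (w' : G) * (w : G)⁻¹ ∈ U ⊓ Subgroup.centralizer ({k} : Set G) := by
      refine Subgroup.mem_inf.mpr ⟨U.mul_mem w'.2 (U.inv_mem w.2), ?_⟩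
      rw [Subgroup.mem_centralizer_iff]
      intro z hz
      rw [Set.mem_singleton_iff] at hz
      rw [hz]
      -- `k (w' w⁻¹) = (w' w⁻¹) k`
      have e1 : k * ((w' : G) * (w : G)⁻¹) =
          (w' : G) * ((w' : G)⁻¹ * (k * w' * k⁻¹)) * (k * (w : G)⁻¹) := by group
      have e2 : (w' : G) * (w : G)⁻¹ * k =
          (w' : G) * ((w : G)⁻¹ * (k * w * k⁻¹)) * (k * (w : G)⁻¹) := by group
      rw [e1, e2, h1]
    rw [hfpf, Subgroup.mem_bot] at h2
    apply Subtype.ext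
    have e : (w : G) = ((w' : G) * (w : G)⁻¹)⁻¹ * (w' : G) := by group
    rw [e, h2]; group
  have hsurj : Function.Surjective f := Finite.surjective_of_injective hinj
  intro x hx
  obtain ⟨w, hw⟩ := hsurj ⟨x, hx⟩
  have hx' : x = (w : G)⁻¹ * (k * w * k⁻¹) := (congrArg Subtype.val hw).symm
  have e : x = ⁅(w : G)⁻¹, k⁆ := by
    rw [hx', commutatorElement_def]; group
  rw [e]
  exact Subgroup.commutator_mem_commutator (M.inv_mem (hKU.compl.1 w.2)) (hKU.hall.1 hk)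

/-- `M' = U M_σ` when `K ≠ 1` -/
theorem commutator_eq_N (hG : Cfsg.IsMinSimpleOddOrder G) (hM : IsCoatom M)
    (hKU : Cfsg.IsSigmaDecomposition M K U) (hK1 : K ≠ ⊥) : ⁅M, M⁆ = U ⊔ Cfsg.sigmaCore M :=
  le_antisymm (Cfsg.Agent.Lib.Helper8.BG14K.commutator_le_of_decomp hKU)
    (sup_le (U_le_commutator hG hM hKU hK1)
      (Cfsg.Agent.Lib.Helper5.BGBeta.sigmaCore_le_commutator hG (Cfsg.Agent.H2.BG11.uniq hG) hM))

/-- `|K|` is prime to `|U M_σ|` -/
theorem coprime_K_N (hG : Cfsg.IsMinSimpleOddOrder G) (hM : IsCoatom M)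
    (hKU : Cfsg.IsSigmaDecomposition M K U) :
    (Nat.card ↥K).Coprime (Nat.card ↥(U ⊔ Cfsg.sigmaCore M : Subgroup G)) := by
  have hK := hKU.hall
  have hKM : K ≤ M := hK.1
  have hNM : U ⊔ Cfsg.sigmaCore M ≤ M := sup_le hKU.compl.1 (Cfsg.Agent.H2.BG11.sigmaCore_le M)
  have hcop : (Nat.card ↥K).Coprime (K.relIndex M) := by
    apply Nat.coprime_of_dvd
    intro q hq hd1 hd2
    exact hK.2.2 q hq (hK.2.1 q hq hd1) hd2
  have h1 := Cfsg.Agent.H1.card_sup_mul_card_inf K (U ⊔ Cfsg.sigmaCore M)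
    (hKM.trans (le_normalizer_N hKU))
  rw [K_inf_N hG hM hKU, Subgroup.card_bot, mul_one] at h1
  have hsup : K ⊔ (U ⊔ Cfsg.sigmaCore M) = M := by
    apply le_antisymm (sup_le hKM hNM)
    intro x hx
    obtain ⟨n, hn, k, hk, rfl⟩ := exists_mul_N_K hKU hx
    exact Subgroup.mul_mem _ (Subgroup.mem_sup_right hn) (Subgroup.mem_sup_left hk)
  rw [hsup] at h1
  have h2 := Cfsg.Agent.H1.card_eq_relIndex_mul_card hKM
  have h3 : K.relIndex M = Nat.card ↥(U ⊔ Cfsg.sigmaCore M : Subgroup G) := by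
    have hpos : 0 < Nat.card ↥K := Nat.card_pos
    rw [h1, mul_comm (Nat.card ↥K)] at h2
    exact (Nat.eq_of_mul_eq_mul_right hpos h2).symm
  rw [← h3]
  exact hcop

/-- **S1365** -/
theorem s1365 (hG : Cfsg.IsMinSimpleOddOrder G) (hM : IsCoatom M)
    (hKU : Cfsg.IsSigmaDecomposition M K U) (hK1 : K ≠ ⊥) :
    ⁅M, M⁆ = U ⊔ Cfsg.sigmaCore M ∧
      (Cfsg.sigmaCore M ⊓ Subgroup.centralizer (K : Set G)) ≤ ⁅⁅M, M⁆, ⁅M, M⁆⁆ := by
  have hMN := commutator_eq_N hG hM hKU hK1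
  refine ⟨hMN, ?_⟩
  have hKM : K ≤ M := hKU.hall.1
  have hNM : U ⊔ Cfsg.sigmaCore M ≤ M := sup_le hKU.compl.1 (Cfsg.Agent.H2.BG11.sigmaCore_le M)
  haveI hsolv : Group.IsSolvable ↥M := hG.2.2.2 M hM.1
  set N' : Subgroup ↥M := (U ⊔ Cfsg.sigmaCore M).subgroupOf M with hN'
  set K' : Subgroup ↥M := K.subgroupOf M with hK'
  have hNmap : N'.map M.subtype = U ⊔ Cfsg.sigmaCore M := Subgroup.map_subgroupOf_eq_of_le hNM
  haveI hNn : N'.Normal :=
    (Subgroup.normal_subgroupOf_iff_le_normalizer hNM).mpr (le_normalizer_N hKU)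
  have hdisj : K' ⊓ N' = ⊥ := by
    rw [eq_bot_iff]
    intro x hx
    have h1 : (x : G) ∈ K ⊓ (U ⊔ Cfsg.sigmaCore M) :=
      ⟨Subgroup.mem_subgroupOf.mp hx.1, Subgroup.mem_subgroupOf.mp hx.2⟩
    rw [K_inf_N hG hM hKU, Subgroup.mem_bot] at h1
    rw [Subgroup.mem_bot]
    exact Subtype.ext h1
  have hprod : ∀ m : ↥M, ∃ a ∈ K', ∃ b ∈ N', m = a * b := by
    intro m
    obtain ⟨n, hn, k, hk, hnk⟩ := exists_mul_N_K hKU m.2
    have hkM : k ∈ M := hKM hk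
    have hn' : k⁻¹ * n * k ∈ U ⊔ Cfsg.sigmaCore M := by
      have := (Subgroup.mem_normalizer_iff.mp (le_normalizer_N hKU (M.inv_mem hkM)) n).mp hn
      rwa [inv_inv] at this
    refine ⟨⟨k, hkM⟩, Subgroup.mem_subgroupOf.mpr hk, ⟨k⁻¹ * n * k, hNM hn'⟩,
      Subgroup.mem_subgroupOf.mpr hn', ?_⟩
    apply Subtype.ext
    show (m : G) = k * (k⁻¹ * n * k)
    rw [hnk]; group
  have hNc : N' ≤ _root_.commutator ↥M := by
    intro x hx
    have h1 : (x : G) ∈ ⁅M, M⁆ := by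
      rw [hMN]; exact Subgroup.mem_subgroupOf.mp hx
    rw [← Subgroup.map_subtype_commutator] at h1
    obtain ⟨x', hx', hxx'⟩ := h1
    have : x' = x := Subtype.ext hxx'
    rw [← this]; exact hx'
  have hb' : ⁅N', K'⁆ = N' := commutator_eq_of_le_commutator N' K' hdisj hprod hNc
  have hcop : (Nat.card ↥K').Coprime (Nat.card ↥N') := by
    have h1 := coprime_K_N hG hM hKU
    rw [← Cfsg.Agent.Lib.Helper7.card_subgroupOf_of_le hKM,
      ← Cfsg.Agent.Lib.Helper7.card_subgroupOf_of_le hNM] at h1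
    exact h1
  have ha' := inf_centralizer_le_commutator N' K' hcop hb'
  intro y hy
  obtain ⟨hy1, hy2⟩ := Subgroup.mem_inf.mp hy
  have hyM : y ∈ M := Cfsg.Agent.H2.BG11.sigmaCore_le M hy1
  have h1 : (⟨y, hyM⟩ : ↥M) ∈ N' ⊓ Subgroup.centralizer (K' : Set ↥M) := by
    rw [Subgroup.mem_inf]
    refine ⟨Subgroup.mem_subgroupOf.mpr (Subgroup.mem_sup_right hy1), ?_⟩
    rw [Subgroup.mem_centralizer_iff]
    intro e he
    apply Subtype.ext
    exact (Subgroup.mem_centralizer_iff.mp hy2) e.1 (Subgroup.mem_subgroupOf.mp he)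
  have h2 := ha' h1
  rw [hMN, ← hNmap, ← Subgroup.map_commutator]
  exact ⟨⟨y, hyM⟩, h2, rfl⟩

end

end Cfsg.Agent.Lib.Helper5.BG14Z
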