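import Mathlib
import Cfsg.Agent.H1.BG1218A
import Cfsg.Agent.H1.CoprimeAction
import Cfsg.Agent.S0026
import Cfsg.Agent.Lib.Helper5.BG14Z4

/-!
Bender–Glauberman §15 (blueprint Part 20), helper5: abstract group theory for the case
`M_σ` not nilpotent.

* `sylow_centralizes` : the core of step (4): with `X` of prime order acting on `H = QD`,
  `C_H(X) = K*` of prime order `q`, `K* ≤ H'`, `D₀ ≤ D` a normal `q'`-subgroup with
  `Q D₀ ⊴ H`: the Sylow `q`-subgroup `Q` centralizes `D₀`.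
-/

set_option autoImplicit false
set_option linter.unusedSectionVars false
set_option linter.unusedVariables false
set_option linter.style.haveILetI false
set_option maxHeartbeats 1000000
open Cfsg
open scoped commutatorElement Pointwise

namespace Cfsg.Agent.Lib.Helper5.BG15

open Cfsg.Agent.Lib.Helper5.BG14Z

universe u

variable {G : Type u} [Group G] [Finite G]

/-- if `c ^ m ∈ S`, `c ^ n = 1` and `m`, `n` are coprime then `c ∈ S` -/
theorem mem_of_pow_mem {S : Subgroup G} {c : G} {m n : ℕ} (hmn : m.Coprime n) (hn : c ^ n = 1)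
    (hm : c ^ m ∈ S) : c ∈ S := by
  have h1 : m.Coprime (orderOf c) := hmn.coprime_dvd_right (orderOf_dvd_of_pow_eq_one hn)
  obtain ⟨k, hk⟩ := exists_pow_eq_self_of_coprime h1
  rw [← hk]
  exact S.pow_mem hm k

theorem le_norm_inf {N A B : Subgroup G} (hA : N ≤ Subgroup.normalizer (A : Set G))
    (hB : N ≤ Subgroup.normalizer (B : Set G)) :
    N ≤ Subgroup.normalizer ((A ⊓ B : Subgroup G) : Set G) := by
  intro g hg
  have h1 := hA hg
  have h2 := hB hg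
  rw [Subgroup.mem_normalizer_iff_map_conj_eq] at h1 h2 ⊢
  rw [Subgroup.map_inf _ _ _ (MulAut.conj g).injective, h1, h2]

theorem le_norm_sup {N A B : Subgroup G} (hA : N ≤ Subgroup.normalizer (A : Set G))
    (hB : N ≤ Subgroup.normalizer (B : Set G)) :
    N ≤ Subgroup.normalizer ((A ⊔ B : Subgroup G) : Set G) :=
  fun g hg => mem_normalizer_sup (hA hg) (hB hg)

theorem le_norm_centralizer {N A : Subgroup G} (hA : N ≤ Subgroup.normalizer (A : Set G)) :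
    N ≤ Subgroup.normalizer ((Subgroup.centralizer (A : Set G) : Subgroup G) : Set G) :=
  fun g hg => Cfsg.Agent.H1.BG1218.mem_normalizer_centralizer (hA hg)

theorem conj_mem_of_le_norm {N A : Subgroup G} (hA : N ≤ Subgroup.normalizer (A : Set G))
    {g a : G} (hg : g ∈ N) (ha : a ∈ A) : g * a * g⁻¹ ∈ A :=
  (Subgroup.mem_normalizer_iff.mp (hA hg) a).mp ha

theorem conj_mem_of_le_norm' {N A : Subgroup G} (hA : N ≤ Subgroup.normalizer (A : Set G))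
    {g a : G} (hg : g ∈ N) (ha : a ∈ A) : g⁻¹ * a * g ∈ A := by
  have := conj_mem_of_le_norm hA (N.inv_mem hg) ha
  rwa [inv_inv] at this

theorem solvable_of_le {A B : Subgroup G} (h : A ≤ B) (hB : Group.IsSolvable ↥B) :
    Group.IsSolvable ↥A :=
  Group.isSolvable_of_isSolvable_injective (Subgroup.inclusion_injective h)

/-- fixed-point-free coprime action: `V = [V, X]` -/
theorem commutator_eq_of_fpf (V X : Subgroup G)
    (hXV : X ≤ Subgroup.normalizer (V : Set G))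
    (hcop : (Nat.card ↥X).Coprime (Nat.card ↥V))
    (hsolv : Group.IsSolvable ↥X ∨ Group.IsSolvable ↥V)
    (hfix : V ⊓ Subgroup.centralizer (X : Set G) = ⊥) : ⁅V, X⁆ = V := by
  have h := Cfsg.Agent.S0026.result X V hXV hcop hsolv
  rwa [hfix, sup_bot_eq] at h

/-- if `T ⊴ H` and `H = A T` with `A` commutative then `H' ≤ T` -/
theorem commutator_le_of_comm_mul {H T A : Subgroup G} (hTH : T ≤ H)
    (hn : H ≤ Subgroup.normalizer (T : Set G))
    (hA : ∀ a ∈ A, ∀ b ∈ A, a * b = b * a)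
    (hdec : ∀ h ∈ H, ∃ a ∈ A, ∃ t ∈ T, h = a * t) : ⁅H, H⁆ ≤ T := by
  rw [Subgroup.commutator_le]
  intro h₁ hh₁ h₂ hh₂
  obtain ⟨a₁, ha₁, t₁, ht₁, rfl⟩ := hdec h₁ hh₁
  obtain ⟨a₂, ha₂, t₂, ht₂, rfl⟩ := hdec h₂ hh₂
  have hA1 : a₁ ∈ H := by
    have := H.mul_mem hh₁ (H.inv_mem (hTH ht₁))
    simpa using this
  have hA2 : a₂ ∈ H := by
    have := H.mul_mem hh₂ (H.inv_mem (hTH ht₂))
    simpa using this
  -- ⁅a₁ t₁, a₂ t₂⁆ = a₁ t₁ a₂ t₂ t₁⁻¹ a₁⁻¹ t₂⁻¹ a₂⁻¹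
  have e : ⁅a₁ * t₁, a₂ * t₂⁆ =
      (a₁ * a₂) * ((a₂⁻¹ * t₁ * a₂) * t₂ * t₁⁻¹ * (a₁⁻¹ * t₂⁻¹ * a₁)) * (a₁ * a₂)⁻¹ := by
    rw [commutatorElement_def]
    have hc : a₁ * a₂ = a₂ * a₁ := hA a₁ ha₁ a₂ ha₂
    calc a₁ * t₁ * (a₂ * t₂) * (a₁ * t₁)⁻¹ * (a₂ * t₂)⁻¹
        = a₁ * a₂ * (a₂⁻¹ * t₁ * a₂ * t₂ * t₁⁻¹ * (a₁⁻¹ * t₂⁻¹ * a₁)) * (a₂ * a₁)⁻¹ := by group
      _ = _ := by rw [hc]
  rw [e]
  apply conj_mem_of_le_norm hn (H.mul_mem hA1 hA2)
  refine T.mul_mem (T.mul_mem (T.mul_mem ?_ ht₂) (T.inv_mem ht₁)) ?_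
  · exact conj_mem_of_le_norm' hn hA2 ht₁
  · exact conj_mem_of_le_norm' hn hA1 (T.inv_mem ht₂)

theorem le_normalizer_of_conj_mem {A T : Subgroup G}
    (h : ∀ a ∈ A, ∀ t ∈ T, a * t * a⁻¹ ∈ T) : A ≤ Subgroup.normalizer (T : Set G) := by
  intro a ha
  rw [Subgroup.mem_normalizer_iff]
  intro t
  constructor
  · exact h a ha t
  · intro ht
    have := h a⁻¹ (A.inv_mem ha) _ ht
    simpa [mul_assoc] using this

theorem comm_of_prime_card {A : Subgroup G} {q : ℕ} (hq : q.Prime) (hA : Nat.card ↥A = q) :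
    ∀ a ∈ A, ∀ b ∈ A, a * b = b * a := by
  intro a ha b hb
  haveI : Fact q.Prime := ⟨hq⟩
  haveI : IsCyclic ↥A := isCyclic_of_prime_card hA
  letI := IsCyclic.commGroup (α := ↥A)
  have h := mul_comm (⟨a, ha⟩ : ↥A) ⟨b, hb⟩
  exact congrArg Subtype.val h

theorem commElem_mul_left (a b x : G) : ⁅a * b, x⁆ = (a * ⁅b, x⁆ * a⁻¹) * ⁅a, x⁆ := by
  simp only [commutatorElement_def]
  group

theorem commElem_conj (c d x : G) : ⁅c * d * c⁻¹, c * x * c⁻¹⁆ = c * ⁅d, x⁆ * c⁻¹ := by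
  simp only [commutatorElement_def]
  group

/-- **the core of step (4)** (and of step (2)): `X` of prime order `r` acts on `H = QD`
(`Q` a Sylow `q`-subgroup, `D` a Hall `q'`-subgroup, both `X`-invariant), `C_H(X) = K*` has prime
order `q` and lies in `Q ∩ H'`; `D₀ ≤ D` is normal in `H`, `X`-invariant, and `Q D₀ ⊴ H`.
Then `Q` centralizes `D₀`. -/
theorem sylow_centralizes (H Q D D₀ X Ks : Subgroup G) (q r : ℕ) (hq : q.Prime) (hr : r.Prime)
    (hXr : Nat.card ↥X = r)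
    (hXQ : X ≤ Subgroup.normalizer (Q : Set G))
    (hXD : X ≤ Subgroup.normalizer (D : Set G)) (hXD₀ : X ≤ Subgroup.normalizer (D₀ : Set G))
    (hQH : Q ≤ H) (hDH : D ≤ H) (hD₀D : D₀ ≤ D)
    (hQ : IsPGroup q ↥Q) (hDq : (Nat.card ↥D).Coprime q)
    (hHQD : ∀ h ∈ H, ∃ a ∈ Q, ∃ d ∈ D, h = a * d)
    (hHD₀ : H ≤ Subgroup.normalizer (D₀ : Set G))
    (hP : H ≤ Subgroup.normalizer ((D₀ ⊔ Q : Subgroup G) : Set G))
    (hfix : H ⊓ Subgroup.centralizer (X : Set G) = Ks) (hKs : Nat.card ↥Ks = q) (hKsQ : Ks ≤ Q)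
    (hKsH : Ks ≤ ⁅H, H⁆)
    (hsolv : Group.IsSolvable ↥(H ⊔ X)) (hodd : Odd (Nat.card ↥(H ⊔ X)))
    (hrH : r.Coprime (Nat.card ↥H)) :
    Q ≤ Subgroup.centralizer (D₀ : Set G) := by
  classical
  haveI : Fact q.Prime := ⟨hq⟩
  have hD₀H : D₀ ≤ H := hD₀D.trans hDH
  have hHX : H ≤ H ⊔ X := le_sup_left
  have hcQD : (Nat.card ↥Q).Coprime (Nat.card ↥D) := by
    obtain ⟨k, hk⟩ := IsPGroup.iff_card.mp hQ
    rw [hk]
    exact Nat.Coprime.pow_left k hDq.symm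
  have hcQD₀ : (Nat.card ↥Q).Coprime (Nat.card ↥D₀) :=
    hcQD.coprime_dvd_right (Subgroup.card_dvd_of_le hD₀D)
  have hKsD : Ks ⊓ D = ⊥ :=
    (Subgroup.disjoint_of_coprime_natCard (by rw [hKs]; exact hDq.symm)).eq_bot
  have hKsX : Ks ≤ Subgroup.centralizer (X : Set G) := by
    rw [← hfix]; exact inf_le_right
  have hKsHH : Ks ≤ H := hKsQ.trans hQH
  have hfixD : D ⊓ Subgroup.centralizer (X : Set G) = ⊥ := by
    rw [eq_bot_iff, ← hKsD]
    intro x hx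
    refine ⟨?_, hx.1⟩
    rw [← hfix]
    exact ⟨hDH hx.1, hx.2⟩
  have hfixD₀ : D₀ ⊓ Subgroup.centralizer (X : Set G) = ⊥ := by
    rw [eq_bot_iff, ← hfixD]
    exact inf_le_inf_right _ hD₀D
  have hrQ : r.Coprime (Nat.card ↥Q) := hrH.coprime_dvd_right (Subgroup.card_dvd_of_le hQH)
  have hrD : r.Coprime (Nat.card ↥D) := hrH.coprime_dvd_right (Subgroup.card_dvd_of_le hDH)
  have hrD₀ : r.Coprime (Nat.card ↥D₀) :=
    hrH.coprime_dvd_right (Subgroup.card_dvd_of_le hD₀H)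
  -- Lemma A
  have hle3 : D₀ ⊔ Q ⊔ X ≤ H ⊔ X :=
    sup_le (sup_le (hD₀H.trans hHX) (hQH.trans hHX)) le_sup_right
  have hLA : ⁅Q, X⁆ ≤ Subgroup.centralizer (D₀ : Set G) := by
    apply Cfsg.Agent.H1.BG1218.hh_fix_sub D₀ Q X r hr hXr (hQH.trans hHD₀) hXD₀ hXQ
      (solvable_of_le hle3 hsolv) (hodd.of_dvd_nat (Subgroup.card_dvd_of_le hle3)) hrD₀ hrQ hcQD₀
    rw [hfixD₀]
    intro x _
    rw [Subgroup.mem_centralizer_iff]
    intro y hy
    rw [SetLike.mem_coe, Subgroup.mem_bot] at hy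
    rw [hy, one_mul, mul_one]
  have hQX : Q ⊓ Subgroup.centralizer (X : Set G) = Ks := by
    apply le_antisymm
    · intro x hx
      rw [← hfix]
      exact ⟨hQH hx.1, hx.2⟩
    · exact le_inf hKsQ hKsX
  have hQdec : ⁅Q, X⁆ ⊔ Ks = Q := by
    have h := Cfsg.Agent.S0026.result X Q hXQ (by rw [hXr]; exact hrQ)
      (Or.inr (solvable_of_le (hQH.trans hHX) hsolv))
    rwa [hQX] at h
  have hDdec : ⁅D, X⁆ = D :=
    commutator_eq_of_fpf D X hXD (by rw [hXr]; exact hrD)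
      (Or.inr (solvable_of_le (hDH.trans hHX) hsolv)) hfixD
  suffices hKsC : Ks ≤ Subgroup.centralizer (D₀ : Set G) by
    rw [← hQdec]; exact sup_le hLA hKsC
  by_contra hnot
  have hQXQ : ⁅Q, X⁆ ≤ Q := by
    conv_rhs => rw [← hQdec]
    exact le_sup_left
  set C : Subgroup G := H ⊓ Subgroup.centralizer (D₀ : Set G) with hCdef
  have hCH : C ≤ H := inf_le_left
  have hHC : H ≤ Subgroup.normalizer (C : Set G) :=
    le_norm_inf Subgroup.le_normalizer (le_norm_centralizer hHD₀)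
  set N : Subgroup G := C ⊔ D₀ with hNdef
  have hHN : H ≤ Subgroup.normalizer (N : Set G) := le_norm_sup hHC hHD₀
  set T : Subgroup G := C ⊔ D with hTdef
  have hTH : T ≤ H := sup_le hCH hDH
  have hNT : N ≤ T := sup_le le_sup_left (hD₀D.trans le_sup_right)
  have hDT : D ≤ T := le_sup_right
  have hCT : C ≤ T := le_sup_left
  have hmemT : ∀ {g : G}, g ∈ T ↔ ∃ y ∈ C, ∃ d ∈ D, g = y * d :=
    Cfsg.Agent.H1.mem_sup_of_le_normalizer C D (hDH.trans hHC)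
  have hLAC : ⁅Q, X⁆ ≤ C := le_inf (hQXQ.trans hQH) hLA
  -- `K*` normalizes `T`
  have hKsT : Ks ≤ Subgroup.normalizer (T : Set G) := by
    apply le_normalizer_of_conj_mem
    intro c hc t ht
    obtain ⟨y, hy, d, hd, rfl⟩ := hmemT.mp ht
    have e : c * (y * d) * c⁻¹ = (c * y * c⁻¹) * (c * d * c⁻¹) := by group
    rw [e]
    refine T.mul_mem (hCT (conj_mem_of_le_norm hHC (hKsHH hc) hy)) ?_
    -- `c D c⁻¹ ≤ T`
    have hDS : D ≤ T.comap (MulAut.conj c).toMonoidHom := by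
      rw [← hDdec, Subgroup.commutator_le]
      intro d' hd' x hx
      rw [Subgroup.mem_comap]
      show c * ⁅d', x⁆ * c⁻¹ ∈ T
      have hcx : c * x * c⁻¹ = x := by
        have := Subgroup.mem_centralizer_iff.mp (hKsX hc) x hx
        rw [← this]; group
      set y' : G := d'⁻¹ * c * d' * c⁻¹ with hy'
      have hcd : c * d' * c⁻¹ = d' * y' := by rw [hy']; group
      have hy'P : y' ∈ D₀ ⊔ Q := by
        have h1 : c ∈ D₀ ⊔ Q := le_sup_right (α := Subgroup G) (hKsQ hc)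
        have h2 : d'⁻¹ * c * d' ∈ D₀ ⊔ Q := conj_mem_of_le_norm' hP (hDH hd') h1
        rw [hy']
        exact (D₀ ⊔ Q).mul_mem h2 ((D₀ ⊔ Q).inv_mem h1)
      obtain ⟨d₀, hd₀, a, ha, hya⟩ :=
        (Cfsg.Agent.H1.mem_sup_of_le_normalizer D₀ Q (hQH.trans hHD₀)).mp hy'P
      have h1 : ⁅a, x⁆ ∈ C := hLAC (Subgroup.commutator_mem_commutator ha hx)
      have h2 : d₀ * ⁅a, x⁆ * d₀⁻¹ ∈ N :=
        le_sup_left (α := Subgroup G) (conj_mem_of_le_norm hHC (hD₀H hd₀) h1)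
      have h3 : ⁅d₀, x⁆ ∈ N := by
        have e3 : ⁅d₀, x⁆ = d₀ * (x * d₀⁻¹ * x⁻¹) := by
          simp only [commutatorElement_def]; group
        rw [e3]
        exact le_sup_right (α := Subgroup G)
          (D₀.mul_mem hd₀ (conj_mem_of_le_norm hXD₀ hx (D₀.inv_mem hd₀)))
      have h4 : ⁅y', x⁆ ∈ N := by
        rw [hya, commElem_mul_left]
        exact N.mul_mem h2 h3
      have h5 : d' * ⁅y', x⁆ * d'⁻¹ ∈ T := hNT (conj_mem_of_le_norm hHN (hDH hd') h4)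
      have h6 : ⁅d', x⁆ ∈ T := by
        have e6 : ⁅d', x⁆ = d' * (x * d'⁻¹ * x⁻¹) := by
          simp only [commutatorElement_def]; group
        rw [e6]
        exact hDT (D.mul_mem hd' (conj_mem_of_le_norm hXD hx (D.inv_mem hd')))
      have e7 : c * ⁅d', x⁆ * c⁻¹ = ⁅d' * y', x⁆ := by
        rw [← commElem_conj, hcx, hcd]
      rw [e7, commElem_mul_left]
      exact T.mul_mem h5 h6
    have := hDS hd
    rwa [Subgroup.mem_comap] at this
  -- `H` normalizes `T`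
  have hTn : T ≤ Subgroup.normalizer (T : Set G) := Subgroup.le_normalizer
  have hQn : Q ≤ Subgroup.normalizer (T : Set G) := by
    rw [← hQdec]
    exact sup_le ((hLAC.trans hCT).trans hTn) hKsT
  have hHT : H ≤ Subgroup.normalizer (T : Set G) := by
    intro h hh
    obtain ⟨a, ha, d, hd, rfl⟩ := hHQD h hh
    exact (Subgroup.normalizer (T : Set G)).mul_mem (hQn ha) (hTn (hDT hd))
  -- `H' ≤ T`
  have hKsn : Ks ≤ Subgroup.normalizer ((⁅Q, X⁆ : Subgroup G) : Set G) := by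
    exact Cfsg.Agent.H1.BG1218.le_normalizer_commutator (hKsQ.trans Subgroup.le_normalizer)
      (hKsX.trans (Subgroup.centralizer_le_normalizer _))
  have hH'T : ⁅H, H⁆ ≤ T := by
    apply commutator_le_of_comm_mul hTH hHT (comm_of_prime_card hq hKs)
    intro h hh
    obtain ⟨a, ha, d, hd, rfl⟩ := hHQD h hh
    rw [← hQdec] at ha
    obtain ⟨n, hn, c, hc, rfl⟩ :=
      (Cfsg.Agent.H1.mem_sup_of_le_normalizer ⁅Q, X⁆ Ks hKsn).mp ha
    refine ⟨c, hc, (c⁻¹ * n * c) * d, ?_, by group⟩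
    exact T.mul_mem (hCT (hLAC (conj_mem_of_le_norm' hKsn hc hn))) (hDT hd)
  -- contradiction: `K* ≤ T = C D` forces `K* ≤ C(D₀)`
  apply hnot
  intro c hc
  obtain ⟨y, hy, d, hd, hcyd⟩ := hmemT.mp (hH'T (hKsH hc))
  have hyC : y ∈ Subgroup.centralizer (D₀ : Set G) := hy.2
  have hdn : ∀ n : ℕ, ∀ z ∈ D₀, d ^ n * z * (d ^ n)⁻¹ ∈ D₀ := by
    intro n z hz
    exact conj_mem_of_le_norm hHD₀ (hDH (D.pow_mem hd n)) hz
  have hstep : ∀ w ∈ D₀, c * w * c⁻¹ = d * w * d⁻¹ := by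
    intro w hw
    have hw' : d * w * d⁻¹ ∈ D₀ := conj_mem_of_le_norm hHD₀ (hDH hd) hw
    have := Subgroup.mem_centralizer_iff.mp hyC _ hw'
    rw [hcyd]
    calc y * d * w * (y * d)⁻¹ = y * (d * w * d⁻¹) * y⁻¹ := by group
      _ = (d * w * d⁻¹) * y * y⁻¹ := by rw [← this]
      _ = d * w * d⁻¹ := by group
  have hind : ∀ n : ℕ, ∀ z ∈ D₀, c ^ n * z * (c ^ n)⁻¹ = d ^ n * z * (d ^ n)⁻¹ := by
    intro n
    induction n with
    | zero => intro z _; simp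
    | succ n ih =>
      intro z hz
      have e1 : c ^ (n + 1) * z * (c ^ (n + 1))⁻¹ = c * (c ^ n * z * (c ^ n)⁻¹) * c⁻¹ := by
        rw [pow_succ']; group
      have e2 : d ^ (n + 1) * z * (d ^ (n + 1))⁻¹ = d * (d ^ n * z * (d ^ n)⁻¹) * d⁻¹ := by
        rw [pow_succ']; group
      rw [e1, e2, ih z hz]
      exact hstep _ (hdn n z hz)
  have hdm : d ^ Nat.card ↥D = 1 := by
    have h1 := pow_card_eq_one' (G := ↥D) (x := ⟨d, hd⟩)
    have h2 := congrArg Subtype.val h1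
    rwa [Subgroup.coe_pow] at h2
  have hcq : c ^ q = 1 := by
    have h1 := pow_card_eq_one' (G := ↥Ks) (x := ⟨c, hc⟩)
    rw [hKs] at h1
    have h2 := congrArg Subtype.val h1
    rwa [Subgroup.coe_pow] at h2
  apply mem_of_pow_mem hDq hcq
  rw [Subgroup.mem_centralizer_iff]
  intro z hz
  have h := hind (Nat.card ↥D) z hz
  rw [hdm] at h
  simp only [one_mul, inv_one, mul_one] at h
  calc z * c ^ Nat.card ↥D = (c ^ Nat.card ↥D * z * (c ^ Nat.card ↥D)⁻¹) * c ^ Nat.card ↥D := by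
        rw [h]
    _ = c ^ Nat.card ↥D * z := by group

/-- if the `q`-group `Q` centralizes the `q'`-group `D₀`, every `q`-element of `D₀ Q` lies in `Q` -/
theorem mem_of_pow_prime_pow {Q D₀ : Subgroup G} {q : ℕ} (hq : q.Prime) (hQ : IsPGroup q ↥Q)
    (hcop : (Nat.card ↥D₀).Coprime q) (hcent : Q ≤ Subgroup.centralizer (D₀ : Set G))
    {y : G} (hy : y ∈ D₀ ⊔ Q) {k : ℕ} (hyk : y ^ q ^ k = 1) : y ∈ Q := by
  haveI : Fact q.Prime := ⟨hq⟩
  obtain ⟨d₀, hd₀, a, ha, rfl⟩ :=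
    (Cfsg.Agent.H1.mem_sup_of_le_normalizer D₀ Q
      (hcent.trans (Subgroup.centralizer_le_normalizer _))).mp hy
  have hcomm : Commute d₀ a := by
    have := Subgroup.mem_centralizer_iff.mp (hcent ha) d₀ hd₀
    exact this
  rw [hcomm.mul_pow] at hyk
  have hinf : D₀ ⊓ Q = ⊥ := by
    apply (Subgroup.disjoint_of_coprime_natCard _).eq_bot
    obtain ⟨j, hj⟩ := IsPGroup.iff_card.mp hQ
    rw [hj]
    exact Nat.Coprime.pow_right j hcop
  have h1 : d₀ ^ q ^ k ∈ D₀ ⊓ Q := by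
    refine ⟨D₀.pow_mem hd₀ _, ?_⟩
    have : d₀ ^ q ^ k = (a ^ q ^ k)⁻¹ := eq_inv_of_mul_eq_one_left hyk
    rw [this]
    exact Q.inv_mem (Q.pow_mem ha _)
  rw [hinf] at h1
  have hd1 : d₀ ^ Nat.card ↥D₀ = 1 := by
    have h2 := pow_card_eq_one' (G := ↥D₀) (x := ⟨d₀, hd₀⟩)
    have h3 := congrArg Subtype.val h2
    rwa [Subgroup.coe_pow] at h3
  have hd0 : d₀ ∈ (⊥ : Subgroup G) :=
    mem_of_pow_mem (Nat.Coprime.pow_left k hcop.symm) hd1 h1
  rw [Subgroup.mem_bot] at hd0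
  rw [hd0, one_mul]
  exact ha

/-- if the `q`-group `Q` centralizes the `q'`-group `D₀` then `N(D₀ Q) ≤ N(Q)` -/
theorem normalizer_sup_le_normalizer {Q D₀ : Subgroup G} {q : ℕ} (hq : q.Prime)
    (hQ : IsPGroup q ↥Q) (hcop : (Nat.card ↥D₀).Coprime q)
    (hcent : Q ≤ Subgroup.centralizer (D₀ : Set G)) :
    Subgroup.normalizer ((D₀ ⊔ Q : Subgroup G) : Set G) ≤ Subgroup.normalizer (Q : Set G) := by
  apply le_normalizer_of_conj_mem
  intro g hg a ha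
  obtain ⟨k, hk⟩ := hQ ⟨a, ha⟩
  have hk' : a ^ q ^ k = 1 := by
    have := congrArg Subtype.val hk
    rwa [Subgroup.coe_pow] at this
  have h1 : g * a * g⁻¹ ∈ D₀ ⊔ Q :=
    conj_mem_of_le_norm le_rfl hg (le_sup_right (α := Subgroup G) ha)
  apply mem_of_pow_prime_pow hq hQ hcop hcent h1 (k := k)
  rw [conj_pow, hk']
  group

end Cfsg.Agent.Lib.Helper5.BG15
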