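import Mathlib
import Cfsg.Agent.Lib.Helper5.BG15A
import Cfsg.Agent.Lib.helper3.BG13A
import Cfsg.Agent.H1.Frattini
import Cfsg.Agent.Lib.Helper8.BGTenI

/-!
Bender–Glauberman §15 (blueprint Part 20, step (5)), helper5: a Frobenius group `D K` acting on a
`q`-group `Q` with `|C_Q(K)| = q`, `C_Q(k) = C_Q(K)` for `k ∈ K^#`, `D` not centralizing `Q`:
`|K|` is prime, `|Q| = |C_Q(D)| q^{|K|}`, `Φ(Q) ≤ C_Q(D)`, and there is no `DK`-invariant subgroup
strictly between `C_Q(D)` and `Q`.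
-/

set_option autoImplicit false
set_option linter.unusedSectionVars false
set_option linter.unusedVariables false
set_option linter.style.haveILetI false
set_option maxHeartbeats 1000000
open Cfsg
open scoped commutatorElement Pointwise

namespace Cfsg.Agent.Lib.Helper5.BG15

open Cfsg.Agent.Lib.Helper5.BG14Z

universe u

variable {G : Type u} [Group G] [Finite G]

/-- a subgroup of prime order meets any subgroup trivially or is contained in it -/
theorem inf_eq_bot_or_le {A : Subgroup G} (B : Subgroup G) {q : ℕ} (hq : q.Prime)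
    (hA : Nat.card ↥A = q) : A ⊓ B = ⊥ ∨ A ≤ B := by
  have hdvd : Nat.card ↥(A ⊓ B) ∣ q := hA ▸ Subgroup.card_dvd_of_le inf_le_left
  rcases (Nat.dvd_prime hq).mp hdvd with h | h
  · left; exact Subgroup.card_eq_one.mp h
  · right
    have : A ⊓ B = A := Subgroup.eq_of_le_of_card_ge inf_le_left (by rw [h, hA])
    rw [← this]; exact inf_le_right

/-- the image in `G` of the Frattini subgroup of `Q` -/
def frat (Q : Subgroup G) : Subgroup G := (frattini ↥Q).map Q.subtype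

theorem frat_le (Q : Subgroup G) : frat Q ≤ Q := by
  rintro _ ⟨y, -, rfl⟩
  exact y.2

theorem le_normalizer_frat {N Q : Subgroup G} (h : N ≤ Subgroup.normalizer (Q : Set G)) :
    N ≤ Subgroup.normalizer ((frat Q : Subgroup G) : Set G) := by
  apply le_normalizer_of_conj_mem
  intro g hg t ht
  exact Cfsg.Agent.Lib.Helper8.BGTen.char_map_conj_mem (frattini ↥Q) (h hg) ht

theorem pow_mem_frat {Q : Subgroup G} {q : ℕ} (hq : q.Prime) (hQ : IsPGroup q ↥Q) {a : G}
    (ha : a ∈ Q) : a ^ q ∈ frat Q := by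
  haveI : Fact q.Prime := ⟨hq⟩
  exact ⟨(⟨a, ha⟩ : ↥Q) ^ q, Cfsg.Agent.H1.pow_p_mem_frattini hQ ⟨a, ha⟩, rfl⟩

theorem comm_mem_frat {Q : Subgroup G} {q : ℕ} (hq : q.Prime) (hQ : IsPGroup q ↥Q) {a b : G}
    (ha : a ∈ Q) (hb : b ∈ Q) : a * b * a⁻¹ * b⁻¹ ∈ frat Q := by
  haveI : Fact q.Prime := ⟨hq⟩
  refine ⟨⁅(⟨a, ha⟩ : ↥Q), ⟨b, hb⟩⁆, Cfsg.Agent.H1.commutator_le_frattini hQ ?_, ?_⟩
  · exact Subgroup.commutator_mem_commutator (Subgroup.mem_top _) (Subgroup.mem_top _)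
  · simp [commutatorElement_def]

theorem eq_of_sup_frat {Q R : Subgroup G} (hR : R ≤ Q) (h : R ⊔ frat Q = Q) : R = Q := by
  have h1 : R.subgroupOf Q ⊔ frattini ↥Q = ⊤ := by
    apply Subgroup.map_injective Q.subtype_injective
    rw [Subgroup.map_sup, Subgroup.subgroupOf_map_subtype, inf_eq_left.mpr hR,
      ← MonoidHom.range_eq_map, Subgroup.range_subtype]
    exact h
  have h2 : R.subgroupOf Q = ⊤ := frattini_nongenerating h1
  rw [Subgroup.subgroupOf_eq_top] at h2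
  exact le_antisymm hR h2

/-- the data of step (5) -/
structure FrobData (Q D K : Subgroup G) (q : ℕ) : Prop where
  hq : q.Prime
  hD1 : D ≠ ⊥
  hK1 : K ≠ ⊥
  hDK : D ⊓ K = ⊥
  hKD : K ≤ Subgroup.normalizer (D : Set G)
  hfrob : ∀ k ∈ K, k ≠ 1 → D ⊓ Subgroup.centralizer ({k} : Set G) = ⊥
  hQ : IsPGroup q ↥Q
  hDQ : D ≤ Subgroup.normalizer (Q : Set G)
  hKQ : K ≤ Subgroup.normalizer (Q : Set G)
  hcop : (Nat.card ↥(D ⊔ K)).Coprime (Nat.card ↥Q)
  hKs : Nat.card ↥(Q ⊓ Subgroup.centralizer (K : Set G)) = q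
  hpr : ∀ k ∈ K, k ≠ 1 →
    Q ⊓ Subgroup.centralizer ({k} : Set G) = Q ⊓ Subgroup.centralizer (K : Set G)
  hnc : ¬ Q ≤ Subgroup.centralizer (D : Set G)

namespace FrobData

variable {Q D K : Subgroup G} {q : ℕ}

theorem solvable_of_le_Q (h : FrobData Q D K q) {R : Subgroup G} (hR : R ≤ Q) :
    Group.IsSolvable ↥R := by
  haveI : Fact q.Prime := ⟨h.hq⟩
  haveI : Group.IsNilpotent ↥Q := h.hQ.isNilpotent
  exact solvable_of_le hR inferInstance

/-- the Frobenius fixed point formula for a `DK`-invariant subgroup of `Q` -/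
theorem formula (h : FrobData Q D K q) {R : Subgroup G} (hR : R ≤ Q)
    (hDR : D ≤ Subgroup.normalizer (R : Set G)) (hKR : K ≤ Subgroup.normalizer (R : Set G)) :
    Nat.card ↥(R ⊓ (Subgroup.centralizer (D : Set G) ⊓ Subgroup.centralizer (K : Set G))) ^
        Nat.card ↥K * Nat.card ↥R =
      Nat.card ↥(R ⊓ Subgroup.centralizer (K : Set G)) ^ Nat.card ↥K *
        Nat.card ↥(R ⊓ Subgroup.centralizer (D : Set G)) :=
  Cfsg.Agent.Lib.helper3.BG13.frobenius_formula D K R h.hD1 h.hK1 h.hDK h.hKD h.hfrob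
    (h.solvable_of_le_Q hR) hDR hKR (h.hcop.coprime_dvd_right (Subgroup.card_dvd_of_le hR))

theorem card_K_prime (h : FrobData Q D K q) : (Nat.card ↥K).Prime :=
  (Cfsg.Agent.Lib.helper3.BG13.frobenius_prime_action D K Q h.hD1 h.hK1 h.hDK h.hKD h.hfrob
    (h.solvable_of_le_Q le_rfl) h.hDQ h.hKQ h.hcop h.hnc h.hpr).1

/-- `C_Q(D) ∩ C_Q(K) = 1` -/
theorem inf_inf_eq_bot (h : FrobData Q D K q) :
    Q ⊓ (Subgroup.centralizer (D : Set G) ⊓ Subgroup.centralizer (K : Set G)) = ⊥ := by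
  have hf := h.formula le_rfl h.hDQ h.hKQ
  rcases inf_eq_bot_or_le (Subgroup.centralizer (D : Set G)) h.hq h.hKs with h1 | h1
  · rw [eq_bot_iff, ← h1]
    intro x hx
    exact ⟨⟨hx.1, hx.2.2⟩, hx.2.1⟩
  · exfalso
    have e : Q ⊓ (Subgroup.centralizer (D : Set G) ⊓ Subgroup.centralizer (K : Set G)) =
        Q ⊓ Subgroup.centralizer (K : Set G) := by
      apply le_antisymm
      · intro x hx; exact ⟨hx.1, hx.2.2⟩
      · intro x hx; exact ⟨hx.1, h1 hx, hx.2⟩
    rw [e] at hf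
    have hpos : 0 < Nat.card ↥(Q ⊓ Subgroup.centralizer (K : Set G)) ^ Nat.card ↥K :=
      pow_pos Nat.card_pos _
    have h2 : Nat.card ↥Q = Nat.card ↥(Q ⊓ Subgroup.centralizer (D : Set G)) :=
      Nat.eq_of_mul_eq_mul_left hpos hf
    have h3 : Q ⊓ Subgroup.centralizer (D : Set G) = Q :=
      Subgroup.eq_of_le_of_card_ge inf_le_left h2.le
    apply h.hnc
    rw [← h3]; exact inf_le_right

/-- the formula without the trivial factor -/
theorem card_eq (h : FrobData Q D K q) {R : Subgroup G} (hR : R ≤ Q)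
    (hDR : D ≤ Subgroup.normalizer (R : Set G)) (hKR : K ≤ Subgroup.normalizer (R : Set G)) :
    Nat.card ↥R = Nat.card ↥(R ⊓ Subgroup.centralizer (K : Set G)) ^ Nat.card ↥K *
        Nat.card ↥(R ⊓ Subgroup.centralizer (D : Set G)) := by
  have hf := h.formula hR hDR hKR
  have e : R ⊓ (Subgroup.centralizer (D : Set G) ⊓ Subgroup.centralizer (K : Set G)) = ⊥ := by
    rw [eq_bot_iff, ← h.inf_inf_eq_bot]
    exact inf_le_inf_right _ hR
  rw [e, Subgroup.card_bot, one_pow, one_mul] at hf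
  exact hf

/-- `|Q| = q^{|K|} |C_Q(D)|` -/
theorem card_Q (h : FrobData Q D K q) :
    Nat.card ↥Q = Nat.card ↥(Q ⊓ Subgroup.centralizer (D : Set G)) * q ^ Nat.card ↥K := by
  rw [h.card_eq le_rfl h.hDQ h.hKQ, h.hKs, mul_comm]

/-- the dichotomy for a `DK`-invariant subgroup of `Q` -/
theorem dichotomy (h : FrobData Q D K q) {R : Subgroup G} (hR : R ≤ Q)
    (hDR : D ≤ Subgroup.normalizer (R : Set G)) (hKR : K ≤ Subgroup.normalizer (R : Set G)) :
    R ≤ Subgroup.centralizer (D : Set G) ∨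
      (Q ⊓ Subgroup.centralizer (K : Set G) ≤ R ∧
        Nat.card ↥R = q ^ Nat.card ↥K * Nat.card ↥(R ⊓ Subgroup.centralizer (D : Set G))) := by
  have hf := h.card_eq hR hDR hKR
  have e : R ⊓ Subgroup.centralizer (K : Set G) = (Q ⊓ Subgroup.centralizer (K : Set G)) ⊓ R := by
    apply le_antisymm
    · intro x hx; exact ⟨⟨hR hx.1, hx.2⟩, hx.1⟩
    · intro x hx; exact ⟨hx.2, hx.1.2⟩
  rcases inf_eq_bot_or_le R h.hq h.hKs with h1 | h1
  · left
    rw [e, h1, Subgroup.card_bot, one_pow, one_mul] at hf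
    have h3 : R ⊓ Subgroup.centralizer (D : Set G) = R :=
      Subgroup.eq_of_le_of_card_ge inf_le_left hf.le
    rw [← h3]; exact inf_le_right
  · right
    refine ⟨h1, ?_⟩
    have e2 : (Q ⊓ Subgroup.centralizer (K : Set G)) ⊓ R = Q ⊓ Subgroup.centralizer (K : Set G) :=
      inf_eq_left.mpr h1
    rw [e, e2, h.hKs] at hf
    exact hf

/-- `Φ(Q) ≤ C_Q(D)` -/
theorem frat_le_centralizer (h : FrobData Q D K q) :
    frat Q ≤ Subgroup.centralizer (D : Set G) := by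
  rcases h.dichotomy (frat_le Q) (le_normalizer_frat h.hDQ) (le_normalizer_frat h.hKQ) with h1 | h1
  · exact h1
  exfalso
  -- `R := C_Q(D) Φ(Q)` is `DK`-invariant and contains `K*`
  set Q₀ : Subgroup G := Q ⊓ Subgroup.centralizer (D : Set G) with hQ₀
  have hDQ₀ : D ≤ Subgroup.normalizer (Q₀ : Set G) :=
    le_norm_inf h.hDQ (le_norm_centralizer Subgroup.le_normalizer)
  have hKQ₀ : K ≤ Subgroup.normalizer (Q₀ : Set G) :=
    le_norm_inf h.hKQ (le_norm_centralizer h.hKD)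
  have hRQ : Q₀ ⊔ frat Q ≤ Q := sup_le inf_le_left (frat_le Q)
  rcases h.dichotomy hRQ (le_norm_sup hDQ₀ (le_normalizer_frat h.hDQ))
    (le_norm_sup hKQ₀ (le_normalizer_frat h.hKQ)) with h2 | h2
  · -- then `K* ≤ Φ(Q) ≤ C(D)`, so `K* ≤ C_Q(D) ∩ C_Q(K) = 1`
    have h3 : Q ⊓ Subgroup.centralizer (K : Set G) ≤
        Q ⊓ (Subgroup.centralizer (D : Set G) ⊓ Subgroup.centralizer (K : Set G)) := by
      intro x hx
      exact ⟨hx.1, h2 (le_sup_right (α := Subgroup G) (h1.1 hx)), hx.2⟩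
    rw [h.inf_inf_eq_bot, le_bot_iff] at h3
    have := h.hKs
    rw [h3, Subgroup.card_bot] at this
    exact h.hq.one_lt.ne this
  · have e1 : (Q₀ ⊔ frat Q) ⊓ Subgroup.centralizer (D : Set G) = Q₀ := by
      apply le_antisymm
      · intro x hx; exact ⟨hRQ hx.1, hx.2⟩
      · exact le_inf le_sup_left inf_le_right
    have h3 : Nat.card ↥(Q₀ ⊔ frat Q) = Nat.card ↥Q := by
      rw [h2.2, e1, h.card_Q, mul_comm]
    have h4 : Q₀ ⊔ frat Q = Q := Subgroup.eq_of_le_of_card_ge hRQ h3.ge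
    have h5 : Q₀ = Q := eq_of_sup_frat inf_le_left h4
    apply h.hnc
    rw [← h5]; exact inf_le_right

/-- `Q/C_Q(D)` is elementary abelian: `q`-th powers and commutators lie in `C_Q(D)` -/
theorem pow_comm_mem (h : FrobData Q D K q) {a b : G} (ha : a ∈ Q) (hb : b ∈ Q) :
    a ^ q ∈ Q ⊓ Subgroup.centralizer (D : Set G) ∧
      a * b * a⁻¹ * b⁻¹ ∈ Q ⊓ Subgroup.centralizer (D : Set G) :=
  ⟨⟨Q.pow_mem ha _, h.frat_le_centralizer (pow_mem_frat h.hq h.hQ ha)⟩,
    ⟨Q.mul_mem (Q.mul_mem (Q.mul_mem ha hb) (Q.inv_mem ha)) (Q.inv_mem hb),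
      h.frat_le_centralizer (comm_mem_frat h.hq h.hQ ha hb)⟩⟩

/-- `C_Q(D) ⊴ Q` -/
theorem le_normalizer_Q₀ (h : FrobData Q D K q) :
    Q ≤ Subgroup.normalizer ((Q ⊓ Subgroup.centralizer (D : Set G) : Subgroup G) : Set G) := by
  apply le_normalizer_of_conj_mem
  intro a ha z hz
  have h1 := (h.pow_comm_mem ha hz.1).2
  have e : a * z * a⁻¹ = (a * z * a⁻¹ * z⁻¹) * z := by group
  rw [e]
  exact Subgroup.mul_mem _ h1 hz

/-- `C_Q(D) < Q` -/
theorem Q₀_lt (h : FrobData Q D K q) : Q ⊓ Subgroup.centralizer (D : Set G) < Q := by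
  refine lt_of_le_of_ne inf_le_left ?_
  intro h1
  apply h.hnc
  rw [← h1]; exact inf_le_right

/-- no `DK`-invariant subgroup lies strictly between `C_Q(D)` and `Q` -/
theorem no_between (h : FrobData Q D K q) {N : Subgroup G}
    (h1 : Q ⊓ Subgroup.centralizer (D : Set G) < N) (h2 : N < Q)
    (hDN : D ≤ Subgroup.normalizer (N : Set G)) (hKN : K ≤ Subgroup.normalizer (N : Set G)) :
    False := by
  rcases h.dichotomy h2.le hDN hKN with h3 | h3
  · exact absurd (le_inf h2.le h3) (not_le_of_gt h1)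
  · have e1 : N ⊓ Subgroup.centralizer (D : Set G) = Q ⊓ Subgroup.centralizer (D : Set G) := by
      apply le_antisymm
      · exact inf_le_inf_right _ h2.le
      · exact le_inf h1.le inf_le_right
    have h4 : Nat.card ↥N = Nat.card ↥Q := by
      rw [h3.2, e1, h.card_Q, mul_comm]
    exact absurd (Subgroup.eq_of_le_of_card_ge h2.le h4.ge) h2.ne

end FrobData

end Cfsg.Agent.Lib.Helper5.BG15
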