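import Mathlib
import Cfsg.Agent.Lib.Helper5.BG15B
import Cfsg.Agent.Lib.Helper4.BG14L
import Cfsg.Agent.Lib.Helper8.BG15A
import Cfsg.Agent.S1429
import Cfsg.Agent.S1426
import Cfsg.Agent.S1430
import Cfsg.Agent.S1461
import Cfsg.Agent.S0025
import Cfsg.Agent.S1414
import Cfsg.Agent.H1.CoprimeHall
import Cfsg.Agent.H2.BG11.B

/-!
Bender–Glauberman §15 (blueprint Part 20), helper5: the case `M_σ` not nilpotent
(`M_F ≠ M_σ`), steps (0)–(4).
-/

set_option autoImplicit false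
set_option linter.unusedSectionVars false
set_option linter.unusedVariables false
set_option linter.style.haveILetI false
set_option maxHeartbeats 1000000
open Cfsg
open scoped commutatorElement Pointwise

namespace Cfsg.Agent.Lib.Helper5.BG15

open Cfsg.Agent.Lib.Helper5.BG14Z

universe u

variable {G : Type u} [Group G] [Finite G]

section step0

variable {M K U : Subgroup G}

/-- `M_F ≠ M_σ` forces `M_σ` to be non-nilpotent -/
theorem not_nilpotent (hG : Cfsg.IsMinSimpleOddOrder G) (hM : IsCoatom M)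
    (hne : Cfsg.fittingHallOf M ≠ Cfsg.sigmaCore M) :
    ¬ Group.IsNilpotent ↥(Cfsg.sigmaCore M) := fun h =>
  hne (Cfsg.Agent.Lib.helper3.BG14.sigmaCore_eq_fittingHallOf hG hM h).symm

/-- if `M_σ` is not nilpotent, a Hall `κ(M)`-subgroup is nontrivial -/
theorem hall_ne_bot (hG : Cfsg.IsMinSimpleOddOrder G) (hM : IsCoatom M)
    (hK : Cfsg.IsPiHallOf (Cfsg.kappa M) K M)
    (hnn : ¬ Group.IsNilpotent ↥(Cfsg.sigmaCore M)) : K ≠ ⊥ := by
  intro hK1
  have hP1 : ∀ q : ℕ, q.Prime → q ∣ Nat.card M → q ∉ Cfsg.sigma M → q ∈ Cfsg.kappa M := by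
    by_contra hP1
    have hP1' := hP1
    push Not at hP1'
    obtain ⟨p, hp, hpM, hpσ, hpκ⟩ := hP1'
    haveI : Fact p.Prime := ⟨hp⟩
    obtain ⟨S⟩ : Nonempty (Sylow p ↥M) := inferInstance
    have hpn : p ∉ Cfsg.sigma M ∪ Cfsg.kappa M := by
      intro h
      rcases h with h | h
      · exact hpσ h
      · exact hpκ h
    exact hnn (Cfsg.Agent.S1429.result hG M hM hP1 p hpM hpn S).2.2
  have hσ : ∀ q : ℕ, q.Prime → q ∣ Nat.card M → q ∈ Cfsg.sigma M := by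
    intro q hq hqM
    by_contra hqσ
    have hqκ := hP1 q hq hqM hqσ
    have h1 := hK.2.2 q hq hqκ
    rw [hK1, Subgroup.relIndex_bot_left] at h1
    exact h1 hqM
  have hle : M ≤ Cfsg.sigmaCore M := by
    rw [← Subgroup.relIndex_eq_one]
    by_contra h1
    obtain ⟨p, hp, hpd⟩ := Nat.exists_prime_and_dvd h1
    have hpM : p ∣ Nat.card M := hpd.trans (Subgroup.relIndex_dvd_card _ _)
    exact (Cfsg.Agent.H2.BG11.sigmaCore_hallOf hG hM).2.2 p hp (hσ p hp hpM) hpd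
  have h2 : M ≤ ⁅M, M⁆ := hle.trans
    (Cfsg.Agent.Lib.Helper5.BGBeta.sigmaCore_le_commutator hG (Cfsg.Agent.H2.BG11.uniq hG) hM)
  exact absurd h2 (not_le_of_gt (Cfsg.Agent.Lib.Helper8.BG15.commutator_lt hG hM))

/-- `M = K M_σ` -/
theorem sup_eq (hG : Cfsg.IsMinSimpleOddOrder G) (hM : IsCoatom M)
    (hK : Cfsg.IsPiHallOf (Cfsg.kappa M) K M)
    (hnn : ¬ Group.IsNilpotent ↥(Cfsg.sigmaCore M)) : Cfsg.sigmaCore M ⊔ K = M := by
  have hK1 := hall_ne_bot hG hM hK hnn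
  have hc := Cfsg.Agent.Lib.Helper4.BG14.card_of_not_nilpotent hG hM hK hK1 hnn
  have h1 := Cfsg.Agent.H1.card_sup_mul_card_inf K (Cfsg.sigmaCore M)
    (hK.1.trans (Cfsg.Agent.H2.BG11.le_normalizer_sigmaCore M))
  rw [K_inf_sigmaCore hG hM hK, Subgroup.card_bot, mul_one, ← hc, sup_comm] at h1
  exact Subgroup.eq_of_le_of_card_ge (sup_le (Cfsg.Agent.H2.BG11.sigmaCore_le M) hK.1) h1.ge

/-- `U = 1` -/
theorem U_eq_bot (hG : Cfsg.IsMinSimpleOddOrder G) (hM : IsCoatom M)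
    (hKU : Cfsg.IsSigmaDecomposition M K U)
    (hnn : ¬ Group.IsNilpotent ↥(Cfsg.sigmaCore M)) : U = ⊥ := by
  have h1 := sup_eq hG hM hKU.hall hnn
  have h2 := hKU.compl.2.2.1
  rw [sup_comm, h1] at h2
  rw [← h2]
  exact (inf_eq_left.mpr hKU.compl.1).symm

/-- `K` is a complement of `M_σ` in `M` -/
theorem isComplIn_K (hG : Cfsg.IsMinSimpleOddOrder G) (hM : IsCoatom M)
    (hK : Cfsg.IsPiHallOf (Cfsg.kappa M) K M)
    (hnn : ¬ Group.IsNilpotent ↥(Cfsg.sigmaCore M)) :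
    Cfsg.IsComplIn K (Cfsg.sigmaCore M) M := by
  refine ⟨hK.1, Cfsg.Agent.H2.BG11.sigmaCore_le M, K_inf_sigmaCore hG hM hK, ?_⟩
  intro m hm
  rw [← sup_eq hG hM hK hnn] at hm
  obtain ⟨n, hn, k, hk, rfl⟩ := (Cfsg.Agent.H1.mem_sup_of_le_normalizer (Cfsg.sigmaCore M) K
    (hK.1.trans (Cfsg.Agent.H2.BG11.le_normalizer_sigmaCore M))).mp hm
  refine ⟨k, hk, k⁻¹ * n * k, ?_, by group⟩
  exact conj_mem_of_le_norm' (Cfsg.Agent.H2.BG11.le_normalizer_sigmaCore M) (hK.1 hk) hn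

/-- `M' = M_σ` -/
theorem commutator_eq_sigmaCore (hG : Cfsg.IsMinSimpleOddOrder G) (hM : IsCoatom M)
    (hKU : Cfsg.IsSigmaDecomposition M K U)
    (hnn : ¬ Group.IsNilpotent ↥(Cfsg.sigmaCore M)) : ⁅M, M⁆ = Cfsg.sigmaCore M := by
  rw [commutator_eq_N hG hM hKU (hall_ne_bot hG hM hKU.hall hnn), U_eq_bot hG hM hKU hnn,
    bot_sup_eq]

end step0

/-- arithmetic: comparing the two Hall factorisations -/
theorem pow_eq_pow_of_mul {q a k m n : ℕ} (h : q ^ a * m = n * q ^ k)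
    (hm : m.Coprime q) (hn : n.Coprime q) : q ^ a = q ^ k := by
  apply Nat.dvd_antisymm
  · have h1 : q ^ a ∣ n * q ^ k := Dvd.intro _ h
    exact (Nat.Coprime.pow_left a hn.symm).dvd_of_dvd_mul_left h1
  · have h1 : q ^ k ∣ q ^ a * m := Dvd.intro_left _ h.symm
    exact (Nat.Coprime.pow_left k hm.symm).dvd_of_dvd_mul_right h1

/-- `K* = C_{M_σ}(K)` -/
abbrev Kst (M K : Subgroup G) : Subgroup G :=
  Cfsg.sigmaCore M ⊓ Subgroup.centralizer (K : Set G)

/-- the data of Part 20: `Q` a `K`-invariant Sylow `q`-subgroup of `M_σ` containing `K*`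
(`q = |K*|`), `D` a `K`-invariant Hall `q'`-subgroup of `M_σ` -/
structure NData (M K Q D : Subgroup G) : Prop where
  coatom : IsCoatom M
  hall : Cfsg.IsPiHallOf (Cfsg.kappa M) K M
  nn : ¬ Group.IsNilpotent ↥(Cfsg.sigmaCore M)
  prime : (Nat.card ↥(Kst M K)).Prime
  QH : Q ≤ Cfsg.sigmaCore M
  DH : D ≤ Cfsg.sigmaCore M
  Qp : IsPGroup (Nat.card ↥(Kst M K)) ↥Q
  Qsyl : ¬ Nat.card ↥(Kst M K) ∣ Q.relIndex (Cfsg.sigmaCore M)
  KsQ : Kst M K ≤ Q
  KQ : K ≤ Subgroup.normalizer (Q : Set G)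
  KD : K ≤ Subgroup.normalizer (D : Set G)
  Dq : (Nat.card ↥D).Coprime (Nat.card ↥(Kst M K))
  Dhall : Cfsg.IsPiHallOf {p | p ≠ Nat.card ↥(Kst M K)} D (Cfsg.sigmaCore M)
  prod : ∀ h ∈ Cfsg.sigmaCore M, ∃ a ∈ Q, ∃ d ∈ D, h = a * d
  frat : ∃ D₀ : Subgroup G, D₀ ≤ Cfsg.sigmaCore M ∧
    (Nat.card ↥D₀).Coprime (Nat.card ↥(Kst M K)) ∧
    Subgroup.normalizer ((Cfsg.sigmaCore M : Subgroup G) : Set G) ≤
      Subgroup.normalizer (D₀ : Set G) ∧
    ∀ h ∈ Cfsg.sigmaCore M, ∃ d ∈ D₀, ∃ n ∈ Subgroup.normalizer (Q : Set G), h = d * n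

theorem solvable_sigmaCore (hG : Cfsg.IsMinSimpleOddOrder G) {M : Subgroup G} (hM : IsCoatom M) :
    Group.IsSolvable ↥(Cfsg.sigmaCore M) :=
  solvable_of_le (Cfsg.Agent.H2.BG11.sigmaCore_le M) (hG.2.2.2 M hM.1)

theorem exists_ndata (hG : Cfsg.IsMinSimpleOddOrder G) {M K : Subgroup G} (hM : IsCoatom M)
    (hK : Cfsg.IsPiHallOf (Cfsg.kappa M) K M)
    (hnn : ¬ Group.IsNilpotent ↥(Cfsg.sigmaCore M)) : ∃ Q D : Subgroup G, NData M K Q D := by
  classical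
  have hK1 := hall_ne_bot hG hM hK hnn
  have hc := Cfsg.Agent.Lib.Helper4.BG14.card_of_not_nilpotent hG hM hK hK1 hnn
  have hq : (Nat.card ↥(Kst M K)).Prime :=
    Cfsg.Agent.Lib.Helper4.BG14.card_star_prime_of_P1 hG hM hK hK1 hc
  set q := Nat.card ↥(Kst M K) with hqdef
  haveI : Fact q.Prime := ⟨hq⟩
  set H := Cfsg.sigmaCore M with hH
  have hKH : K ≤ Subgroup.normalizer (H : Set G) :=
    hK.1.trans (Cfsg.Agent.H2.BG11.le_normalizer_sigmaCore M)
  have hcop : (Nat.card ↥K).Coprime (Nat.card ↥H) := coprime_hall_sigmaCore hG hM hK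
  have hsolv : Group.IsSolvable ↥H := solvable_sigmaCore hG hM
  have hKsH : Kst M K ≤ H := inf_le_left
  have hKsp : IsPGroup q ↥(Kst M K) := IsPGroup.of_card (n := 1) (by rw [pow_one])
  have hKKs : K ≤ Subgroup.normalizer ((Kst M K : Subgroup G) : Set G) := by
    have h1 : Kst M K ≤ Subgroup.centralizer (K : Set G) := inf_le_right
    exact (Subgroup.le_centralizer_iff.mp h1).trans (Subgroup.centralizer_le_normalizer _)
  obtain ⟨P, hKsP, hKP⟩ :=
    Cfsg.Agent.S0025.result K H hKH hcop (Or.inr hsolv) q (Kst M K) hKsH hKsp hKKs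
  obtain ⟨D, hD, hKD⟩ := Cfsg.Agent.H1.exists_invariant_isPiHallOf K H hKH hcop hsolv
    {p | p ≠ q}
  set Q : Subgroup G := (P : Subgroup ↥H).map H.subtype with hQ
  have hQH : Q ≤ H := Subgroup.map_subtype_le _
  have hDq : (Nat.card ↥D).Coprime q :=
    ((Nat.Prime.coprime_iff_not_dvd hq).mpr (fun hd => hD.2.1 q hq hd rfl)).symm
  have hcardQ : Nat.card ↥Q = Nat.card ↥(P : Subgroup ↥H) :=
    Subgroup.card_map_of_injective H.subtype_injective
  have hQp : IsPGroup q ↥Q := P.isPGroup'.map _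
  -- the relative index of `D` is a power of `q`
  have h2 : Nat.card ↥H = D.relIndex H * Nat.card ↥D :=
    Cfsg.Agent.H1.card_eq_relIndex_mul_card hD.1
  obtain ⟨k, hk⟩ : ∃ k, D.relIndex H = q ^ k := by
    have h0 : D.relIndex H ≠ 0 := by
      intro h0
      rw [h0, zero_mul] at h2
      exact Nat.card_pos.ne' h2
    refine ⟨_, Nat.eq_prime_pow_of_unique_prime_dvd h0 ?_⟩
    intro p hp hpd
    by_contra hpq
    exact hD.2.2 p hp hpq hpd
  obtain ⟨a, ha⟩ := IsPGroup.iff_card.mp P.isPGroup'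
  have hidx : (P : Subgroup ↥H).index.Coprime q := by
    have := P.card_coprime_index
    rw [ha] at this
    rcases Nat.eq_zero_or_pos a with h0 | h0
    · exfalso
      -- `K* ≤ Q` forces `a ≥ 1`
      have h1 : Nat.card ↥(Kst M K) ∣ Nat.card ↥Q := Subgroup.card_dvd_of_le hKsP
      rw [hcardQ, ha, h0, pow_zero, Nat.dvd_one] at h1
      exact hq.one_lt.ne' h1
    · exact ((Nat.coprime_pow_left_iff h0 _ _).mp this).symm
  have h1 : Nat.card ↥(P : Subgroup ↥H) * (P : Subgroup ↥H).index = Nat.card ↥H :=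
    Subgroup.card_mul_index _
  have h3 : q ^ a = q ^ k := by
    apply pow_eq_pow_of_mul (m := (P : Subgroup ↥H).index) (n := Nat.card ↥D) _ hidx hDq
    rw [← ha, h1, h2, hk, mul_comm]
  have hcardH : Nat.card ↥Q * Nat.card ↥D = Nat.card ↥H := by
    rw [hcardQ, ha, h3, h2, hk]
  have hQsyl : ¬ q ∣ Q.relIndex H := by
    intro hd
    have h4 := Cfsg.Agent.H1.card_eq_relIndex_mul_card hQH
    rw [← hcardH] at h4
    have hpos : 0 < Nat.card ↥Q := Nat.card_pos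
    have h5 : Nat.card ↥D = Q.relIndex H := by
      have : Nat.card ↥D * Nat.card ↥Q = Q.relIndex H * Nat.card ↥Q := by rw [mul_comm, h4]
      exact Nat.eq_of_mul_eq_mul_right hpos this
    rw [← h5] at hd
    exact (Nat.Prime.coprime_iff_not_dvd hq).mp hDq.symm hd
  -- the product decomposition
  have hprod : ∀ h ∈ H, ∃ a ∈ Q, ∃ d ∈ D, h = a * d := by
    have hdisj : Disjoint (P : Subgroup ↥H) (D.subgroupOf H) := by
      apply Subgroup.disjoint_of_coprime_natCard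
      rw [ha, Cfsg.Agent.Lib.Helper7.card_subgroupOf_of_le hD.1]
      exact Nat.Coprime.pow_left a hDq.symm
    have hcm : Nat.card ↥(P : Subgroup ↥H) * Nat.card ↥(D.subgroupOf H) = Nat.card ↥H := by
      rw [Cfsg.Agent.Lib.Helper7.card_subgroupOf_of_le hD.1, ← hcardQ]
      exact hcardH
    have hcompl := Subgroup.isComplement'_of_card_mul_and_disjoint hcm hdisj
    intro h hh
    obtain ⟨⟨x, y⟩, hxy, -⟩ := hcompl.existsUnique ⟨h, hh⟩
    refine ⟨((x : ↥H) : G), ⟨x, x.2, rfl⟩, ((y : ↥H) : G), Subgroup.mem_subgroupOf.mp y.2, ?_⟩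
    have := congrArg Subtype.val hxy
    simpa using this.symm
  -- the `q'`-core
  have hpl : Cfsg.PLengthLE q 1 ↥H := by
    apply Cfsg.Agent.H2.BG11.plen hG q H
    intro htop
    have : M = ⊤ := top_le_iff.mp (htop ▸ Cfsg.Agent.H2.BG11.sigmaCore_le M)
    exact hM.1 this
  obtain ⟨K₀, hK₀n, hK₀c, hK₀⟩ := Cfsg.Agent.S1461.main q hpl P
  have hK₀le : K₀ ≤ Cfsg.pPrimeCore q ↥H := Cfsg.Agent.Lib.Lead.PiCore.le_pPrimeCore hK₀n hK₀c
  haveI hchar : (Cfsg.pPrimeCore q ↥H).Characteristic :=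
    Cfsg.Agent.Lib.Lead.PiCore.pPrimeCore_characteristic hq
  haveI hnormal : (Cfsg.pPrimeCore q ↥H).Normal := inferInstance
  refine ⟨Q, D, hM, hK, hnn, hq, hQH, hD.1, hQp, hQsyl, hKsP, hKP, hKD, hDq, hD, hprod,
    (Cfsg.pPrimeCore q ↥H).map H.subtype, Subgroup.map_subtype_le _, ?_, ?_, ?_⟩
  · rw [Subgroup.card_map_of_injective H.subtype_injective]
    exact Cfsg.Agent.Lib.Lead.PiCore.pPrimeCore_coprime hq
  · apply le_normalizer_of_conj_mem
    intro g hg t ht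
    exact Cfsg.Agent.Lib.Helper8.BGTen.char_map_conj_mem (Cfsg.pPrimeCore q ↥H) hg ht
  · intro h hh
    have h5 : (⟨h, hh⟩ : ↥H) ∈ Cfsg.pPrimeCore q ↥H ⊔
        Subgroup.normalizer ((P : Subgroup ↥H) : Set ↥H) := by
      have : (⟨h, hh⟩ : ↥H) ∈ K₀ ⊔ Subgroup.normalizer ((P : Subgroup ↥H) : Set ↥H) := by
        rw [hK₀]; exact Subgroup.mem_top _
      exact (sup_le_sup_right hK₀le _) this
    rw [Subgroup.mem_sup_of_normal_left] at h5
    obtain ⟨d, hd, n, hn, hdn⟩ := h5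
    refine ⟨(d : G), ⟨d, hd, rfl⟩, (n : G), ?_, ?_⟩
    · exact (Subgroup.le_normalizer_map H.subtype) ⟨n, hn, rfl⟩
    · have := congrArg Subtype.val hdn
      simpa using this.symm

namespace NData

variable {M K Q D : Subgroup G}

theorem K_ne_bot (hG : Cfsg.IsMinSimpleOddOrder G) (h : NData M K Q D) : K ≠ ⊥ :=
  hall_ne_bot hG h.coatom h.hall h.nn

theorem fix_eq (hG : Cfsg.IsMinSimpleOddOrder G) (h : NData M K Q D) {k : G} (hk : k ∈ K)
    (hk1 : k ≠ 1) : Cfsg.sigmaCore M ⊓ Subgroup.centralizer ({k} : Set G) = Kst M K :=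
  (Cfsg.Agent.S1430.result hG M h.coatom K h.hall (h.K_ne_bot hG)).1 k hk hk1

theorem fix_zpowers (hG : Cfsg.IsMinSimpleOddOrder G) (h : NData M K Q D) {k : G} (hk : k ∈ K)
    (hk1 : k ≠ 1) :
    Cfsg.sigmaCore M ⊓ Subgroup.centralizer ((Subgroup.zpowers k : Subgroup G) : Set G) =
      Kst M K := by
  rw [Cfsg.Agent.Lib.Helper8.BGTen.centralizer_zpowers_eq]
  exact h.fix_eq hG hk hk1

theorem Kst_le_commutator (hG : Cfsg.IsMinSimpleOddOrder G) (h : NData M K Q D) :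
    Kst M K ≤ ⁅Cfsg.sigmaCore M, Cfsg.sigmaCore M⁆ :=
  (Cfsg.Agent.S1426.result hG M h.coatom K (isComplIn_K hG h.coatom h.hall h.nn)).1

theorem exists_prime_order (hG : Cfsg.IsMinSimpleOddOrder G) (h : NData M K Q D) :
    ∃ x ∈ K, (orderOf x).Prime ∧ x ≠ 1 := by
  have hK1 := h.K_ne_bot hG
  have hc : Nat.card ↥K ≠ 1 := fun h0 => hK1 (Subgroup.card_eq_one.mp h0)
  obtain ⟨r, hr, hrd⟩ := Nat.exists_prime_and_dvd hc
  haveI : Fact r.Prime := ⟨hr⟩
  obtain ⟨x, hx⟩ := exists_prime_orderOf_dvd_card' (G := ↥K) r hrd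
  refine ⟨(x : G), x.2, ?_, ?_⟩
  · rw [Subgroup.orderOf_coe, hx]; exact hr
  · intro h1
    have : orderOf (x : G) = r := by rw [Subgroup.orderOf_coe, hx]
    rw [h1, orderOf_one] at this
    exact hr.one_lt.ne this

theorem Kst_inf_D (h : NData M K Q D) : Kst M K ⊓ D = ⊥ :=
  (Subgroup.disjoint_of_coprime_natCard h.Dq.symm).eq_bot

/-- (1): `D` is nilpotent (Thompson) -/
theorem D_nilpotent (hG : Cfsg.IsMinSimpleOddOrder G) (h : NData M K Q D) :
    Group.IsNilpotent ↥D := by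
  obtain ⟨x, hxK, hxr, hx1⟩ := h.exists_prime_order hG
  apply Cfsg.Agent.H2.BG11.nilpotent_of_fpf_prime hxr rfl (h.KD hxK)
  intro d hd hfix
  have h1 : d ∈ Kst M K := by
    rw [← h.fix_eq hG hxK hx1]
    refine Subgroup.mem_inf.mpr ⟨h.DH hd, ?_⟩
    rw [Subgroup.mem_centralizer_singleton_iff]
    exact (mul_inv_eq_iff_eq_mul.mp hfix).symm
  have h2 : d ∈ Kst M K ⊓ D := ⟨h1, hd⟩
  rw [h.Kst_inf_D] at h2
  exact Subgroup.mem_bot.mp h2

theorem K_le_normalizer_H (h : NData M K Q D) :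
    K ≤ Subgroup.normalizer ((Cfsg.sigmaCore M : Subgroup G) : Set G) :=
  h.hall.1.trans (Cfsg.Agent.H2.BG11.le_normalizer_sigmaCore M)

/-- (4): `Q ⊴ M` -/
theorem Q_normal (hG : Cfsg.IsMinSimpleOddOrder G) (h : NData M K Q D) :
    M ≤ Subgroup.normalizer (Q : Set G) := by
  obtain ⟨D₀, hD₀H, hD₀q, hD₀n, hfr⟩ := h.frat
  obtain ⟨x, hxK, hxr, hx1⟩ := h.exists_prime_order hG
  set X : Subgroup G := Subgroup.zpowers x with hX
  have hXK : X ≤ K := by rw [hX, Subgroup.zpowers_le]; exact hxK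
  set H := Cfsg.sigmaCore M with hH
  set q := Nat.card ↥(Kst M K) with hq
  have hsolvH : Group.IsSolvable ↥H := solvable_sigmaCore hG h.coatom
  have hHM : H ≤ M := Cfsg.Agent.H2.BG11.sigmaCore_le M
  have hD₀D : D₀ ≤ D := by
    have hpi : Cfsg.Agent.H1.PiNum {p | p ≠ q} (Nat.card ↥D₀) := by
      intro p hp hpd hpq
      have hpq' : p = q := hpq
      rw [hpq'] at hpd
      exact (Nat.Prime.coprime_iff_not_dvd h.prime).mp hD₀q.symm hpd
    obtain ⟨g, hg, hle⟩ :=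
      Cfsg.Agent.H1.isPiHallOf_dominance {p | p ≠ q} D H D₀ hsolvH h.Dhall hD₀H hpi
    intro y hy
    have hgn : g ∈ Subgroup.normalizer (D₀ : Set G) := hD₀n (Subgroup.le_normalizer hg)
    have hy' : g * y * g⁻¹ ∈ D₀ := (Subgroup.mem_normalizer_iff.mp hgn y).mp hy
    obtain ⟨z, hz, hzy⟩ := hle hy'
    have e : y = z := by
      have : g * z * g⁻¹ = g * y * g⁻¹ := hzy
      have h2 := mul_right_cancel this
      exact (mul_left_cancel h2).symm
    rw [e]; exact hz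
  have hHD₀ : H ≤ Subgroup.normalizer (D₀ : Set G) := Subgroup.le_normalizer.trans hD₀n
  have hP : H ≤ Subgroup.normalizer ((D₀ ⊔ Q : Subgroup G) : Set G) := by
    intro g hg
    obtain ⟨d, hd, n, hn, rfl⟩ := hfr g hg
    have hnH : n ∈ H := by
      have := H.mul_mem (H.inv_mem (hD₀H hd)) hg
      simpa using this
    exact Subgroup.mul_mem _ (Subgroup.le_normalizer (le_sup_left (α := Subgroup G) hd))
      (mem_normalizer_sup (hHD₀ hnH) hn)
  have hXr : Nat.card ↥X = orderOf x := Nat.card_zpowers x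
  have hHXM : H ⊔ X ≤ M := sup_le hHM (hXK.trans h.hall.1)
  have hrH : (orderOf x).Coprime (Nat.card ↥H) :=
    (coprime_hall_sigmaCore hG h.coatom h.hall).coprime_dvd_left
      (hXr ▸ Subgroup.card_dvd_of_le hXK)
  have hcent : Q ≤ Subgroup.centralizer (D₀ : Set G) :=
    sylow_centralizes H Q D D₀ X (Kst M K) q (orderOf x) h.prime hxr hXr (hXK.trans h.KQ)
      (hXK.trans h.KD) ((hXK.trans h.K_le_normalizer_H).trans hD₀n) h.QH h.DH hD₀D h.Qp h.Dq
      h.prod hHD₀ hP (h.fix_zpowers hG hxK hx1) rfl h.KsQ (h.Kst_le_commutator hG)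
      (solvable_of_le hHXM (hG.2.2.2 M h.coatom.1))
      (Cfsg.Agent.Lib.Helper8.BGTen.odd_card_subgroup hG _) hrH
  have h1 := normalizer_sup_le_normalizer h.prime h.Qp hD₀q hcent
  refine le_trans ?_ h1
  rw [← sup_eq hG h.coatom h.hall h.nn]
  exact sup_le hP (le_norm_sup (h.K_le_normalizer_H.trans hD₀n) h.KQ)

end NData

end Cfsg.Agent.Lib.Helper5.BG15
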