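import Mathlib
import Cfsg.Agent.Lib.Helper5.BG15C

/-!
Bender–Glauberman §15 (blueprint Part 20), helper5: the case `M_σ` not nilpotent, steps (2), (3),
(5): `q ∈ β(M)`, `Q ≤ M_F`, `|K|` prime and the structure of `Q`; assembly of S1437.
-/

set_option autoImplicit false
set_option linter.unusedSectionVars false
set_option linter.unusedVariables false
set_option linter.style.haveILetI false
set_option maxHeartbeats 1000000
open Cfsg
open scoped commutatorElement Pointwise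

namespace Cfsg.Agent.Lib.Helper5.BG15

open Cfsg.Agent.Lib.Helper5.BG14Z Cfsg.Agent.Lib.Helper8.BGTen

universe u

variable {G : Type u} [Group G] [Finite G]

/-- two nilpotent subgroups commuting elementwise generate a nilpotent subgroup -/
theorem nilpotent_sup_of_le_centralizer {A B : Subgroup G} (hA : Group.IsNilpotent ↥A)
    (hB : Group.IsNilpotent ↥B) (h : A ≤ Subgroup.centralizer (B : Set G)) :
    Group.IsNilpotent ↥(A ⊔ B : Subgroup G) := by
  have comm : ∀ (a : ↥A) (b : ↥B), Commute (A.subtype a) (B.subtype b) := by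
    intro a b
    exact ((Subgroup.mem_centralizer_iff.mp (h a.2)) b b.2).symm
  have hr : (MonoidHom.noncommCoprod A.subtype B.subtype comm).range = A ⊔ B := by
    rw [MonoidHom.noncommCoprod_range, Subgroup.range_subtype, Subgroup.range_subtype]
  rw [← hr]
  exact Group.nilpotent_of_surjective (MonoidHom.noncommCoprod A.subtype B.subtype comm).rangeRestrict
    (MonoidHom.rangeRestrict_surjective _)

/-- the order of a product of complements -/
theorem card_of_compl {A B M : Subgroup G} (h : Cfsg.IsComplIn A B M) :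
    Nat.card ↥M = Nat.card ↥A * Nat.card ↥B := by
  obtain ⟨hAM, hBM, hdisj, hprod⟩ := h
  have hcompl : (A.subgroupOf M).IsComplement' (B.subgroupOf M) := by
    apply Subgroup.isComplement'_of_disjoint_and_mul_eq_univ
    · rw [disjoint_iff, eq_bot_iff]
      rintro x ⟨hx1, hx2⟩
      have h1 : (x : G) ∈ A ⊓ B := ⟨Subgroup.mem_subgroupOf.mp hx1, Subgroup.mem_subgroupOf.mp hx2⟩
      rw [hdisj] at h1
      exact Subgroup.mem_bot.mpr (Subtype.ext (Subgroup.mem_bot.mp h1))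
    · rw [Set.eq_univ_iff_forall]
      intro m
      obtain ⟨a, ha, b, hb, hab⟩ := hprod m m.2
      refine Set.mem_mul.mpr ⟨⟨a, hAM ha⟩, Subgroup.mem_subgroupOf.mpr ha, ⟨b, hBM hb⟩,
        Subgroup.mem_subgroupOf.mpr hb, ?_⟩
      exact Subtype.ext hab.symm
  have := hcompl.card_mul_card
  rw [Cfsg.Agent.Lib.Helper7.card_subgroupOf_of_le hAM,
    Cfsg.Agent.Lib.Helper7.card_subgroupOf_of_le hBM] at this
  exact this.symm

theorem inf_centralizer_cj {Q D : Subgroup G} {g : G}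
    (hgQ : g ∈ Subgroup.normalizer (Q : Set G)) :
    Q ⊓ Subgroup.centralizer ((cj g D : Subgroup G) : Set G) =
      cj g (Q ⊓ Subgroup.centralizer (D : Set G)) := by
  show _ = (Q ⊓ Subgroup.centralizer (D : Set G)).map (MulAut.conj g).toMonoidHom
  rw [Subgroup.map_inf _ _ _ (MulAut.conj g).injective]
  have h1 : Q.map (MulAut.conj g).toMonoidHom = Q := cj_eq_of_mem_normalizer hgQ
  have h2 := cj_centralizer g D
  rw [h1]
  exact congrArg (Q ⊓ ·) h2.symm

namespace NData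

variable {M K Q D : Subgroup G}

theorem sup_QD (h : NData M K Q D) : Q ⊔ D = Cfsg.sigmaCore M := by
  apply le_antisymm (sup_le h.QH h.DH)
  intro x hx
  obtain ⟨a, ha, d, hd, rfl⟩ := h.prod x hx
  exact Subgroup.mul_mem _ (Subgroup.mem_sup_left ha) (Subgroup.mem_sup_right hd)

/-- `Q` does not centralize `D` -/
theorem not_centralizes (hG : Cfsg.IsMinSimpleOddOrder G) (h : NData M K Q D) :
    ¬ Q ≤ Subgroup.centralizer (D : Set G) := by
  intro hc
  apply h.nn
  rw [← h.sup_QD]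
  haveI : Fact (Nat.card ↥(Kst M K)).Prime := ⟨h.prime⟩
  exact nilpotent_sup_of_le_centralizer h.Qp.isNilpotent (h.D_nilpotent hG) hc

theorem D_ne_bot (hG : Cfsg.IsMinSimpleOddOrder G) (h : NData M K Q D) : D ≠ ⊥ := by
  intro hD
  apply h.not_centralizes hG
  rw [hD]
  intro x _
  rw [Subgroup.mem_centralizer_iff]
  intro y hy
  rw [SetLike.mem_coe, Subgroup.mem_bot] at hy
  rw [hy, one_mul, mul_one]

/-- (2): `D` is not normal in `M_σ` -/
theorem D_not_normal (hG : Cfsg.IsMinSimpleOddOrder G) (h : NData M K Q D) :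
    ¬ Cfsg.sigmaCore M ≤ Subgroup.normalizer (D : Set G) := by
  intro hn
  apply h.not_centralizes hG
  obtain ⟨x, hxK, hxr, hx1⟩ := h.exists_prime_order hG
  set X : Subgroup G := Subgroup.zpowers x with hX
  have hXK : X ≤ K := by rw [hX, Subgroup.zpowers_le]; exact hxK
  have hHM : Cfsg.sigmaCore M ≤ M := Cfsg.Agent.H2.BG11.sigmaCore_le M
  have hXr : Nat.card ↥X = orderOf x := Nat.card_zpowers x
  have hHXM : Cfsg.sigmaCore M ⊔ X ≤ M := sup_le hHM (hXK.trans h.hall.1)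
  have hrH : (orderOf x).Coprime (Nat.card ↥(Cfsg.sigmaCore M)) :=
    (coprime_hall_sigmaCore hG h.coatom h.hall).coprime_dvd_left
      (hXr ▸ Subgroup.card_dvd_of_le hXK)
  have hP : Cfsg.sigmaCore M ≤ Subgroup.normalizer ((D ⊔ Q : Subgroup G) : Set G) := by
    rw [sup_comm, h.sup_QD]
    exact Subgroup.le_normalizer
  exact sylow_centralizes (Cfsg.sigmaCore M) Q D D X (Kst M K) _ (orderOf x) h.prime hxr hXr
    (hXK.trans h.KQ) (hXK.trans h.KD) (hXK.trans h.KD) h.QH h.DH le_rfl h.Qp h.Dq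
    h.prod hn hP (h.fix_zpowers hG hxK hx1) rfl h.KsQ (h.Kst_le_commutator hG)
    (solvable_of_le hHXM (hG.2.2.2 M h.coatom.1))
    (Cfsg.Agent.Lib.Helper8.BGTen.odd_card_subgroup hG _) hrH

theorem q_dvd_card_H (h : NData M K Q D) :
    Nat.card ↥(Kst M K) ∣ Nat.card ↥(Cfsg.sigmaCore M) :=
  Subgroup.card_dvd_of_le inf_le_left

/-- (3): `q ∈ β(M)` -/
theorem q_mem_beta (hG : Cfsg.IsMinSimpleOddOrder G) (h : NData M K Q D) :
    Nat.card ↥(Kst M K) ∈ Cfsg.beta M := by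
  by_contra hqβ
  set q := Nat.card ↥(Kst M K) with hq
  set H := Cfsg.sigmaCore M with hH
  haveI : Fact q.Prime := ⟨h.prime⟩
  have hqM : q ∣ Nat.card ↥M :=
    h.q_dvd_card_H.trans (Subgroup.card_dvd_of_le (Cfsg.Agent.H2.BG11.sigmaCore_le M))
  obtain ⟨P, N, hNn, hNP⟩ :=
    ((Cfsg.Agent.S1414.result hG M h.coatom).2.2.2.2 q h.prime hqM hqβ).2.1
  apply h.D_not_normal hG
  -- `N` is a Hall `q'`-subgroup of `H`
  have hcard : Nat.card ↥N * Nat.card ↥(P : Subgroup ↥H) = Nat.card ↥H := hNP.card_mul_card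
  obtain ⟨a, ha⟩ := IsPGroup.iff_card.mp P.isPGroup'
  have hNq : (Nat.card ↥N).Coprime q := by
    have h1 := P.card_coprime_index
    have h2 : Nat.card ↥(P : Subgroup ↥H) * (P : Subgroup ↥H).index = Nat.card ↥H :=
      Subgroup.card_mul_index _
    have h3 : (P : Subgroup ↥H).index = Nat.card ↥N := by
      have hpos : 0 < Nat.card ↥(P : Subgroup ↥H) := Nat.card_pos
      rw [← hcard, mul_comm] at h2
      exact Nat.eq_of_mul_eq_mul_right hpos h2
    rw [h3, ha] at h1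
    rcases Nat.eq_zero_or_pos a with h0 | h0
    · exfalso
      -- `q ∣ |H|` forces `a ≥ 1`
      have hf : 0 < (Nat.card ↥H).factorization q :=
        h.prime.factorization_pos_of_dvd Nat.card_pos.ne' h.q_dvd_card_H
      have h5 := P.card_eq_multiplicity
      rw [ha, h0, pow_zero] at h5
      exact (Nat.one_lt_pow hf.ne' h.prime.one_lt).ne h5
    · exact ((Nat.coprime_pow_left_iff h0 _ _).mp h1).symm
  set D' : Subgroup G := N.map H.subtype with hD'
  have hD'H : D' ≤ H := Subgroup.map_subtype_le _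
  have hD'c : Nat.card ↥D' = Nat.card ↥N := Subgroup.card_map_of_injective H.subtype_injective
  have hD'n : H ≤ Subgroup.normalizer (D' : Set G) := by
    apply le_normalizer_of_conj_mem
    intro g hg t ht
    obtain ⟨t', ht', rfl⟩ := ht
    exact ⟨⟨g, hg⟩ * t' * ⟨g, hg⟩⁻¹, hNn.conj_mem t' ht' ⟨g, hg⟩, rfl⟩
  have hD'hall : Cfsg.IsPiHallOf {p | p ≠ q} D' H := by
    refine ⟨hD'H, ?_, ?_⟩
    · intro p hp hpd hpq
      have hpq' : p = q := hpq
      rw [hD'c, hpq'] at hpd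
      exact (Nat.Prime.coprime_iff_not_dvd h.prime).mp hNq.symm hpd
    · intro p hp hpq hpd
      have h1 := Cfsg.Agent.H1.card_eq_relIndex_mul_card hD'H
      rw [hD'c, ← hcard, mul_comm] at h1
      have hpos : 0 < Nat.card ↥N := Nat.card_pos
      have h2 : Nat.card ↥(P : Subgroup ↥H) = D'.relIndex H := Nat.eq_of_mul_eq_mul_right hpos h1
      rw [← h2, ha] at hpd
      exact hpq ((Nat.prime_dvd_prime_iff_eq hp h.prime).mp (hp.dvd_of_dvd_pow hpd))
  obtain ⟨g, hg, hgD⟩ := Cfsg.Agent.H1.isPiHallOf_conj {p | p ≠ q} D' D H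
    (solvable_sigmaCore hG h.coatom) hD'hall h.Dhall
  have hDD' : D = D' := by
    rw [hgD]
    exact cj_eq_of_mem_normalizer (hD'n hg)
  rw [hDD']
  exact hD'n

/-- `q ∤ |K|` -/
theorem q_coprime_K (hG : Cfsg.IsMinSimpleOddOrder G) (h : NData M K Q D) :
    (Nat.card ↥K).Coprime (Nat.card ↥(Kst M K)) :=
  (coprime_hall_sigmaCore hG h.coatom h.hall).coprime_dvd_right h.q_dvd_card_H

/-- `Q ≤ M_F` -/
theorem Q_le_fittingHallOf (hG : Cfsg.IsMinSimpleOddOrder G) (h : NData M K Q D) :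
    Q ≤ Cfsg.fittingHallOf M := by
  haveI : Fact (Nat.card ↥(Kst M K)).Prime := ⟨h.prime⟩
  have hQM : Q ≤ M := h.QH.trans (Cfsg.Agent.H2.BG11.sigmaCore_le M)
  have hn := h.Q_normal hG
  haveI : (Q.subgroupOf M).Normal := (Subgroup.normal_subgroupOf_iff_le_normalizer hQM).mpr hn
  have hp : IsPGroup (Nat.card ↥(Kst M K)) ↥(Q.subgroupOf M) := h.Qp.comap_subtype
  have hmem : Q.subgroupOf M ≤ Cfsg.fittingHall ↥M := by
    apply le_sSup
    refine ⟨inferInstance, hp.isNilpotent, ?_⟩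
    obtain ⟨a, ha⟩ := IsPGroup.iff_card.mp hp
    rw [ha]
    apply Nat.Coprime.pow_left
    rw [Nat.Prime.coprime_iff_not_dvd h.prime]
    intro hd
    have h1 : (Q.subgroupOf M).index = Q.relIndex M := rfl
    rw [h1] at hd
    -- `Q.relIndex M = |K| · Q.relIndex H`
    have hK1 := h.K_ne_bot hG
    have hc := Cfsg.Agent.Lib.Helper4.BG14.card_of_not_nilpotent hG h.coatom h.hall hK1 h.nn
    have h2 := Cfsg.Agent.H1.card_eq_relIndex_mul_card hQM
    have h3 := Cfsg.Agent.H1.card_eq_relIndex_mul_card h.QH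
    rw [hc, h3, ← mul_assoc] at h2
    have hpos : 0 < Nat.card ↥Q := Nat.card_pos
    have h4 : Nat.card ↥K * Q.relIndex (Cfsg.sigmaCore M) = Q.relIndex M :=
      Nat.eq_of_mul_eq_mul_right hpos h2
    rw [← h4] at hd
    rcases (Nat.Prime.dvd_mul h.prime).mp hd with h5 | h5
    · exact (Nat.Prime.coprime_iff_not_dvd h.prime).mp (h.q_coprime_K hG).symm h5
    · exact h.Qsyl h5
  intro x hx
  exact ⟨⟨x, hQM hx⟩, hmem (Subgroup.mem_subgroupOf.mpr hx), rfl⟩

/-- the Frobenius data of step (5) -/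
theorem frobData (hG : Cfsg.IsMinSimpleOddOrder G) (h : NData M K Q D) :
    FrobData Q D K (Nat.card ↥(Kst M K)) := by
  haveI : Fact (Nat.card ↥(Kst M K)).Prime := ⟨h.prime⟩
  have hHM : Cfsg.sigmaCore M ≤ M := Cfsg.Agent.H2.BG11.sigmaCore_le M
  have hDK : D ⊓ K = ⊥ := by
    rw [eq_bot_iff, ← K_inf_sigmaCore hG h.coatom h.hall]
    intro x hx
    exact ⟨hx.2, h.DH hx.1⟩
  have hQK : Q ⊓ Subgroup.centralizer (K : Set G) = Kst M K := by
    apply le_antisymm
    · intro x hx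
      exact ⟨h.QH hx.1, hx.2⟩
    · exact le_inf h.KsQ inf_le_right
  refine ⟨h.prime, h.D_ne_bot hG, h.K_ne_bot hG, hDK, h.KD, ?_, h.Qp,
    (h.DH.trans hHM).trans (h.Q_normal hG), h.KQ, ?_, ?_, ?_, h.not_centralizes hG⟩
  · intro k hk hk1
    rw [eq_bot_iff, ← h.Kst_inf_D]
    intro x hx
    refine ⟨?_, hx.1⟩
    rw [← h.fix_eq hG hk hk1]
    exact ⟨h.DH hx.1, hx.2⟩
  · have h1 := Cfsg.Agent.H1.card_sup_mul_card_inf K D h.KD
    rw [inf_comm, hDK, Subgroup.card_bot, mul_one, sup_comm] at h1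
    rw [h1]
    obtain ⟨a, ha⟩ := IsPGroup.iff_card.mp h.Qp
    rw [ha]
    apply Nat.Coprime.pow_right
    exact Nat.Coprime.mul_left (h.q_coprime_K hG) h.Dq
  · rw [hQK]
  · intro k hk hk1
    rw [hQK]
    apply le_antisymm
    · intro x hx
      rw [← h.fix_eq hG hk hk1]
      exact ⟨h.QH hx.1, hx.2⟩
    · intro x hx
      refine ⟨h.KsQ hx, ?_⟩
      have : x ∈ Cfsg.sigmaCore M ⊓ Subgroup.centralizer ({k} : Set G) := by
        rw [h.fix_eq hG hk hk1]; exact hx
      exact this.2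

/-- `C_Q(D) ⊴ M` -/
theorem Q₀_normal (hG : Cfsg.IsMinSimpleOddOrder G) (h : NData M K Q D) :
    M ≤ Subgroup.normalizer ((Q ⊓ Subgroup.centralizer (D : Set G) : Subgroup G) : Set G) := by
  have hF := h.frobData hG
  have hHM : Cfsg.sigmaCore M ≤ M := Cfsg.Agent.H2.BG11.sigmaCore_le M
  have hDn : D ≤ Subgroup.normalizer ((Q ⊓ Subgroup.centralizer (D : Set G) : Subgroup G) : Set G) :=
    le_norm_inf hF.hDQ (le_norm_centralizer Subgroup.le_normalizer)
  have hKn : K ≤ Subgroup.normalizer ((Q ⊓ Subgroup.centralizer (D : Set G) : Subgroup G) : Set G) :=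
    le_norm_inf h.KQ (le_norm_centralizer h.KD)
  rw [← sup_eq hG h.coatom h.hall h.nn, ← h.sup_QD]
  exact sup_le (sup_le hF.le_normalizer_Q₀ hDn) hKn

/-- every complement of `Q` in `M_σ` is conjugate to `D` -/
theorem exists_conj_of_compl (hG : Cfsg.IsMinSimpleOddOrder G) (h : NData M K Q D)
    {D' : Subgroup G} (hD' : Cfsg.IsComplIn Q D' (Cfsg.sigmaCore M)) :
    ∃ g ∈ Cfsg.sigmaCore M, D' = cj g D := by
  haveI : Fact (Nat.card ↥(Kst M K)).Prime := ⟨h.prime⟩
  set q := Nat.card ↥(Kst M K) with hq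
  set H := Cfsg.sigmaCore M with hH
  have hc := card_of_compl hD'
  have h1 := Cfsg.Agent.H1.card_eq_relIndex_mul_card h.QH
  have h2 := Cfsg.Agent.H1.card_eq_relIndex_mul_card hD'.2.1
  have hposQ : 0 < Nat.card ↥Q := Nat.card_pos
  have hposD : 0 < Nat.card ↥D' := Nat.card_pos
  have e1 : Q.relIndex H = Nat.card ↥D' := by
    rw [hc, mul_comm] at h1
    exact (Nat.eq_of_mul_eq_mul_right hposQ h1).symm
  have e2 : D'.relIndex H = Nat.card ↥Q := by
    rw [hc] at h2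
    exact (Nat.eq_of_mul_eq_mul_right hposD h2).symm
  have hhall : Cfsg.IsPiHallOf {p | p ≠ q} D' H := by
    refine ⟨hD'.2.1, ?_, ?_⟩
    · intro p hp hpd hpq
      have hpq' : p = q := hpq
      rw [hpq', ← e1] at hpd
      exact h.Qsyl hpd
    · intro p hp hpq hpd
      obtain ⟨a, ha⟩ := IsPGroup.iff_card.mp h.Qp
      rw [e2, ha] at hpd
      exact hpq ((Nat.prime_dvd_prime_iff_eq hp h.prime).mp (hp.dvd_of_dvd_pow hpd))
  exact Cfsg.Agent.H1.isPiHallOf_conj {p | p ≠ q} D D' H (solvable_sigmaCore hG h.coatom)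
    h.Dhall hhall

end NData

/-- **S1437** -/
theorem s1437 (hG : Cfsg.IsMinSimpleOddOrder G) (M : Subgroup G) (hM : IsCoatom M)
    (K U : Subgroup G) (hKU : Cfsg.IsSigmaDecomposition M K U)
    (hne : Cfsg.fittingHallOf M ≠ Cfsg.sigmaCore M) :
    U = ⊥ ∧ Cfsg.sigmaCore M = ⁅M, M⁆ ∧ (Nat.card K).Prime ∧ (Nat.card ↥(Cfsg.sigmaCore M ⊓ Subgroup.centralizer (K : Set G))).Prime ∧
      Nat.card ↥(Cfsg.sigmaCore M ⊓ Subgroup.centralizer (K : Set G)) ∣ Nat.card (Cfsg.fittingHallOf M) ∧ Nat.card ↥(Cfsg.sigmaCore M ⊓ Subgroup.centralizer (K : Set G)) ∈ Cfsg.beta M ∧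
      ∃ Q : Subgroup G, Q ≤ Cfsg.fittingHallOf M ∧ M ≤ Subgroup.normalizer (Q : Set G) ∧ IsPGroup (Nat.card ↥(Cfsg.sigmaCore M ⊓ Subgroup.centralizer (K : Set G))) Q ∧
        ¬ Nat.card ↥(Cfsg.sigmaCore M ⊓ Subgroup.centralizer (K : Set G)) ∣ Q.relIndex (Cfsg.sigmaCore M) ∧
        ∀ D : Subgroup G, Cfsg.IsComplIn Q D (Cfsg.sigmaCore M) →
          Group.IsNilpotent D ∧ M ≤ Subgroup.normalizer ((Q ⊓ Subgroup.centralizer (D : Set G) : Subgroup G) : Set G) ∧
          Q ⊓ Subgroup.centralizer (D : Set G) < Q ∧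
          Nat.card Q = Nat.card ↥(Q ⊓ Subgroup.centralizer (D : Set G)) * Nat.card ↥(Cfsg.sigmaCore M ⊓ Subgroup.centralizer (K : Set G)) ^ Nat.card K ∧
          (∀ a ∈ Q, ∀ b ∈ Q, a ^ Nat.card ↥(Cfsg.sigmaCore M ⊓ Subgroup.centralizer (K : Set G)) ∈ Q ⊓ Subgroup.centralizer (D : Set G) ∧
            a * b * a⁻¹ * b⁻¹ ∈ Q ⊓ Subgroup.centralizer (D : Set G)) ∧
          ∀ N : Subgroup G, Q ⊓ Subgroup.centralizer (D : Set G) < N → N < Q → ¬ M ≤ Subgroup.normalizer (N : Set G) := by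
  have hnn := not_nilpotent hG hM hne
  obtain ⟨Q, D, h⟩ := exists_ndata hG hM hKU.hall hnn
  have hF := h.frobData hG
  have hHM : Cfsg.sigmaCore M ≤ M := Cfsg.Agent.H2.BG11.sigmaCore_le M
  refine ⟨U_eq_bot hG hM hKU hnn, (commutator_eq_sigmaCore hG hM hKU hnn).symm, hF.card_K_prime,
    h.prime, Subgroup.card_dvd_of_le (h.KsQ.trans (h.Q_le_fittingHallOf hG)), h.q_mem_beta hG,
    Q, h.Q_le_fittingHallOf hG, h.Q_normal hG, h.Qp, h.Qsyl, ?_⟩
  intro D' hD'
  obtain ⟨g, hg, hgD⟩ := h.exists_conj_of_compl hG hD'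
  have hgM : g ∈ M := hHM hg
  have e : Q ⊓ Subgroup.centralizer (D' : Set G) = Q ⊓ Subgroup.centralizer (D : Set G) := by
    rw [hgD, inf_centralizer_cj (h.Q_normal hG hgM)]
    exact cj_eq_of_mem_normalizer (h.Q₀_normal hG hgM)
  rw [e]
  refine ⟨?_, h.Q₀_normal hG, hF.Q₀_lt, hF.card_Q, fun a ha b hb => hF.pow_comm_mem ha hb,
    fun N h1 h2 hMN => hF.no_between h1 h2 ((h.DH.trans hHM).trans hMN) (h.hall.1.trans hMN)⟩
  rw [hgD]
  exact Cfsg.Agent.Lib.Helper8.BG15.nilpotent_map _ D (h.D_nilpotent hG)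

end Cfsg.Agent.Lib.Helper5.BG15
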