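import Mathlib
import Cfsg.Agent.Lib.Helper5.BG14Z1
import Cfsg.Agent.S1361

/-!
# B&G Section 14/15 (blueprint Part 16), helper5: `A(M) ∖ M_σ` is a TI-subset (S1362)

`M = K U M_σ` a standard factorisation.  For `a ∈ A(M) ∖ M_σ` the `σ(M)'`-part `a'` of `a` is `≠ 1`,
lies in `U M_σ`, centralizes a non-identity element of `M_σ` and is conjugate in `U M_σ` to an
element of the Hall `σ(M)'`-subgroup `U`; by S1361 `M` is the only maximal subgroup containing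
`C_G(a')`.  So if `a, g a g⁻¹ ∈ A(M) ∖ M_σ` then `g M g⁻¹ = M`, `g ∈ M`, and `M` normalizes the set.
-/

set_option autoImplicit false
set_option linter.unusedSectionVars false
set_option linter.unusedVariables false
set_option linter.style.haveILetI false
set_option maxHeartbeats 1000000
open Cfsg
open scoped commutatorElement Pointwise

namespace Cfsg.Agent.Lib.Helper5.BG14Z

open Cfsg.Agent.Lib.Helper8.BGTen Cfsg.Agent.Lib.Helper4.BGTrans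

universe u

variable {G : Type u} [Group G] [Finite G]

section

variable {M K U : Subgroup G}

theorem U_inf_sigmaCore (hKU : Cfsg.IsSigmaDecomposition M K U) : U ⊓ Cfsg.sigmaCore M = ⊥ := by
  rw [eq_bot_iff, ← hKU.compl.2.2.1]
  exact inf_le_inf_left _ le_sup_right

/-- `U` is a `σ(M)'`-group -/
theorem not_sigma_of_dvd_card_U (hG : Cfsg.IsMinSimpleOddOrder G) (hM : IsCoatom M)
    (hKU : Cfsg.IsSigmaDecomposition M K U) {q : ℕ} (hq : q.Prime) (hd : q ∣ Nat.card ↥U) :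
    q ∉ Cfsg.sigma M := by
  intro hqσ
  haveI : Fact q.Prime := ⟨hq⟩
  obtain ⟨x, hx⟩ := exists_prime_orderOf_dvd_card' (G := ↥U) q hd
  have hxo : orderOf (x : G) = q := by rw [Subgroup.orderOf_coe, hx]
  have hT : IsPGroup q ↥(Subgroup.zpowers (x : G)) :=
    IsPGroup.of_card (n := 1) (by rw [Nat.card_zpowers, hxo, pow_one])
  have hTU : Subgroup.zpowers (x : G) ≤ U := Subgroup.zpowers_le.mpr x.2
  have hTσ := Cfsg.Agent.H2.BG11.le_sigmaCore_of_pgroup hG hM hqσ (hTU.trans hKU.compl.1) hT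
  have h1 : (x : G) ∈ U ⊓ Cfsg.sigmaCore M := ⟨x.2, hTσ (Subgroup.mem_zpowers _)⟩
  rw [U_inf_sigmaCore hKU, Subgroup.mem_bot] at h1
  rw [h1, orderOf_one] at hxo
  exact hq.one_lt.ne hxo

/-- `U` is a Hall `σ(M)'`-subgroup of `U M_σ` -/
theorem isPiHallOf_U_N (hG : Cfsg.IsMinSimpleOddOrder G) (hM : IsCoatom M)
    (hKU : Cfsg.IsSigmaDecomposition M K U) :
    Cfsg.IsPiHallOf (Cfsg.sigma M)ᶜ U (U ⊔ Cfsg.sigmaCore M) := by
  refine ⟨le_sup_left, fun q hq hd => not_sigma_of_dvd_card_U hG hM hKU hq hd, ?_⟩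
  intro q hq hqσ hd
  have h1 := Cfsg.Agent.H1.card_sup_mul_card_inf U (Cfsg.sigmaCore M)
    (hKU.compl.1.trans (Cfsg.Agent.H2.BG11.le_normalizer_sigmaCore M))
  rw [U_inf_sigmaCore hKU, Subgroup.card_bot, mul_one] at h1
  have h2 := Cfsg.Agent.H1.card_eq_relIndex_mul_card (le_sup_left : U ≤ U ⊔ Cfsg.sigmaCore M)
  have h3 : U.relIndex (U ⊔ Cfsg.sigmaCore M) = Nat.card ↥(Cfsg.sigmaCore M) := by
    have hpos : 0 < Nat.card ↥U := Nat.card_pos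
    rw [h1, mul_comm (Nat.card ↥U)] at h2
    exact (Nat.eq_of_mul_eq_mul_right hpos h2).symm
  rw [h3] at hd
  exact hqσ (Cfsg.Agent.H2.BG11.mem_sigma_of_dvd_sigmaCore hG hM hq hd)

/-- `x ^ |M : M_σ| ∈ M_σ` for `x ∈ M` -/
theorem pow_relIndex_mem_sigmaCore {x : G} (hx : x ∈ M) :
    x ^ (Cfsg.sigmaCore M).relIndex M ∈ Cfsg.sigmaCore M := by
  haveI : ((Cfsg.sigmaCore M).subgroupOf M).Normal :=
    (Subgroup.normal_subgroupOf_iff_le_normalizer (Cfsg.Agent.H2.BG11.sigmaCore_le M)).mpr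
      (Cfsg.Agent.H2.BG11.le_normalizer_sigmaCore M)
  have h := Subgroup.pow_index_mem ((Cfsg.sigmaCore M).subgroupOf M) (⟨x, hx⟩ : ↥M)
  rw [Subgroup.mem_subgroupOf, Subgroup.coe_pow] at h
  exact h

/-- the exponent giving the `σ(M)'`-part of an element of `M` -/
noncomputable def sigmaExp (M : Subgroup G) : ℤ :=
  (Nat.card ↥(Cfsg.sigmaCore M) : ℤ) *
    Nat.gcdA (Nat.card ↥(Cfsg.sigmaCore M)) ((Cfsg.sigmaCore M).relIndex M)

theorem mem_sigmaHat_conj {a m : G} (hm : m ∈ M) (ha : a ∈ Cfsg.sigmaHat M) :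
    m * a * m⁻¹ ∈ Cfsg.sigmaHat M := by
  obtain ⟨haM, y, hy, hy1, hay⟩ := ha
  refine ⟨M.mul_mem (M.mul_mem hm haM) (M.inv_mem hm), m * y * m⁻¹, ?_, ?_, ?_⟩
  · exact (Subgroup.mem_normalizer_iff.mp
      (Cfsg.Agent.H2.BG11.le_normalizer_sigmaCore M hm) y).mp hy
  · intro h
    apply hy1
    have e : y = m⁻¹ * (m * y * m⁻¹) * m := by group
    rw [e, h]; group
  · have e1 : m * a * m⁻¹ * (m * y * m⁻¹) = m * (a * y) * m⁻¹ := by group
    have e2 : m * y * m⁻¹ * (m * a * m⁻¹) = m * (y * a) * m⁻¹ := by group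
    rw [e1, e2, hay]

/-- `M` normalizes the set `A(M) ∖ M_σ` -/
theorem conj_mem_A_diff (hKU : Cfsg.IsSigmaDecomposition M K U) {a m : G} (hm : m ∈ M)
    (ha : a ∈ Cfsg.sigmaA M U \ (Cfsg.sigmaCore M : Set G)) :
    m * a * m⁻¹ ∈ Cfsg.sigmaA M U \ (Cfsg.sigmaCore M : Set G) := by
  obtain ⟨⟨hhat, haN⟩, haσ⟩ := ha
  refine ⟨⟨mem_sigmaHat_conj hm hhat, ?_⟩, ?_⟩
  · exact (Subgroup.mem_normalizer_iff.mp (le_normalizer_N hKU hm) a).mp haN
  · intro h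
    apply haσ
    exact (Subgroup.mem_normalizer_iff.mp
      (Cfsg.Agent.H2.BG11.le_normalizer_sigmaCore M hm) a).mpr h

/-- the key step -/
theorem exists_conj_uniq (hG : Cfsg.IsMinSimpleOddOrder G) (hM : IsCoatom M)
    (hKU : Cfsg.IsSigmaDecomposition M K U) {a : G}
    (ha : a ∈ Cfsg.sigmaA M U \ (Cfsg.sigmaCore M : Set G)) :
    ∃ n ∈ M,
      Subgroup.centralizer ((Subgroup.zpowers (n⁻¹ * a ^ sigmaExp M * n) : Subgroup G) : Set G)
        ≤ M ∧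
      ∀ L : Subgroup G, IsCoatom L →
        Subgroup.centralizer ((Subgroup.zpowers (n⁻¹ * a ^ sigmaExp M * n) : Subgroup G) : Set G)
          ≤ L → L = M := by
  obtain ⟨⟨⟨haM, y, hy, hy1, hay⟩, haN⟩, haσ⟩ := ha
  have haN' : a ∈ U ⊔ Cfsg.sigmaCore M := haN
  have hhall := Cfsg.Agent.H2.BG11.sigmaCore_hallOf hG hM
  have hNM : U ⊔ Cfsg.sigmaCore M ≤ M := sup_le hKU.compl.1 (Cfsg.Agent.H2.BG11.sigmaCore_le M)
  have hNt : U ⊔ Cfsg.sigmaCore M ≠ ⊤ := fun h => hM.1 (top_le_iff.mp (h ▸ hNM))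
  have hsolv : Group.IsSolvable ↥(U ⊔ Cfsg.sigmaCore M : Subgroup G) := hG.2.2.2 _ hNt
  have hcard : Nat.card ↥M = (Cfsg.sigmaCore M).relIndex M * Nat.card ↥(Cfsg.sigmaCore M) :=
    Cfsg.Agent.H1.card_eq_relIndex_mul_card (Cfsg.Agent.H2.BG11.sigmaCore_le M)
  have hcop : (Nat.card ↥(Cfsg.sigmaCore M)).Coprime ((Cfsg.sigmaCore M).relIndex M) := by
    apply Nat.coprime_of_dvd
    intro q hq hd1 hd2
    exact hhall.2.2 q hq (Cfsg.Agent.H2.BG11.mem_sigma_of_dvd_sigmaCore hG hM hq hd1) hd2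
  have hbez := Nat.gcd_eq_gcd_ab (Nat.card ↥(Cfsg.sigmaCore M)) ((Cfsg.sigmaCore M).relIndex M)
  rw [hcop] at hbez
  obtain ⟨c, hc⟩ : ∃ c : ℕ, c = Nat.card ↥(Cfsg.sigmaCore M) := ⟨_, rfl⟩
  obtain ⟨d, hd⟩ : ∃ d : ℕ, d = (Cfsg.sigmaCore M).relIndex M := ⟨_, rfl⟩
  obtain ⟨u, hu⟩ : ∃ u : ℤ, u = Nat.gcdA (Nat.card ↥(Cfsg.sigmaCore M))
    ((Cfsg.sigmaCore M).relIndex M) := ⟨_, rfl⟩
  obtain ⟨v, hv⟩ : ∃ v : ℤ, v = Nat.gcdB (Nat.card ↥(Cfsg.sigmaCore M))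
    ((Cfsg.sigmaCore M).relIndex M) := ⟨_, rfl⟩
  have hexp : sigmaExp M = (c : ℤ) * u := by rw [hc, hu]; rfl
  rw [← hu, ← hv, ← hc, ← hd] at hbez
  rw [← hc, ← hd] at hcard
  rw [hexp]
  have hapow : a ^ (c * d) = 1 := by
    rw [mul_comm, ← hcard]; exact pow_card_of_mem haM
  have had : a ^ d ∈ Cfsg.sigmaCore M := hd ▸ pow_relIndex_mem_sigmaCore haM
  -- the `σ(M)'`-part
  have ha'1 : a ^ ((c : ℤ) * u) ≠ 1 := by
    intro h
    apply haσ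
    have e : a = a ^ ((c : ℤ) * u) * a ^ ((d : ℤ) * v) := by
      rw [← zpow_add, ← hbez]; simp
    rw [h, one_mul, zpow_mul, zpow_natCast] at e
    rw [e]
    exact Subgroup.zpow_mem _ had _
  have ha'd : (a ^ ((c : ℤ) * u)) ^ d = 1 := by
    rw [← zpow_natCast, ← zpow_mul]
    have e : (c : ℤ) * u * (d : ℤ) = ((c * d : ℕ) : ℤ) * u := by push_cast; ring
    rw [e, zpow_mul, zpow_natCast, hapow, one_zpow]
  have ha'N : a ^ ((c : ℤ) * u) ∈ U ⊔ Cfsg.sigmaCore M := Subgroup.zpow_mem _ haN' _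
  have hcomm : Commute (a ^ ((c : ℤ) * u)) y := (show Commute a y from hay).zpow_left _
  have hpi : Cfsg.Agent.H1.PiNum (Cfsg.sigma M)ᶜ
      (Nat.card ↥(Subgroup.zpowers (a ^ ((c : ℤ) * u)))) := by
    intro q hq hqd hqσ
    rw [Nat.card_zpowers] at hqd
    have : q ∣ d := hqd.trans (orderOf_dvd_of_pow_eq_one ha'd)
    rw [hd] at this
    exact hhall.2.2 q hq hqσ this
  obtain ⟨n, hn, hle⟩ := Cfsg.Agent.H1.isPiHallOf_dominance (Cfsg.sigma M)ᶜ U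
    (U ⊔ Cfsg.sigmaCore M) (Subgroup.zpowers (a ^ ((c : ℤ) * u))) hsolv
    (isPiHallOf_U_N hG hM hKU) (Subgroup.zpowers_le.mpr ha'N) hpi
  have hnM : n ∈ M := hNM hn
  have hbU : n⁻¹ * a ^ ((c : ℤ) * u) * n ∈ U := mem_cj.mp (hle (Subgroup.mem_zpowers _))
  have hb1 : n⁻¹ * a ^ ((c : ℤ) * u) * n ≠ 1 := by
    intro h
    apply ha'1
    have e : a ^ ((c : ℤ) * u) = n * (n⁻¹ * a ^ ((c : ℤ) * u) * n) * n⁻¹ := by group
    rw [e, h]; group
  have hXU : Subgroup.zpowers (n⁻¹ * a ^ ((c : ℤ) * u) * n) ≤ U := Subgroup.zpowers_le.mpr hbU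
  have hX1 : Subgroup.zpowers (n⁻¹ * a ^ ((c : ℤ) * u) * n) ≠ ⊥ := by
    rw [Ne, Subgroup.zpowers_eq_bot]; exact hb1
  have hXc : Cfsg.sigmaCore M ⊓ Subgroup.centralizer
      ((Subgroup.zpowers (n⁻¹ * a ^ ((c : ℤ) * u) * n) : Subgroup G) : Set G) ≠ ⊥ := by
    intro h0
    have hy' : n⁻¹ * y * n ∈ Cfsg.sigmaCore M ⊓ Subgroup.centralizer
        ((Subgroup.zpowers (n⁻¹ * a ^ ((c : ℤ) * u) * n) : Subgroup G) : Set G) := by
      refine Subgroup.mem_inf.mpr ⟨?_, ?_⟩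
      · have := (Subgroup.mem_normalizer_iff.mp
          (Cfsg.Agent.H2.BG11.le_normalizer_sigmaCore M (M.inv_mem hnM)) y).mp hy
        rwa [inv_inv] at this
      · rw [Subgroup.mem_centralizer_iff]
        intro z hz
        obtain ⟨k, rfl⟩ := Subgroup.mem_zpowers_iff.mp hz
        have hc0 : Commute (n⁻¹ * a ^ ((c : ℤ) * u) * n) (n⁻¹ * y * n) := by
          show n⁻¹ * a ^ ((c : ℤ) * u) * n * (n⁻¹ * y * n) =
            n⁻¹ * y * n * (n⁻¹ * a ^ ((c : ℤ) * u) * n)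
          have e1 : n⁻¹ * a ^ ((c : ℤ) * u) * n * (n⁻¹ * y * n) =
              n⁻¹ * (a ^ ((c : ℤ) * u) * y) * n := by group
          have e2 : n⁻¹ * y * n * (n⁻¹ * a ^ ((c : ℤ) * u) * n) =
              n⁻¹ * (y * a ^ ((c : ℤ) * u)) * n := by group
          rw [e1, e2, hcomm.eq]
        exact (hc0.zpow_left k).eq
    rw [h0, Subgroup.mem_bot] at hy'
    apply hy1
    have e : y = n * (n⁻¹ * y * n) * n⁻¹ := by group
    rw [e, hy']; group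
  exact ⟨n, hnM, Cfsg.Agent.S1361.result hG M hM K U hKU _ hXU hX1 hXc⟩

/-- **S1362** -/
theorem s1362 (hG : Cfsg.IsMinSimpleOddOrder G) (hM : IsCoatom M)
    (hKU : Cfsg.IsSigmaDecomposition M K U) :
    Cfsg.IsTISubset (Cfsg.sigmaA M U \ (Cfsg.sigmaCore M : Set G)) := by
  intro g hg a ha hga
  exfalso
  apply hg
  obtain ⟨n, hn, hC, -⟩ := exists_conj_uniq hG hM hKU ha
  obtain ⟨n₁, hn₁, -, huniq⟩ := exists_conj_uniq hG hM hKU hga
  have haM : a ∈ M := ha.1.1.1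
  have hM1 : M ≠ ⊥ := by
    intro h0
    apply ha.2
    rw [h0, Subgroup.mem_bot] at haM
    rw [haM]; exact Subgroup.one_mem _
  -- `h := n₁⁻¹ g n` conjugates the first cyclic subgroup onto the second
  have hb : n₁⁻¹ * (g * a * g⁻¹) ^ sigmaExp M * n₁ =
      (n₁⁻¹ * g * n) * (n⁻¹ * a ^ sigmaExp M * n) * (n₁⁻¹ * g * n)⁻¹ := by
    rw [conj_zpow]; group
  have hX : Subgroup.zpowers (n₁⁻¹ * (g * a * g⁻¹) ^ sigmaExp M * n₁) =
      cj (n₁⁻¹ * g * n) (Subgroup.zpowers (n⁻¹ * a ^ sigmaExp M * n)) := by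
    rw [hb]
    show _ = (Subgroup.zpowers (n⁻¹ * a ^ sigmaExp M * n)).map
      (MulAut.conj (n₁⁻¹ * g * n)).toMonoidHom
    rw [MonoidHom.map_zpowers]
    rfl
  have hle : Subgroup.centralizer
      ((Subgroup.zpowers (n₁⁻¹ * (g * a * g⁻¹) ^ sigmaExp M * n₁) : Subgroup G) : Set G) ≤
      cj (n₁⁻¹ * g * n) M := by
    rw [hX, ← cj_centralizer]
    exact cj_mono _ hC
  have heq : cj (n₁⁻¹ * g * n) M = M := huniq _ (isCoatom_cj hM _) hle
  have hhM : n₁⁻¹ * g * n ∈ M := by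
    have h1 : n₁⁻¹ * g * n ∈ Subgroup.normalizer (M : Set G) := by
      rw [Subgroup.mem_normalizer_iff_map_conj_eq]
      exact heq
    rwa [normalizer_coatom hG hM hM1] at h1
  have hgM : g ∈ M := by
    have e : g = n₁ * (n₁⁻¹ * g * n) * n⁻¹ := by group
    rw [e]; exact M.mul_mem (M.mul_mem hn₁ hhM) (M.inv_mem hn)
  rw [Subgroup.mem_set_normalizer_iff]
  intro x
  constructor
  · exact fun hx => conj_mem_A_diff hKU hgM hx
  · intro hx
    have := conj_mem_A_diff hKU (M.inv_mem hgM) hx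
    have e : g⁻¹ * (g * x * g⁻¹) * g⁻¹⁻¹ = x := by group
    rwa [e] at this

end

end Cfsg.Agent.Lib.Helper5.BG14Z
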