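import Mathlib

/-!
# A counting lemma for class sizes (helper5)

`counting_trick` : Part IV of the proof of S4138 (two largest class sizes coprime), as a standalone
statement.  `V` an abelian normal subgroup, `H` a subgroup containing the centre `Z` with
`V ∩ H = 1`, `x ∈ V` with `C_H(x) = Z`, `h ∈ H ∖ Z` of order prime to `|V|`.  Then some `v h`,
`v ∈ C_V(h)`, has class size greater than `|H : Z|`.
-/

set_option autoImplicit false
set_option linter.unusedSectionVars false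
set_option linter.unusedVariables false

namespace Cfsg.Agent.Lib.Helper5.CountTrick

variable {G : Type*} [Group G]

/-- an element of order dividing two coprime numbers is trivial -/
theorem eq_one_of_pow_pow (w : G) (a b : ℕ) (ha : w ^ a = 1) (hb : w ^ b = 1) (hc : a.Coprime b) :
    w = 1 := by
  have h1 : orderOf w ∣ a := orderOf_dvd_of_pow_eq_one ha
  have h2 : orderOf w ∣ b := orderOf_dvd_of_pow_eq_one hb
  exact orderOf_eq_one_iff.1 (Nat.eq_one_of_dvd_coprimes hc h1 h2)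

/-- `|A ∩ K| * |K : A ∩ K| = |K|` -/
theorem card_inf_mul_relIndex (A K : Subgroup G) :
    Nat.card ↥(A ⊓ K) * A.relIndex K = Nat.card ↥K := by
  have h1 : Nat.card ↥(A ⊓ K) = Nat.card ↥(A.subgroupOf K) := by
    rw [← Subgroup.inf_subgroupOf_right]
    exact Nat.card_congr (Subgroup.subgroupOfEquivOfLe inf_le_right).symm.toEquiv
  rw [h1]
  exact Subgroup.card_mul_index _

/-- the order of a semidirect product -/
theorem card_sup_of_normal (V H : Subgroup G) [V.Normal] (hVH : V ⊓ H = ⊥) :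
    Nat.card ↥(V ⊔ H) = Nat.card ↥V * Nat.card ↥H := by
  rw [← Nat.card_prod]
  symm
  have hmem : ∀ (a : ↥V) (b : ↥H), (a : G) * (b : G) ∈ V ⊔ H := fun a b =>
    Subgroup.mul_mem _ (Subgroup.mem_sup_left a.2) (Subgroup.mem_sup_right b.2)
  apply Nat.card_congr
  refine Equiv.ofBijective
    (fun q : ↥V × ↥H => (⟨(q.1 : G) * (q.2 : G), hmem q.1 q.2⟩ : ↥(V ⊔ H))) ⟨?_, ?_⟩
  · rintro ⟨a, b⟩ ⟨a', b'⟩ hq
    have h' : (a : G) * b = a' * b' := congrArg Subtype.val hq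
    have h1 : (a' : G)⁻¹ * a = b' * (b : G)⁻¹ := by
      rw [inv_mul_eq_iff_eq_mul, ← mul_assoc, ← h', mul_assoc, mul_inv_cancel, mul_one]
    have h2 : (a' : G)⁻¹ * a ∈ V ⊓ H := by
      refine ⟨V.mul_mem (V.inv_mem a'.2) a.2, ?_⟩
      rw [h1]
      exact H.mul_mem b'.2 (H.inv_mem b.2)
    rw [hVH, Subgroup.mem_bot, inv_mul_eq_one] at h2
    have h3 : (b : G) = b' := by
      rw [h2] at h'
      exact mul_left_cancel h'
    exact Prod.ext (Subtype.ext h2.symm) (Subtype.ext h3)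
  · rintro ⟨g, hg⟩
    obtain ⟨a, ha, b, hb, rfl⟩ := Subgroup.mem_sup_of_normal_left.1 hg
    exact ⟨(⟨a, ha⟩, ⟨b, hb⟩), rfl⟩

/-- uniqueness of the decomposition in a semidirect product -/
theorem eq_of_mul_eq (V H : Subgroup G) (hVH : V ⊓ H = ⊥) {a a' b b' : G} (ha : a ∈ V)
    (ha' : a' ∈ V) (hb : b ∈ H) (hb' : b' ∈ H) (h : a * b = a' * b') : a = a' ∧ b = b' := by
  have h1 : a'⁻¹ * a = b' * b⁻¹ := by
    rw [inv_mul_eq_iff_eq_mul, ← mul_assoc, ← h, mul_assoc, mul_inv_cancel, mul_one]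
  have h2 : a'⁻¹ * a ∈ V ⊓ H := by
    refine ⟨V.mul_mem (V.inv_mem ha') ha, ?_⟩
    rw [h1]
    exact H.mul_mem hb' (H.inv_mem hb)
  rw [hVH, Subgroup.mem_bot, inv_mul_eq_one] at h2
  refine ⟨h2.symm, ?_⟩
  rw [h2] at h
  exact mul_left_cancel h

section theta

variable (V : Subgroup G) [hVn : V.Normal] (hVab : ∀ a ∈ V, ∀ b ∈ V, a * b = b * a) (h : G)

/-- `v ↦ v⁻¹ v^h` on the abelian normal subgroup `V` -/
def theta (hVab : ∀ a ∈ V, ∀ b ∈ V, a * b = b * a) (h : G) : ↥V →* ↥V where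
  toFun v := ⟨(v : G)⁻¹ * (h * v * h⁻¹), V.mul_mem (V.inv_mem v.2) (hVn.conj_mem v v.2 h)⟩
  map_one' := by
    apply Subtype.ext
    simp
  map_mul' a b := by
    apply Subtype.ext
    simp only [Subgroup.coe_mul, mul_inv_rev]
    have h1 := hVab _ (V.inv_mem b.2) _ (V.mul_mem (V.inv_mem a.2) (hVn.conj_mem a a.2 h))
    calc (b : G)⁻¹ * (a : G)⁻¹ * (h * ((a : G) * b) * h⁻¹)
        = (b : G)⁻¹ * ((a : G)⁻¹ * (h * a * h⁻¹)) * (h * b * h⁻¹) := by group
      _ = (a : G)⁻¹ * (h * a * h⁻¹) * (b : G)⁻¹ * (h * b * h⁻¹) := by rw [h1]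
      _ = (a : G)⁻¹ * (h * a * h⁻¹) * ((b : G)⁻¹ * (h * b * h⁻¹)) := by group

theorem theta_val (v : ↥V) : ((theta V hVab h v : ↥V) : G) = (v : G)⁻¹ * (h * v * h⁻¹) := rfl

/-- the subgroup `[V, h]` -/
def II : Subgroup G := (theta V hVab h).range.map V.subtype

/-- the subgroup `C_V(h)` -/
def WW : Subgroup G := V ⊓ Subgroup.centralizer ({h} : Set G)

theorem mem_II_iff (i : G) : i ∈ II V hVab h ↔ ∃ v ∈ V, i = v⁻¹ * (h * v * h⁻¹) := by
  unfold II
  constructor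
  · rintro ⟨_, ⟨v, rfl⟩, rfl⟩
    exact ⟨v, v.2, rfl⟩
  · rintro ⟨v, hv, rfl⟩
    exact ⟨theta V hVab h ⟨v, hv⟩, ⟨⟨v, hv⟩, rfl⟩, rfl⟩

theorem II_le : II V hVab h ≤ V := Subgroup.map_subtype_le _

theorem mem_WW_iff (w : G) : w ∈ WW V h ↔ w ∈ V ∧ w * h = h * w := by
  unfold WW
  rw [Subgroup.mem_inf, Subgroup.mem_centralizer_iff]
  constructor
  · rintro ⟨h1, h2⟩
    exact ⟨h1, (h2 h (Set.mem_singleton _)).symm⟩
  · rintro ⟨h1, h2⟩
    refine ⟨h1, ?_⟩
    intro y hy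
    rw [Set.mem_singleton_iff] at hy
    subst hy
    exact h2.symm

theorem ker_theta_map : (theta V hVab h).ker.map V.subtype = WW V h := by
  ext w
  rw [mem_WW_iff]
  constructor
  · rintro ⟨v, hv, rfl⟩
    refine ⟨v.2, ?_⟩
    rw [SetLike.mem_coe, MonoidHom.mem_ker] at hv
    have h1 : (v : G)⁻¹ * (h * v * h⁻¹) = 1 := by
      rw [← theta_val V hVab h v, hv]; rfl
    rw [inv_mul_eq_one] at h1
    show (v : G) * h = h * v
    calc (v : G) * h = h * v * h⁻¹ * h := by rw [← h1]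
      _ = h * v := by group
  · rintro ⟨hw, hc⟩
    refine ⟨⟨w, hw⟩, ?_, rfl⟩
    rw [SetLike.mem_coe, MonoidHom.mem_ker]
    apply Subtype.ext
    rw [theta_val]
    show w⁻¹ * (h * w * h⁻¹) = 1
    rw [← hc, mul_inv_cancel_right, inv_mul_cancel]

/-- `|V| = |C_V(h)| |[V,h]|` -/
theorem card_V [Finite G] : Nat.card ↥V = Nat.card ↥(WW V h) * Nat.card ↥(II V hVab h) := by
  have h1 := Subgroup.card_eq_card_quotient_mul_card_subgroup (theta V hVab h).ker
  have h2 : Nat.card (↥V ⧸ (theta V hVab h).ker) = Nat.card ↥(theta V hVab h).range :=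
    Nat.card_congr (QuotientGroup.quotientKerEquivRange (theta V hVab h)).toEquiv
  have h3 : Nat.card ↥(II V hVab h) = Nat.card ↥(theta V hVab h).range :=
    Subgroup.card_map_of_injective (Subgroup.subtype_injective _)
  have h4 : Nat.card ↥(WW V h) = Nat.card ↥(theta V hVab h).ker := by
    rw [← ker_theta_map V hVab h]
    exact Subgroup.card_map_of_injective (Subgroup.subtype_injective _)
  rw [h1, h2, h3, h4, mul_comm]

/-- `C_V(h) ∩ [V,h] = 1` under coprime action -/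
theorem eq_one_of_mem_WW_of_mem_II [Finite G] (hcop : (orderOf h).Coprime (Nat.card ↥V)) (w : G)
    (hw : w ∈ WW V h) (hi : w ∈ II V hVab h) : w = 1 := by
  obtain ⟨hwV, hwc⟩ := (mem_WW_iff V h w).1 hw
  obtain ⟨v, hv, hwv⟩ := (mem_II_iff V hVab h w).1 hi
  have hconj : h * v * h⁻¹ = v * w := by rw [hwv]; group
  have hwh : h * w * h⁻¹ = w := by rw [← hwc, mul_inv_cancel_right]
  have key : ∀ j : ℕ, h ^ j * v * (h ^ j)⁻¹ = v * w ^ j := by
    intro j
    induction j with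
    | zero => simp
    | succ j ih =>
      have hwj : h * w ^ j * h⁻¹ = w ^ j := by
        have : h * w ^ j * h⁻¹ = (h * w * h⁻¹) ^ j := by
          rw [conj_pow]
        rw [this, hwh]
      calc h ^ (j + 1) * v * (h ^ (j + 1))⁻¹ = h * (h ^ j * v * (h ^ j)⁻¹) * h⁻¹ := by
            rw [pow_succ']; group
        _ = h * (v * w ^ j) * h⁻¹ := by rw [ih]
        _ = (h * v * h⁻¹) * (h * w ^ j * h⁻¹) := by group
        _ = v * w * w ^ j := by rw [hconj, hwj]
        _ = v * w ^ (j + 1) := by rw [pow_succ', mul_assoc]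
  have h1 := key (orderOf h)
  rw [pow_orderOf_eq_one, one_mul, inv_one, mul_one] at h1
  have h2 : w ^ orderOf h = 1 := by
    have := mul_left_cancel (a := v) (b := 1) (c := w ^ orderOf h) (by rw [mul_one]; exact h1)
    exact this.symm
  have h3 : w ^ Nat.card ↥V = 1 := by
    have h4 : (⟨w, hwV⟩ : ↥V) ^ Nat.card ↥V = 1 := pow_card_eq_one'
    have h5 := congrArg Subtype.val h4
    rw [Subgroup.coe_pow, Subgroup.coe_one] at h5
    exact h5
  exact eq_one_of_pow_pow w _ _ h2 h3 hcop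

/-- the decomposition `V = C_V(h) × [V,h]` -/
theorem exists_decomp [Finite G] (hcop : (orderOf h).Coprime (Nat.card ↥V)) (x : G) (hx : x ∈ V) :
    ∃ x₁ ∈ WW V h, ∃ x₂ ∈ II V hVab h, x = x₁ * x₂ := by
  have hWV : WW V h ≤ V := inf_le_left
  have hIV : II V hVab h ≤ V := II_le V hVab h
  set f : ↥(WW V h) × ↥(II V hVab h) → ↥V := fun q =>
    ⟨(q.1 : G) * (q.2 : G), V.mul_mem (hWV q.1.2) (hIV q.2.2)⟩ with hf
  have hinj : Function.Injective f := by
    rintro ⟨a, b⟩ ⟨a', b'⟩ hq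
    have h' : (a : G) * b = a' * b' := congrArg Subtype.val hq
    have h1 : (a' : G)⁻¹ * a = b' * (b : G)⁻¹ := by
      rw [inv_mul_eq_iff_eq_mul, ← mul_assoc, ← h', mul_assoc, mul_inv_cancel, mul_one]
    have h2 : (a' : G)⁻¹ * a = 1 := by
      apply eq_one_of_mem_WW_of_mem_II V hVab h hcop
      · exact (WW V h).mul_mem ((WW V h).inv_mem a'.2) a.2
      · rw [h1]
        exact (II V hVab h).mul_mem b'.2 ((II V hVab h).inv_mem b.2)
    rw [inv_mul_eq_one] at h2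
    have h3 : (b : G) = b' := by
      rw [h2] at h'
      exact mul_left_cancel h'
    exact Prod.ext (Subtype.ext h2.symm) (Subtype.ext h3)
  have hcard : Nat.card ↥V ≤ Nat.card (↥(WW V h) × ↥(II V hVab h)) := by
    rw [Nat.card_prod, card_V V hVab h]
  have hbij := Function.Injective.bijective_of_nat_card_le hinj hcard
  obtain ⟨⟨a, b⟩, hab⟩ := hbij.2 ⟨x, hx⟩
  exact ⟨a, a.2, b, b.2, (congrArg Subtype.val hab).symm⟩

end theta

section main

theorem mem_centralizer_singleton_iff (a g : G) :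
    g ∈ Subgroup.centralizer ({a} : Set G) ↔ g * a = a * g := by
  rw [Subgroup.mem_centralizer_iff]
  constructor
  · intro h1
    exact (h1 a (Set.mem_singleton _)).symm
  · intro h1 y hy
    rw [Set.mem_singleton_iff] at hy
    subst hy
    exact h1.symm

variable [Finite G] (V H : Subgroup G) [hVn : V.Normal]
  (hVab : ∀ a ∈ V, ∀ b ∈ V, a * b = b * a) (hVH : V ⊓ H = ⊥) (h : G) (hh : h ∈ H)
  (hcop : (orderOf h).Coprime (Nat.card ↥V))

include hVab hVH hh hcop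

/-- the elements of `V H` centralizing `v₀ h`, `v₀ ∈ C_V(h)` -/
theorem mem_cent_form (v₀ : G) (hv₀ : v₀ ∈ WW V h) (t : G) (ht : t ∈ V ⊔ H)
    (htc : t * (v₀ * h) = (v₀ * h) * t) :
    ∃ w ∈ WW V h, ∃ k ∈ H ⊓ Subgroup.centralizer ({h} : Set G) ⊓
      Subgroup.centralizer ({v₀} : Set G), t = w * k := by
  obtain ⟨hv₀V, hv₀c⟩ := (mem_WW_iff V h v₀).1 hv₀
  obtain ⟨v', hv', k, hk, rfl⟩ := Subgroup.mem_sup_of_normal_left.1 ht
  have e1 : v' * (k * v₀ * k⁻¹) * (k * h * k⁻¹) = v₀ * (h * v' * h⁻¹) * h := by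
    have : v' * (k * v₀ * k⁻¹) * (k * h * k⁻¹) = (v' * k * (v₀ * h)) * k⁻¹ := by group
    rw [this, htc]
    group
  have haV : k * v₀ * k⁻¹ ∈ V := hVn.conj_mem v₀ hv₀V k
  have hcV : h * v' * h⁻¹ ∈ V := hVn.conj_mem v' hv' h
  obtain ⟨e2, e3⟩ := eq_of_mul_eq V H hVH (V.mul_mem hv' haV) (V.mul_mem hv₀V hcV)
    (H.mul_mem (H.mul_mem hk hh) (H.inv_mem hk)) hh e1
  -- `k` commutes with `h`
  have hkh : k * h = h * k := by
    calc k * h = k * h * k⁻¹ * k := by group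
      _ = h * k := by rw [e3]
  -- the element `v₀⁻¹ k v₀ k⁻¹`
  have e4 : v₀⁻¹ * (k * v₀ * k⁻¹) = v'⁻¹ * (h * v' * h⁻¹) := by
    have c1 := hVab _ (V.inv_mem hv') _ (V.inv_mem hv₀V)
    have c2 := hVab _ (V.inv_mem hv') _ hv₀V
    calc v₀⁻¹ * (k * v₀ * k⁻¹) = v₀⁻¹ * v'⁻¹ * (v' * (k * v₀ * k⁻¹)) := by group
      _ = v₀⁻¹ * v'⁻¹ * (v₀ * (h * v' * h⁻¹)) := by rw [e2]
      _ = v₀⁻¹ * (v'⁻¹ * v₀) * (h * v' * h⁻¹) := by group
      _ = v₀⁻¹ * (v₀ * v'⁻¹) * (h * v' * h⁻¹) := by rw [c2]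
      _ = v'⁻¹ * (h * v' * h⁻¹) := by group
  have hw₀I : v₀⁻¹ * (k * v₀ * k⁻¹) ∈ II V hVab h := by
    rw [e4]
    exact (mem_II_iff V hVab h _).2 ⟨v', hv', rfl⟩
  have hw₀W : v₀⁻¹ * (k * v₀ * k⁻¹) ∈ WW V h := by
    rw [mem_WW_iff]
    refine ⟨V.mul_mem (V.inv_mem hv₀V) haV, ?_⟩
    have hk' : k⁻¹ * h = h * k⁻¹ := by
      calc k⁻¹ * h = k⁻¹ * (h * k) * k⁻¹ := by group
        _ = k⁻¹ * (k * h) * k⁻¹ := by rw [hkh]
        _ = h * k⁻¹ := by group
    have hv' : v₀⁻¹ * h = h * v₀⁻¹ := by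
      calc v₀⁻¹ * h = v₀⁻¹ * (h * v₀) * v₀⁻¹ := by group
        _ = v₀⁻¹ * (v₀ * h) * v₀⁻¹ := by rw [hv₀c]
        _ = h * v₀⁻¹ := by group
    calc v₀⁻¹ * (k * v₀ * k⁻¹) * h = v₀⁻¹ * (k * v₀ * (k⁻¹ * h)) := by group
      _ = v₀⁻¹ * (k * v₀ * (h * k⁻¹)) := by rw [hk']
      _ = v₀⁻¹ * (k * (v₀ * h) * k⁻¹) := by group
      _ = v₀⁻¹ * (k * (h * v₀) * k⁻¹) := by rw [hv₀c]
      _ = v₀⁻¹ * ((k * h) * v₀ * k⁻¹) := by group
      _ = v₀⁻¹ * ((h * k) * v₀ * k⁻¹) := by rw [hkh]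
      _ = (v₀⁻¹ * h) * (k * v₀ * k⁻¹) := by group
      _ = (h * v₀⁻¹) * (k * v₀ * k⁻¹) := by rw [hv']
      _ = h * (v₀⁻¹ * (k * v₀ * k⁻¹)) := by group
  have hw₀1 := eq_one_of_mem_WW_of_mem_II V hVab h hcop _ hw₀W hw₀I
  have hkv₀ : k * v₀ = v₀ * k := by
    have : k * v₀ * k⁻¹ = v₀ := by
      have := hw₀1
      rw [inv_mul_eq_one] at this
      exact this.symm
    calc k * v₀ = k * v₀ * k⁻¹ * k := by group
      _ = v₀ * k := by rw [this]
  have hv'W : v' ∈ WW V h := by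
    rw [mem_WW_iff]
    refine ⟨hv', ?_⟩
    have : v'⁻¹ * (h * v' * h⁻¹) = 1 := by rw [← e4]; exact hw₀1
    rw [inv_mul_eq_one] at this
    calc v' * h = h * v' * h⁻¹ * h := by rw [← this]
      _ = h * v' := by group
  refine ⟨v', hv'W, k, ?_, rfl⟩
  refine ⟨⟨hk, ?_⟩, ?_⟩
  · exact (mem_centralizer_singleton_iff h k).2 hkh
  · exact (mem_centralizer_singleton_iff v₀ k).2 hkv₀

/-- the order of the centralizer of `v₀ h` in `V H` -/
theorem card_cent_le (v₀ : G) (hv₀ : v₀ ∈ WW V h) :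
    Nat.card ↥(Subgroup.centralizer ({v₀ * h} : Set G) ⊓ (V ⊔ H)) ≤
      Nat.card ↥(WW V h) * Nat.card ↥(H ⊓ Subgroup.centralizer ({h} : Set G) ⊓
        Subgroup.centralizer ({v₀} : Set G)) := by
  classical
  rw [← Nat.card_prod]
  have hex : ∀ t : ↥(Subgroup.centralizer ({v₀ * h} : Set G) ⊓ (V ⊔ H)),
      ∃ q : ↥(WW V h) × ↥(H ⊓ Subgroup.centralizer ({h} : Set G) ⊓
        Subgroup.centralizer ({v₀} : Set G)), (t : G) = (q.1 : G) * (q.2 : G) := by
    rintro ⟨t, ht⟩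
    obtain ⟨w, hw, k, hk, e⟩ := mem_cent_form V H hVab hVH h hh hcop v₀ hv₀ t ht.2
      ((mem_centralizer_singleton_iff _ t).1 ht.1)
    exact ⟨(⟨w, hw⟩, ⟨k, hk⟩), e⟩
  choose f hf using hex
  apply Nat.card_le_card_of_injective f
  intro t t' htt
  apply Subtype.ext
  rw [hf t, hf t', htt]

/-- class size bound: `|[V,h]| ≤ |C_H(h) ∩ C_H(v₀) : Z|` -/
theorem claimB (hZH : Subgroup.center G ≤ H) (v₀ : G) (hv₀ : v₀ ∈ WW V h)
    (hcs : (Subgroup.centralizer ({v₀ * h} : Set G)).index ≤ (Subgroup.center G).relIndex H) :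
    Nat.card ↥(II V hVab h) ≤ (Subgroup.center G).relIndex
      (H ⊓ Subgroup.centralizer ({h} : Set G) ⊓ Subgroup.centralizer ({v₀} : Set G)) := by
  set C := Subgroup.centralizer ({v₀ * h} : Set G) with hC
  set A₁ := H ⊓ Subgroup.centralizer ({h} : Set G) ⊓ Subgroup.centralizer ({v₀} : Set G) with hA₁
  have hA₁H : A₁ ≤ H := inf_le_left.trans inf_le_left
  have hZA₁ : Subgroup.center G ≤ A₁ := by
    intro z hz
    refine ⟨⟨hZH hz, ?_⟩, ?_⟩
    · exact (mem_centralizer_singleton_iff h z).2 ((Subgroup.mem_center_iff.1 hz h).symm)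
    · exact (mem_centralizer_singleton_iff v₀ z).2 ((Subgroup.mem_center_iff.1 hz v₀).symm)
  have h1 : C.relIndex (V ⊔ H) ≤ C.index := by
    have := Subgroup.relIndex_le_of_le_right (H := C) (le_top : V ⊔ H ≤ ⊤)
      (by rw [Subgroup.relIndex_top_right]; exact Subgroup.index_ne_zero_of_finite)
    rwa [Subgroup.relIndex_top_right] at this
  have h2 := card_inf_mul_relIndex C (V ⊔ H)
  rw [card_sup_of_normal V H hVH] at h2
  have h3 := card_cent_le V H hVab hVH h hh hcop v₀ hv₀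
  have h4 := card_V V hVab h
  have h5 := card_inf_mul_relIndex A₁ H
  rw [inf_eq_left.2 hA₁H] at h5
  have h6 := Subgroup.relIndex_mul_relIndex (Subgroup.center G) A₁ H hZA₁ hA₁H
  have hWpos : 0 < Nat.card ↥(WW V h) := Nat.card_pos
  have hApos : 0 < Nat.card ↥A₁ := Nat.card_pos
  have hrpos : 0 < A₁.relIndex H :=
    Nat.pos_of_ne_zero (Subgroup.index_ne_zero_of_finite (H := A₁.subgroupOf H))
  -- `f * |H : A₁| ≤ relIndex`
  have h7 : Nat.card ↥(II V hVab h) * A₁.relIndex H ≤ C.relIndex (V ⊔ H) := by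
    have h8 : Nat.card ↥(WW V h) * Nat.card ↥A₁ * (Nat.card ↥(II V hVab h) * A₁.relIndex H) ≤
        Nat.card ↥(WW V h) * Nat.card ↥A₁ * C.relIndex (V ⊔ H) := by
      calc Nat.card ↥(WW V h) * Nat.card ↥A₁ * (Nat.card ↥(II V hVab h) * A₁.relIndex H)
          = (Nat.card ↥(WW V h) * Nat.card ↥(II V hVab h)) * (Nat.card ↥A₁ * A₁.relIndex H) := by
            ring
        _ = Nat.card ↥V * Nat.card ↥H := by rw [← h4, h5]
        _ = Nat.card ↥(C ⊓ (V ⊔ H)) * C.relIndex (V ⊔ H) := h2.symm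
        _ ≤ Nat.card ↥(WW V h) * Nat.card ↥A₁ * C.relIndex (V ⊔ H) :=
            Nat.mul_le_mul_right _ h3
    exact Nat.le_of_mul_le_mul_left h8 (Nat.mul_pos hWpos hApos)
  have h9 : Nat.card ↥(II V hVab h) * A₁.relIndex H ≤
      (Subgroup.center G).relIndex A₁ * A₁.relIndex H := by
    rw [h6]
    exact h7.trans (h1.trans hcs)
  exact Nat.le_of_mul_le_mul_right h9 hrpos

/-- the orbit of a non-trivial element of `[V,h]` under `C_H(h)` -/
theorem relIndex_add_one_le (x₂ : G) (hx₂ : x₂ ∈ II V hVab h) (hx₂1 : x₂ ≠ 1) :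
    (H ⊓ Subgroup.centralizer ({h} : Set G) ⊓ Subgroup.centralizer ({x₂} : Set G)).relIndex
      (H ⊓ Subgroup.centralizer ({h} : Set G)) + 1 ≤ Nat.card ↥(II V hVab h) := by
  classical
  set M := H ⊓ Subgroup.centralizer ({h} : Set G) with hM
  set A₂ := M ⊓ Subgroup.centralizer ({x₂} : Set G) with hA₂
  have hconj : ∀ k ∈ M, k * x₂ * k⁻¹ ∈ II V hVab h := by
    intro k hk
    obtain ⟨v, hv, rfl⟩ := (mem_II_iff V hVab h x₂).1 hx₂
    have hkh : k * h = h * k := (mem_centralizer_singleton_iff h k).1 hk.2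
    have hk' : h⁻¹ * k⁻¹ = k⁻¹ * h⁻¹ := by
      rw [← mul_inv_rev, ← mul_inv_rev, hkh]
    refine (mem_II_iff V hVab h _).2 ⟨k * v * k⁻¹, hVn.conj_mem v hv k, ?_⟩
    calc k * (v⁻¹ * (h * v * h⁻¹)) * k⁻¹ = k * v⁻¹ * k⁻¹ * ((k * h) * v * (h⁻¹ * k⁻¹)) := by group
      _ = k * v⁻¹ * k⁻¹ * ((h * k) * v * (k⁻¹ * h⁻¹)) := by rw [hkh, hk']
      _ = (k * v * k⁻¹)⁻¹ * (h * (k * v * k⁻¹) * h⁻¹) := by group
  let φ : ↥M → ↥(II V hVab h) := fun k => ⟨(k : G) * x₂ * (k : G)⁻¹, hconj k k.2⟩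
  have hφ : ∀ a b : ↥M, QuotientGroup.leftRel (A₂.subgroupOf M) a b → φ a = φ b := by
    intro a b hab
    rw [QuotientGroup.leftRel_apply, Subgroup.mem_subgroupOf] at hab
    have hc : ((a : G)⁻¹ * b) * x₂ = x₂ * ((a : G)⁻¹ * b) := by
      have := hab.2
      exact (mem_centralizer_singleton_iff x₂ _).1 (by simpa using this)
    apply Subtype.ext
    show (a : G) * x₂ * (a : G)⁻¹ = (b : G) * x₂ * (b : G)⁻¹
    calc (a : G) * x₂ * (a : G)⁻¹ = (a : G) * (x₂ * ((a : G)⁻¹ * b)) * (b : G)⁻¹ := by group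
      _ = (a : G) * (((a : G)⁻¹ * b) * x₂) * (b : G)⁻¹ := by rw [hc]
      _ = (b : G) * x₂ * (b : G)⁻¹ := by group
  let ψ : Option (↥M ⧸ A₂.subgroupOf M) → ↥(II V hVab h) := fun o =>
    match o with
    | none => 1
    | some q => Quotient.liftOn' q φ hφ
  have hψinj : Function.Injective ψ := by
    intro o o' hoo
    match o, o' with
    | none, none => rfl
    | none, some q =>
      exfalso
      induction q using Quotient.inductionOn' with
      | h k =>
        have h1 : (1 : ↥(II V hVab h)) = φ k := hoo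
        have h2 : (1 : G) = (k : G) * x₂ * (k : G)⁻¹ := congrArg Subtype.val h1
        apply hx₂1
        have : x₂ = (k : G)⁻¹ * ((k : G) * x₂ * (k : G)⁻¹) * (k : G) := by group
        rw [this, ← h2]
        group
    | some q, none =>
      exfalso
      induction q using Quotient.inductionOn' with
      | h k =>
        have h1 : φ k = (1 : ↥(II V hVab h)) := hoo
        have h2 : (k : G) * x₂ * (k : G)⁻¹ = (1 : G) := congrArg Subtype.val h1
        apply hx₂1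
        have : x₂ = (k : G)⁻¹ * ((k : G) * x₂ * (k : G)⁻¹) * (k : G) := by group
        rw [this, h2]
        group
    | some q, some q' =>
      congr 1
      induction q using Quotient.inductionOn' with
      | h a =>
        induction q' using Quotient.inductionOn' with
        | h b =>
          have h1 : φ a = φ b := hoo
          have h2 : (a : G) * x₂ * (a : G)⁻¹ = (b : G) * x₂ * (b : G)⁻¹ := congrArg Subtype.val h1
          apply Quotient.sound'
          rw [QuotientGroup.leftRel_apply, Subgroup.mem_subgroupOf]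
          refine ⟨?_, ?_⟩
          · exact M.mul_mem (M.inv_mem a.2) b.2
          · apply (mem_centralizer_singleton_iff x₂ _).2
            show ((a : G)⁻¹ * (b : G)) * x₂ = x₂ * ((a : G)⁻¹ * (b : G))
            calc ((a : G)⁻¹ * (b : G)) * x₂ = (a : G)⁻¹ * ((b : G) * x₂ * (b : G)⁻¹) * b := by group
              _ = (a : G)⁻¹ * ((a : G) * x₂ * (a : G)⁻¹) * b := by rw [h2]
              _ = x₂ * ((a : G)⁻¹ * (b : G)) := by group
  have h1 := Nat.card_le_card_of_injective ψ hψinj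
  rw [Finite.card_option] at h1
  exact h1

end main

/-- **The counting trick** (Part IV of S4138).  `V` abelian normal, `Z(G) ≤ H`, `V ∩ H = 1`,
`x ∈ V` with `C_H(x) ≤ Z(G)`, `h ∈ H ∖ Z(G)` of order prime to `|V|`: not all the elements `v h`,
`v ∈ C_V(h)`, have class size at most `|H : Z(G)|`. -/
theorem counting_trick [Finite G] (V H : Subgroup G) [hVn : V.Normal]
    (hVab : ∀ a ∈ V, ∀ b ∈ V, a * b = b * a) (hZH : Subgroup.center G ≤ H) (hVH : V ⊓ H = ⊥)
    (x : G) (hxV : x ∈ V) (hHx : H ⊓ Subgroup.centralizer ({x} : Set G) ≤ Subgroup.center G)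
    (h : G) (hh : h ∈ H) (hhZ : h ∉ Subgroup.center G)
    (hcop : (orderOf h).Coprime (Nat.card ↥V))
    (hcs : ∀ v ∈ V, v * h = h * v → (Subgroup.centralizer ({v * h} : Set G)).index ≤
      (Subgroup.center G).relIndex H) : False := by
  obtain ⟨x₁, hx₁, x₂, hx₂, hx⟩ := exists_decomp V hVab h hcop x hxV
  obtain ⟨hx₁V, hx₁c⟩ := (mem_WW_iff V h x₁).1 hx₁
  -- `|[V,h]| ≥ 2`
  have hf2 : 2 ≤ Nat.card ↥(II V hVab h) := by
    have hne : x⁻¹ * (h * x * h⁻¹) ≠ 1 := by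
      intro h1
      rw [inv_mul_eq_one] at h1
      apply hhZ
      apply hHx
      refine ⟨hh, (mem_centralizer_singleton_iff x h).2 ?_⟩
      calc h * x = h * x * h⁻¹ * h := by group
        _ = x * h := by rw [← h1]
    have hmem : x⁻¹ * (h * x * h⁻¹) ∈ II V hVab h := (mem_II_iff V hVab h _).2 ⟨x, hxV, rfl⟩
    have hnt : Nontrivial ↥(II V hVab h) :=
      ⟨⟨⟨_, hmem⟩, 1, fun e => hne (congrArg Subtype.val e)⟩⟩
    exact Finite.one_lt_card_iff_nontrivial.2 hnt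
  have hB := claimB V H hVab hVH h hh hcop hZH x₁ hx₁ (hcs x₁ hx₁V hx₁c)
  have hZmem : ∀ z ∈ Subgroup.center G, ∀ a : G, z ∈ Subgroup.centralizer ({a} : Set G) :=
    fun z hz a => (mem_centralizer_singleton_iff a z).2 ((Subgroup.mem_center_iff.1 hz a).symm)
  have hZM : Subgroup.center G ≤ H ⊓ Subgroup.centralizer ({h} : Set G) :=
    fun z hz => ⟨hZH hz, hZmem z hz h⟩
  have hZA₁ : Subgroup.center G ≤
      H ⊓ Subgroup.centralizer ({h} : Set G) ⊓ Subgroup.centralizer ({x₁} : Set G) :=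
    fun z hz => ⟨hZM hz, hZmem z hz x₁⟩
  have hZA₂ : Subgroup.center G ≤
      H ⊓ Subgroup.centralizer ({h} : Set G) ⊓ Subgroup.centralizer ({x₂} : Set G) :=
    fun z hz => ⟨hZM hz, hZmem z hz x₂⟩
  have hinf : (H ⊓ Subgroup.centralizer ({h} : Set G) ⊓ Subgroup.centralizer ({x₁} : Set G)) ⊓
      (H ⊓ Subgroup.centralizer ({h} : Set G) ⊓ Subgroup.centralizer ({x₂} : Set G)) =
      Subgroup.center G := by
    apply le_antisymm
    · intro k hk
      apply hHx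
      refine ⟨hk.1.1.1, (mem_centralizer_singleton_iff x k).2 ?_⟩
      have c1 := (mem_centralizer_singleton_iff x₁ k).1 hk.1.2
      have c2 := (mem_centralizer_singleton_iff x₂ k).1 hk.2.2
      rw [hx, ← mul_assoc, c1, mul_assoc, c2, mul_assoc]
    · exact le_inf hZA₁ hZA₂
  generalize hMdef : H ⊓ Subgroup.centralizer ({h} : Set G) = M at *
  generalize hA₁def : M ⊓ Subgroup.centralizer ({x₁} : Set G) = A₁ at *
  by_cases hx₂1 : x₂ = 1
  · have hA₂ : M ⊓ Subgroup.centralizer ({x₂} : Set G) = M := by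
      rw [hx₂1]
      apply inf_eq_left.2
      intro k _
      exact (mem_centralizer_singleton_iff 1 k).2 (by rw [mul_one, one_mul])
    rw [hA₂] at hinf
    have hA₁M : A₁ ≤ M := by rw [← hA₁def]; exact inf_le_left
    rw [inf_eq_left.2 hA₁M] at hinf
    rw [hinf, Subgroup.relIndex_self] at hB
    omega
  · have hO := relIndex_add_one_le V H hVab hVH h hh hcop x₂ hx₂ hx₂1
    rw [hMdef] at hO
    generalize hA₂def : M ⊓ Subgroup.centralizer ({x₂} : Set G) = A₂ at *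
    have hA₁M : A₁ ≤ M := by rw [← hA₁def]; exact inf_le_left
    have hA₂M : A₂ ≤ M := by rw [← hA₂def]; exact inf_le_left
    have e1 := Subgroup.relIndex_mul_relIndex (Subgroup.center G) A₂ M hZA₂ hA₂M
    have e2 := Subgroup.relIndex_mul_relIndex (Subgroup.center G) A₁ M hZA₁ hA₁M
    have e3 : (Subgroup.center G).relIndex A₂ = A₁.relIndex A₂ := by
      rw [← hinf, Subgroup.inf_relIndex_right]
    have e4 : A₁.relIndex A₂ ≤ A₁.relIndex M :=
      Subgroup.relIndex_le_of_le_right hA₂M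
        (Subgroup.index_ne_zero_of_finite (H := A₁.subgroupOf M))
    have rpos : 0 < (Subgroup.center G).relIndex A₂ :=
      Nat.pos_of_ne_zero (Subgroup.index_ne_zero_of_finite (H := (Subgroup.center G).subgroupOf A₂))
    have h1 : Nat.card ↥(II V hVab h) * (Subgroup.center G).relIndex A₂ ≤
        (Subgroup.center G).relIndex A₁ * A₁.relIndex M :=
      Nat.mul_le_mul hB (e3 ▸ e4)
    rw [e2, ← e1] at h1
    have h2 : A₂.relIndex M ≤ Nat.card ↥(II V hVab h) - 1 := by omega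
    have h3 : (Subgroup.center G).relIndex A₂ * A₂.relIndex M ≤
        (Subgroup.center G).relIndex A₂ * (Nat.card ↥(II V hVab h) - 1) :=
      Nat.mul_le_mul_left _ h2
    have h4 : (Subgroup.center G).relIndex A₂ * (Nat.card ↥(II V hVab h) - 1) <
        (Subgroup.center G).relIndex A₂ * Nat.card ↥(II V hVab h) :=
      Nat.mul_lt_mul_of_pos_left (by omega) rpos
    have h5 := lt_of_le_of_lt (h1.trans h3) h4
    rw [mul_comm] at h5
    exact lt_irrefl _ h5

end Cfsg.Agent.Lib.Helper5.CountTrick
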