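import Mathlib

/-!
# Counting solutions of `x ⬝ y = g z` over a finite field (helper5's shared lemmas)
-/

set_option autoImplicit false

namespace Cfsg.Agent.Lib.Helper5.Count

open Matrix

variable {F : Type*} [Field F] [Fintype F]

/-- the number of solutions `y` of `x ⬝ y = c` for `x ≠ 0`. -/
theorem card_dotProduct_eq (k : ℕ) (x : Fin k → F) (hx : x ≠ 0) (c : F) :
    Nat.card {y : Fin k → F // x ⬝ᵥ y = c} = Fintype.card F ^ (k - 1) := by
  classical
  -- the linear functional
  let φ : (Fin k → F) →ₗ[F] F :=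
    { toFun := fun y => x ⬝ᵥ y
      map_add' := fun y y' => dotProduct_add x y y'
      map_smul' := fun a y => by simp [dotProduct_smul] }
  obtain ⟨i, hi⟩ : ∃ i, x i ≠ 0 := by
    by_contra hcon
    push Not at hcon
    exact hx (funext hcon)
  have hsurj : Function.Surjective φ := by
    intro a
    refine ⟨Pi.single i (a / x i), ?_⟩
    change x ⬝ᵥ Pi.single i (a / x i) = a
    rw [dotProduct_single]
    field_simp
  -- kernel has dimension k - 1
  have hker : Module.finrank F (LinearMap.ker φ) = k - 1 := by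
    have h1 := LinearMap.finrank_range_add_finrank_ker φ
    rw [LinearMap.range_eq_top.2 hsurj, finrank_top, Module.finrank_self,
      Module.finrank_fintype_fun_eq_card, Fintype.card_fin] at h1
    omega
  have hcardker : Nat.card (LinearMap.ker φ) = Fintype.card F ^ (k - 1) := by
    rw [Nat.card_eq_fintype_card, Module.card_eq_pow_finrank (K := F), hker]
  obtain ⟨y0, hy0⟩ := hsurj c
  rw [← hcardker]
  refine Nat.card_congr ?_
  refine
    { toFun := fun y => ⟨y.1 - y0, by
        rw [LinearMap.mem_ker, map_sub, hy0]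
        change x ⬝ᵥ y.1 - c = 0
        rw [y.2, sub_self]⟩
      invFun := fun z => ⟨z.1 + y0, by
        have := z.2
        rw [LinearMap.mem_ker] at this
        change φ (z.1 + y0) = c
        rw [map_add, this, hy0, zero_add]⟩
      left_inv := fun y => by simp
      right_inv := fun z => by simp }

end Cfsg.Agent.Lib.Helper5.Count

namespace Cfsg.Agent.Lib.Helper5.Count

open Matrix

variable {F : Type*} [Field F] [Fintype F]

open scoped Classical in
theorem card_zero_dotProduct_eq (k : ℕ) (c : F) :
    Nat.card {y : Fin k → F // (0 : Fin k → F) ⬝ᵥ y = c} =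
      if c = 0 then Fintype.card F ^ k else 0 := by
  classical
  split_ifs with h
  · subst h
    have : Nat.card {y : Fin k → F // (0 : Fin k → F) ⬝ᵥ y = 0} = Nat.card (Fin k → F) := by
      refine Nat.card_congr ?_
      exact (Equiv.subtypeUnivEquiv (fun y => by simp))
    rw [this, Nat.card_eq_fintype_card, Fintype.card_fun, Fintype.card_fin]
  · have : IsEmpty {y : Fin k → F // (0 : Fin k → F) ⬝ᵥ y = c} := by
      constructor
      rintro ⟨y, hy⟩
      rw [zero_dotProduct] at hy
      exact h hy.symm
    exact Nat.card_of_isEmpty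

/-- General count: triples `(x, y, z)` with `x ⬝ y = g z`. -/
theorem card_triples (k : ℕ) {Z : Type*} [Fintype Z] (g : Z → F) :
    Nat.card {p : (Fin k → F) × (Fin k → F) × Z // p.1 ⬝ᵥ p.2.1 = g p.2.2} =
      Fintype.card Z * (Fintype.card F ^ k - 1) * Fintype.card F ^ (k - 1)
        + Nat.card {z : Z // g z = 0} * Fintype.card F ^ k := by
  classical
  -- rewrite as a sigma type over `(x, z)`
  have e : {p : (Fin k → F) × (Fin k → F) × Z // p.1 ⬝ᵥ p.2.1 = g p.2.2} ≃
      Σ xz : (Fin k → F) × Z, {y : Fin k → F // xz.1 ⬝ᵥ y = g xz.2} :=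
    { toFun := fun p => ⟨(p.1.1, p.1.2.2), ⟨p.1.2.1, p.2⟩⟩
      invFun := fun s => ⟨(s.1.1, s.2.1, s.1.2), s.2.2⟩
      left_inv := fun p => by rfl
      right_inv := fun s => by rfl }
  rw [Nat.card_congr e, Nat.card_sigma]
  rw [Fintype.sum_prod_type]
  -- split off `x = 0`
  rw [← Finset.add_sum_erase Finset.univ _ (Finset.mem_univ (0 : Fin k → F))]
  have h0 : ∑ z : Z, Nat.card {y : Fin k → F // ((0 : Fin k → F), z).1 ⬝ᵥ y = g ((0 : Fin k → F), z).2}
      = Nat.card {z : Z // g z = 0} * Fintype.card F ^ k := by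
    simp only [card_zero_dotProduct_eq]
    have hc : Nat.card {z : Z // g z = 0} = (Finset.univ.filter (fun z => g z = 0)).card := by
      rw [Nat.card_eq_fintype_card, Fintype.card_subtype]
    rw [hc, Finset.sum_ite, Finset.sum_const_zero, add_zero, Finset.sum_const, smul_eq_mul]
  have h1 : ∀ x ∈ (Finset.univ : Finset (Fin k → F)).erase 0,
      ∑ z : Z, Nat.card {y : Fin k → F // (x, z).1 ⬝ᵥ y = g (x, z).2}
        = Fintype.card Z * Fintype.card F ^ (k - 1) := by
    intro x hx
    have hx0 : x ≠ 0 := (Finset.mem_erase.1 hx).1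
    simp only [card_dotProduct_eq k x hx0]
    rw [Finset.sum_const, smul_eq_mul, Finset.card_univ]
  rw [h0, Finset.sum_congr rfl h1, Finset.sum_const, smul_eq_mul, Finset.card_erase_of_mem
    (Finset.mem_univ _), Finset.card_univ, Fintype.card_fun, Fintype.card_fin]
  ring

end Cfsg.Agent.Lib.Helper5.Count
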