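import Mathlib
import Cfsg.Agent.S0750
import Cfsg.Agent.Lib.Helper5.SympCount
import Cfsg.Agent.Lib.Helper5.Count

/-!
# Counting hyperbolic frames in quadratic spaces (helper5's shared lemmas)
-/

set_option autoImplicit false

namespace Cfsg.Agent.Lib.Helper5.QuadCount

open Cfsg.Agent.S0750

universe u v

section
variable {F : Type v} {V : Type u} [Field F] [Finite F] [AddCommGroup V] [Module F V]
  [FiniteDimensional F V] (Q : QuadraticForm F V)

/-- the partners of a singular vector -/
noncomputable def partnerEquiv {e : V} (he : Q e = 0) :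
    {f : V // QuadraticMap.polarBilin Q e f = 1} ≃
      {f : V // Q f = 0 ∧ QuadraticMap.polarBilin Q e f = 1} × F where
  toFun f := (⟨f.1 - Q f.1 • e, by
    have hfe : QuadraticMap.polarBilin Q f.1 e = 1 := by rw [B_comm, f.2]
    constructor
    · rw [sub_eq_add_neg, ← neg_smul, Q_add_smul, he, hfe]; ring
    · rw [map_sub, map_smul, f.2, B_self, he]; simp⟩, Q f.1)
  invFun p := ⟨p.1.1 + p.2 • e, by
    rw [map_add, map_smul, p.1.2.2, B_self, he]; simp⟩
  left_inv f := by
    apply Subtype.ext
    simp
  right_inv p := by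
    have hfe : QuadraticMap.polarBilin Q p.1.1 e = 1 := by rw [B_comm, p.1.2.2]
    have hQ : Q (p.1.1 + p.2 • e) = p.2 := by
      rw [Q_add_smul, he, hfe, p.1.2.1]; ring
    apply Prod.ext
    · apply Subtype.ext
      simp only [hQ]
      abel
    · exact hQ

theorem card_partner (n : ℕ) (hn : Module.finrank F V = n + 2)
    (hQ : (QuadraticMap.polarBilin Q).Nondegenerate) {e : V} (he : Q e = 0) (he0 : e ≠ 0) :
    Nat.card {f : V // Q f = 0 ∧ QuadraticMap.polarBilin Q e f = 1} = Nat.card F ^ n := by
  have hne : QuadraticMap.polarBilin Q e ≠ 0 := fun h0 => he0 (hQ.1 e (fun y => by rw [h0]; rfl))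
  have h1 := Cfsg.Agent.Lib.Helper5.SympCount.card_fiber (QuadraticMap.polarBilin Q e) hne 1
  have hV : Nat.card V = Nat.card F ^ (n + 2) := by
    rw [Module.natCard_eq_pow_finrank (K := F), hn]
  rw [Nat.card_congr (partnerEquiv Q he), Nat.card_prod, hV] at h1
  have hq : 0 < Nat.card F := Nat.card_pos
  have h2 : Nat.card {f : V // Q f = 0 ∧ QuadraticMap.polarBilin Q e f = 1} * (Nat.card F * Nat.card F)
      = Nat.card F ^ n * (Nat.card F * Nat.card F) := by
    rw [← mul_assoc, h1]; ring
  exact Nat.eq_of_mul_eq_mul_right (Nat.mul_pos hq hq) h2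

/-- singular hyperbolic pairs -/
def IsHP (p : V × V) : Prop :=
  Q p.1 = 0 ∧ Q p.2 = 0 ∧ QuadraticMap.polarBilin Q p.1 p.2 = 1

theorem card_HP (n : ℕ) (hn : Module.finrank F V = n + 2)
    (hQ : (QuadraticMap.polarBilin Q).Nondegenerate) :
    Nat.card {p : V × V // IsHP Q p} =
      (Nat.card {v : V // Q v = 0} - 1) * Nat.card F ^ n := by
  classical
  have : Finite V := Module.finite_of_finite F
  have := Fintype.ofFinite V
  let e1 : {p : V × V // IsHP Q p} ≃
      Σ e : {e : V // Q e = 0 ∧ e ≠ 0}, {f : V // Q f = 0 ∧ QuadraticMap.polarBilin Q e.1 f = 1} :=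
    { toFun := fun p => ⟨⟨p.1.1, p.2.1, by
        rintro h0
        have := p.2.2.2
        rw [h0, map_zero, LinearMap.zero_apply] at this
        exact zero_ne_one this⟩, ⟨p.1.2, p.2.2.1, p.2.2.2⟩⟩
      invFun := fun s => ⟨(s.1.1, s.2.1), s.1.2.1, s.2.2.1, s.2.2.2⟩
      left_inv := fun p => rfl
      right_inv := fun s => rfl }
  rw [Nat.card_congr e1, Nat.card_sigma]
  rw [Finset.sum_congr rfl (fun e _ => card_partner Q n hn hQ e.2.1 e.2.2), Finset.sum_const,
    Finset.card_univ, smul_eq_mul, ← Nat.card_eq_fintype_card]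
  congr 1
  -- remove zero from the singular vectors
  have h0 : Q (0 : V) = 0 := map_zero Q
  let e2 : {v : V // Q v = 0} ≃ Option {e : V // Q e = 0 ∧ e ≠ 0} :=
    { toFun := fun v => if h : v.1 = 0 then none else some ⟨v.1, v.2, h⟩
      invFun := fun o => match o with
        | none => ⟨0, h0⟩
        | some e => ⟨e.1, e.2.1⟩
      left_inv := fun v => by
        by_cases h : v.1 = 0
        · simp only [h, dite_true]
          exact Subtype.ext h.symm
        · simp only [h, dite_false]
      right_inv := fun o => by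
        match o with
        | none => simp
        | some e => simp [e.2.2] }
  have h3 : Nat.card (Option {e : V // Q e = 0 ∧ e ≠ 0}) =
      Fintype.card {e : V // Q e = 0 ∧ e ≠ 0} + 1 := by
    rw [Nat.card_eq_fintype_card, Fintype.card_option]
  rw [Nat.card_congr e2, h3, Nat.add_sub_cancel, Nat.card_eq_fintype_card]

end

section perp
variable {F : Type v} {V : Type u} [Field F] [AddCommGroup V] [Module F V] (Q : QuadraticForm F V)

/-- the orthogonal complement of a pair -/
def perp (e f : V) : Submodule F V :=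
  LinearMap.ker ((QuadraticMap.polarBilin Q e).prod (QuadraticMap.polarBilin Q f))

theorem mem_perp (e f x : V) :
    x ∈ perp Q e f ↔ QuadraticMap.polarBilin Q e x = 0 ∧ QuadraticMap.polarBilin Q f x = 0 := by
  simp [perp, LinearMap.mem_ker]

/-- the restricted form -/
def restr (e f : V) : QuadraticForm F (perp Q e f) := Q.comp (perp Q e f).subtype

theorem restr_apply (e f : V) (w : perp Q e f) : restr Q e f w = Q (w : V) := rfl

theorem restr_polar (e f : V) (w w' : perp Q e f) :
    QuadraticMap.polarBilin (restr Q e f) w w' = QuadraticMap.polarBilin Q (w : V) (w' : V) := by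
  rw [B_apply, B_apply]; rfl

variable {Q}

theorem IsHP.symm {e f : V} (hp : IsHP Q (e, f)) : QuadraticMap.polarBilin Q f e = 1 := by
  rw [B_comm]; exact hp.2.2

theorem IsHP.self_left {e f : V} (hp : IsHP Q (e, f)) : QuadraticMap.polarBilin Q e e = 0 := by
  rw [B_self, hp.1, mul_zero]

theorem IsHP.self_right {e f : V} (hp : IsHP Q (e, f)) : QuadraticMap.polarBilin Q f f = 0 := by
  rw [B_self, hp.2.1, mul_zero]

theorem proj_mem_perp {e f : V} (hp : IsHP Q (e, f)) (x : V) :
    x - (QuadraticMap.polarBilin Q f x) • e - (QuadraticMap.polarBilin Q e x) • f ∈ perp Q e f := by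
  rw [mem_perp]
  have h1 : QuadraticMap.polarBilin Q e f = 1 := hp.2.2
  constructor
  · simp only [map_sub, map_smul, smul_eq_mul, hp.self_left, h1]; ring
  · simp only [map_sub, map_smul, smul_eq_mul, hp.self_right, hp.symm]; ring

theorem finrank_perp [FiniteDimensional F V] {e f : V} (hp : IsHP Q (e, f)) :
    Module.finrank F (perp Q e f) + 2 = Module.finrank F V := by
  have h1 : QuadraticMap.polarBilin Q e f = 1 := hp.2.2
  have hφ : Function.Surjective
      ((QuadraticMap.polarBilin Q e).prod (QuadraticMap.polarBilin Q f)) := by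
    rintro ⟨a, b⟩
    refine ⟨a • f + b • e, ?_⟩
    apply Prod.ext
    · change QuadraticMap.polarBilin Q e (a • f + b • e) = a
      simp only [map_add, map_smul, smul_eq_mul, h1, hp.self_left]; ring
    · change QuadraticMap.polarBilin Q f (a • f + b • e) = b
      simp only [map_add, map_smul, smul_eq_mul, hp.symm, hp.self_right]; ring
  have := LinearMap.finrank_range_add_finrank_ker
    ((QuadraticMap.polarBilin Q e).prod (QuadraticMap.polarBilin Q f))
  rw [LinearMap.range_eq_top.2 hφ] at this
  simp at this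
  change 2 + Module.finrank F (perp Q e f) = Module.finrank F V at this
  omega

theorem restr_nondegenerate (hQ : (QuadraticMap.polarBilin Q).Nondegenerate) {e f : V}
    (hp : IsHP Q (e, f)) : (QuadraticMap.polarBilin (restr Q e f)).Nondegenerate := by
  have key : ∀ w : perp Q e f,
      (∀ w' : perp Q e f, QuadraticMap.polarBilin (restr Q e f) w w' = 0) → w = 0 := by
    intro w hw
    have : (w : V) = 0 := by
      apply hQ.1
      intro x
      have hx := proj_mem_perp hp x
      have h1 := hw ⟨_, hx⟩
      rw [restr_polar] at h1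
      have hwe : QuadraticMap.polarBilin Q (w : V) e = 0 := by
        rw [B_comm]; exact ((mem_perp Q e f w).1 w.2).1
      have hwf : QuadraticMap.polarBilin Q (w : V) f = 0 := by
        rw [B_comm]; exact ((mem_perp Q e f w).1 w.2).2
      simp only [map_sub, map_smul, hwe, hwf, smul_zero, sub_zero] at h1
      exact h1
    exact Subtype.ext this
  constructor
  · intro w hw
    exact key w hw
  · intro w hw
    apply key w
    intro w'
    have := hw w'
    rw [B_comm]
    exact this

/-- decomposition of the space along a hyperbolic pair -/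
noncomputable def decomp {e f : V} (hp : IsHP Q (e, f)) : V ≃ F × F × perp Q e f where
  toFun x := (QuadraticMap.polarBilin Q f x, QuadraticMap.polarBilin Q e x, ⟨_, proj_mem_perp hp x⟩)
  invFun t := t.1 • e + t.2.1 • f + (t.2.2 : V)
  left_inv x := by simp
  right_inv t := by
    obtain ⟨a, b, w⟩ := t
    have hwe := ((mem_perp Q e f w).1 w.2).1
    have hwf := ((mem_perp Q e f w).1 w.2).2
    have h1 : QuadraticMap.polarBilin Q e f = 1 := hp.2.2
    have ha : QuadraticMap.polarBilin Q f (a • e + b • f + (w : V)) = a := by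
      simp only [map_add, map_smul, smul_eq_mul, hp.symm, hp.self_right, hwf]; ring
    have hb : QuadraticMap.polarBilin Q e (a • e + b • f + (w : V)) = b := by
      simp only [map_add, map_smul, smul_eq_mul, h1, hp.self_left, hwe]; ring
    refine Prod.ext ha (Prod.ext hb (Subtype.ext ?_))
    simp only [ha, hb]
    abel

theorem Q_decomp {e f : V} (hp : IsHP Q (e, f)) (a b : F) (w : perp Q e f) :
    Q (a • e + b • f + (w : V)) = a * b + Q (w : V) := by
  have hwe := ((mem_perp Q e f w).1 w.2).1
  have hwf := ((mem_perp Q e f w).1 w.2).2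
  have h1 : QuadraticMap.polarBilin Q e f = 1 := hp.2.2
  rw [Q_add, Q_add, Q_smul, Q_smul, hp.1, hp.2.1]
  simp only [map_add, map_smul, LinearMap.add_apply, LinearMap.smul_apply, smul_eq_mul, h1, hwe,
    hwf]
  ring

theorem card_zero_eq [Finite F] [FiniteDimensional F V] {e f : V} (hp : IsHP Q (e, f)) :
    Nat.card {v : V // Q v = 0} =
      Nat.card F * Nat.card {w : perp Q e f // restr Q e f w = 0} +
        (Nat.card F - 1) * Nat.card (perp Q e f) := by
  classical
  have := Fintype.ofFinite F
  have : Finite V := Module.finite_of_finite F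
  have := Fintype.ofFinite (perp Q e f)
  let e1 : {t : F × F × perp Q e f // t.1 * t.2.1 + Q (t.2.2 : V) = 0} ≃ {v : V // Q v = 0} :=
    Equiv.subtypeEquiv (decomp hp).symm (by
      rintro ⟨a, b, w⟩
      change a * b + Q (w : V) = 0 ↔ Q (a • e + b • f + (w : V)) = 0
      rw [Q_decomp hp])
  let e2 : {t : F × F × perp Q e f // t.1 * t.2.1 + Q (t.2.2 : V) = 0} ≃
      {p : (Fin 1 → F) × (Fin 1 → F) × perp Q e f //
        p.1 ⬝ᵥ p.2.1 = (fun w : perp Q e f => -Q (w : V)) p.2.2} :=
    { toFun := fun t => ⟨(fun _ => t.1.1, fun _ => t.1.2.1, t.1.2.2), by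
        simp only [dotProduct, Fin.sum_univ_one]
        linear_combination t.2⟩
      invFun := fun p => ⟨(p.1.1 0, p.1.2.1 0, p.1.2.2), by
        have := p.2
        simp only [dotProduct, Fin.sum_univ_one] at this
        change p.1.1 0 * p.1.2.1 0 + Q (p.1.2.2 : V) = 0
        linear_combination this⟩
      left_inv := fun t => rfl
      right_inv := fun p => by
        apply Subtype.ext
        refine Prod.ext ?_ (Prod.ext ?_ rfl)
        · funext i; fin_cases i; rfl
        · funext i; fin_cases i; rfl }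
  rw [← Nat.card_congr e1, Nat.card_congr e2,
    Cfsg.Agent.Lib.Helper5.Count.card_triples 1 (fun w : perp Q e f => -Q (w : V))]
  have h3 : Nat.card {z : perp Q e f // (fun w : perp Q e f => -Q (w : V)) z = 0} =
      Nat.card {w : perp Q e f // restr Q e f w = 0} := by
    apply Nat.card_congr
    exact Equiv.subtypeEquivRight (fun w => by rw [restr_apply]; exact neg_eq_zero)
  rw [h3, Nat.card_eq_fintype_card (α := F), Nat.card_eq_fintype_card (α := perp Q e f)]
  simp only [pow_one, Nat.sub_self, pow_zero, mul_one]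
  ring

end perp

section frames
variable {F : Type v} {V : Type u} [Field F] [AddCommGroup V] [Module F V] (Q : QuadraticForm F V)

/-- hyperbolic families `(e_i, f_i)` of singular vectors -/
def IsHB (k : ℕ) (p : (Fin k → V) × (Fin k → V)) : Prop :=
  (∀ i j, QuadraticMap.polarBilin Q (p.1 i) (p.2 j) = if i = j then 1 else 0) ∧
    (∀ i j, QuadraticMap.polarBilin Q (p.1 i) (p.1 j) = 0) ∧
    (∀ i j, QuadraticMap.polarBilin Q (p.2 i) (p.2 j) = 0) ∧
    (∀ i, Q (p.1 i) = 0) ∧ (∀ i, Q (p.2 i) = 0)

/-- the type of hyperbolic families of length `k` -/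
abbrev HB (k : ℕ) : Type u := {p : (Fin k → V) × (Fin k → V) // IsHB Q k p}

/-- first pair of a hyperbolic family -/
def headPair (k : ℕ) (x : HB Q (k + 1)) : {p : V × V // IsHP Q p} :=
  ⟨(x.1.1 0, x.1.2 0), x.2.2.2.2.1 0, x.2.2.2.2.2 0, by have := x.2.1 0 0; simpa using this⟩

variable {Q}

theorem isHB_cons (k : ℕ) {e f : V} (hp : IsHP Q (e, f)) (y : HB (restr Q e f) k) :
    IsHB Q (k + 1) (Fin.cons e (fun i => (y.1.1 i : V)), Fin.cons f (fun i => (y.1.2 i : V))) := by
  have hbe : ∀ w : perp Q e f, QuadraticMap.polarBilin Q e w = 0 :=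
    fun w => ((mem_perp Q e f w).1 w.2).1
  have hbf : ∀ w : perp Q e f, QuadraticMap.polarBilin Q f w = 0 :=
    fun w => ((mem_perp Q e f w).1 w.2).2
  have hbe' : ∀ w : perp Q e f, QuadraticMap.polarBilin Q (w : V) e = 0 :=
    fun w => by rw [B_comm, hbe]
  have hbf' : ∀ w : perp Q e f, QuadraticMap.polarBilin Q (w : V) f = 0 :=
    fun w => by rw [B_comm, hbf]
  obtain ⟨h1, h2, h3, h4, h5⟩ := y.2
  refine ⟨?_, ?_, ?_, ?_, ?_⟩
  · intro i j
    refine Fin.cases ?_ (fun i => ?_) i <;> refine Fin.cases ?_ (fun j => ?_) j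
    · simpa using hp.2.2
    · simp only [Fin.cons_zero, Fin.cons_succ]
      rw [hbe, if_neg (Fin.succ_ne_zero j).symm]
    · simp only [Fin.cons_zero, Fin.cons_succ]
      rw [hbf', if_neg (Fin.succ_ne_zero i)]
    · simp only [Fin.cons_succ, Fin.succ_inj]
      rw [← restr_polar]
      exact h1 i j
  · intro i j
    refine Fin.cases ?_ (fun i => ?_) i <;> refine Fin.cases ?_ (fun j => ?_) j
    · simpa using hp.self_left
    · simp only [Fin.cons_zero, Fin.cons_succ]; exact hbe _
    · simp only [Fin.cons_zero, Fin.cons_succ]; exact hbe' _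
    · simp only [Fin.cons_succ]; rw [← restr_polar]; exact h2 i j
  · intro i j
    refine Fin.cases ?_ (fun i => ?_) i <;> refine Fin.cases ?_ (fun j => ?_) j
    · simpa using hp.self_right
    · simp only [Fin.cons_zero, Fin.cons_succ]; exact hbf _
    · simp only [Fin.cons_zero, Fin.cons_succ]; exact hbf' _
    · simp only [Fin.cons_succ]; rw [← restr_polar]; exact h3 i j
  · intro i
    refine Fin.cases ?_ (fun i => ?_) i
    · simpa using hp.1
    · simp only [Fin.cons_succ]; exact h4 i
  · intro i
    refine Fin.cases ?_ (fun i => ?_) i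
    · simpa using hp.2.1
    · simp only [Fin.cons_succ]; exact h5 i

/-- the fibre of `headPair` over a hyperbolic pair -/
def fiberEquiv (k : ℕ) (p : {p : V × V // IsHP Q p}) :
    {x : HB Q (k + 1) // headPair Q k x = p} ≃ HB (restr Q p.1.1 p.1.2) k where
  toFun x :=
    have he : x.1.1.1 0 = p.1.1 := congrArg (fun q => q.1.1) x.2
    have hf : x.1.1.2 0 = p.1.2 := congrArg (fun q => q.1.2) x.2
    ⟨(fun i => ⟨x.1.1.1 i.succ, by
        rw [mem_perp, ← he, ← hf]
        refine ⟨x.1.2.2.1 0 i.succ, ?_⟩
        rw [B_comm, x.1.2.1 i.succ 0, if_neg (Fin.succ_ne_zero i)]⟩,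
      fun i => ⟨x.1.1.2 i.succ, by
        rw [mem_perp, ← he, ← hf]
        refine ⟨?_, x.1.2.2.2.1 0 i.succ⟩
        rw [x.1.2.1 0 i.succ, if_neg (Fin.succ_ne_zero i).symm]⟩),
     ⟨fun i j => by
        rw [restr_polar]
        have := x.1.2.1 i.succ j.succ
        simpa [Fin.succ_inj] using this,
      fun i j => by rw [restr_polar]; exact x.1.2.2.1 i.succ j.succ,
      fun i j => by rw [restr_polar]; exact x.1.2.2.2.1 i.succ j.succ,
      fun i => x.1.2.2.2.2.1 i.succ, fun i => x.1.2.2.2.2.2 i.succ⟩⟩
  invFun y := ⟨⟨_, isHB_cons k p.2 y⟩, Subtype.ext rfl⟩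
  left_inv := by
    rintro ⟨⟨⟨E, Fv⟩, hx⟩, hp⟩
    have he : E 0 = p.1.1 := congrArg (fun q => q.1.1) hp
    have hf : Fv 0 = p.1.2 := congrArg (fun q => q.1.2) hp
    apply Subtype.ext
    apply Subtype.ext
    refine Prod.ext ?_ ?_
    · funext i
      refine Fin.cases ?_ (fun i => ?_) i
      · simp [he]
      · simp
    · funext i
      refine Fin.cases ?_ (fun i => ?_) i
      · simp [hf]
      · simp
  right_inv := by
    rintro ⟨⟨E, Fv⟩, hy⟩
    apply Subtype.ext
    refine Prod.ext ?_ ?_
    · funext i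
      apply Subtype.ext
      simp
    · funext i
      apply Subtype.ext
      simp

end frames

/-- number of hyperbolic families of length `k`, in terms of the numbers `ζ j` of singular vectors -/
theorem card_HB {F : Type v} [Field F] [Finite F] (d₀ : ℕ) (ζ : ℕ → ℕ)
    (hζ : ∀ j, ζ (j + 1) = Nat.card F * ζ j + (Nat.card F - 1) * Nat.card F ^ (d₀ + 2 * j)) :
    ∀ (k j : ℕ), k ≤ j → ∀ (V : Type u) [AddCommGroup V] [Module F V] [FiniteDimensional F V]
    (Q : QuadraticForm F V), (QuadraticMap.polarBilin Q).Nondegenerate →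
    Module.finrank F V = d₀ + 2 * j → Nat.card {v : V // Q v = 0} = ζ j →
    Nat.card (HB Q k) =
      ∏ i ∈ Finset.range k, ((ζ (j - i) - 1) * Nat.card F ^ (d₀ + 2 * (j - i - 1))) := by
  intro k
  induction k with
  | zero =>
    intro j _ V _ _ _ Q _ _ _
    rw [Finset.range_zero, Finset.prod_empty]
    have : Unique (HB Q 0) :=
      { default := ⟨(Fin.elim0, Fin.elim0), fun i => i.elim0, fun i => i.elim0, fun i => i.elim0,
          fun i => i.elim0, fun i => i.elim0⟩
        uniq := fun x => Subtype.ext (Prod.ext (funext fun i => i.elim0) (funext fun i => i.elim0)) }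
    exact Nat.card_unique
  | succ k ih =>
    intro j hkj V _ _ _ Q hQ hn hz
    obtain ⟨j', rfl⟩ : ∃ j', j = j' + 1 := ⟨j - 1, by omega⟩
    have : Finite V := Module.finite_of_finite F
    have := Fintype.ofFinite {p : V × V // IsHP Q p}
    have hq : 0 < Nat.card F := Nat.card_pos
    rw [← Nat.card_congr (Equiv.sigmaFiberEquiv (headPair Q k)), Nat.card_sigma]
    have hfib : ∀ p : {p : V × V // IsHP Q p},
        Nat.card {x : HB Q (k + 1) // headPair Q k x = p} =
          ∏ i ∈ Finset.range k, ((ζ (j' - i) - 1) * Nat.card F ^ (d₀ + 2 * (j' - i - 1))) := by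
      intro p
      obtain ⟨⟨e, f⟩, hp⟩ := p
      rw [Nat.card_congr (fiberEquiv k ⟨(e, f), hp⟩)]
      change Nat.card (HB (restr Q e f) k) = _
      have hfr := finrank_perp hp
      have hfr' : Module.finrank F (perp Q e f) = d₀ + 2 * j' := by omega
      apply ih j' (by omega) _ _ (restr_nondegenerate hQ hp) hfr'
      have h1 := card_zero_eq hp
      rw [hz, hζ j', Module.natCard_eq_pow_finrank (K := F) (V := perp Q e f), hfr'] at h1
      have h2 : Nat.card F * ζ j' =
          Nat.card F * Nat.card {w : perp Q e f // restr Q e f w = 0} := by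
        omega
      exact (Nat.eq_of_mul_eq_mul_left hq h2).symm
    rw [Finset.sum_congr rfl (fun p _ => hfib p), Finset.sum_const, Finset.card_univ, smul_eq_mul,
      ← Nat.card_eq_fintype_card, card_HP Q (d₀ + 2 * j') (by omega) hQ, hz,
      Finset.prod_range_succ']
    simp only [Nat.sub_zero, Nat.add_sub_cancel, Nat.add_sub_add_right]
    rw [mul_comm]

end Cfsg.Agent.Lib.Helper5.QuadCount
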