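import Mathlib
import Cfsg.Prelude.Def_Classical
import Cfsg.Agent.S0750

/-!
# Isometries of a quadratic form on `ι → F` as frames (helper5's shared lemmas)
-/

set_option autoImplicit false

namespace Cfsg.Agent.Lib.Helper5.QuadFrames

open Cfsg.Agent.S0750 Matrix

section
variable {F : Type*} [Field F] {ι : Type} [Fintype ι] [DecidableEq ι]
  (Q : QuadraticForm F (ι → F))

/-- the polar form of `Q ∘ M` -/
theorem polar_mulVec_of_basis (M : Matrix ι ι F)
    (h2 : ∀ c c', QuadraticMap.polarBilin Q (M *ᵥ Pi.single c 1) (M *ᵥ Pi.single c' 1) =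
      QuadraticMap.polarBilin Q (Pi.single c 1) (Pi.single c' 1)) (u v : ι → F) :
    QuadraticMap.polarBilin Q (M *ᵥ u) (M *ᵥ v) = QuadraticMap.polarBilin Q u v := by
  have h : LinearMap.compl₁₂ (QuadraticMap.polarBilin Q) (Matrix.toLin' M) (Matrix.toLin' M) =
      QuadraticMap.polarBilin Q := by
    apply LinearMap.BilinForm.ext_basis (Pi.basisFun F ι)
    intro i j
    rw [Pi.basisFun_apply, Pi.basisFun_apply, LinearMap.compl₁₂_apply, Matrix.toLin'_apply,
      Matrix.toLin'_apply]
    exact h2 i j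
  have := congrArg (fun B : LinearMap.BilinForm F (ι → F) => B u v) h
  simpa [LinearMap.compl₁₂_apply] using this

/-- a matrix preserving the form data of the standard basis is an isometry -/
theorem isometry_of_basis (M : Matrix ι ι F)
    (h1 : ∀ c, Q (M *ᵥ Pi.single c 1) = Q (Pi.single c 1))
    (h2 : ∀ c c', QuadraticMap.polarBilin Q (M *ᵥ Pi.single c 1) (M *ᵥ Pi.single c' 1) =
      QuadraticMap.polarBilin Q (Pi.single c 1) (Pi.single c' 1)) (v : ι → F) :
    Q (M *ᵥ v) = Q v := by
  have hadd : ∀ u w : ι → F, Q (M *ᵥ (u + w)) - Q (u + w) =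
      (Q (M *ᵥ u) - Q u) + (Q (M *ᵥ w) - Q w) := by
    intro u w
    rw [Matrix.mulVec_add, Q_add, Q_add, polar_mulVec_of_basis Q M h2]
    ring
  let d : (ι → F) →+ F := AddMonoidHom.mk' (fun u => Q (M *ᵥ u) - Q u) hadd
  have hd : ∀ u, d u = Q (M *ᵥ u) - Q u := fun u => rfl
  have hv : v = ∑ c, v c • (Pi.single c 1 : ι → F) := by
    conv_lhs => rw [pi_eq_sum_univ v]
    apply Finset.sum_congr rfl
    intro c _
    congr 1
    funext j
    simp [Pi.single_apply, eq_comm]
  have h0 : d v = 0 := by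
    rw [hv, map_sum]
    apply Finset.sum_eq_zero
    intro c _
    rw [hd, Matrix.mulVec_smul, Q_smul, Q_smul, h1, sub_self]
  rw [hd] at h0
  exact sub_eq_zero.1 h0

/-- frames: families with the form data of the standard basis -/
def IsFrame (x : ι → (ι → F)) : Prop :=
  (∀ c, Q (x c) = Q (Pi.single c 1)) ∧
    ∀ c c', QuadraticMap.polarBilin Q (x c) (x c') =
      QuadraticMap.polarBilin Q (Pi.single c 1) (Pi.single c' 1)

theorem mem_isometryGroup (g : GL ι F) :
    g ∈ Cfsg.isometryGroup F (⇑Q) ↔ ∀ v, Q (g.1 *ᵥ v) = Q v := by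
  constructor
  · intro h v
    exact h v v
  · intro h u _
    exact h u

theorem isFrame_cols (g : Cfsg.isometryGroup F (⇑Q)) :
    IsFrame Q (fun c => g.1.1 *ᵥ Pi.single c 1) := by
  have hg := (mem_isometryGroup Q g.1).1 g.2
  refine ⟨fun c => hg _, fun c c' => ?_⟩
  rw [B_apply, B_apply, ← Matrix.mulVec_add, hg, hg, hg]

variable (hQ : (QuadraticMap.polarBilin Q).Nondegenerate)

include hQ in
theorem isUnit_of_isFrame (x : ι → (ι → F)) (hx : IsFrame Q x) :
    IsUnit (Matrix.of (fun r c => x c r) : Matrix ι ι F).det := by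
  set M : Matrix ι ι F := Matrix.of (fun r c => x c r) with hM
  have hcol : ∀ c, M *ᵥ Pi.single c 1 = x c := by
    intro c
    rw [Matrix.mulVec_single_one]; rfl
  have hiso : ∀ v, Q (M *ᵥ v) = Q v := by
    apply isometry_of_basis Q M
    · intro c; rw [hcol]; exact hx.1 c
    · intro c c'; rw [hcol, hcol]; exact hx.2 c c'
  rw [← Matrix.isUnit_iff_isUnit_det, ← Matrix.mulVec_injective_iff_isUnit]
  have := injective_of_isometry Q hQ (Matrix.toLin' M) (fun v => by
    rw [Matrix.toLin'_apply]; exact hiso v)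
  intro u w huw
  apply this
  rw [Matrix.toLin'_apply, Matrix.toLin'_apply]
  exact huw

/-- isometries are frames -/
noncomputable def equivFrame :
    Cfsg.isometryGroup F (⇑Q) ≃ {x : ι → (ι → F) // IsFrame Q x} where
  toFun g := ⟨fun c => g.1.1 *ᵥ Pi.single c 1, isFrame_cols Q g⟩
  invFun x := ⟨Matrix.GeneralLinearGroup.mk'' (Matrix.of (fun r c => x.1 c r))
      (isUnit_of_isFrame Q hQ x.1 x.2), by
    rw [mem_isometryGroup]
    have hcol : ∀ c, (Matrix.of (fun r c => x.1 c r) : Matrix ι ι F) *ᵥ Pi.single c 1 = x.1 c := by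
      intro c
      rw [Matrix.mulVec_single_one]; rfl
    apply isometry_of_basis Q
    · intro c
      change Q ((Matrix.of (fun r c => x.1 c r) : Matrix ι ι F) *ᵥ Pi.single c 1) = _
      rw [hcol]; exact x.2.1 c
    · intro c c'
      change QuadraticMap.polarBilin Q
        ((Matrix.of (fun r c => x.1 c r) : Matrix ι ι F) *ᵥ Pi.single c 1)
        ((Matrix.of (fun r c => x.1 c r) : Matrix ι ι F) *ᵥ Pi.single c' 1) = _
      rw [hcol, hcol]; exact x.2.2 c c'⟩
  left_inv g := by
    apply Subtype.ext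
    apply Units.ext
    ext r c
    change (g.1.1 *ᵥ Pi.single c 1) r = g.1.1 r c
    rw [Matrix.mulVec_single_one]; rfl
  right_inv x := by
    apply Subtype.ext
    funext c
    change (Matrix.of (fun r c => x.1 c r) : Matrix ι ι F) *ᵥ Pi.single c 1 = x.1 c
    rw [Matrix.mulVec_single_one]; rfl

end

end Cfsg.Agent.Lib.Helper5.QuadFrames
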