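import Mathlib
import Cfsg.Agent.S0750
import Cfsg.Agent.Lib.Helper5.QuadCount

/-!
# Witt's lemma for families and hyperbolic frames (helper5's shared lemmas)
-/

set_option autoImplicit false

namespace Cfsg.Agent.Lib.Helper5.QuadWitt

open Cfsg.Agent.S0750 Cfsg.Agent.Lib.Helper5.QuadCount

universe u v

section
variable {F : Type v} [Field F] {κ : Type} [Fintype κ] [DecidableEq κ]

/-- two quadratic forms on `κ → F` with the same data on the standard basis agree -/
theorem eq_of_basis (Q Q' : QuadraticForm F (κ → F))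
    (h1 : ∀ c, Q (Pi.single c 1) = Q' (Pi.single c 1))
    (h2 : ∀ c c', QuadraticMap.polarBilin Q (Pi.single c 1) (Pi.single c' 1) =
      QuadraticMap.polarBilin Q' (Pi.single c 1) (Pi.single c' 1)) (v : κ → F) :
    Q v = Q' v := by
  have hB : QuadraticMap.polarBilin Q = QuadraticMap.polarBilin Q' := by
    apply LinearMap.BilinForm.ext_basis (Pi.basisFun F κ)
    intro i j
    rw [Pi.basisFun_apply, Pi.basisFun_apply]
    exact h2 i j
  have hadd : ∀ u w : κ → F, Q (u + w) - Q' (u + w) = (Q u - Q' u) + (Q w - Q' w) := by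
    intro u w
    rw [Q_add, Q_add, hB]
    ring
  let d : (κ → F) →+ F := AddMonoidHom.mk' (fun u => Q u - Q' u) hadd
  have hd : ∀ u, d u = Q u - Q' u := fun u => rfl
  have hv : v = ∑ c, v c • (Pi.single c 1 : κ → F) := by
    conv_lhs => rw [pi_eq_sum_univ v]
    apply Finset.sum_congr rfl
    intro c _
    congr 1
    funext j
    simp [Pi.single_apply, eq_comm]
  have h0 : d v = 0 := by
    rw [hv, map_sum]
    apply Finset.sum_eq_zero
    intro c _
    rw [hd, Q_smul, Q_smul, h1, sub_self]
  rw [hd] at h0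
  exact sub_eq_zero.1 h0

variable {V : Type u} [AddCommGroup V] [Module F V] (Q : QuadraticForm F V)

/-- the form on linear combinations depends only on the form data of the family -/
theorem Q_linearCombination_eq (x y : κ → V) (h1 : ∀ k, Q (x k) = Q (y k))
    (h2 : ∀ k k', QuadraticMap.polarBilin Q (x k) (x k') = QuadraticMap.polarBilin Q (y k) (y k'))
    (c : κ → F) : Q (∑ k, c k • x k) = Q (∑ k, c k • y k) := by
  have hx : ∀ k, Fintype.linearCombination F x (Pi.single k 1) = x k := by
    intro k
    rw [Fintype.linearCombination_apply]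
    simp [Pi.single_apply, Finset.sum_ite_eq']
  have hy : ∀ k, Fintype.linearCombination F y (Pi.single k 1) = y k := by
    intro k
    rw [Fintype.linearCombination_apply]
    simp [Pi.single_apply, Finset.sum_ite_eq']
  have := eq_of_basis (Q.comp (Fintype.linearCombination F x))
    (Q.comp (Fintype.linearCombination F y))
    (by
      intro k
      rw [QuadraticMap.comp_apply, QuadraticMap.comp_apply, hx, hy]
      exact h1 k)
    (by
      intro k k'
      rw [B_apply, B_apply]
      simp only [QuadraticMap.comp_apply, map_add, hx, hy]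
      rw [← B_apply, ← B_apply]
      exact h2 k k') c
  rw [QuadraticMap.comp_apply, QuadraticMap.comp_apply, Fintype.linearCombination_apply,
    Fintype.linearCombination_apply] at this
  exact this

variable [FiniteDimensional F V] [Finite F]

/-- Witt's lemma for families -/
theorem witt_family (hQ : (QuadraticMap.polarBilin Q).Nondegenerate) (x y : κ → V)
    (hx : LinearIndependent F x) (hy : LinearIndependent F y) (h1 : ∀ k, Q (x k) = Q (y k))
    (h2 : ∀ k k', QuadraticMap.polarBilin Q (x k) (x k') = QuadraticMap.polarBilin Q (y k) (y k')) :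
    ∃ g : V ≃ₗ[F] V, (∀ v, Q (g v) = Q v) ∧ ∀ k, g (x k) = y k := by
  set bx := Module.Basis.span hx with hbx
  set bY := Module.Basis.span hy with hbY
  set φ := bx.equiv bY (Equiv.refl κ) with hφ
  have hbxk : ∀ k, ((bx k : Submodule.span F (Set.range x)) : V) = x k := fun k => by
    rw [hbx, Module.Basis.span_apply]
  have hbYk : ∀ k, ((bY k : Submodule.span F (Set.range y)) : V) = y k := fun k => by
    rw [hbY, Module.Basis.span_apply]
  have hiso : ∀ v : Submodule.span F (Set.range x), Q (φ v : V) = Q (v : V) := by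
    intro v
    have hv : v = ∑ k, bx.repr v k • bx k := (bx.sum_repr v).symm
    have hv1 : (v : V) = ∑ k, bx.repr v k • x k := by
      conv_lhs => rw [hv]
      rw [Submodule.coe_sum]
      apply Finset.sum_congr rfl
      intro k _
      rw [Submodule.coe_smul, hbxk]
    have hv2 : (φ v : V) = ∑ k, bx.repr v k • y k := by
      conv_lhs => rw [hv]
      rw [map_sum, Submodule.coe_sum]
      apply Finset.sum_congr rfl
      intro k _
      rw [map_smul, Submodule.coe_smul, hφ, Module.Basis.equiv_apply, Equiv.refl_apply, hbYk]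
    rw [hv1, hv2]
    exact (Q_linearCombination_eq Q x y h1 h2 _).symm
  obtain ⟨g, hg1, hg2⟩ := Cfsg.Agent.S0750.result Q hQ _ _ φ hiso
  refine ⟨g, hg1, fun k => ?_⟩
  have := hg2 (bx k)
  rw [hbxk, hφ, Module.Basis.equiv_apply, Equiv.refl_apply, hbYk] at this
  exact this

end

section frames
variable {F : Type v} [Field F] {V : Type u} [AddCommGroup V] [Module F V] (Q : QuadraticForm F V)

theorem HB_polar {k : ℕ} (p : HB Q k) (c c' : Fin k ⊕ Fin k) :
    QuadraticMap.polarBilin Q (Sum.elim p.1.1 p.1.2 c) (Sum.elim p.1.1 p.1.2 c') =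
      if c = Sum.swap c' then 1 else 0 := by
  obtain ⟨h1, h2, h3, h4, h5⟩ := p.2
  rcases c with i | i <;> rcases c' with j | j
  · simpa using h2 i j
  · simpa using h1 i j
  · simp only [Sum.elim_inr, Sum.elim_inl, Sum.swap_inl, Sum.inr.injEq]
    rw [B_comm, h1 j i]
    simp [eq_comm]
  · simpa using h3 i j

theorem HB_Q {k : ℕ} (p : HB Q k) (c : Fin k ⊕ Fin k) : Q (Sum.elim p.1.1 p.1.2 c) = 0 := by
  obtain ⟨h1, h2, h3, h4, h5⟩ := p.2
  rcases c with i | i
  · exact h4 i
  · exact h5 i

theorem HB_linearIndependent {k : ℕ} (p : HB Q k) :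
    LinearIndependent F (Sum.elim p.1.1 p.1.2 : Fin k ⊕ Fin k → V) := by
  classical
  rw [Fintype.linearIndependent_iff]
  intro g hg c
  have h := congrArg (fun w => QuadraticMap.polarBilin Q w (Sum.elim p.1.1 p.1.2 (Sum.swap c))) hg
  simp only [map_sum, map_smul, LinearMap.sum_apply, LinearMap.smul_apply, map_zero,
    LinearMap.zero_apply, HB_polar, Sum.swap_swap, smul_eq_mul, mul_ite, mul_one, mul_zero,
    Finset.sum_ite_eq', Finset.mem_univ, if_true] at h
  exact h

variable [FiniteDimensional F V] [Finite F]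

/-- the isometry group is transitive on hyperbolic frames -/
theorem exists_isometry_HB (hQ : (QuadraticMap.polarBilin Q).Nondegenerate) {k : ℕ}
    (p p' : HB Q k) :
    ∃ g : V ≃ₗ[F] V, (∀ v, Q (g v) = Q v) ∧ (∀ i, g (p.1.1 i) = p'.1.1 i) ∧
      (∀ i, g (p.1.2 i) = p'.1.2 i) := by
  classical
  obtain ⟨g, hg1, hg2⟩ := witt_family Q hQ (Sum.elim p.1.1 p.1.2) (Sum.elim p'.1.1 p'.1.2)
    (HB_linearIndependent Q p) (HB_linearIndependent Q p')
    (fun c => by rw [HB_Q, HB_Q]) (fun c c' => by rw [HB_polar, HB_polar])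
  exact ⟨g, hg1, fun i => hg2 (Sum.inl i), fun i => hg2 (Sum.inr i)⟩

end frames

end Cfsg.Agent.Lib.Helper5.QuadWitt
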