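import Cfsg.Agent.Lib.Helper5.AltEven
import Mathlib

/-!
# The radical of an alternating form has even codimension
-/

set_option autoImplicit false

namespace Cfsg.Agent.Lib.Helper5.AltEven

universe u v

variable {F : Type v} [Field F]

/-- the radical of an alternating form on a finite-dimensional space has even codimension -/
theorem finrank_eq_rad_add_even (U : Type u) [AddCommGroup U] [Module F U]
    [FiniteDimensional F U] (B : LinearMap.BilinForm F U) (hA : B.IsAlt) (R : Submodule F U)
    (hR : ∀ x, x ∈ R ↔ ∀ y, B x y = 0) :
    ∃ j, Module.finrank F U = Module.finrank F R + 2 * j := by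
  obtain ⟨W, hW⟩ := Submodule.exists_isCompl R
  have hWalt : (B.restrict W).IsAlt := fun x => hA x
  have key : ∀ w : W, (∀ w' : W, B w w' = 0) → w = 0 := by
    intro w hw
    have hwR : (w : U) ∈ R := by
      rw [hR]
      intro y
      have hy : y ∈ R ⊔ W := by rw [hW.sup_eq_top]; exact Submodule.mem_top
      obtain ⟨r, hr, w', hw', rfl⟩ := Submodule.mem_sup.1 hy
      rw [map_add]
      have h1 : B w r = 0 := by
        rw [← hA.neg_eq, (hR r).1 hr, neg_zero]
      rw [h1, hw ⟨w', hw'⟩, add_zero]
    have : (w : U) ∈ R ⊓ W := ⟨hwR, w.2⟩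
    rw [hW.inf_eq_bot, Submodule.mem_bot] at this
    exact Subtype.ext this
  have hnd : (B.restrict W).Nondegenerate := by
    constructor
    · intro w hw
      exact key w hw
    · intro w hw
      apply key w
      intro w'
      have := hw w'
      change B w' w = 0 at this
      change B w w' = 0
      rw [← hA.neg_eq, this, neg_zero]
  obtain ⟨j, hj⟩ := even_finrank_of_alt_nondeg _ W (B.restrict W) hWalt hnd rfl
  have h1 : Module.finrank F R + Module.finrank F W = Module.finrank F U :=
    Submodule.finrank_add_eq_of_isCompl hW
  exact ⟨j, by omega⟩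

end Cfsg.Agent.Lib.Helper5.AltEven
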