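import Mathlib

namespace Cfsg.Agent.Lib.Helper5.JointEigen

open Module
open scoped Matrix

variable {F V : Type*} [Field F] [AddCommGroup V] [Module F V]

theorem maxGen_eq (h2 : (2:F) ≠ 0) (f : End F V) (hf : f * f = 1) (μ : F) :
    f.maxGenEigenspace μ = f.eigenspace μ := by
  have hs : f.IsSemisimple := by
    apply Module.End.isSemisimple_of_squarefree_aeval_eq_zero
      (p := Polynomial.X ^ 2 - Polynomial.C 1)
    · exact (Polynomial.separable_X_pow_sub_C (1:F) (by simpa using h2) one_ne_zero).squarefree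
    · simp [pow_two, hf]
  exact hs.isFinitelySemisimple.maxGenEigenspace_eq_eigenspace μ

theorem eigen_top_of_invol (h2 : (2:F) ≠ 0) (f : End F V) (hf : f * f = 1) :
    ⨆ μ, f.maxGenEigenspace μ = ⊤ := by
  rw [eq_top_iff]
  intro v _
  have hfv : f (f v) = v := by
    have := LinearMap.congr_fun hf v
    simpa using this
  have h1 : (2:F)⁻¹ • (v + f v) ∈ f.maxGenEigenspace 1 := by
    rw [maxGen_eq h2 f hf, Module.End.mem_eigenspace_iff]
    simp [hfv, add_comm]
  have h3 : (2:F)⁻¹ • (v - f v) ∈ f.maxGenEigenspace (-1) := by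
    rw [maxGen_eq h2 f hf, Module.End.mem_eigenspace_iff]
    simp [hfv, smul_sub]
    abel
  have hv : v = (2:F)⁻¹ • (v + f v) + (2:F)⁻¹ • (v - f v) := by
    rw [← smul_add]
    have : v + f v + (v - f v) = (2:F) • v := by
      rw [two_smul]; abel
    rw [this, smul_smul, inv_mul_cancel₀ h2, one_smul]
  rw [hv]
  exact Submodule.add_mem _ (Submodule.mem_iSup_of_mem 1 h1) (Submodule.mem_iSup_of_mem (-1) h3)

theorem exists_joint_eigenbasis [FiniteDimensional F V] (h2 : (2:F) ≠ 0) {ι : Type*}
    (f : ι → End F V) (hcomm : ∀ i j, Commute (f i) (f j)) (hinv : ∀ i, f i * f i = 1) :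
    ∃ (b : Basis (Fin (finrank F V)) F V) (c : ι → Fin (finrank F V) → F),
      ∀ i j, f i (b j) = c i j • b j := by
  classical
  have htop :=
    Module.End.iSup_iInf_maxGenEigenspace_eq_top_of_iSup_maxGenEigenspace_eq_top_of_commute f
      (fun i j _ => hcomm i j) (fun i => eigen_top_of_invol h2 (f i) (hinv i))
  have hind := Module.End.independent_iInf_maxGenEigenspace_of_forall_mapsTo f
    (fun i j φ => Module.End.mapsTo_maxGenEigenspace_of_comm (hcomm j i) φ)
  have hint := DirectSum.isInternal_submodule_of_iSupIndep_of_iSup_eq_top hind htop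
  let W : (ι → F) → Submodule F V := fun χ => ⨅ i, (f i).maxGenEigenspace (χ i)
  let bs : ∀ χ, Basis (Fin (finrank F (W χ))) F (W χ) := fun χ => Module.finBasis F (W χ)
  let B := hint.collectedBasis bs
  have hfin : Finite (Σ χ, Fin (finrank F (W χ))) := Module.Finite.finite_basis B
  have : Fintype (Σ χ, Fin (finrank F (W χ))) := Fintype.ofFinite _
  have hcard : Fintype.card (Σ χ, Fin (finrank F (W χ))) = finrank F V :=
    (Module.finrank_eq_card_basis B).symm
  let e := Fintype.equivFinOfCardEq hcard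
  refine ⟨B.reindex e, fun i j => (e.symm j).1 i, ?_⟩
  intro i j
  rw [Basis.reindex_apply]
  have hmem : B (e.symm j) ∈ W (e.symm j).1 := hint.collectedBasis_mem bs _
  have := (Submodule.mem_iInf _).1 hmem i
  rw [maxGen_eq h2 _ (hinv i)] at this
  exact Module.End.mem_eigenspace_iff.1 this

theorem two_ne_zero_of_odd [Fintype F] (hF : Odd (Fintype.card F)) : (2:F) ≠ 0 := by
  intro h
  have h1 : ringChar F = 2 := CharP.ringChar_of_prime_eq_zero Nat.prime_two h
  have h2 := FiniteField.even_card_iff_char_two.1 h1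
  rw [Nat.odd_iff] at hF
  omega

/-- A commuting family of involutory matrices has a joint eigenbasis, with eigenvalues `±1`,
determinant the product of eigenvalues, and the eigenvalue vector determines the matrix. -/
theorem exists_eigenbasis_matrix {n : Type*} [Fintype n] [DecidableEq n] {ι : Type*}
    (h2 : (2:F) ≠ 0) (M : ι → Matrix n n F)
    (hcomm : ∀ i j, M i * M j = M j * M i) (hinv : ∀ i, M i * M i = 1) :
    ∃ (b : Basis (Fin (finrank F (n → F))) F (n → F)) (c : ι → Fin (finrank F (n → F)) → F),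
      (∀ i j, M i *ᵥ b j = c i j • b j) ∧ (∀ i j, c i j = 1 ∨ c i j = -1) ∧
      (∀ i, (M i).det = ∏ j, c i j) ∧ (∀ i i', c i = c i' → M i = M i') := by
  classical
  obtain ⟨b, c, hbc⟩ := exists_joint_eigenbasis h2 (fun i => Matrix.toLin' (M i))
    (fun i j => by
      show Matrix.toLin' (M i) * Matrix.toLin' (M j) = Matrix.toLin' (M j) * Matrix.toLin' (M i)
      rw [Module.End.mul_eq_comp, Module.End.mul_eq_comp, ← Matrix.toLin'_mul, ← Matrix.toLin'_mul,
        hcomm i j])
    (fun i => by
      show Matrix.toLin' (M i) * Matrix.toLin' (M i) = 1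
      rw [Module.End.mul_eq_comp, ← Matrix.toLin'_mul, hinv i, Matrix.toLin'_one]; rfl)
  have hbc' : ∀ i j, M i *ᵥ b j = c i j • b j := by
    intro i j
    have := hbc i j
    rwa [Matrix.toLin'_apply] at this
  refine ⟨b, c, hbc', ?_, ?_, ?_⟩
  · intro i j
    have h1 : M i *ᵥ (M i *ᵥ b j) = b j := by
      rw [Matrix.mulVec_mulVec, hinv i, Matrix.one_mulVec]
    rw [hbc' i j, Matrix.mulVec_smul, hbc' i j, smul_smul] at h1
    have h3 : (c i j * c i j - 1) • b j = 0 := by
      rw [sub_smul, h1, one_smul, sub_self]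
    rcases smul_eq_zero.1 h3 with h | h
    · exact mul_self_eq_one_iff.1 (sub_eq_zero.1 h)
    · exact absurd h (b.ne_zero j)
  · intro i
    have hmat : LinearMap.toMatrix b b (Matrix.toLin' (M i)) = Matrix.diagonal (c i) := by
      ext k l
      rw [LinearMap.toMatrix_apply, hbc i l, map_smul, Finsupp.smul_apply, Basis.repr_self,
        Finsupp.single_apply, Matrix.diagonal_apply]
      by_cases hkl : l = k
      · subst hkl; simp
      · rw [if_neg hkl, if_neg (fun h => hkl h.symm)]; simp
    rw [← LinearMap.det_toLin', ← LinearMap.det_toMatrix b, hmat, Matrix.det_diagonal]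
  · intro i i' h
    apply Matrix.toLin'.injective
    apply b.ext
    intro j
    rw [hbc i j, hbc i' j, h]

/-- Counting sign vectors with product one. -/
theorem card_le_of_signs {α κ : Type*} [Finite α] [Fintype κ] [DecidableEq κ] (j₀ : κ)
    (Φ : α → κ → F) (hinj : Function.Injective Φ) (hpm : ∀ a j, Φ a j = 1 ∨ Φ a j = -1)
    (hprod : ∀ a, ∏ j, Φ a j = 1) : Nat.card α ≤ 2 ^ (Fintype.card κ - 1) := by
  classical
  let Ψ : α → ({j : κ // j ≠ j₀} → Bool) := fun a j => decide (Φ a j.1 = 1)
  have hΨ : Function.Injective Ψ := by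
    intro a a' h
    apply hinj
    have hoff : ∀ j, j ≠ j₀ → Φ a j = Φ a' j := by
      intro j hj
      have := congrFun h ⟨j, hj⟩
      simp only [Ψ, decide_eq_decide] at this
      rcases hpm a j with h1 | h1
      · rw [h1, (this.1 h1)]
      · rcases hpm a' j with h1' | h1'
        · rw [this.2 h1', h1']
        · rw [h1, h1']
    have hp : ∏ j ∈ Finset.univ.erase j₀, Φ a j = ∏ j ∈ Finset.univ.erase j₀, Φ a' j :=
      Finset.prod_congr rfl (fun j hj => hoff j (Finset.ne_of_mem_erase hj))
    have e1 := Finset.mul_prod_erase Finset.univ (Φ a) (Finset.mem_univ j₀)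
    have e2 := Finset.mul_prod_erase Finset.univ (Φ a') (Finset.mem_univ j₀)
    rw [hprod a] at e1
    rw [hprod a', ← hp] at e2
    have hne : ∏ j ∈ Finset.univ.erase j₀, Φ a j ≠ 0 := by
      intro h0
      rw [h0, mul_zero] at e1
      exact zero_ne_one e1
    have h0 : Φ a j₀ = Φ a' j₀ := mul_right_cancel₀ hne (e1.trans e2.symm)
    funext j
    by_cases hj : j = j₀
    · rw [hj, h0]
    · exact hoff j hj
  have := Nat.card_le_card_of_injective Ψ hΨ
  refine this.trans (le_of_eq ?_)
  rw [Nat.card_eq_fintype_card, Fintype.card_fun, Fintype.card_bool, Fintype.card_subtype_compl,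
    Fintype.card_subtype_eq]

end Cfsg.Agent.Lib.Helper5.JointEigen
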