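import Cfsg.Agent.Lib.Helper5.Herm
import Cfsg.Agent.Lib.Helper5.JointEigen
import Cfsg.Agent.S0277
import Cfsg.Agent.S0278
import Mathlib

set_option autoImplicit false
set_option linter.unusedSectionVars false
set_option linter.unusedVariables false

namespace Cfsg.Agent.Lib.Helper5.SU3Inv

open Matrix Cfsg Cfsg.Agent.Lib.Helper5.Herm

variable {F : Type*} [Field F] [Fintype F] {q : ℕ}

/-- `h(u,u)` is fixed by the Frobenius. -/
theorem herm_self_frob (hF : Fintype.card F = q ^ 2) (n : ℕ) (u : Fin n → F) :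
    (hermForm n F q u u) ^ q = hermForm n F q u u := (hermForm_swap hF n u u).symm

/-- the quasi-reflection `x ↦ x + c h(x,u) u` preserves the form when
`c + c^q + c^(q+1) h(u,u) = 0` -/
theorem herm_transvection (hF : Fintype.card F = q ^ 2) (n : ℕ) (u : Fin n → F) (c : F)
    (hc : c + c ^ q + c ^ (q + 1) * hermForm n F q u u = 0) (x y : Fin n → F) :
    hermForm n F q (unitaryTransvection n q u c *ᵥ x) (unitaryTransvection n q u c *ᵥ y)
      = hermForm n F q x y := by
  rw [unitaryTransvection_mulVec, unitaryTransvection_mulVec, hermForm_add_left,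
    hermForm_add_right hF, hermForm_add_right hF, hermForm_smul_left, hermForm_smul_right,
    hermForm_smul_right, hermForm_smul_left, mul_pow, ← hermForm_swap hF n u y]
  have e : hermForm n F q x y + (c ^ q * hermForm n F q u y) * hermForm n F q x u +
      (c * hermForm n F q x u * hermForm n F q u y +
        c ^ q * hermForm n F q u y * (c * hermForm n F q x u * hermForm n F q u u))
      = hermForm n F q x y + hermForm n F q x u * hermForm n F q u y *
        (c + c ^ q + c ^ (q + 1) * hermForm n F q u u) := by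
    rw [pow_succ]; ring
  rw [e, hc, mul_zero, add_zero]

theorem det_transvection (n : ℕ) (u : Fin n → F) (c : F) :
    (unitaryTransvection n q u c).det = 1 + c * hermForm n F q u u := by
  unfold unitaryTransvection
  have h1 : c • Matrix.vecMulVec u (fun j => u j ^ q)
      = Matrix.replicateCol Unit (c • u) * Matrix.replicateRow Unit (fun j => u j ^ q) := by
    ext i j
    simp [Matrix.vecMulVec_apply, Matrix.mul_apply, mul_assoc]
  rw [h1, Matrix.det_one_add_replicateCol_mul_replicateRow]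
  unfold hermForm
  congr 1
  simp only [dotProduct, Pi.smul_apply, smul_eq_mul, Finset.mul_sum]
  exact Finset.sum_congr rfl (fun i _ => by ring)

theorem frob_two (hF : Fintype.card F = q ^ 2) : (2 : F) ^ q = 2 := by
  have : (2 : F) = 1 + 1 := by norm_num
  rw [this, frob_add hF, one_pow]

/-- the involution attached to a non-isotropic vector: `x ↦ -x + 2 h(x,u)/h(u,u) u` -/
noncomputable def Rmat (q : ℕ) (n : ℕ) (u : Fin n → F) : Matrix (Fin n) (Fin n) F :=
  - unitaryTransvection n q u (-2 * (hermForm n F q u u)⁻¹)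

theorem Rmat_mulVec (n : ℕ) (u x : Fin n → F) :
    Rmat q n u *ᵥ x = -x + (2 * (hermForm n F q u u)⁻¹ * hermForm n F q x u) • u := by
  unfold Rmat
  rw [Matrix.neg_mulVec, unitaryTransvection_mulVec, neg_add, ← neg_smul]
  congr 2
  ring

theorem Rmat_herm (hF : Fintype.card F = q ^ 2) (n : ℕ) (u : Fin n → F)
    (hu : hermForm n F q u u ≠ 0) (x y : Fin n → F) :
    hermForm n F q (Rmat q n u *ᵥ x) (Rmat q n u *ᵥ y) = hermForm n F q x y := by
  unfold Rmat
  rw [Matrix.neg_mulVec, Matrix.neg_mulVec]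
  have hneg : ∀ a b : Fin n → F, hermForm n F q (-a) (-b) = hermForm n F q a b := by
    intro a b
    have h1 : (-a) = (-1 : F) • a := by simp
    have h2 : (-b) = (-1 : F) • b := by simp
    rw [h1, h2, hermForm_smul_left, hermForm_smul_right, frob_neg hF, one_pow]
    ring
  rw [hneg]
  apply herm_transvection hF
  set h := hermForm n F q u u with hh
  have hq : h ^ q = h := herm_self_frob hF n u
  have e1 : (-2 * h⁻¹) ^ q = -2 * h⁻¹ := by
    rw [mul_pow, inv_pow, hq, frob_neg hF, frob_two hF]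
  rw [pow_succ, e1]
  field_simp
  ring

theorem Rmat_self (n : ℕ) (u : Fin n → F) (hu : hermForm n F q u u ≠ 0) :
    Rmat q n u *ᵥ u = u := by
  rw [Rmat_mulVec, mul_assoc, inv_mul_cancel₀ hu, mul_one, two_smul]
  abel

theorem Rmat_perp (n : ℕ) (u x : Fin n → F) (hx : hermForm n F q x u = 0) :
    Rmat q n u *ᵥ x = -x := by
  rw [Rmat_mulVec, hx, mul_zero, zero_smul, add_zero]

theorem Rmat_sq (n : ℕ) (u : Fin n → F) (hu : hermForm n F q u u ≠ 0) :
    Rmat q n u * Rmat q n u = 1 := by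
  apply Matrix.mulVec_injective
  funext x
  rw [← Matrix.mulVec_mulVec, Matrix.one_mulVec, Rmat_mulVec n u x, Matrix.mulVec_add,
    Matrix.mulVec_neg, Matrix.mulVec_smul, Rmat_self n u hu, Rmat_mulVec]
  abel

theorem Rmat_det (u : Fin 3 → F) (hu : hermForm 3 F q u u ≠ 0) : (Rmat q 3 u).det = 1 := by
  unfold Rmat
  rw [Matrix.det_neg, det_transvection, mul_assoc, inv_mul_cancel₀ hu]
  simp
  norm_num

theorem Rmat_smul (hF : Fintype.card F = q ^ 2) (n : ℕ) (u : Fin n → F) (k : F) (hk : k ≠ 0) :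
    Rmat q n (k • u) = Rmat q n u := by
  apply Matrix.mulVec_injective
  funext x
  rw [Rmat_mulVec, Rmat_mulVec, hermForm_smul_left, hermForm_smul_right, hermForm_smul_right,
    smul_smul]
  congr 2
  have hk' : k ^ q ≠ 0 := pow_ne_zero _ hk
  by_cases hu : hermForm n F q u u = 0
  · simp [hu]
  · field_simp

theorem slToMat_mk (n : ℕ) (M : Matrix (Fin n) (Fin n) F) (h : M.det = 1) :
    slToMat n F ⟨M, h⟩ = M := rfl

theorem slToMat_coe (n : ℕ) (g : Matrix.SpecialLinearGroup (Fin n) F) :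
    slToMat n F g = (g : Matrix (Fin n) (Fin n) F) := rfl

theorem su_herm (n : ℕ) (g : SU n F q) (x y : Fin n → F) :
    hermForm n F q ((g.1 : Matrix (Fin n) (Fin n) F) *ᵥ x) ((g.1 : Matrix (Fin n) (Fin n) F) *ᵥ y)
      = hermForm n F q x y := g.2 x y

/-- the involution of `SU_3` attached to a non-isotropic vector -/
noncomputable def Rsu (hF : Fintype.card F = q ^ 2) (u : Fin 3 → F)
    (hu : hermForm 3 F q u u ≠ 0) : SU 3 F q :=
  ⟨⟨Rmat q 3 u, Rmat_det u hu⟩, fun x y => Rmat_herm hF 3 u hu x y⟩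

theorem Rsu_val (hF : Fintype.card F = q ^ 2) (u : Fin 3 → F) (hu : hermForm 3 F q u u ≠ 0) :
    ((Rsu hF u hu).1 : Matrix (Fin 3) (Fin 3) F) = Rmat q 3 u := rfl

theorem su_ext (n : ℕ) (g g' : SU n F q)
    (h : (g.1 : Matrix (Fin n) (Fin n) F) = (g'.1 : Matrix (Fin n) (Fin n) F)) : g = g' :=
  Subtype.ext (Subtype.ext h)

theorem herm_eq_zero_of_basis (hF : Fintype.card F = q ^ 2) (n : ℕ) {κ : Type*}
    (b : Module.Basis κ F (Fin n → F)) (u : Fin n → F)
    (h : ∀ j, hermForm n F q u (b j) = 0) : u = 0 := by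
  have key : ∀ x ∈ Submodule.span F (Set.range b), hermForm n F q u x = 0 := by
    intro x hx
    induction hx using Submodule.span_induction with
    | mem x hx =>
      obtain ⟨j, rfl⟩ := hx
      exact h j
    | zero => exact hermForm_zero_right hF n u
    | add x y _ _ hx hy => rw [hermForm_add_right hF, hx, hy, add_zero]
    | smul a x _ hx => rw [hermForm_smul_right, hx, mul_zero]
  have hq : q ≠ 0 := by have := one_lt_q hF; omega
  funext i
  have := key (Pi.single i 1) (by rw [b.span_eq]; trivial)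
  rw [hermForm_single_right hq] at this
  exact this

/-- every involution of `SU_3(q)`, `q` odd, is the involution of a non-isotropic vector -/
theorem exists_Rmat_of_invol (hF : Fintype.card F = q ^ 2) (h2 : (2 : F) ≠ 0)
    (t : SU 3 F q) (ht : t ≠ 1) (ht2 : t * t = 1) :
    ∃ u : Fin 3 → F, hermForm 3 F q u u ≠ 0 ∧
      ((t.1 : Matrix (Fin 3) (Fin 3) F) = Rmat q 3 u) := by
  classical
  set M : Matrix (Fin 3) (Fin 3) F := (t.1 : Matrix (Fin 3) (Fin 3) F) with hM
  have hMM : M * M = 1 := by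
    have h1 := congrArg (fun x : SU 3 F q => ((x.1 : Matrix.SpecialLinearGroup (Fin 3) F) :
      Matrix (Fin 3) (Fin 3) F)) ht2
    simpa using h1
  have hdet : M.det = 1 := t.1.2
  have hne : M ≠ 1 := by
    intro h
    apply ht
    apply su_ext
    rw [← hM, h]
    rfl
  have hinv : ∀ x y, hermForm 3 F q (M *ᵥ x) (M *ᵥ y) = hermForm 3 F q x y := su_herm 3 t
  obtain ⟨b, c, hbc, hpm, hdetc, -⟩ :=
    Cfsg.Agent.Lib.Helper5.JointEigen.exists_eigenbasis_matrix h2 (fun _ : Unit => M)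
      (fun _ _ => rfl) (fun _ => hMM)
  have hd : Module.finrank F (Fin 3 → F) = 3 := by simp
  let e : Fin (Module.finrank F (Fin 3 → F)) ≃ Fin 3 := finCongr hd
  let b' : Module.Basis (Fin 3) F (Fin 3 → F) := b.reindex e
  let c' : Fin 3 → F := fun j => c () (e.symm j)
  have hb' : ∀ j, M *ᵥ b' j = c' j • b' j := by
    intro j
    simp only [b', c', Module.Basis.reindex_apply]
    exact hbc () _
  have hpm' : ∀ j, c' j = 1 ∨ c' j = -1 := fun j => hpm () _
  have hprod : c' 0 * c' 1 * c' 2 = 1 := by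
    have h1 : ∏ j, c' j = ∏ j, c () j := Equiv.prod_comp e.symm (fun j => c () j)
    rw [← Fin.prod_univ_three, h1, ← hdetc ()]
    exact hdet
  have hnot : ¬ (∀ j, c' j = 1) := by
    intro hall
    apply hne
    apply Matrix.toLin'.injective
    apply b'.ext
    intro j
    rw [Matrix.toLin'_apply, hb' j, hall j, one_smul, Matrix.toLin'_one]
    rfl
  have hm1 : (-1 : F) ≠ 1 := by
    intro h
    apply h2
    have : (2 : F) = 1 + 1 := by norm_num
    rw [this]
    nth_rw 1 [← h]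
    simp
  have hj0 : ∃ j₀, c' j₀ = 1 ∧ ∀ j, j ≠ j₀ → c' j = -1 := by
    rcases hpm' 0 with h0 | h0 <;> rcases hpm' 1 with h1 | h1 <;> rcases hpm' 2 with h2' | h2'
    · exfalso
      apply hnot
      intro j
      fin_cases j <;> assumption
    · rw [h0, h1, h2'] at hprod; simp at hprod; exact absurd hprod hm1
    · rw [h0, h1, h2'] at hprod; simp at hprod; exact absurd hprod hm1
    · refine ⟨0, h0, ?_⟩
      intro j hj
      fin_cases j
      · exact absurd rfl hj
      · exact h1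
      · exact h2'
    · rw [h0, h1, h2'] at hprod; simp at hprod; exact absurd hprod hm1
    · refine ⟨1, h1, ?_⟩
      intro j hj
      fin_cases j
      · exact h0
      · exact absurd rfl hj
      · exact h2'
    · refine ⟨2, h2', ?_⟩
      intro j hj
      fin_cases j
      · exact h0
      · exact h1
      · exact absurd rfl hj
    · rw [h0, h1, h2'] at hprod; simp at hprod; exact absurd hprod hm1
  obtain ⟨j₀, hj₀, hjn⟩ := hj0
  set u := b' j₀ with hu
  have hMu : M *ᵥ u = u := by rw [hu, hb' j₀, hj₀, one_smul]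
  have hMb : ∀ j, j ≠ j₀ → M *ᵥ b' j = - b' j := by
    intro j hj
    rw [hb' j, hjn j hj, neg_one_smul]
  have horth : ∀ j, j ≠ j₀ → hermForm 3 F q (b' j) u = 0 := by
    intro j hj
    have h1 := hinv (b' j) u
    rw [hMu, hMb j hj] at h1
    have h3 : (-(b' j)) = (-1 : F) • b' j := by simp
    rw [h3, hermForm_smul_left] at h1
    have h4 : (2 : F) * hermForm 3 F q (b' j) u = 0 := by
      rw [two_mul]
      nth_rw 1 [← h1]
      ring
    exact (mul_eq_zero.1 h4).resolve_left h2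
  have hq0 : q ≠ 0 := by have := one_lt_q hF; omega
  have hu0 : hermForm 3 F q u u ≠ 0 := by
    intro h0
    have : u = 0 := by
      apply herm_eq_zero_of_basis hF 3 b' u
      intro j
      by_cases hj : j = j₀
      · rw [hj]; exact h0
      · rw [hermForm_swap hF, horth j hj, zero_pow hq0]
    exact b'.ne_zero j₀ this
  refine ⟨u, hu0, ?_⟩
  apply Matrix.toLin'.injective
  apply b'.ext
  intro j
  rw [Matrix.toLin'_apply, Matrix.toLin'_apply]
  by_cases hj : j = j₀
  · rw [hj, ← hu, hMu, Rmat_self 3 u hu0]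
  · rw [hMb j hj, Rmat_perp 3 u (b' j) (horth j hj)]

section trans

open Cfsg.Agent.S0277 Cfsg.Agent.S0278 Cfsg.Agent.Lib.Helper5.UnitaryCount
  Cfsg.Agent.Lib.Helper5.HermCount

theorem conj_Rmat (n : ℕ) (A B : Matrix (Fin n) (Fin n) F) (hAB : A * B = 1)
    (hA : ∀ x y, hermForm n F q (A *ᵥ x) (A *ᵥ y) = hermForm n F q x y) (u : Fin n → F) :
    A * Rmat q n u * B = Rmat q n (A *ᵥ u) := by
  apply Matrix.mulVec_injective
  funext x
  rw [← Matrix.mulVec_mulVec, ← Matrix.mulVec_mulVec, Rmat_mulVec, Rmat_mulVec, Matrix.mulVec_add,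
    Matrix.mulVec_neg, Matrix.mulVec_smul, Matrix.mulVec_mulVec, hAB, Matrix.one_mulVec, hA]
  have h1 : hermForm n F q (B *ᵥ x) u = hermForm n F q x (A *ᵥ u) := by
    rw [← hA (B *ᵥ x) u, Matrix.mulVec_mulVec, hAB, Matrix.one_mulVec]
  rw [h1]

theorem exists_gu_unit (hF : Fintype.card F = q ^ 2) (n : ℕ) (v : Fin (n + 1) → F)
    (hv : hermForm (n + 1) F q v v = 1) :
    ∃ g : GU (n + 1) F q, (g.1 : Matrix (Fin (n + 1)) (Fin (n + 1)) F) *ᵥ Pi.single 0 1 = v := by
  obtain ⟨σ, hσ, hne, hσ2⟩ := exists_frob hF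
  have hS := stdB_isSymm (n + 1) σ hσ2
  have hB := stdB_sepLeft (F := F) (n + 1) σ
  have hu1 : stdB (n + 1) σ v v = 1 := by rw [stdB_eq_hermForm _ σ hσ]; exact hv
  have hfr : Module.finrank F (perp (stdB (n + 1) σ) v) = n := by
    have := finrank_perp hu1
    simp at this
    omega
  obtain ⟨b, hb⟩ := exists_basis hne hσ2 (restr_isSymm hS v) (restr_sepLeft hS hB hu1) hfr
  let y : ON (restr (stdB (n + 1) σ) v) n := ⟨b, hb⟩
  let fr : ON (stdB (n + 1) σ) (n + 1) := ⟨_, isON_cons hS n hu1 y⟩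
  refine ⟨(equivON hF (n + 1) σ hσ).symm fr, ?_⟩
  funext i
  rw [Matrix.mulVec_single_one]
  rfl

theorem exists_norm (hF : Fintype.card F = q ^ 2) (d : F) (hd : d ≠ 0) (hdq : d ^ q = d) :
    ∃ k : F, k ≠ 0 ∧ k ^ (q + 1) = d := by
  classical
  have h := card_norm_fiber hF d
  rw [if_neg hd, if_pos hdq] at h
  have hpos : 0 < (Finset.univ.filter (fun x : F => x ^ (q + 1) = d)).card := by omega
  obtain ⟨k, hk⟩ := Finset.card_pos.1 hpos
  rw [Finset.mem_filter] at hk
  refine ⟨k, ?_, hk.2⟩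
  rintro rfl
  rw [zero_pow (by omega)] at hk
  exact hd hk.2.symm

theorem gu_herm (n : ℕ) (g : GU n F q) (x y : Fin n → F) :
    hermForm n F q ((g.1 : Matrix (Fin n) (Fin n) F) *ᵥ x) ((g.1 : Matrix (Fin n) (Fin n) F) *ᵥ y)
      = hermForm n F q x y := g.2 x y

/-- `SU_3` is transitive on non-isotropic points -/
theorem exists_su_map (hF : Fintype.card F = q ^ 2) (u u' : Fin 3 → F)
    (hu : hermForm 3 F q u u ≠ 0) (hu' : hermForm 3 F q u' u' ≠ 0) :
    ∃ g : SU 3 F q, ∃ k : F, k ≠ 0 ∧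
      ((g.1 : Matrix (Fin 3) (Fin 3) F)) *ᵥ u = k • u' := by
  have hq1 := one_lt_q hF
  -- normalise
  obtain ⟨k₁, hk₁, hk₁'⟩ := exists_norm hF (hermForm 3 F q u u)⁻¹ (inv_ne_zero hu)
    (by rw [inv_pow, herm_self_frob hF])
  obtain ⟨k₂, hk₂, hk₂'⟩ := exists_norm hF (hermForm 3 F q u' u')⁻¹ (inv_ne_zero hu')
    (by rw [inv_pow, herm_self_frob hF])
  have hv₁ : hermForm 3 F q (k₁ • u) (k₁ • u) = 1 := by
    rw [hermForm_smul_left, hermForm_smul_right, ← mul_assoc, ← pow_succ', hk₁',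
      inv_mul_cancel₀ hu]
  have hv₂ : hermForm 3 F q (k₂ • u') (k₂ • u') = 1 := by
    rw [hermForm_smul_left, hermForm_smul_right, ← mul_assoc, ← pow_succ', hk₂',
      inv_mul_cancel₀ hu']
  obtain ⟨g₁, hg₁⟩ := exists_gu_unit hF 2 (k₁ • u) hv₁
  obtain ⟨g₂, hg₂⟩ := exists_gu_unit hF 2 (k₂ • u') hv₂
  set G : GU 3 F q := g₂ * g₁⁻¹ with hG
  have hGv : (G.1 : Matrix (Fin 3) (Fin 3) F) *ᵥ (k₁ • u) = k₂ • u' := by
    have h1 : (G.1 : Matrix (Fin 3) (Fin 3) F)
        = (g₂.1 : Matrix (Fin 3) (Fin 3) F) * ((g₁.1)⁻¹ : GL (Fin 3) F) := by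
      rw [hG]; rfl
    have h2 : (((g₁.1)⁻¹ : GL (Fin 3) F) : Matrix (Fin 3) (Fin 3) F)
        * (g₁.1 : Matrix (Fin 3) (Fin 3) F) = 1 := by
      rw [← Units.val_mul, inv_mul_cancel, Units.val_one]
    rw [h1, ← hg₁, Matrix.mulVec_mulVec, Matrix.mul_assoc, h2, Matrix.mul_one, hg₂]
  -- determinant
  set δ : F := ((G.1 : Matrix (Fin 3) (Fin 3) F)).det with hδ
  have hδ1 : δ ^ (q + 1) = 1 := by
    have := det_mem_N1 hF 3 G
    rw [mem_N1] at this
    exact this
  have hδ0 : δ ≠ 0 := by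
    rintro h
    rw [h, zero_pow (by omega)] at hδ1
    exact zero_ne_one hδ1
  set c : F := δ⁻¹ - 1 with hc
  set Zm : Matrix (Fin 3) (Fin 3) F := unitaryTransvection 3 q (k₂ • u') c with hZ
  have hZherm : ∀ x y, hermForm 3 F q (Zm *ᵥ x) (Zm *ᵥ y) = hermForm 3 F q x y := by
    apply herm_transvection hF
    rw [hv₂, mul_one, hc, frob_sub hF, one_pow, pow_succ, frob_sub hF, one_pow]
    have h3 : δ⁻¹ ^ q * δ⁻¹ = 1 := by
      rw [← pow_succ, inv_pow, hδ1, inv_one]
    have : (δ⁻¹ ^ q - 1) * (δ⁻¹ - 1) = δ⁻¹ ^ q * δ⁻¹ - δ⁻¹ ^ q - δ⁻¹ + 1 := by ring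
    rw [this, h3]
    ring
  have hZdet : Zm.det = δ⁻¹ := by
    rw [hZ, det_transvection, hv₂, mul_one, hc]
    ring
  set A : Matrix (Fin 3) (Fin 3) F := Zm * (G.1 : Matrix (Fin 3) (Fin 3) F) with hA
  have hAdet : A.det = 1 := by
    rw [hA, Matrix.det_mul, hZdet, ← hδ, inv_mul_cancel₀ hδ0]
  have hAherm : ∀ x y, hermForm 3 F q (A *ᵥ x) (A *ᵥ y) = hermForm 3 F q x y := by
    intro x y
    rw [hA, ← Matrix.mulVec_mulVec, ← Matrix.mulVec_mulVec, hZherm, gu_herm]
  refine ⟨⟨⟨A, hAdet⟩, hAherm⟩, k₁⁻¹ * δ⁻¹ * k₂, ?_, ?_⟩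
  · exact mul_ne_zero (mul_ne_zero (inv_ne_zero hk₁) (inv_ne_zero hδ0)) hk₂
  · show A *ᵥ u = _
    have h1 : u = k₁⁻¹ • (k₁ • u) := by rw [smul_smul, inv_mul_cancel₀ hk₁, one_smul]
    rw [h1, Matrix.mulVec_smul, hA, ← Matrix.mulVec_mulVec, hGv, hZ, unitaryTransvection_mulVec,
      hv₂, mul_one, hc]
    rw [smul_smul, ← add_smul, smul_smul]
    congr 1
    ring

end trans

end Cfsg.Agent.Lib.Helper5.SU3Inv
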