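import Mathlib
import Cfsg.Prelude.Def_Blocks
import Cfsg.Agent.Lib.Helper4.RobDefs
import Cfsg.Agent.Lib.Helper4.PElSumB
import Cfsg.Agent.H9.PSepRank
import Cfsg.Agent.Lib.helper3.RankDefect2
import Cfsg.Agent.Lib.helper3.RankOne2

set_option autoImplicit false
set_option linter.style.haveILetI false
set_option linter.unusedSectionVars false

/-! Piece B of Robinson's count of blocks with a normal defect group (helper5): in any finite
group `H`, `|C_H(y)| * #{t a p-element : t x ~ y}` is congruent modulo `M` to the sum of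
`χ(x) conj χ(y)` over the characters `χ` of `p`-defect zero. -/

namespace Cfsg.Agent.Lib.Helper5.RobB

open Cfsg Cfsg.Agent.Lib.helper3.CharBasic Cfsg.Agent.Lib.helper3.Irr
open Cfsg.Agent.Lib.helper3.Central Cfsg.Agent.Lib.helper3.LocalM
open Cfsg.Agent.Lib.helper3.Block Cfsg.Agent.H9.PSepRank Cfsg.Agent.H9.S4737A
open Cfsg.Agent.Lib.Helper4.Rob
open scoped ComplexConjugate
open Classical

section

variable {H : Type*} [Group H] [Fintype H]

theorem cnt_eq_card_filter (p : ℕ) (x y : H) :
    cnt p x y = ((pElts p H).filter (fun t => IsConj (x * t) y)).card := by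
  unfold cnt
  rw [Nat.card_eq_fintype_card, Fintype.card_subtype]
  congr 1
  ext t
  simp only [Finset.mem_filter, Finset.mem_univ, true_and, mem_pElts]
  constructor
  · rintro ⟨h1, h2⟩
    refine ⟨h1, ?_⟩
    have h3 : IsConj (t * x) (x * t) := isConj_iff.mpr ⟨x, by group⟩
    exact (h2.trans h3).symm
  · rintro ⟨h1, h2⟩
    refine ⟨h1, ?_⟩
    have h3 : IsConj (x * t) (t * x) := isConj_iff.mpr ⟨x⁻¹, by group⟩
    exact (h3.symm.trans h2).symm

/-- The exact class-multiplication identity. -/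
theorem sum_identity (p : ℕ) (x y : H) :
    ∑ χ : IrrCharacter H, (∑ t ∈ pElts p H, (χ : H → ℂ) t) / (χ : H → ℂ) 1 * (χ : H → ℂ) x
        * conj ((χ : H → ℂ) y)
      = (Nat.card (Subgroup.centralizer ({y} : Set H)) : ℂ) * (cnt p x y : ℂ) := by
  have h1 : ∀ χ : IrrCharacter H,
      (∑ t ∈ pElts p H, (χ : H → ℂ) t) / (χ : H → ℂ) 1 * (χ : H → ℂ) x
        * conj ((χ : H → ℂ) y)
      = ∑ t ∈ pElts p H, (χ : H → ℂ) (x * t) * conj ((χ : H → ℂ) y) := by
    intro χ
    rw [← Finset.sum_mul, sum_mul_of_conjInvariant χ.2 (pElts p H) pElts_conj x]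
  rw [Finset.sum_congr rfl (fun χ _ => h1 χ), Finset.sum_comm]
  have hterm : ∀ t ∈ pElts p H,
      ∑ χ : IrrCharacter H, (χ : H → ℂ) (x * t) * conj ((χ : H → ℂ) y)
        = if IsConj (x * t) y then (Nat.card (Subgroup.centralizer ({y} : Set H)) : ℂ)
          else 0 := by
    intro t _
    by_cases hc : IsConj (x * t) y
    · rw [if_pos hc]
      obtain ⟨g, hg⟩ := isConj_iff.mp hc
      have h2 : ∀ χ : IrrCharacter H, (χ : H → ℂ) (x * t) = (χ : H → ℂ) y := by
        intro χ
        rw [← hg, isClassFunction_of_isCharacter (isCharacter_of_isIrrCharacter χ.2) (x * t) g]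
      rw [Finset.sum_congr rfl (fun χ _ => by rw [h2 χ])]
      exact (column_orthogonality y y).1 (IsConj.refl y)
    · rw [if_neg hc]
      exact (column_orthogonality (x * t) y).2 hc
  rw [Finset.sum_congr rfl hterm, ← Finset.sum_filter, Finset.sum_const, nsmul_eq_mul,
    cnt_eq_card_filter, mul_comm]

/-- A character of `p`-defect zero takes the value one on the sum of the `p`-elements. -/
theorem sum_pElts_of_defect_zero (p : ℕ) [hp : Fact p.Prime] (χ : IrrCharacter H)
    (h0 : (charDegree (χ : H → ℂ)).factorization p = (Nat.card H).factorization p) :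
    (∑ t ∈ pElts p H, (χ : H → ℂ) t) / (χ : H → ℂ) 1 = 1 := by
  have hd1 := apply_one_eq_charDegree χ
  have hχ1 : (χ : H → ℂ) 1 ≠ 0 := by
    rw [hd1]
    exact_mod_cast charDegree_ne_zero χ
  have hdvd : p ^ (Nat.card H).factorization p ∣ charDegree (χ : H → ℂ) := by
    rw [← h0]
    exact Nat.ordProj_dvd _ p
  have hvan : ∀ t ∈ pElts p H, t ≠ 1 → (χ : H → ℂ) t = 0 := by
    intro t ht ht1
    obtain ⟨k, hk⟩ := mem_pElts.mp ht
    apply vanish_of_pow_dvd_degree p χ _ hd1 hdvd t
    rw [hk]
    rcases Nat.eq_zero_or_pos k with h0' | h0'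
    · rw [h0', pow_zero, orderOf_eq_one_iff] at hk
      exact absurd hk ht1
    · exact dvd_pow_self p h0'.ne'
  rw [Finset.sum_eq_single_of_mem (1 : H) one_mem_pElts hvan, div_self hχ1]

end

/-- **Piece B.** -/
theorem card_centralizer_mul_cnt {H : Type*} [Group H] [Finite H] (p : ℕ) [Fact p.Prime]
    (M : Ideal AlgInt) (hM : IsPModular p M) (x y : H) :
    MemLocalIdeal M ((Nat.card ↥(Subgroup.centralizer ({y} : Set H)) : ℂ) * (cnt p x y : ℂ)
      - ∑ᶠ χ ∈ {χ : IrrCharacter H |
          (charDegree (χ : H → ℂ)).factorization p = (Nat.card H).factorization p},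
        (χ : H → ℂ) x * conj ((χ : H → ℂ) y)) := by
  haveI : Fintype H := Fintype.ofFinite H
  haveI hMp := isPrime_of_isPModular hM
  have hMtop : M ≠ ⊤ := hM.2.1.ne_top
  have hint : ∀ (χ : IrrCharacter H) (g : H), IsIntegral ℤ ((χ : H → ℂ) g) := fun χ g =>
    Cfsg.Agent.Lib.helper3.Lin.isIntegral_of_isCharacter (isCharacter_of_isIrrCharacter χ.2) g
  rw [← sum_identity p x y, finsum_mem_eq_sum_filter_irr, Finset.sum_filter,
    ← Finset.sum_sub_distrib]
  apply memLocalIdeal_sum
  intro χ _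
  by_cases h0 : (charDegree (χ : H → ℂ)).factorization p = (Nat.card H).factorization p
  · have hmem : χ ∈ {χ : IrrCharacter H |
        (charDegree (χ : H → ℂ)).factorization p = (Nat.card H).factorization p} := h0
    rw [if_pos hmem, sum_pElts_of_defect_zero p χ h0, one_mul, sub_self]
    exact memLocalIdeal_zero hMtop
  · have hmem : χ ∉ {χ : IrrCharacter H |
        (charDegree (χ : H → ℂ)).factorization p = (Nat.card H).factorization p} := h0
    rw [if_neg hmem, sub_zero]
    have h1 := Cfsg.Agent.Lib.Helper4.PElSum.memLocalIdeal_finsum_pElements_of_ne p hM χ h0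
    have h2 : {u : H | ∃ k : ℕ, orderOf u = p ^ k} = ((pElts p H : Finset H) : Set H) := by
      ext t
      simp [mem_pElts]
    rw [h2, finsum_mem_coe_finset, ← Finset.sum_div] at h1
    rw [mul_assoc, mul_comm]
    exact memLocalIdeal_mul_integral h1
      ((hint χ x).mul (map_isIntegral_int (starRingEnd ℂ) (hint χ y)))

end Cfsg.Agent.Lib.Helper5.RobB
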