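import Mathlib

set_option autoImplicit false

namespace Cfsg.Agent.Lib.Helper5.SLTrans

open Module
open scoped Matrix

theorem sumExtend_inl' {K V ι : Type*} [DivisionRing K] [AddCommGroup V] [Module K V] {v : ι → V}
    (hs : LinearIndependent K v) (i : ι) : Basis.sumExtend hs (Sum.inl i) = v i := by
  simp only [Basis.sumExtend, Basis.reindex_apply, Basis.coe_extend]
  rfl

/-- `SL_n` is transitive on linearly independent pairs when `n ≥ 3`. -/
theorem exists_sl_pair {F : Type*} [Field F] (n : ℕ) (hn : 3 ≤ n) (v w v' w' : Fin n → F)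
    (h : LinearIndependent F ![v, w]) (h' : LinearIndependent F ![v', w']) :
    ∃ g : Matrix.SpecialLinearGroup (Fin n) F, g.1 *ᵥ v = v' ∧ g.1 *ᵥ w = w' := by
  classical
  let b := Basis.sumExtend h
  let b' := Basis.sumExtend h'
  have hfin : Finite (Fin 2 ⊕ Basis.sumExtendIndex h) := Module.Finite.finite_basis b
  have hfin' : Finite (Fin 2 ⊕ Basis.sumExtendIndex h') := Module.Finite.finite_basis b'
  have hf1 : Finite (Basis.sumExtendIndex h) := Finite.sum_right (Fin 2)
  have hf2 : Finite (Basis.sumExtendIndex h') := Finite.sum_right (Fin 2)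
  let _ : Fintype (Basis.sumExtendIndex h) := Fintype.ofFinite _
  let _ : Fintype (Basis.sumExtendIndex h') := Fintype.ofFinite _
  have hc1 : 2 + Fintype.card (Basis.sumExtendIndex h) = n := by
    have := Module.finrank_eq_card_basis b
    rw [Module.finrank_fin_fun, Fintype.card_sum, Fintype.card_fin] at this
    exact this.symm
  have hc2 : 2 + Fintype.card (Basis.sumExtendIndex h') = n := by
    have := Module.finrank_eq_card_basis b'
    rw [Module.finrank_fin_fun, Fintype.card_sum, Fintype.card_fin] at this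
    exact this.symm
  let e : Basis.sumExtendIndex h ≃ Basis.sumExtendIndex h' := Fintype.equivOfCardEq (by omega)
  have hne : Nonempty (Basis.sumExtendIndex h) := by
    rw [← Fintype.card_pos_iff]; omega
  obtain ⟨k₀⟩ := hne
  let b'' : Basis (Fin 2 ⊕ Basis.sumExtendIndex h) F (Fin n → F) :=
    b'.reindex (Equiv.sumCongr (Equiv.refl _) e.symm)
  have hb''0 : ∀ i : Fin 2, b'' (Sum.inl i) = ![v', w'] i := by
    intro i
    simp only [b'', Basis.reindex_apply]
    exact sumExtend_inl' h' i
  let f₀ : (Fin n → F) ≃ₗ[F] (Fin n → F) := b.equiv b'' (Equiv.refl _)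
  have hf₀ : ∀ i, f₀ (b i) = b'' i := fun i => by simp [f₀]
  set d : F := LinearMap.det (f₀ : (Fin n → F) →ₗ[F] (Fin n → F)) with hd
  have hd0 : d ≠ 0 := by
    have := LinearEquiv.isUnit_det' f₀
    exact this.ne_zero
  let wt : Fin 2 ⊕ Basis.sumExtendIndex h → F := fun i => if i = Sum.inr k₀ then d⁻¹ else 1
  let D : (Fin n → F) →ₗ[F] (Fin n → F) := b''.constr F (fun i => wt i • b'' i)
  have hD : ∀ i, D (b'' i) = wt i • b'' i := fun i => by simp [D]
  have hdetD : LinearMap.det D = d⁻¹ := by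
    have hmat : LinearMap.toMatrix b'' b'' D = Matrix.diagonal wt := by
      ext k l
      rw [LinearMap.toMatrix_apply, hD l, map_smul, Finsupp.smul_apply, Basis.repr_self,
        Finsupp.single_apply, Matrix.diagonal_apply]
      by_cases hkl : l = k
      · subst hkl; simp
      · rw [if_neg hkl, if_neg (fun h => hkl h.symm)]; simp
    rw [← LinearMap.det_toMatrix b'', hmat, Matrix.det_diagonal]
    simp only [wt]
    rw [Finset.prod_ite_eq' Finset.univ (Sum.inr k₀) (fun _ => d⁻¹)]
    simp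
  let T : (Fin n → F) →ₗ[F] (Fin n → F) := D ∘ₗ (f₀ : (Fin n → F) →ₗ[F] (Fin n → F))
  have hdetT : LinearMap.det T = 1 := by
    show LinearMap.det (D ∘ₗ (f₀ : (Fin n → F) →ₗ[F] (Fin n → F))) = 1
    rw [LinearMap.det_comp, hdetD, ← hd, inv_mul_cancel₀ hd0]
  have hT : ∀ i : Fin 2, T (![v, w] i) = ![v', w'] i := by
    intro i
    have h1 : ![v, w] i = b (Sum.inl i) := (sumExtend_inl' h i).symm
    rw [h1]
    show D (f₀ (b (Sum.inl i))) = _
    rw [hf₀, hD, hb''0]
    have : wt (Sum.inl i) = 1 := by simp [wt]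
    rw [this, one_smul]
  refine ⟨⟨LinearMap.toMatrix' T, by rw [LinearMap.det_toMatrix']; exact hdetT⟩, ?_, ?_⟩
  · show LinearMap.toMatrix' T *ᵥ v = v'
    rw [LinearMap.toMatrix'_mulVec]
    exact hT 0
  · show LinearMap.toMatrix' T *ᵥ w = w'
    rw [LinearMap.toMatrix'_mulVec]
    exact hT 1

theorem exists_sl_vec {F : Type*} [Field F] (n : ℕ) (hn : 3 ≤ n) (v v' : Fin n → F)
    (hv : v ≠ 0) (hv' : v' ≠ 0) :
    ∃ g : Matrix.SpecialLinearGroup (Fin n) F, g.1 *ᵥ v = v' := by
  have hfr : 1 < Module.finrank F (Fin n → F) := by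
    rw [Module.finrank_fin_fun]; omega
  obtain ⟨w, hw⟩ := exists_linearIndependent_pair_of_one_lt_finrank hfr hv
  obtain ⟨w', hw'⟩ := exists_linearIndependent_pair_of_one_lt_finrank hfr hv'
  obtain ⟨g, hg, -⟩ := exists_sl_pair n hn v w v' w' hw hw'
  exact ⟨g, hg⟩

/-- nonzero vectors -/
abbrev NZ (n : ℕ) (F : Type*) [Field F] : Type _ := {v : Fin n → F // v ≠ 0}

theorem sl_mulVec_ne_zero {F : Type*} [Field F] {n : ℕ} (g : Matrix.SpecialLinearGroup (Fin n) F)
    {v : Fin n → F} (hv : v ≠ 0) : g.1 *ᵥ v ≠ 0 := by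
  intro h
  apply hv
  have h1 : (g⁻¹).1 *ᵥ (g.1 *ᵥ v) = v := by
    rw [Matrix.mulVec_mulVec, ← Matrix.SpecialLinearGroup.coe_mul, inv_mul_cancel,
      Matrix.SpecialLinearGroup.coe_one, Matrix.one_mulVec]
  rw [← h1, h, Matrix.mulVec_zero]

/-- the action of `SL_n(F)` on nonzero vectors -/
instance slAct (n : ℕ) (F : Type*) [Field F] :
    MulAction (Matrix.SpecialLinearGroup (Fin n) F) (NZ n F) where
  smul g v := ⟨g.1 *ᵥ v.1, sl_mulVec_ne_zero g v.2⟩
  one_smul v := by
    apply Subtype.ext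
    show (1 : Matrix.SpecialLinearGroup (Fin n) F).1 *ᵥ v.1 = v.1
    rw [Matrix.SpecialLinearGroup.coe_one, Matrix.one_mulVec]
  mul_smul g h v := by
    apply Subtype.ext
    show (g * h).1 *ᵥ v.1 = g.1 *ᵥ (h.1 *ᵥ v.1)
    rw [Matrix.SpecialLinearGroup.coe_mul, Matrix.mulVec_mulVec]

/-- the action of scalars on nonzero vectors -/
instance unitAct (n : ℕ) (F : Type*) [Field F] : MulAction Fˣ (NZ n F) where
  smul c v := ⟨(c : F) • v.1, smul_ne_zero c.ne_zero v.2⟩
  one_smul v := by
    apply Subtype.ext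
    show ((1 : Fˣ) : F) • v.1 = v.1
    rw [Units.val_one, one_smul]
  mul_smul c d v := by
    apply Subtype.ext
    show ((c * d : Fˣ) : F) • v.1 = (c : F) • ((d : F) • v.1)
    rw [Units.val_mul, mul_smul]

theorem slAct_val {F : Type*} [Field F] {n : ℕ} (g : Matrix.SpecialLinearGroup (Fin n) F)
    (v : NZ n F) : (g • v).1 = g.1 *ᵥ v.1 := rfl

theorem unitAct_val {F : Type*} [Field F] {n : ℕ} (c : Fˣ) (v : NZ n F) :
    (c • v).1 = (c : F) • v.1 := rfl

theorem slAct_comm {F : Type*} [Field F] {n : ℕ} (g : Matrix.SpecialLinearGroup (Fin n) F)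
    (c : Fˣ) (v : NZ n F) : g • c • v = c • g • v := by
  apply Subtype.ext
  rw [slAct_val, unitAct_val, unitAct_val, slAct_val, Matrix.mulVec_smul]

theorem unitAct_free {F : Type*} [Field F] {n : ℕ} (c : Fˣ) (v : NZ n F) (h : c • v = v) :
    c = 1 := by
  have h1 := congrArg Subtype.val h
  rw [unitAct_val] at h1
  have h2 : ((c : F) - 1) • v.1 = 0 := by rw [sub_smul, h1, one_smul, sub_self]
  rcases smul_eq_zero.1 h2 with h3 | h3
  · apply Units.ext
    rw [Units.val_one]
    exact sub_eq_zero.1 h3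
  · exact absurd h3 v.2

instance slAct_pretransitive {F : Type*} [Field F] (n : ℕ) [Fact (3 ≤ n)] :
    MulAction.IsPretransitive (Matrix.SpecialLinearGroup (Fin n) F) (NZ n F) := by
  refine ⟨fun x y => ?_⟩
  obtain ⟨g, hg⟩ := exists_sl_vec n Fact.out x.1 y.1 x.2 y.2
  exact ⟨g, Subtype.ext hg⟩

section orbits

variable {F : Type*} [Field F] {n : ℕ}

open Classical in
/-- the invariant of a pair of nonzero vectors -/
noncomputable def pairInv (p : NZ n F × NZ n F) : Option Fˣ :=
  if h : ∃ c : Fˣ, p.2.1 = (c : F) • p.1.1 then some h.choose else none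

theorem pairInv_eq_some (p : NZ n F × NZ n F) (c : Fˣ) :
    pairInv p = some c ↔ p.2.1 = (c : F) • p.1.1 := by
  unfold pairInv
  constructor
  · intro h
    split_ifs at h with hc
    · have := hc.choose_spec
      rw [Option.some.injEq] at h
      rw [h] at this
      exact this
  · intro h
    have hc : ∃ c : Fˣ, p.2.1 = (c : F) • p.1.1 := ⟨c, h⟩
    rw [dif_pos hc, Option.some.injEq]
    have h1 : (c : F) • p.1.1 = (hc.choose : F) • p.1.1 := h.symm.trans hc.choose_spec
    have h2 : ((c : F) - (hc.choose : F)) • p.1.1 = 0 := by rw [sub_smul, ← h1, sub_self]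
    rcases smul_eq_zero.1 h2 with h3 | h3
    · apply Units.ext
      exact (sub_eq_zero.1 h3).symm
    · exact absurd h3 p.1.2

theorem pairInv_eq_none (p : NZ n F × NZ n F) :
    pairInv p = none ↔ LinearIndependent F ![p.1.1, p.2.1] := by
  rw [LinearIndependent.pair_iff' p.1.2]
  unfold pairInv
  constructor
  · intro h a ha
    split_ifs at h with hc
    apply hc
    have ha0 : a ≠ 0 := by
      rintro rfl
      rw [zero_smul] at ha
      exact p.2.2 ha.symm
    exact ⟨Units.mk0 a ha0, ha.symm⟩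
  · intro h
    rw [dif_neg]
    rintro ⟨c, hc⟩
    exact h c hc.symm

theorem pairInv_smul_some (g : Matrix.SpecialLinearGroup (Fin n) F) (p : NZ n F × NZ n F) (c : Fˣ)
    (h : pairInv p = some c) : pairInv (g • p) = some c := by
  rw [pairInv_eq_some] at h ⊢
  show (g • p.2).1 = (c : F) • (g • p.1).1
  rw [slAct_val, slAct_val, h, Matrix.mulVec_smul]

theorem pairInv_smul (g : Matrix.SpecialLinearGroup (Fin n) F) (p : NZ n F × NZ n F) :
    pairInv (g • p) = pairInv p := by
  cases hp : pairInv p with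
  | some c => exact pairInv_smul_some g p c hp
  | none =>
    cases hq : pairInv (g • p) with
    | none => rfl
    | some c =>
      have := pairInv_smul_some g⁻¹ (g • p) c hq
      rw [inv_smul_smul, hp] at this
      exact absurd this (by simp)

theorem card_orbits_pairs [Finite F] (hn : 3 ≤ n) :
    Nat.card (Quotient (MulAction.orbitRel (Matrix.SpecialLinearGroup (Fin n) F)
      (NZ n F × NZ n F))) = Nat.card Fˣ + 1 := by
  classical
  rw [← Finite.card_option]
  apply Nat.card_congr
  let f : Quotient (MulAction.orbitRel (Matrix.SpecialLinearGroup (Fin n) F)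
      (NZ n F × NZ n F)) → Option Fˣ :=
    Quotient.lift pairInv (by
      rintro p q ⟨g, rfl⟩
      exact pairInv_smul g q)
  let i0 : Fin n := ⟨0, by omega⟩
  let i1 : Fin n := ⟨1, by omega⟩
  have h01 : i1 ≠ i0 := by
    intro h
    have := congrArg Fin.val h
    simp [i0, i1] at this
  have hs0 : (Pi.single i0 1 : Fin n → F) ≠ 0 := by
    intro h
    have := congrFun h i0
    simp at this
  have hs1 : (Pi.single i1 1 : Fin n → F) ≠ 0 := by
    intro h
    have := congrFun h i1
    simp at this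
  refine Equiv.ofBijective f ⟨?_, ?_⟩
  · intro a b hab
    obtain ⟨p, rfl⟩ := Quotient.mk_surjective a
    obtain ⟨q, rfl⟩ := Quotient.mk_surjective b
    have hab' : pairInv p = pairInv q := hab
    apply Quotient.sound
    show p ∈ MulAction.orbit _ q
    cases hq : pairInv q with
    | some c =>
      rw [hq] at hab'
      rw [pairInv_eq_some] at hq hab'
      obtain ⟨g, hg⟩ := exists_sl_vec n hn q.1.1 p.1.1 q.1.2 p.1.2
      refine ⟨g, ?_⟩
      apply Prod.ext
      · exact Subtype.ext hg
      · apply Subtype.ext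
        show g.1 *ᵥ q.2.1 = p.2.1
        rw [hq, hab', Matrix.mulVec_smul, hg]
    | none =>
      rw [hq] at hab'
      rw [pairInv_eq_none] at hq hab'
      obtain ⟨g, hg1, hg2⟩ := exists_sl_pair n hn q.1.1 q.2.1 p.1.1 p.2.1 hq hab'
      exact ⟨g, Prod.ext (Subtype.ext hg1) (Subtype.ext hg2)⟩
  · intro o
    cases o with
    | none =>
      refine ⟨Quotient.mk _ (⟨Pi.single i0 1, hs0⟩, ⟨Pi.single i1 1, hs1⟩), ?_⟩
      show pairInv _ = none
      rw [pairInv_eq_none, LinearIndependent.pair_iff' hs0]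
      intro a ha
      have := congrFun ha i1
      simp [Pi.single_eq_of_ne h01] at this
    | some c =>
      refine ⟨Quotient.mk _ (⟨Pi.single i0 1, hs0⟩, c • ⟨Pi.single i0 1, hs0⟩), ?_⟩
      show pairInv _ = some c
      rw [pairInv_eq_some]
      rfl

end orbits

end Cfsg.Agent.Lib.Helper5.SLTrans
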