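import Cfsg.Agent.Lib.Helper5.SympCount
import Mathlib

/-!
# Alternating forms have even rank (helper5's shared lemmas)
-/

set_option autoImplicit false

namespace Cfsg.Agent.Lib.Helper5.AltEven

open Cfsg.Agent.Lib.Helper5.SympCount
open scoped Matrix

universe u v

variable {F : Type v} [Field F]

/-- a nondegenerate alternating form lives on an even-dimensional space -/
theorem even_finrank_of_alt_nondeg : ∀ (n : ℕ) (U : Type u) [AddCommGroup U] [Module F U]
    [FiniteDimensional F U] (B : LinearMap.BilinForm F U), B.IsAlt → B.Nondegenerate →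
    Module.finrank F U = n → Even n := by
  intro n
  induction n using Nat.strong_induction_on with
  | _ n ih =>
    intro U _ _ _ B hA hB hrank
    rcases Nat.eq_zero_or_pos n with h0 | hpos
    · subst h0; exact Even.zero
    have hpos' : 0 < Module.finrank F U := by omega
    have : Nontrivial U := Module.nontrivial_of_finrank_pos hpos'
    obtain ⟨e, he⟩ : ∃ e : U, e ≠ 0 := exists_ne 0
    obtain ⟨f₀, hf₀⟩ : ∃ f₀, B e f₀ ≠ 0 := by
      by_contra hno
      apply he
      apply hB.1
      intro y
      by_contra h
      exact hno ⟨y, h⟩
    have hef : B e ((B e f₀)⁻¹ • f₀) = 1 := by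
      rw [map_smul, smul_eq_mul, inv_mul_cancel₀ hf₀]
    have hr := finrank_perp hA hef
    have hnd := restrict_perp_nondegenerate hB hA hef
    have hA' : (B.restrict (perp B e ((B e f₀)⁻¹ • f₀))).IsAlt := fun x => hA x
    have h2 : 2 ≤ n := by omega
    have := ih (n - 2) (by omega) (perp B e ((B e f₀)⁻¹ • f₀))
      (B.restrict (perp B e ((B e f₀)⁻¹ • f₀))) hA' hnd (by omega)
    obtain ⟨k, hk⟩ := this
    exact ⟨k + 1, by omega⟩

/-- a matrix `M` with `vᵀ M v = 0` for all `v` has even rank -/
theorem even_rank_of_alt {n : Type} [Fintype n] [DecidableEq n] (M : Matrix n n F)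
    (h : ∀ v : n → F, v ⬝ᵥ (M *ᵥ v) = 0) : Even M.rank := by
  let B : LinearMap.BilinForm F (n → F) := Matrix.toBilin' M
  have hB : ∀ u v, B u v = u ⬝ᵥ (M *ᵥ v) := fun u v => Matrix.toBilin'_apply' M u v
  have hA : B.IsAlt := fun v => by rw [hB]; exact h v
  let R : Submodule F (n → F) := LinearMap.ker M.mulVecLin
  obtain ⟨W, hW⟩ := Submodule.exists_isCompl R
  have hWalt : (B.restrict W).IsAlt := fun x => hA x
  have hnd : (B.restrict W).Nondegenerate := by
    have key : ∀ w : W, (∀ w' : W, B w w' = 0) → w = 0 := by
      intro w hw
      have hwR : (w : n → F) ∈ R := by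
        rw [LinearMap.mem_ker, Matrix.mulVecLin_apply]
        -- show M w = 0 via pairing with all x
        have hall : ∀ x : n → F, x ⬝ᵥ (M *ᵥ (w : n → F)) = 0 := by
          intro x
          have hx : x ∈ R ⊔ W := by rw [hW.sup_eq_top]; exact Submodule.mem_top
          obtain ⟨r, hr, w', hw', rfl⟩ := Submodule.mem_sup.1 hx
          rw [← hB, map_add, LinearMap.add_apply]
          have h1 : B r w = 0 := by
            rw [← hA.neg_eq, hB]
            have : M *ᵥ r = 0 := by
              have := hr
              rw [LinearMap.mem_ker, Matrix.mulVecLin_apply] at this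
              exact this
            rw [this, dotProduct_zero, neg_zero]
          have h2 : B w' w = 0 := by
            rw [← hA.neg_eq, hw ⟨w', hw'⟩, neg_zero]
          rw [h1, h2, add_zero]
        funext i
        have := hall (Pi.single i 1)
        rw [single_dotProduct, one_mul] at this
        exact this
      have : (w : n → F) ∈ R ⊓ W := ⟨hwR, w.2⟩
      rw [hW.inf_eq_bot, Submodule.mem_bot] at this
      exact Subtype.ext this
    constructor
    · intro w hw
      exact key w hw
    · intro w hw
      apply key w
      intro w'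
      have := hw w'
      change B w' w = 0 at this
      change B w w' = 0
      rw [← hA.neg_eq, this, neg_zero]
  have hdim : Module.finrank F W = M.rank := by
    have h1 : Module.finrank F (LinearMap.ker M.mulVecLin) + Module.finrank F W
        = Module.finrank F (n → F) := Submodule.finrank_add_eq_of_isCompl hW
    have h2 := LinearMap.finrank_range_add_finrank_ker M.mulVecLin
    rw [Matrix.rank]
    omega
  rw [← hdim]
  exact even_finrank_of_alt_nondeg _ W (B.restrict W) hWalt hnd rfl

end Cfsg.Agent.Lib.Helper5.AltEven
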