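import Mathlib
import Cfsg.Prelude.Def_LieExceptional
import Cfsg.Agent.S0308

/-!
# (B,N)-pairs: Bruhat uniqueness, exchange condition, parabolic subgroups (helper5)
-/

set_option autoImplicit false

namespace Cfsg.Agent.Lib.Helper5.BN

open Cfsg DoubleCoset

variable {G : Type*} [Group G] (P : BNPair G)

/-- the double coset `B g B` -/
def D (g : G) : Set G := doubleCoset g (P.B : Set G) P.B

theorem mem_D {g x : G} : x ∈ D P g ↔ ∃ b ∈ P.B, ∃ b' ∈ P.B, x = b * g * b' := by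
  unfold D
  rw [mem_doubleCoset]
  rfl

theorem self_mem_D (g : G) : g ∈ D P g := mem_doubleCoset_self _ _ g

theorem D_eq_of_mem {g x : G} (h : x ∈ D P g) : D P x = D P g := doubleCoset_eq_of_mem h

theorem D_eq_of_inter {g h x : G} (h1 : x ∈ D P g) (h2 : x ∈ D P h) : D P g = D P h := by
  rw [← D_eq_of_mem P h1, D_eq_of_mem P h2]

theorem B_mul_mem_D {g x b : G} (hb : b ∈ P.B) (h : x ∈ D P g) : b * x ∈ D P g := by
  rw [mem_D] at h ⊢
  obtain ⟨b1, hb1, b2, hb2, rfl⟩ := h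
  exact ⟨b * b1, mul_mem hb hb1, b2, hb2, by group⟩

theorem mul_B_mem_D {g x b : G} (hb : b ∈ P.B) (h : x ∈ D P g) : x * b ∈ D P g := by
  rw [mem_D] at h ⊢
  obtain ⟨b1, hb1, b2, hb2, rfl⟩ := h
  exact ⟨b1, hb1, b2 * b, mul_mem hb2 hb, by group⟩

theorem D_mul_B {g b : G} (hb : b ∈ P.B) : D P (g * b) = D P g :=
  D_eq_of_mem P (mul_B_mem_D P hb (self_mem_D P g))

theorem D_B_mul {g b : G} (hb : b ∈ P.B) : D P (b * g) = D P g :=
  D_eq_of_mem P (B_mul_mem_D P hb (self_mem_D P g))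

theorem inv_mem_D {g x : G} (h : x ∈ D P g) : x⁻¹ ∈ D P g⁻¹ := by
  rw [mem_D] at h ⊢
  obtain ⟨b1, hb1, b2, hb2, rfl⟩ := h
  exact ⟨b2⁻¹, inv_mem hb2, b1⁻¹, inv_mem hb1, by group⟩

theorem D_of_mem_B {b : G} (hb : b ∈ P.B) : D P b = (P.B : Set G) := by
  ext x
  rw [mem_D]
  constructor
  · rintro ⟨b1, hb1, b2, hb2, rfl⟩
    exact mul_mem (mul_mem hb1 hb) hb2
  · intro hx
    exact ⟨x * b⁻¹, mul_mem hx (inv_mem hb), 1, one_mem _, by group⟩

theorem D_one : D P 1 = (P.B : Set G) := D_of_mem_B P (one_mem _)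

theorem mem_B_of_D_eq {g : G} (h : D P g = (P.B : Set G)) : g ∈ P.B := by
  have := self_mem_D P g
  rw [h] at this
  exact this

/-- `s⁻¹ ∈ B s` -/
theorem D_inv_S {s : G} (hs : s ∈ P.S) : D P s⁻¹ = D P s := by
  have h1 : (s * s)⁻¹ ∈ P.B := inv_mem (P.sq_mem s hs)
  have h2 : s⁻¹ = (s * s)⁻¹ * s := by group
  rw [h2]
  exact D_B_mul P h1

/-- the axiom (T1), for whole double cosets -/
theorem T1_left {s n x y : G} (hs : s ∈ P.S) (hn : n ∈ P.N) (hx : x ∈ D P s) (hy : y ∈ D P n) :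
    x * y ∈ D P (s * n) ∪ D P n := by
  rw [mem_D] at hx hy
  obtain ⟨b1, hb1, b2, hb2, rfl⟩ := hx
  obtain ⟨b3, hb3, b4, hb4, rfl⟩ := hy
  have h := P.mul_mem_union s hs n hn (b2 * b3) (mul_mem hb2 hb3)
  have e : b1 * s * b2 * (b3 * n * b4) = b1 * (s * (b2 * b3) * n) * b4 := by group
  rw [e]
  rcases h with h | h
  · exact Or.inl (mul_B_mem_D P hb4 (B_mul_mem_D P hb1 h))
  · exact Or.inr (mul_B_mem_D P hb4 (B_mul_mem_D P hb1 h))

theorem T1_right {s n x y : G} (hs : s ∈ P.S) (hn : n ∈ P.N) (hx : x ∈ D P n) (hy : y ∈ D P s) :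
    x * y ∈ D P (n * s) ∪ D P n := by
  have hy' : y⁻¹ ∈ D P s := by
    have := inv_mem_D P hy
    rwa [D_inv_S P hs] at this
  have hx' : x⁻¹ ∈ D P n⁻¹ := inv_mem_D P hx
  have h := T1_left P hs (inv_mem hn) hy' hx'
  have hss : s⁻¹ * s⁻¹ ∈ P.B := by
    have : s⁻¹ * s⁻¹ = (s * s)⁻¹ := by group
    rw [this]; exact inv_mem (P.sq_mem s hs)
  rcases h with h | h
  · left
    have := inv_mem_D P h
    have e : (y⁻¹ * x⁻¹)⁻¹ = x * y := by group
    rw [e] at this
    have e2 : (s * n⁻¹)⁻¹ = n * s * (s⁻¹ * s⁻¹) := by group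
    rw [e2, D_mul_B P hss] at this
    exact this
  · right
    have := inv_mem_D P h
    have e : (y⁻¹ * x⁻¹)⁻¹ = x * y := by group
    rw [e, inv_inv] at this
    exact this

/-- (T2): there is `b ∈ B` with `s b s ∈ B s B` -/
theorem exists_sbs {s : G} (hs : s ∈ P.S) : ∃ b ∈ P.B, s * b * s ∈ D P s := by
  have hne := P.conj_ne s hs
  have hss : s * s ∈ P.B := P.sq_mem s hs
  have key : ∃ b ∈ P.B, s * b * s ∉ P.B := by
    by_contra hcon
    push Not at hcon
    apply hne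
    apply Set.Subset.antisymm
    · rintro _ ⟨b, hb, rfl⟩
      exact hcon b hb
    · intro b hb
      refine ⟨s⁻¹ * b * s⁻¹, ?_, by group⟩
      have e : s⁻¹ * b * s⁻¹ = (s * s)⁻¹ * (s * b * s) * (s * s)⁻¹ := by group
      rw [e]
      exact mul_mem (mul_mem (inv_mem hss) (hcon b hb)) (inv_mem hss)
  obtain ⟨b, hb, hnb⟩ := key
  refine ⟨b, hb, ?_⟩
  have h := P.mul_mem_union s hs s (P.subset hs) b hb
  rcases h with h | h
  · exfalso
    apply hnb
    have : D P (s * s) = (P.B : Set G) := D_of_mem_B P hss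
    change s * b * s ∈ D P (s * s) at h
    rw [this] at h
    exact h
  · exact h

theorem S_not_mem_B {s : G} (hs : s ∈ P.S) : s ∉ P.B := by
  intro hsB
  obtain ⟨b, hb, h⟩ := exists_sbs P hs
  have : D P s = (P.B : Set G) := D_of_mem_B P hsB
  rw [this] at h
  apply P.conj_ne s hs
  apply Set.Subset.antisymm
  · rintro _ ⟨b, hb, rfl⟩
    exact mul_mem (mul_mem hsB hb) hsB
  · intro b hb
    exact ⟨s⁻¹ * b * s⁻¹, mul_mem (mul_mem (inv_mem hsB) hb) (inv_mem hsB), by group⟩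

/-! ### The Weyl group -/

/-- `T = B ∩ N` as a subgroup of `N` -/
def T : Subgroup P.N := P.B.subgroupOf P.N

theorem mem_T {n : P.N} : n ∈ T P ↔ (n : G) ∈ P.B := Subgroup.mem_subgroupOf

instance T_normal : (T P).Normal := by
  constructor
  intro t ht n
  rw [mem_T] at ht ⊢
  exact P.conj_mem n n.2 t ⟨ht, t.2⟩

/-- the Weyl group -/
abbrev W : Type _ := P.N ⧸ T P

/-- the projection -/
def proj : P.N →* W P := QuotientGroup.mk' (T P)

theorem proj_surjective : Function.Surjective (proj P) := QuotientGroup.mk'_surjective _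

theorem proj_eq_iff {n n' : P.N} : proj P n = proj P n' ↔ (n : G)⁻¹ * n' ∈ P.B := by
  unfold proj
  rw [QuotientGroup.mk'_eq_mk']
  constructor
  · rintro ⟨z, hz, rfl⟩
    rw [mem_T] at hz
    simpa using hz
  · intro h
    exact ⟨n⁻¹ * n', by rw [mem_T]; simpa using h, by group⟩

theorem proj_eq_one_iff {n : P.N} : proj P n = 1 ↔ (n : G) ∈ P.B := by
  rw [← map_one (proj P), eq_comm, proj_eq_iff]
  simp

/-- double coset of an element of the Weyl group -/
noncomputable def C (w : W P) : Set G := D P ((Quotient.out w : P.N) : G)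

theorem C_proj (n : P.N) : C P (proj P n) = D P (n : G) := by
  unfold C
  have h : proj P (Quotient.out (proj P n)) = proj P n := Quotient.out_eq _
  rw [proj_eq_iff] at h
  have e : (n : G) = ((Quotient.out (proj P n) : P.N) : G) *
      (((Quotient.out (proj P n) : P.N) : G)⁻¹ * n) := by group
  conv_rhs => rw [e]
  rw [D_mul_B P h]

theorem C_one : C P 1 = (P.B : Set G) := by
  rw [← map_one (proj P), C_proj]
  exact D_one P

theorem C_inj_of_inter {w w' : W P} {x : G} (h1 : x ∈ C P w) (h2 : x ∈ C P w') : C P w = C P w' :=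
  D_eq_of_inter P h1 h2

theorem inv_mem_C {w : W P} {x : G} (h : x ∈ C P w) : x⁻¹ ∈ C P w⁻¹ := by
  obtain ⟨n, rfl⟩ := proj_surjective P w
  rw [← map_inv, C_proj] at *
  exact inv_mem_D P h

theorem B_mul_mem_C {w : W P} {x b : G} (hb : b ∈ P.B) (h : x ∈ C P w) : b * x ∈ C P w :=
  B_mul_mem_D P hb h

theorem mul_B_mem_C {w : W P} {x b : G} (hb : b ∈ P.B) (h : x ∈ C P w) : x * b ∈ C P w :=
  mul_B_mem_D P hb h

/-- the distinguished generators in the Weyl group -/
def Sbar : Set (W P) := {σ | ∃ n : P.N, (n : G) ∈ P.S ∧ proj P n = σ}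

theorem Sbar_sq {σ : W P} (h : σ ∈ Sbar P) : σ * σ = 1 := by
  obtain ⟨n, hn, rfl⟩ := h
  rw [← map_mul, proj_eq_one_iff]
  exact P.sq_mem n hn

theorem Sbar_inv {σ : W P} (h : σ ∈ Sbar P) : σ⁻¹ = σ :=
  inv_eq_of_mul_eq_one_left (Sbar_sq P h)

theorem Sbar_ne_one {σ : W P} (h : σ ∈ Sbar P) : σ ≠ 1 := by
  obtain ⟨n, hn, rfl⟩ := h
  rw [Ne, proj_eq_one_iff]
  exact S_not_mem_B P hn

theorem Sbar_mul_cancel {σ : W P} (h : σ ∈ Sbar P) (w : W P) : σ * (σ * w) = w := by
  rw [← mul_assoc, Sbar_sq P h, one_mul]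

theorem mul_Sbar_cancel {σ : W P} (h : σ ∈ Sbar P) (w : W P) : w * σ * σ = w := by
  rw [mul_assoc, Sbar_sq P h, mul_one]

theorem T1W_left {σ w : W P} (hσ : σ ∈ Sbar P) {x y : G} (hx : x ∈ C P σ) (hy : y ∈ C P w) :
    x * y ∈ C P (σ * w) ∪ C P w := by
  obtain ⟨s, hs, rfl⟩ := hσ
  obtain ⟨n, rfl⟩ := proj_surjective P w
  rw [← map_mul]
  rw [C_proj] at *
  rw [C_proj]
  exact T1_left P hs n.2 hx hy

theorem T1W_right {σ w : W P} (hσ : σ ∈ Sbar P) {x y : G} (hx : x ∈ C P w) (hy : y ∈ C P σ) :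
    x * y ∈ C P (w * σ) ∪ C P w := by
  obtain ⟨s, hs, rfl⟩ := hσ
  obtain ⟨n, rfl⟩ := proj_surjective P w
  rw [← map_mul]
  rw [C_proj] at *
  rw [C_proj]
  exact T1_right P hs n.2 hx hy

theorem exists_sbs_W {σ : W P} (hσ : σ ∈ Sbar P) :
    ∃ x ∈ C P σ, ∃ y ∈ C P σ, x * y ∈ C P σ := by
  obtain ⟨s, hs, rfl⟩ := hσ
  obtain ⟨b, hb, h⟩ := exists_sbs P hs
  rw [C_proj]
  refine ⟨(s : G) * b, mul_B_mem_D P hb (self_mem_D P _), s, self_mem_D P _, h⟩


/-! ### Words and length -/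

theorem exists_mem_C (w : W P) : ∃ x, x ∈ C P w := ⟨_, self_mem_D P _⟩

theorem C_mul_decomp {w1 w2 : W P} {y : G} (hy : y ∈ C P (w1 * w2)) :
    ∃ y1 ∈ C P w1, ∃ y2 ∈ C P w2, y = y1 * y2 := by
  obtain ⟨n1, rfl⟩ := proj_surjective P w1
  obtain ⟨n2, rfl⟩ := proj_surjective P w2
  rw [← map_mul, C_proj, mem_D] at hy
  obtain ⟨b, hb, b', hb', rfl⟩ := hy
  refine ⟨b * n1, ?_, n2 * b', ?_, ?_⟩
  · rw [C_proj]; exact B_mul_mem_D P hb (self_mem_D P _)
  · rw [C_proj]; exact mul_B_mem_D P hb' (self_mem_D P _)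
  · simp only [Subgroup.coe_mul]; group

theorem exists_rep_mul (w1 w2 : W P) : ∃ x ∈ C P w1, ∃ y ∈ C P w2, x * y ∈ C P (w1 * w2) := by
  obtain ⟨n1, rfl⟩ := proj_surjective P w1
  obtain ⟨n2, rfl⟩ := proj_surjective P w2
  refine ⟨n1, ?_, n2, ?_, ?_⟩
  · rw [C_proj]; exact self_mem_D P _
  · rw [C_proj]; exact self_mem_D P _
  · rw [← map_mul, C_proj]; exact self_mem_D P _

theorem eq_one_of_C_eq {w : W P} (h : C P w = (P.B : Set G)) : w = 1 := by
  obtain ⟨n, rfl⟩ := proj_surjective P w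
  rw [C_proj] at h
  rw [proj_eq_one_iff]
  exact mem_B_of_D_eq P h

/-- words in the distinguished generators -/
def IsWord (L : List (W P)) : Prop := ∀ σ ∈ L, σ ∈ Sbar P

theorem isWord_nil : IsWord P [] := by
  intro σ hσ
  simp at hσ

theorem isWord_cons {σ : W P} {L : List (W P)} : IsWord P (σ :: L) ↔ σ ∈ Sbar P ∧ IsWord P L := by
  unfold IsWord
  simp

theorem isWord_append {L1 L2 : List (W P)} : IsWord P (L1 ++ L2) ↔ IsWord P L1 ∧ IsWord P L2 := by
  unfold IsWord
  simp only [List.mem_append]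
  constructor
  · intro h
    exact ⟨fun σ hσ => h σ (Or.inl hσ), fun σ hσ => h σ (Or.inr hσ)⟩
  · rintro ⟨h1, h2⟩ σ (hσ | hσ)
    · exact h1 σ hσ
    · exact h2 σ hσ

theorem isWord_singleton {σ : W P} (h : σ ∈ Sbar P) : IsWord P [σ] := by
  intro τ hτ
  simp at hτ
  rw [hτ]; exact h

theorem closure_Sbar : Subgroup.closure (Sbar P) = ⊤ := by
  rw [eq_top_iff]
  intro w _
  obtain ⟨n, rfl⟩ := proj_surjective P w
  let K : Subgroup G := ((Subgroup.closure (Sbar P)).comap (proj P)).map P.N.subtype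
  have h1 : Subgroup.closure P.S ≤ K := by
    rw [Subgroup.closure_le]
    intro s hs
    refine ⟨⟨s, P.subset hs⟩, ?_, rfl⟩
    exact Subgroup.subset_closure ⟨⟨s, P.subset hs⟩, hs, rfl⟩
  have h2 : P.B ⊓ P.N ≤ K := by
    intro t ht
    refine ⟨⟨t, ht.2⟩, ?_, rfl⟩
    change proj P ⟨t, ht.2⟩ ∈ Subgroup.closure (Sbar P)
    rw [(proj_eq_one_iff P).mpr ht.1]
    exact one_mem _
  have h3 : (n : G) ∈ K := by
    have : (n : G) ∈ Subgroup.closure P.S ⊔ (P.B ⊓ P.N) := by rw [P.closure_sup]; exact n.2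
    exact (sup_le h1 h2) this
  obtain ⟨n', hn', hnn'⟩ := h3
  have : n' = n := Subtype.ext hnn'
  rw [← this]
  exact hn'

theorem word_prod_inv {L : List (W P)} (hL : IsWord P L) : L.prod⁻¹ = L.reverse.prod := by
  rw [List.prod_inv_reverse]
  congr 1
  have : L.map (fun x => x⁻¹) = L.map id := List.map_congr_left (fun σ hσ => Sbar_inv P (hL σ hσ))
  rw [this, List.map_id]

theorem exists_word (w : W P) : ∃ L : List (W P), IsWord P L ∧ L.prod = w := by
  have hw : w ∈ Subgroup.closure (Sbar P) := by rw [closure_Sbar]; trivial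
  induction hw using Subgroup.closure_induction with
  | mem x hx => exact ⟨[x], isWord_singleton P hx, by simp⟩
  | one => exact ⟨[], isWord_nil P, rfl⟩
  | mul x y _ _ hx hy =>
    obtain ⟨L1, h1, rfl⟩ := hx
    obtain ⟨L2, h2, rfl⟩ := hy
    exact ⟨L1 ++ L2, (isWord_append P).mpr ⟨h1, h2⟩, List.prod_append⟩
  | inv x _ hx =>
    obtain ⟨L, hL, rfl⟩ := hx
    exact ⟨L.reverse, fun σ hσ => hL σ (List.mem_reverse.mp hσ), (word_prod_inv P hL).symm⟩

/-- the length function -/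
noncomputable def len (w : W P) : ℕ :=
  sInf {k | ∃ L : List (W P), IsWord P L ∧ L.prod = w ∧ L.length = k}

theorem len_le_of_word {L : List (W P)} (hL : IsWord P L) : len P L.prod ≤ L.length :=
  Nat.sInf_le ⟨L, hL, rfl, rfl⟩

theorem exists_reduced (w : W P) :
    ∃ L : List (W P), IsWord P L ∧ L.prod = w ∧ L.length = len P w := by
  have hne : {k | ∃ L : List (W P), IsWord P L ∧ L.prod = w ∧ L.length = k}.Nonempty := by
    obtain ⟨L, h1, h2⟩ := exists_word P w
    exact ⟨L.length, L, h1, h2, rfl⟩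
  exact Nat.sInf_mem hne

theorem len_one : len P (1 : W P) = 0 := by
  have := len_le_of_word P (isWord_nil P)
  simpa using this

theorem len_eq_zero {w : W P} : len P w = 0 ↔ w = 1 := by
  constructor
  · intro h
    obtain ⟨L, _, h2, h3⟩ := exists_reduced P w
    rw [h, List.length_eq_zero_iff] at h3
    rw [← h2, h3]; rfl
  · rintro rfl
    exact len_one P

theorem len_mul_le {σ : W P} (hσ : σ ∈ Sbar P) (w : W P) : len P (σ * w) ≤ len P w + 1 := by
  obtain ⟨L, h1, h2, h3⟩ := exists_reduced P w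
  have := len_le_of_word P ((isWord_cons P).mpr ⟨hσ, h1⟩)
  rw [List.prod_cons, h2, List.length_cons, h3] at this
  exact this

theorem len_le_mul {σ : W P} (hσ : σ ∈ Sbar P) (w : W P) : len P w ≤ len P (σ * w) + 1 := by
  have := len_mul_le P hσ (σ * w)
  rwa [Sbar_mul_cancel P hσ] at this

theorem len_mul_right_le {σ : W P} (hσ : σ ∈ Sbar P) (w : W P) : len P (w * σ) ≤ len P w + 1 := by
  obtain ⟨L, h1, h2, h3⟩ := exists_reduced P w
  have := len_le_of_word P ((isWord_append P).mpr ⟨h1, isWord_singleton P hσ⟩)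
  rw [List.prod_append, h2, List.length_append, h3] at this
  simpa using this

theorem len_le_mul_right {σ : W P} (hσ : σ ∈ Sbar P) (w : W P) : len P w ≤ len P (w * σ) + 1 := by
  have := len_mul_right_le P hσ (w * σ)
  rwa [mul_Sbar_cancel P hσ] at this

theorem len_Sbar {σ : W P} (hσ : σ ∈ Sbar P) : len P σ = 1 := by
  have h1 := len_le_of_word P (isWord_singleton P hσ)
  simp only [List.prod_singleton, List.length_singleton] at h1
  have h2 : len P σ ≠ 0 := by
    rw [Ne, len_eq_zero]; exact Sbar_ne_one P hσ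
  omega

/-! ### Bruhat uniqueness -/

theorem bruhat_aux : ∀ k : ℕ, ∀ w w' : W P, len P w = k → len P w ≤ len P w' →
    C P w = C P w' → w = w' := by
  intro k
  induction k with
  | zero =>
    intro w w' hk _ hC
    rw [len_eq_zero] at hk
    subst hk
    rw [C_one] at hC
    exact (eq_one_of_C_eq P hC.symm).symm
  | succ k ih =>
    intro w w' hk hle hC
    obtain ⟨L, hL, hLw, hLlen⟩ := exists_reduced P w
    rw [hk] at hLlen
    match L, hL, hLw, hLlen with
    | [], _, _, h => simp at h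
    | σ :: L', hL, hLw, hLlen =>
      rw [isWord_cons] at hL
      obtain ⟨hσ, hL'⟩ := hL
      rw [List.prod_cons] at hLw
      have hw'' : σ * w = L'.prod := by rw [← hLw, Sbar_mul_cancel P hσ]
      have hlen'' : len P (σ * w) = k := by
        have h1 := len_le_of_word P hL'
        rw [← hw''] at h1
        simp only [List.length_cons] at hLlen
        have h2 := len_le_mul P hσ w
        omega
      -- pick representatives
      obtain ⟨x, hx, u, hu, hxu⟩ := exists_rep_mul P σ (σ * w)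
      rw [Sbar_mul_cancel P hσ, hC] at hxu
      have hx' : x⁻¹ ∈ C P σ := by
        have := inv_mem_C P hx
        rwa [Sbar_inv P hσ] at this
      have h3 := T1W_left P hσ hx' hxu
      rw [inv_mul_cancel_left] at h3
      rcases h3 with h3 | h3
      · have hC2 : C P (σ * w) = C P (σ * w') := C_inj_of_inter P hu h3
        have h4 := len_le_mul P hσ w'
        have h5 := ih (σ * w) (σ * w') hlen'' (by omega) hC2
        exact mul_left_cancel h5
      · have hC2 : C P (σ * w) = C P w' := C_inj_of_inter P hu h3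
        have h5 := ih (σ * w) w' hlen'' (by omega) hC2
        rw [← h5] at hle
        omega

theorem bruhat {w w' : W P} (h : C P w = C P w') : w = w' := by
  rcases le_total (len P w) (len P w') with h1 | h1
  · exact bruhat_aux P _ w w' rfl h1 h
  · exact (bruhat_aux P _ w' w rfl h1 h.symm).symm

/-! ### Products of double cosets and length -/

theorem L2_aux : ∀ k : ℕ, ∀ (w σ : W P), σ ∈ Sbar P → len P w = k → len P w ≤ len P (σ * w) →
    ∀ x ∈ C P σ, ∀ y ∈ C P w, x * y ∈ C P (σ * w) := by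
  intro k
  induction k with
  | zero =>
    intro w σ hσ hk _ x hx y hy
    rw [len_eq_zero] at hk
    subst hk
    rw [C_one] at hy
    rw [mul_one]
    exact mul_B_mem_C P hy hx
  | succ k ih =>
    intro w σ hσ hk hle x hx y hy
    rcases T1W_left P hσ hx hy with h | h
    · exact h
    exfalso
    obtain ⟨L, hL, hLw, hLlen⟩ := exists_reduced P w
    rw [hk] at hLlen
    rcases List.eq_nil_or_concat L with hnil | ⟨L', τ, hcat⟩
    · rw [hnil] at hLlen; simp at hLlen
    rw [hcat, List.concat_eq_append] at hL hLw hLlen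
    rw [isWord_append] at hL
    obtain ⟨hL', hτ'⟩ := hL
    have hτ : τ ∈ Sbar P := hτ' τ (by simp)
    rw [List.prod_append, List.prod_singleton] at hLw
    rw [List.length_append, List.length_singleton] at hLlen
    -- w' = L'.prod, w = w' * τ
    have hw'len : len P L'.prod = k := by
      have h1 := len_le_of_word P hL'
      have h2 := len_mul_right_le P hτ L'.prod
      rw [hLw, hk] at h2
      omega
    have hle' : len P L'.prod ≤ len P (σ * L'.prod) := by
      by_contra hcon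
      push Not at hcon
      have h1 := len_mul_right_le P hτ (σ * L'.prod)
      rw [mul_assoc, hLw] at h1
      omega
    rw [← hLw] at hy
    obtain ⟨y', hy', t, ht, rfl⟩ := C_mul_decomp P hy
    have h1 : x * y' ∈ C P (σ * L'.prod) := ih L'.prod σ hσ hw'len hle' x hx y' hy'
    have ht' : t⁻¹ ∈ C P τ := by
      have := inv_mem_C P ht
      rwa [Sbar_inv P hτ] at this
    have h2 := T1W_right P hτ h ht'
    have e : x * (y' * t) * t⁻¹ = x * y' := by group
    rw [e, ← hLw, mul_Sbar_cancel P hτ] at h2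
    rcases h2 with h2 | h2
    · have := bruhat P (C_inj_of_inter P h1 h2)
      have : σ = 1 := by
        have h3 : σ * L'.prod = 1 * L'.prod := by rw [one_mul]; exact this
        exact mul_right_cancel h3
      exact Sbar_ne_one P hσ this
    · have h3 := bruhat P (C_inj_of_inter P h1 h2)
      -- σ * w' = w' * τ = w, so σ * w = w'
      have h4 : σ * (L'.prod * τ) = L'.prod := by
        rw [← h3, Sbar_mul_cancel P hσ]
      rw [hLw] at h4
      rw [h4, hw'len, hk] at hle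
      omega

theorem L2 {w σ : W P} (hσ : σ ∈ Sbar P) (hle : len P w ≤ len P (σ * w)) {x y : G}
    (hx : x ∈ C P σ) (hy : y ∈ C P w) : x * y ∈ C P (σ * w) :=
  L2_aux P _ w σ hσ rfl hle x hx y hy

theorem L3 {w σ : W P} (hσ : σ ∈ Sbar P) (hle : len P (σ * w) ≤ len P w) :
    ∃ x ∈ C P σ, ∃ y ∈ C P w, x * y ∈ C P w := by
  obtain ⟨x1, hx1, x2, hx2, hx12⟩ := exists_sbs_W P hσ
  obtain ⟨y0, hy0⟩ := exists_mem_C P (σ * w)
  have hle' : len P (σ * w) ≤ len P (σ * (σ * w)) := by rwa [Sbar_mul_cancel P hσ]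
  have h1 := L2 P hσ hle' hx2 hy0
  have h2 := L2 P hσ hle' hx12 hy0
  rw [Sbar_mul_cancel P hσ] at h1 h2
  exact ⟨x1, hx1, x2 * y0, h1, by rw [← mul_assoc]; exact h2⟩

theorem len_mul_ne {w σ : W P} (hσ : σ ∈ Sbar P) : len P (σ * w) ≠ len P w := by
  intro h
  obtain ⟨x, hx, y, hy, hxy⟩ := L3 P hσ (le_of_eq h)
  have h2 := L2 P hσ (le_of_eq h.symm) hx hy
  have h3 := bruhat P (C_inj_of_inter P h2 hxy)
  have : σ = 1 := by
    have h4 : σ * w = 1 * w := by rw [one_mul]; exact h3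
    exact mul_right_cancel h4
  exact Sbar_ne_one P hσ this

/-- condition (B') -/
theorem Bprime {w σ τ : W P} (hσ : σ ∈ Sbar P) (hτ : τ ∈ Sbar P) (h1 : len P w < len P (σ * w))
    (h2 : len P (σ * (w * τ)) < len P (w * τ)) : σ * w = w * τ := by
  obtain ⟨x, hx, z, hz, hxz⟩ := L3 P hσ (le_of_lt h2)
  obtain ⟨y, hy, t, ht, rfl⟩ := C_mul_decomp P hz
  have h3 := L2 P hσ (le_of_lt h1) hx hy
  have h4 := T1W_right P hτ h3 ht
  rw [← mul_assoc] at hxz
  rcases h4 with h4 | h4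
  · have h5 := bruhat P (C_inj_of_inter P h4 hxz)
    exfalso
    have : σ = 1 := by
      have h6 : σ * (w * τ) = 1 * (w * τ) := by rw [one_mul, ← mul_assoc]; exact h5
      exact mul_right_cancel h6
    exact Sbar_ne_one P hσ this
  · exact bruhat P (C_inj_of_inter P h4 hxz)

/-- reduced words -/
def IsReduced (L : List (W P)) : Prop := IsWord P L ∧ L.length = len P L.prod

theorem isReduced_of_append_left {L1 L2 : List (W P)} (h : IsReduced P (L1 ++ L2)) :
    IsReduced P L1 := by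
  obtain ⟨hw, hl⟩ := h
  rw [isWord_append] at hw
  refine ⟨hw.1, le_antisymm ?_ (len_le_of_word P hw.1)⟩
  by_contra hcon
  push Not at hcon
  obtain ⟨L1', h1, h2, h3⟩ := exists_reduced P L1.prod
  have h4 := len_le_of_word P ((isWord_append P).mpr ⟨h1, hw.2⟩)
  rw [List.prod_append, h2, ← List.prod_append, ← hl, List.length_append, List.length_append,
    h3] at h4
  omega

theorem isReduced_of_append_right {L1 L2 : List (W P)} (h : IsReduced P (L1 ++ L2)) :
    IsReduced P L2 := by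
  obtain ⟨hw, hl⟩ := h
  rw [isWord_append] at hw
  refine ⟨hw.2, le_antisymm ?_ (len_le_of_word P hw.2)⟩
  by_contra hcon
  push Not at hcon
  obtain ⟨L2', h1, h2, h3⟩ := exists_reduced P L2.prod
  have h4 := len_le_of_word P ((isWord_append P).mpr ⟨hw.1, h1⟩)
  rw [List.prod_append, h2, ← List.prod_append, ← hl, List.length_append, List.length_append,
    h3] at h4
  omega

/-- the exchange condition -/
theorem exchange : ∀ (L : List (W P)) (σ : W P), σ ∈ Sbar P → IsReduced P L →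
    len P (σ * L.prod) < len P L.prod →
    ∃ (L1 : List (W P)) (τ : W P) (L2 : List (W P)),
      L = L1 ++ τ :: L2 ∧ σ * L1.prod = L1.prod * τ := by
  intro L
  induction L using List.reverseRecOn with
  | nil =>
    intro σ _ _ h
    simp only [List.prod_nil, mul_one] at h
    rw [len_one] at h
    omega
  | append_singleton L τ ih =>
    intro σ hσ hred h
    have hredL := isReduced_of_append_left P hred
    have hτ : τ ∈ Sbar P := hred.1 τ (by simp)
    by_cases hcase : len P (σ * L.prod) < len P L.prod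
    · obtain ⟨L1, τ', L2, hL, heq⟩ := ih σ hσ hredL hcase
      exact ⟨L1, τ', L2 ++ [τ], by rw [hL]; simp, heq⟩
    · push Not at hcase
      have hlt : len P L.prod < len P (σ * L.prod) :=
        lt_of_le_of_ne hcase (len_mul_ne P hσ).symm
      rw [List.prod_append, List.prod_singleton] at h
      have := Bprime P hσ hτ hlt h
      exact ⟨L, τ, [], rfl, this⟩

/-- weak deletion condition -/
theorem deletion : ∀ (L : List (W P)), IsWord P L → len P L.prod < L.length →
    ∃ L' : List (W P), (∀ σ ∈ L', σ ∈ L) ∧ L'.length < L.length ∧ L'.prod = L.prod := by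
  intro L
  induction L with
  | nil =>
    intro _ h
    simp at h
  | cons σ L0 ih =>
    intro hw h
    rw [isWord_cons] at hw
    obtain ⟨hσ, hw0⟩ := hw
    by_cases hred : len P L0.prod < L0.length
    · obtain ⟨L0', h1, h2, h3⟩ := ih hw0 hred
      refine ⟨σ :: L0', ?_, ?_, ?_⟩
      · intro τ hτ
        rcases List.mem_cons.mp hτ with rfl | hτ
        · simp
        · exact List.mem_cons_of_mem _ (h1 τ hτ)
      · simp only [List.length_cons]; omega
      · rw [List.prod_cons, List.prod_cons, h3]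
    · push Not at hred
      have hred0 : IsReduced P L0 := ⟨hw0, le_antisymm hred (len_le_of_word P hw0)⟩
      rw [List.prod_cons, List.length_cons] at h
      have hlt : len P (σ * L0.prod) < len P L0.prod := by
        have h1 : len P (σ * L0.prod) ≤ len P L0.prod := by
          have := hred0.2
          omega
        exact lt_of_le_of_ne h1 (len_mul_ne P hσ)
      obtain ⟨L1, τ, L2, hL, heq⟩ := exchange P L0 σ hσ hred0 hlt
      have hτ : τ ∈ Sbar P := hw0 τ (by rw [hL]; simp)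
      refine ⟨L1 ++ L2, ?_, ?_, ?_⟩
      · intro ρ hρ
        apply List.mem_cons_of_mem
        rw [hL]
        rcases List.mem_append.mp hρ with h1 | h1
        · exact List.mem_append_left _ h1
        · exact List.mem_append_right _ (List.mem_cons_of_mem _ h1)
      · rw [hL]
        simp only [List.length_append, List.length_cons]
        omega
      · rw [List.prod_cons, hL, List.prod_append, List.prod_append, List.prod_cons, ← mul_assoc,
          ← mul_assoc, heq, mul_Sbar_cancel P hτ]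

/-- a word can be shortened to a reduced word using only its own letters -/
theorem exists_reduced_sub : ∀ (k : ℕ) (L : List (W P)), L.length = k → IsWord P L →
    ∃ L' : List (W P), (∀ σ ∈ L', σ ∈ L) ∧ IsReduced P L' ∧ L'.prod = L.prod := by
  intro k
  induction k using Nat.strong_induction_on with
  | _ k ih =>
    intro L hk hw
    by_cases hred : len P L.prod < L.length
    · obtain ⟨L', h1, h2, h3⟩ := deletion P L hw hred
      have hw' : IsWord P L' := fun σ hσ => hw σ (h1 σ hσ)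
      obtain ⟨L'', h4, h5, h6⟩ := ih L'.length (by omega) L' rfl hw'
      exact ⟨L'', fun σ hσ => h1 σ (h4 σ hσ), h5, h6.trans h3⟩
    · push Not at hred
      exact ⟨L, fun σ hσ => hσ, ⟨hw, le_antisymm hred (len_le_of_word P hw)⟩, rfl⟩


/-! ### Parabolic subgroups -/

/-- image in the Weyl group of a set of representatives -/
def bar (J : Set G) : Set (W P) := {σ | ∃ n : P.N, (n : G) ∈ J ∧ proj P n = σ}

theorem bar_subset_Sbar {J : Set G} (hJ : J ⊆ P.S) : bar P J ⊆ Sbar P := by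
  rintro σ ⟨n, hn, rfl⟩
  exact ⟨n, hJ hn, rfl⟩

theorem bar_mono {J K : Set G} (h : J ⊆ K) : bar P J ⊆ bar P K := by
  rintro σ ⟨n, hn, rfl⟩
  exact ⟨n, h hn, rfl⟩

theorem mem_bar_of_mem {J : Set G} (hJ : J ⊆ P.S) {s : G} (hs : s ∈ J) :
    proj P ⟨s, P.subset (hJ hs)⟩ ∈ bar P J := ⟨_, hs, rfl⟩

/-- if `proj s ∈ bar J` with `s ∈ S`, `J ⊆ S` then `s ∈ J` -/
theorem mem_of_proj_mem_bar {J : Set G} (hJ : J ⊆ P.S) {s : P.N} (hs : (s : G) ∈ P.S)
    (h : proj P s ∈ bar P J) : (s : G) ∈ J := by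
  obtain ⟨n, hn, hns⟩ := h
  rw [proj_eq_iff] at hns
  have := P.inj n (hJ hn) s hs hns
  rw [← this]
  exact hn

theorem bar_inter {J K : Set G} (hJ : J ⊆ P.S) (hK : K ⊆ P.S) :
    bar P J ∩ bar P K ⊆ bar P (J ∩ K) := by
  rintro σ ⟨⟨n, hn, rfl⟩, h2⟩
  exact ⟨n, ⟨hn, mem_of_proj_mem_bar P hK (hJ hn) h2⟩, rfl⟩

theorem exists_word_in {A : Set (W P)} (hA : A ⊆ Sbar P) {w : W P}
    (hw : w ∈ Subgroup.closure A) : ∃ L : List (W P), (∀ σ ∈ L, σ ∈ A) ∧ L.prod = w := by
  induction hw using Subgroup.closure_induction with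
  | mem x hx =>
    refine ⟨[x], ?_, by simp⟩
    intro σ hσ
    simp at hσ
    rw [hσ]; exact hx
  | one => exact ⟨[], by simp, rfl⟩
  | mul x y _ _ hx hy =>
    obtain ⟨L1, h1, rfl⟩ := hx
    obtain ⟨L2, h2, rfl⟩ := hy
    refine ⟨L1 ++ L2, ?_, List.prod_append⟩
    intro σ hσ
    rcases List.mem_append.mp hσ with h | h
    · exact h1 σ h
    · exact h2 σ h
  | inv x _ hx =>
    obtain ⟨L, hL, rfl⟩ := hx
    have hLw : IsWord P L := fun σ hσ => hA (hL σ hσ)
    exact ⟨L.reverse, fun σ hσ => hL σ (List.mem_reverse.mp hσ), (word_prod_inv P hLw).symm⟩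

theorem prod_mem_closure {A : Set (W P)} {L : List (W P)} (hL : ∀ σ ∈ L, σ ∈ A) :
    L.prod ∈ Subgroup.closure A :=
  list_prod_mem (fun σ hσ => Subgroup.subset_closure (hL σ hσ))

/-- every element of `W_A` has a reduced word with letters in `A` -/
theorem exists_reduced_in {A : Set (W P)} (hA : A ⊆ Sbar P) {w : W P}
    (hw : w ∈ Subgroup.closure A) :
    ∃ L : List (W P), (∀ σ ∈ L, σ ∈ A) ∧ IsReduced P L ∧ L.prod = w := by
  obtain ⟨L, hL, rfl⟩ := exists_word_in P hA hw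
  obtain ⟨L', h1, h2, h3⟩ := exists_reduced_sub P L.length L rfl (fun σ hσ => hA (hL σ hσ))
  exact ⟨L', fun σ hσ => hL σ (h1 σ hσ), h2, h3⟩

/-- `S ∩ W_A = A` -/
theorem mem_of_mem_closure {A : Set (W P)} (hA : A ⊆ Sbar P) {σ : W P} (hσ : σ ∈ Sbar P)
    (h : σ ∈ Subgroup.closure A) : σ ∈ A := by
  obtain ⟨L, hL, hred, hprod⟩ := exists_reduced_in P hA h
  have hlen : L.length = 1 := by rw [hred.2, hprod, len_Sbar P hσ]
  match L, hL, hprod, hlen with
  | [τ], hL, hprod, _ =>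
    simp only [List.prod_singleton] at hprod
    rw [← hprod]
    exact hL τ (by simp)

/-- Lemma C -/
theorem lemmaC (M : Subgroup G) (hBM : P.B ≤ M) : ∀ (L : List (W P)), IsReduced P L →
    ∀ n : P.N, proj P n = L.prod → (∀ b ∈ P.B, (n : G) * b * (n : G)⁻¹ ∈ M) →
    ∀ τ ∈ L, C P τ ⊆ M := by
  intro L
  induction L with
  | nil =>
    intro _ _ _ _ τ hτ
    simp at hτ
  | cons σ L0 ih =>
    intro hred n hn hconj
    have hred0 : IsReduced P L0 := isReduced_of_append_right P (L1 := [σ]) hred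
    have hσ : σ ∈ Sbar P := hred.1 σ (by simp)
    have hlt : len P (σ * (σ :: L0).prod) ≤ len P (σ :: L0).prod := by
      rw [List.prod_cons, Sbar_mul_cancel P hσ, ← hred0.2]
      have := hred.2
      rw [List.prod_cons, List.length_cons] at this
      omega
    obtain ⟨x, hx, y, hy, hxy⟩ := L3 P hσ hlt
    rw [← hn, C_proj, mem_D] at hy hxy
    obtain ⟨b1, hb1, b2, hb2, rfl⟩ := hy
    obtain ⟨b3, hb3, b4, hb4, hxy⟩ := hxy
    have hxM : x ∈ M := by
      have e : x = b3 * ((n : G) * (b4 * b2⁻¹) * (n : G)⁻¹) * b1⁻¹ := by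
        have : x = (x * (b1 * n * b2)) * (b1 * n * b2)⁻¹ := by group
        rw [this, hxy]; group
      rw [e]
      exact mul_mem (mul_mem (hBM hb3) (hconj _ (mul_mem hb4 (inv_mem hb2)))) (hBM (inv_mem hb1))
    have hCσ : C P σ ⊆ M := by
      intro z hz
      have : z ∈ D P x := by
        have h1 : D P x = C P σ := D_eq_of_mem P hx
        rw [h1]; exact hz
      rw [mem_D] at this
      obtain ⟨b, hb, b', hb', rfl⟩ := this
      exact mul_mem (mul_mem (hBM hb) hxM) (hBM hb')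
    obtain ⟨s, rfl⟩ := proj_surjective P σ
    have hsM : (s : G) ∈ M := hCσ (by rw [C_proj]; exact self_mem_D P _)
    have hn0 : proj P (s⁻¹ * n) = L0.prod := by
      rw [map_mul, map_inv, hn, List.prod_cons, Sbar_inv P hσ, Sbar_mul_cancel P hσ]
    have hconj0 : ∀ b ∈ P.B, ((s⁻¹ * n : P.N) : G) * b * ((s⁻¹ * n : P.N) : G)⁻¹ ∈ M := by
      intro b hb
      have e : ((s⁻¹ * n : P.N) : G) * b * ((s⁻¹ * n : P.N) : G)⁻¹ =
          (s : G)⁻¹ * ((n : G) * b * (n : G)⁻¹) * (s : G) := by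
        simp only [Subgroup.coe_mul, Subgroup.coe_inv]; group
      rw [e]
      exact mul_mem (mul_mem (inv_mem hsM) (hconj b hb)) hsM
    intro τ hτ
    rcases List.mem_cons.mp hτ with rfl | hτ
    · exact hCσ
    · exact ih hred0 (s⁻¹ * n) hn0 hconj0 τ hτ

theorem C_prod_subset (M : Subgroup G) (hBM : P.B ≤ M) : ∀ (L : List (W P)),
    (∀ τ ∈ L, C P τ ⊆ M) → C P L.prod ⊆ M := by
  intro L
  induction L with
  | nil =>
    intro _
    rw [List.prod_nil, C_one]
    exact hBM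
  | cons σ L0 ih =>
    intro h y hy
    rw [List.prod_cons] at hy
    obtain ⟨y1, hy1, y2, hy2, rfl⟩ := C_mul_decomp P hy
    exact mul_mem (h σ (by simp) hy1) (ih (fun τ hτ => h τ (List.mem_cons_of_mem _ hτ)) hy2)

theorem mem_of_conj_B_subset_N (M : Subgroup G) (hBM : P.B ≤ M) (n : P.N)
    (h : ∀ b ∈ P.B, (n : G) * b * (n : G)⁻¹ ∈ M) : (n : G) ∈ M := by
  obtain ⟨L, hL, hprod, hlen⟩ := exists_reduced P (proj P n)
  have hred : IsReduced P L := ⟨hL, by rw [hprod, hlen]⟩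
  have h1 := lemmaC P M hBM L hred n hprod.symm h
  have h2 := C_prod_subset P M hBM L h1
  apply h2
  rw [hprod, C_proj]
  exact self_mem_D P _

theorem exists_N_mem_D (g : G) : ∃ n : P.N, g ∈ D P (n : G) := by
  obtain ⟨n, hn, h⟩ := Cfsg.Agent.S0308.result P g
  exact ⟨⟨n, hn⟩, h⟩

theorem mem_of_conj_B_subset (M : Subgroup G) (hBM : P.B ≤ M) (g : G)
    (h : ∀ b ∈ P.B, g * b * g⁻¹ ∈ M) : g ∈ M := by
  obtain ⟨n, hn⟩ := exists_N_mem_D P g
  rw [mem_D] at hn
  obtain ⟨b1, hb1, b2, hb2, rfl⟩ := hn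
  have hnM : (n : G) ∈ M := by
    apply mem_of_conj_B_subset_N P M hBM n
    intro b hb
    have e : (n : G) * b * (n : G)⁻¹ =
        b1⁻¹ * ((b1 * n * b2) * (b2⁻¹ * b * b2) * (b1 * n * b2)⁻¹) * b1 := by group
    rw [e]
    exact mul_mem (mul_mem (hBM (inv_mem hb1))
      (h _ (mul_mem (mul_mem (inv_mem hb2) hb) hb2))) (hBM hb1)
  exact mul_mem (mul_mem (hBM hb1) hnM) (hBM hb2)

/-- elements of `closure J` are in `N` and project to `W_J` -/
theorem proj_mem_of_mem_closure {J : Set G} (hJ : J ⊆ P.S) {n : G}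
    (hn : n ∈ Subgroup.closure J) : ∃ hN : n ∈ P.N, proj P ⟨n, hN⟩ ∈ Subgroup.closure (bar P J) := by
  induction hn using Subgroup.closure_induction with
  | mem x hx => exact ⟨P.subset (hJ hx), Subgroup.subset_closure ⟨_, hx, rfl⟩⟩
  | one => exact ⟨one_mem _, by
      have : (⟨1, one_mem _⟩ : P.N) = 1 := rfl
      rw [this, map_one]; exact one_mem _⟩
  | mul x y _ _ hx hy =>
    obtain ⟨hx1, hx2⟩ := hx
    obtain ⟨hy1, hy2⟩ := hy
    refine ⟨mul_mem hx1 hy1, ?_⟩
    have : (⟨x * y, mul_mem hx1 hy1⟩ : P.N) = ⟨x, hx1⟩ * ⟨y, hy1⟩ := rfl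
    rw [this, map_mul]
    exact mul_mem hx2 hy2
  | inv x _ hx =>
    obtain ⟨hx1, hx2⟩ := hx
    refine ⟨inv_mem hx1, ?_⟩
    have : (⟨x⁻¹, inv_mem hx1⟩ : P.N) = ⟨x, hx1⟩⁻¹ := rfl
    rw [this, map_inv]
    exact inv_mem hx2

theorem exists_rep_of_mem_closure {J : Set G} {w : W P}
    (hw : w ∈ Subgroup.closure (bar P J)) :
    ∃ n : P.N, (n : G) ∈ Subgroup.closure J ∧ proj P n = w := by
  induction hw using Subgroup.closure_induction with
  | mem x hx =>
    obtain ⟨n, hn, rfl⟩ := hx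
    exact ⟨n, Subgroup.subset_closure hn, rfl⟩
  | one => exact ⟨1, one_mem _, map_one _⟩
  | mul x y _ _ hx hy =>
    obtain ⟨n1, h1, rfl⟩ := hx
    obtain ⟨n2, h2, rfl⟩ := hy
    exact ⟨n1 * n2, mul_mem h1 h2, map_mul _ _ _⟩
  | inv x _ hx =>
    obtain ⟨n1, h1, rfl⟩ := hx
    exact ⟨n1⁻¹, inv_mem h1, map_inv _ _⟩

/-- the union of the double cosets of `closure J` -/
def BWB (J : Set G) : Set G := {g | ∃ n ∈ Subgroup.closure J, g ∈ D P n}

theorem BWB_B_mul {J : Set G} {b g : G} (hb : b ∈ P.B) (hg : g ∈ BWB P J) : b * g ∈ BWB P J := by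
  obtain ⟨n, hn, h⟩ := hg
  exact ⟨n, hn, B_mul_mem_D P hb h⟩

theorem BWB_S_mul {J : Set G} (hJ : J ⊆ P.S) {s g : G} (hs : s ∈ J) (hg : g ∈ BWB P J) :
    s * g ∈ BWB P J := by
  obtain ⟨n, hn, h⟩ := hg
  obtain ⟨hN, _⟩ := proj_mem_of_mem_closure P hJ hn
  rcases T1_left P (hJ hs) hN (self_mem_D P s) h with h1 | h1
  · exact ⟨s * n, mul_mem (Subgroup.subset_closure hs) hn, h1⟩
  · exact ⟨n, hn, h1⟩

theorem BWB_S_inv_mul {J : Set G} (hJ : J ⊆ P.S) {s g : G} (hs : s ∈ J) (hg : g ∈ BWB P J) :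
    s⁻¹ * g ∈ BWB P J := by
  have h1 : (s * s)⁻¹ ∈ P.B := inv_mem (P.sq_mem s (hJ hs))
  have h2 : s⁻¹ * g = s * ((s * s)⁻¹ * g) := by group
  rw [h2]
  exact BWB_S_mul P hJ hs (BWB_B_mul P h1 hg)

theorem BWB_closure_mul {J : Set G} (hJ : J ⊆ P.S) {h : G}
    (hh : h ∈ Subgroup.closure ((P.B : Set G) ∪ J)) :
    (∀ g ∈ BWB P J, h * g ∈ BWB P J) ∧ (∀ g ∈ BWB P J, h⁻¹ * g ∈ BWB P J) := by
  induction hh using Subgroup.closure_induction with
  | mem x hx =>
    rcases hx with hx | hx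
    · exact ⟨fun g hg => BWB_B_mul P hx hg, fun g hg => BWB_B_mul P (inv_mem hx) hg⟩
    · exact ⟨fun g hg => BWB_S_mul P hJ hx hg, fun g hg => BWB_S_inv_mul P hJ hx hg⟩
  | one => simp
  | mul x y _ _ hx hy =>
    refine ⟨fun g hg => ?_, fun g hg => ?_⟩
    · rw [mul_assoc]; exact hx.1 _ (hy.1 _ hg)
    · rw [mul_inv_rev, mul_assoc]; exact hy.2 _ (hx.2 _ hg)
  | inv x _ hx =>
    refine ⟨hx.2, ?_⟩
    rw [inv_inv]
    exact hx.1

theorem parabolic_eq_closure (J : Set G) :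
    P.parabolic J = Subgroup.closure ((P.B : Set G) ∪ J) := by
  unfold BNPair.parabolic
  rw [Subgroup.closure_union, Subgroup.closure_eq]

/-- `P_J = B W_J B` -/
theorem mem_parabolic_iff {J : Set G} (hJ : J ⊆ P.S) (g : G) :
    g ∈ P.parabolic J ↔ ∃ n ∈ Subgroup.closure J, g ∈ D P n := by
  constructor
  · intro hg
    rw [parabolic_eq_closure] at hg
    have h1 : (1 : G) ∈ BWB P J := ⟨1, one_mem _, by rw [D_one]; exact one_mem _⟩
    have := (BWB_closure_mul P hJ hg).1 1 h1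
    rwa [mul_one] at this
  · rintro ⟨n, hn, h⟩
    rw [mem_D] at h
    obtain ⟨b, hb, b', hb', rfl⟩ := h
    have hB : P.B ≤ P.parabolic J := le_sup_left
    have hJ' : Subgroup.closure J ≤ P.parabolic J := le_sup_right
    exact mul_mem (mul_mem (hB hb) (hJ' hn)) (hB hb')

theorem mem_parabolic_iff_W {J : Set G} (hJ : J ⊆ P.S) (g : G) :
    g ∈ P.parabolic J ↔ ∃ w ∈ Subgroup.closure (bar P J), g ∈ C P w := by
  rw [mem_parabolic_iff P hJ]
  constructor
  · rintro ⟨n, hn, h⟩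
    obtain ⟨hN, hw⟩ := proj_mem_of_mem_closure P hJ hn
    exact ⟨_, hw, by rw [C_proj]; exact h⟩
  · rintro ⟨w, hw, h⟩
    obtain ⟨n, hn, rfl⟩ := exists_rep_of_mem_closure P hw
    rw [C_proj] at h
    exact ⟨n, hn, h⟩

theorem B_le_parabolic (J : Set G) : P.B ≤ P.parabolic J := le_sup_left

theorem parabolic_mono {J K : Set G} (h : J ⊆ K) : P.parabolic J ≤ P.parabolic K :=
  sup_le_sup_left (Subgroup.closure_mono h) _

/-- `S ∩ P_K = K` -/
theorem mem_of_mem_parabolic {K : Set G} (hK : K ⊆ P.S) {s : G} (hs : s ∈ P.S)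
    (h : s ∈ P.parabolic K) : s ∈ K := by
  rw [mem_parabolic_iff_W P hK] at h
  obtain ⟨w, hw, hsw⟩ := h
  have hsN : s ∈ P.N := P.subset hs
  have h1 : s ∈ C P (proj P ⟨s, hsN⟩) := by rw [C_proj]; exact self_mem_D P _
  have h2 : proj P ⟨s, hsN⟩ = w := bruhat P (C_inj_of_inter P h1 hsw)
  rw [← h2] at hw
  have h3 := mem_of_mem_closure P (bar_subset_Sbar P hK) ⟨⟨s, hsN⟩, hs, rfl⟩ hw
  exact mem_of_proj_mem_bar P hK (s := ⟨s, hsN⟩) hs h3

theorem parabolic_le_iff {J K : Set G} (hJ : J ⊆ P.S) (hK : K ⊆ P.S) :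
    P.parabolic J ≤ P.parabolic K ↔ J ⊆ K := by
  constructor
  · intro h s hs
    apply mem_of_mem_parabolic P hK (hJ hs)
    apply h
    have : Subgroup.closure J ≤ P.parabolic J := le_sup_right
    exact this (Subgroup.subset_closure hs)
  · exact parabolic_mono P

/-- every subgroup containing `B` is parabolic -/
theorem eq_parabolic_of_le (M : Subgroup G) (hM : P.B ≤ M) :
    M = P.parabolic {s | s ∈ P.S ∧ s ∈ M} := by
  have hJ : {s | s ∈ P.S ∧ s ∈ M} ⊆ P.S := fun s hs => hs.1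
  apply le_antisymm
  · intro g hg
    obtain ⟨n, hn⟩ := exists_N_mem_D P g
    have hn' := hn
    rw [mem_D] at hn
    obtain ⟨b1, hb1, b2, hb2, rfl⟩ := hn
    have hnM : (n : G) ∈ M := by
      have e : (n : G) = b1⁻¹ * (b1 * n * b2) * b2⁻¹ := by group
      rw [e]
      exact mul_mem (mul_mem (hM (inv_mem hb1)) hg) (hM (inv_mem hb2))
    obtain ⟨L, hL, hprod, hlen⟩ := exists_reduced P (proj P n)
    have hred : IsReduced P L := ⟨hL, by rw [hprod, hlen]⟩
    have h1 := lemmaC P M hM L hred n hprod.symm (fun b hb =>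
      mul_mem (mul_mem hnM (hM hb)) (inv_mem hnM))
    rw [mem_parabolic_iff_W P hJ]
    refine ⟨proj P n, ?_, by rw [C_proj]; exact hn'⟩
    rw [← hprod]
    apply prod_mem_closure
    intro τ hτ
    obtain ⟨s, hs, rfl⟩ := hL τ hτ
    refine ⟨s, ⟨hs, ?_⟩, rfl⟩
    apply h1 _ hτ
    rw [C_proj]
    exact self_mem_D P _
  · unfold BNPair.parabolic
    apply sup_le hM
    rw [Subgroup.closure_le]
    intro s hs
    exact hs.2

theorem parabolic_inf {J K : Set G} (hJ : J ⊆ P.S) (hK : K ⊆ P.S) :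
    P.parabolic J ⊓ P.parabolic K = P.parabolic (J ∩ K) := by
  apply le_antisymm
  · intro g hg
    rw [Subgroup.mem_inf] at hg
    obtain ⟨hgJ, hgK⟩ := hg
    rw [mem_parabolic_iff_W P hJ] at hgJ
    rw [mem_parabolic_iff_W P hK] at hgK
    obtain ⟨w, hw, hgw⟩ := hgJ
    obtain ⟨w', hw', hgw'⟩ := hgK
    have hww' : w = w' := bruhat P (C_inj_of_inter P hgw hgw')
    subst hww'
    rw [mem_parabolic_iff_W P (Set.inter_subset_left.trans hJ)]
    refine ⟨w, ?_, hgw⟩
    obtain ⟨L, hLJ, hred, hprod⟩ := exists_reduced_in P (bar_subset_Sbar P hJ) hw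
    rw [← hprod]
    apply prod_mem_closure
    intro τ hτ
    apply bar_inter P hJ hK
    refine ⟨hLJ τ hτ, ?_⟩
    -- τ ∈ bar K via Lemma C applied to M = P_K
    obtain ⟨n, hn⟩ := proj_surjective P w
    have hnK : (n : G) ∈ P.parabolic K := by
      rw [mem_parabolic_iff_W P hK]
      exact ⟨w, hw', by rw [← hn, C_proj]; exact self_mem_D P _⟩
    have h1 := lemmaC P (P.parabolic K) (B_le_parabolic P K) L hred n (hn.trans hprod.symm)
      (fun b hb => mul_mem (mul_mem hnK (B_le_parabolic P K hb)) (inv_mem hnK)) τ hτ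
    obtain ⟨t, ht, rfl⟩ := hred.1 τ hτ
    have h2 : (t : G) ∈ P.parabolic K := h1 (by rw [C_proj]; exact self_mem_D P _)
    have h3 := mem_of_mem_parabolic P hK ht h2
    exact ⟨t, h3, rfl⟩
  · exact le_inf (parabolic_mono P Set.inter_subset_left) (parabolic_mono P Set.inter_subset_right)

end Cfsg.Agent.Lib.Helper5.BN
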