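import Mathlib
import Cfsg.Prelude.Def_LieExceptional
import Cfsg.Agent.Lib.Helper5.BN

/-!
# (B,N)-pairs, part 2: right-handed lemmas, letters of reduced words, normal subgroups (helper5)
-/

set_option autoImplicit false

namespace Cfsg.Agent.Lib.Helper5.BN

open Cfsg DoubleCoset

variable {G : Type*} [Group G] (P : BNPair G)

theorem len_inv_le (w : W P) : len P w⁻¹ ≤ len P w := by
  obtain ⟨L, hL, hprod, hlen⟩ := exists_reduced P w
  have h1 : IsWord P L.reverse := fun σ hσ => hL σ (List.mem_reverse.mp hσ)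
  have h2 := len_le_of_word P h1
  rw [← word_prod_inv P hL, hprod, List.length_reverse, hlen] at h2
  exact h2

theorem len_inv (w : W P) : len P w⁻¹ = len P w := by
  apply le_antisymm (len_inv_le P w)
  have := len_inv_le P w⁻¹
  rwa [inv_inv] at this

theorem L2_right {w τ : W P} (hτ : τ ∈ Sbar P) (hle : len P w ≤ len P (w * τ)) {x t : G}
    (hx : x ∈ C P w) (ht : t ∈ C P τ) : x * t ∈ C P (w * τ) := by
  have ht' : t⁻¹ ∈ C P τ := by
    have := inv_mem_C P ht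
    rwa [Sbar_inv P hτ] at this
  have hx' : x⁻¹ ∈ C P w⁻¹ := inv_mem_C P hx
  have e : τ * w⁻¹ = (w * τ)⁻¹ := by rw [mul_inv_rev, Sbar_inv P hτ]
  have hle' : len P w⁻¹ ≤ len P (τ * w⁻¹) := by rw [e, len_inv, len_inv]; exact hle
  have h := L2 P hτ hle' ht' hx'
  have h2 := inv_mem_C P h
  rw [e, inv_inv] at h2
  have e2 : (t⁻¹ * x⁻¹)⁻¹ = x * t := by group
  rwa [e2] at h2

/-- the letters of a reduced word for an element of `W_K` lie in `K` -/
theorem letters_mem {K : Set G} (hK : K ⊆ P.S) {L : List (W P)} (hred : IsReduced P L)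
    (hw : L.prod ∈ Subgroup.closure (bar P K)) : ∀ τ ∈ L, τ ∈ bar P K := by
  intro τ hτ
  obtain ⟨n, hn⟩ := proj_surjective P L.prod
  have hnK : (n : G) ∈ P.parabolic K := by
    rw [mem_parabolic_iff_W P hK]
    exact ⟨L.prod, hw, by rw [← hn, C_proj]; exact self_mem_D P _⟩
  have h1 := lemmaC P (P.parabolic K) (B_le_parabolic P K) L hred n hn
    (fun b hb => mul_mem (mul_mem hnK (B_le_parabolic P K hb)) (inv_mem hnK)) τ hτ
  obtain ⟨t, ht, rfl⟩ := hred.1 τ hτ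
  have h2 : (t : G) ∈ P.parabolic K := h1 (by rw [C_proj]; exact self_mem_D P _)
  have h3 := mem_of_mem_parabolic P hK ht h2
  exact ⟨t, h3, rfl⟩

theorem len_two {σ σ' : W P} (hσ : σ ∈ Sbar P) (hσ' : σ' ∈ Sbar P) (hne : σ ≠ σ') :
    len P (σ' * σ) = 2 := by
  have h1 := len_mul_le P hσ' σ
  have h2 := len_mul_ne P (w := σ) hσ'
  rw [len_Sbar P hσ] at h1 h2
  have h3 : len P (σ' * σ) ≠ 0 := by
    rw [Ne, len_eq_zero]
    intro h
    apply hne
    have : σ' = σ⁻¹ := eq_inv_of_mul_eq_one_left h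
    rw [this, Sbar_inv P hσ]
  omega

/-- for a normal subgroup `H`, the generators in `BH` commute (mod `B`) with those outside -/
theorem comm_of_normal (H : Subgroup G) [hH : H.Normal] {s s' : G} (hs : s ∈ P.S)
    (hs' : s' ∈ P.S) (hsH : s ∈ P.B ⊔ H) (hs'H : s' ∉ P.B ⊔ H) :
    s * s' * s⁻¹ * s'⁻¹ ∈ P.B := by
  set J : Set G := {t | t ∈ P.S ∧ t ∈ P.B ⊔ H} with hJdef
  have hJ : J ⊆ P.S := fun t ht => ht.1
  have hPJ : P.B ⊔ H = P.parabolic J := eq_parabolic_of_le P (P.B ⊔ H) le_sup_left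
  have hsN : s ∈ P.N := P.subset hs
  have hs'N : s' ∈ P.N := P.subset hs'
  set σ : W P := proj P ⟨s, hsN⟩ with hσdef
  set σ' : W P := proj P ⟨s', hs'N⟩ with hσ'def
  have hσ : σ ∈ Sbar P := ⟨_, hs, rfl⟩
  have hσ' : σ' ∈ Sbar P := ⟨_, hs', rfl⟩
  have hσJ : σ ∈ bar P J := ⟨⟨s, hsN⟩, ⟨hs, hsH⟩, rfl⟩
  have hσ'J : σ' ∉ bar P J := by
    intro h
    have := mem_of_proj_mem_bar P hJ (s := ⟨s', hs'N⟩) hs' h
    exact hs'H this.2
  have hne : σ ≠ σ' := by
    intro h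
    rw [h] at hσJ
    exact hσ'J hσJ
  have hl1 : len P (σ' * σ) = 2 := len_two P hσ hσ' hne
  have hl2 : len P (σ * σ') = 2 := len_two P hσ' hσ hne.symm
  -- an element of H in C σ
  rw [Subgroup.mem_sup_of_normal_right] at hsH
  obtain ⟨b, hb, h, hh, hbh⟩ := hsH
  have hhC : h ∈ C P σ := by
    rw [hσdef, C_proj]
    have e : h = b⁻¹ * s := by rw [← hbh]; group
    rw [e]
    exact B_mul_mem_D P (inv_mem hb) (self_mem_D P s)
  have hs'C : s' ∈ C P σ' := by rw [hσ'def, C_proj]; exact self_mem_D P _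
  have hs'iC : s'⁻¹ ∈ C P σ' := by
    rw [hσ'def, C_proj]
    change s'⁻¹ ∈ D P s'
    rw [← D_inv_S P hs']
    exact self_mem_D P _
  -- length of σ' σ σ' is 1
  have hl3 : len P (σ' * (σ * σ')) < len P (σ * σ') := by
    have h1 := len_mul_le P hσ' (σ * σ')
    have h2 := len_mul_ne P (w := σ * σ') hσ'
    have h4 := len_le_mul P hσ' (σ * σ')
    by_contra hcon
    push Not at hcon
    have h3 : len P (σ' * (σ * σ')) = 3 := by omega
    -- then s' h s'⁻¹ ∈ C (σ' σ σ')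
    have h5 : s' * h ∈ C P (σ' * σ) :=
      L2 P hσ' (by rw [hl1, len_Sbar P hσ]; omega) hs'C hhC
    have h6 : s' * h * s'⁻¹ ∈ C P (σ' * σ * σ') :=
      L2_right P hσ' (by rw [mul_assoc, h3, hl1]; omega) h5 hs'iC
    have h7 : s' * h * s'⁻¹ ∈ P.parabolic J := by
      rw [← hPJ]
      exact (le_sup_right : H ≤ P.B ⊔ H) (hH.conj_mem h hh s')
    rw [mem_parabolic_iff_W P hJ] at h7
    obtain ⟨w, hw, hw2⟩ := h7
    have h8 : σ' * σ * σ' = w := bruhat P (C_inj_of_inter P h6 hw2)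
    have hred : IsReduced P [σ', σ, σ'] := by
      refine ⟨?_, ?_⟩
      · intro τ hτ
        simp only [List.mem_cons, List.not_mem_nil, or_false] at hτ
        rcases hτ with rfl | rfl | rfl
        · exact hσ'
        · exact hσ
        · exact hσ'
      · simp only [List.length_cons, List.length_nil, List.prod_cons, List.prod_nil, mul_one]
        rw [h3]
    have h9 : [σ', σ, σ'].prod ∈ Subgroup.closure (bar P J) := by
      simp only [List.prod_cons, List.prod_nil, mul_one]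
      rw [← mul_assoc, h8]
      exact hw
    exact hσ'J (letters_mem P hJ hred h9 σ' (by simp))
  have hcomm : σ' * σ = σ * σ' :=
    Bprime P hσ' hσ' (by rw [hl1, len_Sbar P hσ]; omega) hl3
  -- conclude
  have hmem : s * s' * s⁻¹ * s'⁻¹ ∈ P.N :=
    mul_mem (mul_mem (mul_mem hsN hs'N) (inv_mem hsN)) (inv_mem hs'N)
  have : proj P ⟨s * s' * s⁻¹ * s'⁻¹, hmem⟩ = 1 := by
    have e : (⟨s * s' * s⁻¹ * s'⁻¹, hmem⟩ : P.N) =
        ⟨s, hsN⟩ * ⟨s', hs'N⟩ * ⟨s, hsN⟩⁻¹ * ⟨s', hs'N⟩⁻¹ := rfl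
    rw [e, map_mul, map_mul, map_mul, map_inv, map_inv, ← hσdef, ← hσ'def, Sbar_inv P hσ,
      Sbar_inv P hσ', mul_assoc σ σ' σ, hcomm, ← mul_assoc σ σ σ', Sbar_sq P hσ, one_mul,
      Sbar_sq P hσ']
  rwa [proj_eq_one_iff] at this

end Cfsg.Agent.Lib.Helper5.BN
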