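import Mathlib
import Cfsg.Agent.Lib.Helper5.BN2

/-!
# Minimal coset representatives in the Weyl group of a (B,N)-pair (helper5)

The distinguished representatives of the cosets of a parabolic subgroup of the Weyl group, the
additivity of the lengths, the longest element, and the products of double cosets.
-/

set_option autoImplicit false

namespace Cfsg.Agent.Lib.Helper5.BN

open Cfsg

variable {G : Type*} [Group G] (P : BNPair G)

theorem len_mul_le_add (a b : W P) : len P (a * b) ≤ len P a + len P b := by
  obtain ⟨La, h1, h2, h3⟩ := exists_reduced P a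
  obtain ⟨Lb, h4, h5, h6⟩ := exists_reduced P b
  have := len_le_of_word P ((isWord_append P).2 ⟨h1, h4⟩)
  rw [List.prod_append, h2, h5, List.length_append, h3, h6] at this
  exact this

theorem len_mul_right_ne {w σ : W P} (hσ : σ ∈ Sbar P) : len P (w * σ) ≠ len P w := by
  have h := len_mul_ne P (w := w⁻¹) hσ
  rw [← Sbar_inv P hσ, ← mul_inv_rev, len_inv, len_inv] at h
  exact h

theorem isReduced_reverse {L : List (W P)} (h : IsReduced P L) : IsReduced P L.reverse := by
  refine ⟨fun σ hσ => h.1 σ (List.mem_reverse.1 hσ), ?_⟩
  rw [List.length_reverse, ← word_prod_inv P h.1, len_inv]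
  exact h.2

/-- the exchange condition on the right -/
theorem exchange_right (L : List (W P)) (σ : W P) (hσ : σ ∈ Sbar P) (hred : IsReduced P L)
    (hlt : len P (L.prod * σ) < len P L.prod) :
    ∃ (L1 : List (W P)) (τ : W P) (L2 : List (W P)),
      L = L1 ++ τ :: L2 ∧ L2.prod * σ = τ * L2.prod := by
  have hr := isReduced_reverse P hred
  have hlt' : len P (σ * L.reverse.prod) < len P L.reverse.prod := by
    rw [← word_prod_inv P hred.1, len_inv]
    have : σ * L.prod⁻¹ = (L.prod * σ)⁻¹ := by rw [mul_inv_rev, Sbar_inv P hσ]
    rw [this, len_inv]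
    exact hlt
  obtain ⟨M1, τ, M2, hM, heq⟩ := exchange P L.reverse σ hσ hr hlt'
  have hL : L = M2.reverse ++ τ :: M1.reverse := by
    have := congrArg List.reverse hM
    rw [List.reverse_reverse] at this
    rw [this]
    simp
  refine ⟨M2.reverse, τ, M1.reverse, hL, ?_⟩
  have hτ : τ ∈ Sbar P := hred.1 τ (by rw [hL]; simp)
  have hM1 : IsWord P M1 := fun ρ hρ => hr.1 ρ (by rw [hM]; simp [hρ])
  rw [← word_prod_inv P hM1]
  have := congrArg (fun z => z⁻¹) heq
  simp only [mul_inv_rev, Sbar_inv P hσ, Sbar_inv P hτ] at this
  exact this

theorem exchange_right_prod {L L1 L2 : List (W P)} {σ τ : W P} (hτ : τ ∈ Sbar P)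
    (hL : L = L1 ++ τ :: L2) (heq : L2.prod * σ = τ * L2.prod) :
    L.prod * σ = (L1 ++ L2).prod := by
  rw [hL, List.prod_append, List.prod_cons, List.prod_append, mul_assoc, mul_assoc, heq,
    ← mul_assoc τ, Sbar_sq P hτ, one_mul]

section cosets

variable {A : Set (W P)} (hA : A ⊆ Sbar P)

/-- `x` has minimal length in its coset `x W_A` -/
def IsMinRep (A : Set (W P)) (x : W P) : Prop :=
  ∀ u ∈ Subgroup.closure A, len P x ≤ len P (x * u)

/-- the distinguished coset representatives: no letter of `A` is a right descent -/
def DA (A : Set (W P)) : Set (W P) := {w | ∀ σ ∈ A, len P w < len P (w * σ)}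

theorem exists_minRep (w : W P) :
    ∃ x v, v ∈ Subgroup.closure A ∧ w = x * v ∧ IsMinRep P A x := by
  have hne : {k | ∃ u ∈ Subgroup.closure A, len P (w * u) = k}.Nonempty :=
    ⟨len P (w * 1), 1, one_mem _, rfl⟩
  obtain ⟨u0, hu0, hk⟩ := Nat.sInf_mem hne
  refine ⟨w * u0, u0⁻¹, inv_mem hu0, by group, ?_⟩
  intro u hu
  rw [hk]
  apply Nat.sInf_le
  exact ⟨u0 * u, mul_mem hu0 hu, by rw [mul_assoc]⟩

include hA in
/-- lengths add for a minimal representative and an element of `W_A` -/
theorem minRep_add {x : W P} (hx : IsMinRep P A x) :
    ∀ (n : ℕ) (v : W P), v ∈ Subgroup.closure A → len P v = n →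
      len P (x * v) = len P x + len P v := by
  intro n
  induction n with
  | zero =>
    intro v _ hn
    rw [(len_eq_zero P).1 hn, mul_one, len_one, add_zero]
  | succ n ih =>
    intro v hv hn
    obtain ⟨V, hVA, hVred, hVprod⟩ := exists_reduced_in P hA hv
    have hVlen : V.length = n + 1 := by rw [hVred.2, hVprod, hn]
    rcases List.eq_nil_or_concat V with h0 | ⟨V', σ, hV⟩
    · rw [h0] at hVlen; simp at hVlen
    rw [List.concat_eq_append] at hV
    have hσA : σ ∈ A := hVA σ (by rw [hV]; simp)
    have hσ : σ ∈ Sbar P := hA hσA
    have hV'red : IsReduced P V' := isReduced_of_append_left P (hV ▸ hVred)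
    have hV'len : V'.length = n := by
      rw [hV, List.length_append, List.length_singleton] at hVlen
      omega
    have hv' : V'.prod ∈ Subgroup.closure A :=
      prod_mem_closure P (fun ρ hρ => hVA ρ (by rw [hV]; simp [hρ]))
    have hvv' : v = V'.prod * σ := by
      rw [← hVprod, hV, List.prod_append, List.prod_singleton]
    have ih' := ih V'.prod hv' (by rw [← hV'red.2, hV'len])
    obtain ⟨X, hX1, hX2, hX3⟩ := exists_reduced P x
    have hXV : IsReduced P (X ++ V') := by
      refine ⟨(isWord_append P).2 ⟨hX1, hV'red.1⟩, ?_⟩
      rw [List.prod_append, hX2, ih', List.length_append, hX3, hV'red.2]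
    have hlv' : len P V'.prod = n := by rw [← hV'red.2, hV'len]
    -- the length goes up
    have hup : len P (x * V'.prod) < len P (x * V'.prod * σ) := by
      by_contra hcon
      push Not at hcon
      have hlt : len P ((X ++ V').prod * σ) < len P (X ++ V').prod := by
        rw [List.prod_append, hX2]
        exact lt_of_le_of_ne hcon (len_mul_right_ne P hσ)
      obtain ⟨L1, τ, L2, hL, heq⟩ := exchange_right P _ σ hσ hXV hlt
      have hτ : τ ∈ Sbar P := hXV.1 τ (by rw [hL]; simp)
      have hprod := exchange_right_prod P hτ hL heq
      rw [List.append_eq_append_iff] at hL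
      rcases hL with ⟨a', ha1, ha2⟩ | ⟨c', hc1, hc2⟩
      · -- the letter lies in `V'`
        have e : v = (a' ++ L2).prod := by
          have h1 : V'.prod * σ = (a' ++ L2).prod := by
            rw [ha2, List.prod_append, List.prod_cons, List.prod_append, mul_assoc, mul_assoc,
              heq, ← mul_assoc τ, Sbar_sq P hτ, one_mul]
          rw [hvv', h1]
        have hw : IsWord P (a' ++ L2) := by
          have := hV'red.1
          rw [ha2, isWord_append, isWord_cons] at this
          exact (isWord_append P).2 ⟨this.1, this.2.2⟩
        have := len_le_of_word P hw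
        rw [← e, hn] at this
        have hl2 := congrArg List.length ha2
        rw [hV'len, List.length_append, List.length_cons] at hl2
        rw [List.length_append] at this
        omega
      · cases c' with
        | nil =>
          -- the letter is the first of `V'`
          rw [List.nil_append] at hc2
          have e : v = L2.prod := by
            have h1 : V'.prod * σ = L2.prod := by
              rw [← hc2, List.prod_cons, mul_assoc, heq, ← mul_assoc, Sbar_sq P hτ, one_mul]
            rw [hvv', h1]
          have hw : IsWord P L2 := by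
            have := hV'red.1
            rw [← hc2, isWord_cons] at this
            exact this.2
          have := len_le_of_word P hw
          rw [← e, hn] at this
          have hl2 := congrArg List.length hc2
          rw [hV'len, List.length_cons] at hl2
          omega
        | cons c c'' =>
          -- the letter lies in `X`
          rw [List.cons_append, List.cons.injEq] at hc2
          obtain ⟨rfl, hc2⟩ := hc2
          have e : x * V'.prod * σ = (L1 ++ c'').prod * V'.prod := by
            have : (X ++ V').prod * σ = (L1 ++ L2).prod := hprod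
            rw [List.prod_append, hX2] at this
            rw [this, hc2, ← List.append_assoc, List.prod_append]
          have hw : IsWord P (L1 ++ c'') := by
            have := hX1
            rw [hc1, isWord_append, isWord_cons] at this
            exact (isWord_append P).2 ⟨this.1, this.2.2⟩
          have hshort := len_le_of_word P hw
          have hl2 := congrArg List.length hc1
          rw [hX3, List.length_append, List.length_cons] at hl2
          rw [List.length_append] at hshort
          -- the shorter element lies in the coset of `x`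
          have hmem : (L1 ++ c'').prod = x * (V'.prod * σ * (V'.prod)⁻¹) := by
            have : (L1 ++ c'').prod = x * V'.prod * σ * (V'.prod)⁻¹ := by rw [e]; group
            rw [this]; group
          have hmin := hx (V'.prod * σ * (V'.prod)⁻¹)
            (mul_mem (mul_mem hv' (Subgroup.subset_closure hσA)) (inv_mem hv'))
          rw [← hmem] at hmin
          omega
    have h1 := len_mul_right_le P hσ (x * V'.prod)
    rw [hvv', ← mul_assoc]
    have h2 : len P (V'.prod * σ) = n + 1 := by rw [← hvv', hn]
    rw [h2]
    omega

include hA in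
theorem minRep_mem_DA {x : W P} (hx : IsMinRep P A x) : x ∈ DA P A := by
  intro σ hσ
  exact lt_of_le_of_ne (hx σ (Subgroup.subset_closure hσ)) (len_mul_right_ne P (hA hσ)).symm

include hA in
theorem DA_isMinRep {x : W P} (hx : x ∈ DA P A) : IsMinRep P A x := by
  obtain ⟨x0, v0, hv0, rfl, hmin⟩ := exists_minRep P (A := A) x
  have hadd := minRep_add P hA hmin _ v0 hv0 rfl
  by_cases h1 : v0 = 1
  · rw [h1, mul_one]; exact hmin
  exfalso
  obtain ⟨V, hVA, hVred, hVprod⟩ := exists_reduced_in P hA hv0
  rcases List.eq_nil_or_concat V with h0 | ⟨V', σ, hV⟩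
  · rw [h0] at hVprod; exact h1 hVprod.symm
  rw [List.concat_eq_append] at hV
  have hσA : σ ∈ A := hVA σ (by rw [hV]; simp)
  have hσ : σ ∈ Sbar P := hA hσA
  have hv' : V'.prod ∈ Subgroup.closure A :=
    prod_mem_closure P (fun ρ hρ => hVA ρ (by rw [hV]; simp [hρ]))
  have hvσ : v0 * σ = V'.prod := by
    rw [← hVprod, hV, List.prod_append, List.prod_singleton, mul_Sbar_cancel P hσ]
  have h2 := hx σ hσA
  rw [mul_assoc, hvσ, minRep_add P hA hmin _ _ hv' rfl, hadd] at h2
  have h3 : len P V'.prod ≤ V'.length :=
    len_le_of_word P (fun ρ hρ => hA (hVA ρ (by rw [hV]; simp [hρ])))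
  have h4 : len P v0 = V'.length + 1 := by
    rw [← hVprod, ← hVred.2, hV, List.length_append, List.length_singleton]
  omega

include hA in
/-- lengths add for a distinguished representative and an element of `W_A` -/
theorem DA_add {x v : W P} (hx : x ∈ DA P A) (hv : v ∈ Subgroup.closure A) :
    len P (x * v) = len P x + len P v :=
  minRep_add P hA (DA_isMinRep P hA hx) _ v hv rfl

include hA in
/-- each coset contains exactly one distinguished representative -/
theorem DA_unique {x x' v : W P} (hx : x ∈ DA P A) (hx' : x' ∈ DA P A)
    (hv : v ∈ Subgroup.closure A) (h : x' = x * v) : v = 1 := by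
  have h1 := DA_add P hA hx hv
  have h2 := DA_add P hA hx' (inv_mem hv)
  rw [h, mul_assoc, mul_inv_cancel, mul_one, h1, len_inv] at h2
  rw [← len_eq_zero P]
  omega

include hA in
theorem exists_DA (w : W P) : ∃ x ∈ DA P A, ∃ v ∈ Subgroup.closure A, w = x * v := by
  obtain ⟨x, v, hv, rfl, hmin⟩ := exists_minRep P (A := A) w
  exact ⟨x, minRep_mem_DA P hA hmin, v, hv, rfl⟩

end cosets

/-! ### the longest element -/

/-- no generator is a right ascent -/
def NoAscent (w : W P) : Prop := ∀ σ ∈ Sbar P, len P (w * σ) < len P w

/-- every element is a right factor of an element without ascents -/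
theorem noAscent_suffix {w : W P} (hw : NoAscent P w) :
    ∀ (n : ℕ) (v : W P), len P v = n → len P (w * v⁻¹) + len P v = len P w := by
  intro n
  induction n with
  | zero =>
    intro v hn
    rw [(len_eq_zero P).1 hn, inv_one, mul_one, len_one, add_zero]
  | succ n ih =>
    intro v hn
    obtain ⟨V, hV1, hV2, hV3⟩ := exists_reduced P v
    have hVred : IsReduced P V := ⟨hV1, by rw [hV2]; exact hV3⟩
    rcases List.eq_nil_or_concat V with h0 | ⟨V', σ, hV⟩
    · rw [h0, List.length_nil, hn] at hV3; omega
    rw [List.concat_eq_append] at hV
    have hσ : σ ∈ Sbar P := hV1 σ (by rw [hV]; simp)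
    have hV'red : IsReduced P V' := isReduced_of_append_left P (hV ▸ hVred)
    have hV'len : V'.length = n := by
      rw [hV, List.length_append, List.length_singleton, hn] at hV3
      omega
    have hvv' : v = V'.prod * σ := by
      rw [← hV2, hV, List.prod_append, List.prod_singleton]
    have hlv' : len P V'.prod = n := by rw [← hV'red.2, hV'len]
    have ih' := ih V'.prod hlv'
    obtain ⟨U, hU1, hU2, hU3⟩ := exists_reduced P (w * (V'.prod)⁻¹)
    have hUVp : (U ++ V').prod = w := by rw [List.prod_append, hU2]; group
    have hUV : IsReduced P (U ++ V') := by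
      refine ⟨(isWord_append P).2 ⟨hU1, hV'red.1⟩, ?_⟩
      rw [hUVp, List.length_append, hU3, hV'len, ← ih', hlv']
    have hlt : len P ((U ++ V').prod * σ) < len P (U ++ V').prod := by
      rw [hUVp]; exact hw σ hσ
    obtain ⟨L1, τ, L2, hL, heq⟩ := exchange_right P _ σ hσ hUV hlt
    have hτ : τ ∈ Sbar P := hUV.1 τ (by rw [hL]; simp)
    have hprod := exchange_right_prod P hτ hL heq
    -- the case where the letter lies in `V'` is impossible
    have bad : ∀ (M : List (W P)), IsWord P M → M.length + 1 = V'.length →
        V'.prod * σ = M.prod → False := by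
      intro M hM hMl hMp
      have := len_le_of_word P hM
      rw [← hMp, ← hvv', hn] at this
      omega
    rw [List.append_eq_append_iff] at hL
    rcases hL with ⟨a', ha1, ha2⟩ | ⟨c', hc1, hc2⟩
    · exfalso
      apply bad (a' ++ L2)
      · have := hV'red.1
        rw [ha2, isWord_append, isWord_cons] at this
        exact (isWord_append P).2 ⟨this.1, this.2.2⟩
      · rw [ha2]; simp only [List.length_append, List.length_cons]; omega
      · rw [ha2, List.prod_append, List.prod_cons, List.prod_append, mul_assoc, mul_assoc,
          heq, ← mul_assoc τ, Sbar_sq P hτ, one_mul]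
    · cases c' with
      | nil =>
        exfalso
        rw [List.nil_append] at hc2
        apply bad L2
        · have := hV'red.1
          rw [← hc2, isWord_cons] at this
          exact this.2
        · rw [← hc2]; simp
        · rw [← hc2, List.prod_cons, mul_assoc, heq, ← mul_assoc, Sbar_sq P hτ, one_mul]
      | cons c c'' =>
        rw [List.cons_append, List.cons.injEq] at hc2
        obtain ⟨rfl, hc2⟩ := hc2
        have e : w * σ = (L1 ++ c'').prod * V'.prod := by
          rw [← hUVp, hprod, hc2, ← List.append_assoc, List.prod_append]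
        have hw' : IsWord P (L1 ++ c'') := by
          have := hU1
          rw [hc1, isWord_append, isWord_cons] at this
          exact (isWord_append P).2 ⟨this.1, this.2.2⟩
        have hshort := len_le_of_word P hw'
        have hl2 := congrArg List.length hc1
        rw [hU3, List.length_append, List.length_cons] at hl2
        rw [List.length_append] at hshort
        have e2 : w * v⁻¹ = (L1 ++ c'').prod := by
          have : (L1 ++ c'').prod = w * σ * (V'.prod)⁻¹ := by rw [e]; group
          rw [this, hvv', mul_inv_rev, Sbar_inv P hσ, mul_assoc]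
        have e3 : w = (L1 ++ c'').prod * v := by rw [← e2]; group
        have h5 := len_mul_le_add P (L1 ++ c'').prod v
        rw [← e3] at h5
        rw [e2]
        omega

theorem noAscent_max {w : W P} (hw : NoAscent P w) (v : W P) : len P v ≤ len P w := by
  have := noAscent_suffix P hw _ v rfl
  omega

theorem noAscent_unique {w w' : W P} (hw : NoAscent P w) (hw' : NoAscent P w') : w = w' := by
  have h1 := noAscent_suffix P hw _ w' rfl
  have h2 := noAscent_max P hw' w
  have h3 : len P (w * w'⁻¹) = 0 := by omega
  rw [len_eq_zero P] at h3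
  exact mul_inv_eq_one.1 h3

/-! ### products of double cosets -/

/-- if the lengths add, the product of the double cosets is a double coset -/
theorem C_mul_of_add : ∀ (n : ℕ) (w w' : W P), len P w' = n →
    len P (w * w') = len P w + len P w' →
    ∀ x ∈ C P w, ∀ y ∈ C P w', x * y ∈ C P (w * w') := by
  intro n
  induction n with
  | zero =>
    intro w w' hn _ x hx y hy
    rw [(len_eq_zero P).1 hn] at hy ⊢
    rw [C_one] at hy
    rw [mul_one]
    exact mul_B_mem_C P hy hx
  | succ n ih =>
    intro w w' hn hadd x hx y hy
    obtain ⟨V, hV1, hV2, hV3⟩ := exists_reduced P w'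
    have hVred : IsReduced P V := ⟨hV1, by rw [hV2]; exact hV3⟩
    rcases List.eq_nil_or_concat V with h0 | ⟨V', σ, hV⟩
    · rw [h0, List.length_nil, hn] at hV3; omega
    rw [List.concat_eq_append] at hV
    have hσ : σ ∈ Sbar P := hV1 σ (by rw [hV]; simp)
    have hV'red : IsReduced P V' := isReduced_of_append_left P (hV ▸ hVred)
    have hV'len : V'.length = n := by
      rw [hV, List.length_append, List.length_singleton, hn] at hV3
      omega
    have hvv' : w' = V'.prod * σ := by
      rw [← hV2, hV, List.prod_append, List.prod_singleton]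
    have hlv' : len P V'.prod = n := by rw [← hV'red.2, hV'len]
    have h1 := len_mul_le_add P w V'.prod
    have h2 := len_mul_right_le P hσ (w * V'.prod)
    rw [hvv', ← mul_assoc] at hadd
    rw [← hvv', hn] at hadd
    have hadd' : len P (w * V'.prod) = len P w + len P V'.prod := by omega
    rw [hvv'] at hy
    obtain ⟨y1, hy1, y2, hy2, rfl⟩ := C_mul_decomp P hy
    have h3 := ih w V'.prod hlv' hadd' x hx y1 hy1
    have h4 := L2_right P hσ (by omega : len P (w * V'.prod) ≤ len P (w * V'.prod * σ)) h3 hy2
    rw [hvv', ← mul_assoc, ← mul_assoc]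
    exact h4

end Cfsg.Agent.Lib.Helper5.BN
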