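import Mathlib
import Cfsg.Agent.Lib.Helper5.BNParabolic

/-!
# The alternating sum of the permutation characters on the parabolic subgroups, on `B` (helper5)
-/

set_option autoImplicit false

namespace Cfsg.Agent.Lib.Helper5.BN

open Cfsg

variable {G : Type*} [Group G] (P : BNPair G)

/-! ### the cell of an element -/

theorem exists_cell (g : G) : ∃ w : W P, g ∈ C P w := by
  obtain ⟨n, hn⟩ := exists_N_mem_D P g
  exact ⟨proj P n, by rw [C_proj]; exact hn⟩

/-- the element of the Weyl group whose double coset contains `g` -/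
noncomputable def cell (g : G) : W P := Classical.choose (exists_cell P g)

theorem mem_C_cell (g : G) : g ∈ C P (cell P g) := Classical.choose_spec (exists_cell P g)

theorem cell_eq {g : G} {w : W P} (h : g ∈ C P w) : cell P g = w :=
  bruhat P (C_inj_of_inter P (mem_C_cell P g) h)

theorem cell_mul_B {g b : G} (hb : b ∈ P.B) : cell P (g * b) = cell P g :=
  cell_eq P (mul_B_mem_C P hb (mem_C_cell P g))

theorem cell_B_mul {g b : G} (hb : b ∈ P.B) : cell P (b * g) = cell P g :=
  cell_eq P (B_mul_mem_C P hb (mem_C_cell P g))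

/-- the cell of a coset of `B` -/
noncomputable def cellQ : G ⧸ P.B → W P :=
  Quotient.lift (cell P) (by
    intro g g' h
    have h' : g⁻¹ * g' ∈ P.B := QuotientGroup.leftRel_apply.1 h
    have e : g' = g * (g⁻¹ * g') := by group
    rw [e, cell_mul_B P h'])

theorem cellQ_mk (g : G) : cellQ P (QuotientGroup.mk g) = cell P g := rfl

theorem cellQ_smul {b : G} (hb : b ∈ P.B) (c : G ⧸ P.B) : cellQ P (b • c) = cellQ P c := by
  induction c using QuotientGroup.induction_on with
  | H g =>
    rw [MulAction.Quotient.smul_mk, cellQ_mk, cellQ_mk, smul_eq_mul, cell_B_mul P hb]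

/-! ### the cosets of a parabolic subgroup -/

section parabolic

variable {J : Set G} (hJ : J ⊆ P.S)

theorem quotientMapOfLE_smul {H K : Subgroup G} (h : H ≤ K) (g : G) (c : G ⧸ H) :
    Subgroup.quotientMapOfLE h (g • c) = g • Subgroup.quotientMapOfLE h c := by
  induction c using QuotientGroup.induction_on with
  | H x =>
    rw [MulAction.Quotient.smul_mk, Subgroup.quotientMapOfLE_apply_mk,
      Subgroup.quotientMapOfLE_apply_mk, MulAction.Quotient.smul_mk]

include hJ in
/-- two cosets of `B` with distinguished cells in the same coset of the parabolic subgroup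
coincide -/
theorem para_inj {c c' : G ⧸ P.B} (hc : cellQ P c ∈ DA P (bar P J))
    (hc' : cellQ P c' ∈ DA P (bar P J))
    (h : Subgroup.quotientMapOfLE (B_le_parabolic P J) c
      = Subgroup.quotientMapOfLE (B_le_parabolic P J) c') : c = c' := by
  induction c using QuotientGroup.induction_on with
  | H g =>
  induction c' using QuotientGroup.induction_on with
  | H g' =>
    rw [Subgroup.quotientMapOfLE_apply_mk, Subgroup.quotientMapOfLE_apply_mk,
      QuotientGroup.eq] at h
    rw [cellQ_mk] at hc hc'
    rw [mem_parabolic_iff_W P hJ] at h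
    obtain ⟨v, hv, hpv⟩ := h
    have hA : bar P J ⊆ Sbar P := bar_subset_Sbar P hJ
    have h1 := C_mul_of_add P _ _ v rfl (DA_add P hA hc hv) g (mem_C_cell P g) _ hpv
    rw [mul_inv_cancel_left] at h1
    have h2 := cell_eq P h1
    have h3 := DA_unique P hA hc hc' hv h2
    rw [h3, C_one] at hpv
    rw [QuotientGroup.eq]
    exact hpv

include hJ in
/-- every coset of the parabolic subgroup contains a coset of `B` with a distinguished cell -/
theorem para_surj (d : G ⧸ P.parabolic J) :
    ∃ c : G ⧸ P.B, cellQ P c ∈ DA P (bar P J) ∧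
      Subgroup.quotientMapOfLE (B_le_parabolic P J) c = d := by
  induction d using QuotientGroup.induction_on with
  | H y =>
    have hA : bar P J ⊆ Sbar P := bar_subset_Sbar P hJ
    obtain ⟨x, hx, v, hv, hxv⟩ := exists_DA P hA (cell P y)
    have hy := mem_C_cell P y
    rw [hxv] at hy
    obtain ⟨g, hg, p, hp, rfl⟩ := C_mul_decomp P hy
    refine ⟨QuotientGroup.mk g, ?_, ?_⟩
    · rw [cellQ_mk, cell_eq P hg]; exact hx
    · rw [Subgroup.quotientMapOfLE_apply_mk, QuotientGroup.eq]
      have : g⁻¹ * (g * p) = p := by group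
      rw [this, mem_parabolic_iff_W P hJ]
      exact ⟨v, hv, hp⟩

include hJ in
/-- the fixed points on the cosets of the parabolic subgroup -/
theorem card_fixedBy_parabolic {b : G} (hb : b ∈ P.B) :
    Nat.card (MulAction.fixedBy (G ⧸ P.parabolic J) b)
      = Nat.card {c : G ⧸ P.B // cellQ P c ∈ DA P (bar P J) ∧ b • c = c} := by
  symm
  apply Nat.card_congr
  refine Equiv.ofBijective (fun c => ⟨Subgroup.quotientMapOfLE (B_le_parabolic P J) c.1, ?_⟩) ⟨?_, ?_⟩
  · rw [MulAction.mem_fixedBy, ← quotientMapOfLE_smul, c.2.2]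
  · intro c c' h
    have := congrArg Subtype.val h
    exact Subtype.ext (para_inj P hJ c.2.1 c'.2.1 this)
  · rintro ⟨d, hd⟩
    obtain ⟨c, hc, rfl⟩ := para_surj P hJ d
    refine ⟨⟨c, hc, ?_⟩, rfl⟩
    rw [MulAction.mem_fixedBy, ← quotientMapOfLE_smul] at hd
    exact para_inj P hJ (by rw [cellQ_smul P hb]; exact hc) hc hd

end parabolic

/-! ### the alternating sum -/

open Classical in
/-- the alternating sum of the numbers of fixed points on the cosets of the parabolic subgroups is
the number of fixed points in the big cell -/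
theorem alternating_sum_fixedBy [Finite G] (l : ℕ) (τ : ℕ → W P)
    (hτs : ∀ σ ∈ Sbar P, ∃ j < l, τ j = σ)
    (Q : Finset ℕ → Subgroup G)
    (hQ : ∀ J ⊆ Finset.range l, ∃ JG ⊆ P.S, Q J = P.parabolic JG ∧ bar P JG = τ '' (J : Set ℕ))
    (w0 : W P) (hw0 : NoAscent P w0) (b : G) (hb : b ∈ P.B) :
    ∑ J ∈ (Finset.range l).powerset,
        (-1 : ℤ) ^ J.card * (Nat.card (MulAction.fixedBy (G ⧸ Q J) b) : ℤ)
      = (Nat.card {c : G ⧸ P.B // cellQ P c = w0 ∧ b • c = c} : ℤ) := by
  have : Fintype (G ⧸ P.B) := Fintype.ofFinite _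
  -- the set of ascents of a cell
  let Asc : G ⧸ P.B → Finset ℕ := fun c =>
    (Finset.range l).filter fun j => len P (cellQ P c) < len P (cellQ P c * τ j)
  have key : ∀ J ∈ (Finset.range l).powerset,
      (Nat.card (MulAction.fixedBy (G ⧸ Q J) b) : ℤ)
        = ∑ c : G ⧸ P.B, if b • c = c ∧ J ⊆ Asc c then (1 : ℤ) else 0 := by
    intro J hJ
    rw [Finset.mem_powerset] at hJ
    obtain ⟨JG, hJG, hQJ, hbar⟩ := hQ J hJ
    rw [hQJ, card_fixedBy_parabolic P hJG hb, Nat.card_eq_fintype_card, Fintype.card_subtype,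
      Finset.card_eq_sum_ones, Finset.sum_filter]
    push_cast
    apply Finset.sum_congr rfl
    intro c _
    have hiff : (cellQ P c ∈ DA P (bar P JG) ∧ b • c = c) ↔ (b • c = c ∧ J ⊆ Asc c) := by
      rw [and_comm]
      apply and_congr_right
      intro _
      rw [hbar]
      constructor
      · intro h j hj
        rw [Finset.mem_filter]
        exact ⟨hJ hj, h (τ j) ⟨j, hj, rfl⟩⟩
      · rintro h σ ⟨j, hj, rfl⟩
        exact (Finset.mem_filter.1 (h hj)).2
    by_cases hc : cellQ P c ∈ DA P (bar P JG) ∧ b • c = c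
    · rw [if_pos hc, if_pos (hiff.1 hc)]
    · rw [if_neg hc, if_neg (fun h => hc (hiff.2 h))]
  rw [Finset.sum_congr rfl (fun J hJ => by rw [key J hJ])]
  simp_rw [Finset.mul_sum]
  rw [Finset.sum_comm]
  -- the inner sum
  have inner : ∀ c : G ⧸ P.B,
      ∑ J ∈ (Finset.range l).powerset,
          (-1 : ℤ) ^ J.card * (if b • c = c ∧ J ⊆ Asc c then (1 : ℤ) else 0)
        = if cellQ P c = w0 ∧ b • c = c then 1 else 0 := by
    intro c
    by_cases hfix : b • c = c
    · have e1 : ∑ J ∈ (Finset.range l).powerset,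
          (-1 : ℤ) ^ J.card * (if b • c = c ∧ J ⊆ Asc c then (1 : ℤ) else 0)
          = ∑ J ∈ (Asc c).powerset, (-1 : ℤ) ^ J.card := by
        have hsub : (Asc c).powerset ⊆ (Finset.range l).powerset :=
          Finset.powerset_mono.2 (Finset.filter_subset _ _)
        rw [← Finset.sum_subset hsub]
        · apply Finset.sum_congr rfl
          intro J hJ
          rw [Finset.mem_powerset] at hJ
          rw [if_pos ⟨hfix, hJ⟩, mul_one]
        · intro J _ hJ
          rw [Finset.mem_powerset] at hJ
          rw [if_neg (fun h => hJ h.2), mul_zero]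
      rw [e1, Finset.sum_powerset_neg_one_pow_card]
      have hiff : Asc c = ∅ ↔ cellQ P c = w0 := by
        constructor
        · intro h
          apply noAscent_unique P _ hw0
          intro σ hσ
          obtain ⟨j, hj, rfl⟩ := hτs σ hσ
          have : j ∉ Asc c := by rw [h]; simp
          rw [Finset.mem_filter, Finset.mem_range] at this
          push Not at this
          exact lt_of_le_of_ne (this hj) (len_mul_right_ne P hσ)
        · intro h
          rw [Finset.eq_empty_iff_forall_notMem]
          intro j hj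
          rw [Finset.mem_filter, h] at hj
          by_cases hσ : τ j ∈ Sbar P
          · have := hw0 (τ j) hσ
            omega
          · -- not a generator: impossible to be an ascent? use the bound directly
            have := noAscent_max P hw0 (w0 * τ j)
            omega
      by_cases h0 : Asc c = ∅
      · rw [if_pos h0, if_pos ⟨hiff.1 h0, hfix⟩]
      · rw [if_neg h0, if_neg (fun h => h0 (hiff.2 h.1))]
    · rw [if_neg (fun h => hfix h.2)]
      apply Finset.sum_eq_zero
      intro J _
      rw [if_neg (fun h => hfix h.1), mul_zero]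
  rw [Finset.sum_congr rfl (fun c _ => inner c), Nat.card_eq_fintype_card, Fintype.card_subtype,
    Finset.card_eq_sum_ones, Finset.sum_filter]
  push_cast
  rfl

/-! ### the big cell -/

/-- the fixed points in the big cell are the fixed points on the cosets of `B ∩ n₀ B n₀⁻¹` in
`B` -/
theorem card_fixedBy_bigCell (n0 : P.N) (K : Subgroup G)
    (hK : ∀ β ∈ P.B, β ∈ K ↔ (n0 : G)⁻¹ * β * n0 ∈ P.B) (b : P.B) :
    Nat.card {c : G ⧸ P.B // cellQ P c = proj P n0 ∧ (b : G) • c = c}
      = Nat.card (MulAction.fixedBy (↥P.B ⧸ K.subgroupOf P.B) b) := by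
  symm
  apply Nat.card_congr
  -- the map `β K ↦ β n₀ B`
  let ψ : ↥P.B ⧸ K.subgroupOf P.B → G ⧸ P.B :=
    Quotient.lift (fun β : P.B => (QuotientGroup.mk ((β : G) * n0) : G ⧸ P.B)) (by
      intro β β' h
      have h' : β⁻¹ * β' ∈ K.subgroupOf P.B := QuotientGroup.leftRel_apply.1 h
      rw [Subgroup.mem_subgroupOf] at h'
      have h2 := (hK _ (β⁻¹ * β').2).1 h'
      show (QuotientGroup.mk ((β : G) * n0) : G ⧸ P.B) = QuotientGroup.mk ((β' : G) * n0)
      rw [QuotientGroup.eq]
      have : ((β : G) * n0)⁻¹ * ((β' : G) * n0) = (n0 : G)⁻¹ * ((β⁻¹ * β' : P.B) : G) * n0 := by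
        simp only [Subgroup.coe_mul, Subgroup.coe_inv]; group
      rw [this]
      exact h2)
  have hψ : ∀ β : P.B, ψ (QuotientGroup.mk β) = QuotientGroup.mk ((β : G) * n0) := fun _ => rfl
  have hψinj : Function.Injective ψ := by
    intro c c' h
    induction c using QuotientGroup.induction_on with
    | H β =>
    induction c' using QuotientGroup.induction_on with
    | H β' =>
      rw [hψ, hψ, QuotientGroup.eq] at h
      rw [QuotientGroup.eq, Subgroup.mem_subgroupOf, hK _ (β⁻¹ * β').2]
      have : ((β : G) * n0)⁻¹ * ((β' : G) * n0) = (n0 : G)⁻¹ * ((β⁻¹ * β' : P.B) : G) * n0 := by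
        simp only [Subgroup.coe_mul, Subgroup.coe_inv]; group
      rwa [this] at h
  have hψsmul : ∀ (c : ↥P.B ⧸ K.subgroupOf P.B), ψ (b • c) = (b : G) • ψ c := by
    intro c
    induction c using QuotientGroup.induction_on with
    | H β =>
      rw [MulAction.Quotient.smul_mk, hψ, hψ, MulAction.Quotient.smul_mk]
      simp only [smul_eq_mul, Subgroup.coe_mul, mul_assoc]
  have hψcell : ∀ c, cellQ P (ψ c) = proj P n0 := by
    intro c
    induction c using QuotientGroup.induction_on with
    | H β =>
      rw [hψ, cellQ_mk]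
      apply cell_eq
      rw [C_proj]
      exact B_mul_mem_D P β.2 (self_mem_D P _)
  refine Equiv.ofBijective (fun c => ⟨ψ c.1, hψcell c.1, ?_⟩) ⟨?_, ?_⟩
  · rw [← hψsmul, c.2]
  · intro c c' h
    have := congrArg Subtype.val h
    exact Subtype.ext (hψinj this)
  · rintro ⟨d, hd1, hd2⟩
    induction d using QuotientGroup.induction_on with
    | H g =>
      rw [cellQ_mk] at hd1
      have hg := mem_C_cell P g
      rw [hd1, C_proj, mem_D] at hg
      obtain ⟨β, hβ, β', hβ', rfl⟩ := hg
      have e : (QuotientGroup.mk (β * (n0 : G) * β') : G ⧸ P.B)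
          = ψ (QuotientGroup.mk ⟨β, hβ⟩) := by
        rw [hψ, QuotientGroup.eq]
        have : (β * (n0 : G) * β')⁻¹ * (β * n0) = β'⁻¹ := by group
        show (β * (n0 : G) * β')⁻¹ * (β * n0) ∈ P.B
        rw [this]
        exact inv_mem hβ'
      refine ⟨⟨QuotientGroup.mk ⟨β, hβ⟩, ?_⟩, Subtype.ext e.symm⟩
      rw [MulAction.mem_fixedBy]
      apply hψinj
      rw [hψsmul, ← e]
      exact hd2

end Cfsg.Agent.Lib.Helper5.BN
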