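import Cfsg.Prelude.Def_ChevStructure
import Cfsg.Prelude.Def_ChevAutomorphisms
import Cfsg.Prelude.Def_ChevG2
import Cfsg.Prelude.Def_ChevB2
import Cfsg.Prelude.Def_ChevD4
import Cfsg.Prelude.Def_ChevF4
import Cfsg.Prelude.Def_ChevE6
import Cfsg.Prelude.Def_ChevE7
import Cfsg.Prelude.Def_ChevE8
import Mathlib

set_option autoImplicit false

namespace Cfsg.Agent.Lib.Helper5.ChevTablesC

open Cfsg.Lie

/-- consistency of the chain table: each chain entry is obtained from the previous one by adding `r` -/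
def chainOKb (D : ChevalleyDatum) : Bool :=
  (List.range D.nroots).all fun r =>
    (D.chain.getD r #[]).toList.all fun e =>
      decide (e.1 < D.nroots) &&
      (List.range e.2.size).all fun j =>
        decide ((e.2.getD j (0, 0)).1 < D.nroots) &&
        decide (D.chainRoot r (if j = 0 then e.1 else (e.2.getD (j - 1) (0, 0)).1) 1
          = some (e.2.getD j (0, 0)).1)

set_option maxRecDepth 100000 in
theorem chainOK_G2 : chainOKb chevG2 = true := by decide

set_option maxRecDepth 100000 in
theorem chainOK_B2 : chainOKb chevB2 = true := by decide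

set_option maxRecDepth 100000 in
theorem chainOK_D4 : chainOKb chevD4 = true := by decide

set_option maxRecDepth 100000 in
theorem chainOK_F4 : chainOKb chevF4 = true := by decide

set_option maxRecDepth 100000 in
theorem chainOK_E6 : chainOKb chevE6 = true := by decide

set_option maxRecDepth 100000 in
theorem chainOK_E7 : chainOKb chevE7 = true := by decide +kernel

set_option maxRecDepth 100000 in
theorem chainOK_E8 : chainOKb chevE8 = true := by decide +kernel

theorem chainOK (D : ChevalleyDatum)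
    (hD : D ∈ [chevG2, chevB2, chevD4, chevF4, chevE6, chevE7, chevE8]) : chainOKb D = true := by
  simp only [List.mem_cons, List.not_mem_nil, or_false] at hD
  rcases hD with rfl | rfl | rfl | rfl | rfl | rfl | rfl
  · exact chainOK_G2
  · exact chainOK_B2
  · exact chainOK_D4
  · exact chainOK_F4
  · exact chainOK_E6
  · exact chainOK_E7
  · exact chainOK_E8

theorem chainOK_spec (D : ChevalleyDatum) (h : chainOKb D = true) (r : ℕ) (hr : r < D.nroots)
    (e : ℕ × Array (ℕ × ℤ)) (he : e ∈ (D.chain.getD r #[]).toList) :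
    e.1 < D.nroots ∧ ∀ j < e.2.size, (e.2.getD j (0, 0)).1 < D.nroots ∧
      D.chainRoot r (if j = 0 then e.1 else (e.2.getD (j - 1) (0, 0)).1) 1
        = some (e.2.getD j (0, 0)).1 := by
  unfold chainOKb at h
  rw [List.all_eq_true] at h
  have h1 := h r (List.mem_range.2 hr)
  rw [List.all_eq_true] at h1
  have h2 := h1 e he
  rw [Bool.and_eq_true, decide_eq_true_eq, List.all_eq_true] at h2
  refine ⟨h2.1, fun j hj => ?_⟩
  have h3 := h2.2 j (List.mem_range.2 hj)
  rw [Bool.and_eq_true, decide_eq_true_eq, decide_eq_true_eq] at h3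
  exact h3

theorem char_chain (D : ChevalleyDatum) (h : chainOKb D = true) {F : Type*} [Field F]
    (χ : ℕ → Fˣ) (hχ : D.IsRootCharacter χ) (r : ℕ) (hr : r < D.nroots)
    (e : ℕ × Array (ℕ × ℤ)) (he : e ∈ (D.chain.getD r #[]).toList) :
    ∀ j < e.2.size, χ (e.2.getD j (0, 0)).1 = χ r ^ (j + 1) * χ e.1 := by
  obtain ⟨he1, hall⟩ := chainOK_spec D h r hr e he
  intro j
  induction j with
  | zero =>
    intro hj
    obtain ⟨h1, h2⟩ := hall 0 hj
    rw [if_pos rfl] at h2
    rw [hχ.2 r e.1 _ hr he1 h2]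
    simp
  | succ j ih =>
    intro hj
    obtain ⟨h1, h2⟩ := hall (j + 1) hj
    rw [if_neg (Nat.succ_ne_zero j), Nat.add_sub_cancel] at h2
    obtain ⟨h3, -⟩ := hall j (by omega)
    rw [hχ.2 r _ _ hr h3 h2, ih (by omega), pow_succ' (χ r) (j + 1), mul_assoc]

theorem char_chainCoeff (D : ChevalleyDatum)
    (hD : D ∈ [chevG2, chevB2, chevD4, chevF4, chevE6, chevE7, chevE8]) {F : Type*} [Field F]
    (χ : ℕ → Fˣ) (hχ : D.IsRootCharacter χ) (r s u : ℕ) (hr : r < D.nroots)
    (km : ℕ × ℤ) (hkm : km ∈ D.chainCoeff r s u) : χ u = χ r ^ km.1 * χ s := by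
  unfold ChevalleyDatum.chainCoeff at hkm
  rw [List.mem_flatMap] at hkm
  obtain ⟨e, he, hkm⟩ := hkm
  rw [List.mem_filter] at he
  obtain ⟨he, hes⟩ := he
  rw [decide_eq_true_eq] at hes
  rw [List.mem_map] at hkm
  obtain ⟨q, hq, rfl⟩ := hkm
  rw [List.mem_filter, decide_eq_true_eq] at hq
  obtain ⟨hq, hqu⟩ := hq
  rw [List.mem_zipIdx_iff_getElem?] at hq
  have hlt : q.2 < e.2.size := by
    by_contra hge
    rw [List.getElem?_eq_none (by simpa using hge)] at hq
    exact absurd hq (by simp)
  have hget : e.2.getD q.2 (0, 0) = q.1 := by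
    rw [Array.getD_eq_getD_getElem?]
    rw [← Array.getElem?_toList] 
    rw [hq]
    rfl
  have := char_chain D (chainOK D hD) χ hχ r hr e he q.2 hlt
  rw [hget, hqu, hes] at this
  exact this

end Cfsg.Agent.Lib.Helper5.ChevTablesC
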