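import Cfsg.Agent.Lib.Helper5.ChevPerm
import Mathlib

set_option autoImplicit false

namespace Cfsg.Agent.Lib.Helper5.ChevPermB

open Cfsg.Lie Cfsg.Agent.Lib.Helper5.ChevPerm
open scoped Matrix

variable {F : Type*} [Field F] {D : ChevalleyDatum} {pi sg : List ℕ} {ep : List ℤ}

/-- node map -/
def piF (c : GraphCert D pi sg ep) (i : Fin D.rank) : Fin D.rank := ⟨pi.getD i 0, c.pi_lt i i.2⟩

/-- root map -/
def sgF (c : GraphCert D pi sg ep) (r : Fin D.nroots) : Fin D.nroots :=
  ⟨sg.getD r 0, c.sg_lt r r.2⟩

theorem piF_inj (c : GraphCert D pi sg ep) : Function.Injective (piF c) := by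
  intro i j h
  have := congrArg Fin.val h
  exact Fin.ext (c.pi_inj i i.2 j j.2 this)

theorem sgF_inj (c : GraphCert D pi sg ep) : Function.Injective (sgF c) := by
  intro i j h
  have := congrArg Fin.val h
  exact Fin.ext (c.sg_inj i i.2 j j.2 this)

/-- sign -/
def epF (F : Type*) [Field F] (ep : List ℤ) (r : ℕ) : F := ((ep.getD r 1 : ℤ) : F)

theorem epF_sq (c : GraphCert D pi sg ep) (r : Fin D.nroots) :
    epF F ep r.val * epF F ep r.val = 1 := by
  unfold epF
  rcases c.ep_pm r r.2 with h | h <;> rw [h] <;> simp

/-- the index map -/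
def hatS (c : GraphCert D pi sg ep) : D.Idx → D.Idx := Sum.map (piF c) (sgF c)

/-- the sign on indices -/
def hatE (F : Type*) [Field F] (D : ChevalleyDatum) (ep : List ℤ) : D.Idx → F :=
  Sum.elim (fun _ => 1) (fun r => epF F ep r.val)

theorem core (c : GraphCert D pi sg ep) (r : Fin D.nroots) (t : F) (a b : D.Idx) :
    hatE F D ep a * D.xMat F r t a b * hatE F D ep b
      = D.xMat F (sgF c r) (epF F ep r.val * t) (hatS c a) (hatS c b) := by
  have hsq := epF_sq (F := F) c
  simp only [ChevalleyDatum.xMat, Matrix.of_apply, hatS, hatE]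
  rcases b with i | s
  · rcases a with i' | u
    · simp only [Sum.elim_inl, Sum.map_inl, (piF_inj c).eq_iff]
      split_ifs <;> simp
    · simp only [Sum.elim_inl, Sum.elim_inr, Sum.map_inl, Sum.map_inr, (sgF_inj c).eq_iff]
      split_ifs with h
      · subst h
        have := c.cartan_inv i i.2 u u.2
        simp only [piF, sgF]
        rw [this]
        ring
      · simp
  · simp only [Sum.elim_inr, Sum.map_inr, (sgF_inj c).eq_iff]
    by_cases h1 : s = r
    · simp only [if_pos h1]
      rcases a with i' | u
      · simp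
      · simp only [Sum.elim_inr, Sum.map_inr, (sgF_inj c).eq_iff]
        split_ifs with h
        · subst h; subst h1
          rw [mul_one]; exact hsq _
        · simp
    · simp only [if_neg h1]
      have hnegiff : ((sgF c s).val = D.negIdx.getD (sgF c r).val 0) ↔
          (s.val = D.negIdx.getD r.val 0) := by
        simp only [sgF]
        rw [c.neg_sg r r.2]
        constructor
        · intro h
          exact c.sg_inj _ s.2 _ (c.neg_lt r r.2) h
        · intro h
          rw [h]
      by_cases h2 : s.val = D.negIdx.getD r.val 0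
      · simp only [if_pos h2, if_pos (hnegiff.2 h2)]
        have heps : epF F ep s.val = epF F ep r.val := by
          unfold epF
          rw [h2, c.neg_ep r r.2]
        rcases a with i' | u
        · simp only [Sum.elim_inl, Sum.map_inl]
          have := c.coroot_inv i' i'.2 r r.2
          simp only [piF, sgF]
          rw [this, heps]
          ring
        · simp only [Sum.elim_inr, Sum.map_inr, (sgF_inj c).eq_iff]
          split_ifs with h3 h4
          · subst h3
            rw [mul_one]; exact hsq _
          · subst h4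
            rw [heps]
            ring
          · simp
      · simp only [if_neg h2, if_neg (fun h => h2 (hnegiff.1 h))]
        rcases a with i' | u
        · simp
        · simp only [Sum.elim_inr, Sum.map_inr, (sgF_inj c).eq_iff]
          have hch := c.chain_inv r.val s.val u.val r.2 s.2 u.2
          simp only [sgF]
          rw [hch, List.map_map, mul_add, add_mul]
          congr 1
          · split_ifs with h
            · subst h
              rw [mul_one]; exact hsq _
            · simp
          · rw [← List.sum_map_mul_left, ← List.sum_map_mul_right]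
            congr 1
            apply List.map_congr_left
            intro km hkm
            simp only [Function.comp, epF]
            push_cast
            have h5 : ((ep.getD r.val 1 : ℤ) : F) ^ km.1 * ((ep.getD r.val 1 : ℤ) : F) ^ km.1 = 1 := by
              rw [← mul_pow]
              have := hsq r
              unfold epF at this
              rw [this, one_pow]
            rw [mul_pow]
            linear_combination (-(((ep.getD u.val 1 : ℤ) : F) * ((ep.getD s.val 1 : ℤ) : F) *
              ((km.2 : ℤ) : F) * t ^ km.1)) * h5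

theorem hatS_inj (c : GraphCert D pi sg ep) : Function.Injective (hatS c) :=
  Function.Injective.sumMap (piF_inj c) (sgF_inj c)

theorem hatS_surj (c : GraphCert D pi sg ep) : Function.Surjective (hatS c) :=
  Finite.injective_iff_surjective.1 (hatS_inj c)

theorem sgF_surj (c : GraphCert D pi sg ep) : Function.Surjective (sgF c) :=
  Finite.injective_iff_surjective.1 (sgF_inj c)

theorem hatE_sq (c : GraphCert D pi sg ep) (a : D.Idx) : hatE F D ep a * hatE F D ep a = 1 := by
  rcases a with i | r
  · simp [hatE]
  · exact epF_sq c r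

/-- the signed permutation matrix -/
def Pmat (F : Type*) [Field F] (c : GraphCert D pi sg ep) : Matrix D.Idx D.Idx F :=
  Matrix.of fun row col => if row = hatS c col then hatE F D ep col else 0

/-- its inverse (transpose) -/
def Qmat (F : Type*) [Field F] (c : GraphCert D pi sg ep) : Matrix D.Idx D.Idx F :=
  Matrix.of fun row col => if col = hatS c row then hatE F D ep row else 0

theorem P_mul_Q (c : GraphCert D pi sg ep) : Pmat F c * Qmat F c = 1 := by
  ext i j
  obtain ⟨a₀, rfl⟩ := hatS_surj c i
  simp only [Matrix.mul_apply, Pmat, Qmat, Matrix.of_apply, (hatS_inj c).eq_iff, ite_mul, zero_mul,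
    Finset.sum_ite_eq, Finset.mem_univ, if_true, Matrix.one_apply]
  by_cases h : hatS c a₀ = j
  · rw [if_pos h.symm, if_pos h]
    exact hatE_sq c a₀
  · rw [if_neg (fun h' => h h'.symm), if_neg h, mul_zero]

theorem Q_mul_P (c : GraphCert D pi sg ep) : Qmat F c * Pmat F c = 1 := by
  ext i j
  simp only [Matrix.mul_apply, Pmat, Qmat, Matrix.of_apply, ite_mul, zero_mul,
    Finset.sum_ite_eq', Finset.mem_univ, if_true, Matrix.one_apply, (hatS_inj c).eq_iff]
  by_cases h : i = j
  · subst h
    rw [if_pos rfl, if_pos rfl]
    exact hatE_sq c i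
  · rw [if_neg h, if_neg h, mul_zero]

theorem conj_xMat (c : GraphCert D pi sg ep) (r : Fin D.nroots) (t : F) :
    Pmat F c * D.xMat F r t * Qmat F c = D.xMat F (sgF c r) (epF F ep r.val * t) := by
  ext i j
  obtain ⟨a₀, rfl⟩ := hatS_surj c i
  obtain ⟨b₀, rfl⟩ := hatS_surj c j
  rw [← core c r t a₀ b₀]
  simp only [Matrix.mul_apply, Pmat, Qmat, Matrix.of_apply, (hatS_inj c).eq_iff, ite_mul, zero_mul,
    mul_ite, mul_zero, Finset.sum_ite_eq, Finset.sum_ite_eq', Finset.mem_univ, if_true]

theorem conj_xMat' (c : GraphCert D pi sg ep) (r : Fin D.nroots) (t : F) :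
    Qmat F c * D.xMat F (sgF c r) t * Pmat F c = D.xMat F r (epF F ep r.val * t) := by
  have h := conj_xMat c r (epF F ep r.val * t)
  rw [← mul_assoc, epF_sq c r, one_mul] at h
  rw [← h]
  calc Qmat F c * (Pmat F c * D.xMat F r (epF F ep r.val * t) * Qmat F c) * Pmat F c
      = (Qmat F c * Pmat F c) * D.xMat F r (epF F ep r.val * t) * (Qmat F c * Pmat F c) := by
        simp only [Matrix.mul_assoc]
    _ = D.xMat F r (epF F ep r.val * t) := by rw [Q_mul_P, Matrix.one_mul, Matrix.mul_one]

/-- the conjugating unit -/
def Punit (F : Type*) [Field F] (c : GraphCert D pi sg ep) : GL D.Idx F :=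
  ⟨Pmat F c, Qmat F c, P_mul_Q c, Q_mul_P c⟩

theorem conj_mem (c : GraphCert D pi sg ep) (g : GL D.Idx F) (hg : g ∈ D.group F) :
    Punit F c * g * (Punit F c)⁻¹ ∈ D.group F := by
  unfold ChevalleyDatum.group at hg ⊢
  induction hg using Subgroup.closure_induction with
  | mem x hx =>
    obtain ⟨r, t, hx⟩ := hx
    apply Subgroup.subset_closure
    refine ⟨sgF c r, epF F ep r.val * t, ?_⟩
    show Pmat F c * (x : Matrix D.Idx D.Idx F) * Qmat F c = _
    rw [hx, conj_xMat]
  | one => simp
  | mul x y _ _ hx hy =>
    have : Punit F c * (x * y) * (Punit F c)⁻¹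
        = (Punit F c * x * (Punit F c)⁻¹) * (Punit F c * y * (Punit F c)⁻¹) := by group
    rw [this]
    exact Subgroup.mul_mem _ hx hy
  | inv x _ hx =>
    have : Punit F c * x⁻¹ * (Punit F c)⁻¹ = (Punit F c * x * (Punit F c)⁻¹)⁻¹ := by group
    rw [this]
    exact Subgroup.inv_mem _ hx

theorem conj_mem' (c : GraphCert D pi sg ep) (g : GL D.Idx F) (hg : g ∈ D.group F) :
    (Punit F c)⁻¹ * g * Punit F c ∈ D.group F := by
  unfold ChevalleyDatum.group at hg ⊢
  induction hg using Subgroup.closure_induction with
  | mem x hx =>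
    obtain ⟨s, t, hx⟩ := hx
    obtain ⟨r, rfl⟩ := sgF_surj c s
    apply Subgroup.subset_closure
    refine ⟨r, epF F ep r.val * t, ?_⟩
    show Qmat F c * (x : Matrix D.Idx D.Idx F) * Pmat F c = _
    rw [hx, conj_xMat']
  | one => simp
  | mul x y _ _ hx hy =>
    have : (Punit F c)⁻¹ * (x * y) * Punit F c
        = ((Punit F c)⁻¹ * x * Punit F c) * ((Punit F c)⁻¹ * y * Punit F c) := by group
    rw [this]
    exact Subgroup.mul_mem _ hx hy
  | inv x _ hx =>
    have : (Punit F c)⁻¹ * x⁻¹ * Punit F c = ((Punit F c)⁻¹ * x * Punit F c)⁻¹ := by group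
    rw [this]
    exact Subgroup.inv_mem _ hx

theorem exists_aut (c : GraphCert D pi sg ep) :
    ∃ α : ↥(D.group F) ≃* ↥(D.group F), ∀ (g : ↥(D.group F)) (r : Fin D.nroots) (t : F),
      ((g : GL D.Idx F) : Matrix D.Idx D.Idx F) = D.xMat F r t →
        ((α g : GL D.Idx F) : Matrix D.Idx D.Idx F) = D.xMat F (sgF c r) (epF F ep r.val * t) := by
  refine ⟨{ toFun := fun g => ⟨Punit F c * g.1 * (Punit F c)⁻¹, conj_mem c g.1 g.2⟩
            invFun := fun g => ⟨(Punit F c)⁻¹ * g.1 * Punit F c, conj_mem' c g.1 g.2⟩
            left_inv := fun g => by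
              apply Subtype.ext
              show (Punit F c)⁻¹ * (Punit F c * g.1 * (Punit F c)⁻¹) * Punit F c = g.1
              group
            right_inv := fun g => by
              apply Subtype.ext
              show Punit F c * ((Punit F c)⁻¹ * g.1 * Punit F c) * (Punit F c)⁻¹ = g.1
              group
            map_mul' := fun g h => by
              apply Subtype.ext
              show Punit F c * (g.1 * h.1) * (Punit F c)⁻¹
                = (Punit F c * g.1 * (Punit F c)⁻¹) * (Punit F c * h.1 * (Punit F c)⁻¹)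
              group }, ?_⟩
  intro g r t hg
  show Pmat F c * ((g : GL D.Idx F) : Matrix D.Idx D.Idx F) * Qmat F c = _
  rw [hg, conj_xMat]

end Cfsg.Agent.Lib.Helper5.ChevPermB
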