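import Mathlib
import Cfsg.Agent.Lib.Helper5.BNFix

/-!
# Distinguished double coset representatives in the Weyl group of a (B,N)-pair (helper5)

For two sets `A'`, `A` of distinguished generators every double coset `W_{A'} w W_A` contains
exactly one element `x` such that no letter of `A` is a right descent of `x` and no letter of `A'`
is a left descent of `x`.  The double cosets of two parabolic subgroups of the group are in
bijection with these elements.
-/

set_option autoImplicit false

namespace Cfsg.Agent.Lib.Helper5.BN

open Cfsg

variable {G : Type*} [Group G] (P : BNPair G)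

section weyl

variable {A A' : Set (W P)} (hA : A ⊆ Sbar P) (hA' : A' ⊆ Sbar P)

/-- the distinguished double coset representatives -/
def DD (A' A : Set (W P)) : Set (W P) := {w | w ∈ DA P A ∧ w⁻¹ ∈ DA P A'}

include hA hA' in
/-- every double coset contains a distinguished representative -/
theorem exists_DD (w : W P) :
    ∃ x ∈ DD P A' A, ∃ a ∈ Subgroup.closure A', ∃ b ∈ Subgroup.closure A, w = a * x * b := by
  obtain ⟨x1, hx1, v, hv, hw⟩ := exists_DA P hA w
  obtain ⟨y, hy, u, hu, hyu⟩ := exists_DA P hA' x1⁻¹
  have hx1e : x1 = u⁻¹ * y⁻¹ := by
    have := congrArg (fun z => z⁻¹) hyu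
    simpa using this
  have hlen : len P x1 = len P y + len P u := by
    have h1 := DA_add P hA' hy hu
    rw [← hyu, len_inv] at h1
    exact h1
  refine ⟨y⁻¹, ⟨?_, by rw [inv_inv]; exact hy⟩, u⁻¹, inv_mem hu, v, hv, by rw [hw, hx1e]⟩
  intro σ hσ
  by_contra hcon
  push Not at hcon
  have hlt : len P (y⁻¹ * σ) < len P y⁻¹ := lt_of_le_of_ne hcon (len_mul_right_ne P (hA hσ))
  have h2 : len P (x1 * σ) ≤ len P u⁻¹ + len P (y⁻¹ * σ) := by
    rw [hx1e, mul_assoc]
    exact len_mul_le_add P _ _
  have h3 := hx1 σ hσ
  rw [len_inv] at h2 hlt
  omega

include hA hA' in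
/-- two distinguished representatives in the same double coset coincide -/
theorem DD_unique : ∀ (n : ℕ) (x x' a b : W P), x ∈ DD P A' A → x' ∈ DD P A' A →
    a ∈ Subgroup.closure A' → b ∈ Subgroup.closure A → len P a = n → x' = a * x * b → x' = x := by
  intro n
  induction n with
  | zero =>
    intro x x' a b hx hx' _ hb hn h
    rw [(len_eq_zero P).1 hn, one_mul] at h
    have := DA_unique P hA hx.1 hx'.1 hb h
    rw [h, this, mul_one]
  | succ n ih =>
    intro x x' a b hx hx' ha hb hn h
    -- a reduced word of `a`
    obtain ⟨V, hVA, hVred, hVprod⟩ := exists_reduced_in P hA' ha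
    have hVlen : V.length = n + 1 := by rw [hVred.2, hVprod, hn]
    match V, hVA, hVred, hVprod, hVlen with
    | [], _, _, _, hVlen => simp at hVlen
    | σ :: V1, hVA, hVred, hVprod, hVlen =>
      have hσA : σ ∈ A' := hVA σ (by simp)
      have hσ : σ ∈ Sbar P := hA' hσA
      have hV1red : IsReduced P V1 := isReduced_of_append_right P (L1 := [σ]) hVred
      have ha1 : V1.prod ∈ Subgroup.closure A' :=
        prod_mem_closure P (fun ρ hρ => hVA ρ (List.mem_cons_of_mem _ hρ))
      have ha1len : len P V1.prod = n := by
        rw [← hV1red.2]
        simpa using hVlen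
      have hae : a = σ * V1.prod := by rw [← hVprod, List.prod_cons]
      -- the element `z = a x = x' b⁻¹`
      have hz : a * x = x' * b⁻¹ := by rw [h]; group
      have hzlen1 : len P (a * x) = len P a + len P x := by
        have h1 := DA_add P hA' hx.2 (inv_mem ha)
        rw [← mul_inv_rev, len_inv, len_inv, len_inv] at h1
        rw [h1, add_comm]
      have hσz : σ * (a * x) = V1.prod * x := by
        rw [hae, ← mul_assoc, ← mul_assoc, Sbar_sq P hσ, one_mul]
      have hσzlen : len P (σ * (a * x)) < len P (a * x) := by
        rw [hσz, hzlen1, hn]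
        have := len_mul_le_add P V1.prod x
        omega
      -- reduced words of `x'` and of `b⁻¹`
      obtain ⟨X', hX'w, hX'prod, hX'len⟩ := exists_reduced P x'
      obtain ⟨B', hB'A, hB'red, hB'prod⟩ := exists_reduced_in P hA (inv_mem hb)
      have hLprod : (X' ++ B').prod = a * x := by
        rw [List.prod_append, hX'prod, hB'prod, hz]
      have hLred : IsReduced P (X' ++ B') := by
        refine ⟨(isWord_append P).2 ⟨hX'w, hB'red.1⟩, ?_⟩
        rw [hLprod, hz, DA_add P hA hx'.1 (inv_mem hb), List.length_append, hX'len, hB'red.2,
          hB'prod]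
      rw [← hLprod] at hσzlen
      obtain ⟨L1, τ, L2, hL, heq⟩ := exchange P (X' ++ B') σ hσ hLred hσzlen
      rcases List.append_eq_append_iff.1 hL with ⟨M, hM1, hM2⟩ | ⟨M, hM1, hM2⟩
      · -- the deleted letter lies in `B'`
        have hb1 : (M ++ L2).prod ∈ Subgroup.closure A := by
          apply prod_mem_closure
          intro ρ hρ
          apply hB'A
          rw [hM2]
          rcases List.mem_append.1 hρ with h1 | h1
          · exact List.mem_append_left _ h1
          · exact List.mem_append_right _ (List.mem_cons_of_mem _ h1)
        have hτ : τ ∈ Sbar P := hA (hB'A τ (by rw [hM2]; simp))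
        have key : V1.prod * x = x' * (M ++ L2).prod := by
          rw [← hσz, ← hLprod, hL, List.prod_append, List.prod_cons, ← mul_assoc, ← mul_assoc, heq,
            mul_Sbar_cancel P hτ, hM1, List.prod_append, List.prod_append, hX'prod, mul_assoc]
        apply ih x x' V1.prod ((M ++ L2).prod)⁻¹ hx hx' ha1 (inv_mem hb1) ha1len
        rw [key]; group
      · -- the deleted letter lies in `X'` or is the first letter of `B'`
        rcases M with _ | ⟨ρ, M'⟩
        · -- `M = []`: the letter is the first letter of `B'`
          simp only [List.append_nil, List.nil_append] at hM1 hM2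
          have hb1 : L2.prod ∈ Subgroup.closure A := by
            apply prod_mem_closure
            intro ρ hρ
            apply hB'A
            rw [← hM2]
            exact List.mem_cons_of_mem _ hρ
          have hτ : τ ∈ Sbar P := hA (hB'A τ (by rw [← hM2]; simp))
          have key : V1.prod * x = x' * L2.prod := by
            rw [← hσz, ← hLprod, hL, List.prod_append, List.prod_cons, ← mul_assoc, ← mul_assoc,
              heq, mul_Sbar_cancel P hτ, ← hM1, hX'prod]
          exact ih x x' V1.prod (L2.prod)⁻¹ hx hx' ha1 (inv_mem hb1) ha1len (by rw [key]; group)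
        · -- the letter lies properly inside `X'`
          exfalso
          simp only [List.cons_append, List.cons.injEq] at hM2
          obtain ⟨rfl, hM2⟩ := hM2
          have hτ : τ ∈ Sbar P := hX'w τ (by rw [hM1]; simp)
          have h1 : σ * x' = (L1 ++ M').prod := by
            rw [← hX'prod, hM1, List.prod_append, List.prod_cons, ← mul_assoc, ← mul_assoc, heq,
              mul_Sbar_cancel P hτ, List.prod_append]
          have h2 : len P (σ * x') ≤ (L1 ++ M').length := by
            rw [h1]
            apply len_le_of_word
            intro ρ hρ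
            apply hX'w
            rw [hM1]
            rcases List.mem_append.1 hρ with h | h
            · exact List.mem_append_left _ h
            · exact List.mem_append_right _ (List.mem_cons_of_mem _ h)
          have h3 : X'.length = (L1 ++ M').length + 1 := by
            rw [hM1]; simp; omega
          have h4 := hx'.2 σ hσA
          rw [← Sbar_inv P hσ, ← mul_inv_rev, len_inv, len_inv] at h4
          omega

end weyl

end Cfsg.Agent.Lib.Helper5.BN
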