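import Mathlib
import Cfsg.Agent.Lib.Helper5.BNDouble

/-!
# The norm of the alternating sum of the parabolic permutation characters (helper5)

For a finite group with a (B,N)-pair the number of orbits of the group on the pairs of cosets of two
standard parabolic subgroups is the number of distinguished double coset representatives in the
Weyl group; the alternating sum of the permutation characters therefore has norm one.
-/

set_option autoImplicit false
set_option linter.style.haveILetI false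

namespace Cfsg.Agent.Lib.Helper5.BN

open Cfsg

variable {G : Type*} [Group G] (P : BNPair G)

/-- a cell of `W_A` times any cell -/
theorem word_mul_mem_C {A : Set (W P)} (hA : A ⊆ Sbar P) : ∀ (L : List (W P)), (∀ σ ∈ L, σ ∈ A) →
    ∀ (x : G), x ∈ C P L.prod → ∀ (w : W P) (y : G), y ∈ C P w →
    ∃ a ∈ Subgroup.closure A, x * y ∈ C P (a * w) := by
  intro L
  induction L with
  | nil =>
    intro _ x hx w y hy
    rw [List.prod_nil, C_one] at hx
    exact ⟨1, one_mem _, by rw [one_mul]; exact B_mul_mem_C P hx hy⟩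
  | cons σ L ih =>
    intro hL x hx w y hy
    rw [List.prod_cons] at hx
    obtain ⟨s, hs, x', hx', rfl⟩ := C_mul_decomp P hx
    obtain ⟨a, ha, h⟩ := ih (fun ρ hρ => hL ρ (List.mem_cons_of_mem _ hρ)) x' hx' w y hy
    have hσA : σ ∈ A := hL σ (by simp)
    rw [mul_assoc]
    rcases T1W_left P (hA hσA) hs h with h1 | h1
    · exact ⟨σ * a, mul_mem (Subgroup.subset_closure hσA) ha, by rw [mul_assoc]; exact h1⟩
    · exact ⟨a, ha, h1⟩

theorem parabolic_mul_mem_C {J : Set G} (hJ : J ⊆ P.S) {p : G} (hp : p ∈ P.parabolic J)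
    {w : W P} {y : G} (hy : y ∈ C P w) :
    ∃ a ∈ Subgroup.closure (bar P J), p * y ∈ C P (a * w) := by
  obtain ⟨v, hv, hpv⟩ := (mem_parabolic_iff_W P hJ p).1 hp
  obtain ⟨L, hL, rfl⟩ := exists_word_in P (bar_subset_Sbar P hJ) hv
  exact word_mul_mem_C P (bar_subset_Sbar P hJ) L hL p hpv w y hy

theorem mul_parabolic_mem_C {K : Set G} (hK : K ⊆ P.S) {k : G} (hk : k ∈ P.parabolic K)
    {w : W P} {y : G} (hy : y ∈ C P w) :
    ∃ b ∈ Subgroup.closure (bar P K), y * k ∈ C P (w * b) := by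
  obtain ⟨a, ha, h⟩ := parabolic_mul_mem_C P hK (inv_mem hk) (inv_mem_C P hy)
  refine ⟨a⁻¹, inv_mem ha, ?_⟩
  have := inv_mem_C P h
  have e : (k⁻¹ * y⁻¹)⁻¹ = y * k := by group
  have e2 : (a * w⁻¹)⁻¹ = w * a⁻¹ := by group
  rwa [e, e2] at this

/-! ### orbits on pairs of cosets -/

section orbits

variable (J K : Set G)

/-- the orbit of the pair of cosets `(Q_J, y Q_K)` -/
def orb (y : G) :
    Quotient (MulAction.orbitRel G ((G ⧸ P.parabolic J) × (G ⧸ P.parabolic K))) :=
  Quotient.mk _ ((QuotientGroup.mk 1 : G ⧸ P.parabolic J), (QuotientGroup.mk y : G ⧸ P.parabolic K))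

theorem orb_eq_iff (y y' : G) :
    orb P J K y = orb P J K y' ↔ ∃ p ∈ P.parabolic J, ∃ k ∈ P.parabolic K, y = p * y' * k := by
  unfold orb
  rw [Quotient.eq]
  show MulAction.orbitRel G _ _ _ ↔ _
  rw [MulAction.orbitRel_apply, MulAction.mem_orbit_iff]
  constructor
  · rintro ⟨g, hg⟩
    have h1 := congrArg Prod.fst hg
    have h2 := congrArg Prod.snd hg
    simp only [Prod.smul_fst, Prod.smul_snd, MulAction.Quotient.smul_mk, smul_eq_mul] at h1 h2
    rw [QuotientGroup.eq] at h1 h2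
    rw [mul_one] at h1
    refine ⟨g, ?_, (g * y')⁻¹ * y, h2, by group⟩
    have := inv_mem h1
    rwa [mul_one, inv_inv] at this
  · rintro ⟨p, hp, k, hk, rfl⟩
    refine ⟨p, ?_⟩
    apply Prod.ext
    · simp only [Prod.smul_fst, MulAction.Quotient.smul_mk, smul_eq_mul]
      rw [QuotientGroup.eq, mul_one, mul_one]
      exact inv_mem hp
    · simp only [Prod.smul_snd, MulAction.Quotient.smul_mk, smul_eq_mul]
      rw [QuotientGroup.eq]
      have : (p * y')⁻¹ * (p * y' * k) = k := by group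
      rw [this]
      exact hk

theorem orb_surjective
    (q : Quotient (MulAction.orbitRel G ((G ⧸ P.parabolic J) × (G ⧸ P.parabolic K)))) :
    ∃ y, orb P J K y = q := by
  obtain ⟨⟨c, d⟩, rfl⟩ := Quotient.mk_surjective q
  induction c using QuotientGroup.induction_on with
  | H g =>
  induction d using QuotientGroup.induction_on with
  | H h =>
    refine ⟨g⁻¹ * h, ?_⟩
    unfold orb
    rw [Quotient.eq]
    show MulAction.orbitRel G _ _ _
    rw [MulAction.orbitRel_apply, MulAction.mem_orbit_iff]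
    refine ⟨g⁻¹, ?_⟩
    apply Prod.ext
    · simp only [Prod.smul_fst, MulAction.Quotient.smul_mk, smul_eq_mul, inv_mul_cancel]
    · simp only [Prod.smul_snd, MulAction.Quotient.smul_mk, smul_eq_mul]

variable {J K} (hJ : J ⊆ P.S) (hK : K ⊆ P.S)

include hJ hK in
/-- the orbits are parametrized by the distinguished double coset representatives -/
theorem card_orbits_eq :
    Nat.card (Quotient (MulAction.orbitRel G ((G ⧸ P.parabolic J) × (G ⧸ P.parabolic K))))
      = Nat.card (DD P (bar P J) (bar P K)) := by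
  have hA' := bar_subset_Sbar P hJ
  have hA := bar_subset_Sbar P hK
  symm
  apply Nat.card_congr
  refine Equiv.ofBijective (fun x => orb P J K ((Quotient.out x.1 : P.N) : G)) ⟨?_, ?_⟩
  · rintro ⟨x, hx⟩ ⟨x', hx'⟩ h
    simp only at h
    rw [orb_eq_iff] at h
    obtain ⟨p, hp, k, hk, e⟩ := h
    have h1 : ((Quotient.out x' : P.N) : G) ∈ C P x' := self_mem_D P _
    have h2 : ((Quotient.out x : P.N) : G) ∈ C P x := self_mem_D P _
    obtain ⟨a, ha, h3⟩ := parabolic_mul_mem_C P hJ hp h1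
    obtain ⟨b, hb, h4⟩ := mul_parabolic_mem_C P hK hk h3
    rw [← e] at h4
    have h5 := bruhat P (C_inj_of_inter P h2 h4)
    apply Subtype.ext
    exact DD_unique P hA hA' _ x' x a b hx' hx ha hb rfl h5
  · intro q
    obtain ⟨y, rfl⟩ := orb_surjective P J K q
    obtain ⟨x, hx, a, ha, b, hb, hw⟩ := exists_DD P hA hA' (cell P y)
    have hy := mem_C_cell P y
    rw [hw] at hy
    obtain ⟨pz, hpz, k, hk, rfl⟩ := C_mul_decomp P hy
    obtain ⟨p, hp, z, hz, rfl⟩ := C_mul_decomp P hpz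
    refine ⟨⟨x, hx⟩, ?_⟩
    simp only
    rw [orb_eq_iff]
    have hz' : z ∈ D P ((Quotient.out x : P.N) : G) := hz
    rw [mem_D] at hz'
    obtain ⟨b1, hb1, b2, hb2, rfl⟩ := hz'
    have hpJ : p ∈ P.parabolic J := (mem_parabolic_iff_W P hJ p).2 ⟨a, ha, hp⟩
    have hkK : k ∈ P.parabolic K := (mem_parabolic_iff_W P hK k).2 ⟨b, hb, hk⟩
    refine ⟨(p * b1)⁻¹, inv_mem (mul_mem hpJ (B_le_parabolic P J hb1)), (b2 * k)⁻¹,
      inv_mem (mul_mem (B_le_parabolic P K hb2) hkK), by group⟩

end orbits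

/-! ### Burnside's lemma for a product action -/

theorem card_fixedBy_prod_mul (X Y : Type*) [MulAction G X] [MulAction G Y] (g : G) :
    Nat.card (MulAction.fixedBy (X × Y) g)
      = Nat.card (MulAction.fixedBy X g) * Nat.card (MulAction.fixedBy Y g) := by
  rw [← Nat.card_prod]
  apply Nat.card_congr
  refine
    { toFun := fun p => (⟨p.1.1, ?_⟩, ⟨p.1.2, ?_⟩)
      invFun := fun q => ⟨(q.1.1, q.2.1), ?_⟩
      left_inv := fun p => rfl
      right_inv := fun q => rfl }
  · have := p.2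
    rw [MulAction.mem_fixedBy] at this ⊢
    exact congrArg Prod.fst this
  · have := p.2
    rw [MulAction.mem_fixedBy] at this ⊢
    exact congrArg Prod.snd this
  · rw [MulAction.mem_fixedBy]
    have h1 := q.1.2
    have h2 := q.2.2
    rw [MulAction.mem_fixedBy] at h1 h2
    exact Prod.ext h1 h2

theorem sum_fixedBy_mul [Fintype G] (X Y : Type*) [MulAction G X] [MulAction G Y] [Finite X]
    [Finite Y] :
    ∑ g : G, Nat.card (MulAction.fixedBy X g) * Nat.card (MulAction.fixedBy Y g)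
      = Nat.card (Quotient (MulAction.orbitRel G (X × Y))) * Nat.card G := by
  classical
  letI : Fintype X := Fintype.ofFinite X
  letI : Fintype Y := Fintype.ofFinite Y
  letI : Fintype (Quotient (MulAction.orbitRel G (X × Y))) := Fintype.ofFinite _
  letI : ∀ g : G, Fintype (MulAction.fixedBy (X × Y) g) := fun g => Fintype.ofFinite _
  have h := MulAction.sum_card_fixedBy_eq_card_orbits_mul_card_group G (X × Y)
  rw [Nat.card_eq_fintype_card, Nat.card_eq_fintype_card, ← h]
  apply Finset.sum_congr rfl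
  intro g _
  rw [← card_fixedBy_prod_mul, Nat.card_eq_fintype_card]

/-! ### the alternating sum in the Weyl group -/

open Classical in
/-- the alternating sum over the sets of generators for which `w` is distinguished -/
theorem sum_neg_one_DA (l : ℕ) (τ : ℕ → W P) (hτ : ∀ j < l, τ j ∈ Sbar P)
    (hτs : ∀ σ ∈ Sbar P, ∃ j < l, τ j = σ) (w : W P) :
    ∑ J ∈ (Finset.range l).powerset,
        (-1 : ℤ) ^ J.card * (if w ∈ DA P (τ '' (J : Set ℕ)) then (1 : ℤ) else 0)
      = if NoAscent P w then 1 else 0 := by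
  let Asc : Finset ℕ := (Finset.range l).filter fun j => len P w < len P (w * τ j)
  have hiff : ∀ J ∈ (Finset.range l).powerset, (w ∈ DA P (τ '' (J : Set ℕ)) ↔ J ⊆ Asc) := by
    intro J hJ
    rw [Finset.mem_powerset] at hJ
    constructor
    · intro h j hj
      rw [Finset.mem_filter]
      exact ⟨hJ hj, h (τ j) ⟨j, hj, rfl⟩⟩
    · rintro h σ ⟨j, hj, rfl⟩
      exact (Finset.mem_filter.1 (h hj)).2
  have e1 : ∑ J ∈ (Finset.range l).powerset,
        (-1 : ℤ) ^ J.card * (if w ∈ DA P (τ '' (J : Set ℕ)) then (1 : ℤ) else 0)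
      = ∑ J ∈ Asc.powerset, (-1 : ℤ) ^ J.card := by
    have hsub : Asc.powerset ⊆ (Finset.range l).powerset :=
      Finset.powerset_mono.2 (Finset.filter_subset _ _)
    rw [← Finset.sum_subset hsub]
    · apply Finset.sum_congr rfl
      intro J hJ
      rw [if_pos ((hiff J (hsub hJ)).2 (Finset.mem_powerset.1 hJ)), mul_one]
    · intro J hJ1 hJ
      rw [Finset.mem_powerset] at hJ
      rw [if_neg (fun h => hJ ((hiff J hJ1).1 h)), mul_zero]
  rw [e1, Finset.sum_powerset_neg_one_pow_card]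
  have hiff2 : Asc = ∅ ↔ NoAscent P w := by
    constructor
    · intro h σ hσ
      obtain ⟨j, hj, rfl⟩ := hτs σ hσ
      have : j ∉ Asc := by rw [h]; simp
      rw [Finset.mem_filter, Finset.mem_range] at this
      push Not at this
      exact lt_of_le_of_ne (this hj) (len_mul_right_ne P hσ)
    · intro h
      rw [Finset.eq_empty_iff_forall_notMem]
      intro j hj
      rw [Finset.mem_filter, Finset.mem_range] at hj
      have := h (τ j) (hτ j hj.1)
      omega
  by_cases h0 : Asc = ∅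
  · rw [if_pos h0, if_pos (hiff2.1 h0)]
  · rw [if_neg h0, if_neg (fun h => h0 (hiff2.2 h))]

theorem noAscent_inv {w0 : W P} (hw0 : NoAscent P w0) : NoAscent P w0⁻¹ := by
  intro σ hσ
  have h1 := noAscent_max P hw0 (w0⁻¹ * σ)
  have h2 := len_mul_right_ne P (w := w0⁻¹) hσ
  rw [len_inv] at h2 ⊢
  exact lt_of_le_of_ne h1 h2

open Classical in
/-- the alternating sum of the permutation characters on the cosets of the standard parabolic
subgroups has norm one -/
theorem steinberg_norm [Fintype G] (l : ℕ) (τ : ℕ → W P)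
    (hτs : ∀ σ ∈ Sbar P, ∃ j < l, τ j = σ)
    (Q : Finset ℕ → Subgroup G)
    (hQ : ∀ J ⊆ Finset.range l, ∃ JG ⊆ P.S, Q J = P.parabolic JG ∧ bar P JG = τ '' (J : Set ℕ))
    (w0 : W P) (hw0 : NoAscent P w0) :
    ∑ g : G, (∑ J ∈ (Finset.range l).powerset,
        (-1 : ℤ) ^ J.card * (Nat.card (MulAction.fixedBy (G ⧸ Q J) g) : ℤ)) ^ 2
      = (Nat.card G : ℤ) := by
  have : Fintype (W P) := Fintype.ofFinite _
  have hτ : ∀ j < l, τ j ∈ Sbar P := by
    intro j hj
    obtain ⟨JG, hJG, -, hbar⟩ := hQ {j} (by simpa using hj)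
    apply bar_subset_Sbar P hJG
    rw [hbar]
    exact ⟨j, by simp, rfl⟩
  -- pairwise counts
  have key : ∀ J ∈ (Finset.range l).powerset, ∀ K ∈ (Finset.range l).powerset,
      ∑ g : G, (Nat.card (MulAction.fixedBy (G ⧸ Q J) g) : ℤ)
          * (Nat.card (MulAction.fixedBy (G ⧸ Q K) g) : ℤ)
        = (Nat.card G : ℤ) * ∑ w : W P,
            (if w⁻¹ ∈ DA P (τ '' (J : Set ℕ)) then (1 : ℤ) else 0)
              * (if w ∈ DA P (τ '' (K : Set ℕ)) then (1 : ℤ) else 0) := by
    intro J hJ K hK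
    rw [Finset.mem_powerset] at hJ hK
    obtain ⟨JG, hJG, hQJ, hbarJ⟩ := hQ J hJ
    obtain ⟨KG, hKG, hQK, hbarK⟩ := hQ K hK
    rw [hQJ, hQK]
    have h1 := sum_fixedBy_mul (G := G) (G ⧸ P.parabolic JG) (G ⧸ P.parabolic KG)
    rw [card_orbits_eq P hJG hKG, hbarJ, hbarK] at h1
    have h2 : (Nat.card (DD P (τ '' (J : Set ℕ)) (τ '' (K : Set ℕ))) : ℤ)
        = ∑ w : W P, (if w⁻¹ ∈ DA P (τ '' (J : Set ℕ)) then (1 : ℤ) else 0)
              * (if w ∈ DA P (τ '' (K : Set ℕ)) then (1 : ℤ) else 0) := by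
      rw [Nat.card_eq_fintype_card, Fintype.card_subtype, Finset.card_eq_sum_ones,
        Finset.sum_filter]
      push_cast
      apply Finset.sum_congr rfl
      intro w _
      have hmem : w ∈ DD P (τ '' (J : Set ℕ)) (τ '' (K : Set ℕ))
          ↔ (w ∈ DA P (τ '' (K : Set ℕ)) ∧ w⁻¹ ∈ DA P (τ '' (J : Set ℕ))) := Iff.rfl
      by_cases ha : w ∈ DA P (τ '' (K : Set ℕ)) <;>
        by_cases hb : w⁻¹ ∈ DA P (τ '' (J : Set ℕ)) <;> simp [hmem, ha, hb]
    have h3 := congrArg (fun n : ℕ => (n : ℤ)) h1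
    simp only [Nat.cast_sum, Nat.cast_mul] at h3
    rw [h3, h2, mul_comm]
  -- expand the square
  have e1 : ∀ g : G, (∑ J ∈ (Finset.range l).powerset,
        (-1 : ℤ) ^ J.card * (Nat.card (MulAction.fixedBy (G ⧸ Q J) g) : ℤ)) ^ 2
      = ∑ J ∈ (Finset.range l).powerset, ∑ K ∈ (Finset.range l).powerset,
          ((-1 : ℤ) ^ J.card * (-1 : ℤ) ^ K.card)
            * ((Nat.card (MulAction.fixedBy (G ⧸ Q J) g) : ℤ)
              * (Nat.card (MulAction.fixedBy (G ⧸ Q K) g) : ℤ)) := by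
    intro g
    rw [sq, Finset.sum_mul_sum]
    apply Finset.sum_congr rfl
    intro J _
    apply Finset.sum_congr rfl
    intro K _
    ring
  rw [Finset.sum_congr rfl (fun g _ => e1 g), Finset.sum_comm]
  have e2 : ∀ J ∈ (Finset.range l).powerset,
      ∑ g : G, ∑ K ∈ (Finset.range l).powerset,
          ((-1 : ℤ) ^ J.card * (-1 : ℤ) ^ K.card)
            * ((Nat.card (MulAction.fixedBy (G ⧸ Q J) g) : ℤ)
              * (Nat.card (MulAction.fixedBy (G ⧸ Q K) g) : ℤ))
        = ∑ K ∈ (Finset.range l).powerset, ((-1 : ℤ) ^ J.card * (-1 : ℤ) ^ K.card)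
            * ((Nat.card G : ℤ) * ∑ w : W P,
              (if w⁻¹ ∈ DA P (τ '' (J : Set ℕ)) then (1 : ℤ) else 0)
                * (if w ∈ DA P (τ '' (K : Set ℕ)) then (1 : ℤ) else 0)) := by
    intro J hJ
    rw [Finset.sum_comm]
    apply Finset.sum_congr rfl
    intro K hK
    rw [← Finset.mul_sum, key J hJ K hK]
  rw [Finset.sum_congr rfl e2]
  -- collect the sum over the Weyl group
  have e3 : ∑ J ∈ (Finset.range l).powerset, ∑ K ∈ (Finset.range l).powerset,
        ((-1 : ℤ) ^ J.card * (-1 : ℤ) ^ K.card)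
          * ((Nat.card G : ℤ) * ∑ w : W P,
            (if w⁻¹ ∈ DA P (τ '' (J : Set ℕ)) then (1 : ℤ) else 0)
              * (if w ∈ DA P (τ '' (K : Set ℕ)) then (1 : ℤ) else 0))
      = (Nat.card G : ℤ) * ∑ w : W P,
          (∑ J ∈ (Finset.range l).powerset,
            (-1 : ℤ) ^ J.card * (if w⁻¹ ∈ DA P (τ '' (J : Set ℕ)) then (1 : ℤ) else 0))
          * (∑ K ∈ (Finset.range l).powerset,
            (-1 : ℤ) ^ K.card * (if w ∈ DA P (τ '' (K : Set ℕ)) then (1 : ℤ) else 0)) := by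
    have step1 : ∀ J K : Finset ℕ, ((-1 : ℤ) ^ J.card * (-1 : ℤ) ^ K.card)
          * ((Nat.card G : ℤ) * ∑ w : W P,
            (if w⁻¹ ∈ DA P (τ '' (J : Set ℕ)) then (1 : ℤ) else 0)
              * (if w ∈ DA P (τ '' (K : Set ℕ)) then (1 : ℤ) else 0))
        = ∑ w : W P, (Nat.card G : ℤ) *
            (((-1 : ℤ) ^ J.card * (if w⁻¹ ∈ DA P (τ '' (J : Set ℕ)) then (1 : ℤ) else 0))
            * ((-1 : ℤ) ^ K.card * (if w ∈ DA P (τ '' (K : Set ℕ)) then (1 : ℤ) else 0))) := by
      intro J K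
      rw [Finset.mul_sum, Finset.mul_sum]
      apply Finset.sum_congr rfl
      intro w _
      ring
    rw [Finset.sum_congr rfl (fun J _ => Finset.sum_congr rfl (fun K _ => step1 J K))]
    rw [Finset.sum_congr rfl (fun J _ => Finset.sum_comm), Finset.sum_comm, Finset.mul_sum]
    apply Finset.sum_congr rfl
    intro w _
    rw [Finset.sum_mul_sum, Finset.mul_sum]
    apply Finset.sum_congr rfl
    intro J _
    rw [Finset.mul_sum]
  rw [e3]
  have e4 : ∀ w : W P,
      (∑ J ∈ (Finset.range l).powerset,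
            (-1 : ℤ) ^ J.card * (if w⁻¹ ∈ DA P (τ '' (J : Set ℕ)) then (1 : ℤ) else 0))
          * (∑ K ∈ (Finset.range l).powerset,
            (-1 : ℤ) ^ K.card * (if w ∈ DA P (τ '' (K : Set ℕ)) then (1 : ℤ) else 0))
        = if w = w0 then 1 else 0 := by
    intro w
    rw [sum_neg_one_DA P l τ hτ hτs, sum_neg_one_DA P l τ hτ hτs]
    by_cases hw : w = w0
    · subst hw
      rw [if_pos (noAscent_inv P hw0), if_pos hw0, if_pos rfl, mul_one]
    · rw [if_neg hw]
      by_cases h1 : NoAscent P w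
      · exact absurd (noAscent_unique P h1 hw0) hw
      · rw [if_neg h1, mul_zero]
  rw [Finset.sum_congr rfl (fun w _ => e4 w), Finset.sum_ite_eq' Finset.univ w0]
  simp

end Cfsg.Agent.Lib.Helper5.BN
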