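import Mathlib
import Cfsg.Agent.Lib.Helper5.BG15D
import Cfsg.Agent.S1439
import Cfsg.Agent.S1423
import Cfsg.Agent.S1375
import Cfsg.Agent.Lib.helper3.BG14C
import Cfsg.Agent.H2.BGU.Fit
import Cfsg.Agent.H1.BG14B

/-!
Bender–Glauberman §15 (blueprint Part 20, step (6)), helper5: `F(M)` is a TI-subgroup when
`M_F ≠ M_σ` (S1357).
-/

set_option autoImplicit false
set_option linter.unusedSectionVars false
set_option linter.unusedVariables false
set_option linter.style.haveILetI false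
set_option maxHeartbeats 1000000
open Cfsg
open scoped commutatorElement Pointwise

namespace Cfsg.Agent.Lib.Helper5.BG15

open Cfsg.Agent.Lib.Helper5.BG14Z Cfsg.Agent.Lib.Helper8.BGTen Cfsg.Agent.H2.BGU

universe u

variable {G : Type u} [Group G] [Finite G]

section

variable {M K U : Subgroup G}

/-- if `M_σ` is not nilpotent, every prime divisor of `|M|` outside `σ(M)` lies in `κ(M)` -/
theorem mem_kappa_of_not_nilpotent (hG : Cfsg.IsMinSimpleOddOrder G) (hM : IsCoatom M)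
    (hnn : ¬ Group.IsNilpotent ↥(Cfsg.sigmaCore M)) :
    ∀ q : ℕ, q.Prime → q ∣ Nat.card M → q ∉ Cfsg.sigma M → q ∈ Cfsg.kappa M := by
  by_contra hP1
  have hP1' := hP1
  push Not at hP1'
  obtain ⟨p, hp, hpM, hpσ, hpκ⟩ := hP1'
  haveI : Fact p.Prime := ⟨hp⟩
  obtain ⟨S⟩ : Nonempty (Sylow p ↥M) := inferInstance
  have hpn : p ∉ Cfsg.sigma M ∪ Cfsg.kappa M := by
    intro h
    rcases h with h | h
    · exact hpσ h
    · exact hpκ h
  exact hnn (Cfsg.Agent.S1429.result hG M hM hP1 p hpM hpn S).2.2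

/-- `F(M) ≤ M_σ` when `M_σ` is not nilpotent -/
theorem fittingOf_le_sigmaCore (hG : Cfsg.IsMinSimpleOddOrder G) (hM : IsCoatom M)
    (hnn : ¬ Group.IsNilpotent ↥(Cfsg.sigmaCore M)) : Cfsg.fittingOf M ≤ Cfsg.sigmaCore M := by
  obtain ⟨-, h2, h3⟩ := Cfsg.Agent.S1439.result hG M hM
  set Y := Cfsg.piCoreOf {q | q.Prime ∧ q ∉ Cfsg.sigma M} (Cfsg.fittingOf M) with hY
  have hYM : Y ≤ M :=
    (Cfsg.Agent.Lib.Helper4.BGTrans.piCoreOf_le _ _).trans (fittingOf_le M)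
  have hY1 : Y = ⊥ := by
    rw [← Subgroup.card_eq_one]
    by_contra hc
    obtain ⟨p, hp, hpd⟩ := Nat.exists_prime_and_dvd hc
    obtain ⟨-, hpσ, -, hr1⟩ := h2 p hp hpd
    have hpM : p ∣ Nat.card ↥M := hpd.trans (Subgroup.card_dvd_of_le hYM)
    have hκ := mem_kappa_of_not_nilpotent hG hM hnn p hp hpM hpσ
    exact hr1 (Cfsg.Agent.H1.BG14.tau13_of_mem_kappa hG hM hκ).1
  rw [h3, hY1, sup_bot_eq]
  exact fittingOf_le _

end

namespace NData

variable {M K Q D : Subgroup G}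

/-- `q ∤ |M : Q|` -/
theorem Q_relIndex_M (hG : Cfsg.IsMinSimpleOddOrder G) (h : NData M K Q D) :
    ¬ Nat.card ↥(Kst M K) ∣ Q.relIndex M := by
  intro hd
  have hQM : Q ≤ M := h.QH.trans (Cfsg.Agent.H2.BG11.sigmaCore_le M)
  have hK1 := h.K_ne_bot hG
  have hc := Cfsg.Agent.Lib.Helper4.BG14.card_of_not_nilpotent hG h.coatom h.hall hK1 h.nn
  have h2 := Cfsg.Agent.H1.card_eq_relIndex_mul_card hQM
  have h3 := Cfsg.Agent.H1.card_eq_relIndex_mul_card h.QH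
  rw [hc, h3, ← mul_assoc] at h2
  have hpos : 0 < Nat.card ↥Q := Nat.card_pos
  have h4 : Nat.card ↥K * Q.relIndex (Cfsg.sigmaCore M) = Q.relIndex M :=
    Nat.eq_of_mul_eq_mul_right hpos h2
  rw [← h4] at hd
  rcases (Nat.Prime.dvd_mul h.prime).mp hd with h5 | h5
  · exact (Nat.Prime.coprime_iff_not_dvd h.prime).mp (h.q_coprime_K hG).symm h5
  · exact h.Qsyl h5

/-- `Q` has `q`-rank at least 3 -/
theorem Q_rank (hG : Cfsg.IsMinSimpleOddOrder G) (h : NData M K Q D) :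
    ¬ Cfsg.PRankLE (Nat.card ↥(Kst M K)) 2 ↥Q := by
  haveI : Fact (Nat.card ↥(Kst M K)).Prime := ⟨h.prime⟩
  have hQM : Q ≤ M := h.QH.trans (Cfsg.Agent.H2.BG11.sigmaCore_le M)
  have hS := sylIn_of_not_dvd hQM h.Qp (h.Q_relIndex_M hG)
  exact not_pRankLE_sylowIn hS (h.q_mem_beta hG).1.2

/-- `Q ≠ 1` -/
theorem Q_ne_bot (h : NData M K Q D) : Q ≠ ⊥ := by
  intro hQ
  have h1 : Kst M K ≤ ⊥ := hQ ▸ h.KsQ
  rw [le_bot_iff] at h1
  have := h.prime
  rw [h1, Subgroup.card_bot] at this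
  exact Nat.not_prime_one this

/-- (6): `C_G(z) ≤ M` for every `z ∈ F(M)` of prime order -/
theorem centralizer_le (hG : Cfsg.IsMinSimpleOddOrder G) (h : NData M K Q D) {z : G} {ℓ : ℕ}
    (hℓ : ℓ.Prime) (hz : z ∈ Cfsg.fittingOf M) (hzℓ : orderOf z = ℓ) :
    Subgroup.centralizer ({z} : Set G) ≤ M := by
  haveI : Fact ℓ.Prime := ⟨hℓ⟩
  have hM := h.coatom
  have hzσ : z ∈ Cfsg.sigmaCore M := fittingOf_le_sigmaCore hG hM h.nn hz
  have hz1 : z ≠ 1 := by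
    intro h1
    rw [h1, orderOf_one] at hzℓ
    exact hℓ.one_lt.ne hzℓ
  have hℓσ : ℓ ∈ Cfsg.sigma M := by
    apply Cfsg.Agent.H2.BG11.mem_sigma_of_dvd_sigmaCore hG hM hℓ
    rw [← hzℓ]
    exact Subgroup.orderOf_dvd_natCard _ hzσ
  have hHM : Cfsg.sigmaCore M ≤ M := Cfsg.Agent.H2.BG11.sigmaCore_le M
  have hZc : Nat.card ↥(Subgroup.zpowers z) = ℓ := by rw [Nat.card_zpowers, hzℓ]
  by_cases hβ : ℓ ∈ Cfsg.beta M
  · obtain ⟨P⟩ : Nonempty (Sylow ℓ ↥(Cfsg.sigmaCore M)) := inferInstance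
    have h1 := (Cfsg.Agent.S1423.result hG M hM ℓ hℓσ (Subgroup.zpowers z)
      (by rw [Subgroup.zpowers_le]; exact hHM hzσ) hZc P (Or.inl hβ)).1.1
    rwa [centralizer_zpowers_eq] at h1
  · by_contra hnC
    obtain ⟨N, ⟨hN, hCN⟩, -, -, -, -, hcompl, -⟩ :=
      Cfsg.Agent.S1375.result hG M hM z hzσ hz1 hnC
    set q := Nat.card ↥(Kst M K) with hq
    haveI : Fact q.Prime := ⟨h.prime⟩
    have hqℓ : q ≠ ℓ := by
      intro hqℓ
      apply hβ
      rw [← hqℓ]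
      exact h.q_mem_beta hG
    have hQM : Q ≤ M := h.QH.trans hHM
    -- `Q ≤ C_G(z)`
    have hF := fittingOf_nilpotent M
    have hQF : Q ≤ Cfsg.fittingOf M := by
      haveI : Fact (Nat.card ↥(Kst M K)).Prime := ⟨h.prime⟩
      exact le_fittingOf hQM (h.Q_normal hG) h.Qp.isNilpotent
    have h1 : Q ≤ Oq q (Cfsg.fittingOf M) := le_Oq_of_isPGroup hF hQF h.Qp
    have h2 : Subgroup.zpowers z ≤ Oq ℓ (Cfsg.fittingOf M) := by
      apply le_Oq_of_isPGroup hF (by rw [Subgroup.zpowers_le]; exact hz)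
      exact IsPGroup.of_card (n := 1) (by rw [hZc, pow_one])
    have h3 := Oq_commute h.prime hℓ hqℓ (Cfsg.fittingOf M)
    have hQC : Q ≤ Subgroup.centralizer ({z} : Set G) := by
      rw [← centralizer_zpowers_eq]
      exact (h1.trans h3).trans (Subgroup.centralizer_le h2)
    have hQN : Q ≤ N := hQC.trans hCN
    -- `q ∉ σ(N)`
    have hqσN : q ∉ Cfsg.sigma N := by
      intro hqσ
      have h4 : Q ≤ Cfsg.sigmaCore N :=
        Cfsg.Agent.H2.BG11.le_sigmaCore_of_pgroup hG hN hqσ hQN h.Qp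
      have h5 : Q ≤ (M ⊓ N) ⊓ Cfsg.sigmaCore N := le_inf (le_inf hQM hQN) h4
      rw [hcompl.2.2.1, le_bot_iff] at h5
      exact h.Q_ne_bot h5
    have hqαN : q ∉ Cfsg.alpha N := fun hα =>
      hqσN (alpha_subset_sigma hG (Cfsg.Agent.H2.BG11.uniq hG) hN hα)
    have hrN : Cfsg.PRankLE q 2 ↥N := by
      by_contra hr
      exact hqαN ⟨h.prime, hr⟩
    exact h.Q_rank hG (Cfsg.Agent.Lib.Helper4.Rank2Fit.pRankLE_of_le hQN hrN)

end NData

/-- **S1357** -/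
theorem s1357 (hG : Cfsg.IsMinSimpleOddOrder G) (M : Subgroup G) (hM : IsCoatom M)
    (K U : Subgroup G) (hKU : Cfsg.IsSigmaDecomposition M K U)
    (hne : Cfsg.fittingHallOf M ≠ Cfsg.sigmaCore M) :
    U = ⊥ ∧ Cfsg.IsTISubset (Cfsg.fittingOf M : Set G) ∧ (Nat.card K).Prime := by
  have hnn := not_nilpotent hG hM hne
  obtain ⟨Q, D, h⟩ := exists_ndata hG hM hKU.hall hnn
  refine ⟨U_eq_bot hG hM hKU hnn, ?_, (h.frobData hG).card_K_prime⟩
  intro g hg x hx hgx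
  by_contra hx1
  have hgM : g ∉ M := fun hgM => hg (le_normalizer_fittingOf M hgM)
  apply hgM
  -- an element `z` of prime order
  have ho : orderOf x ≠ 1 := fun ho => hx1 (orderOf_eq_one_iff.mp ho)
  obtain ⟨ℓ, hℓ, hℓd⟩ := Nat.exists_prime_and_dvd ho
  set z := x ^ (orderOf x / ℓ) with hzdef
  have hzℓ : orderOf z = ℓ := orderOf_pow_orderOf_div (orderOf_pos x).ne' hℓd
  have hz : z ∈ Cfsg.fittingOf M := Subgroup.pow_mem _ hx _
  have hgz : g * z * g⁻¹ ∈ Cfsg.fittingOf M := by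
    rw [hzdef, ← conj_pow]
    exact Subgroup.pow_mem _ hgx _
  have hzσ : z ∈ Cfsg.sigmaCore M := fittingOf_le_sigmaCore hG hM hnn hz
  have hz1 : z ≠ 1 := by
    intro h1
    rw [h1, orderOf_one] at hzℓ
    exact hℓ.one_lt.ne hzℓ
  have hC := h.centralizer_le hG hℓ hz hzℓ
  have hzg : z ∈ cj g⁻¹ M := by
    rw [mem_cj, inv_inv]
    exact fittingOf_le M hgz
  obtain ⟨c, hc, hcj⟩ := Cfsg.Agent.Lib.helper3.BG14.exists_centralizer_cj hG hM hzσ hz1 hzg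
  have hcM : c ∈ M := hC hc
  have h1 : cj c M = M := cj_eq_of_mem_normalizer (Subgroup.le_normalizer hcM)
  rw [h1] at hcj
  have hM1 : M ≠ ⊥ := Cfsg.Agent.Lib.Helper5.BG11b.coatom_ne_bot hG hM
  have h2 : g⁻¹ ∈ Subgroup.normalizer (M : Set G) := mem_normalizer_of_cj_eq hcj.symm
  rw [normalizer_coatom hG hM hM1] at h2
  have := M.inv_mem h2
  rwa [inv_inv] at this

end Cfsg.Agent.Lib.Helper5.BG15
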