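import Mathlib

/-!
Bender–Glauberman §15 (blueprint Part 21, step (4)), helper5: the MODULE LEMMA.

`A` a finite abelian `p`-group of exponent dividing `p ^ a`, `H` a finite `p'`-group acting on `A`,
`x = y₀ ^ p ^ (a-1)` an element of order `p` generating an `H`-invariant subgroup.  Then there is
`y` with `⟨y⟩` `H`-invariant and `1 ≠ y ^ p ^ (a-1) ∈ ⟨x⟩`.  No Maschke, no minimal counterexample:
an explicit average with a Teichmüller-type lift of the character of `H` on `⟨x⟩`.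
-/

set_option autoImplicit false
set_option linter.unusedSectionVars false
set_option linter.unusedVariables false
set_option linter.style.haveILetI false
set_option maxHeartbeats 1000000

namespace Cfsg.Agent.Lib.Helper5.BG15

/-- `u ≡ v (mod p)` implies `u ^ p ^ k ≡ v ^ p ^ k (mod p ^ (k+1))` -/
theorem modEq_pow_prime_pow {p u v : ℕ} (k : ℕ) (h : u ≡ v [MOD p]) :
    u ^ p ^ k ≡ v ^ p ^ k [MOD p ^ (k + 1)] := by
  have h0 : (u : ℤ) ≡ (v : ℤ) [ZMOD (p : ℤ)] := Int.natCast_modEq_iff.mpr h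
  have h1 : ((p : ℕ) : ℤ) ∣ (v : ℤ) - (u : ℤ) := h0.dvd
  have h2 : ((p : ℤ) ^ (k + 1)) ∣ (v : ℤ) ^ p ^ k - (u : ℤ) ^ p ^ k :=
    dvd_sub_pow_of_dvd_sub h1 k
  have h3 : (u : ℤ) ^ p ^ k ≡ (v : ℤ) ^ p ^ k [ZMOD (p : ℤ) ^ (k + 1)] := Int.modEq_of_dvd h2
  have h4 : ((u ^ p ^ k : ℕ) : ℤ) ≡ ((v ^ p ^ k : ℕ) : ℤ) [ZMOD ((p ^ (k + 1) : ℕ) : ℤ)] := by
    push_cast
    exact h3
  exact Int.natCast_modEq_iff.mp h4

/-- `u ^ p ^ k ≡ u (mod p)` -/
theorem pow_prime_pow_modEq {p : ℕ} (hp : p.Prime) (u k : ℕ) : u ^ p ^ k ≡ u [MOD p] := by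
  haveI : Fact p.Prime := ⟨hp⟩
  rw [← ZMod.natCast_eq_natCast_iff]
  push_cast
  exact ZMod.pow_card_pow _

/-- a subgroup of prime order meets any subgroup trivially or is contained in it -/
theorem inf_eq_bot_or_le' {G : Type*} [Group G] [Finite G] {A : Subgroup G} {q : ℕ} (hq : q.Prime)
    (hA : Nat.card ↥A = q) (B : Subgroup G) : A ⊓ B = ⊥ ∨ A ≤ B := by
  have hdvd : Nat.card ↥(A ⊓ B) ∣ q := hA ▸ Subgroup.card_dvd_of_le inf_le_left
  rcases (Nat.dvd_prime hq).mp hdvd with h | h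
  · left; exact Subgroup.card_eq_one.mp h
  · right
    have : A ⊓ B = A := Subgroup.eq_of_le_of_card_ge inf_le_left (by rw [h, hA])
    rw [← this]; exact inf_le_right

section abstract

variable {A : Type*} [CommGroup A] [Finite A] {H : Type*} [Group H] [Fintype H]

/-- the MODULE LEMMA, abstract form -/
theorem module_lemma_abstract {p a : ℕ} (hp : p.Prime) (ha : 0 < a)
    (hexp : ∀ y : A, y ^ p ^ a = 1) (ρ : H →* MulAut A)
    (hcop : (Fintype.card H).Coprime p) (x y₀ : A) (hx : orderOf x = p)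
    (hinv : ∀ h : H, ρ h x ∈ Subgroup.zpowers x) (hy₀ : y₀ ^ p ^ (a - 1) = x) :
    ∃ y : A, y ^ p ^ (a - 1) ∈ Subgroup.zpowers x ∧ y ^ p ^ (a - 1) ≠ 1 ∧
      ∀ h : H, ρ h y ∈ Subgroup.zpowers y := by
  classical
  set q := p ^ (a - 1) with hq
  have hpa : p ^ a = p ^ (a - 1 + 1) := by rw [Nat.sub_add_cancel ha]
  have hxfin : IsOfFinOrder x := isOfFinOrder_of_finite x
  -- the exponents `ℓ h`
  have hℓ : ∀ h : H, ∃ n : ℕ, ρ h x = x ^ n := by
    intro h
    have h1 := (mem_powers_iff_mem_zpowers (x := x) (y := ρ h x)).mpr (hinv h)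
    obtain ⟨n, hn⟩ := h1
    exact ⟨n, hn.symm⟩
  choose ℓ hℓ using hℓ
  have hℓmul : ∀ g h : H, ℓ (g * h) ≡ ℓ g * ℓ h [MOD p] := by
    intro g h
    rw [← hx, ← pow_eq_pow_iff_modEq]
    rw [← hℓ (g * h), map_mul, MulAut.mul_apply, hℓ h, map_pow, hℓ g, ← pow_mul]
  have hℓone : ℓ 1 ≡ 1 [MOD p] := by
    rw [← hx, ← pow_eq_pow_iff_modEq, ← hℓ 1, map_one, MulAut.one_apply, pow_one]
  set e : H → ℕ := fun h => ℓ h⁻¹ ^ q with he
  -- the average
  set y : A := ∏ h : H, (ρ h y₀) ^ e h with hy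
  have hyq : y ^ q = x ^ Fintype.card H := by
    rw [hy, ← Finset.prod_pow]
    have : ∀ h : H, ((ρ h y₀) ^ e h) ^ q = x := by
      intro h
      rw [← pow_mul, mul_comm, pow_mul, ← map_pow, hy₀, hℓ h, ← pow_mul]
      have h1 : ℓ h * e h ≡ 1 [MOD p] := by
        have h2 : ℓ h⁻¹ ^ q ≡ ℓ h⁻¹ [MOD p] := pow_prime_pow_modEq hp _ _
        have h3 : ℓ h * e h ≡ ℓ h * ℓ h⁻¹ [MOD p] := Nat.ModEq.mul_left _ h2
        have h4 := (hℓmul h h⁻¹).symm
        rw [mul_inv_cancel] at h4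
        exact (h3.trans h4).trans hℓone
      rw [← hx] at h1
      have := pow_eq_pow_iff_modEq.mpr h1
      rw [this, pow_one]
    rw [Finset.prod_congr rfl (fun h _ => this h), Finset.prod_const, Finset.card_univ]
  refine ⟨y, ?_, ?_, ?_⟩
  · rw [hyq]
    exact Subgroup.pow_mem _ (Subgroup.mem_zpowers x) _
  · rw [hyq]
    intro h1
    have h2 : orderOf x ∣ Fintype.card H := orderOf_dvd_of_pow_eq_one h1
    rw [hx] at h2
    exact (Nat.Prime.coprime_iff_not_dvd hp).mp hcop.symm h2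
  · intro g
    have h1 : ρ g y = ∏ h : H, (ρ (g * h) y₀) ^ e h := by
      rw [hy, map_prod]
      refine Finset.prod_congr rfl (fun h _ => ?_)
      rw [map_pow, map_mul, MulAut.mul_apply]
    have h2 : ∏ h : H, (ρ (g * h) y₀) ^ e h = ∏ h' : H, (ρ h' y₀) ^ e (g⁻¹ * h') := by
      refine Fintype.prod_equiv (Equiv.mulLeft g) _ _ (fun h => ?_)
      simp only [Equiv.coe_mulLeft, inv_mul_cancel_left]
    have h3 : ∀ h' : H, (ρ h' y₀) ^ e (g⁻¹ * h') = ((ρ h' y₀) ^ e h') ^ (ℓ g ^ q) := by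
      intro h'
      rw [← pow_mul]
      apply pow_eq_pow_of_modEq _ (hexp _)
      show ℓ (g⁻¹ * h')⁻¹ ^ q ≡ ℓ h'⁻¹ ^ q * ℓ g ^ q [MOD p ^ a]
      rw [mul_inv_rev, inv_inv, ← mul_pow, hpa]
      exact modEq_pow_prime_pow (a - 1) (hℓmul h'⁻¹ g)
    rw [h1, h2, Finset.prod_congr rfl (fun h' _ => h3 h'), Finset.prod_pow]
    exact Subgroup.pow_mem _ (Subgroup.mem_zpowers y) _

end abstract

section concrete

variable {G : Type*} [Group G] [Finite G]

/-- **the MODULE LEMMA** (blueprint Part 21 (4)): `P` an abelian `p`-subgroup of exponent dividing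
`p ^ a`, `H` a `p'`-subgroup normalizing `P` and a subgroup `X ≤ P` of order `p` which contains a
nontrivial `p ^ (a-1)`-th power of an element of `P`.  Then some `H`-invariant cyclic subgroup `C ≤ P`
of order `p ^ a` contains `X`. -/
theorem module_lemma {p a : ℕ} (hp : p.Prime) (ha : 0 < a) (P H X : Subgroup G)
    (hPab : ∀ x ∈ P, ∀ y ∈ P, x * y = y * x) (hexp : ∀ y ∈ P, y ^ p ^ a = 1)
    (hHP : H ≤ Subgroup.normalizer (P : Set G)) (hcop : (Nat.card ↥H).Coprime p)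
    (hXP : X ≤ P) (hX : Nat.card ↥X = p) (hHX : H ≤ Subgroup.normalizer (X : Set G))
    (hpow : ∃ x ∈ X, x ≠ 1 ∧ ∃ y ∈ P, y ^ p ^ (a - 1) = x) :
    ∃ C : Subgroup G, C ≤ P ∧ IsCyclic ↥C ∧ Nat.card ↥C = p ^ a ∧ X ≤ C ∧
      H ≤ Subgroup.normalizer (C : Set G) := by
  classical
  haveI : Fact p.Prime := ⟨hp⟩
  haveI : Fintype ↥H := Fintype.ofFinite _
  obtain ⟨x, hxX, hx1, y₀, hy₀P, hy₀⟩ := hpow
  letI : CommGroup ↥P :=
    { (inferInstance : Group ↥P) with mul_comm := fun u v => Subtype.ext (hPab u u.2 v v.2) }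
  -- `x` generates `X`
  have hxo : orderOf x = p := by
    have h1 : orderOf x ∣ p := by
      rw [← hX]
      exact Subgroup.orderOf_dvd_natCard _ hxX
    rcases (Nat.dvd_prime hp).mp h1 with h | h
    · exact absurd (orderOf_eq_one_iff.mp h) hx1
    · exact h
  have hXz : X = Subgroup.zpowers x := by
    symm
    apply Subgroup.eq_of_le_of_card_ge (by rw [Subgroup.zpowers_le]; exact hxX)
    rw [Nat.card_zpowers, hxo, hX]
  set ρ : ↥H →* MulAut ↥P := (P.normalizerMonoidHom).comp (Subgroup.inclusion hHP) with hρ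
  have hρ_coe : ∀ (h : ↥H) (u : ↥P), ((ρ h u : ↥P) : G) = (h : G) * (u : G) * (h : G)⁻¹ :=
    fun h u => rfl
  have hxP : x ∈ P := hXP hxX
  have key := module_lemma_abstract (A := ↥P) (H := ↥H) hp ha
    (fun u => Subtype.ext (by rw [Subgroup.coe_pow, Subgroup.coe_one]; exact hexp u u.2)) ρ
    (by rw [← Nat.card_eq_fintype_card]; exact hcop) ⟨x, hxP⟩ ⟨y₀, hy₀P⟩
    (by rw [← hxo]; exact (Subgroup.orderOf_mk x hxP))
    (by
      intro h
      have h1 : (h : G) * x * (h : G)⁻¹ ∈ X :=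
        (Subgroup.mem_normalizer_iff.mp (hHX h.2) x).mp hxX
      rw [hXz] at h1
      obtain ⟨k, hk⟩ := h1
      refine ⟨k, Subtype.ext ?_⟩
      rw [Subgroup.coe_zpow]
      exact hk)
    (Subtype.ext (by rw [Subgroup.coe_pow]; exact hy₀))
  obtain ⟨y, hy1, hy2, hy3⟩ := key
  refine ⟨Subgroup.zpowers (y : G), ?_, ?_, ?_, ?_, ?_⟩
  · rw [Subgroup.zpowers_le]; exact y.2
  · infer_instance
  · -- order `p ^ a`
    rw [Nat.card_zpowers]
    have h1 : (y : G) ^ p ^ a = 1 := hexp y y.2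
    have h2 : (y : G) ^ p ^ (a - 1) ≠ 1 := by
      intro h
      apply hy2
      exact Subtype.ext (by rw [Subgroup.coe_pow]; exact h)
    have h3 : p ^ a = p ^ (a - 1 + 1) := by rw [Nat.sub_add_cancel ha]
    rw [h3] at h1 ⊢
    exact orderOf_eq_prime_pow h2 h1
  · -- `X ≤ ⟨y⟩`
    rcases Cfsg.Agent.Lib.Helper5.BG15.inf_eq_bot_or_le' hp hX (Subgroup.zpowers (y : G))
      with h | h
    · exfalso
      have h4 : (y : G) ^ p ^ (a - 1) ∈ X ⊓ Subgroup.zpowers (y : G) := by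
        refine ⟨?_, Subgroup.pow_mem _ (Subgroup.mem_zpowers _) _⟩
        rw [hXz]
        obtain ⟨k, hk⟩ := hy1
        refine ⟨k, ?_⟩
        have := congrArg Subtype.val hk
        rw [Subgroup.coe_zpow, Subgroup.coe_pow] at this
        exact this
      rw [h, Subgroup.mem_bot] at h4
      apply hy2
      exact Subtype.ext (by rw [Subgroup.coe_pow]; exact h4)
    · exact h
  · -- `H`-invariance
    intro h hh
    rw [Subgroup.mem_normalizer_iff]
    have hconj : ∀ g : G, g ∈ H → ∀ z ∈ Subgroup.zpowers (y : G),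
        g * z * g⁻¹ ∈ Subgroup.zpowers (y : G) := by
      intro g hg z hz
      obtain ⟨k, rfl⟩ := hz
      obtain ⟨j, hj⟩ := hy3 ⟨g, hg⟩
      have h5 : g * (y : G) * g⁻¹ = (y : G) ^ j := by
        have := congrArg Subtype.val hj
        rw [Subgroup.coe_zpow, hρ_coe] at this
        exact this.symm
      have h6 : g * (y : G) ^ k * g⁻¹ = (g * (y : G) * g⁻¹) ^ k := by
        rw [conj_zpow]
      rw [h6, h5]
      exact Subgroup.zpow_mem _ (Subgroup.zpow_mem _ (Subgroup.mem_zpowers _) _) _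
    intro z
    constructor
    · exact hconj h hh z
    · intro hz
      have := hconj h⁻¹ (H.inv_mem hh) _ hz
      simpa [mul_assoc] using this

end concrete

end Cfsg.Agent.Lib.Helper5.BG15
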