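import Mathlib
import Cfsg.Agent.H2.BGU.T81a4

/-!
# Bender's lemma (S1482)

`G` minimal simple of odd order, `H` a maximal subgroup whose Fitting subgroup `F` has at least two
prime divisors, `M₀ ≤ F` a subgroup containing `Z(F)` that normalizes no nontrivial `π(F)'`-subgroup
of `G`.  Then `H` is the only maximal subgroup containing `M₀`.

The proof is the argument of helper2's `Cfsg.Agent.H2.BGU.H81.coatom_eq` (BG Theorem 8.1(a),
steps (5a)–(5i)), with `C_F(A₀)` replaced by an arbitrary `M₀` with `Z(F) ≤ M₀ ≤ F`; step (5g) is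
done differently (it used `O_q(F) ≤ C_F(A₀)` there).
-/

set_option autoImplicit false
set_option linter.unusedVariables false
set_option linter.unusedSectionVars false
set_option linter.style.haveILetI false

open scoped commutatorElement Pointwise

namespace Cfsg.Agent.Lib.Helper5.BGBender

open Cfsg Cfsg.Agent.H2.BGU Cfsg.Agent.Lib.Helper4.ThreeStep Cfsg.Agent.Lib.Lead.Conj
  Cfsg.Agent.Lib.Lead.PiCore Cfsg.Agent.Lib.Helper4.BGTrans

universe u

variable {G : Type u} [Group G] [Finite G]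

/-- standing hypotheses -/
structure HB (H M₀ : Subgroup G) : Prop where
  hG : Cfsg.IsMinSimpleOddOrder G
  hH : IsCoatom H
  hMF : M₀ ≤ Cfsg.fittingOf H
  hZM : Cfsg.fittingOf H ⊓ Subgroup.centralizer (Cfsg.fittingOf H : Set G) ≤ M₀
  h2 : 2 ≤ (Nat.card (Cfsg.fittingOf H)).primeFactors.card
  hinv : ∀ Y ∈ Cfsg.invSubgroups ⊤ M₀ (Cfsg.primesNotDvd (Nat.card (Cfsg.fittingOf H))), Y = ⊥

namespace HB

variable {H M₀ : Subgroup G}

theorem M0_le_H (h : HB H M₀) : M₀ ≤ H := h.hMF.trans (fittingOf_le H)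

theorem solvH (h : HB H M₀) : Group.IsSolvable ↥H := solvable_of_le_coatom h.hG h.hH le_rfl

theorem M0_nilpotent (h : HB H M₀) : Group.IsNilpotent ↥M₀ :=
  isNilpotent_of_le (fittingOf_nilpotent H) h.hMF

theorem Zq_le_M0 (h : HB H M₀) (q : ℕ) : Zq q (Cfsg.fittingOf H) ≤ M₀ :=
  le_trans (le_inf (Zq_le q _) (Zq_le_centralizer q _)) h.hZM

theorem dvd_card_M0_iff (h : HB H M₀) {q : ℕ} (hq : q.Prime) :
    q ∣ Nat.card ↥M₀ ↔ q ∣ Nat.card ↥(Cfsg.fittingOf H) := by
  haveI := Fact.mk hq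
  constructor
  · intro hd
    exact hd.trans (Subgroup.card_dvd_of_le h.hMF)
  · intro hd
    have h1 := Zq_ne_bot_of_dvd (fittingOf_nilpotent H) hd
    exact (dvd_card_of_ne_bot_of_isPGroup (isPGroup_Zq hq _) h1).trans
      (Subgroup.card_dvd_of_le (h.Zq_le_M0 q))

theorem normalizer_Zq (h : HB H M₀) {q : ℕ} (hq : q.Prime)
    (hd : q ∣ Nat.card ↥(Cfsg.fittingOf H)) :
    Subgroup.normalizer (Zq q (Cfsg.fittingOf H) : Set G) = H := by
  haveI := Fact.mk hq
  exact normalizer_eq_coatom h.hG h.hH (Zq_ne_bot_of_dvd (fittingOf_nilpotent H) hd)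
    ((Zq_le q _).trans (fittingOf_le H)) (le_normalizer_Zq_fittingOf q H)

theorem Zq_le_Oq_M0 (h : HB H M₀) {q : ℕ} (hq : q.Prime) :
    Zq q (Cfsg.fittingOf H) ≤ Oq q M₀ := by
  haveI := Fact.mk hq
  exact le_Oq_of_isPGroup h.M0_nilpotent (h.Zq_le_M0 q) (isPGroup_Zq hq _)

theorem centralizer_Oq_M0_le (h : HB H M₀) {q : ℕ} (hq : q.Prime)
    (hd : q ∣ Nat.card ↥(Cfsg.fittingOf H)) :
    Subgroup.centralizer (Oq q M₀ : Set G) ≤ H := by
  have h1 : Subgroup.centralizer (Oq q M₀ : Set G) ≤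
      Subgroup.centralizer (Zq q (Cfsg.fittingOf H) : Set G) :=
    Subgroup.centralizer_le (h.Zq_le_Oq_M0 hq)
  refine h1.trans ((Subgroup.centralizer_le_normalizer _).trans ?_)
  rw [h.normalizer_Zq hq hd]

theorem Oq_M0_le_Oq_F (h : HB H M₀) {q : ℕ} (hq : q.Prime) :
    Oq q M₀ ≤ Oq q (Cfsg.fittingOf H) := by
  haveI := Fact.mk hq
  exact le_Oq_of_isPGroup (fittingOf_nilpotent H) ((Oq_le q _).trans h.hMF) (isPGroup_Oq hq _)

theorem Oq_M0_ne_bot (h : HB H M₀) {q : ℕ} (hq : q.Prime)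
    (hd : q ∣ Nat.card ↥(Cfsg.fittingOf H)) : Oq q M₀ ≠ ⊥ := by
  haveI := Fact.mk hq
  exact Oq_ne_bot_of_dvd h.M0_nilpotent ((h.dvd_card_M0_iff hq).mpr hd)

theorem exists_other_prime (h : HB H M₀) (q : ℕ) :
    ∃ r : ℕ, r.Prime ∧ r ≠ q ∧ r ∣ Nat.card ↥(Cfsg.fittingOf H) := by
  by_contra hcon
  push Not at hcon
  have hsub : (Nat.card ↥(Cfsg.fittingOf H)).primeFactors ⊆ {q} := by
    intro r hr
    rw [Finset.mem_singleton]
    by_contra hne
    exact hcon r (Nat.prime_of_mem_primeFactors hr) hne (Nat.dvd_of_mem_primeFactors hr)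
  have := Finset.card_le_card hsub
  rw [Finset.card_singleton] at this
  have h2 := h.h2
  omega

theorem Oq_F_le_Op'_H {q r : ℕ} (hq : q.Prime) (hr : r.Prime) (hrq : r ≠ q) :
    Oq r (Cfsg.fittingOf H) ≤ Op' q H :=
  Oq_le_Op' hq hr hrq (fittingOf_le H) (le_normalizer_fittingOf H)

/-- `O_r(M₀) ≤ O_{q'}(X)` for `r ≠ q`, `q ∈ π(F)`, `X ≥ M₀` proper -/
theorem Oq_M0_le_Op' (h : HB H M₀) {X : Subgroup G} (hX : X ≠ ⊤) (hMX : M₀ ≤ X)
    {q r : ℕ} (hq : q.Prime) (hqF : q ∣ Nat.card ↥(Cfsg.fittingOf H)) (hr : r.Prime)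
    (hrq : r ≠ q) : Oq r M₀ ≤ Op' q X := by
  haveI := Fact.mk hq
  haveI : Group.IsSolvable ↥X := solvable_of_ne_top h.hG hX
  set Q := Zq q (Cfsg.fittingOf H) with hQ
  set C := X ⊓ Subgroup.centralizer (Q : Set G) with hC
  set D := Op' q H ⊓ C with hD
  have hCH : C ≤ H := by
    refine inf_le_right.trans ((Subgroup.centralizer_le_normalizer _).trans ?_)
    rw [h.normalizer_Zq hq hqF]
  have hDle : D ≤ Op' q X := by
    apply balance_sub X q ((h.Zq_le_M0 q).trans hMX) (isPGroup_Zq hq _)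
      (inf_le_right.trans inf_le_left) (inf_le_right.trans inf_le_right)
    · exact le_normalizer_inf (hCH.trans (le_normalizer_Op' q H)) Subgroup.le_normalizer
    · exact Nat.Coprime.coprime_dvd_right (Subgroup.card_dvd_of_le inf_le_left)
        (coprime_card_Op' q H)
  refine le_trans ?_ hDle
  refine le_inf ((h.Oq_M0_le_Oq_F hr).trans (Oq_F_le_Op'_H hq hr hrq)) (le_inf ?_ ?_)
  · exact (Oq_le r _).trans hMX
  · have h1 : Q ≤ Subgroup.centralizer ((Cfsg.fittingOf H : Subgroup G) : Set G) :=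
      Zq_le_centralizer q _
    have h2 : Cfsg.fittingOf H ≤ Subgroup.centralizer (Q : Set G) :=
      Subgroup.le_centralizer_iff.mp h1
    exact ((Oq_le r _).trans h.hMF).trans h2

/-- `M₀` normalizes no nontrivial `q`-subgroup for `q ∉ π(F)` -/
theorem inv_eq_bot (h : HB H M₀) {q : ℕ} (hq : q.Prime)
    (hqF : ¬ q ∣ Nat.card ↥(Cfsg.fittingOf H)) {Y : Subgroup G}
    (hY : Y ∈ Cfsg.invSubgroups ⊤ M₀ {q}) : Y = ⊥ := by
  rw [mem_invSubgroups_top] at hY
  apply h.hinv Y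
  rw [mem_invSubgroups_top]
  refine ⟨?_, hY.2⟩
  intro r hr hrd
  have : r = q := hY.1 r hr hrd
  rw [this]
  exact ⟨hq, hqF⟩

section final

variable (h : HB H M₀) {L : Subgroup G} (hL : IsCoatom L) (hML : M₀ ≤ L)

include h hL hML

/-- (5a) -/
theorem dvd_F_of_dvd_D {q : ℕ} (hq : q.Prime) (hd : q ∣ Nat.card ↥(Cfsg.fittingOf L)) :
    q ∣ Nat.card ↥(Cfsg.fittingOf H) := by
  haveI := Fact.mk hq
  by_contra hnd
  have hinv : Oq q (Cfsg.fittingOf L) ∈ Cfsg.invSubgroups ⊤ M₀ {q} :=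
    mem_invSubgroups_top.mpr ⟨isPiNat_of_isPGroup (isPGroup_Oq hq _),
      hML.trans (le_normalizer_Oq_fittingOf q L)⟩
  exact Oq_ne_bot_of_dvd (fittingOf_nilpotent L) hd (h.inv_eq_bot hq hnd hinv)

/-- (5c) -/
theorem Oq_D_le_centralizer {q r : ℕ} (hq : q.Prime) (hqF : q ∣ Nat.card ↥(Cfsg.fittingOf H))
    (hr : r.Prime) (hrq : r ≠ q) :
    Oq q (Cfsg.fittingOf L) ≤ Subgroup.centralizer (Oq r M₀ : Set G) := by
  have hLtop : L ≠ ⊤ := hL.1
  have h1 : Oq r M₀ ≤ Op' q L := h.Oq_M0_le_Op' hLtop hML hq hqF hr hrq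
  have hbot : Oq q (Cfsg.fittingOf L) ⊓ Op' q L = ⊥ :=
    (Subgroup.disjoint_of_coprime_natCard (coprime_Oq_Op' hq _ _)).eq_bot
  intro d hd
  rw [Subgroup.mem_centralizer_iff]
  intro a ha
  have ha' : a ∈ Oq r M₀ := ha
  have haL : a ∈ L := hML (Oq_le r _ ha')
  have hdL : d ∈ L := fittingOf_le L (Oq_le q _ hd)
  refine commute_of_inf_eq_bot hbot hd (h1 ha') ?_ ?_
  · exact conj_mem_of_le_normalizer (le_normalizer_Oq_fittingOf q L) haL (Subgroup.inv_mem _ hd)
  · exact conj_mem_of_le_normalizer (le_normalizer_Op' q L) hdL (h1 ha')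

/-- (5b) -/
theorem dvd_D_of_dvd_F {q : ℕ} (hq : q.Prime) (hd : q ∣ Nat.card ↥(Cfsg.fittingOf H)) :
    q ∣ Nat.card ↥(Cfsg.fittingOf L) := by
  haveI := Fact.mk hq
  haveI : Group.IsSolvable ↥L := solvable_of_le_coatom h.hG hL le_rfl
  by_contra hnd
  set D := Cfsg.fittingOf L with hD
  have hAq : Oq q M₀ ≠ ⊥ := h.Oq_M0_ne_bot hq hd
  have h1 : D ≤ Subgroup.centralizer (Oq q M₀ : Set G) := by
    apply le_of_forall_Oq_le (fittingOf_nilpotent L)
    intro r hr
    by_cases hrD : r ∣ Nat.card ↥D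
    · have hrF := h.dvd_F_of_dvd_D hL hML hr hrD
      have hqr : q ≠ r := by
        rintro rfl
        exact hnd hrD
      exact h.Oq_D_le_centralizer hL hML hr hrF hq hqr
    · rw [Oq_eq_bot_of_not_dvd hr hrD]
      exact bot_le
  have h2 : Oq q M₀ ≤ D := by
    refine le_trans (le_inf ((Oq_le q _).trans hML) ?_) (inf_centralizer_fittingOf_le L)
    exact Subgroup.le_centralizer_iff.mp h1
  exact hnd ((dvd_card_of_ne_bot_of_isPGroup (isPGroup_Oq hq _) hAq).trans
    (Subgroup.card_dvd_of_le h2))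

/-- (5d) -/
theorem D_le_H : Cfsg.fittingOf L ≤ H := by
  apply le_of_forall_Oq_le (fittingOf_nilpotent L)
  intro q hq
  by_cases hqD : q ∣ Nat.card ↥(Cfsg.fittingOf L)
  · have hqF := h.dvd_F_of_dvd_D hL hML hq hqD
    obtain ⟨r, hr, hrq, hrF⟩ := h.exists_other_prime q
    exact (h.Oq_D_le_centralizer hL hML hq hqF hr hrq).trans (h.centralizer_Oq_M0_le hr hrF)
  · rw [Oq_eq_bot_of_not_dvd hq hqD]
    exact bot_le

/-- (5e) -/
theorem Op'_L_le_centralizer {p : ℕ} (hp : p.Prime) :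
    Op' p L ≤ Subgroup.centralizer (Oq p M₀ : Set G) := by
  haveI := Fact.mk hp
  haveI : Group.IsSolvable ↥L := solvable_of_le_coatom h.hG hL le_rfl
  set X := Op' p L with hX
  haveI : Group.IsSolvable ↥X := solvable_of_le_coatom h.hG hL (Op'_le p L)
  have hFX : Cfsg.fittingOf X ≤ Cfsg.fittingOf L :=
    fittingOf_le_of_normal (Op'_le p L) (le_normalizer_Op' p L)
  have key : Oq p M₀ ≤ Subgroup.centralizer (X : Set G) := by
    apply le_centralizer_of_centralizer_fittingOf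
    · exact ((Oq_le p _).trans hML).trans (le_normalizer_Op' p L)
    · exact coprime_Oq_Op' hp _ _
    · rw [Subgroup.le_centralizer_iff]
      apply le_of_forall_Oq_le (fittingOf_nilpotent X)
      intro q hq
      haveI := Fact.mk hq
      by_cases hqp : q = p
      · subst hqp
        have : Oq q (Cfsg.fittingOf X) = ⊥ := by
          apply eq_bot_of_le_of_coprime ((Oq_le q _).trans (fittingOf_le X))
          exact coprime_Oq_Op' hq _ _
        rw [this]; exact bot_le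
      · have h1 : Oq q (Cfsg.fittingOf X) ≤ Oq q (Cfsg.fittingOf L) :=
          le_Oq_of_isPGroup (fittingOf_nilpotent L) ((Oq_le q _).trans hFX) (isPGroup_Oq hq _)
        by_cases hqD : q ∣ Nat.card ↥(Cfsg.fittingOf L)
        · have hqF := h.dvd_F_of_dvd_D hL hML hq hqD
          exact h1.trans (h.Oq_D_le_centralizer hL hML hq hqF hp (fun e => hqp e.symm))
        · rw [Oq_eq_bot_of_not_dvd hq hqD] at h1
          exact h1.trans bot_le
  exact Subgroup.le_centralizer_iff.mp key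

theorem Op'_L_le_H {p : ℕ} (hp : p.Prime) (hpF : p ∣ Nat.card ↥(Cfsg.fittingOf H)) :
    Op' p L ≤ H :=
  (h.Op'_L_le_centralizer hL hML hp).trans (h.centralizer_Oq_M0_le hp hpF)

theorem Oq_D_ne_bot {p : ℕ} (hp : p.Prime) (hpF : p ∣ Nat.card ↥(Cfsg.fittingOf H)) :
    Oq p (Cfsg.fittingOf L) ≠ ⊥ := by
  haveI := Fact.mk hp
  exact Oq_ne_bot_of_dvd (fittingOf_nilpotent L) (h.dvd_D_of_dvd_F hL hML hp hpF)

theorem normalizer_Oq_D {p : ℕ} (hp : p.Prime) (hpF : p ∣ Nat.card ↥(Cfsg.fittingOf H)) :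
    Subgroup.normalizer (Oq p (Cfsg.fittingOf L) : Set G) = L :=
  normalizer_eq_coatom h.hG hL (h.Oq_D_ne_bot hL hML hp hpF)
    ((Oq_le p _).trans (fittingOf_le L)) (le_normalizer_Oq_fittingOf p L)

/-- (5f) -/
theorem Op'_L_le_Op'_H {p : ℕ} (hp : p.Prime) (hpF : p ∣ Nat.card ↥(Cfsg.fittingOf H)) :
    Op' p L ≤ Op' p H := by
  haveI := Fact.mk hp
  haveI := h.solvH
  apply balance_sub H p ((Oq_le p _).trans (h.D_le_H hL hML)) (isPGroup_Oq hp _)
    (h.Op'_L_le_H hL hML hp hpF)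
  · exact le_centralizer_of_coprime ((Op'_le p L).trans (le_normalizer_Oq_fittingOf p L))
      (((Oq_le p _).trans (fittingOf_le L)).trans (le_normalizer_Op' p L))
      (coprime_Oq_Op' hp _ _).symm
  · refine inf_le_right.trans ((Subgroup.centralizer_le_normalizer _).trans ?_)
    rw [h.normalizer_Oq_D hL hML hp hpF]
    exact le_normalizer_Op' p L
  · exact coprime_card_Op' p L

/-- `O_p(F(L))` centralizes `O_q(F(H))` for `q ≠ p` -/
theorem Oq_D_le_centralizer_Oq_F {p q : ℕ} (hp : p.Prime) (hq : q.Prime) (hqp : q ≠ p) :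
    Oq p (Cfsg.fittingOf L) ≤ Subgroup.centralizer (Oq q (Cfsg.fittingOf H) : Set G) := by
  by_cases hqF : q ∣ Nat.card ↥(Cfsg.fittingOf H)
  · have h1 : Oq p (Cfsg.fittingOf L) ≤ Op' q L :=
      Oq_le_Op' hq hp (fun e => hqp e.symm) (fittingOf_le L) (le_normalizer_fittingOf L)
    have h2 : Oq p (Cfsg.fittingOf L) ≤ Op' q H := h1.trans (h.Op'_L_le_Op'_H hL hML hq hqF)
    refine h2.trans ?_
    exact le_centralizer_of_coprime ((Op'_le q H).trans (le_normalizer_Oq_fittingOf q H))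
      (((Oq_le q _).trans (fittingOf_le H)).trans (le_normalizer_Op' q H))
      (coprime_Oq_Op' hq _ _).symm
  · rw [Oq_eq_bot_of_not_dvd hq hqF, Subgroup.coe_bot]
    intro x _
    rw [Subgroup.mem_centralizer_iff]
    intro y hy
    rw [Set.mem_singleton_iff] at hy
    rw [hy, one_mul, mul_one]

/-- (5g) -/
theorem Op'_H_le_L {p : ℕ} (hp : p.Prime) (hpF : p ∣ Nat.card ↥(Cfsg.fittingOf H)) :
    Op' p H ≤ L := by
  haveI := Fact.mk hp
  set X := Op' p H with hX
  haveI : Group.IsSolvable ↥X := solvable_of_le_coatom h.hG h.hH (Op'_le p H)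
  have hFX : Cfsg.fittingOf X ≤ Cfsg.fittingOf H :=
    fittingOf_le_of_normal (Op'_le p H) (le_normalizer_Op' p H)
  have key : Oq p (Cfsg.fittingOf L) ≤ Subgroup.centralizer (X : Set G) := by
    apply le_centralizer_of_centralizer_fittingOf
    · exact ((Oq_le p _).trans (h.D_le_H hL hML)).trans (le_normalizer_Op' p H)
    · exact coprime_Oq_Op' hp _ _
    · rw [Subgroup.le_centralizer_iff]
      apply le_of_forall_Oq_le (fittingOf_nilpotent X)
      intro q hq
      haveI := Fact.mk hq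
      by_cases hqp : q = p
      · subst hqp
        have : Oq q (Cfsg.fittingOf X) = ⊥ := by
          apply eq_bot_of_le_of_coprime ((Oq_le q _).trans (fittingOf_le X))
          exact coprime_Oq_Op' hq _ _
        rw [this]; exact bot_le
      · have h1 : Oq q (Cfsg.fittingOf X) ≤ Oq q (Cfsg.fittingOf H) :=
          le_Oq_of_isPGroup (fittingOf_nilpotent H) ((Oq_le q _).trans hFX) (isPGroup_Oq hq _)
        have h3 := h.Oq_D_le_centralizer_Oq_F hL hML hp hq hqp
        exact h1.trans (Subgroup.le_centralizer_iff.mp h3)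
  have h4 : X ≤ Subgroup.centralizer (Oq p (Cfsg.fittingOf L) : Set G) :=
    Subgroup.le_centralizer_iff.mp key
  refine h4.trans ((Subgroup.centralizer_le_normalizer _).trans ?_)
  rw [h.normalizer_Oq_D hL hML hp hpF]

/-- (5h) -/
theorem Op'_H_le_Op'_L {p : ℕ} (hp : p.Prime) (hpF : p ∣ Nat.card ↥(Cfsg.fittingOf H)) :
    Op' p H ≤ Op' p L := by
  haveI := Fact.mk hp
  haveI : Group.IsSolvable ↥L := solvable_of_le_coatom h.hG hL le_rfl
  apply balance_sub L p ((h.Zq_le_M0 p).trans hML) (isPGroup_Zq hp _)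
    (h.Op'_H_le_L hL hML hp hpF)
  · apply le_centralizer_of_coprime ((Op'_le p H).trans (le_normalizer_Zq_fittingOf p H))
      (((Zq_le p _).trans (fittingOf_le H)).trans (le_normalizer_Op' p H))
    obtain ⟨k, hk⟩ := (isPGroup_Zq hp (Cfsg.fittingOf H)).exists_card_eq
    rw [hk]
    exact Nat.Coprime.pow_right k (coprime_card_Op' p H).symm
  · refine inf_le_right.trans ((Subgroup.centralizer_le_normalizer _).trans ?_)
    rw [h.normalizer_Zq hp hpF]
    exact le_normalizer_Op' p H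
  · exact coprime_card_Op' p H

/-- (5i) -/
theorem coatom_eq : L = H := by
  obtain ⟨p, hp, -, hpF⟩ := h.exists_other_prime 0
  have heq : Op' p L = Op' p H :=
    le_antisymm (h.Op'_L_le_Op'_H hL hML hp hpF) (h.Op'_H_le_Op'_L hL hML hp hpF)
  obtain ⟨r, hr, hrp, hrF⟩ := h.exists_other_prime p
  haveI := Fact.mk hr
  have hrD := h.dvd_D_of_dvd_F hL hML hr hrF
  have hne : Oq r (Cfsg.fittingOf L) ≠ ⊥ := Oq_ne_bot_of_dvd (fittingOf_nilpotent L) hrD
  have hle : Oq r (Cfsg.fittingOf L) ≤ Op' p L :=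
    Oq_le_Op' hp hr hrp (fittingOf_le L) (le_normalizer_fittingOf L)
  have hXne : Op' p H ≠ ⊥ := by
    rw [← heq]
    intro hbot
    apply hne
    rw [eq_bot_iff, ← hbot]
    exact hle
  refine coatom_eq_of_le_normalizer h.hG h.hH hL hXne (Op'_le p H) (le_normalizer_Op' p H) ?_
  rw [← heq]
  exact le_normalizer_Op' p L

end final

end HB

/-- **S1482** -/
theorem bender_uniqueness (hG : Cfsg.IsMinSimpleOddOrder G) (H : Subgroup G) (hH : IsCoatom H)
    (hF2 : 2 ≤ (Nat.card (Cfsg.fittingOf H)).primeFactors.card)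
    (M : Subgroup G) (hM : M ≤ Cfsg.fittingOf H)
    (hZM : Cfsg.fittingOf H ⊓ Subgroup.centralizer (Cfsg.fittingOf H : Set G) ≤ M)
    (hinv : ∀ Y ∈ Cfsg.invSubgroups ⊤ M (Cfsg.primesNotDvd (Nat.card (Cfsg.fittingOf H))),
      Y = ⊥) :
    ∀ L : Subgroup G, IsCoatom L → M ≤ L → L = H := by
  intro L hL hML
  exact HB.coatom_eq ⟨hG, hH, hM, hZM, hF2, hinv⟩ hL hML

end Cfsg.Agent.Lib.Helper5.BGBender
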