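import Mathlib
import Cfsg.Agent.Lib.Helper5.BGTwelveA
import Cfsg.Agent.Lib.Helper8.BGTenG

/-!
# B&G Lemma 12.1, conditionally on the Uniqueness Theorem

`UniqThm G` is the statement of S1403.  For a complement `E` of `M_σ` in `M`: `E'` is nilpotent, Hall `τ₁`-subgroups
of `E` are cyclic, Hall `τ₃`-subgroups of `E` are cyclic, lie in `E'` and are normal in `E`.
-/

set_option autoImplicit false
set_option linter.style.haveILetI false
set_option linter.unusedSectionVars false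
set_option linter.unusedVariables false

open scoped commutatorElement

namespace Cfsg.Agent.Lib.Helper5.BGTwelve

open Cfsg Cfsg.Agent.Lib.Helper7 Cfsg.Agent.Lib.Helper8.BGTen Cfsg.Agent.Lib.Lead.PiCore

universe u
variable {G : Type u} [Group G] [Finite G]

/-- (a): the derived subgroup of a complement of `M_σ` is nilpotent -/
theorem commutator_compl_nilpotent (hG : Cfsg.IsMinSimpleOddOrder G) (hU : UniqThm G)
    {M : Subgroup G} (hM : IsCoatom M) {E : Subgroup G}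
    (hE : Cfsg.IsComplIn E (Cfsg.sigmaCore M) M) : Group.IsNilpotent ↥⁅E, E⁆ := by
  obtain ⟨-, -, hασ, -, hnil⟩ := alphaCore_hall hG hU M hM
  have hEM : E ≤ M := hE.1
  have hEE : ⁅E, E⁆ ≤ E := Subgroup.commutator_le_self E
  have hEM' : ⁅E, E⁆ ≤ ⁅M, M⁆ := Subgroup.commutator_mono hEM hEM
  let ι : ↥⁅E, E⁆ →* ↥M := Subgroup.inclusion (hEE.trans hEM)
  let g : ↥⁅E, E⁆ →* ↥M ⧸ piCore (Cfsg.alpha M) ↥M :=
    (QuotientGroup.mk' (piCore (Cfsg.alpha M) ↥M)).comp ι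
  have hgD : ∀ x, g x ∈
      (_root_.commutator ↥M).map (QuotientGroup.mk' (piCore (Cfsg.alpha M) ↥M)) := by
    intro x
    refine ⟨ι x, ?_, rfl⟩
    have h1 : (x : G) ∈ ⁅M, M⁆ := hEM' x.2
    rw [← Subgroup.map_subtype_commutator] at h1
    obtain ⟨y, hy, hyx⟩ := h1
    have h2 : y = ι x := Subtype.ext hyx
    rw [← h2]
    exact hy
  let g' := g.codRestrict _ hgD
  have hinj : Function.Injective g' := by
    rw [injective_iff_map_eq_one]
    intro x hx
    have h1 : g x = 1 := by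
      have h0 := congrArg Subtype.val hx
      exact h0
    have h2 : ι x ∈ piCore (Cfsg.alpha M) ↥M := (QuotientGroup.eq_one_iff _).mp h1
    have h3 : (x : G) ∈ Cfsg.alphaCore M := ⟨ι x, h2, rfl⟩
    have h4 : (x : G) ∈ E ⊓ Cfsg.sigmaCore M := ⟨hEE x.2, hασ h3⟩
    rw [hE.2.2.1] at h4
    exact Subtype.ext (Subgroup.mem_bot.mp h4)
  haveI := hnil
  exact Subgroup.isNilpotent_of_ker_le_center g'
    (by rw [(MonoidHom.ker_eq_bot_iff g').mpr hinj]; exact bot_le)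

/-- `E ∩ M' ≤ E'` for a complement `E` of `M_σ` in `M` -/
theorem inf_commutator_le (M E : Subgroup G) (hE : Cfsg.IsComplIn E (Cfsg.sigmaCore M) M) :
    E ⊓ ⁅M, M⁆ ≤ ⁅E, E⁆ := by
  obtain ⟨hEM, hsM, hdisj, hprod⟩ := hE
  have hcompl : (E.subgroupOf M).IsComplement' (piCore (Cfsg.sigma M) ↥M) := by
    apply Subgroup.isComplement'_of_disjoint_and_mul_eq_univ
    · rw [disjoint_iff, eq_bot_iff]
      rintro x ⟨hx1, hx2⟩
      have h1 : (x : G) ∈ E ⊓ Cfsg.sigmaCore M :=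
        ⟨Subgroup.mem_subgroupOf.mp hx1, ⟨x, hx2, rfl⟩⟩
      rw [hdisj] at h1
      exact Subgroup.mem_bot.mpr (Subtype.ext (Subgroup.mem_bot.mp h1))
    · rw [Set.eq_univ_iff_forall]
      intro m
      obtain ⟨a, ha, b, hb, hab⟩ := hprod m m.2
      obtain ⟨b', hb', rfl⟩ := hb
      refine Set.mem_mul.mpr ⟨⟨a, hEM ha⟩, Subgroup.mem_subgroupOf.mpr ha, b', hb', ?_⟩
      exact Subtype.ext hab.symm
  have hmain := inf_commutator_le_of_isComplement' (E.subgroupOf M) (piCore (Cfsg.sigma M) ↥M) hcompl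
  rintro x ⟨hxE, hxC⟩
  rw [← Subgroup.map_subtype_commutator] at hxC
  obtain ⟨y, hy, rfl⟩ := hxC
  have hyE : y ∈ E.subgroupOf M := Subgroup.mem_subgroupOf.mpr hxE
  have h1 := hmain ⟨hyE, hy⟩
  rw [Subgroup.map_subtype_commutator] at h1
  have h2 : M.subtype y ∈ (⁅E.subgroupOf M, E.subgroupOf M⁆).map M.subtype := ⟨y, h1, rfl⟩
  rw [Subgroup.map_commutator, Subgroup.map_subgroupOf_eq_of_le hEM] at h2
  exact h2

/-- a `τ₃(M)`-subgroup of `M` lies in `M'` -/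
theorem le_commutator_of_tau3 (hG : Cfsg.IsMinSimpleOddOrder G) {M X : Subgroup G} (hXM : X ≤ M)
    (hX : ∀ q : ℕ, q.Prime → q ∣ Nat.card ↥X → q ∈ Cfsg.tau3 M) : X ≤ ⁅M, M⁆ := by
  rw [← Subgroup.map_subtype_commutator]
  suffices h : X.subgroupOf M ≤ _root_.commutator ↥M by
    intro x hx
    exact ⟨⟨x, hXM hx⟩, h (Subgroup.mem_subgroupOf.mpr hx), rfl⟩
  rw [← Subgroup.relIndex_eq_one]
  by_contra hne
  obtain ⟨q, hq, hdvd⟩ := Nat.exists_prime_and_dvd hne
  haveI : Fact q.Prime := ⟨hq⟩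
  have hqX : q ∣ Nat.card ↥X := by
    have h1 := hdvd.trans (Subgroup.relIndex_dvd_card _ _)
    rwa [card_subgroupOf_of_le hXM] at h1
  obtain ⟨-, -, hqC, hr⟩ := hX q hq hqX
  have hidx : q ∣ (_root_.commutator ↥M).index :=
    hdvd.trans (Subgroup.relIndex_dvd_index_of_normal _ _)
  have hcard : q ∣ Nat.card ↥(_root_.commutator ↥M) := by
    have h1 : Nat.card ↥⁅M, M⁆ = Nat.card ↥(_root_.commutator ↥M) := by
      rw [← Subgroup.map_subtype_commutator, Subgroup.card_map_of_injective M.subtype_injective]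
    rw [← h1]
    exact hqC
  have hq2 : q ≠ 2 := by
    rintro rfl
    exact (odd_card_subgroup hG X).not_two_dvd_nat hqX
  obtain ⟨Q⟩ : Nonempty (Sylow q ↥M) := inferInstance
  haveI : IsCyclic ↥(Q : Subgroup ↥M) :=
    isCyclic_of_pRankLE_one hq2 Q.isPGroup'
      (Cfsg.Agent.Lib.Helper4.Rank2Fit.pRankLE_of_injective (Q : Subgroup ↥M).subtype
        (Subgroup.subtype_injective _) hr)
  rcases Sylow.not_dvd_card_commutator_or_not_dvd_index_commutator Q with h | h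
  · exact h hcard
  · exact h hidx

/-- a subgroup of `M` all of whose prime divisors `p` have `r_p(M) ≤ 1` is a Z-group -/
theorem isZGroup_of_le (hG : Cfsg.IsMinSimpleOddOrder G) {M X : Subgroup G} (hXM : X ≤ M)
    (hX : ∀ q : ℕ, q.Prime → q ∣ Nat.card ↥X → Cfsg.PRankLE q 1 ↥M) : IsZGroup ↥X := by
  apply isZGroup_of_pRankLE_one (odd_card_subgroup hG X)
  intro p hp hdvd
  exact Cfsg.Agent.Lib.Helper4.Rank2Fit.pRankLE_of_injective (Subgroup.inclusion hXM)
    (Subgroup.inclusion_injective hXM) (hX p hp hdvd)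

/-- **B&G Lemma 12.1** (the statement of S1415), conditionally on the statement of S1403 -/
theorem sigma_compl_structure (hG : Cfsg.IsMinSimpleOddOrder G) (hU : UniqThm G)
    (M : Subgroup G) (hM : IsCoatom M) (E : Subgroup G)
    (hE : Cfsg.IsComplIn E (Cfsg.sigmaCore M) M) :
    Group.IsNilpotent ↥⁅E, E⁆ ∧
      (∀ E₁ : Subgroup G, Cfsg.IsPiHallOf (Cfsg.tau1 M) E₁ E → IsCyclic E₁) ∧
      ∀ E₃ : Subgroup G, Cfsg.IsPiHallOf (Cfsg.tau3 M) E₃ E →
        IsCyclic E₃ ∧ E₃ ≤ ⁅E, E⁆ ∧ E ≤ Subgroup.normalizer (E₃ : Set G) := by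
  have hnil : Group.IsNilpotent ↥⁅E, E⁆ := commutator_compl_nilpotent hG hU hM hE
  have hEE : ⁅E, E⁆ ≤ E := Subgroup.commutator_le_self E
  refine ⟨hnil, ?_, ?_⟩
  · rintro E₁ ⟨hE₁E, hE₁τ, -⟩
    have hE₁M : E₁ ≤ M := hE₁E.trans hE.1
    haveI hZ : IsZGroup ↥E₁ := isZGroup_of_le hG hE₁M (fun q hq hdvd => (hE₁τ q hq hdvd).2.2.2.2)
    have hdisj : E₁ ⊓ ⁅E, E⁆ = ⊥ := by
      rw [← disjoint_iff]
      apply Subgroup.disjoint_of_coprime_natCard
      apply Nat.coprime_of_dvd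
      intro k hk h1 h2
      obtain ⟨-, -, -, hnd, -⟩ := hE₁τ k hk h1
      exact hnd (h2.trans (Subgroup.card_dvd_of_le (Subgroup.commutator_mono hE.1 hE.1)))
    have hcomm : ∀ a b : ↥E₁, a * b = b * a := by
      intro a b
      have h1 : ⁅(a : G), (b : G)⁆ ∈ E₁ ⊓ ⁅E, E⁆ := by
        refine ⟨?_, Subgroup.commutator_mem_commutator (hE₁E a.2) (hE₁E b.2)⟩
        rw [commutatorElement_def]
        exact E₁.mul_mem (E₁.mul_mem (E₁.mul_mem a.2 b.2) (E₁.inv_mem a.2)) (E₁.inv_mem b.2)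
      rw [hdisj, Subgroup.mem_bot, commutatorElement_eq_one_iff_mul_comm] at h1
      exact Subtype.ext h1
    haveI : Group.IsNilpotent ↥E₁ := by
      refine ⟨⟨1, ?_⟩⟩
      rw [Subgroup.upperCentralSeries_one, Subgroup.eq_top_iff']
      intro a
      rw [Subgroup.mem_center_iff]
      intro b
      exact hcomm b a
    exact inferInstance
  · rintro E₃ ⟨hE₃E, hE₃τ, hE₃idx⟩
    have hE₃M : E₃ ≤ M := hE₃E.trans hE.1
    have h1 : E₃ ≤ ⁅M, M⁆ := le_commutator_of_tau3 hG hE₃M hE₃τ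
    have h2 : E₃ ≤ ⁅E, E⁆ := (le_inf hE₃E h1).trans (inf_commutator_le M E hE)
    haveI hZ : IsZGroup ↥E₃ := isZGroup_of_le hG hE₃M (fun q hq hdvd => (hE₃τ q hq hdvd).2.2.2)
    haveI : Group.IsNilpotent ↥E₃ := by
      haveI := hnil
      exact Group.nilpotent_of_mulEquiv (Subgroup.subgroupOfEquivOfLe h2)
    refine ⟨inferInstance, h2, ?_⟩
    have key : ∀ e ∈ E, ∀ x ∈ E₃, e * x * e⁻¹ ∈ E₃ := by
      intro e he
      have hcjle : Helper8.BGTen.cj e E₃ ≤ ⁅E, E⁆ := by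
        rintro _ ⟨x, hx, rfl⟩
        have hxC := h2 hx
        have h3 : (MulAut.conj e).toMonoidHom x = ⁅e, x⁆ * x := by
          simp [commutatorElement_def]
        rw [h3]
        exact (⁅E, E⁆).mul_mem (Subgroup.commutator_mem_commutator he (hEE hxC)) hxC
      have hidx2 : ∀ p : ℕ, p.Prime → p ∈ Cfsg.tau3 M → ¬ p ∣ (E₃.subgroupOf ⁅E, E⁆).index := by
        intro p hp hpτ hd
        apply hE₃idx p hp hpτ
        exact hd.trans (Dvd.intro _ (Subgroup.relIndex_mul_relIndex E₃ ⁅E, E⁆ E h2 hEE))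
      have hc : Nat.card ↥((Helper8.BGTen.cj e E₃).subgroupOf ⁅E, E⁆) = Nat.card ↥(E₃.subgroupOf ⁅E, E⁆) := by
        rw [card_subgroupOf_of_le hcjle, card_subgroupOf_of_le h2, Helper8.BGTen.card_cj]
      have hi : ((Helper8.BGTen.cj e E₃).subgroupOf ⁅E, E⁆).index = (E₃.subgroupOf ⁅E, E⁆).index := by
        have e1 := ((Helper8.BGTen.cj e E₃).subgroupOf ⁅E, E⁆).card_mul_index
        have e2 := (E₃.subgroupOf ⁅E, E⁆).card_mul_index
        rw [hc, ← e2] at e1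
        exact Nat.eq_of_mul_eq_mul_left Nat.card_pos e1
      have hle : (Helper8.BGTen.cj e E₃).subgroupOf ⁅E, E⁆ ≤ E₃.subgroupOf ⁅E, E⁆ := by
        haveI := hnil
        apply le_of_hall_nilpotent
        intro p hp hdvd
        rw [card_subgroupOf_of_le hcjle, Helper8.BGTen.card_cj] at hdvd
        have hpτ := hE₃τ p hp hdvd
        refine ⟨?_, hidx2 p hp hpτ⟩
        rw [hi]
        exact hidx2 p hp hpτ
      intro x hx
      have hx' : e * x * e⁻¹ ∈ Helper8.BGTen.cj e E₃ := conj_mem_cj hx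
      have h4 : (⟨e * x * e⁻¹, hcjle hx'⟩ : ↥⁅E, E⁆) ∈ (Helper8.BGTen.cj e E₃).subgroupOf ⁅E, E⁆ :=
        Subgroup.mem_subgroupOf.mpr hx'
      exact Subgroup.mem_subgroupOf.mp (hle h4)
    intro e he
    rw [Subgroup.mem_normalizer_iff]
    intro x
    constructor
    · exact key e he x
    · intro hx
      have h5 := key e⁻¹ (E.inv_mem he) _ hx
      have e3 : e⁻¹ * (e * x * e⁻¹) * e⁻¹⁻¹ = x := by group
      rwa [e3] at h5

end Cfsg.Agent.Lib.Helper5.BGTwelve
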