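import Mathlib

set_option autoImplicit false

namespace Cfsg.Agent.Lib.Helper5.FreeCount

open Equiv.Perm in
/-- **Frobenius**: the number of solutions of `g ^ p = 1` is divisible by `p` when `p ∣ |G|` -/
theorem dvd_card_pow_eq_one {G : Type*} [Group G] [Fintype G] (p : ℕ) [hp : Fact p.Prime]
    (hdvd : p ∣ Fintype.card G) : p ∣ Nat.card {g : G // g ^ p = 1} := by
  classical
  have hp' : p - 1 ≠ 0 := mt tsub_eq_zero_iff_le.mp (not_le_of_gt hp.out.one_lt)
  have Scard : p ∣ Fintype.card (vectorsProdEqOne G p) := by
    rw [VectorsProdEqOne.card]
    exact hdvd.trans (dvd_pow_self _ hp')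
  let f : Function.End (vectorsProdEqOne G p) := fun v => VectorsProdEqOne.rotate v 1
  have hfk : ∀ k v, (f ^ k) v = VectorsProdEqOne.rotate v k := by
    intro k
    induction k with
    | zero =>
      intro v
      rw [pow_zero, VectorsProdEqOne.rotate_zero]
      rfl
    | succ k ih =>
      intro v
      rw [pow_succ]
      change (f ^ k) (f v) = _
      rw [ih]
      change VectorsProdEqOne.rotate (VectorsProdEqOne.rotate v 1) k = _
      rw [VectorsProdEqOne.rotate_rotate, add_comm]
  have hf : f ^ p ^ 1 = 1 := by
    funext v
    rw [pow_one, hfk, VectorsProdEqOne.rotate_length]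
    rfl
  have hmod := card_fixedPoints_modEq (f := f) (p := p) (n := 1) hf
  have hfix : p ∣ Fintype.card (Function.fixedPoints f) := by
    have := (Nat.modEq_zero_iff_dvd.2 Scard).symm.trans hmod
    exact Nat.modEq_zero_iff_dvd.1 this.symm
  let ψ : {g : G // g ^ p = 1} → Function.fixedPoints f := fun g =>
    ⟨⟨List.Vector.replicate p g.1, by
      rw [VectorsProdEqOne.mem_iff]
      change (List.replicate p g.1).prod = 1
      rw [List.prod_replicate, g.2]⟩, by
      apply Subtype.ext
      apply Subtype.ext
      exact List.rotate_replicate g.1 p 1⟩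
  have hψ : Function.Bijective ψ := by
    constructor
    · intro g g' hgg
      have h1 : List.replicate p g.1 = List.replicate p g'.1 :=
        congrArg (fun v : Function.fixedPoints f => v.1.1.1) hgg
      apply Subtype.ext
      have hpos : 0 < p := hp.out.pos
      have := congrArg (fun l : List G => l[0]?) h1
      simpa [List.getElem?_replicate, hpos] using this
    · intro v
      have hv : v.1.1.1.rotate 1 = v.1.1.1 :=
        congrArg (fun w : vectorsProdEqOne G p => w.1.1) v.2
      have : Nonempty G := ⟨1⟩
      obtain ⟨g, hg⟩ := List.rotate_one_eq_self_iff_eq_replicate.mp hv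
      rw [v.1.1.2] at hg
      have hgp : g ^ p = 1 := by
        have := v.1.2
        rw [VectorsProdEqOne.mem_iff] at this
        change v.1.1.1.prod = 1 at this
        rw [hg, List.prod_replicate] at this
        exact this
      refine ⟨⟨g, hgp⟩, ?_⟩
      apply Subtype.ext
      apply Subtype.ext
      apply Subtype.ext
      exact hg.symm
  rw [Nat.card_congr (Equiv.ofBijective ψ hψ), Nat.card_eq_fintype_card]
  exact hfix

/-- an invariant set on which a finite group acts freely has cardinality divisible by the group
order -/
theorem card_dvd_of_free {H α : Type*} [Group H] [Finite H] [MulAction H α] :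
    ∀ (k : ℕ) (T : Finset α), T.card = k → (∀ h : H, ∀ x ∈ T, h • x ∈ T) →
      (∀ h : H, ∀ x ∈ T, h • x = x → h = 1) → Nat.card H ∣ T.card := by
  classical
  have := Fintype.ofFinite H
  intro k
  induction k using Nat.strong_induction_on with
  | _ k ih =>
    intro T hk hinv hfree
    by_cases hT : T = ∅
    · rw [hT, Finset.card_empty]
      exact dvd_zero _
    obtain ⟨x, hx⟩ := Finset.nonempty_iff_ne_empty.2 hT
    let O : Finset α := Finset.univ.image (fun h : H => h • x)
    have hO : O ⊆ T := by
      intro y hy
      rw [Finset.mem_image] at hy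
      obtain ⟨h, -, rfl⟩ := hy
      exact hinv h x hx
    have hOcard : O.card = Nat.card H := by
      rw [Finset.card_image_of_injective, Finset.card_univ, Nat.card_eq_fintype_card]
      intro h h' hh
      have h1 : (h'⁻¹ * h) • x = x := by
        rw [mul_smul]
        change h • x = h' • x at hh
        rw [hh, inv_smul_smul]
      have := hfree _ x hx h1
      calc h = h' * (h'⁻¹ * h) := by group
        _ = h' := by rw [this, mul_one]
    have hsplit : T.card = O.card + (T \ O).card := by
      rw [Finset.card_sdiff_of_subset hO]
      have := Finset.card_le_card hO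
      omega
    have hlt : (T \ O).card < k := by
      have : 0 < O.card := by
        rw [hOcard]
        exact Nat.card_pos
      omega
    have hrec := ih _ hlt (T \ O) rfl (by
      intro h y hy
      rw [Finset.mem_sdiff] at hy ⊢
      refine ⟨hinv h y hy.1, ?_⟩
      intro hcon
      apply hy.2
      rw [Finset.mem_image] at hcon ⊢
      obtain ⟨h', -, hh'⟩ := hcon
      refine ⟨h⁻¹ * h', Finset.mem_univ _, ?_⟩
      rw [mul_smul, hh', inv_smul_smul]) (by
      intro h y hy
      rw [Finset.mem_sdiff] at hy
      exact hfree h y hy.1)
    rw [hsplit, hOcard]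
    exact dvd_add (dvd_refl _) hrec

end Cfsg.Agent.Lib.Helper5.FreeCount
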