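import Mathlib
import Cfsg.Agent.Lib.Lead.Conj
import Cfsg.Agent.Lib.Helper7.SylowLib

/-!
# Burnside's fusion lemma for elements centralized by a Sylow subgroup

If `t` and a conjugate `g t g⁻¹` are both centralized by the Sylow `p`-subgroup `S`
(for instance both lie in `Z(S)`), then they are already conjugate under `N_G(S)`.
-/

set_option autoImplicit false

namespace Cfsg.Agent.Lib.Helper5.BurnsideCenter

open Cfsg.Agent.Lib.Lead.Conj Cfsg.Agent.Lib.Helper7

variable {G : Type*} [Group G]

/-- Burnside: two `G`-conjugate elements centralized by a Sylow `p`-subgroup `S` are conjugate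
under the normalizer of `S`. -/
theorem burnside_fusion_central [Finite G] {p : ℕ} [Fact p.Prime] (S : Sylow p G) {t g : G}
    (ht : ∀ s ∈ (S : Subgroup G), s * t = t * s)
    (hu : ∀ s ∈ (S : Subgroup G), s * (g * t * g⁻¹) = (g * t * g⁻¹) * s) :
    ∃ n ∈ Subgroup.normalizer ((S : Subgroup G) : Set G), n * t * n⁻¹ = g * t * g⁻¹ := by
  set u := g * t * g⁻¹ with hudef
  set C := Subgroup.centralizer ({u} : Set G) with hC
  have h1 : (S : Subgroup G) ≤ C := by
    intro s hs
    rw [hC, Subgroup.mem_centralizer_singleton_iff]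
    exact hu s hs
  have h2 : (S : Subgroup G).map (MulAut.conj g).toMonoidHom ≤ C := by
    intro x hx
    rw [mem_map_conj] at hx
    rw [hC, Subgroup.mem_centralizer_singleton_iff]
    have := ht _ hx
    calc x * u = g * ((g⁻¹ * x * g) * t) * g⁻¹ := by rw [hudef]; group
      _ = g * (t * (g⁻¹ * x * g)) * g⁻¹ := by rw [this]
      _ = u * x := by rw [hudef]; group
  have hS1 : IsSylowIn p (S : Subgroup G) C := IsSylowIn.of_sylow_le S h1
  have hS2 : IsSylowIn p ((S : Subgroup G).map (MulAut.conj g).toMonoidHom) C := by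
    refine ⟨h2, ?_⟩
    rw [card_map_conj]
    exact hS1.2
  obtain ⟨c, hc, hcS⟩ := hS2.conj hS1
  refine ⟨c * g, ?_, ?_⟩
  · apply mem_normalizer_of_conj_mem
    intro r hr
    rw [hcS, mem_map_conj, mem_map_conj]
    have : g⁻¹ * (c⁻¹ * (c * g * r * (c * g)⁻¹) * c) * g = r := by group
    rw [this]; exact hr
  · rw [hC, Subgroup.mem_centralizer_singleton_iff] at hc
    calc c * g * t * (c * g)⁻¹ = c * u * c⁻¹ := by rw [hudef]; group
      _ = u * c * c⁻¹ := by rw [hc]
      _ = u := by group

end Cfsg.Agent.Lib.Helper5.BurnsideCenter
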