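import Mathlib

/-!
# S4140 piece C, part 1: invariant Sylow subgroups under a normalizing `q`-group (helper5)
-/

set_option autoImplicit false
set_option linter.style.haveILetI false
set_option linter.unusedSectionVars false
set_option linter.unusedVariables false

namespace Cfsg.Agent.Lib.Helper5.Cam

open scoped Pointwise

variable {G : Type*} [Group G]

/-- conjugation action of `Q` on `S` when `Q` normalizes `S`. -/
@[reducible] def conjMDMA (Q S : Subgroup G) (h : Q ≤ Subgroup.normalizer (S : Set G)) :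
    MulDistribMulAction Q S where
  smul x s := ⟨(x : G) * s * (x : G)⁻¹, (Subgroup.mem_normalizer_iff.mp (h x.2) s).mp s.2⟩
  one_smul s := by
    apply Subtype.ext
    show ((1 : Q) : G) * s * ((1 : Q) : G)⁻¹ = s
    simp
  mul_smul x y s := by
    apply Subtype.ext
    show ((x * y : Q) : G) * s * ((x * y : Q) : G)⁻¹ = (x : G) * ((y : G) * s * (y : G)⁻¹) * (x : G)⁻¹
    simp [mul_assoc]
  smul_mul x s t := by
    apply Subtype.ext
    show (x : G) * ((s * t : S) : G) * (x : G)⁻¹
      = ((x : G) * s * (x : G)⁻¹) * ((x : G) * t * (x : G)⁻¹)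
    simp [mul_assoc]
  smul_one x := by
    apply Subtype.ext
    show (x : G) * ((1 : S) : G) * (x : G)⁻¹ = 1
    simp

/-- (L) A `q`-group `Q` normalizing a finite subgroup `S` of order prime to `q` normalizes some
Sylow `s`-subgroup of `S`. -/
theorem exists_invariant_sylow [Finite G] (q s : ℕ) [Fact q.Prime] [Fact s.Prime]
    (Q S : Subgroup G) (hQ : IsPGroup q Q) (h : Q ≤ Subgroup.normalizer (S : Set G))
    (hS : (Nat.card S).Coprime q) :
    ∃ R : Sylow s S, ∀ x ∈ Q, ∀ y : G, y ∈ (R : Subgroup S).map S.subtype →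
      x * y * x⁻¹ ∈ (R : Subgroup S).map S.subtype := by
  letI := conjMDMA Q S h
  have hcard : ¬ q ∣ Nat.card (Sylow s S) := by
    intro hdvd
    obtain ⟨R0⟩ : Nonempty (Sylow s S) := inferInstance
    have h1 : Nat.card (Sylow s S) ∣ Nat.card S :=
      (Sylow.card_dvd_index R0).trans (Subgroup.index_dvd_card _)
    have h2 : q ∣ Nat.card S := hdvd.trans h1
    have h3 := Nat.Coprime.eq_one_of_dvd hS.symm h2
    exact (Fact.out : q.Prime).one_lt.ne' h3
  obtain ⟨R, hR⟩ := hQ.nonempty_fixed_point_of_prime_not_dvd_card (Sylow s S) hcard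
  refine ⟨R, ?_⟩
  intro x hx y hy
  obtain ⟨y', hy', rfl⟩ := Subgroup.mem_map.mp hy
  have h1 : (⟨x, hx⟩ : Q) • R = R := hR ⟨x, hx⟩
  have h2 : (⟨x, hx⟩ : Q) • y' ∈ ((⟨x, hx⟩ : Q) • R : Sylow s S) := by
    rw [← SetLike.mem_coe, ← Sylow.coe_coe, Sylow.pointwise_smul_def]
    exact Subgroup.smul_mem_pointwise_smul y' _ _ hy'
  rw [h1] at h2
  exact Subgroup.mem_map.mpr ⟨_, h2, rfl⟩

end Cfsg.Agent.Lib.Helper5.Cam
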