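import Mathlib
import Cfsg.Agent.Lib.Helper8.CamDefs
import Cfsg.Agent.Lib.Helper8.CamA
import Cfsg.Agent.S0033
import Cfsg.Agent.Lib.Helper5.CamC1

/-!
# S4140 piece C: an invariant abelian `q'`-subgroup centralized by `N ⊓ Q` (helper5)
-/

set_option autoImplicit false
set_option linter.style.haveILetI false
set_option linter.unusedSectionVars false
set_option linter.unusedVariables false

namespace Cfsg.Agent.Lib.Helper5.Cam

open Cfsg.Agent.Lib.Helper8.Cam

variable {G : Type*} [Group G]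

/-- membership from a power and coprimality -/
theorem mem_of_pow_mem_of_coprime {H : Subgroup G} {x : G} {n : ℕ} (h : x ^ n ∈ H)
    (hc : n.Coprime (orderOf x)) : x ∈ H := by
  obtain ⟨m, hm⟩ := exists_pow_eq_self_of_coprime hc
  rw [← hm]
  exact H.pow_mem h m

/-- an element whose order divides two coprime numbers is trivial -/
theorem eq_one_of_pow_of_pow {x : G} {a b : ℕ} (ha : x ^ a = 1) (hb : x ^ b = 1)
    (hab : a.Coprime b) : x = 1 := by
  have h1 : orderOf x ∣ a := orderOf_dvd_of_pow_eq_one ha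
  have h2 : orderOf x ∣ b := orderOf_dvd_of_pow_eq_one hb
  have h3 : orderOf x ∣ 1 := by
    have := Nat.dvd_gcd h1 h2
    rwa [hab] at this
  exact orderOf_eq_one_iff.mp (Nat.dvd_one.mp h3)

/-- if `x` normalizes `A` and `B` then it normalizes `A ⊓ C(B)` -/
theorem mem_normalizer_inf_centralizer {A B : Subgroup G} {x : G}
    (hA : x ∈ Subgroup.normalizer (A : Set G)) (hB : x ∈ Subgroup.normalizer (B : Set G)) :
    x ∈ Subgroup.normalizer ((A ⊓ Subgroup.centralizer (B : Set G) : Subgroup G) : Set G) := by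
  have key : ∀ z : G, z ∈ Subgroup.normalizer (A : Set G) → z ∈ Subgroup.normalizer (B : Set G) →
      ∀ y, y ∈ A ⊓ Subgroup.centralizer (B : Set G) →
        z * y * z⁻¹ ∈ A ⊓ Subgroup.centralizer (B : Set G) := by
    intro z hzA hzB y hy
    refine Subgroup.mem_inf.mpr ⟨(Subgroup.mem_normalizer_iff.mp hzA y).mp hy.1, ?_⟩
    rw [Subgroup.mem_centralizer_iff]
    intro b hb
    have hb' : z⁻¹ * b * z ∈ B := by
      have := (Subgroup.mem_normalizer_iff''.mp hzB b).mp hb
      exact this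
    have hcomm := (Subgroup.mem_centralizer_iff.mp hy.2) (z⁻¹ * b * z) hb'
    calc b * (z * y * z⁻¹) = z * ((z⁻¹ * b * z) * y) * z⁻¹ := by group
      _ = z * (y * (z⁻¹ * b * z)) * z⁻¹ := by rw [hcomm]
      _ = z * y * z⁻¹ * b := by group
  rw [Subgroup.mem_normalizer_iff]
  intro y
  constructor
  · intro hy
    exact key x hA hB y hy
  · intro hy
    have hxi : x⁻¹ ∈ Subgroup.normalizer (A : Set G) := Subgroup.inv_mem _ hA
    have hxi' : x⁻¹ ∈ Subgroup.normalizer (B : Set G) := Subgroup.inv_mem _ hB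
    have := key x⁻¹ hxi hxi' _ hy
    have e : x⁻¹ * (x * y * x⁻¹) * x⁻¹⁻¹ = y := by group
    rwa [e] at this

/-- (C3) abelianize -/
theorem abelianize [Finite G] (N : Subgroup G) (q : ℕ) [Fact q.Prime] (Q : Sylow q G)
    (S₁ : Subgroup G) (h1 : S₁ ≠ ⊥) (hSN : S₁ ≤ N) (hSq : (Nat.card S₁).Coprime q)
    (hQS : (Q : Subgroup G) ≤ Subgroup.normalizer (S₁ : Set G))
    (hcent : N ⊓ (Q : Subgroup G) ≤ Subgroup.centralizer (S₁ : Set G)) :
    ∃ V : Subgroup G, V ≠ ⊥ ∧ V ≤ N ∧ IsMulCommutative V ∧ (Nat.card V).Coprime q ∧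
      (Q : Subgroup G) ≤ Subgroup.normalizer (V : Set G) ∧
      N ⊓ (Q : Subgroup G) ≤ Subgroup.centralizer (V : Set G) := by
  have hcard : Nat.card S₁ ≠ 1 := by
    intro h; exact h1 (Subgroup.card_eq_one.mp h)
  obtain ⟨s, hs, hsdvd⟩ := Nat.exists_prime_and_dvd hcard
  haveI : Fact s.Prime := ⟨hs⟩
  obtain ⟨R, hR⟩ := exists_invariant_sylow q s (Q : Subgroup G) S₁ Q.isPGroup' hQS hSq
  set S₂ : Subgroup G := (R : Subgroup S₁).map S₁.subtype with hS₂
  have hS₂le : S₂ ≤ S₁ := Subgroup.map_subtype_le _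
  have hS₂p : IsPGroup s S₂ := R.isPGroup'.map _
  have hS₂ne : S₂ ≠ ⊥ := by
    intro h
    have := (Subgroup.map_eq_bot_iff_of_injective _ S₁.subtype_injective).mp h
    exact R.ne_bot_of_dvd_card hsdvd this
  have hQS₂ : (Q : Subgroup G) ≤ Subgroup.normalizer (S₂ : Set G) := by
    intro x hx
    rw [Subgroup.mem_normalizer_iff]
    intro y
    constructor
    · exact hR x hx y
    · intro hy
      have := hR x⁻¹ (inv_mem hx) _ hy
      have e : x⁻¹ * (x * y * x⁻¹) * x⁻¹⁻¹ = y := by group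
      rwa [e] at this
  refine ⟨S₂ ⊓ Subgroup.centralizer (S₂ : Set G), ?_, ?_, ?_, ?_, ?_, ?_⟩
  · haveI : Nontrivial S₂ := (Subgroup.nontrivial_iff_ne_bot S₂).mpr hS₂ne
    haveI : Nontrivial (Subgroup.center S₂) := hS₂p.center_nontrivial
    obtain ⟨z, hz⟩ := exists_ne (1 : Subgroup.center S₂)
    intro hbot
    apply hz
    have hmem : ((z : S₂) : G) ∈ S₂ ⊓ Subgroup.centralizer (S₂ : Set G) := by
      refine Subgroup.mem_inf.mpr ⟨(z : S₂).2, ?_⟩
      rw [Subgroup.mem_centralizer_iff]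
      intro b hb
      have := Subgroup.mem_center_iff.mp z.2 ⟨b, hb⟩
      exact congrArg Subtype.val this
    rw [hbot, Subgroup.mem_bot] at hmem
    apply Subtype.ext
    apply Subtype.ext
    exact hmem
  · exact inf_le_left.trans (hS₂le.trans hSN)
  · refine ⟨⟨fun a b => ?_⟩⟩
    apply Subtype.ext
    have ha := Subgroup.mem_inf.mp a.2
    have hb := Subgroup.mem_inf.mp b.2
    exact ((Subgroup.mem_centralizer_iff.mp hb.2) a ha.1)
  · exact Nat.Coprime.coprime_dvd_left (Subgroup.card_dvd_of_le (inf_le_left.trans hS₂le)) hSq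
  · intro x hx
    exact mem_normalizer_inf_centralizer (hQS₂ hx) (hQS₂ hx)
  · exact hcent.trans (Subgroup.centralizer_le (inf_le_left.trans hS₂le))

theorem card_eq_relIndex_mul [Finite G] {M N : Subgroup G} (h : M ≤ N) :
    Nat.card N = M.relIndex N * Nat.card M := by
  have h1 := Subgroup.card_mul_index (M.subgroupOf N)
  have h2 : Nat.card (M.subgroupOf N) = Nat.card M :=
    Nat.card_congr (Subgroup.subgroupOfEquivOfLe h).toEquiv
  rw [h2] at h1
  rw [← h1, mul_comm]
  rfl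

/-- the commutator of `x` and `y` is trivial when it lies in an `r`-group and in a group of
order prime to `r` -/
theorem commute_of_comm_mem [Finite G] {r : ℕ} {R M : Subgroup G} (hR : IsPGroup r R)
    (hM : (Nat.card M).Coprime r) {x y : G} (h1 : x * y * x⁻¹ * y⁻¹ ∈ R)
    (h2 : x * y * x⁻¹ * y⁻¹ ∈ M) : x * y = y * x := by
  have hone : x * y * x⁻¹ * y⁻¹ = 1 := by
    obtain ⟨j, hj⟩ := hR ⟨_, h1⟩
    have e1 : (x * y * x⁻¹ * y⁻¹) ^ (r ^ j) = 1 := by
      have := congrArg Subtype.val hj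
      simpa using this
    have e2 : (x * y * x⁻¹ * y⁻¹) ^ (Nat.card M) = 1 := by
      have h3 : (⟨_, h2⟩ : M) ^ Nat.card M = 1 := pow_card_eq_one'
      have h4 := congrArg Subtype.val h3
      rw [Subgroup.coe_pow, Subgroup.coe_one] at h4
      exact h4
    exact eq_one_of_pow_of_pow e1 e2 (Nat.Coprime.pow_left j hM.symm)
  calc x * y = (x * y * x⁻¹ * y⁻¹) * (y * x) := by group
    _ = y * x := by rw [hone, one_mul]

end Cfsg.Agent.Lib.Helper5.Cam
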