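import Mathlib
import Cfsg.Agent.Lib.Helper8.CamDefs
import Cfsg.Agent.Lib.Helper8.CamA
import Cfsg.Agent.S0033
import Cfsg.Agent.Lib.Helper5.CamC1
import Cfsg.Agent.Lib.Helper5.CamC2

/-!
# S4140 piece C: `exists_invariant_abelian`, with (B) as a hypothesis (helper5)
-/

set_option autoImplicit false
set_option linter.style.haveILetI false
set_option linter.unusedSectionVars false
set_option linter.unusedVariables false

namespace Cfsg.Agent.Lib.Helper5.Cam

open Cfsg.Agent.Lib.Helper8.Cam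

variable {G : Type*} [Group G] [Finite G] (N : Subgroup G) [N.Normal]

/-- a second prime dividing a number that is not a prime power -/
theorem exists_other_prime {n q : ℕ} (hq : q.Prime) (hn0 : n ≠ 0) (hqn : q ∣ n)
    (hn : ¬ IsPrimePow n) : ∃ r : ℕ, r.Prime ∧ r ∣ n ∧ r ≠ q := by
  by_contra hcon
  push Not at hcon
  have := Nat.eq_prime_pow_of_unique_prime_dvd hn0 (fun {d} hd hdvd => hcon d hd hdvd)
  apply hn
  rw [isPrimePow_nat_iff]
  refine ⟨q, n.primeFactorsList.length, hq, ?_, this.symm⟩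
  by_contra h0
  have h0' : n.primeFactorsList.length = 0 := by omega
  rw [h0', pow_zero] at this
  rw [this] at hqn
  exact hq.one_lt.ne' (Nat.dvd_one.mp hqn)

/-- `Q` normalizes `N ⊓ Q`. -/
theorem le_normalizer_inf (Q : Subgroup G) :
    Q ≤ Subgroup.normalizer ((N ⊓ Q : Subgroup G) : Set G) := by
  intro x hx
  rw [Subgroup.mem_normalizer_iff]
  intro y
  constructor
  · intro hy
    obtain ⟨hyN, hyQ⟩ := Subgroup.mem_inf.mp hy
    exact Subgroup.mem_inf.mpr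
      ⟨‹N.Normal›.conj_mem y hyN x, mul_mem (mul_mem hx hyQ) (inv_mem hx)⟩
  · intro hy
    obtain ⟨hyN, hyQ⟩ := Subgroup.mem_inf.mp hy
    refine Subgroup.mem_inf.mpr ⟨?_, ?_⟩
    · have := ‹N.Normal›.conj_mem _ hyN x⁻¹
      have e : x⁻¹ * (x * y * x⁻¹) * x⁻¹⁻¹ = y := by group
      rwa [e] at this
    · have := mul_mem (mul_mem (inv_mem hx) hyQ) hx
      have e : x⁻¹ * (x * y * x⁻¹) * x = y := by group
      rwa [e] at this

/-- Case (C1): `r ∣ |N|`. -/
theorem case_one (q r : ℕ) [Fact q.Prime] [Fact r.Prime] (hrq : r ≠ q)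
    (Mq Mr : Subgroup G) [Mq.Normal] [Mr.Normal] (hMqN : Mq ≤ N) (hMrN : Mr ≤ N)
    (hMqc : (Nat.card Mq).Coprime q) (hMrc : (Nat.card Mr).Coprime r)
    (kq kr : ℕ) (hkq : Mq.relIndex N = q ^ kq) (hkr : Mr.relIndex N = r ^ kr)
    (hrN : r ∣ Nat.card N) (Q₀ : Subgroup G) (hQ₀N : Q₀ ≤ N) (hQ₀p : IsPGroup q Q₀) :
    Mq ⊓ Subgroup.centralizer (Q₀ : Set G) ≠ ⊥ := by
  have hq := (Fact.out : q.Prime)
  have hr := (Fact.out : r.Prime)
  have hcardN : Nat.card N = q ^ kq * Nat.card Mq := by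
    rw [← hkq]; exact card_eq_relIndex_mul hMqN
  have hQ₀norm : Q₀ ≤ Subgroup.normalizer (Mq : Set G) := by
    rw [Subgroup.normalizer_eq_top]; exact le_top
  obtain ⟨R, hR⟩ := exists_invariant_sylow q r Q₀ Mq hQ₀p hQ₀norm hMqc
  set R' : Subgroup G := (R : Subgroup Mq).map Mq.subtype with hR'
  have hrMq : r ∣ Nat.card Mq := by
    rw [hcardN] at hrN
    exact Nat.Coprime.dvd_of_dvd_mul_left
      (Nat.Coprime.pow_right kq ((Nat.coprime_primes hr hq).mpr hrq)) hrN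
  have hR'ne : R' ≠ ⊥ := by
    intro h
    have := (Subgroup.map_eq_bot_iff_of_injective _ Mq.subtype_injective).mp h
    exact R.ne_bot_of_dvd_card hrMq this
  have hR'p : IsPGroup r R' := R.isPGroup'.map _
  have hR'le : R' ≤ Mq := Subgroup.map_subtype_le _
  have hQ₀Mr : Q₀ ≤ Mr := by
    intro x hx
    obtain ⟨j, hj⟩ := (IsPGroup.iff_orderOf.mp hQ₀p) ⟨x, hx⟩
    have hox : orderOf x = q ^ j := by
      rw [← hj]; exact (Subgroup.orderOf_mk x hx).symm
    have hpow : x ^ (r ^ kr) ∈ Mr := by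
      rw [← hkr]
      exact Subgroup.pow_relIndex_mem Mr (hQ₀N hx)
    apply mem_of_pow_mem_of_coprime hpow
    rw [hox]
    exact Nat.Coprime.pow _ _ ((Nat.coprime_primes hr hq).mpr hrq)
  have hR'cent : R' ≤ Subgroup.centralizer (Q₀ : Set G) := by
    intro y hy
    rw [Subgroup.mem_centralizer_iff]
    intro x hx
    have hc1 : x * y * x⁻¹ * y⁻¹ ∈ R' := mul_mem (hR x hx y hy) (inv_mem hy)
    have hc2 : x * y * x⁻¹ * y⁻¹ ∈ Mr := by
      have h1 : y * x⁻¹ * y⁻¹ ∈ Mr := ‹Mr.Normal›.conj_mem _ (inv_mem (hQ₀Mr hx)) y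
      have := mul_mem (hQ₀Mr hx) h1
      have e : x * (y * x⁻¹ * y⁻¹) = x * y * x⁻¹ * y⁻¹ := by group
      rwa [e] at this
    exact commute_of_comm_mem hR'p hMrc hc1 hc2
  have hle : R' ≤ Mq ⊓ Subgroup.centralizer (Q₀ : Set G) := le_inf hR'le hR'cent
  intro hbot
  rw [hbot] at hle
  exact hR'ne (le_bot_iff.mp hle)

/-- Case (C2), Thompson: `r ∣ |G:N|`, `r ∤ |N|` ⇒ `N` nilpotent. -/
theorem nilpotent_of_not_dvd (hc : IsCam N) (r : ℕ) [Fact r.Prime] (hrI : r ∣ N.index)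
    (hrN : ¬ r ∣ Nat.card N) (hN1 : Nat.card N ≠ 1) : Group.IsNilpotent N := by
  have hr := (Fact.out : r.Prime)
  have hrG : r ∣ Nat.card G := hrI.trans (Subgroup.index_dvd_card N)
  obtain ⟨h, hh⟩ := exists_prime_orderOf_dvd_card' r hrG
  have hhN : h ∉ N := by
    intro hmem
    have h1 : orderOf h ∣ Nat.card N := by
      have := orderOf_dvd_natCard (⟨h, hmem⟩ : N)
      rwa [Subgroup.orderOf_mk] at this
    rw [hh] at h1
    exact hrN h1
  have hNr : (Nat.card N).Coprime r :=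
    Nat.Coprime.symm ((Nat.Prime.coprime_iff_not_dvd hr).mpr hrN)
  have hfix := inf_centralizer_eq_bot N hc (q := r) hhN ⟨1, by rw [hh, pow_one]⟩ N le_rfl hNr
  let φ : MulAut N := MulAut.conjNormal h
  have hfpf : MonoidHom.FixedPointFree ((φ : N ≃* N) : N →* N) := by
    intro n hn
    have h1 : h * (n : G) * h⁻¹ = n := by
      have := congrArg Subtype.val hn
      simpa [φ, MulAut.conjNormal_apply] using this
    have h2 : (n : G) ∈ N ⊓ Subgroup.centralizer ({h} : Set G) := by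
      refine Subgroup.mem_inf.mpr ⟨n.2, ?_⟩
      rw [Subgroup.mem_centralizer_singleton_iff]
      calc (n : G) * h = (h * (n : G) * h⁻¹) * h := by rw [h1]
        _ = h * n := by group
    rw [hfix, Subgroup.mem_bot] at h2
    exact Subtype.ext h2
  have hord : orderOf φ = r := by
    have hpow : φ ^ r = 1 := by
      show (MulAut.conjNormal h : MulAut N) ^ r = 1
      rw [← map_pow, ← hh, _root_.pow_orderOf_eq_one, map_one]
    have hdvd := orderOf_dvd_of_pow_eq_one hpow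
    rcases (Nat.dvd_prime hr).mp hdvd with h1 | h1
    · exfalso
      have hφ1 : φ = 1 := orderOf_eq_one_iff.mp h1
      have hall : ∀ n : N, n = 1 := fun n => hfpf n (by rw [hφ1]; rfl)
      apply hN1
      haveI : Subsingleton N := ⟨fun a b => (hall a).trans (hall b).symm⟩
      exact Nat.card_of_subsingleton (1 : N)
    · exact h1
  exact Cfsg.Agent.S0033.result φ hfpf r hr hord

/-- In a nilpotent `N`, a normal `q'`-subgroup `Mq ≤ N` centralizes every `q`-subgroup of `N`. -/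
theorem le_centralizer_of_nilpotent (hnil : Group.IsNilpotent N) (q : ℕ) [Fact q.Prime]
    (Mq : Subgroup G) [Mq.Normal] (hMqN : Mq ≤ N) (hMqc : (Nat.card Mq).Coprime q)
    (Q₀ : Subgroup G) (hQ₀N : Q₀ ≤ N) (hQ₀p : IsPGroup q Q₀) :
    Mq ≤ Subgroup.centralizer (Q₀ : Set G) := by
  have hQ₀'p : IsPGroup q (Q₀.subgroupOf N) := hQ₀p.comap_subtype
  obtain ⟨Pq, hPq⟩ := hQ₀'p.exists_le_sylow
  haveI : Group.IsNilpotent N := hnil
  have hPqn : (Pq : Subgroup N).Normal := inferInstance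
  intro y hy
  rw [Subgroup.mem_centralizer_iff]
  intro x hx
  have hxN : x ∈ N := hQ₀N hx
  have hyN : y ∈ N := hMqN hy
  have hxP : (⟨x, hxN⟩ : N) ∈ (Pq : Subgroup N) := hPq (Subgroup.mem_subgroupOf.mpr hx)
  have hc1 : (⟨x, hxN⟩ : N) * ⟨y, hyN⟩ * (⟨x, hxN⟩ : N)⁻¹ * (⟨y, hyN⟩ : N)⁻¹
      ∈ (Pq : Subgroup N) := by
    have h1 : (⟨y, hyN⟩ : N) * (⟨x, hxN⟩ : N)⁻¹ * (⟨y, hyN⟩ : N)⁻¹ ∈ (Pq : Subgroup N) :=
      hPqn.conj_mem _ (inv_mem hxP) _
    have := mul_mem hxP h1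
    have e : (⟨x, hxN⟩ : N) * ((⟨y, hyN⟩ : N) * (⟨x, hxN⟩ : N)⁻¹ * (⟨y, hyN⟩ : N)⁻¹)
        = (⟨x, hxN⟩ : N) * ⟨y, hyN⟩ * (⟨x, hxN⟩ : N)⁻¹ * (⟨y, hyN⟩ : N)⁻¹ := by group
    rwa [e] at this
  have hc1' : x * y * x⁻¹ * y⁻¹ ∈ (Pq : Subgroup N).map N.subtype :=
    Subgroup.mem_map.mpr ⟨_, hc1, rfl⟩
  have hc2 : x * y * x⁻¹ * y⁻¹ ∈ Mq :=
    mul_mem (‹Mq.Normal›.conj_mem y hy x) (inv_mem hy)
  exact commute_of_comm_mem (Pq.isPGroup'.map _) hMqc hc1' hc2

/-- **S4140 piece C**, with (B) as a hypothesis. -/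
theorem exists_invariant_abelian_of (hc : IsCam N)
    (hB : ∀ (p : ℕ) [Fact p.Prime], p ∣ N.index →
      ∃ M : Subgroup G, M.Normal ∧ M ≤ N ∧ (Nat.card M).Coprime p ∧
        ∃ k : ℕ, M.relIndex N = p ^ k)
    (q : ℕ) [Fact q.Prime] (hqN : q ∣ Nat.card N)
    (hqI : q ∣ N.index) (hN : ¬ IsPrimePow (Nat.card N)) (hI : ¬ IsPrimePow N.index)
    (Q : Sylow q G) :
    ∃ V : Subgroup G, V ≠ ⊥ ∧ V ≤ N ∧ IsMulCommutative V ∧ (Nat.card V).Coprime q ∧
      (Q : Subgroup G) ≤ Subgroup.normalizer (V : Set G) ∧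
      N ⊓ (Q : Subgroup G) ≤ Subgroup.centralizer (V : Set G) := by
  have hq := (Fact.out : q.Prime)
  obtain ⟨r, hr, hrI, hrq⟩ := exists_other_prime hq Subgroup.index_ne_zero_of_finite hqI hI
  haveI : Fact r.Prime := ⟨hr⟩
  obtain ⟨Mq, hMqn, hMqN, hMqc, kq, hkq⟩ := hB q hqI
  haveI := hMqn
  have hcardN : Nat.card N = q ^ kq * Nat.card Mq := by
    rw [← hkq]; exact card_eq_relIndex_mul hMqN
  have hQ₀p : IsPGroup q (N ⊓ (Q : Subgroup G) : Subgroup G) := Q.isPGroup'.to_le inf_le_right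
  have hQS₁ : (Q : Subgroup G) ≤ Subgroup.normalizer
      ((Mq ⊓ Subgroup.centralizer ((N ⊓ (Q : Subgroup G) : Subgroup G) : Set G) : Subgroup G)
        : Set G) := by
    intro x hx
    apply mem_normalizer_inf_centralizer _ (le_normalizer_inf N (Q : Subgroup G) hx)
    rw [Subgroup.normalizer_eq_top]
    exact Subgroup.mem_top x
  have hS₁N : Mq ⊓ Subgroup.centralizer ((N ⊓ (Q : Subgroup G) : Subgroup G) : Set G) ≤ N :=
    inf_le_left.trans hMqN
  have hS₁q : (Nat.card (Mq ⊓ Subgroup.centralizer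
      ((N ⊓ (Q : Subgroup G) : Subgroup G) : Set G) : Subgroup G)).Coprime q :=
    Nat.Coprime.coprime_dvd_left (Subgroup.card_dvd_of_le inf_le_left) hMqc
  have hcent : N ⊓ (Q : Subgroup G) ≤ Subgroup.centralizer
      ((Mq ⊓ Subgroup.centralizer ((N ⊓ (Q : Subgroup G) : Subgroup G) : Set G) : Subgroup G)
        : Set G) := by
    rw [Subgroup.le_centralizer_iff]
    exact inf_le_right
  refine abelianize N q Q _ ?_ hS₁N hS₁q hQS₁ hcent
  by_cases hrN : r ∣ Nat.card N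
  · obtain ⟨Mr, hMrn, hMrN, hMrc, kr, hkr⟩ := hB r hrI
    haveI := hMrn
    exact case_one N q r hrq Mq Mr hMqN hMrN hMqc hMrc kq kr hkq hkr hrN _ inf_le_left hQ₀p
  · have hN1 : Nat.card N ≠ 1 := by
      intro h1
      rw [h1] at hqN
      exact hq.one_lt.ne' (Nat.dvd_one.mp hqN)
    have hnil := nilpotent_of_not_dvd N hc r hrI hrN hN1
    have hle := le_centralizer_of_nilpotent N hnil q Mq hMqN hMqc _ inf_le_left hQ₀p
    rw [inf_eq_left.mpr hle]
    intro hbot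
    apply hN
    rw [isPrimePow_nat_iff]
    have h1 : Nat.card Mq = 1 := by rw [hbot]; exact Subgroup.card_bot
    rw [h1, mul_one] at hcardN
    refine ⟨q, kq, hq, ?_, hcardN.symm⟩
    by_contra h0
    have h0' : kq = 0 := by omega
    rw [h0', pow_zero] at hcardN
    exact hN1 hcardN

end Cfsg.Agent.Lib.Helper5.Cam
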