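import Mathlib
import Cfsg.Agent.Lib.Helper8.CamDefs
import Cfsg.Agent.Lib.Helper8.CamA
import Cfsg.Agent.Lib.Helper8.CamB
import Cfsg.Agent.Lib.Helper5.CamC3

/-!
# S4140 piece C: `exists_invariant_abelian` (helper5)
-/

set_option autoImplicit false

namespace Cfsg.Agent.Lib.Helper5.Cam

open Cfsg.Agent.Lib.Helper8.Cam

variable {G : Type*} [Group G] [Finite G] (N : Subgroup G) [N.Normal]

/-- (C) -/
theorem exists_invariant_abelian (hc : IsCam N) (q : ℕ) [Fact q.Prime] (hqN : q ∣ Nat.card N)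
    (hqI : q ∣ N.index) (hN : ¬ IsPrimePow (Nat.card N)) (hI : ¬ IsPrimePow N.index)
    (Q : Sylow q G) :
    ∃ V : Subgroup G, V ≠ ⊥ ∧ V ≤ N ∧ IsMulCommutative V ∧ (Nat.card V).Coprime q ∧
      (Q : Subgroup G) ≤ Subgroup.normalizer (V : Set G) ∧ N ⊓ (Q : Subgroup G) ≤ Subgroup.centralizer (V : Set G) :=
  exists_invariant_abelian_of N hc
    (fun p _ hp => Cfsg.Agent.Lib.Helper8.Cam.exists_normal_pcomplement N hc p hp)
    q hqN hqI hN hI Q

end Cfsg.Agent.Lib.Helper5.Cam
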