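import Mathlib
import Cfsg.Agent.S0750

/-!
# The Cartan–Dieudonné theorem in odd characteristic (helper5's shared lemmas)

Every isometry of a non-degenerate quadratic space over a field with `2 ≠ 0` is a product of
reflections.
-/

set_option autoImplicit false

namespace Cfsg.Agent.Lib.Helper5.CartanDieudonne

open Cfsg.Agent.S0750

universe u v

variable {F : Type v} [Field F]

section basic
variable {V : Type u} [AddCommGroup V] [Module F V] (Q : QuadraticForm F V)

/-- the reflection along `w` -/
def refl (w : V) : V →ₗ[F] V :=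
  LinearMap.id - ((Q w)⁻¹ • ((QuadraticMap.polarBilin Q).flip w)).smulRight w

theorem refl_apply (w x : V) :
    refl Q w x = x - ((Q w)⁻¹ * QuadraticMap.polarBilin Q x w) • w := by
  simp [refl, LinearMap.smulRight_apply]

theorem refl_isometry (w : V) (hw : Q w ≠ 0) (x : V) : Q (refl Q w x) = Q x := by
  rw [refl_apply, sub_eq_add_neg, ← neg_smul, Q_add_smul]
  field_simp
  ring

theorem refl_of_perp (w x : V) (h : QuadraticMap.polarBilin Q x w = 0) : refl Q w x = x := by
  rw [refl_apply, h, mul_zero, zero_smul, sub_zero]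

theorem refl_self (w : V) (hw : Q w ≠ 0) : refl Q w w = -w := by
  rw [refl_apply, B_self]
  have : (Q w)⁻¹ * (2 * Q w) = 2 := by field_simp
  rw [this, two_smul]
  abel

theorem refl_refl (w : V) (hw : Q w ≠ 0) (x : V) : refl Q w (refl Q w x) = x := by
  rw [refl_apply, refl_apply]
  simp only [map_sub, map_smul, LinearMap.sub_apply, LinearMap.smul_apply, smul_eq_mul, B_self]
  have : (Q w)⁻¹ * (QuadraticMap.polarBilin Q x w -
      (Q w)⁻¹ * QuadraticMap.polarBilin Q x w * (2 * Q w)) =
      -((Q w)⁻¹ * QuadraticMap.polarBilin Q x w) := by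
    field_simp
    ring
  rw [this, neg_smul]
  abel

theorem refl_mul_self (w : V) (hw : Q w ≠ 0) : refl Q w * refl Q w = 1 := by
  apply LinearMap.ext
  intro x
  exact refl_refl Q w hw x

theorem refl_sub (u v : V) (hQ : Q u = Q v) (h : Q (u - v) ≠ 0) : refl Q (u - v) u = v := by
  rw [refl_apply]
  have : QuadraticMap.polarBilin Q u (u - v) = Q (u - v) := by
    rw [map_sub, B_self, Q_sub, hQ]
    ring
  rw [this, inv_mul_cancel₀ h, one_smul]
  abel

theorem refl_add (u v : V) (hQ : Q u = Q v) (h : Q (u + v) ≠ 0) : refl Q (u + v) u = -v := by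
  rw [refl_apply]
  have : QuadraticMap.polarBilin Q u (u + v) = Q (u + v) := by
    rw [map_add, B_self, Q_add, hQ]
    ring
  rw [this, inv_mul_cancel₀ h, one_smul]
  abel

/-- the orthogonal complement of a vector -/
def perp1 (v : V) : Submodule F V := LinearMap.ker ((QuadraticMap.polarBilin Q).flip v)

theorem mem_perp1 (v x : V) : x ∈ perp1 Q v ↔ QuadraticMap.polarBilin Q x v = 0 := by
  simp [perp1, LinearMap.mem_ker]

/-- the restricted form -/
def restr1 (v : V) : QuadraticForm F (perp1 Q v) := Q.comp (perp1 Q v).subtype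

theorem restr1_apply (v : V) (w : perp1 Q v) : restr1 Q v w = Q (w : V) := rfl

theorem restr1_polar (v : V) (w w' : perp1 Q v) :
    QuadraticMap.polarBilin (restr1 Q v) w w' = QuadraticMap.polarBilin Q (w : V) (w' : V) := by
  rw [B_apply, B_apply]; rfl

theorem decomp1 (h2 : (2 : F) ≠ 0) (v : V) (hv : Q v ≠ 0) (x : V) :
    ∃ (c : F) (w : perp1 Q v), x = c • v + (w : V) := by
  refine ⟨QuadraticMap.polarBilin Q x v / (2 * Q v),
    ⟨x - (QuadraticMap.polarBilin Q x v / (2 * Q v)) • v, ?_⟩, by simp⟩
  rw [mem_perp1, map_sub, map_smul, LinearMap.sub_apply, LinearMap.smul_apply, B_self, smul_eq_mul]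
  field_simp
  ring

theorem restr1_nondegenerate (h2 : (2 : F) ≠ 0) (hQ : (QuadraticMap.polarBilin Q).Nondegenerate)
    (v : V) (hv : Q v ≠ 0) : (QuadraticMap.polarBilin (restr1 Q v)).Nondegenerate := by
  have key : ∀ w : perp1 Q v,
      (∀ w' : perp1 Q v, QuadraticMap.polarBilin (restr1 Q v) w w' = 0) → w = 0 := by
    intro w hw
    have : (w : V) = 0 := by
      apply hQ.1
      intro x
      obtain ⟨c, w', rfl⟩ := decomp1 Q h2 v hv x
      rw [map_add, map_smul, (mem_perp1 Q v w).1 w.2, smul_zero, zero_add, ← restr1_polar]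
      exact hw w'
    exact Subtype.ext this
  constructor
  · exact key
  · intro y hy
    apply key
    intro x
    rw [B_comm]
    exact hy x

theorem finrank_perp1 [FiniteDimensional F V] (h2 : (2 : F) ≠ 0) (v : V) (hv : Q v ≠ 0) :
    Module.finrank F (perp1 Q v) + 1 = Module.finrank F V := by
  have hφ : Function.Surjective ((QuadraticMap.polarBilin Q).flip v) := by
    intro a
    refine ⟨(a / (2 * Q v)) • v, ?_⟩
    rw [map_smul, LinearMap.flip_apply, B_self, smul_eq_mul]
    field_simp
  have := LinearMap.finrank_range_add_finrank_ker ((QuadraticMap.polarBilin Q).flip v)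
  rw [LinearMap.range_eq_top.2 hφ, finrank_top, Module.finrank_self] at this
  unfold perp1
  omega

theorem exists_nonsingular [Nontrivial V]
    (hQ : (QuadraticMap.polarBilin Q).Nondegenerate) : ∃ v, Q v ≠ 0 := by
  by_contra hcon
  push Not at hcon
  obtain ⟨x, hx⟩ := exists_ne (0 : V)
  apply hx
  apply hQ.1
  intro y
  rw [B_apply, hcon, hcon, hcon]
  ring

theorem refl_coe (v : V) (w y : perp1 Q v) :
    refl Q (w : V) (y : V) = ((refl (restr1 Q v) w y : perp1 Q v) : V) := by
  rw [refl_apply, refl_apply, restr1_polar, restr1_apply]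
  simp

theorem prod_coe (v : V) (L : List (perp1 Q v)) (y : perp1 Q v) :
    (L.map (fun w : perp1 Q v => refl Q (w : V))).prod (y : V) =
      (((L.map (refl (restr1 Q v))).prod y : perp1 Q v) : V) := by
  induction L generalizing y with
  | nil => simp
  | cons w L ih =>
    rw [List.map_cons, List.prod_cons, List.map_cons, List.prod_cons, Module.End.mul_apply,
      Module.End.mul_apply, ih, refl_coe]

theorem prod_fix (v : V) (L : List (perp1 Q v)) :
    (L.map (fun w : perp1 Q v => refl Q (w : V))).prod v = v := by
  induction L with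
  | nil => simp
  | cons w L ih =>
    rw [List.map_cons, List.prod_cons, Module.End.mul_apply, ih]
    apply refl_of_perp
    rw [B_comm]
    exact (mem_perp1 Q v w).1 w.2

end basic

/-- **Cartan–Dieudonné**: isometries are products of reflections -/
theorem cartan_dieudonne (h2 : (2 : F) ≠ 0) : ∀ (n : ℕ) (V : Type u) [AddCommGroup V] [Module F V]
    [FiniteDimensional F V] (Q : QuadraticForm F V), (QuadraticMap.polarBilin Q).Nondegenerate →
    Module.finrank F V = n → ∀ g : V →ₗ[F] V, (∀ x, Q (g x) = Q x) →
    ∃ L : List V, (∀ w ∈ L, Q w ≠ 0) ∧ g = (L.map (refl Q)).prod := by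
  intro n
  induction n with
  | zero =>
    intro V _ _ _ Q hQ hn g hg
    have : Subsingleton V := Module.finrank_zero_iff.1 hn
    refine ⟨[], by simp, ?_⟩
    apply LinearMap.ext
    intro x
    exact Subsingleton.elim _ _
  | succ n ih =>
    intro V _ _ _ Q hQ hn g hg
    have : Nontrivial V := Module.nontrivial_of_finrank_pos (R := F) (by omega)
    obtain ⟨v, hv⟩ := exists_nonsingular Q hQ
    -- the case of an isometry fixing `v`
    have hfix : ∀ h : V →ₗ[F] V, (∀ x, Q (h x) = Q x) → h v = v →
        ∃ L : List V, (∀ w ∈ L, Q w ≠ 0) ∧ h = (L.map (refl Q)).prod := by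
      intro h hh hhv
      have hmaps : ∀ x ∈ perp1 Q v, h x ∈ perp1 Q v := by
        intro x hx
        rw [mem_perp1] at hx ⊢
        have := polar_of_isometry Q h hh x v
        rw [hhv] at this
        rw [this, hx]
      obtain ⟨L', hL'1, hL'2⟩ := ih (perp1 Q v) (restr1 Q v)
        (restr1_nondegenerate Q h2 hQ v hv) (by have := finrank_perp1 Q h2 v hv; omega)
        (h.restrict hmaps) (fun x => by
          rw [restr1_apply, restr1_apply]
          exact hh x)
      refine ⟨L'.map (fun w : perp1 Q v => (w : V)), ?_, ?_⟩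
      · intro w hw
        obtain ⟨w', hw', rfl⟩ := List.mem_map.1 hw
        exact hL'1 w' hw'
      · apply LinearMap.ext
        intro x
        obtain ⟨c, w, rfl⟩ := decomp1 Q h2 v hv x
        rw [List.map_map]
        change h (c • v + (w : V)) = (L'.map (fun w : perp1 Q v => refl Q (w : V))).prod (c • v + (w : V))
        rw [map_add, map_smul, map_add, map_smul, hhv, prod_fix, prod_coe, ← hL'2]
        rfl
    set u := g v with hu
    have hQu : Q u = Q v := hg v
    have hsum : Q (u - v) + Q (u + v) = 4 * Q v := by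
      rw [Q_sub, Q_add, hQu]; ring
    by_cases hA : Q (u - v) ≠ 0
    · obtain ⟨L, hL1, hL2⟩ := hfix (refl Q (u - v) * g)
        (fun x => by rw [Module.End.mul_apply, refl_isometry Q _ hA, hg])
        (by rw [Module.End.mul_apply, ← hu, refl_sub Q u v hQu hA])
      refine ⟨(u - v) :: L, ?_, ?_⟩
      · intro w hw
        rcases List.mem_cons.1 hw with rfl | hw
        · exact hA
        · exact hL1 w hw
      · rw [List.map_cons, List.prod_cons, ← hL2, ← mul_assoc, refl_mul_self Q _ hA, one_mul]
    · push Not at hA
      have hB : Q (u + v) ≠ 0 := by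
        intro hB
        rw [hA, hB, add_zero] at hsum
        have h4 : (4 : F) ≠ 0 := by
          have : (4 : F) = 2 * 2 := by norm_num
          rw [this]
          exact mul_ne_zero h2 h2
        exact (mul_ne_zero h4 hv) hsum.symm
      obtain ⟨L, hL1, hL2⟩ := hfix (refl Q v * (refl Q (u + v) * g))
        (fun x => by
          rw [Module.End.mul_apply, Module.End.mul_apply, refl_isometry Q _ hv,
            refl_isometry Q _ hB, hg])
        (by
          rw [Module.End.mul_apply, Module.End.mul_apply, ← hu, refl_add Q u v hQu hB, map_neg,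
            refl_self Q v hv, neg_neg])
      refine ⟨(u + v) :: v :: L, ?_, ?_⟩
      · intro w hw
        rcases List.mem_cons.1 hw with rfl | hw
        · exact hB
        · rcases List.mem_cons.1 hw with rfl | hw
          · exact hv
          · exact hL1 w hw
      · rw [List.map_cons, List.prod_cons, List.map_cons, List.prod_cons, ← hL2, ← mul_assoc,
          ← mul_assoc, ← mul_assoc, mul_assoc (refl Q (u + v)) (refl Q v),
          refl_mul_self Q _ hv, mul_one, refl_mul_self Q _ hB, one_mul]

end Cfsg.Agent.Lib.Helper5.CartanDieudonne
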