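import Cfsg.Agent.Lib.helper3.Inflate2
import Mathlib

set_option autoImplicit false
set_option linter.unusedSectionVars false
open Cfsg

/-!
# Degree bounds for irreducible characters (abstract lemmas)
-/

namespace Cfsg.Agent.Lib.Helper5.CharDeg

open Cfsg.Agent.Lib.helper3.Irr Cfsg.Agent.Lib.helper3.Central Cfsg.Agent.Lib.helper3.CharBasic
open Cfsg.Agent.Lib.helper3.IndFun
open scoped ComplexConjugate

section scalar
variable {G : Type*} [Group G] [Fintype G]

/-- a central element acts as a scalar: `ψ (g z) ψ(1) = ψ(z) ψ(g)` -/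
theorem central_scalar {ψ : G → ℂ} (hψ : IsIrrCharacter G ψ) {z : G}
    (hz : z ∈ Subgroup.center G) (g : G) : ψ (g * z) * ψ 1 = ψ z * ψ g := by
  obtain ⟨d, ρ, hirr, rfl⟩ := hψ
  have := hirr
  obtain ⟨c, hc⟩ := exists_scalar_of_central ρ z hz
  have h1 : ∀ g, ρ.character (g * z) = c * ρ.character g := by
    intro g
    simp only [Representation.character, map_mul, hc]
    rw [mul_smul_comm, map_smul, smul_eq_mul]
    rfl
  have h2 := h1 1
  rw [one_mul] at h2
  rw [h1, h2]
  ring

/-- vanishing from a central commutator on which the central character is nontrivial -/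
theorem vanish_of_conj {ψ : G → ℂ} (hψ : IsIrrCharacter G ψ) {x y z : G}
    (hz : z ∈ Subgroup.center G) (hxy : y * x * y⁻¹ = x * z) (hne : ψ z ≠ ψ 1) : ψ x = 0 := by
  have hcf := isClassFunction_of_isCharacter (isCharacter_of_isIrrCharacter hψ)
  have h1 : ψ (x * z) = ψ x := by
    rw [← hxy]
    exact hcf x y
  have h2 := central_scalar hψ hz x
  rw [h1] at h2
  have h3 : (ψ z - ψ 1) * ψ x = 0 := by linear_combination -h2
  rcases mul_eq_zero.1 h3 with h | h
  · exact absurd (sub_eq_zero.1 h) hne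
  · exact h

/-- `‖ψ g‖ ≤ ψ 1` for a character with degree `n` -/
theorem norm_le_degree {ψ : G → ℂ} (hψ : IsCharacter G ψ) {n : ℕ} (hn : ψ 1 = n) (g : G) :
    ‖ψ g‖ ≤ (n : ℝ) := by
  obtain ⟨d, ρ, rfl⟩ := hψ
  have h := norm_character_le ρ g
  rw [Representation.char_one] at hn
  have : (Module.finrank ℂ (Fin d → ℂ) : ℂ) = (n : ℂ) := hn
  have h' : Module.finrank ℂ (Fin d → ℂ) = n := by exact_mod_cast this
  rw [h'] at h
  exact h

/-- if an irreducible character of degree `n` vanishes off `S`, then `|G| ≤ |S| n²` -/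
theorem card_le_of_vanish {ψ : G → ℂ} (hψ : IsIrrCharacter G ψ) (S : Finset G)
    (hS : ∀ x, x ∉ S → ψ x = 0) {n : ℕ} (hn : ψ 1 = n) :
    Fintype.card G ≤ S.card * n ^ 2 := by
  classical
  have h1 := irr_classInner_self hψ
  rw [classInner_apply] at h1
  have hG : (Nat.card G : ℂ) ≠ 0 := card_ne_zero_complex G
  have h2 : ∑ g : G, ψ g * conj (ψ g) = (Nat.card G : ℂ) := by
    field_simp at h1
    linear_combination h1
  have h3 : ∑ g : G, ψ g * conj (ψ g) = ((∑ g ∈ S, ‖ψ g‖ ^ 2 : ℝ) : ℂ) := by
    rw [← Finset.sum_subset (Finset.subset_univ S)]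
    · push_cast
      apply Finset.sum_congr rfl
      intro g _
      rw [Complex.mul_conj, Complex.normSq_eq_norm_sq]
      push_cast
      rfl
    · intro x _ hx
      rw [hS x hx, zero_mul]
  have h4 : (Nat.card G : ℝ) = ∑ g ∈ S, ‖ψ g‖ ^ 2 := by
    have := h2.symm.trans h3
    exact_mod_cast this
  have h5 : ∑ g ∈ S, ‖ψ g‖ ^ 2 ≤ ∑ _g ∈ S, (n : ℝ) ^ 2 := by
    apply Finset.sum_le_sum
    intro g _
    have := norm_le_degree (isCharacter_of_isIrrCharacter hψ) hn g
    have h0 : 0 ≤ ‖ψ g‖ := norm_nonneg _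
    nlinarith
  rw [Finset.sum_const, nsmul_eq_mul] at h5
  have h6 : (Nat.card G : ℝ) ≤ (S.card : ℝ) * (n : ℝ) ^ 2 := by
    rw [h4]
    exact h5
  rw [← Nat.card_eq_fintype_card]
  exact_mod_cast h6

end scalar

section kernel
variable {G : Type*} [Group G] [Fintype G]

/-- the kernel of a character, as a subgroup -/
def charKer {χ : G → ℂ} (hχ : IsCharacter G χ) : Subgroup G where
  carrier := {g | χ g = χ 1}
  one_mem' := rfl
  mul_mem' := by
    intro a b ha hb
    show χ (a * b) = χ 1
    rw [apply_mul_of_apply_eq_one hχ hb a]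
    exact ha
  inv_mem' := by
    intro a ha
    show χ a⁻¹ = χ 1
    rw [isCharacter_apply_inv hχ a, show χ a = χ 1 from ha, conj_apply_one hχ]

theorem mem_charKer {χ : G → ℂ} (hχ : IsCharacter G χ) (g : G) :
    g ∈ charKer hχ ↔ χ g = χ 1 := Iff.rfl

instance charKer_normal {χ : G → ℂ} (hχ : IsCharacter G χ) : (charKer hχ).Normal := by
  constructor
  intro n hn g
  show χ (g * n * g⁻¹) = χ 1
  rw [isClassFunction_of_isCharacter hχ n g]
  exact hn

/-- in a simple group, a non-linear irreducible character is faithful -/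
theorem apply_ne_of_simple [IsSimpleGroup G] {χ : G → ℂ} (hχ : IsIrrCharacter G χ)
    (h1 : χ 1 ≠ 1) {g : G} (hg : g ≠ 1) : χ g ≠ χ 1 := by
  intro h
  have hc := isCharacter_of_isIrrCharacter hχ
  rcases (charKer_normal hc).eq_bot_or_eq_top with hb | ht
  · have : g ∈ charKer hc := h
    rw [hb, Subgroup.mem_bot] at this
    exact hg this
  · -- χ constant
    have hconst : ∀ x, χ x = χ 1 := by
      intro x
      have : x ∈ charKer hc := by rw [ht]; trivial
      exact this
    obtain ⟨n, hn⟩ := exists_nat_apply_one hc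
    have h2 := irr_classInner_self hχ
    rw [classInner_apply] at h2
    have hG : (Nat.card G : ℂ) ≠ 0 := card_ne_zero_complex G
    have h3 : ∑ x : G, χ x * conj (χ x) = (Nat.card G : ℂ) * ((n : ℂ) * n) := by
      rw [Finset.sum_congr rfl (fun x _ => by rw [hconst x, hn, Complex.conj_natCast])]
      rw [Finset.sum_const, Finset.card_univ, nsmul_eq_mul, Nat.card_eq_fintype_card]
    rw [h3] at h2
    have h4 : ((n : ℂ) * n) = 1 := by
      field_simp at h2
      linear_combination h2
    have h5 : n * n = 1 := by exact_mod_cast h4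
    have h6 : n = 1 := by
      rcases Nat.eq_zero_or_pos n with h | h
      · rw [h] at h5
        omega
      · nlinarith
    apply h1
    rw [hn, h6]
    simp

end kernel

section orbit
variable {G : Type*} [Group G] [Fintype G]

/-- orbit counting for constituents: if `θ` is invariant under a family of automorphisms
  whose twists of the irreducible `ψ` are pairwise distinct, then
  `|T| ⟨θ, ψ⟩ ψ(1) ≤ θ(1)`. -/
theorem orbit_degree_le {θ : G → ℂ} (hθ : IsCharacter G θ) {ψ : G → ℂ}
    (hψ : IsIrrCharacter G ψ) {T : Type*} [Fintype T] (σ : T → G ≃* G)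
    (hinv : ∀ t g, θ (σ t g) = θ g)
    (hinj : Function.Injective (fun t => (fun g => ψ (σ t g))))
    (hcons : classInner θ ψ ≠ 0) {n d : ℕ} (hn : θ 1 = n) (hd : ψ 1 = d) :
    Fintype.card T * d ≤ n := by
  classical
  obtain ⟨mult, hmult⟩ := exists_decomposition_of_isCharacter hθ
  have hirr : ∀ t, IsIrrCharacter G (fun g => ψ (σ t g)) :=
    fun t => isIrrCharacter_comp_mulEquiv (σ t) hψ
  let μ : T → IrrCharacter G := fun t => ⟨fun g => ψ (σ t g), hirr t⟩
  have hμinj : Function.Injective μ := by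
    intro t t' h
    apply hinj
    exact congrArg Subtype.val h
  have hmultμ : ∀ t, mult (μ t) ≠ 0 := by
    intro t h0
    apply hcons
    have h1 : classInner θ ψ = classInner (fun g => θ (σ t g)) (fun g => ψ (σ t g)) :=
      (classInner_comp_mulEquiv (σ t) θ ψ).symm
    have h2 : (fun g => θ (σ t g)) = θ := funext (hinv t)
    rw [h1, h2]
    have h3 := classInner_decomposition_left (fun χ => (mult χ : ℂ)) (μ t)
    rw [← hmult] at h3
    rw [show (fun g => ψ (σ t g)) = ((μ t : IrrCharacter G) : G → ℂ) from rfl, h3, h0]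
    simp
  -- degrees
  have hdeg : ∀ χ : IrrCharacter G, ∃ k : ℕ, (χ : G → ℂ) 1 = k :=
    fun χ => exists_nat_apply_one (isCharacter_of_isIrrCharacter χ.2)
  choose deg hdeg using hdeg
  have hdegμ : ∀ t, deg (μ t) = d := by
    intro t
    have h1 := hdeg (μ t)
    have h2 : ((μ t : IrrCharacter G) : G → ℂ) 1 = ψ 1 := by
      show ψ (σ t 1) = ψ 1
      rw [map_one]
    rw [h2, hd] at h1
    exact_mod_cast h1.symm
  have hsum : (n : ℂ) = ∑ χ : IrrCharacter G, ((mult χ * deg χ : ℕ) : ℂ) := by
    rw [← hn, hmult]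
    simp only [Finset.sum_apply, Pi.smul_apply, smul_eq_mul]
    apply Finset.sum_congr rfl
    intro χ _
    rw [hdeg χ]
    push_cast
    ring
  have hsum' : n = ∑ χ : IrrCharacter G, mult χ * deg χ := by
    have : (n : ℂ) = ((∑ χ : IrrCharacter G, mult χ * deg χ : ℕ) : ℂ) := by
      rw [hsum]
      push_cast
      rfl
    exact_mod_cast this
  rw [hsum']
  calc Fintype.card T * d = ∑ _t : T, d := by
        rw [Finset.sum_const, Finset.card_univ, smul_eq_mul]
    _ ≤ ∑ t : T, mult (μ t) * deg (μ t) := by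
        apply Finset.sum_le_sum
        intro t _
        rw [hdegμ t]
        exact Nat.le_mul_of_pos_left d (Nat.pos_of_ne_zero (hmultμ t))
    _ = ∑ χ ∈ Finset.univ.image μ, mult χ * deg χ := by
        rw [Finset.sum_image]
        intro a _ b _ hab
        exact hμinj hab
    _ ≤ ∑ χ : IrrCharacter G, mult χ * deg χ := by
        apply Finset.sum_le_sum_of_subset
        exact Finset.subset_univ _

end orbit

end Cfsg.Agent.Lib.Helper5.CharDeg
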