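import Cfsg.Agent.Lib.Helper5.ChevTables
import Mathlib

set_option autoImplicit false

namespace Cfsg.Agent.Lib.Helper5.ChevTables

open Cfsg.Lie

/-- the gcd of the coefficients of the coroot of `r` on the fundamental coroots -/
def corootGcd (D : ChevalleyDatum) (r : ℕ) : ℕ :=
  ((List.range D.rank).map (fun i => ((D.coroot.getD r #[]).getD i 0).natAbs)).foldr Nat.gcd 0

set_option maxRecDepth 100000 in
/-- `-r` is a root index different from `r`, and the coroot of `r` is primitive -/
theorem neg_facts (D : ChevalleyDatum)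
    (hD : D ∈ [chevG2, chevB2, chevD4, chevF4, chevE6, chevE7, chevE8]) :
    ∀ r, r < D.nroots → D.negIdx.getD r 0 < D.nroots ∧ D.negIdx.getD r 0 ≠ r ∧ corootGcd D r = 1 := by
  simp only [List.mem_cons, List.not_mem_nil, or_false] at hD
  rcases hD with rfl | rfl | rfl | rfl | rfl | rfl | rfl <;> decide

theorem dvd_foldr_gcd (d : ℕ) (l : List ℕ) (h : ∀ x ∈ l, d ∣ x) : d ∣ l.foldr Nat.gcd 0 := by
  induction l with
  | nil => simp
  | cons a l ih =>
    rw [List.foldr_cons]
    exact Nat.dvd_gcd (h a (List.mem_cons_self)) (ih (fun x hx => h x (List.mem_cons_of_mem _ hx)))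

theorem dvd_corootGcd (D : ChevalleyDatum) (r d : ℕ)
    (h : ∀ i, i < D.rank → (d : ℤ) ∣ (D.coroot.getD r #[]).getD i 0) : d ∣ corootGcd D r := by
  apply dvd_foldr_gcd
  intro x hx
  rw [List.mem_map] at hx
  obtain ⟨i, hi, rfl⟩ := hx
  rw [List.mem_range] at hi
  have := h i hi
  exact Int.natCast_dvd.1 this

end Cfsg.Agent.Lib.Helper5.ChevTables
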