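import Cfsg.Prelude.Def_ChevStructure
import Mathlib

/-!
# Signed permutation symmetries of Chevalley data (helper5's shared lemmas)

A certificate (node permutation, root permutation, signs) that can be checked by `decide`
yields a signed permutation matrix conjugating every `x_r(t)` to `x_{σ r}(ε_r t)`.
-/

set_option autoImplicit false

namespace Cfsg.Agent.Lib.Helper5.ChevPerm

open Cfsg.Lie
open scoped Matrix

/-- Prop-level certificate -/
structure GraphCert (D : ChevalleyDatum) (pi sg : List ℕ) (ep : List ℤ) : Prop where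
  pi_lt : ∀ i < D.rank, pi.getD i 0 < D.rank
  pi_inj : ∀ i < D.rank, ∀ j < D.rank, pi.getD i 0 = pi.getD j 0 → i = j
  sg_lt : ∀ r < D.nroots, sg.getD r 0 < D.nroots
  sg_inj : ∀ r < D.nroots, ∀ s < D.nroots, sg.getD r 0 = sg.getD s 0 → r = s
  ep_pm : ∀ r < D.nroots, ep.getD r 1 = 1 ∨ ep.getD r 1 = -1
  neg_lt : ∀ r < D.nroots, D.negIdx.getD r 0 < D.nroots
  neg_sg : ∀ r < D.nroots, D.negIdx.getD (sg.getD r 0) 0 = sg.getD (D.negIdx.getD r 0) 0
  neg_ep : ∀ r < D.nroots, ep.getD (D.negIdx.getD r 0) 1 = ep.getD r 1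
  cartan_inv : ∀ i < D.rank, ∀ r < D.nroots,
    (D.cartanSR.getD (pi.getD i 0) #[]).getD (sg.getD r 0) 0 = (D.cartanSR.getD i #[]).getD r 0
  coroot_inv : ∀ i < D.rank, ∀ r < D.nroots,
    (D.coroot.getD (sg.getD r 0) #[]).getD (pi.getD i 0) 0 = (D.coroot.getD r #[]).getD i 0
  chain_lt : ∀ r < D.nroots, ∀ e ∈ (D.chain.getD r #[]).toList, ∀ q ∈ e.2.toList, q.1 < D.nroots
  chain_inv' : ∀ r < D.nroots, ∀ s < D.nroots,
    (((D.chain.getD (sg.getD r 0) #[]).toList.filter (fun e => e.1 = sg.getD s 0)).map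
        fun e => e.2.toList.zipIdx) =
      (((D.chain.getD r #[]).toList.filter (fun e => e.1 = s)).map fun e =>
        (e.2.toList.zipIdx).map fun q =>
          ((sg.getD q.1.1 0, ep.getD q.1.1 1 * ep.getD s 1 * ep.getD r 1 ^ (q.2 + 1) * q.1.2), q.2))

/-- the boolean check -/
def certb (D : ChevalleyDatum) (pi sg : List ℕ) (ep : List ℤ) : Bool :=
  ((List.range D.rank).all fun i => decide (pi.getD i 0 < D.rank)) &&
  ((List.range D.rank).all fun i => (List.range D.rank).all fun j =>
    decide (pi.getD i 0 = pi.getD j 0 → i = j)) &&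
  ((List.range D.nroots).all fun r => decide (sg.getD r 0 < D.nroots)) &&
  ((List.range D.nroots).all fun r => (List.range D.nroots).all fun s =>
    decide (sg.getD r 0 = sg.getD s 0 → r = s)) &&
  ((List.range D.nroots).all fun r => decide (ep.getD r 1 = 1 ∨ ep.getD r 1 = -1)) &&
  ((List.range D.nroots).all fun r => decide (D.negIdx.getD r 0 < D.nroots)) &&
  ((List.range D.nroots).all fun r =>
    decide (D.negIdx.getD (sg.getD r 0) 0 = sg.getD (D.negIdx.getD r 0) 0)) &&
  ((List.range D.nroots).all fun r => decide (ep.getD (D.negIdx.getD r 0) 1 = ep.getD r 1)) &&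
  ((List.range D.rank).all fun i => (List.range D.nroots).all fun r =>
    decide ((D.cartanSR.getD (pi.getD i 0) #[]).getD (sg.getD r 0) 0
      = (D.cartanSR.getD i #[]).getD r 0)) &&
  ((List.range D.rank).all fun i => (List.range D.nroots).all fun r =>
    decide ((D.coroot.getD (sg.getD r 0) #[]).getD (pi.getD i 0) 0
      = (D.coroot.getD r #[]).getD i 0)) &&
  ((List.range D.nroots).all fun r => (D.chain.getD r #[]).toList.all fun e =>
    e.2.toList.all fun q => decide (q.1 < D.nroots)) &&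
  ((List.range D.nroots).all fun r => (List.range D.nroots).all fun s =>
    decide ((((D.chain.getD (sg.getD r 0) #[]).toList.filter (fun e => e.1 = sg.getD s 0)).map
        fun e => e.2.toList.zipIdx) =
      (((D.chain.getD r #[]).toList.filter (fun e => e.1 = s)).map fun e =>
        (e.2.toList.zipIdx).map fun q =>
          ((sg.getD q.1.1 0, ep.getD q.1.1 1 * ep.getD s 1 * ep.getD r 1 ^ (q.2 + 1) * q.1.2),
            q.2))))

theorem all_range {n : ℕ} {p : ℕ → Bool} :
    (List.range n).all p = true ↔ ∀ i < n, p i = true := by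
  simp [List.all_eq_true]

theorem cert_of_certb (D : ChevalleyDatum) (pi sg : List ℕ) (ep : List ℤ)
    (h : certb D pi sg ep = true) : GraphCert D pi sg ep := by
  unfold certb at h
  simp only [Bool.and_eq_true, decide_eq_true_eq, List.all_eq_true, List.mem_range] at h
  obtain ⟨⟨⟨⟨⟨⟨⟨⟨⟨⟨⟨h1, h2⟩, h3⟩, h4⟩, h5⟩, h6⟩, h7⟩, h8⟩, h9⟩, h10⟩, h11⟩, h12⟩ := h
  exact ⟨h1, h2, h3, h4, h5, h6, h7, h8, h9, h10, h11, h12⟩

/-- the chain coefficients are compatible with the symmetry -/
theorem GraphCert.chain_inv {D : ChevalleyDatum} {pi sg : List ℕ} {ep : List ℤ}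
    (c : GraphCert D pi sg ep) (r s u : ℕ) (hr : r < D.nroots) (hs : s < D.nroots)
    (hu : u < D.nroots) :
    D.chainCoeff (sg.getD r 0) (sg.getD s 0) (sg.getD u 0) =
      (D.chainCoeff r s u).map
        (fun km => (km.1, ep.getD u 1 * ep.getD s 1 * ep.getD r 1 ^ km.1 * km.2)) := by
  unfold ChevalleyDatum.chainCoeff
  have h1 := c.chain_inv' r hr s hs
  have e1 : ∀ (L : List (ℕ × Array (ℕ × ℤ))) (v : ℕ),
      (L.flatMap fun e => ((e.2.toList.zipIdx).filter (fun q => q.1.1 = v)).map
        fun q => (q.2 + 1, q.1.2))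
      = (L.map fun e => e.2.toList.zipIdx).flatMap fun Z =>
          (Z.filter (fun q => q.1.1 = v)).map fun q => (q.2 + 1, q.1.2) := by
    intro L v
    rw [List.flatMap_map]
  rw [e1, h1, List.flatMap_map, List.map_flatMap]
  apply List.flatMap_congr
  intro e he
  rw [List.filter_map, List.map_map, List.map_map]
  have he' : e ∈ (D.chain.getD r #[]).toList := (List.mem_filter.1 he).1
  have hfilt : ((e.2.toList.zipIdx).filter ((fun q : (ℕ × ℤ) × ℕ => decide (q.1.1 = sg.getD u 0)) ∘
      fun q : (ℕ × ℤ) × ℕ => ((sg.getD q.1.1 0,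
        ep.getD q.1.1 1 * ep.getD s 1 * ep.getD r 1 ^ (q.2 + 1) * q.1.2), q.2)))
      = (e.2.toList.zipIdx).filter (fun q => decide (q.1.1 = u)) := by
    apply List.filter_congr
    intro q hq
    have hq1 : q.1 ∈ e.2.toList := by
      have := List.mem_zipIdx_iff_getElem?.1 hq
      exact List.mem_of_getElem? this
    have hlt := c.chain_lt r hr e he' q.1 hq1
    simp only [Function.comp]
    exact decide_eq_decide.2 ⟨fun h => c.sg_inj _ hlt _ hu h, fun h => by rw [h]⟩
  rw [hfilt]
  apply List.map_congr_left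
  intro q hq
  have hqu : q.1.1 = u := by
    have := (List.mem_filter.1 hq).2
    simpa using this
  simp only [Function.comp, hqu]

end Cfsg.Agent.Lib.Helper5.ChevPerm
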