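import Mathlib

/-!
# Tools for kernel computations with sets of natural numbers: forcing, binary search trees

`BT` is a binary tree with natural numbers at the nodes; `BT.ins` inserts a number (as in a binary search tree),
`BT.has` searches a number, `BT.keys` lists the numbers in order. No invariant is needed for the soundness statements:
a number found by `has` is in `keys`, the keys after an insertion are the old keys and the new number, and a strictly
increasing list has no duplicates.
-/

set_option autoImplicit false

namespace Cfsg.Agent.Lib.Helper5.J3Fus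

/-- evaluation forcing: semantically `k n`, but the kernel first evaluates `n` to a numeral -/
def strictN {α : Type} (n : ℕ) (k : ℕ → α) : α :=
  match n with
  | 0 => k 0
  | m + 1 => k (m + 1)

@[simp] theorem strictN_eq {α : Type} (n : ℕ) (k : ℕ → α) : strictN n k = k n := by
  cases n <;> rfl

/-- forcing of all the elements of a list -/
def forceL {α : Type} : List ℕ → (List ℕ → α) → α
  | [], k => k []
  | a :: l, k => strictN a fun a' => forceL l fun l' => k (a' :: l')

@[simp] theorem forceL_eq {α : Type} (l : List ℕ) (k : List ℕ → α) : forceL l k = k l := by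
  induction l generalizing k with
  | nil => rfl
  | cons a l ih => simp [forceL, ih]

/-- binary trees of natural numbers -/
inductive BT : Type
  | leaf : BT
  | node : BT → ℕ → BT → BT

namespace BT

/-- forcing of the root (written with the recursor: the kernel evaluates it in few steps) -/
noncomputable def force {α : Type} (t : BT) (k : BT → α) : α :=
  BT.rec (motive := fun _ => α) (k leaf) (fun l x r _ _ => k (node l x r)) t

@[simp] theorem force_eq {α : Type} (t : BT) (k : BT → α) : force t k = k t := by
  cases t <;> rfl

/-- insertion (written with the recursors) -/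
noncomputable def ins (t : BT) : ℕ → BT :=
  BT.rec (motive := fun _ => ℕ → BT) (fun x => node leaf x leaf)
    (fun l k r il ir x =>
      Bool.rec (motive := fun _ => BT)
        (force (il x) fun l' => node l' k r)
        (Bool.rec (motive := fun _ => BT) (force (ir x) fun r' => node l k r') (node l k r)
          (Nat.ble x k))
        (Nat.ble k x)) t

theorem ins_leaf (x : ℕ) : ins leaf x = node leaf x leaf := rfl

theorem ins_node (l : BT) (k : ℕ) (r : BT) (x : ℕ) : ins (node l k r) x =
    Bool.rec (motive := fun _ => BT)
      (force (ins l x) fun l' => node l' k r)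
      (Bool.rec (motive := fun _ => BT) (force (ins r x) fun r' => node l k r') (node l k r)
        (Nat.ble x k))
      (Nat.ble k x) := rfl

/-- search (written with the recursors) -/
noncomputable def has (t : BT) : ℕ → Bool :=
  BT.rec (motive := fun _ => ℕ → Bool) (fun _ => false)
    (fun _ k _ hl hr x =>
      Bool.rec (motive := fun _ => Bool) (hl x)
        (Bool.rec (motive := fun _ => Bool) (hr x) true (Nat.ble x k))
        (Nat.ble k x)) t

theorem has_leaf (x : ℕ) : has leaf x = false := rfl

theorem has_node (l : BT) (k : ℕ) (r : BT) (x : ℕ) : has (node l k r) x =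
    Bool.rec (motive := fun _ => Bool) (has l x)
      (Bool.rec (motive := fun _ => Bool) (has r x) true (Nat.ble x k))
      (Nat.ble k x) := rfl

/-- the numbers of the tree, from left to right, put in front of `acc` -/
def keysAux : BT → List ℕ → List ℕ
  | leaf, acc => acc
  | node l k r, acc => keysAux l (k :: keysAux r acc)

/-- the numbers of the tree, from left to right -/
def keys (t : BT) : List ℕ := keysAux t []

/-- the set of the numbers of the tree -/
def Mem (x : ℕ) : BT → Prop
  | leaf => False
  | node l k r => Mem x l ∨ x = k ∨ Mem x r

theorem mem_keysAux (x : ℕ) : ∀ (t : BT) (acc : List ℕ), x ∈ keysAux t acc ↔ Mem x t ∨ x ∈ acc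
  | leaf, acc => by simp [keysAux, Mem]
  | node l k r, acc => by
    rw [keysAux, mem_keysAux x l, List.mem_cons, mem_keysAux x r, Mem]
    tauto

theorem mem_keys {x : ℕ} {t : BT} : x ∈ keys t ↔ Mem x t := by
  unfold keys
  rw [mem_keysAux]
  simp

theorem mem_of_has {x : ℕ} : ∀ {t : BT}, has t x = true → Mem x t
  | leaf, h => by simp [has_leaf] at h
  | node l k r, h => by
    rw [has_node] at h
    unfold Mem
    cases h1 : Nat.ble k x with
    | false =>
      rw [h1] at h
      exact Or.inl (mem_of_has h)
    | true =>
      rw [h1] at h
      cases h2 : Nat.ble x k with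
      | false =>
        rw [h2] at h
        exact Or.inr (Or.inr (mem_of_has h))
      | true =>
        right; left
        exact Nat.le_antisymm (Nat.le_of_ble_eq_true h2) (Nat.le_of_ble_eq_true h1)

theorem mem_ins {x y : ℕ} : ∀ {t : BT}, Mem x (ins t y) ↔ Mem x t ∨ x = y
  | leaf => by simp [ins_leaf, Mem]
  | node l k r => by
    rw [ins_node]
    cases h1 : Nat.ble k y with
    | false =>
      show Mem x (force (ins l y) fun l' => node l' k r) ↔ _
      rw [force_eq, Mem, Mem, mem_ins (t := l)]
      tauto
    | true =>
      cases h2 : Nat.ble y k with
      | false =>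
        show Mem x (force (ins r y) fun r' => node l k r') ↔ _
        rw [force_eq, Mem, Mem, mem_ins (t := r)]
        tauto
      | true =>
        show Mem x (node l k r) ↔ _
        have e : y = k := Nat.le_antisymm (Nat.le_of_ble_eq_true h2) (Nat.le_of_ble_eq_true h1)
        rw [Mem, e]
        tauto

/-- the tree of a list -/
noncomputable def ofList : List ℕ → BT → BT
  | [], t => t
  | x :: L, t => force (ins t x) fun t' => ofList L t'

theorem mem_ofList {x : ℕ} : ∀ {L : List ℕ} {t : BT}, Mem x (ofList L t) ↔ Mem x t ∨ x ∈ L
  | [], t => by simp [ofList]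
  | y :: L, t => by
    rw [ofList, force_eq, mem_ofList (L := L), mem_ins, List.mem_cons]
    tauto

theorem mem_of_has_ofList {x : ℕ} {L : List ℕ} (h : has (ofList L leaf) x = true) : x ∈ L := by
  have := (mem_ofList (L := L) (t := leaf)).1 (mem_of_has h)
  simpa [Mem] using this

end BT

/-- the list is strictly increasing -/
def strictInc : List ℕ → Bool
  | [] => true
  | [_] => true
  | a :: b :: L => Nat.blt a b && strictInc (b :: L)

theorem sorted_of_strictInc : ∀ {L : List ℕ}, strictInc L = true → L.Pairwise (· < ·)
  | [], _ => List.Pairwise.nil
  | [_], _ => List.pairwise_singleton _ _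
  | a :: b :: L, h => by
    unfold strictInc at h
    rw [Bool.and_eq_true] at h
    have hab : a < b := by simpa [Nat.blt_eq] using h.1
    have ih := sorted_of_strictInc h.2
    refine List.Pairwise.cons ?_ ih
    intro c hc
    rcases List.mem_cons.1 hc with rfl | hc
    · exact hab
    · exact lt_trans hab (List.rel_of_pairwise_cons ih hc)

theorem nodup_of_strictInc {L : List ℕ} (h : strictInc L = true) : L.Nodup :=
  (sorted_of_strictInc h).imp (fun hab => Nat.ne_of_lt hab)

/-- the length, computed strictly -/
def lenS : List ℕ → ℕ → ℕ
  | [], n => n
  | _ :: L, n => strictN (n + 1) fun m => lenS L m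

theorem lenS_eq : ∀ (L : List ℕ) (n : ℕ), lenS L n = L.length + n
  | [], n => by simp [lenS]
  | _ :: L, n => by rw [lenS, strictN_eq, lenS_eq L]; simp; omega

/-- a list all whose members are keys of a tree with strictly increasing keys, as many as the list is long,
has no duplicates -/
theorem nodup_of_tree {L : List ℕ} (hinc : strictInc (BT.keys (BT.ofList L BT.leaf)) = true)
    (hlen : (BT.keys (BT.ofList L BT.leaf)).length = L.length) : L.Nodup := by
  classical
  set K := BT.keys (BT.ofList L BT.leaf) with hK
  have hnd : K.Nodup := nodup_of_strictInc hinc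
  have hset : ∀ x, x ∈ K ↔ x ∈ L := by
    intro x
    rw [hK, BT.mem_keys, BT.mem_ofList]
    simp [BT.Mem]
  have hfin : K.toFinset = L.toFinset := by
    ext x; simp [hset]
  have hcard : L.toFinset.card = L.length := by
    rw [← hfin, List.toFinset_card_of_nodup hnd, hlen]
  exact (Multiset.toFinset_card_eq_card_iff_nodup (m := (L : Multiset ℕ))).1 hcard

end Cfsg.Agent.Lib.Helper5.J3Fus
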