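import Cfsg.Agent.Lib.Helper5.J3MultB
import Cfsg.Agent.Lib.Helper5.J3FusA
import Cfsg.Agent.Lib.Lead.Co3.Cent

/-!
# The centraliser of a 2A-involution of `Co₃` is perfect

Lead's `Co3P.H = closure {c1, c2}` is the centraliser of the involution `z1` in the group `P` of permutations of 276
points.  The generator `c1` is the commutator of `c2` and an explicit word, and `(c1⁴ c2)⁴ = (c1⁶ c2)⁹ = 1`, so the
image of `c2` in the abelianisation is trivial as well.
-/

set_option autoImplicit false
set_option maxRecDepth 100000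

namespace Cfsg.Agent.Lib.Helper5.Co3Mult

open scoped commutatorElement

open Cfsg.Agent.PG
open Cfsg.Agent.Co3P (P z1 c1 c2 cc1 cc2 cc1i cc2i enc_zs enc_c1i enc_c2i c1_comm c2_comm mem_H_of_comm H enc_inv)
open Cfsg.Agent.Lib.Helper5.J3Mult (Cz)
open Cfsg.Agent.Lib.Helper5.J3Fus (strictN strictN_eq)

theorem n_le' : (276 : ℕ) ≤ 512 := by norm_num

/-- the word whose commutator with `c2` is `c1` -/
def wV : List ℕ := [0, 1, 0, 0, 1, 2, 2, 1, 1, 0, 0]

/-- the words `c1⁴ c2` four times and `c1⁶ c2` nine times -/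
def w4 : List ℕ := [0, 0, 0, 0, 1, 0, 0, 0, 0, 1, 0, 0, 0, 0, 1, 0, 0, 0, 0, 1]
def w9 : List ℕ := [0, 0, 0, 0, 0, 0, 1, 0, 0, 0, 0, 0, 0, 1, 0, 0, 0, 0, 0, 0, 1, 0, 0, 0, 0, 0, 0, 1,
  0, 0, 0, 0, 0, 0, 1, 0, 0, 0, 0, 0, 0, 1, 0, 0, 0, 0, 0, 0, 1, 0, 0, 0, 0, 0, 0, 1, 0, 0, 0, 0, 0, 0, 1]

/-- the codes of the letters `c1, c2, c1⁻¹, c2⁻¹` -/
def letKc : ℕ → ℕ
  | 0 => cc1
  | 1 => cc2
  | 2 => cc1i
  | 3 => cc2i
  | _ => pone 276

/-- the product of the codes of the letters of a word -/
noncomputable def wordK (w : List ℕ) : ℕ :=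
  List.rec (motive := fun _ => ℕ) (pone 276)
    (fun l _ ih => strictN ih fun v => pmul 276 (letKc l) v) w

theorem wordK_nil : wordK [] = pone 276 := rfl

theorem wordK_cons (l : ℕ) (w : List ℕ) : wordK (l :: w) = pmul 276 (letKc l) (wordK w) := by
  show strictN (wordK w) (fun v => pmul 276 (letKc l) v) = _
  rw [strictN_eq]

theorem chk_perf : Nat.beq (pmul 276 (pmul 276 (pmul 276 cc2 (wordK wV)) cc2i) (pinv 276 (wordK wV))) cc1 = true ∧
    Nat.beq (wordK w4) (pone 276) = true ∧ Nat.beq (wordK w9) (pone 276) = true := by decide +kernel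

/-- the letters -/
noncomputable def letK : ℕ → ↥P
  | 0 => c1
  | 1 => c2
  | 2 => c1⁻¹
  | 3 => c2⁻¹
  | _ => 1

theorem enc_one_P : enc 276 ((1 : ↥P) : Equiv.Perm (Fin 276)) = pone 276 := by
  rw [pone_eq]; rfl

theorem enc_letK : ∀ l : ℕ, enc 276 (letK l).1 = letKc l
  | 0 => by simp only [letK, letKc]; exact enc_zs.2.1
  | 1 => by simp only [letK, letKc]; exact enc_zs.2.2.1
  | 2 => by simp only [letK, letKc]; exact enc_c1i
  | 3 => by simp only [letK, letKc]; exact enc_c2i
  | (l + 4) => by simp only [letK, letKc]; exact enc_one_P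

theorem inv_comm {x : ↥P} (h : x * z1 = z1 * x) : x⁻¹ * z1 = z1 * x⁻¹ := by
  rw [inv_mul_eq_iff_eq_mul, ← mul_assoc, h, mul_assoc, mul_inv_cancel, mul_one]

theorem letK_comm : ∀ l : ℕ, letK l * z1 = z1 * letK l
  | 0 => by simp only [letK]; exact c1_comm
  | 1 => by simp only [letK]; exact c2_comm
  | 2 => by simp only [letK]; exact inv_comm c1_comm
  | 3 => by simp only [letK]; exact inv_comm c2_comm
  | (l + 4) => by simp only [letK]; rw [one_mul, mul_one]

theorem enc_evalK : ∀ w : List ℕ, enc 276 ((w.map letK).prod).1 = wordK w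
  | [] => by
    rw [List.map_nil, List.prod_nil, wordK_nil]; exact enc_one_P
  | l :: w => by
    rw [List.map_cons, List.prod_cons, Subgroup.coe_mul, ← pmul_enc n_le', enc_letK, enc_evalK w, wordK_cons]

/-- the letters in the centraliser -/
noncomputable def letC (l : ℕ) : ↥(Cz z1) :=
  ⟨letK l, Subgroup.mem_centralizer_singleton_iff.2 (letK_comm l)⟩

theorem coe_letC (l : ℕ) : ((letC l : ↥(Cz z1)) : ↥P) = letK l := rfl

theorem coe_prod_letC (w : List ℕ) : (((w.map letC).prod : ↥(Cz z1)) : ↥P) = (w.map letK).prod := by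
  induction w with
  | nil => rfl
  | cons l w ih => rw [List.map_cons, List.prod_cons, Subgroup.coe_mul, ih, List.map_cons, List.prod_cons, coe_letC]

theorem letK_zero : letK 0 = c1 := by simp only [letK]
theorem letK_one : letK 1 = c2 := by simp only [letK]

/-- `c1` is a commutator in the centraliser -/
theorem c1_mem_commutator : letC 0 ∈ commutator ↥(Cz z1) := by
  set v : ↥(Cz z1) := (wV.map letC).prod with hv
  have hv' : enc 276 ((v : ↥P)).1 = wordK wV := by rw [hv, coe_prod_letC, enc_evalK]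
  have h : letC 0 = ⁅letC 1, v⁆ := by
    apply Subtype.ext
    rw [commutatorElement_def, Subgroup.coe_mul, Subgroup.coe_mul, Subgroup.coe_mul, Subgroup.coe_inv,
      Subgroup.coe_inv, coe_letC, coe_letC, letK_zero, letK_one]
    apply Subtype.ext
    apply enc_injective n_le'
    rw [Subgroup.coe_mul, Subgroup.coe_mul, Subgroup.coe_mul, ← pmul_enc n_le', ← pmul_enc n_le',
      ← pmul_enc n_le', enc_inv (v : ↥P), hv', enc_c2i, enc_zs.2.2.1, enc_zs.2.1]
    exact (Nat.eq_of_beq_eq_true chk_perf.1).symm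
  rw [h]
  exact Subgroup.commutator_mem_commutator (Subgroup.mem_top _) (Subgroup.mem_top _)

/-- the image in a commutative group of a word in the letters `c1, c2`, when the image of `c1` is trivial -/
theorem map_word {A : Type*} [CommGroup A] (φ : ↥(Cz z1) →* A) (h1 : φ (letC 0) = 1) :
    ∀ w : List ℕ, (∀ l ∈ w, l < 2) → φ ((w.map letC).prod) = φ (letC 1) ^ w.count 1
  | [], _ => by simp
  | l :: w, hw => by
    have ih := map_word φ h1 w (fun l' hl' => hw l' (List.mem_cons_of_mem _ hl'))
    have hl : l < 2 := hw l List.mem_cons_self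
    rw [List.map_cons, List.prod_cons, map_mul, ih]
    rcases l with _ | _ | l
    · rw [h1, one_mul]
      simp
    · rw [List.count_cons_self, pow_succ, mul_comm]
    · omega

theorem prod_eq_one_of_code {w : List ℕ} (h : Nat.beq (wordK w) (pone 276) = true) :
    (w.map letC).prod = 1 := by
  apply Subtype.ext
  apply Subtype.ext
  apply enc_injective n_le'
  rw [coe_prod_letC, enc_evalK, Nat.eq_of_beq_eq_true h, pone_eq]
  rfl

/-- `c2` is in the commutator subgroup of the centraliser -/
theorem c2_mem_commutator : letC 1 ∈ commutator ↥(Cz z1) := by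
  rw [← Abelianization.ker_of, MonoidHom.mem_ker]
  set φ := (Abelianization.of : ↥(Cz z1) →* Abelianization ↥(Cz z1)) with hφ
  have h1 : φ (letC 0) = 1 := by
    rw [← MonoidHom.mem_ker, Abelianization.ker_of]
    exact c1_mem_commutator
  have e4 := map_word φ h1 w4 (by decide)
  have e9 := map_word φ h1 w9 (by decide)
  rw [prod_eq_one_of_code chk_perf.2.1, map_one] at e4
  rw [prod_eq_one_of_code chk_perf.2.2, map_one] at e9
  have c4 : w4.count 1 = 4 := by decide
  have c9 : w9.count 1 = 9 := by decide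
  rw [c4] at e4
  rw [c9] at e9
  have := pow_gcd_eq_one.2 ⟨e4.symm, e9.symm⟩
  have hg : Nat.gcd 4 9 = 1 := by norm_num
  rw [hg, pow_one] at this
  exact this

/-- **the centraliser of `z1` is perfect** -/
theorem perfect_Cz_z1 : commutator ↥(Cz z1) = ⊤ := by
  rw [Subgroup.eq_top_iff']
  -- every element of the centraliser is a product of the two generators
  have key : ∀ p ∈ H, ∀ (hp : p ∈ P) (hc : (⟨p, hp⟩ : ↥P) ∈ Cz z1),
      (⟨⟨p, hp⟩, hc⟩ : ↥(Cz z1)) ∈ commutator ↥(Cz z1) := by
    intro p hpH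
    unfold H at hpH
    induction hpH using Subgroup.closure_induction with
    | mem p hp' =>
      intro hp hc
      rcases hp' with rfl | hp'
      · have e : (⟨⟨c1.1, hp⟩, hc⟩ : ↥(Cz z1)) = letC 0 :=
          Subtype.ext (Subtype.ext (by rw [coe_letC, letK_zero]))
        rw [e]
        exact c1_mem_commutator
      · rw [Set.mem_singleton_iff] at hp'
        subst hp'
        have e : (⟨⟨c2.1, hp⟩, hc⟩ : ↥(Cz z1)) = letC 1 :=
          Subtype.ext (Subtype.ext (by rw [coe_letC, letK_one]))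
        rw [e]
        exact c2_mem_commutator
    | one =>
      intro hp hc
      exact Subgroup.one_mem _
    | mul a b ha hb iha ihb =>
      intro hp hc
      have haP : a ∈ P := Cfsg.Agent.Co3P.H_le ha
      have hbP : b ∈ P := Cfsg.Agent.Co3P.H_le hb
      have hac : (⟨a, haP⟩ : ↥P) ∈ Cz z1 := by
        rw [Subgroup.mem_centralizer_singleton_iff]
        apply Subtype.ext
        have := Cfsg.Agent.Co3P.H_le_cent ha
        rw [Subgroup.mem_centralizer_singleton_iff] at this
        exact this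
      have hbc : (⟨b, hbP⟩ : ↥P) ∈ Cz z1 := by
        rw [Subgroup.mem_centralizer_singleton_iff]
        apply Subtype.ext
        have := Cfsg.Agent.Co3P.H_le_cent hb
        rw [Subgroup.mem_centralizer_singleton_iff] at this
        exact this
      exact Subgroup.mul_mem _ (iha haP hac) (ihb hbP hbc)
    | inv a ha iha =>
      intro hp hc
      have haP : a ∈ P := Cfsg.Agent.Co3P.H_le ha
      have hac : (⟨a, haP⟩ : ↥P) ∈ Cz z1 := by
        rw [Subgroup.mem_centralizer_singleton_iff]
        apply Subtype.ext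
        have := Cfsg.Agent.Co3P.H_le_cent ha
        rw [Subgroup.mem_centralizer_singleton_iff] at this
        exact this
      exact Subgroup.inv_mem _ (iha haP hac)
  rintro ⟨⟨p, hp⟩, hc⟩
  have hcomm : (⟨p, hp⟩ : ↥P) * z1 = z1 * ⟨p, hp⟩ := by
    rw [Subgroup.mem_centralizer_singleton_iff] at hc
    exact hc
  exact key p (mem_H_of_comm ⟨p, hp⟩ hcomm) hp hc

end Cfsg.Agent.Lib.Helper5.Co3Mult
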