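import Cfsg.Agent.Lib.Helper5.Co3MultD
import Cfsg.Agent.Lib.Helper5.Co3MultP
import Cfsg.Agent.Lib.Lead.Co3.Iso
import Cfsg.Agent.H1.StemMeta

/-!
# The Schur multiplier of the third Conway group is trivial

The base involution `tz` of `Co3MultD` is conjugate to lead's `z1`, whose centraliser is perfect (`Co3MultP`); so every
finite stem extension of the group `P` of permutations of 276 points has at most `|P|` elements, hence is an
isomorphism; the same holds for `Co₃`, which is isomorphic to `P`.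
-/

set_option autoImplicit false

namespace Cfsg.Agent.Lib.Helper5.Co3Mult

open Cfsg Cfsg.Agent.PG
open Cfsg.Agent.Co3P (P z1 enc_zs card_P co3Equiv)
open Cfsg.Agent.Lib.Helper5.J3Mult (Cz)

/-- the word conjugating the base involution to `z1` -/
def wZ : List ℕ := [2, 1, 1, 1, 2, 2, 1, 0, 3, 0]

set_option maxRecDepth 100000 in
theorem chk_wz : conjWord wZ = Cfsg.Agent.Co3P.cz := by decide +kernel

theorem z1_conj : ∃ w : ↥P, z1 = w * tz * w⁻¹ := by
  have h := conjZ_conjWord wZ
  rw [chk_wz] at h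
  obtain ⟨_, w, hw⟩ := h
  exact ⟨w, by rw [← hw]; exact (el_eq enc_zs.1).symm⟩

theorem perfect_of_surj {A B : Type*} [Group A] [Group B] (f : A →* B)
    (hf : Function.Surjective f) (hA : commutator A = ⊤) : commutator B = ⊤ := by
  have h1 : Subgroup.map f (commutator A) = commutator B := by
    rw [commutator_def, commutator_def, Subgroup.map_commutator, ← MonoidHom.range_eq_map,
      MonoidHom.range_eq_top.2 hf]
  rw [← h1, hA, ← MonoidHom.range_eq_map, MonoidHom.range_eq_top.2 hf]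

/-- conjugation carries the centraliser of `t` onto the centraliser of a conjugate of `t` -/
theorem perfect_conj {G : Type*} [Group G] (t g : G) (h : commutator ↥(Cz t) = ⊤) :
    commutator ↥(Cz (g * t * g⁻¹)) = ⊤ := by
  have hmem : ∀ x : ↥(Cz t), g * (x : G) * g⁻¹ ∈ Cz (g * t * g⁻¹) := by
    intro x
    have hx := Subgroup.mem_centralizer_singleton_iff.1 x.2
    rw [Subgroup.mem_centralizer_singleton_iff]
    calc g * (x : G) * g⁻¹ * (g * t * g⁻¹) = g * ((x : G) * t) * g⁻¹ := by group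
      _ = g * (t * (x : G)) * g⁻¹ := by rw [hx]
      _ = g * t * g⁻¹ * (g * (x : G) * g⁻¹) := by group
  let φ : ↥(Cz t) →* ↥(Cz (g * t * g⁻¹)) :=
    { toFun := fun x => ⟨g * (x : G) * g⁻¹, hmem x⟩
      map_one' := by
        apply Subtype.ext
        show g * ((1 : ↥(Cz t)) : G) * g⁻¹ = 1
        rw [Subgroup.coe_one, mul_one, mul_inv_cancel]
      map_mul' := fun x y => by
        apply Subtype.ext
        show g * ((x * y : ↥(Cz t)) : G) * g⁻¹ = g * (x : G) * g⁻¹ * (g * (y : G) * g⁻¹)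
        rw [Subgroup.coe_mul]
        group }
  apply perfect_of_surj φ _ h
  intro y
  have hy := Subgroup.mem_centralizer_singleton_iff.1 y.2
  have hx : g⁻¹ * (y : G) * g ∈ Cz t := by
    rw [Subgroup.mem_centralizer_singleton_iff]
    calc g⁻¹ * (y : G) * g * t = g⁻¹ * ((y : G) * (g * t * g⁻¹)) * g := by group
      _ = g⁻¹ * (g * t * g⁻¹ * (y : G)) * g := by rw [hy]
      _ = t * (g⁻¹ * (y : G) * g) := by group
  refine ⟨⟨_, hx⟩, Subtype.ext ?_⟩
  show g * (g⁻¹ * (y : G) * g) * g⁻¹ = (y : G)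
  group

/-- **the centraliser of the base involution is perfect** -/
theorem perfect_Cz_tz : commutator ↥(Cz tz) = ⊤ := by
  obtain ⟨w, hw⟩ := z1_conj
  have e : tz = w⁻¹ * z1 * w⁻¹⁻¹ := by
    rw [hw]
    group
  rw [e]
  exact perfect_conj z1 w⁻¹ perfect_Cz_z1

/-- **every finite stem extension of `P` is an isomorphism** -/
theorem ker_eq_bot_P {Γ : Type*} [Group Γ] [Finite Γ] (σ : Γ →* ↥P) (hσ : IsStemExtension σ) :
    σ.ker = ⊥ := by
  have hle := card_stem_le perfect_Cz_tz σ hσ.1 hσ.2.1 hσ.2.2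
  have h1 : Nat.card Γ = Nat.card (Γ ⧸ σ.ker) * Nat.card σ.ker :=
    Subgroup.card_eq_card_quotient_mul_card_subgroup σ.ker
  have h2 : Nat.card (Γ ⧸ σ.ker) = Nat.card ↥P :=
    Nat.card_congr (QuotientGroup.quotientKerEquivOfSurjective σ hσ.1).toEquiv
  rw [h2, card_P] at h1
  have h3 : Nat.card σ.ker ≤ 1 := by
    by_contra hcon
    have : 2 ≤ Nat.card σ.ker := by omega
    nlinarith
  exact Subgroup.eq_bot_of_card_le σ.ker h3

/-- **the Schur multiplier of `Co₃` is trivial** -/
theorem multiplier_Co3 : HasCyclicSchurMultiplier ↥Cfsg.Spor.Co3 1 := by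
  have hfin : Finite ↥P := Nat.finite_of_card_ne_zero (by rw [card_P]; norm_num)
  have : Finite ↥Cfsg.Spor.Co3 := Finite.of_equiv _ co3Equiv.symm.toEquiv
  apply Cfsg.Agent.H1.hasCyclicSchurMultiplier_one_of_ker_eq_bot
  intro Γ _ _ σ hσ
  have hσ' : IsStemExtension (co3Equiv.toMonoidHom.comp σ) := by
    have hk : (co3Equiv.toMonoidHom.comp σ).ker = σ.ker := by
      ext x
      rw [MonoidHom.mem_ker, MonoidHom.mem_ker, MonoidHom.comp_apply]
      exact co3Equiv.map_eq_one_iff
    refine ⟨co3Equiv.surjective.comp hσ.1, ?_, ?_⟩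
    · rw [hk]; exact hσ.2.1
    · rw [hk]; exact hσ.2.2
  have h := ker_eq_bot_P _ hσ'
  have hk : (co3Equiv.toMonoidHom.comp σ).ker = σ.ker := by
    ext x
    rw [MonoidHom.mem_ker, MonoidHom.mem_ker, MonoidHom.comp_apply]
    exact co3Equiv.map_eq_one_iff
  rw [← hk]
  exact h

end Cfsg.Agent.Lib.Helper5.Co3Mult
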