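import Mathlib

/-! Data for the Schur multiplier of `Co₃` (generated by a script): coincidences of the large certificate, part 1. -/

set_option autoImplicit false

namespace Cfsg.Agent.Lib.Helper5.Co3Mult

def rel4_1 : List (List ℕ × ℕ × List ℕ × ℕ) := [
  ([4, 2, 0, 1, 3, 0], 3, [4, 2, 0, 1, 0, 3], 3), ([1, 4, 0, 1, 3, 0], 0, [1, 4, 0, 1, 0, 3], 0), ([4, 0, 3, 1, 2, 3], 1, [0, 3, 4, 1, 0, 2], 1), ([0, 3, 4, 2, 0, 2], 1, [4, 3, 1, 2, 0, 3], 0),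
  ([1, 4, 1, 3, 4, 0], 3, [0, 3, 4, 2, 4, 3], 1), ([0, 4, 0, 1, 3, 2], 1, [0, 4, 0, 1, 2, 3], 1), ([0, 4, 0, 2, 3, 0], 1, [0, 4, 0, 2, 0, 3], 1), ([0, 4, 2, 0, 3, 2], 1, [0, 4, 0, 2, 0, 3], 1),
  ([4, 0, 2, 4, 2, 4], 1, [0, 4, 0, 2, 4, 2], 1), ([4, 0, 1, 4, 0, 4], 1, [4, 0, 1, 0, 4, 0], 1), ([0, 4, 3, 1, 0, 1], 1, [0, 4, 1, 0, 1, 3], 1), ([0, 4, 1, 0, 3, 2], 1, [0, 4, 1, 0, 2, 3], 1),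
  ([0, 4, 2, 1, 2, 1], 1, [0, 4, 1, 2, 1, 2], 1), ([0, 4, 2, 4, 0, 4], 1, [0, 4, 2, 0, 4, 0], 1), ([0, 4, 2, 4, 1, 4], 1, [0, 4, 2, 1, 4, 1], 1), ([0, 4, 2, 4, 3, 4], 1, [0, 4, 2, 3, 4, 3], 1),
  ([0, 4, 2, 4, 3, 0], 1, [0, 4, 2, 4, 0, 3], 1), ([0, 4, 3, 1, 3, 0], 1, [0, 4, 3, 1, 0, 3], 1), ([0, 4, 3, 1, 3, 2], 1, [0, 4, 3, 1, 2, 3], 1), ([2, 4, 3, 1, 3, 4], 1, [0, 4, 3, 1, 2, 3], 1),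
  ([2, 4, 3, 1, 4, 3], 1, [0, 4, 3, 1, 2, 4], 1), ([1, 2, 0, 3, 1, 3], 0, [1, 2, 0, 1, 3, 1], 0), ([1, 2, 0, 4, 1, 4], 0, [1, 2, 0, 1, 4, 1], 0), ([2, 1, 0, 1, 3, 2], 0, [2, 1, 0, 1, 2, 3], 0),
  ([2, 1, 0, 4, 1, 4], 0, [2, 1, 0, 1, 4, 1], 0), ([2, 1, 3, 4, 0, 4], 0, [2, 1, 0, 3, 4, 0], 0), ([2, 1, 0, 3, 4, 1], 0, [1, 2, 0, 3, 1, 0], 0), ([2, 1, 0, 4, 3, 4], 0, [2, 1, 0, 3, 4, 3], 0),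
  ([2, 1, 0, 4, 3, 0], 0, [2, 1, 0, 4, 0, 3], 0), ([2, 1, 0, 4, 3, 2], 0, [2, 1, 0, 4, 2, 3], 0), ([1, 4, 3, 1, 2, 0], 2, [3, 1, 2, 0, 1, 2], 1), ([2, 1, 0, 1, 3, 2], 4, [2, 4, 0, 1, 2, 0], 1),
  ([1, 0, 1, 2, 3, 0], 2, [1, 0, 1, 2, 0, 3], 2), ([2, 0, 1, 2, 3, 0], 4, [2, 0, 1, 2, 0, 3], 4), ([4, 0, 1, 2, 3, 0], 1, [4, 0, 1, 2, 0, 3], 1), ([4, 0, 1, 2, 3, 0], 2, [4, 0, 1, 2, 0, 3], 2),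
  ([2, 1, 0, 1, 2, 3], 4, [2, 4, 0, 1, 2, 0], 1), ([2, 1, 0, 1, 2, 0], 4, [2, 4, 0, 1, 2, 3], 1), ([1, 2, 3, 4, 0, 4], 0, [1, 2, 0, 3, 4, 0], 0), ([1, 2, 0, 4, 3, 4], 0, [1, 2, 0, 3, 4, 3], 0),
  ([4, 0, 2, 1, 3, 0], 2, [4, 0, 2, 1, 0, 3], 2), ([1, 2, 1, 0, 1, 3], 3, [1, 2, 1, 0, 3, 1], 0), ([1, 0, 2, 4, 1, 4], 2, [1, 0, 1, 2, 4, 1], 2), ([1, 0, 1, 4, 3, 4], 2, [1, 0, 1, 3, 4, 3], 2),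
  ([1, 0, 1, 4, 3, 2], 2, [1, 0, 1, 4, 2, 3], 2), ([4, 2, 0, 1, 2, 1], 1, [3, 1, 4, 0, 2, 0], 1), ([4, 0, 2, 0, 1, 2], 1, [3, 1, 4, 2, 0, 1], 1), ([3, 4, 2, 0, 1, 2], 1, [3, 4, 0, 2, 0, 1], 1),
  ([1, 0, 2, 4, 3, 2], 2, [1, 0, 2, 4, 2, 3], 2), ([1, 0, 4, 2, 4, 2], 2, [1, 0, 2, 4, 2, 4], 2), ([1, 0, 3, 1, 3, 2], 2, [1, 0, 3, 1, 2, 3], 2), ([1, 0, 3, 4, 1, 4], 2, [1, 0, 3, 1, 4, 1], 2),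
  ([1, 0, 3, 4, 3, 2], 2, [1, 0, 3, 4, 2, 3], 2), ([1, 0, 4, 0, 3, 2], 2, [1, 0, 4, 0, 2, 3], 2), ([1, 0, 4, 1, 0, 1], 2, [4, 2, 0, 1, 2, 3], 1), ([1, 0, 4, 1, 3, 0], 2, [1, 0, 4, 1, 0, 3], 2),
  ([1, 0, 4, 1, 3, 2], 2, [1, 0, 4, 1, 2, 3], 2), ([1, 0, 2, 1, 2, 1], 3, [1, 0, 1, 2, 1, 2], 3), ([4, 0, 2, 1, 2, 1], 1, [4, 0, 1, 2, 1, 2], 1), ([4, 0, 2, 1, 2, 1], 2, [4, 0, 1, 2, 1, 2], 2),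
  ([1, 4, 2, 3, 1, 0], 2, [1, 2, 1, 2, 3, 1], 0), ([2, 0, 1, 2, 3, 1], 1, [1, 3, 1, 2, 1, 0], 0), ([4, 1, 2, 1, 4, 0], 0, [1, 2, 3, 1, 2, 1], 0), ([2, 0, 1, 2, 1, 3], 4, [1, 2, 3, 1, 3, 4], 0),
  ([1, 2, 1, 4, 3, 4], 0, [1, 2, 1, 3, 4, 3], 0), ([1, 2, 1, 4, 3, 0], 0, [1, 2, 1, 4, 0, 3], 0), ([4, 1, 2, 1, 3, 0], 0, [4, 1, 2, 1, 0, 3], 0), ([1, 2, 1, 4, 3, 2], 0, [1, 2, 1, 4, 2, 3], 0),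
  ([4, 1, 2, 1, 3, 0], 2, [4, 1, 2, 1, 0, 3], 2), ([2, 0, 1, 2, 1, 4], 4, [1, 2, 3, 1, 4, 3], 0), ([1, 2, 3, 1, 2, 3], 3, [1, 2, 3, 1, 0, 2], 0), ([1, 2, 3, 1, 3, 2], 0, [1, 2, 3, 1, 2, 3], 0),
  ([1, 2, 3, 4, 1, 4], 0, [1, 2, 3, 1, 4, 1], 0), ([4, 1, 0, 1, 3, 2], 0, [4, 1, 0, 1, 2, 3], 0), ([4, 1, 0, 1, 3, 2], 3, [4, 1, 0, 1, 2, 3], 3), ([4, 2, 0, 1, 3, 2], 1, [4, 2, 0, 1, 2, 3], 1),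
  ([1, 4, 0, 1, 3, 2], 0, [1, 4, 0, 1, 2, 3], 0), ([1, 4, 0, 1, 3, 2], 2, [1, 4, 0, 1, 2, 3], 2), ([2, 4, 0, 1, 3, 2], 0, [2, 4, 0, 1, 2, 3], 0), ([1, 2, 3, 4, 3, 2], 0, [1, 2, 3, 4, 2, 3], 0),
  ([1, 2, 4, 2, 0, 2], 0, [1, 2, 4, 0, 2, 0], 0), ([1, 2, 4, 0, 3, 2], 0, [1, 2, 4, 0, 2, 3], 0), ([4, 2, 1, 2, 0, 2], 0, [4, 2, 1, 0, 2, 0], 0), ([4, 2, 1, 4, 0, 4], 0, [4, 2, 1, 0, 4, 0], 0),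
  ([1, 4, 2, 1, 3, 0], 2, [1, 4, 2, 1, 0, 3], 2), ([4, 1, 2, 0, 4, 0], 2, [1, 4, 2, 1, 0, 4], 2), ([2, 1, 0, 4, 3, 4], 4, [2, 1, 0, 3, 4, 3], 4), ([2, 1, 0, 4, 3, 2], 4, [2, 1, 0, 4, 2, 3], 4),
  ([2, 4, 2, 1, 3, 0], 1, [2, 4, 2, 1, 0, 3], 1), ([1, 4, 2, 4, 3, 2], 0, [1, 2, 4, 2, 4, 3], 0), ([4, 2, 1, 4, 0, 4], 3, [4, 2, 1, 0, 4, 0], 3), ([4, 1, 0, 3, 1, 3], 3, [4, 1, 0, 3, 1, 0], 0),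
  ([2, 0, 3, 1, 3, 0], 1, [2, 0, 3, 1, 0, 3], 1), ([4, 0, 3, 1, 3, 0], 2, [4, 0, 3, 1, 0, 3], 2), ([1, 0, 1, 4, 3, 0], 3, [1, 0, 1, 4, 0, 3], 3), ([1, 0, 1, 4, 3, 2], 3, [1, 0, 1, 4, 2, 3], 3),
  ([1, 0, 2, 4, 0, 4], 3, [1, 0, 2, 0, 4, 0], 3), ([2, 0, 1, 4, 0, 2], 4, [1, 0, 2, 1, 3, 4], 3), ([1, 0, 2, 4, 3, 4], 3, [1, 0, 2, 3, 4, 3], 3), ([1, 0, 2, 4, 3, 0], 3, [1, 0, 2, 4, 0, 3], 3),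
  ([1, 0, 2, 4, 3, 2], 3, [1, 0, 2, 4, 2, 3], 3), ([1, 0, 3, 4, 1, 4], 3, [1, 0, 3, 1, 4, 1], 3), ([1, 4, 0, 3, 4, 3], 3, [1, 0, 4, 0, 3, 4], 3), ([1, 0, 4, 2, 3, 0], 3, [1, 0, 4, 2, 0, 3], 3),
  ([2, 1, 3, 1, 3, 0], 0, [2, 1, 3, 1, 0, 2], 0), ([1, 3, 1, 4, 0, 4], 2, [1, 3, 1, 0, 4, 0], 2), ([1, 3, 1, 4, 3, 4], 0, [1, 3, 1, 3, 4, 3], 0), ([1, 3, 4, 0, 3, 2], 0, [1, 3, 4, 0, 2, 3], 0),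
  ([1, 4, 0, 3, 4, 0], 0, [1, 3, 4, 0, 3, 4], 0), ([4, 1, 0, 4, 3, 4], 3, [4, 3, 1, 0, 2, 0], 0), ([1, 3, 4, 1, 3, 2], 0, [1, 3, 4, 1, 2, 3], 0), ([4, 3, 1, 2, 0, 2], 1, [4, 3, 1, 0, 2, 0], 1),
  ([1, 3, 4, 2, 3, 0], 0, [1, 3, 4, 2, 0, 3], 0), ([2, 1, 3, 4, 2, 4], 4, [2, 4, 3, 1, 0, 1], 1), ([2, 4, 3, 1, 3, 0], 1, [2, 4, 3, 1, 0, 3], 1), ([4, 3, 1, 3, 4, 3], 2, [4, 3, 1, 0, 4, 0], 2),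
  ([4, 3, 1, 3, 4, 0], 2, [4, 3, 1, 0, 4, 3], 2), ([2, 0, 1, 4, 3, 4], 1, [2, 0, 1, 3, 4, 3], 1), ([2, 0, 1, 4, 3, 4], 4, [2, 0, 1, 3, 4, 3], 4), ([4, 0, 1, 4, 3, 4], 1, [4, 0, 1, 3, 4, 3], 1),
  ([4, 0, 1, 4, 3, 4], 2, [4, 0, 1, 3, 4, 3], 2), ([1, 4, 2, 0, 3, 2], 0, [1, 4, 0, 2, 0, 3], 0), ([1, 2, 3, 4, 3, 0], 3, [4, 0, 1, 4, 0, 2], 2), ([1, 2, 3, 4, 0, 3], 3, [4, 0, 1, 4, 0, 2], 2),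
  ([2, 0, 1, 4, 3, 0], 1, [2, 0, 1, 4, 0, 3], 1), ([1, 2, 3, 4, 0, 2], 3, [4, 0, 1, 4, 0, 3], 2), ([4, 1, 2, 0, 3, 2], 0, [4, 1, 0, 2, 0, 3], 0), ([4, 1, 0, 2, 4, 3], 0, [4, 1, 0, 2, 4, 2], 0),
  ([4, 1, 3, 4, 0, 4], 0, [4, 1, 0, 3, 4, 0], 0), ([4, 1, 0, 4, 3, 4], 0, [4, 1, 0, 3, 4, 3], 0), ([1, 4, 1, 2, 0, 2], 0, [1, 4, 1, 0, 2, 0], 0), ([1, 4, 1, 0, 3, 2], 0, [1, 4, 1, 0, 2, 3], 0),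
  ([1, 4, 1, 0, 2, 1], 2, [2, 0, 3, 1, 2, 3], 1), ([4, 1, 0, 4, 3, 0], 2, [1, 4, 1, 0, 4, 3], 2), ([4, 1, 2, 4, 2, 4], 0, [1, 4, 1, 2, 4, 2], 0), ([3, 4, 1, 0, 4, 0], 1, [3, 1, 4, 1, 0, 4], 1),
  ([4, 1, 3, 4, 2, 3], 0, [1, 4, 1, 3, 4, 2], 0), ([3, 4, 0, 1, 4, 1], 1, [4, 3, 1, 3, 1, 4], 0), ([4, 1, 0, 4, 1, 4], 2, [4, 1, 0, 1, 4, 1], 2), ([4, 2, 0, 4, 1, 4], 3, [4, 2, 0, 1, 4, 1], 3),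
  ([1, 2, 3, 4, 3, 2], 3, [4, 0, 1, 4, 2, 0], 2), ([2, 4, 1, 0, 3, 2], 0, [2, 4, 1, 0, 2, 3], 0), ([1, 2, 3, 4, 2, 3], 3, [4, 0, 1, 4, 2, 0], 2), ([1, 4, 2, 1, 3, 2], 0, [1, 4, 2, 1, 2, 3], 0),
  ([1, 2, 3, 4, 2, 0], 3, [4, 0, 1, 4, 2, 3], 2), ([2, 0, 1, 4, 3, 2], 1, [2, 0, 1, 4, 2, 3], 1), ([4, 0, 1, 4, 3, 2], 2, [4, 0, 1, 4, 2, 3], 2), ([1, 4, 2, 4, 3, 4], 0, [1, 4, 2, 3, 4, 3], 0),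
  ([4, 1, 2, 0, 3, 2], 2, [4, 1, 0, 2, 0, 3], 2), ([4, 1, 0, 2, 1, 4], 2, [4, 1, 0, 2, 1, 3], 2), ([1, 4, 2, 4, 1, 0], 3, [2, 1, 4, 2, 3, 4], 0), ([1, 4, 3, 1, 3, 2], 0, [1, 4, 3, 1, 2, 3], 0),
  ([3, 4, 1, 2, 0, 2], 1, [3, 4, 1, 0, 2, 0], 1), ([2, 0, 4, 2, 0, 2], 1, [2, 0, 4, 0, 2, 0], 1), ([2, 1, 4, 2, 0, 2], 0, [2, 1, 4, 0, 2, 0], 0), ([1, 3, 4, 2, 0, 2], 2, [1, 3, 4, 0, 2, 0], 2),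
  ([1, 4, 0, 2, 3, 0], 2, [1, 4, 0, 2, 0, 3], 2), ([1, 4, 0, 2, 3, 0], 3, [1, 4, 0, 2, 0, 3], 3), ([2, 4, 2, 0, 3, 2], 1, [2, 4, 0, 2, 0, 3], 1), ([3, 4, 0, 2, 1, 4], 1, [2, 0, 3, 1, 3, 1], 1),
  ([3, 4, 0, 2, 4, 1], 1, [2, 0, 3, 1, 3, 4], 1), ([2, 0, 3, 4, 3, 2], 1, [2, 0, 3, 4, 2, 3], 1), ([2, 0, 4, 0, 3, 2], 1, [2, 0, 4, 0, 2, 3], 1), ([2, 0, 4, 1, 3, 2], 1, [2, 0, 4, 1, 2, 3], 1),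
  ([2, 4, 2, 3, 1, 2], 1, [2, 0, 4, 2, 3, 1], 1), ([2, 4, 3, 1, 3, 2], 1, [2, 0, 4, 3, 1, 3], 1), ([4, 0, 2, 1, 3, 2], 2, [4, 0, 2, 1, 2, 3], 2), ([4, 2, 1, 2, 3, 0], 0, [4, 2, 1, 2, 0, 3], 0),
  ([1, 2, 3, 4, 0, 4], 3, [1, 2, 0, 3, 4, 0], 3), ([2, 1, 3, 4, 3, 0], 0, [2, 1, 3, 4, 0, 3], 0), ([4, 3, 1, 2, 3, 0], 1, [4, 3, 1, 2, 0, 3], 1), ([4, 1, 2, 4, 0, 4], 0, [4, 1, 2, 0, 4, 0], 0),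
  ([4, 0, 2, 4, 1, 4], 1, [4, 0, 2, 1, 4, 1], 1), ([4, 0, 2, 4, 1, 4], 2, [4, 0, 2, 1, 4, 1], 2), ([4, 2, 4, 1, 2, 0], 3, [2, 1, 4, 3, 1, 4], 0), ([1, 2, 4, 0, 3, 2], 3, [1, 2, 4, 0, 2, 3], 3),
  ([4, 0, 2, 4, 3, 4], 1, [4, 0, 2, 3, 4, 3], 1), ([4, 2, 3, 4, 0, 4], 0, [4, 2, 0, 3, 4, 0], 0), ([2, 4, 2, 1, 2, 1], 0, [2, 4, 1, 2, 1, 2], 0), ([4, 2, 0, 4, 3, 4], 1, [4, 2, 0, 3, 4, 3], 1),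
  ([2, 4, 2, 4, 0, 4], 1, [2, 4, 2, 0, 4, 0], 1), ([2, 4, 3, 1, 3, 2], 0, [2, 4, 3, 1, 2, 3], 0), ([1, 2, 1, 4, 3, 0], 3, [1, 2, 1, 4, 0, 3], 3), ([2, 1, 2, 4, 3, 0], 4, [2, 1, 2, 4, 0, 3], 4),
  ([3, 4, 2, 4, 3, 0], 1, [3, 4, 2, 4, 0, 3], 1), ([4, 0, 3, 1, 3, 2], 2, [4, 0, 3, 1, 2, 3], 2), ([4, 0, 3, 4, 1, 4], 1, [4, 0, 3, 1, 4, 1], 1), ([4, 0, 3, 4, 1, 4], 2, [4, 0, 3, 1, 4, 1], 2),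
  ([1, 4, 0, 3, 4, 0], 3, [1, 3, 4, 0, 3, 4], 3), ([4, 1, 2, 4, 3, 4], 0, [4, 1, 2, 3, 4, 3], 0), ([4, 1, 2, 4, 3, 2], 0, [4, 1, 2, 4, 2, 3], 0), ([4, 1, 3, 4, 1, 4], 0, [4, 1, 3, 1, 4, 1], 0),
  ([4, 2, 1, 4, 3, 4], 0, [4, 2, 1, 3, 4, 3], 0), ([4, 2, 1, 4, 3, 2], 0, [4, 2, 1, 4, 2, 3], 0), ([4, 2, 3, 4, 1, 4], 0, [4, 2, 3, 1, 4, 1], 0), ([4, 3, 1, 4, 3, 2], 0, [4, 3, 1, 4, 2, 3], 0),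
  ([3, 4, 2, 1, 2, 1], 1, [3, 4, 1, 2, 1, 2], 1), ([4, 3, 1, 2, 1, 2], 1, [4, 2, 3, 1, 2, 1], 1), ([2, 1, 2, 4, 2, 4], 4, [2, 4, 1, 2, 1, 2], 1), ([1, 3, 1, 4, 3, 2], 2, [1, 3, 1, 4, 2, 3], 2),
  ([1, 4, 3, 1, 4, 1], 2, [1, 3, 4, 3, 1, 4], 2), ([1, 3, 4, 1, 2, 3], 3, [4, 3, 1, 3, 1, 2], 1), ([2, 4, 2, 1, 3, 2], 1, [2, 4, 2, 1, 2, 3], 1), ([3, 4, 1, 3, 4, 2], 1, [3, 4, 1, 2, 3, 4], 1),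
  ([3, 4, 2, 4, 3, 2], 1, [2, 3, 4, 2, 4, 3], 1), ([2, 1, 3, 4, 1, 4], 4, [2, 1, 3, 1, 4, 1], 4), ([2, 4, 2, 4, 3, 4], 1, [2, 4, 2, 3, 4, 3], 1), ([3, 4, 2, 4, 1, 4], 1, [3, 4, 2, 1, 4, 1], 1),
  ([1, 4, 3, 1, 3, 1], 3, [4, 3, 1, 3, 4, 3], 1), ([4, 1, 3, 4, 2, 3], 3, [1, 4, 1, 3, 4, 2], 3), ([1, 4, 2, 4, 3, 4], 3, [1, 4, 2, 3, 4, 3], 3), ([4, 2, 3, 4, 2, 4], 1, [3, 4, 2, 3, 4, 2], 1),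
  ([3, 4, 2, 4, 3, 4], 1, [3, 4, 2, 3, 4, 3], 1), ([1, 4, 0, 1, 0, 1, 0], 0, [4, 0, 1, 4, 0, 1], 1), ([0, 2, 1, 0, 1, 0, 1], 1, [1, 4, 1, 3, 1, 0], 2), ([4, 1, 0, 4, 1, 0, 1], 0, [0, 4, 1, 0, 1, 0], 1),
  ([1, 0, 2, 0, 1, 0, 2], 0, [1, 4, 1, 3, 1, 0], 2), ([1, 0, 2, 0, 1, 2, 0], 0, [1, 4, 1, 3, 1, 2], 2), ([4, 1, 2, 0, 1, 0, 1], 0, [1, 0, 4, 0, 2, 0], 3), ([3, 1, 4, 3, 1, 2, 0], 1, [4, 2, 0, 1, 0, 1], 1),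
  ([1, 0, 2, 4, 0, 3, 4], 0, [2, 0, 4, 1, 0, 2], 4), ([1, 0, 3, 1, 0, 4, 1], 0, [0, 2, 3, 4, 1, 2], 1), ([1, 0, 3, 4, 0, 1, 4], 0, [0, 2, 3, 1, 2, 3], 1), ([1, 0, 4, 1, 2, 1, 4], 0, [1, 0, 2, 3, 1, 3], 3),
  ([4, 1, 2, 1, 0, 1, 0], 0, [1, 0, 4, 0, 2, 1], 3), ([1, 2, 0, 1, 0, 1, 2], 0, [1, 2, 0, 1, 0, 1], 0), ([1, 3, 1, 2, 1, 3, 0], 0, [1, 0, 1, 0, 3, 1], 2), ([2, 0, 1, 2, 4, 1, 4], 1, [1, 0, 1, 0, 4, 1], 2),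
  ([1, 2, 1, 0, 1, 0, 4], 0, [2, 0, 1, 4, 0, 2], 1), ([3, 1, 4, 3, 1, 2, 1], 1, [4, 2, 1, 0, 1, 0], 1), ([4, 1, 0, 1, 0, 3, 1], 0, [1, 3, 4, 0, 1, 0], 3), ([4, 1, 0, 1, 3, 1, 0], 0, [1, 3, 4, 1, 0, 1], 3),
  ([1, 0, 4, 1, 0, 1, 0], 3, [2, 1, 2, 0, 1, 2], 4), ([1, 4, 1, 0, 1, 0, 2], 2, [1, 0, 2, 0, 1, 0], 3), ([1, 2, 3, 1, 4, 1, 0], 0, [4, 0, 1, 2, 0, 1], 1), ([1, 4, 0, 1, 0, 1, 4], 0, [0, 4, 1, 0, 4, 1], 1),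
  ([4, 3, 1, 3, 1, 3, 0], 0, [4, 1, 0, 1, 0, 2], 2), ([4, 3, 1, 3, 1, 0, 3], 0, [4, 1, 0, 1, 0, 2], 2), ([4, 3, 1, 3, 1, 0, 2], 0, [4, 1, 0, 1, 0, 3], 2), ([1, 2, 0, 1, 0, 1, 4], 0, [4, 0, 3, 1, 0, 3], 2),
  ([0, 2, 0, 4, 1, 3, 2], 1, [0, 2, 0, 4, 1, 3], 1), ([0, 2, 0, 4, 2, 1, 2], 1, [0, 2, 0, 4, 2, 1], 1), ([0, 2, 0, 4, 2, 4, 1], 1, [0, 2, 1, 0, 2, 3], 1), ([1, 2, 0, 1, 0, 4, 2], 0, [4, 2, 0, 1, 4, 0], 1),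
  ([0, 2, 1, 0, 2, 1, 2], 1, [1, 0, 2, 1, 0, 3], 3), ([0, 2, 1, 0, 2, 1, 3], 1, [1, 0, 2, 1, 0, 2], 3), ([4, 3, 1, 2, 4, 0, 1], 0, [0, 2, 1, 3, 4, 0], 1), ([0, 2, 1, 4, 1, 3, 4], 1, [0, 4, 0, 2, 1, 0], 1),
  ([4, 1, 0, 4, 2, 0, 1], 0, [2, 3, 4, 1, 2, 0], 1), ([1, 3, 4, 0, 1, 4, 1], 0, [0, 2, 3, 1, 2, 3], 1), ([0, 2, 3, 1, 4, 2, 1], 1, [0, 3, 4, 2, 1, 2], 1), ([0, 2, 3, 4, 1, 2, 4], 1, [0, 2, 3, 4, 1, 2], 1),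
  ([0, 2, 3, 4, 2, 1, 4], 1, [0, 3, 4, 2, 1, 2], 1), ([4, 1, 0, 3, 1, 2, 1], 0, [0, 2, 4, 1, 2, 3], 1), ([4, 1, 0, 2, 3, 1, 2], 0, [0, 2, 4, 1, 3, 1], 1), ([0, 2, 4, 1, 3, 4, 0], 1, [0, 4, 0, 2, 1, 3], 1),
  ([0, 2, 4, 1, 3, 4, 3], 1, [0, 4, 0, 2, 1, 0], 1), ([2, 3, 4, 1, 2, 4, 3], 1, [2, 0, 1, 0, 3, 4], 4), ([4, 0, 1, 0, 3, 1, 2], 2, [1, 0, 2, 1, 4, 1], 3), ([4, 0, 1, 0, 3, 1, 4], 2, [4, 0, 1, 0, 3, 1], 2),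
  ([1, 2, 3, 1, 0, 2, 1], 0, [0, 3, 4, 1, 3, 4], 1), ([4, 0, 1, 0, 3, 4, 1], 2, [4, 0, 1, 0, 3, 4], 2), ([4, 1, 0, 4, 2, 0, 2], 0, [0, 4, 0, 1, 2, 0], 1), ([0, 4, 0, 3, 1, 3, 1], 1, [0, 4, 0, 3, 1, 3], 1),
  ([0, 4, 1, 2, 0, 1, 3], 1, [1, 4, 3, 1, 3, 4], 2), ([0, 4, 1, 2, 1, 2, 3], 1, [3, 4, 3, 1, 2, 1], 1), ([0, 4, 1, 2, 1, 3, 1], 1, [3, 4, 2, 3, 1, 2], 1), ([0, 4, 1, 2, 1, 3, 2], 1, [3, 4, 3, 1, 2, 1], 1),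
  ([1, 4, 0, 1, 3, 4, 0], 0, [4, 3, 1, 4, 0, 1], 0), ([0, 4, 2, 1, 2, 4, 2], 1, [4, 0, 2, 1, 0, 1], 1), ([0, 4, 2, 3, 1, 2, 1], 1, [3, 4, 1, 2, 1, 3], 1), ([0, 4, 3, 1, 2, 1, 2], 1, [3, 4, 1, 2, 1, 3], 1),
  ([0, 4, 3, 1, 2, 1, 3], 1, [3, 4, 1, 2, 1, 2], 1), ([1, 4, 0, 2, 1, 0, 1], 2, [1, 4, 2, 1, 0, 2], 2), ([1, 3, 4, 2, 1, 0, 2], 2, [4, 0, 2, 1, 0, 1], 2), ([2, 1, 0, 4, 2, 1, 2], 0, [2, 1, 4, 2, 1, 0], 0),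
  ([2, 1, 0, 4, 3, 1, 4], 0, [1, 0, 4, 0, 2, 0], 3), ([1, 2, 0, 3, 1, 2, 3], 0, [2, 0, 3, 1, 3, 1], 1), ([4, 3, 1, 3, 1, 2, 3], 0, [4, 1, 0, 1, 2, 0], 2), ([1, 0, 1, 2, 4, 3, 4], 2, [2, 1, 4, 0, 2, 3], 4),
  ([1, 0, 1, 3, 4, 2, 4], 2, [2, 1, 0, 4, 0, 2], 4), ([4, 2, 0, 1, 2, 1, 0], 0, [1, 0, 2, 4, 0, 2], 2), ([1, 2, 3, 1, 3, 4, 0], 0, [1, 0, 2, 4, 2, 3], 2), ([1, 0, 2, 4, 2, 3, 4], 2, [1, 2, 3, 1, 4, 0], 3),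
  ([1, 0, 3, 1, 0, 2, 1], 2, [1, 4, 0, 2, 1, 3], 2), ([4, 3, 1, 2, 1, 4, 0], 0, [1, 0, 4, 0, 3, 4], 2), ([4, 2, 1, 2, 3, 1, 0], 1, [1, 0, 4, 2, 3, 1], 2), ([1, 4, 2, 0, 1, 2, 1], 2, [1, 4, 2, 0, 1, 2], 2),
  ([2, 4, 0, 1, 2, 1, 2], 0, [2, 4, 0, 1, 2, 1], 0), ([1, 2, 1, 2, 4, 2, 4], 0, [3, 4, 1, 2, 0, 3], 1), ([4, 2, 4, 1, 2, 4, 0], 0, [1, 2, 1, 0, 4, 2], 3), ([4, 0, 1, 2, 1, 3, 4], 1, [4, 0, 3, 1, 2, 1], 2),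
  ([1, 2, 1, 3, 4, 2, 3], 0, [2, 4, 3, 1, 2, 1], 0), ([1, 2, 1, 3, 4, 3, 1], 0, [2, 4, 2, 3, 1, 2], 0), ([1, 2, 1, 3, 4, 3, 2], 0, [2, 4, 3, 1, 2, 1], 0), ([4, 1, 2, 0, 1, 2, 1], 0, [4, 1, 0, 4, 2, 4], 3),
  ([1, 2, 1, 4, 2, 4, 0], 0, [3, 4, 1, 0, 2, 3], 1), ([1, 2, 1, 4, 2, 4, 2], 0, [3, 4, 1, 2, 0, 3], 1), ([1, 2, 1, 4, 2, 4, 3], 0, [3, 4, 1, 0, 2, 0], 1), ([4, 3, 1, 3, 1, 2, 0], 0, [4, 1, 0, 1, 2, 3], 2),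
  ([1, 0, 4, 1, 0, 1, 3], 3, [2, 1, 2, 0, 1, 2], 4), ([3, 1, 0, 2, 0, 1, 3], 1, [1, 4, 2, 0, 1, 2], 2), ([1, 0, 4, 1, 0, 1, 2], 3, [2, 1, 2, 0, 1, 3], 4), ([3, 1, 0, 2, 0, 1, 2], 1, [1, 4, 2, 0, 1, 3], 2),
  ([1, 3, 4, 2, 0, 1, 2], 2, [2, 0, 1, 3, 1, 3], 4), ([2, 4, 2, 4, 1, 3, 2], 0, [3, 4, 1, 2, 0, 1], 1), ([2, 1, 0, 2, 0, 3, 4], 4, [2, 1, 0, 2, 0, 3], 4), ([2, 1, 0, 2, 0, 4, 3], 4, [2, 1, 0, 2, 0, 4], 4),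
  ([2, 1, 0, 2, 3, 4, 0], 4, [2, 1, 0, 2, 3, 4], 4), ([2, 1, 4, 2, 4, 1, 2], 0, [3, 4, 0, 1, 2, 4], 1), ([4, 1, 0, 2, 1, 3, 4], 3, [4, 2, 1, 0, 2, 1], 3), ([2, 0, 3, 1, 0, 2, 0], 1, [2, 1, 4, 0, 3, 1], 4),
  ([4, 2, 4, 0, 3, 1, 0], 1, [2, 1, 2, 4, 2, 3], 4), ([3, 4, 3, 1, 0, 3, 4], 1, [1, 0, 2, 1, 3, 1], 3), ([1, 0, 2, 4, 0, 3, 1], 3, [1, 0, 2, 4, 1, 3], 3), ([1, 0, 2, 4, 1, 2, 4], 3, [1, 0, 2, 4, 1, 2], 3),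
  ([1, 0, 3, 4, 0, 1, 3], 3, [1, 0, 3, 4, 0, 1], 3), ([1, 0, 4, 0, 3, 1, 3], 3, [1, 0, 4, 0, 3, 1], 3), ([2, 1, 3, 1, 0, 1, 3], 0, [2, 1, 3, 1, 2, 1], 0), ([1, 3, 4, 2, 0, 1, 3], 2, [2, 0, 1, 3, 1, 2], 4),
  ([4, 1, 3, 1, 0, 3, 1], 0, [1, 3, 4, 0, 1, 3], 3), ([4, 1, 3, 1, 4, 0, 1], 0, [1, 4, 0, 3, 1, 3], 3), ([4, 1, 3, 1, 0, 3, 4], 0, [4, 1, 3, 1, 0, 3], 0), ([4, 1, 3, 1, 0, 4, 3], 0, [4, 1, 3, 1, 0, 4], 0),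
  ([1, 4, 1, 3, 1, 0, 4], 0, [4, 1, 3, 4, 1, 0], 0), ([2, 4, 1, 3, 1, 0, 3], 1, [4, 3, 1, 2, 0, 4], 2), ([1, 3, 1, 4, 2, 1, 4], 0, [1, 3, 1, 4, 2, 1], 0), ([1, 3, 1, 4, 2, 4, 1], 0, [1, 3, 1, 4, 2, 4], 0),
  ([4, 1, 2, 3, 1, 0, 4], 0, [4, 1, 2, 3, 1, 0], 0), ([2, 4, 2, 4, 1, 2, 3], 0, [3, 4, 1, 2, 0, 1], 1), ([4, 2, 3, 1, 0, 1, 3], 1, [4, 2, 4, 0, 1, 4], 1), ([1, 3, 4, 2, 1, 2, 1], 0, [1, 4, 0, 1, 4, 2], 2),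
  ([1, 4, 3, 1, 4, 3, 4], 0, [3, 4, 1, 0, 1, 3], 1), ([2, 1, 4, 1, 2, 4, 1], 0, [1, 4, 1, 0, 2, 4], 2), ([1, 4, 1, 3, 1, 4, 0], 0, [4, 1, 3, 1, 4, 1], 0), ([1, 4, 1, 3, 4, 2, 0], 0, [2, 1, 4, 0, 2, 4], 0),
  ([2, 0, 1, 4, 2, 3, 4], 1, [2, 0, 1, 4, 2, 3], 1), ([4, 1, 0, 3, 1, 4, 2], 2, [4, 1, 0, 3, 1, 4], 2), ([2, 0, 1, 4, 2, 4, 3], 1, [2, 0, 1, 4, 2, 4], 1), ([1, 3, 4, 1, 0, 2, 1], 2, [4, 0, 2, 1, 4, 3], 2),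
  ([1, 4, 3, 1, 3, 1, 4], 0, [3, 4, 1, 0, 4, 1], 1), ([4, 2, 3, 4, 0, 2, 0], 0, [4, 2, 0, 4, 2, 3], 3), ([4, 2, 0, 3, 4, 0, 2], 0, [4, 2, 0, 3, 4, 0], 0), ([2, 0, 3, 1, 2, 0, 2], 1, [2, 1, 4, 0, 3, 1], 4),
  ([2, 1, 4, 1, 2, 1, 4], 0, [2, 0, 3, 1, 2, 3], 1), ([4, 2, 1, 2, 4, 1, 2], 0, [2, 0, 3, 1, 3, 4], 1), ([2, 1, 4, 0, 2, 4, 3], 0, [4, 1, 3, 4, 2, 0], 0), ([3, 1, 4, 2, 0, 3, 4], 1, [1, 3, 4, 1, 2, 0], 3),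
  ([4, 2, 3, 4, 0, 3, 2], 0, [4, 2, 0, 4, 2, 0], 3), ([2, 4, 0, 3, 4, 2, 4], 0, [4, 0, 3, 4, 2, 0], 2), ([4, 2, 0, 3, 1, 2, 4], 0, [4, 2, 0, 3, 1, 2], 0), ([2, 1, 4, 2, 0, 3, 1], 4, [2, 1, 4, 2, 0, 3], 4),
  ([4, 2, 4, 0, 3, 1, 3], 1, [2, 1, 2, 4, 2, 0], 4), ([2, 4, 2, 3, 4, 2, 3], 0, [4, 2, 4, 0, 2, 4], 3), ([2, 4, 2, 3, 4, 2, 4], 0, [2, 4, 2, 3, 4, 2], 0), ([2, 4, 0, 3, 4, 2, 1], 1, [2, 4, 0, 3, 4, 2], 1),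
  ([4, 2, 3, 4, 0, 3, 4], 0, [4, 2, 3, 4, 0, 3], 0), ([4, 3, 1, 2, 1, 4, 3], 0, [1, 3, 4, 0, 3, 4], 2), ([4, 2, 1, 3, 1, 4, 3], 1, [4, 2, 4, 0, 3, 4], 1), ([4, 1, 2, 3, 1, 4, 0], 0, [4, 1, 2, 3, 1, 4], 0),
  ([2, 4, 1, 3, 1, 3, 4], 1, [4, 3, 1, 2, 4, 0], 2), ([3, 1, 4, 2, 3, 4, 0], 1, [1, 3, 4, 1, 2, 4], 3), ([2, 3, 1, 4, 2, 4, 1], 1, [3, 4, 2, 4, 1, 2], 1), ([1, 3, 4, 2, 1, 3, 1], 3, [2, 1, 3, 1, 2, 3], 4),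
  ([3, 1, 4, 2, 1, 2, 4], 1, [2, 1, 2, 3, 1, 3], 4), ([2, 3, 4, 2, 1, 2, 4], 1, [2, 3, 4, 2, 1, 2], 1), ([1, 2, 4, 2, 3, 1, 2], 3, [4, 2, 1, 2, 4, 3], 3), ([4, 1, 3, 1, 4, 2, 1], 2, [1, 4, 2, 3, 1, 3], 3),
  ([4, 2, 1, 3, 4, 2, 3], 1, [4, 2, 1, 3, 4, 2], 1), ([1, 2, 4, 2, 3, 1, 3], 3, [4, 2, 1, 2, 4, 2], 3), ([3, 4, 1, 3, 1, 3, 4], 1, [1, 4, 3, 1, 4, 3], 3), ([2, 4, 1, 0, 1, 0, 1], 0, [2, 4, 0, 1, 0, 1, 0], 0),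
  ([2, 3, 1, 0, 1, 0, 1], 1, [2, 0, 3, 1, 0, 1, 0], 1), ([1, 2, 1, 0, 2, 1, 0], 0, [1, 0, 2, 0, 1, 0, 1], 0), ([4, 3, 1, 0, 1, 0, 1], 1, [0, 3, 4, 1, 3, 1, 0], 1), ([2, 1, 0, 3, 4, 0, 1], 0, [1, 2, 3, 1, 0, 1, 0], 0),
  ([4, 2, 1, 0, 4, 3, 2], 1, [1, 0, 2, 0, 1, 0, 1], 0), ([2, 0, 1, 3, 1, 2, 1], 1, [1, 0, 2, 0, 3, 1, 3], 0), ([1, 2, 0, 1, 4, 2, 1], 0, [1, 0, 2, 0, 4, 1, 2], 0), ([1, 0, 2, 0, 4, 3, 2], 0, [1, 0, 2, 0, 4, 2, 3], 0),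
  ([1, 0, 2, 1, 2, 0, 2], 0, [1, 0, 2, 1, 0, 2, 0], 0), ([2, 1, 2, 3, 1, 2, 0], 0, [1, 0, 2, 1, 0, 3, 1], 0), ([1, 0, 2, 1, 4, 0, 4], 0, [1, 0, 2, 1, 0, 4, 0], 0), ([1, 0, 2, 1, 4, 3, 2], 0, [1, 0, 2, 1, 4, 2, 3], 0),
  ([2, 3, 1, 0, 1, 3, 2], 1, [1, 0, 2, 3, 1, 0, 1], 0), ([2, 3, 1, 0, 1, 2, 3], 1, [1, 0, 2, 3, 1, 0, 1], 0), ([1, 0, 2, 3, 1, 3, 0], 0, [1, 0, 2, 3, 1, 0, 3], 0), ([1, 2, 0, 3, 4, 2, 0], 0, [1, 0, 2, 3, 1, 2, 1], 0),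
  ([1, 0, 2, 3, 1, 3, 2], 0, [1, 0, 2, 3, 1, 2, 3], 0), ([0, 2, 1, 3, 1, 3, 2], 1, [1, 0, 2, 3, 1, 3, 1], 0), ([1, 0, 2, 3, 4, 3, 2], 0, [1, 0, 2, 3, 4, 2, 3], 0), ([1, 0, 3, 4, 2, 4, 2], 0, [1, 0, 2, 3, 4, 2, 4], 0),
  ([2, 1, 0, 4, 2, 1, 4], 4, [1, 0, 2, 4, 0, 1, 0], 0), ([1, 0, 2, 4, 0, 3, 2], 0, [1, 0, 2, 4, 0, 2, 3], 0), ([1, 0, 2, 4, 1, 3, 0], 0, [1, 0, 2, 4, 0, 3, 1], 0), ([1, 0, 2, 4, 1, 0, 3], 0, [1, 0, 2, 4, 0, 3, 1], 0),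
  ([1, 0, 2, 4, 2, 3, 0], 0, [1, 0, 2, 4, 2, 0, 3], 0), ([1, 0, 3, 1, 4, 0, 4], 0, [1, 0, 3, 1, 0, 4, 0], 0), ([1, 2, 0, 3, 4, 0, 2], 0, [1, 0, 3, 1, 2, 1, 0], 0), ([2, 0, 1, 4, 1, 2, 4], 4, [1, 0, 3, 1, 4, 2, 0], 0),
  ([1, 0, 3, 4, 0, 3, 2], 0, [1, 0, 3, 4, 0, 2, 3], 0), ([3, 4, 3, 1, 0, 4, 3], 1, [1, 0, 3, 4, 1, 2, 1], 0), ([1, 0, 4, 2, 0, 3, 2], 0, [1, 0, 4, 0, 2, 0, 3], 0), ([2, 1, 0, 4, 3, 1, 3], 0, [1, 0, 4, 0, 2, 3, 1], 0),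
  ([1, 4, 0, 2, 4, 2, 4], 0, [1, 0, 4, 0, 2, 4, 2], 0), ([1, 0, 4, 1, 2, 0, 2], 0, [1, 0, 4, 1, 0, 2, 0], 0), ([3, 4, 3, 1, 0, 4, 1], 1, [1, 0, 4, 1, 2, 4, 3], 0), ([1, 0, 4, 2, 1, 3, 0], 0, [1, 0, 4, 2, 1, 0, 3], 0),
  ([0, 4, 1, 0, 1, 3, 2], 1, [1, 0, 4, 2, 1, 0, 4], 0), ([0, 4, 1, 0, 1, 2, 3], 1, [1, 0, 4, 2, 1, 0, 4], 0), ([3, 1, 4, 3, 1, 0, 2], 1, [1, 0, 4, 2, 1, 3, 1], 0), ([0, 2, 1, 0, 1, 0, 3], 1, [4, 1, 2, 4, 2, 1, 4], 0),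
  ([4, 0, 1, 0, 1, 2, 1], 2, [1, 3, 4, 2, 0, 1, 0], 2), ([1, 0, 2, 0, 3, 4, 2], 3, [1, 0, 1, 0, 4, 3, 1], 2), ([0, 4, 3, 1, 2, 1, 0], 1, [1, 2, 0, 4, 2, 0, 1], 0), ([2, 0, 1, 0, 1, 3, 2], 4, [2, 0, 1, 0, 1, 2, 3], 4),
  ([4, 2, 1, 0, 1, 0, 2], 1, [1, 3, 4, 0, 1, 3, 4], 0), ([2, 1, 0, 1, 0, 4, 3], 4, [4, 3, 1, 2, 0, 1, 4], 2), ([1, 0, 3, 1, 0, 1, 3], 2, [1, 0, 3, 1, 0, 1, 0], 2), ([1, 3, 1, 3, 1, 0, 1], 2, [2, 1, 0, 1, 3, 1, 0], 0),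
  ([1, 0, 1, 3, 1, 0, 1], 2, [2, 1, 3, 1, 3, 1, 0], 0), ([2, 0, 1, 3, 1, 0, 1], 4, [3, 1, 2, 4, 0, 2, 0], 1), ([1, 4, 3, 1, 3, 1, 0], 2, [0, 2, 1, 3, 1, 0, 1], 1), ([1, 0, 1, 2, 1, 3, 1], 3, [4, 3, 1, 4, 0, 1, 0], 2),
  ([2, 3, 1, 0, 1, 3, 0], 1, [2, 3, 1, 0, 1, 0, 3], 1), ([4, 3, 1, 0, 1, 0, 2], 0, [1, 2, 4, 1, 2, 3, 4], 0), ([4, 3, 1, 0, 1, 3, 0], 1, [4, 3, 1, 0, 1, 0, 3], 1), ([4, 0, 1, 0, 1, 3, 4], 2, [2, 4, 0, 3, 1, 4, 2], 0),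
  ([1, 2, 4, 0, 1, 0, 1], 3, [0, 4, 2, 3, 1, 0, 4], 1), ([4, 0, 1, 2, 0, 4, 1], 2, [0, 2, 1, 2, 0, 1, 0], 1), ([2, 0, 1, 4, 0, 3, 2], 1, [2, 0, 1, 0, 1, 4, 0], 1), ([2, 0, 1, 4, 0, 2, 3], 1, [2, 0, 1, 0, 1, 4, 0], 1),
  ([4, 1, 0, 1, 2, 0, 2], 0, [4, 1, 0, 1, 0, 2, 0], 0), ([4, 1, 0, 1, 0, 2, 1], 0, [1, 2, 3, 4, 2, 0, 3], 0), ([4, 0, 1, 0, 4, 0, 1], 1, [4, 1, 0, 1, 4, 1, 0], 0), ([4, 1, 3, 4, 2, 1, 4], 3, [1, 4, 2, 0, 1, 0, 1], 0),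
  ([4, 2, 1, 4, 1, 0, 1], 3, [1, 4, 0, 1, 0, 2, 0], 0), ([1, 4, 2, 3, 1, 4, 1], 0, [1, 4, 1, 2, 0, 1, 0], 0)]

end Cfsg.Agent.Lib.Helper5.Co3Mult
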