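import Mathlib
import Cfsg.Agent.Lib.Helper8.J2MultA

/-!
# Lifts of a class of involutions with perfect centraliser, indexed by the cosets of the centraliser

For an involution `t0` of `G` whose centraliser is perfect, helper8's `CanonLift.exists_lifts` is applied to the action of
`G` on the cosets of the centraliser, with `Tq t0 (gC) = g t0 g⁻¹`.  Words that are palindromes in lifted generators
are lifts of conjugates; a product of two such palindromes with the same value in `G` is trivial.
-/

set_option autoImplicit false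

namespace Cfsg.Agent.Lib.Helper5.J3Mult

open Cfsg.Agent.Lib.Helper8.CanonLift

section quot

variable {G : Type*} [Group G] (t0 : G)

/-- the centraliser of `t0` -/
abbrev Cz : Subgroup G := Subgroup.centralizer ({t0} : Set G)

theorem conj_eq_of_rel {x y : G} (h : x⁻¹ * y ∈ Cz t0) : x * t0 * x⁻¹ = y * t0 * y⁻¹ := by
  rw [Subgroup.mem_centralizer_singleton_iff] at h
  have e : y = x * (x⁻¹ * y) := by group
  rw [e]
  calc x * t0 * x⁻¹ = x * (t0 * (x⁻¹ * y)) * (x⁻¹ * y)⁻¹ * x⁻¹ := by group
    _ = x * ((x⁻¹ * y) * t0) * (x⁻¹ * y)⁻¹ * x⁻¹ := by rw [h]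
    _ = x * (x⁻¹ * y) * t0 * (x * (x⁻¹ * y))⁻¹ := by group

/-- the conjugate of `t0` that belongs to a coset of the centraliser -/
def Tq : G ⧸ Cz t0 → G :=
  fun q => Quotient.liftOn' q (fun g => g * t0 * g⁻¹) (fun x y h => by
    rw [QuotientGroup.leftRel_apply] at h
    exact conj_eq_of_rel t0 h)

theorem Tq_mk (g : G) : Tq t0 (g : G ⧸ Cz t0) = g * t0 * g⁻¹ := rfl

theorem Tq_conj (g : G) (x : G ⧸ Cz t0) : g * Tq t0 x * g⁻¹ = Tq t0 (g • x) := by
  induction x using QuotientGroup.induction_on with
  | H y =>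
    rw [MulAction.Quotient.smul_mk, Tq_mk, Tq_mk, smul_eq_mul]
    group

theorem Tq_sq (h0 : t0 * t0 = 1) (x : G ⧸ Cz t0) : Tq t0 x * Tq t0 x = 1 := by
  induction x using QuotientGroup.induction_on with
  | H y =>
    rw [Tq_mk]
    calc y * t0 * y⁻¹ * (y * t0 * y⁻¹) = y * (t0 * t0) * y⁻¹ := by group
      _ = 1 := by rw [h0]; group

theorem Tq_injective : Function.Injective (Tq t0) := by
  intro x y
  induction x using QuotientGroup.induction_on with
  | H a =>
    induction y using QuotientGroup.induction_on with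
    | H b =>
      intro h
      rw [Tq_mk, Tq_mk] at h
      rw [QuotientGroup.eq, Subgroup.mem_centralizer_singleton_iff]
      calc a⁻¹ * b * t0 = a⁻¹ * (b * t0 * b⁻¹) * b := by group
        _ = a⁻¹ * (a * t0 * a⁻¹) * b := by rw [h]
        _ = t0 * (a⁻¹ * b) := by group

theorem perfect_congr {H K : Subgroup G} (h : H = K) (hK : commutator ↥K = ⊤) : commutator ↥H = ⊤ := by
  subst h
  exact hK

/-- **the lifts of the conjugates of `t0`** -/
theorem exists_lifts_cent {E : Type*} [Group E] {σ : E →* G} (hsurj : Function.Surjective σ)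
    (hcen : σ.ker ≤ Subgroup.center E) (h0 : t0 * t0 = 1) (hperf : commutator ↥(Cz t0) = ⊤)
    (a c u : G ⧸ Cz t0) (hac : Tq t0 a * Tq t0 c = Tq t0 u)
    (hca : Tq t0 c * Tq t0 a * (Tq t0 c)⁻¹ = Tq t0 a) :
    ∃ Λ : Lifts σ (Tq t0), Λ.L a * Λ.L c = Λ.L u := by
  refine exists_lifts hsurj hcen (Tq_conj t0) (Tq_sq t0 h0) ((1 : G) : G ⧸ Cz t0)
    (perfect_congr (MulAction.stabilizer_quotient (Cz t0)) hperf) a c u hac ?_
  apply Tq_injective t0
  rw [← Tq_conj]
  exact hca

end quot

/-! ### palindromes -/

section pal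

variable {G : Type*} [Group G]

/-- the palindrome with centre `c` and the half `h` (read from the centre outwards) -/
def palW (h : List ℕ) (c : ℕ) : List ℕ := h.reverse ++ c :: h

/-- conjugate `v` successively by the members of the family with the indices in `h` -/
def conjV (t : ℕ → G) : List ℕ → G → G
  | [], v => v
  | s :: h, v => conjV t h (t s * v * t s)

theorem conjV_eq (t : ℕ → G) (ht : ∀ i, t i * t i = 1) : ∀ (h : List ℕ) (v : G),
    conjV t h v = (h.reverse.map t).prod * v * ((h.reverse.map t).prod)⁻¹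
  | [], v => by simp [conjV]
  | s :: h, v => by
    have hs : (t s)⁻¹ = t s := inv_eq_of_mul_eq_one_left (ht s)
    rw [conjV, conjV_eq t ht h, List.reverse_cons, List.map_append, List.prod_append]
    simp only [List.map_cons, List.map_nil, List.prod_cons, List.prod_nil, mul_one, mul_inv_rev, hs]
    group

variable {E : Type*} [Group E] {t0 : G} {σ : E →* G} (Λ : Lifts σ (Tq t0)) (x : ℕ → G ⧸ Cz t0)

/-- the point of a palindrome -/
def palP (h : List ℕ) (c : ℕ) : G ⧸ Cz t0 :=
  ((h.reverse.map fun i => Tq t0 (x i)).prod) • x c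

theorem Tq_palP (ht : ∀ i, Tq t0 (x i) * Tq t0 (x i) = 1) (h : List ℕ) (c : ℕ) :
    Tq t0 (palP x h c) = conjV (fun i => Tq t0 (x i)) h (Tq t0 (x c)) := by
  rw [conjV_eq _ ht, palP, ← Tq_conj]

/-- the product of the lifts along a palindrome -/
theorem prod_palW (h : List ℕ) (c : ℕ) :
    ((palW h c).map fun i => Λ.L (x i)).prod = Λ.L (palP x h c) := by
  have e : ((palW h c).map fun i => Λ.L (x i)).prod =
      Λ.ev ((h.reverse.map x) ++ x c :: (h.reverse.map x).reverse) := by
    unfold Lifts.ev palW
    rw [List.map_reverse, List.reverse_reverse, ← List.map_reverse]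
    simp only [List.map_append, List.map_cons, List.map_map]
    rfl
  rw [e, Λ.ev_conj, List.map_map]
  rfl

/-- two palindromes with the same value: the product of the lifts is trivial -/
theorem prod_coincide (ht : ∀ i, Tq t0 (x i) * Tq t0 (x i) = 1) {h1 h2 : List ℕ} {c1 c2 : ℕ}
    (hv : conjV (fun i => Tq t0 (x i)) h1 (Tq t0 (x c1)) =
      conjV (fun i => Tq t0 (x i)) h2 (Tq t0 (x c2))) :
    ((palW h1 c1 ++ palW h2 c2).map fun i => Λ.L (x i)).prod = 1 := by
  have hp : palP x h1 c1 = palP x h2 c2 := by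
    apply Tq_injective t0
    rw [Tq_palP x ht, Tq_palP x ht, hv]
  rw [List.map_append, List.prod_append, prod_palW, prod_palW, hp, Λ.sq]

/-- three palindromes whose points are the normalising triple: the product of the lifts is trivial -/
theorem prod_triple {ha hc hu : List ℕ} {ca cc cu : ℕ}
    (hacu : Λ.L (palP x ha ca) * Λ.L (palP x hc cc) = Λ.L (palP x hu cu)) :
    ((palW ha ca ++ (palW hc cc ++ palW hu cu)).map fun i => Λ.L (x i)).prod = 1 := by
  rw [List.map_append, List.prod_append, List.map_append, List.prod_append, prod_palW, prod_palW,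
    prod_palW, ← mul_assoc, hacu, Λ.sq]

end pal

end Cfsg.Agent.Lib.Helper5.J3Mult
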