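import Cfsg.Agent.Lib.Helper5.J3MultA
import Cfsg.Agent.Lib.Helper5.J3MultB
import Cfsg.Agent.Lib.Helper5.Co3MultData
import Cfsg.Agent.Lib.Helper5.Co3MultRel4_0
import Cfsg.Agent.Lib.Helper5.Co3MultRel4_1
import Cfsg.Agent.Lib.Helper5.Co3MultRel4_2
import Cfsg.Agent.Lib.Helper5.Co3MultRel4_3
import Cfsg.Agent.Lib.Helper5.Co3MultTab0
import Cfsg.Agent.Lib.Helper5.Co3MultTab1
import Cfsg.Agent.Lib.Helper5.Co3MultTab2
import Cfsg.Agent.Lib.Helper5.Co3MultTab3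
import Cfsg.Agent.Lib.Helper5.Co3MultTab4
import Cfsg.Agent.Lib.Helper5.Co3MultTab5
import Cfsg.Agent.Lib.Lead.Co3.Real

/-!
# The certificates for the Schur multiplier of `Co₃`: definitions of the checks

Four coset certificates (`10`, `792`, `1288` and `48600` rows: the chain `D₁₀ < M₁₁ < M₂₃ < Co₃`) read from packed
numerals, and the boolean checks on the codes of the permutations of the 276 points: the words of the certificates are
products of two palindromes with the same value.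
-/

set_option autoImplicit false

namespace Cfsg.Agent.Lib.Helper5.Co3Mult

open Cfsg.Agent.PG Cfsg.Agent.Co3P
open Cfsg.Agent.Lib.Helper5.J3Mult (FCert palW)
open Cfsg.Agent.Lib.Helper5.J3Fus (strictN strictN_eq)

/-- a certificate read from packed entries -/
def mkCert (n g nsub : ℕ) (ent par : ℕ → ℕ) (W : ℕ → List ℕ) : FCert where
  n := n
  g := g
  nsub := nsub
  Tg a x := ent (a * g + x) % 65536
  tg a x := (ent (a * g + x) >>> 16) % 1048576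
  kd a x := (ent (a * g + x) >>> 36) % 4
  rs a x := (ent (a * g + x) >>> 38) % 65536
  rw a x := (ent (a * g + x) >>> 54) % 4096
  rp a x := (ent (a * g + x) >>> 66) % 64
  pa b := par b / g
  px b := par b % g
  W := W

/-- the product of two palindromes -/
def longW (c : List ℕ × ℕ × List ℕ × ℕ) : List ℕ := palW c.1 c.2.1 ++ palW c.2.2.1 c.2.2.2

/-- the trivial coincidence -/
def c0 : List ℕ × ℕ × List ℕ × ℕ := ([], 0, [], 0)

/-- the word of the triple -/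
def tripW : List ℕ := palW tripA.1 tripA.2 ++ (palW tripC.1 tripC.2 ++ palW tripU.1 tripU.2)

/-- the coincidences of the large certificate -/
def rel4 : List (List ℕ × ℕ × List ℕ × ℕ) := rel4_0 ++ (rel4_1 ++ (rel4_2 ++ rel4_3))

/-- the chunks of the table of the certificate 2 -/
def chunk2 (j : ℕ) : ℕ := (bif Nat.blt j 9 then (bif Nat.blt j 4 then (bif Nat.blt j 2 then (bif Nat.blt j 1 then c2_0 else c2_1) else (bif Nat.blt j 3 then c2_2 else c2_3)) else (bif Nat.blt j 6 then (bif Nat.blt j 5 then c2_4 else c2_5) else (bif Nat.blt j 7 then c2_6 else (bif Nat.blt j 8 then c2_7 else c2_8)))) else (bif Nat.blt j 14 then (bif Nat.blt j 11 then (bif Nat.blt j 10 then c2_9 else c2_10) else (bif Nat.blt j 12 then c2_11 else (bif Nat.blt j 13 then c2_12 else c2_13))) else (bif Nat.blt j 16 then (bif Nat.blt j 15 then c2_14 else c2_15) else (bif Nat.blt j 17 then c2_16 else (bif Nat.blt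 j 18 then c2_17 else c2_18)))))

/-- the chunks of the table of the certificate 3 -/
def chunk3 (j : ℕ) : ℕ := (bif Nat.blt j 20 then (bif Nat.blt j 10 then (bif Nat.blt j 5 then (bif Nat.blt j 2 then (bif Nat.blt j 1 then c3_0 else c3_1) else (bif Nat.blt j 3 then c3_2 else (bif Nat.blt j 4 then c3_3 else c3_4))) else (bif Nat.blt j 7 then (bif Nat.blt j 6 then c3_5 else c3_6) else (bif Nat.blt j 8 then c3_7 else (bif Nat.blt j 9 then c3_8 else c3_9)))) else (bif Nat.blt j 15 then (bif Nat.blt j 12 then (bif Nat.blt j 11 then c3_10 else c3_11) else (bif Nat.blt j 13 then c3_12 else (bif Nat.blt j 14 then c3_13 else c3_14))) else (bif Nat.blt j 17 then (bif Nat.blt j 16 then c3_15 else c3_16) else (bif Nat.blt j 18 then c3_17 else (bif Nat.blt j 19 then c3_18 else c3_19))))) else (bif Nat.blt j 30 then (bif Nat.blt j 25 then (bif Nat.blt j 22 then (bif Nat.blt j 21 then c3_20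 else c3_21) else (bif Nat.blt j 23 then c3_22 else (bif Nat.blt j 24 then c3_23 else c3_24))) else (bif Nat.blt j 27 then (bif Nat.blt j 26 then c3_25 else c3_26) else (bif Nat.blt j 28 then c3_27 else (bif Nat.blt j 29 then c3_28 else c3_29)))) else (bif Nat.blt j 35 then (bif Nat.blt j 32 then (bif Nat.blt j 31 then c3_30 else c3_31) else (bif Nat.blt j 33 then c3_32 else (bif Nat.blt j 34 then c3_33 else c3_34))) else (bif Nat.blt j 38 then (bif Nat.blt j 36 then c3_35 else (bif Nat.blt j 37 then c3_36 else c3_37)) else (bif Nat.blt j 39 then c3_38 else (bif Nat.blt j 40 then c3_39 else c3_40))))))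

/-! the chunks of the table of the large certificate, selected by a tree of definitions with eight branches each -/

noncomputable def ch4_n0_0 (j : ℕ) : ℕ := (Bool.rec (motive := fun _ => ℕ) (Bool.rec (motive := fun _ => ℕ) (Bool.rec (motive := fun _ => ℕ) c4_0 c4_1 (Nat.ble 1 j)) (Bool.rec (motive := fun _ => ℕ) c4_2 c4_3 (Nat.ble 3 j)) (Nat.ble 2 j)) (Bool.rec (motive := fun _ => ℕ) (Bool.rec (motive := fun _ => ℕ) c4_4 c4_5 (Nat.ble 5 j)) (Bool.rec (motive := fun _ => ℕ) c4_6 c4_7 (Nat.ble 7 j)) (Nat.ble 6 j)) (Nat.ble 4 j))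
noncomputable def ch4_n0_1 (j : ℕ) : ℕ := (Bool.rec (motive := fun _ => ℕ) (Bool.rec (motive := fun _ => ℕ) (Bool.rec (motive := fun _ => ℕ) c4_8 c4_9 (Nat.ble 9 j)) (Bool.rec (motive := fun _ => ℕ) c4_10 c4_11 (Nat.ble 11 j)) (Nat.ble 10 j)) (Bool.rec (motive := fun _ => ℕ) (Bool.rec (motive := fun _ => ℕ) c4_12 c4_13 (Nat.ble 13 j)) (Bool.rec (motive := fun _ => ℕ) c4_14 c4_15 (Nat.ble 15 j)) (Nat.ble 14 j)) (Nat.ble 12 j))
noncomputable def ch4_n0_2 (j : ℕ) : ℕ := (Bool.rec (motive := fun _ => ℕ) (Bool.rec (motive := fun _ => ℕ) (Bool.rec (motive := fun _ => ℕ) c4_16 c4_17 (Nat.ble 17 j)) (Bool.rec (motive := fun _ => ℕ) c4_18 c4_19 (Nat.ble 19 j)) (Nat.ble 18 j)) (Bool.rec (motive := fun _ => ℕ) (Bool.rec (motive := fun _ => ℕ) c4_20 c4_21 (Nat.ble 21 j)) (Bool.rec (motive := fun _ => ℕ) c4_22 c4_23 (Nat.ble 23 j)) (Nat.ble 22 j)) (Nat.ble 20 j))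
noncomputable def ch4_n0_3 (j : ℕ) : ℕ := (Bool.rec (motive := fun _ => ℕ) (Bool.rec (motive := fun _ => ℕ) (Bool.rec (motive := fun _ => ℕ) c4_24 c4_25 (Nat.ble 25 j)) (Bool.rec (motive := fun _ => ℕ) c4_26 c4_27 (Nat.ble 27 j)) (Nat.ble 26 j)) (Bool.rec (motive := fun _ => ℕ) (Bool.rec (motive := fun _ => ℕ) c4_28 c4_29 (Nat.ble 29 j)) (Bool.rec (motive := fun _ => ℕ) c4_30 c4_31 (Nat.ble 31 j)) (Nat.ble 30 j)) (Nat.ble 28 j))
noncomputable def ch4_n0_4 (j : ℕ) : ℕ := (Bool.rec (motive := fun _ => ℕ) (Bool.rec (motive := fun _ => ℕ) (Bool.rec (motive := fun _ => ℕ) c4_32 c4_33 (Nat.ble 33 j)) (Bool.rec (motive := fun _ => ℕ) c4_34 c4_35 (Nat.ble 35 j)) (Nat.ble 34 j)) (Bool.rec (motive := fun _ => ℕ) (Bool.rec (motive := fun _ => ℕ) c4_36 c4_37 (Nat.ble 37 j)) (Bool.rec (motive := fun _ => ℕ) c4_38 c4_39 (Nat.ble 39 j)) (Nat.ble 38 j)) (Nat.ble 36 j))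
noncomputable def ch4_n0_5 (j : ℕ) : ℕ := (Bool.rec (motive := fun _ => ℕ) (Bool.rec (motive := fun _ => ℕ) (Bool.rec (motive := fun _ => ℕ) c4_40 c4_41 (Nat.ble 41 j)) (Bool.rec (motive := fun _ => ℕ) c4_42 c4_43 (Nat.ble 43 j)) (Nat.ble 42 j)) (Bool.rec (motive := fun _ => ℕ) (Bool.rec (motive := fun _ => ℕ) c4_44 c4_45 (Nat.ble 45 j)) (Bool.rec (motive := fun _ => ℕ) c4_46 c4_47 (Nat.ble 47 j)) (Nat.ble 46 j)) (Nat.ble 44 j))
noncomputable def ch4_n0_6 (j : ℕ) : ℕ := (Bool.rec (motive := fun _ => ℕ) (Bool.rec (motive := fun _ => ℕ) (Bool.rec (motive := fun _ => ℕ) c4_48 c4_49 (Nat.ble 49 j)) (Bool.rec (motive := fun _ => ℕ) c4_50 c4_51 (Nat.ble 51 j)) (Nat.ble 50 j)) (Bool.rec (motive := fun _ => ℕ) (Bool.rec (motive := fun _ => ℕ) c4_52 c4_53 (Nat.ble 53 j)) (Bool.rec (motive := fun _ => ℕ) c4_54 c4_55 (Nat.ble 55 j)) (Nat.ble 54 j)) (Nat.ble 52 j))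
noncomputable def ch4_n0_7 (j : ℕ) : ℕ := (Bool.rec (motive := fun _ => ℕ) (Bool.rec (motive := fun _ => ℕ) (Bool.rec (motive := fun _ => ℕ) c4_56 c4_57 (Nat.ble 57 j)) (Bool.rec (motive := fun _ => ℕ) c4_58 c4_59 (Nat.ble 59 j)) (Nat.ble 58 j)) (Bool.rec (motive := fun _ => ℕ) (Bool.rec (motive := fun _ => ℕ) c4_60 c4_61 (Nat.ble 61 j)) (Bool.rec (motive := fun _ => ℕ) c4_62 c4_63 (Nat.ble 63 j)) (Nat.ble 62 j)) (Nat.ble 60 j))
noncomputable def ch4_n0_8 (j : ℕ) : ℕ := (Bool.rec (motive := fun _ => ℕ) (Bool.rec (motive := fun _ => ℕ) (Bool.rec (motive := fun _ => ℕ) c4_64 c4_65 (Nat.ble 65 j)) (Bool.rec (motive := fun _ => ℕ) c4_66 c4_67 (Nat.ble 67 j)) (Nat.ble 66 j)) (Bool.rec (motive := fun _ => ℕ) (Bool.rec (motive := fun _ => ℕ) c4_68 c4_69 (Nat.ble 69 j)) (Bool.rec (motive := fun _ => ℕ) c4_70 c4_71 (Nat.ble 71 j)) (Nat.ble 70 j)) (Nat.ble 68 j))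
noncomputable def ch4_n0_9 (j : ℕ) : ℕ := (Bool.rec (motive := fun _ => ℕ) (Bool.rec (motive := fun _ => ℕ) (Bool.rec (motive := fun _ => ℕ) c4_72 c4_73 (Nat.ble 73 j)) (Bool.rec (motive := fun _ => ℕ) c4_74 c4_75 (Nat.ble 75 j)) (Nat.ble 74 j)) (Bool.rec (motive := fun _ => ℕ) (Bool.rec (motive := fun _ => ℕ) c4_76 c4_77 (Nat.ble 77 j)) (Bool.rec (motive := fun _ => ℕ) c4_78 c4_79 (Nat.ble 79 j)) (Nat.ble 78 j)) (Nat.ble 76 j))
noncomputable def ch4_n0_10 (j : ℕ) : ℕ := (Bool.rec (motive := fun _ => ℕ) (Bool.rec (motive := fun _ => ℕ) (Bool.rec (motive := fun _ => ℕ) c4_80 c4_81 (Nat.ble 81 j)) (Bool.rec (motive := fun _ => ℕ) c4_82 c4_83 (Nat.ble 83 j)) (Nat.ble 82 j)) (Bool.rec (motive := fun _ => ℕ) (Bool.rec (motive := fun _ => ℕ) c4_84 c4_85 (Nat.ble 85 j)) (Bool.rec (motive := fun _ => ℕ) c4_86 c4_87 (Nat.ble 87 j)) (Nat.ble 86 j)) (Nat.ble 84 j))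
noncomputable def ch4_n0_11 (j : ℕ) : ℕ := (Bool.rec (motive := fun _ => ℕ) (Bool.rec (motive := fun _ => ℕ) (Bool.rec (motive := fun _ => ℕ) c4_88 c4_89 (Nat.ble 89 j)) (Bool.rec (motive := fun _ => ℕ) c4_90 c4_91 (Nat.ble 91 j)) (Nat.ble 90 j)) (Bool.rec (motive := fun _ => ℕ) (Bool.rec (motive := fun _ => ℕ) c4_92 c4_93 (Nat.ble 93 j)) (Bool.rec (motive := fun _ => ℕ) c4_94 c4_95 (Nat.ble 95 j)) (Nat.ble 94 j)) (Nat.ble 92 j))
noncomputable def ch4_n0_12 (j : ℕ) : ℕ := (Bool.rec (motive := fun _ => ℕ) (Bool.rec (motive := fun _ => ℕ) (Bool.rec (motive := fun _ => ℕ) c4_96 c4_97 (Nat.ble 97 j)) (Bool.rec (motive := fun _ => ℕ) c4_98 c4_99 (Nat.ble 99 j)) (Nat.ble 98 j)) (Bool.rec (motive := fun _ => ℕ) (Bool.rec (motive := fun _ => ℕ) c4_100 c4_101 (Nat.ble 101 j)) (Bool.rec (motive := fun _ => ℕ) c4_102 c4_103 (Nat.ble 103 j)) (Nat.ble 102 j)) (Nat.ble 100 j))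
noncomputable def ch4_n0_13 (j : ℕ) : ℕ := (Bool.rec (motive := fun _ => ℕ) (Bool.rec (motive := fun _ => ℕ) (Bool.rec (motive := fun _ => ℕ) c4_104 c4_105 (Nat.ble 105 j)) (Bool.rec (motive := fun _ => ℕ) c4_106 c4_107 (Nat.ble 107 j)) (Nat.ble 106 j)) (Bool.rec (motive := fun _ => ℕ) (Bool.rec (motive := fun _ => ℕ) c4_108 c4_109 (Nat.ble 109 j)) (Bool.rec (motive := fun _ => ℕ) c4_110 c4_111 (Nat.ble 111 j)) (Nat.ble 110 j)) (Nat.ble 108 j))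
noncomputable def ch4_n0_14 (j : ℕ) : ℕ := (Bool.rec (motive := fun _ => ℕ) (Bool.rec (motive := fun _ => ℕ) (Bool.rec (motive := fun _ => ℕ) c4_112 c4_113 (Nat.ble 113 j)) (Bool.rec (motive := fun _ => ℕ) c4_114 c4_115 (Nat.ble 115 j)) (Nat.ble 114 j)) (Bool.rec (motive := fun _ => ℕ) (Bool.rec (motive := fun _ => ℕ) c4_116 c4_117 (Nat.ble 117 j)) (Bool.rec (motive := fun _ => ℕ) c4_118 c4_119 (Nat.ble 119 j)) (Nat.ble 118 j)) (Nat.ble 116 j))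
noncomputable def ch4_n0_15 (j : ℕ) : ℕ := (Bool.rec (motive := fun _ => ℕ) (Bool.rec (motive := fun _ => ℕ) (Bool.rec (motive := fun _ => ℕ) c4_120 c4_121 (Nat.ble 121 j)) (Bool.rec (motive := fun _ => ℕ) c4_122 c4_123 (Nat.ble 123 j)) (Nat.ble 122 j)) (Bool.rec (motive := fun _ => ℕ) (Bool.rec (motive := fun _ => ℕ) c4_124 c4_125 (Nat.ble 125 j)) (Bool.rec (motive := fun _ => ℕ) c4_126 c4_127 (Nat.ble 127 j)) (Nat.ble 126 j)) (Nat.ble 124 j))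
noncomputable def ch4_n0_16 (j : ℕ) : ℕ := (Bool.rec (motive := fun _ => ℕ) (Bool.rec (motive := fun _ => ℕ) (Bool.rec (motive := fun _ => ℕ) c4_128 c4_129 (Nat.ble 129 j)) (Bool.rec (motive := fun _ => ℕ) c4_130 c4_131 (Nat.ble 131 j)) (Nat.ble 130 j)) (Bool.rec (motive := fun _ => ℕ) (Bool.rec (motive := fun _ => ℕ) c4_132 c4_133 (Nat.ble 133 j)) (Bool.rec (motive := fun _ => ℕ) c4_134 c4_135 (Nat.ble 135 j)) (Nat.ble 134 j)) (Nat.ble 132 j))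
noncomputable def ch4_n0_17 (j : ℕ) : ℕ := (Bool.rec (motive := fun _ => ℕ) (Bool.rec (motive := fun _ => ℕ) (Bool.rec (motive := fun _ => ℕ) c4_136 c4_137 (Nat.ble 137 j)) (Bool.rec (motive := fun _ => ℕ) c4_138 c4_139 (Nat.ble 139 j)) (Nat.ble 138 j)) (Bool.rec (motive := fun _ => ℕ) (Bool.rec (motive := fun _ => ℕ) c4_140 c4_141 (Nat.ble 141 j)) (Bool.rec (motive := fun _ => ℕ) c4_142 c4_143 (Nat.ble 143 j)) (Nat.ble 142 j)) (Nat.ble 140 j))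
noncomputable def ch4_n0_18 (j : ℕ) : ℕ := (Bool.rec (motive := fun _ => ℕ) (Bool.rec (motive := fun _ => ℕ) (Bool.rec (motive := fun _ => ℕ) c4_144 c4_145 (Nat.ble 145 j)) (Bool.rec (motive := fun _ => ℕ) c4_146 c4_147 (Nat.ble 147 j)) (Nat.ble 146 j)) (Bool.rec (motive := fun _ => ℕ) (Bool.rec (motive := fun _ => ℕ) c4_148 c4_149 (Nat.ble 149 j)) (Bool.rec (motive := fun _ => ℕ) c4_150 c4_151 (Nat.ble 151 j)) (Nat.ble 150 j)) (Nat.ble 148 j))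
noncomputable def ch4_n0_19 (j : ℕ) : ℕ := (Bool.rec (motive := fun _ => ℕ) (Bool.rec (motive := fun _ => ℕ) (Bool.rec (motive := fun _ => ℕ) c4_152 c4_153 (Nat.ble 153 j)) (Bool.rec (motive := fun _ => ℕ) c4_154 c4_155 (Nat.ble 155 j)) (Nat.ble 154 j)) (Bool.rec (motive := fun _ => ℕ) (Bool.rec (motive := fun _ => ℕ) c4_156 c4_157 (Nat.ble 157 j)) (Bool.rec (motive := fun _ => ℕ) c4_158 c4_159 (Nat.ble 159 j)) (Nat.ble 158 j)) (Nat.ble 156 j))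
noncomputable def ch4_n0_20 (j : ℕ) : ℕ := (Bool.rec (motive := fun _ => ℕ) (Bool.rec (motive := fun _ => ℕ) (Bool.rec (motive := fun _ => ℕ) c4_160 c4_161 (Nat.ble 161 j)) (Bool.rec (motive := fun _ => ℕ) c4_162 c4_163 (Nat.ble 163 j)) (Nat.ble 162 j)) (Bool.rec (motive := fun _ => ℕ) (Bool.rec (motive := fun _ => ℕ) c4_164 c4_165 (Nat.ble 165 j)) (Bool.rec (motive := fun _ => ℕ) c4_166 c4_167 (Nat.ble 167 j)) (Nat.ble 166 j)) (Nat.ble 164 j))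
noncomputable def ch4_n0_21 (j : ℕ) : ℕ := (Bool.rec (motive := fun _ => ℕ) (Bool.rec (motive := fun _ => ℕ) (Bool.rec (motive := fun _ => ℕ) c4_168 c4_169 (Nat.ble 169 j)) (Bool.rec (motive := fun _ => ℕ) c4_170 c4_171 (Nat.ble 171 j)) (Nat.ble 170 j)) (Bool.rec (motive := fun _ => ℕ) (Bool.rec (motive := fun _ => ℕ) c4_172 c4_173 (Nat.ble 173 j)) (Bool.rec (motive := fun _ => ℕ) c4_174 c4_175 (Nat.ble 175 j)) (Nat.ble 174 j)) (Nat.ble 172 j))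
noncomputable def ch4_n0_22 (j : ℕ) : ℕ := (Bool.rec (motive := fun _ => ℕ) (Bool.rec (motive := fun _ => ℕ) (Bool.rec (motive := fun _ => ℕ) c4_176 c4_177 (Nat.ble 177 j)) (Bool.rec (motive := fun _ => ℕ) c4_178 c4_179 (Nat.ble 179 j)) (Nat.ble 178 j)) (Bool.rec (motive := fun _ => ℕ) (Bool.rec (motive := fun _ => ℕ) c4_180 c4_181 (Nat.ble 181 j)) (Bool.rec (motive := fun _ => ℕ) c4_182 c4_183 (Nat.ble 183 j)) (Nat.ble 182 j)) (Nat.ble 180 j))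
noncomputable def ch4_n0_23 (j : ℕ) : ℕ := (Bool.rec (motive := fun _ => ℕ) (Bool.rec (motive := fun _ => ℕ) (Bool.rec (motive := fun _ => ℕ) c4_184 c4_185 (Nat.ble 185 j)) (Bool.rec (motive := fun _ => ℕ) c4_186 c4_187 (Nat.ble 187 j)) (Nat.ble 186 j)) (Bool.rec (motive := fun _ => ℕ) (Bool.rec (motive := fun _ => ℕ) c4_188 c4_189 (Nat.ble 189 j)) (Bool.rec (motive := fun _ => ℕ) c4_190 c4_191 (Nat.ble 191 j)) (Nat.ble 190 j)) (Nat.ble 188 j))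
noncomputable def ch4_n0_24 (j : ℕ) : ℕ := (Bool.rec (motive := fun _ => ℕ) (Bool.rec (motive := fun _ => ℕ) (Bool.rec (motive := fun _ => ℕ) c4_192 c4_193 (Nat.ble 193 j)) (Bool.rec (motive := fun _ => ℕ) c4_194 c4_195 (Nat.ble 195 j)) (Nat.ble 194 j)) (Bool.rec (motive := fun _ => ℕ) (Bool.rec (motive := fun _ => ℕ) c4_196 c4_197 (Nat.ble 197 j)) (Bool.rec (motive := fun _ => ℕ) c4_198 c4_199 (Nat.ble 199 j)) (Nat.ble 198 j)) (Nat.ble 196 j))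
noncomputable def ch4_n0_25 (j : ℕ) : ℕ := (Bool.rec (motive := fun _ => ℕ) (Bool.rec (motive := fun _ => ℕ) (Bool.rec (motive := fun _ => ℕ) c4_200 c4_201 (Nat.ble 201 j)) (Bool.rec (motive := fun _ => ℕ) c4_202 c4_203 (Nat.ble 203 j)) (Nat.ble 202 j)) (Bool.rec (motive := fun _ => ℕ) (Bool.rec (motive := fun _ => ℕ) c4_204 c4_205 (Nat.ble 205 j)) (Bool.rec (motive := fun _ => ℕ) c4_206 c4_207 (Nat.ble 207 j)) (Nat.ble 206 j)) (Nat.ble 204 j))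
noncomputable def ch4_n0_26 (j : ℕ) : ℕ := (Bool.rec (motive := fun _ => ℕ) (Bool.rec (motive := fun _ => ℕ) (Bool.rec (motive := fun _ => ℕ) c4_208 c4_209 (Nat.ble 209 j)) (Bool.rec (motive := fun _ => ℕ) c4_210 c4_211 (Nat.ble 211 j)) (Nat.ble 210 j)) (Bool.rec (motive := fun _ => ℕ) (Bool.rec (motive := fun _ => ℕ) c4_212 c4_213 (Nat.ble 213 j)) (Bool.rec (motive := fun _ => ℕ) c4_214 c4_215 (Nat.ble 215 j)) (Nat.ble 214 j)) (Nat.ble 212 j))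
noncomputable def ch4_n0_27 (j : ℕ) : ℕ := (Bool.rec (motive := fun _ => ℕ) (Bool.rec (motive := fun _ => ℕ) (Bool.rec (motive := fun _ => ℕ) c4_216 c4_217 (Nat.ble 217 j)) (Bool.rec (motive := fun _ => ℕ) c4_218 c4_219 (Nat.ble 219 j)) (Nat.ble 218 j)) (Bool.rec (motive := fun _ => ℕ) (Bool.rec (motive := fun _ => ℕ) c4_220 c4_221 (Nat.ble 221 j)) (Bool.rec (motive := fun _ => ℕ) c4_222 c4_223 (Nat.ble 223 j)) (Nat.ble 222 j)) (Nat.ble 220 j))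
noncomputable def ch4_n0_28 (j : ℕ) : ℕ := (Bool.rec (motive := fun _ => ℕ) (Bool.rec (motive := fun _ => ℕ) (Bool.rec (motive := fun _ => ℕ) c4_224 c4_225 (Nat.ble 225 j)) (Bool.rec (motive := fun _ => ℕ) c4_226 c4_227 (Nat.ble 227 j)) (Nat.ble 226 j)) (Bool.rec (motive := fun _ => ℕ) (Bool.rec (motive := fun _ => ℕ) c4_228 c4_229 (Nat.ble 229 j)) (Bool.rec (motive := fun _ => ℕ) c4_230 c4_231 (Nat.ble 231 j)) (Nat.ble 230 j)) (Nat.ble 228 j))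
noncomputable def ch4_n0_29 (j : ℕ) : ℕ := (Bool.rec (motive := fun _ => ℕ) (Bool.rec (motive := fun _ => ℕ) (Bool.rec (motive := fun _ => ℕ) c4_232 c4_233 (Nat.ble 233 j)) (Bool.rec (motive := fun _ => ℕ) c4_234 c4_235 (Nat.ble 235 j)) (Nat.ble 234 j)) (Bool.rec (motive := fun _ => ℕ) (Bool.rec (motive := fun _ => ℕ) c4_236 c4_237 (Nat.ble 237 j)) (Bool.rec (motive := fun _ => ℕ) c4_238 c4_239 (Nat.ble 239 j)) (Nat.ble 238 j)) (Nat.ble 236 j))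
noncomputable def ch4_n0_30 (j : ℕ) : ℕ := (Bool.rec (motive := fun _ => ℕ) (Bool.rec (motive := fun _ => ℕ) (Bool.rec (motive := fun _ => ℕ) c4_240 c4_241 (Nat.ble 241 j)) (Bool.rec (motive := fun _ => ℕ) c4_242 c4_243 (Nat.ble 243 j)) (Nat.ble 242 j)) (Bool.rec (motive := fun _ => ℕ) (Bool.rec (motive := fun _ => ℕ) c4_244 c4_245 (Nat.ble 245 j)) (Bool.rec (motive := fun _ => ℕ) c4_246 c4_247 (Nat.ble 247 j)) (Nat.ble 246 j)) (Nat.ble 244 j))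
noncomputable def ch4_n0_31 (j : ℕ) : ℕ := (Bool.rec (motive := fun _ => ℕ) (Bool.rec (motive := fun _ => ℕ) (Bool.rec (motive := fun _ => ℕ) c4_248 c4_249 (Nat.ble 249 j)) (Bool.rec (motive := fun _ => ℕ) c4_250 c4_251 (Nat.ble 251 j)) (Nat.ble 250 j)) (Bool.rec (motive := fun _ => ℕ) (Bool.rec (motive := fun _ => ℕ) c4_252 c4_253 (Nat.ble 253 j)) (Bool.rec (motive := fun _ => ℕ) c4_254 c4_255 (Nat.ble 255 j)) (Nat.ble 254 j)) (Nat.ble 252 j))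
noncomputable def ch4_n0_32 (j : ℕ) : ℕ := (Bool.rec (motive := fun _ => ℕ) (Bool.rec (motive := fun _ => ℕ) (Bool.rec (motive := fun _ => ℕ) c4_256 c4_257 (Nat.ble 257 j)) (Bool.rec (motive := fun _ => ℕ) c4_258 c4_259 (Nat.ble 259 j)) (Nat.ble 258 j)) (Bool.rec (motive := fun _ => ℕ) (Bool.rec (motive := fun _ => ℕ) c4_260 c4_261 (Nat.ble 261 j)) (Bool.rec (motive := fun _ => ℕ) c4_262 c4_263 (Nat.ble 263 j)) (Nat.ble 262 j)) (Nat.ble 260 j))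
noncomputable def ch4_n0_33 (j : ℕ) : ℕ := (Bool.rec (motive := fun _ => ℕ) (Bool.rec (motive := fun _ => ℕ) (Bool.rec (motive := fun _ => ℕ) c4_264 c4_265 (Nat.ble 265 j)) (Bool.rec (motive := fun _ => ℕ) c4_266 c4_267 (Nat.ble 267 j)) (Nat.ble 266 j)) (Bool.rec (motive := fun _ => ℕ) (Bool.rec (motive := fun _ => ℕ) c4_268 c4_269 (Nat.ble 269 j)) (Bool.rec (motive := fun _ => ℕ) c4_270 c4_271 (Nat.ble 271 j)) (Nat.ble 270 j)) (Nat.ble 268 j))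
noncomputable def ch4_n0_34 (j : ℕ) : ℕ := (Bool.rec (motive := fun _ => ℕ) (Bool.rec (motive := fun _ => ℕ) (Bool.rec (motive := fun _ => ℕ) c4_272 c4_273 (Nat.ble 273 j)) (Bool.rec (motive := fun _ => ℕ) c4_274 c4_275 (Nat.ble 275 j)) (Nat.ble 274 j)) (Bool.rec (motive := fun _ => ℕ) (Bool.rec (motive := fun _ => ℕ) c4_276 c4_277 (Nat.ble 277 j)) (Bool.rec (motive := fun _ => ℕ) c4_278 c4_279 (Nat.ble 279 j)) (Nat.ble 278 j)) (Nat.ble 276 j))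
noncomputable def ch4_n0_35 (j : ℕ) : ℕ := (Bool.rec (motive := fun _ => ℕ) (Bool.rec (motive := fun _ => ℕ) (Bool.rec (motive := fun _ => ℕ) c4_280 c4_281 (Nat.ble 281 j)) (Bool.rec (motive := fun _ => ℕ) c4_282 c4_283 (Nat.ble 283 j)) (Nat.ble 282 j)) (Bool.rec (motive := fun _ => ℕ) (Bool.rec (motive := fun _ => ℕ) c4_284 c4_285 (Nat.ble 285 j)) (Bool.rec (motive := fun _ => ℕ) c4_286 c4_287 (Nat.ble 287 j)) (Nat.ble 286 j)) (Nat.ble 284 j))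
noncomputable def ch4_n0_36 (j : ℕ) : ℕ := (Bool.rec (motive := fun _ => ℕ) (Bool.rec (motive := fun _ => ℕ) (Bool.rec (motive := fun _ => ℕ) c4_288 c4_289 (Nat.ble 289 j)) (Bool.rec (motive := fun _ => ℕ) c4_290 c4_291 (Nat.ble 291 j)) (Nat.ble 290 j)) (Bool.rec (motive := fun _ => ℕ) (Bool.rec (motive := fun _ => ℕ) c4_292 c4_293 (Nat.ble 293 j)) (Bool.rec (motive := fun _ => ℕ) c4_294 c4_295 (Nat.ble 295 j)) (Nat.ble 294 j)) (Nat.ble 292 j))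
noncomputable def ch4_n0_37 (j : ℕ) : ℕ := (Bool.rec (motive := fun _ => ℕ) (Bool.rec (motive := fun _ => ℕ) (Bool.rec (motive := fun _ => ℕ) c4_296 c4_297 (Nat.ble 297 j)) (Bool.rec (motive := fun _ => ℕ) c4_298 c4_299 (Nat.ble 299 j)) (Nat.ble 298 j)) (Bool.rec (motive := fun _ => ℕ) (Bool.rec (motive := fun _ => ℕ) c4_300 c4_301 (Nat.ble 301 j)) (Bool.rec (motive := fun _ => ℕ) c4_302 c4_303 (Nat.ble 303 j)) (Nat.ble 302 j)) (Nat.ble 300 j))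
noncomputable def ch4_n0_38 (j : ℕ) : ℕ := (Bool.rec (motive := fun _ => ℕ) (Bool.rec (motive := fun _ => ℕ) (Bool.rec (motive := fun _ => ℕ) c4_304 c4_305 (Nat.ble 305 j)) (Bool.rec (motive := fun _ => ℕ) c4_306 c4_307 (Nat.ble 307 j)) (Nat.ble 306 j)) (Bool.rec (motive := fun _ => ℕ) (Bool.rec (motive := fun _ => ℕ) c4_308 c4_309 (Nat.ble 309 j)) (Bool.rec (motive := fun _ => ℕ) c4_310 c4_311 (Nat.ble 311 j)) (Nat.ble 310 j)) (Nat.ble 308 j))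
noncomputable def ch4_n0_39 (j : ℕ) : ℕ := (Bool.rec (motive := fun _ => ℕ) (Bool.rec (motive := fun _ => ℕ) (Bool.rec (motive := fun _ => ℕ) c4_312 c4_313 (Nat.ble 313 j)) (Bool.rec (motive := fun _ => ℕ) c4_314 c4_315 (Nat.ble 315 j)) (Nat.ble 314 j)) (Bool.rec (motive := fun _ => ℕ) (Bool.rec (motive := fun _ => ℕ) c4_316 c4_317 (Nat.ble 317 j)) (Bool.rec (motive := fun _ => ℕ) c4_318 c4_319 (Nat.ble 319 j)) (Nat.ble 318 j)) (Nat.ble 316 j))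
noncomputable def ch4_n0_40 (j : ℕ) : ℕ := (Bool.rec (motive := fun _ => ℕ) (Bool.rec (motive := fun _ => ℕ) (Bool.rec (motive := fun _ => ℕ) c4_320 c4_321 (Nat.ble 321 j)) (Bool.rec (motive := fun _ => ℕ) c4_322 c4_323 (Nat.ble 323 j)) (Nat.ble 322 j)) (Bool.rec (motive := fun _ => ℕ) (Bool.rec (motive := fun _ => ℕ) c4_324 c4_325 (Nat.ble 325 j)) (Bool.rec (motive := fun _ => ℕ) c4_326 c4_327 (Nat.ble 327 j)) (Nat.ble 326 j)) (Nat.ble 324 j))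
noncomputable def ch4_n0_41 (j : ℕ) : ℕ := (Bool.rec (motive := fun _ => ℕ) (Bool.rec (motive := fun _ => ℕ) (Bool.rec (motive := fun _ => ℕ) c4_328 c4_329 (Nat.ble 329 j)) (Bool.rec (motive := fun _ => ℕ) c4_330 c4_331 (Nat.ble 331 j)) (Nat.ble 330 j)) (Bool.rec (motive := fun _ => ℕ) (Bool.rec (motive := fun _ => ℕ) c4_332 c4_333 (Nat.ble 333 j)) (Bool.rec (motive := fun _ => ℕ) c4_334 c4_335 (Nat.ble 335 j)) (Nat.ble 334 j)) (Nat.ble 332 j))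
noncomputable def ch4_n0_42 (j : ℕ) : ℕ := (Bool.rec (motive := fun _ => ℕ) (Bool.rec (motive := fun _ => ℕ) (Bool.rec (motive := fun _ => ℕ) c4_336 c4_337 (Nat.ble 337 j)) (Bool.rec (motive := fun _ => ℕ) c4_338 c4_339 (Nat.ble 339 j)) (Nat.ble 338 j)) (Bool.rec (motive := fun _ => ℕ) (Bool.rec (motive := fun _ => ℕ) c4_340 c4_341 (Nat.ble 341 j)) (Bool.rec (motive := fun _ => ℕ) c4_342 c4_343 (Nat.ble 343 j)) (Nat.ble 342 j)) (Nat.ble 340 j))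
noncomputable def ch4_n0_43 (j : ℕ) : ℕ := (Bool.rec (motive := fun _ => ℕ) (Bool.rec (motive := fun _ => ℕ) (Bool.rec (motive := fun _ => ℕ) c4_344 c4_345 (Nat.ble 345 j)) (Bool.rec (motive := fun _ => ℕ) c4_346 c4_347 (Nat.ble 347 j)) (Nat.ble 346 j)) (Bool.rec (motive := fun _ => ℕ) (Bool.rec (motive := fun _ => ℕ) c4_348 c4_349 (Nat.ble 349 j)) (Bool.rec (motive := fun _ => ℕ) c4_350 c4_351 (Nat.ble 351 j)) (Nat.ble 350 j)) (Nat.ble 348 j))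
noncomputable def ch4_n0_44 (j : ℕ) : ℕ := (Bool.rec (motive := fun _ => ℕ) (Bool.rec (motive := fun _ => ℕ) (Bool.rec (motive := fun _ => ℕ) c4_352 c4_353 (Nat.ble 353 j)) (Bool.rec (motive := fun _ => ℕ) c4_354 c4_355 (Nat.ble 355 j)) (Nat.ble 354 j)) (Bool.rec (motive := fun _ => ℕ) (Bool.rec (motive := fun _ => ℕ) c4_356 c4_357 (Nat.ble 357 j)) (Bool.rec (motive := fun _ => ℕ) c4_358 c4_359 (Nat.ble 359 j)) (Nat.ble 358 j)) (Nat.ble 356 j))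
noncomputable def ch4_n0_45 (j : ℕ) : ℕ := (Bool.rec (motive := fun _ => ℕ) (Bool.rec (motive := fun _ => ℕ) (Bool.rec (motive := fun _ => ℕ) c4_360 c4_361 (Nat.ble 361 j)) (Bool.rec (motive := fun _ => ℕ) c4_362 c4_363 (Nat.ble 363 j)) (Nat.ble 362 j)) (Bool.rec (motive := fun _ => ℕ) (Bool.rec (motive := fun _ => ℕ) c4_364 c4_365 (Nat.ble 365 j)) (Bool.rec (motive := fun _ => ℕ) c4_366 c4_367 (Nat.ble 367 j)) (Nat.ble 366 j)) (Nat.ble 364 j))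
noncomputable def ch4_n0_46 (j : ℕ) : ℕ := (Bool.rec (motive := fun _ => ℕ) (Bool.rec (motive := fun _ => ℕ) (Bool.rec (motive := fun _ => ℕ) c4_368 c4_369 (Nat.ble 369 j)) (Bool.rec (motive := fun _ => ℕ) c4_370 c4_371 (Nat.ble 371 j)) (Nat.ble 370 j)) (Bool.rec (motive := fun _ => ℕ) (Bool.rec (motive := fun _ => ℕ) c4_372 c4_373 (Nat.ble 373 j)) (Bool.rec (motive := fun _ => ℕ) c4_374 c4_375 (Nat.ble 375 j)) (Nat.ble 374 j)) (Nat.ble 372 j))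
noncomputable def ch4_n0_47 (j : ℕ) : ℕ := (Bool.rec (motive := fun _ => ℕ) (Bool.rec (motive := fun _ => ℕ) (Bool.rec (motive := fun _ => ℕ) c4_376 c4_377 (Nat.ble 377 j)) (Bool.rec (motive := fun _ => ℕ) c4_378 c4_379 (Nat.ble 379 j)) (Nat.ble 378 j)) (Bool.rec (motive := fun _ => ℕ) (Bool.rec (motive := fun _ => ℕ) c4_380 c4_381 (Nat.ble 381 j)) (Bool.rec (motive := fun _ => ℕ) c4_382 c4_383 (Nat.ble 383 j)) (Nat.ble 382 j)) (Nat.ble 380 j))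
noncomputable def ch4_n0_48 (j : ℕ) : ℕ := (Bool.rec (motive := fun _ => ℕ) (Bool.rec (motive := fun _ => ℕ) (Bool.rec (motive := fun _ => ℕ) c4_384 c4_385 (Nat.ble 385 j)) (Bool.rec (motive := fun _ => ℕ) c4_386 c4_387 (Nat.ble 387 j)) (Nat.ble 386 j)) (Bool.rec (motive := fun _ => ℕ) (Bool.rec (motive := fun _ => ℕ) c4_388 c4_389 (Nat.ble 389 j)) (Bool.rec (motive := fun _ => ℕ) c4_390 c4_391 (Nat.ble 391 j)) (Nat.ble 390 j)) (Nat.ble 388 j))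
noncomputable def ch4_n0_49 (j : ℕ) : ℕ := (Bool.rec (motive := fun _ => ℕ) (Bool.rec (motive := fun _ => ℕ) (Bool.rec (motive := fun _ => ℕ) c4_392 c4_393 (Nat.ble 393 j)) (Bool.rec (motive := fun _ => ℕ) c4_394 c4_395 (Nat.ble 395 j)) (Nat.ble 394 j)) (Bool.rec (motive := fun _ => ℕ) (Bool.rec (motive := fun _ => ℕ) c4_396 c4_397 (Nat.ble 397 j)) (Bool.rec (motive := fun _ => ℕ) c4_398 c4_399 (Nat.ble 399 j)) (Nat.ble 398 j)) (Nat.ble 396 j))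
noncomputable def ch4_n0_50 (j : ℕ) : ℕ := (Bool.rec (motive := fun _ => ℕ) (Bool.rec (motive := fun _ => ℕ) (Bool.rec (motive := fun _ => ℕ) c4_400 c4_401 (Nat.ble 401 j)) (Bool.rec (motive := fun _ => ℕ) c4_402 c4_403 (Nat.ble 403 j)) (Nat.ble 402 j)) (Bool.rec (motive := fun _ => ℕ) (Bool.rec (motive := fun _ => ℕ) c4_404 c4_405 (Nat.ble 405 j)) (Bool.rec (motive := fun _ => ℕ) c4_406 c4_407 (Nat.ble 407 j)) (Nat.ble 406 j)) (Nat.ble 404 j))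
noncomputable def ch4_n0_51 (j : ℕ) : ℕ := (Bool.rec (motive := fun _ => ℕ) (Bool.rec (motive := fun _ => ℕ) (Bool.rec (motive := fun _ => ℕ) c4_408 c4_409 (Nat.ble 409 j)) (Bool.rec (motive := fun _ => ℕ) c4_410 c4_411 (Nat.ble 411 j)) (Nat.ble 410 j)) (Bool.rec (motive := fun _ => ℕ) (Bool.rec (motive := fun _ => ℕ) c4_412 c4_413 (Nat.ble 413 j)) (Bool.rec (motive := fun _ => ℕ) c4_414 c4_415 (Nat.ble 415 j)) (Nat.ble 414 j)) (Nat.ble 412 j))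
noncomputable def ch4_n0_52 (j : ℕ) : ℕ := (Bool.rec (motive := fun _ => ℕ) (Bool.rec (motive := fun _ => ℕ) (Bool.rec (motive := fun _ => ℕ) c4_416 c4_417 (Nat.ble 417 j)) (Bool.rec (motive := fun _ => ℕ) c4_418 c4_419 (Nat.ble 419 j)) (Nat.ble 418 j)) (Bool.rec (motive := fun _ => ℕ) (Bool.rec (motive := fun _ => ℕ) c4_420 c4_421 (Nat.ble 421 j)) (Bool.rec (motive := fun _ => ℕ) c4_422 c4_423 (Nat.ble 423 j)) (Nat.ble 422 j)) (Nat.ble 420 j))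
noncomputable def ch4_n0_53 (j : ℕ) : ℕ := (Bool.rec (motive := fun _ => ℕ) (Bool.rec (motive := fun _ => ℕ) (Bool.rec (motive := fun _ => ℕ) c4_424 c4_425 (Nat.ble 425 j)) (Bool.rec (motive := fun _ => ℕ) c4_426 c4_427 (Nat.ble 427 j)) (Nat.ble 426 j)) (Bool.rec (motive := fun _ => ℕ) (Bool.rec (motive := fun _ => ℕ) c4_428 c4_429 (Nat.ble 429 j)) (Bool.rec (motive := fun _ => ℕ) c4_430 c4_431 (Nat.ble 431 j)) (Nat.ble 430 j)) (Nat.ble 428 j))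
noncomputable def ch4_n0_54 (j : ℕ) : ℕ := (Bool.rec (motive := fun _ => ℕ) (Bool.rec (motive := fun _ => ℕ) (Bool.rec (motive := fun _ => ℕ) c4_432 c4_433 (Nat.ble 433 j)) (Bool.rec (motive := fun _ => ℕ) c4_434 c4_435 (Nat.ble 435 j)) (Nat.ble 434 j)) (Bool.rec (motive := fun _ => ℕ) (Bool.rec (motive := fun _ => ℕ) c4_436 c4_437 (Nat.ble 437 j)) (Bool.rec (motive := fun _ => ℕ) c4_438 c4_439 (Nat.ble 439 j)) (Nat.ble 438 j)) (Nat.ble 436 j))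
noncomputable def ch4_n0_55 (j : ℕ) : ℕ := (Bool.rec (motive := fun _ => ℕ) (Bool.rec (motive := fun _ => ℕ) (Bool.rec (motive := fun _ => ℕ) c4_440 c4_441 (Nat.ble 441 j)) (Bool.rec (motive := fun _ => ℕ) c4_442 c4_443 (Nat.ble 443 j)) (Nat.ble 442 j)) (Bool.rec (motive := fun _ => ℕ) (Bool.rec (motive := fun _ => ℕ) c4_444 c4_445 (Nat.ble 445 j)) (Bool.rec (motive := fun _ => ℕ) c4_446 c4_447 (Nat.ble 447 j)) (Nat.ble 446 j)) (Nat.ble 444 j))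
noncomputable def ch4_n0_56 (j : ℕ) : ℕ := (Bool.rec (motive := fun _ => ℕ) (Bool.rec (motive := fun _ => ℕ) (Bool.rec (motive := fun _ => ℕ) c4_448 c4_449 (Nat.ble 449 j)) (Bool.rec (motive := fun _ => ℕ) c4_450 c4_451 (Nat.ble 451 j)) (Nat.ble 450 j)) (Bool.rec (motive := fun _ => ℕ) (Bool.rec (motive := fun _ => ℕ) c4_452 c4_453 (Nat.ble 453 j)) (Bool.rec (motive := fun _ => ℕ) c4_454 c4_455 (Nat.ble 455 j)) (Nat.ble 454 j)) (Nat.ble 452 j))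
noncomputable def ch4_n0_57 (j : ℕ) : ℕ := (Bool.rec (motive := fun _ => ℕ) (Bool.rec (motive := fun _ => ℕ) (Bool.rec (motive := fun _ => ℕ) c4_456 c4_457 (Nat.ble 457 j)) (Bool.rec (motive := fun _ => ℕ) c4_458 c4_459 (Nat.ble 459 j)) (Nat.ble 458 j)) (Bool.rec (motive := fun _ => ℕ) (Bool.rec (motive := fun _ => ℕ) c4_460 c4_461 (Nat.ble 461 j)) (Bool.rec (motive := fun _ => ℕ) c4_462 c4_463 (Nat.ble 463 j)) (Nat.ble 462 j)) (Nat.ble 460 j))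
noncomputable def ch4_n0_58 (j : ℕ) : ℕ := (Bool.rec (motive := fun _ => ℕ) (Bool.rec (motive := fun _ => ℕ) (Bool.rec (motive := fun _ => ℕ) c4_464 c4_465 (Nat.ble 465 j)) (Bool.rec (motive := fun _ => ℕ) c4_466 c4_467 (Nat.ble 467 j)) (Nat.ble 466 j)) (Bool.rec (motive := fun _ => ℕ) (Bool.rec (motive := fun _ => ℕ) c4_468 c4_469 (Nat.ble 469 j)) (Bool.rec (motive := fun _ => ℕ) c4_470 c4_471 (Nat.ble 471 j)) (Nat.ble 470 j)) (Nat.ble 468 j))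
noncomputable def ch4_n0_59 (j : ℕ) : ℕ := (Bool.rec (motive := fun _ => ℕ) (Bool.rec (motive := fun _ => ℕ) (Bool.rec (motive := fun _ => ℕ) c4_472 c4_473 (Nat.ble 473 j)) (Bool.rec (motive := fun _ => ℕ) c4_474 c4_475 (Nat.ble 475 j)) (Nat.ble 474 j)) (Bool.rec (motive := fun _ => ℕ) (Bool.rec (motive := fun _ => ℕ) c4_476 c4_477 (Nat.ble 477 j)) (Bool.rec (motive := fun _ => ℕ) c4_478 c4_479 (Nat.ble 479 j)) (Nat.ble 478 j)) (Nat.ble 476 j))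
noncomputable def ch4_n0_60 (j : ℕ) : ℕ := (Bool.rec (motive := fun _ => ℕ) (Bool.rec (motive := fun _ => ℕ) (Bool.rec (motive := fun _ => ℕ) c4_480 c4_481 (Nat.ble 481 j)) (Bool.rec (motive := fun _ => ℕ) c4_482 c4_483 (Nat.ble 483 j)) (Nat.ble 482 j)) (Bool.rec (motive := fun _ => ℕ) (Bool.rec (motive := fun _ => ℕ) c4_484 c4_485 (Nat.ble 485 j)) (Bool.rec (motive := fun _ => ℕ) c4_486 c4_487 (Nat.ble 487 j)) (Nat.ble 486 j)) (Nat.ble 484 j))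
noncomputable def ch4_n0_61 (j : ℕ) : ℕ := (Bool.rec (motive := fun _ => ℕ) (Bool.rec (motive := fun _ => ℕ) (Bool.rec (motive := fun _ => ℕ) c4_488 c4_489 (Nat.ble 489 j)) (Bool.rec (motive := fun _ => ℕ) c4_490 c4_491 (Nat.ble 491 j)) (Nat.ble 490 j)) (Bool.rec (motive := fun _ => ℕ) (Bool.rec (motive := fun _ => ℕ) c4_492 c4_493 (Nat.ble 493 j)) (Bool.rec (motive := fun _ => ℕ) c4_494 c4_495 (Nat.ble 495 j)) (Nat.ble 494 j)) (Nat.ble 492 j))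
noncomputable def ch4_n0_62 (j : ℕ) : ℕ := (Bool.rec (motive := fun _ => ℕ) (Bool.rec (motive := fun _ => ℕ) (Bool.rec (motive := fun _ => ℕ) c4_496 c4_497 (Nat.ble 497 j)) (Bool.rec (motive := fun _ => ℕ) c4_498 c4_499 (Nat.ble 499 j)) (Nat.ble 498 j)) (Bool.rec (motive := fun _ => ℕ) (Bool.rec (motive := fun _ => ℕ) c4_500 c4_501 (Nat.ble 501 j)) (Bool.rec (motive := fun _ => ℕ) c4_502 c4_503 (Nat.ble 503 j)) (Nat.ble 502 j)) (Nat.ble 500 j))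
noncomputable def ch4_n0_63 (j : ℕ) : ℕ := (Bool.rec (motive := fun _ => ℕ) (Bool.rec (motive := fun _ => ℕ) (Bool.rec (motive := fun _ => ℕ) c4_504 c4_505 (Nat.ble 505 j)) (Bool.rec (motive := fun _ => ℕ) c4_506 c4_507 (Nat.ble 507 j)) (Nat.ble 506 j)) (Bool.rec (motive := fun _ => ℕ) (Bool.rec (motive := fun _ => ℕ) c4_508 c4_509 (Nat.ble 509 j)) (Bool.rec (motive := fun _ => ℕ) c4_510 c4_511 (Nat.ble 511 j)) (Nat.ble 510 j)) (Nat.ble 508 j))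
noncomputable def ch4_n0_64 (j : ℕ) : ℕ := (Bool.rec (motive := fun _ => ℕ) (Bool.rec (motive := fun _ => ℕ) (Bool.rec (motive := fun _ => ℕ) c4_512 c4_513 (Nat.ble 513 j)) (Bool.rec (motive := fun _ => ℕ) c4_514 c4_515 (Nat.ble 515 j)) (Nat.ble 514 j)) (Bool.rec (motive := fun _ => ℕ) (Bool.rec (motive := fun _ => ℕ) c4_516 c4_517 (Nat.ble 517 j)) (Bool.rec (motive := fun _ => ℕ) c4_518 c4_519 (Nat.ble 519 j)) (Nat.ble 518 j)) (Nat.ble 516 j))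
noncomputable def ch4_n0_65 (j : ℕ) : ℕ := (Bool.rec (motive := fun _ => ℕ) (Bool.rec (motive := fun _ => ℕ) (Bool.rec (motive := fun _ => ℕ) c4_520 c4_521 (Nat.ble 521 j)) (Bool.rec (motive := fun _ => ℕ) c4_522 c4_523 (Nat.ble 523 j)) (Nat.ble 522 j)) (Bool.rec (motive := fun _ => ℕ) (Bool.rec (motive := fun _ => ℕ) c4_524 c4_525 (Nat.ble 525 j)) (Bool.rec (motive := fun _ => ℕ) c4_526 c4_527 (Nat.ble 527 j)) (Nat.ble 526 j)) (Nat.ble 524 j))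
noncomputable def ch4_n0_66 (j : ℕ) : ℕ := (Bool.rec (motive := fun _ => ℕ) (Bool.rec (motive := fun _ => ℕ) (Bool.rec (motive := fun _ => ℕ) c4_528 c4_529 (Nat.ble 529 j)) (Bool.rec (motive := fun _ => ℕ) c4_530 c4_531 (Nat.ble 531 j)) (Nat.ble 530 j)) (Bool.rec (motive := fun _ => ℕ) (Bool.rec (motive := fun _ => ℕ) c4_532 c4_533 (Nat.ble 533 j)) (Bool.rec (motive := fun _ => ℕ) c4_534 c4_535 (Nat.ble 535 j)) (Nat.ble 534 j)) (Nat.ble 532 j))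
noncomputable def ch4_n0_67 (j : ℕ) : ℕ := (Bool.rec (motive := fun _ => ℕ) (Bool.rec (motive := fun _ => ℕ) (Bool.rec (motive := fun _ => ℕ) c4_536 c4_537 (Nat.ble 537 j)) (Bool.rec (motive := fun _ => ℕ) c4_538 c4_539 (Nat.ble 539 j)) (Nat.ble 538 j)) (Bool.rec (motive := fun _ => ℕ) (Bool.rec (motive := fun _ => ℕ) c4_540 c4_541 (Nat.ble 541 j)) (Bool.rec (motive := fun _ => ℕ) c4_542 c4_543 (Nat.ble 543 j)) (Nat.ble 542 j)) (Nat.ble 540 j))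
noncomputable def ch4_n0_68 (j : ℕ) : ℕ := (Bool.rec (motive := fun _ => ℕ) (Bool.rec (motive := fun _ => ℕ) (Bool.rec (motive := fun _ => ℕ) c4_544 c4_545 (Nat.ble 545 j)) (Bool.rec (motive := fun _ => ℕ) c4_546 c4_547 (Nat.ble 547 j)) (Nat.ble 546 j)) (Bool.rec (motive := fun _ => ℕ) (Bool.rec (motive := fun _ => ℕ) c4_548 c4_549 (Nat.ble 549 j)) (Bool.rec (motive := fun _ => ℕ) c4_550 c4_551 (Nat.ble 551 j)) (Nat.ble 550 j)) (Nat.ble 548 j))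
noncomputable def ch4_n0_69 (j : ℕ) : ℕ := (Bool.rec (motive := fun _ => ℕ) (Bool.rec (motive := fun _ => ℕ) (Bool.rec (motive := fun _ => ℕ) c4_552 c4_553 (Nat.ble 553 j)) (Bool.rec (motive := fun _ => ℕ) c4_554 c4_555 (Nat.ble 555 j)) (Nat.ble 554 j)) (Bool.rec (motive := fun _ => ℕ) (Bool.rec (motive := fun _ => ℕ) c4_556 c4_557 (Nat.ble 557 j)) (Bool.rec (motive := fun _ => ℕ) c4_558 c4_559 (Nat.ble 559 j)) (Nat.ble 558 j)) (Nat.ble 556 j))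
noncomputable def ch4_n0_70 (j : ℕ) : ℕ := (Bool.rec (motive := fun _ => ℕ) (Bool.rec (motive := fun _ => ℕ) (Bool.rec (motive := fun _ => ℕ) c4_560 c4_561 (Nat.ble 561 j)) (Bool.rec (motive := fun _ => ℕ) c4_562 c4_563 (Nat.ble 563 j)) (Nat.ble 562 j)) (Bool.rec (motive := fun _ => ℕ) (Bool.rec (motive := fun _ => ℕ) c4_564 c4_565 (Nat.ble 565 j)) (Bool.rec (motive := fun _ => ℕ) c4_566 c4_567 (Nat.ble 567 j)) (Nat.ble 566 j)) (Nat.ble 564 j))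
noncomputable def ch4_n0_71 (j : ℕ) : ℕ := (Bool.rec (motive := fun _ => ℕ) (Bool.rec (motive := fun _ => ℕ) (Bool.rec (motive := fun _ => ℕ) c4_568 c4_569 (Nat.ble 569 j)) (Bool.rec (motive := fun _ => ℕ) c4_570 c4_571 (Nat.ble 571 j)) (Nat.ble 570 j)) (Bool.rec (motive := fun _ => ℕ) (Bool.rec (motive := fun _ => ℕ) c4_572 c4_573 (Nat.ble 573 j)) (Bool.rec (motive := fun _ => ℕ) c4_574 c4_575 (Nat.ble 575 j)) (Nat.ble 574 j)) (Nat.ble 572 j))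
noncomputable def ch4_n0_72 (j : ℕ) : ℕ := (Bool.rec (motive := fun _ => ℕ) (Bool.rec (motive := fun _ => ℕ) (Bool.rec (motive := fun _ => ℕ) c4_576 c4_577 (Nat.ble 577 j)) (Bool.rec (motive := fun _ => ℕ) c4_578 c4_579 (Nat.ble 579 j)) (Nat.ble 578 j)) (Bool.rec (motive := fun _ => ℕ) (Bool.rec (motive := fun _ => ℕ) c4_580 c4_581 (Nat.ble 581 j)) (Bool.rec (motive := fun _ => ℕ) c4_582 c4_583 (Nat.ble 583 j)) (Nat.ble 582 j)) (Nat.ble 580 j))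
noncomputable def ch4_n0_73 (j : ℕ) : ℕ := (Bool.rec (motive := fun _ => ℕ) (Bool.rec (motive := fun _ => ℕ) (Bool.rec (motive := fun _ => ℕ) c4_584 c4_585 (Nat.ble 585 j)) (Bool.rec (motive := fun _ => ℕ) c4_586 c4_587 (Nat.ble 587 j)) (Nat.ble 586 j)) (Bool.rec (motive := fun _ => ℕ) (Bool.rec (motive := fun _ => ℕ) c4_588 c4_589 (Nat.ble 589 j)) (Bool.rec (motive := fun _ => ℕ) c4_590 c4_591 (Nat.ble 591 j)) (Nat.ble 590 j)) (Nat.ble 588 j))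
noncomputable def ch4_n0_74 (j : ℕ) : ℕ := (Bool.rec (motive := fun _ => ℕ) (Bool.rec (motive := fun _ => ℕ) (Bool.rec (motive := fun _ => ℕ) c4_592 c4_593 (Nat.ble 593 j)) (Bool.rec (motive := fun _ => ℕ) c4_594 c4_595 (Nat.ble 595 j)) (Nat.ble 594 j)) (Bool.rec (motive := fun _ => ℕ) (Bool.rec (motive := fun _ => ℕ) c4_596 c4_597 (Nat.ble 597 j)) (Bool.rec (motive := fun _ => ℕ) c4_598 c4_599 (Nat.ble 599 j)) (Nat.ble 598 j)) (Nat.ble 596 j))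
noncomputable def ch4_n0_75 (j : ℕ) : ℕ := (Bool.rec (motive := fun _ => ℕ) (Bool.rec (motive := fun _ => ℕ) (Bool.rec (motive := fun _ => ℕ) c4_600 c4_601 (Nat.ble 601 j)) (Bool.rec (motive := fun _ => ℕ) c4_602 c4_603 (Nat.ble 603 j)) (Nat.ble 602 j)) (Bool.rec (motive := fun _ => ℕ) (Bool.rec (motive := fun _ => ℕ) c4_604 c4_605 (Nat.ble 605 j)) (Bool.rec (motive := fun _ => ℕ) c4_606 c4_607 (Nat.ble 607 j)) (Nat.ble 606 j)) (Nat.ble 604 j))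
noncomputable def ch4_n0_76 (j : ℕ) : ℕ := (Bool.rec (motive := fun _ => ℕ) (Bool.rec (motive := fun _ => ℕ) (Bool.rec (motive := fun _ => ℕ) c4_608 c4_609 (Nat.ble 609 j)) (Bool.rec (motive := fun _ => ℕ) c4_610 c4_611 (Nat.ble 611 j)) (Nat.ble 610 j)) (Bool.rec (motive := fun _ => ℕ) (Bool.rec (motive := fun _ => ℕ) c4_612 c4_613 (Nat.ble 613 j)) (Bool.rec (motive := fun _ => ℕ) c4_614 c4_615 (Nat.ble 615 j)) (Nat.ble 614 j)) (Nat.ble 612 j))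
noncomputable def ch4_n0_77 (j : ℕ) : ℕ := (Bool.rec (motive := fun _ => ℕ) (Bool.rec (motive := fun _ => ℕ) (Bool.rec (motive := fun _ => ℕ) c4_616 c4_617 (Nat.ble 617 j)) (Bool.rec (motive := fun _ => ℕ) c4_618 c4_619 (Nat.ble 619 j)) (Nat.ble 618 j)) (Bool.rec (motive := fun _ => ℕ) (Bool.rec (motive := fun _ => ℕ) c4_620 c4_621 (Nat.ble 621 j)) (Bool.rec (motive := fun _ => ℕ) c4_622 c4_623 (Nat.ble 623 j)) (Nat.ble 622 j)) (Nat.ble 620 j))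
noncomputable def ch4_n0_78 (j : ℕ) : ℕ := (Bool.rec (motive := fun _ => ℕ) (Bool.rec (motive := fun _ => ℕ) (Bool.rec (motive := fun _ => ℕ) c4_624 c4_625 (Nat.ble 625 j)) (Bool.rec (motive := fun _ => ℕ) c4_626 c4_627 (Nat.ble 627 j)) (Nat.ble 626 j)) (Bool.rec (motive := fun _ => ℕ) (Bool.rec (motive := fun _ => ℕ) c4_628 c4_629 (Nat.ble 629 j)) (Bool.rec (motive := fun _ => ℕ) c4_630 c4_631 (Nat.ble 631 j)) (Nat.ble 630 j)) (Nat.ble 628 j))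
noncomputable def ch4_n0_79 (j : ℕ) : ℕ := (Bool.rec (motive := fun _ => ℕ) (Bool.rec (motive := fun _ => ℕ) (Bool.rec (motive := fun _ => ℕ) c4_632 c4_633 (Nat.ble 633 j)) (Bool.rec (motive := fun _ => ℕ) c4_634 c4_635 (Nat.ble 635 j)) (Nat.ble 634 j)) (Bool.rec (motive := fun _ => ℕ) (Bool.rec (motive := fun _ => ℕ) c4_636 c4_637 (Nat.ble 637 j)) (Bool.rec (motive := fun _ => ℕ) c4_638 c4_639 (Nat.ble 639 j)) (Nat.ble 638 j)) (Nat.ble 636 j))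
noncomputable def ch4_n0_80 (j : ℕ) : ℕ := (Bool.rec (motive := fun _ => ℕ) (Bool.rec (motive := fun _ => ℕ) (Bool.rec (motive := fun _ => ℕ) c4_640 c4_641 (Nat.ble 641 j)) (Bool.rec (motive := fun _ => ℕ) c4_642 c4_643 (Nat.ble 643 j)) (Nat.ble 642 j)) (Bool.rec (motive := fun _ => ℕ) (Bool.rec (motive := fun _ => ℕ) c4_644 c4_645 (Nat.ble 645 j)) (Bool.rec (motive := fun _ => ℕ) c4_646 c4_647 (Nat.ble 647 j)) (Nat.ble 646 j)) (Nat.ble 644 j))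
noncomputable def ch4_n0_81 (j : ℕ) : ℕ := (Bool.rec (motive := fun _ => ℕ) (Bool.rec (motive := fun _ => ℕ) (Bool.rec (motive := fun _ => ℕ) c4_648 c4_649 (Nat.ble 649 j)) (Bool.rec (motive := fun _ => ℕ) c4_650 c4_651 (Nat.ble 651 j)) (Nat.ble 650 j)) (Bool.rec (motive := fun _ => ℕ) (Bool.rec (motive := fun _ => ℕ) c4_652 c4_653 (Nat.ble 653 j)) (Bool.rec (motive := fun _ => ℕ) c4_654 c4_655 (Nat.ble 655 j)) (Nat.ble 654 j)) (Nat.ble 652 j))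
noncomputable def ch4_n0_82 (j : ℕ) : ℕ := (Bool.rec (motive := fun _ => ℕ) (Bool.rec (motive := fun _ => ℕ) (Bool.rec (motive := fun _ => ℕ) c4_656 c4_657 (Nat.ble 657 j)) (Bool.rec (motive := fun _ => ℕ) c4_658 c4_659 (Nat.ble 659 j)) (Nat.ble 658 j)) (Bool.rec (motive := fun _ => ℕ) (Bool.rec (motive := fun _ => ℕ) c4_660 c4_661 (Nat.ble 661 j)) (Bool.rec (motive := fun _ => ℕ) c4_662 c4_663 (Nat.ble 663 j)) (Nat.ble 662 j)) (Nat.ble 660 j))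
noncomputable def ch4_n0_83 (j : ℕ) : ℕ := (Bool.rec (motive := fun _ => ℕ) (Bool.rec (motive := fun _ => ℕ) (Bool.rec (motive := fun _ => ℕ) c4_664 c4_665 (Nat.ble 665 j)) (Bool.rec (motive := fun _ => ℕ) c4_666 c4_667 (Nat.ble 667 j)) (Nat.ble 666 j)) (Bool.rec (motive := fun _ => ℕ) (Bool.rec (motive := fun _ => ℕ) c4_668 c4_669 (Nat.ble 669 j)) (Bool.rec (motive := fun _ => ℕ) c4_670 c4_671 (Nat.ble 671 j)) (Nat.ble 670 j)) (Nat.ble 668 j))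
noncomputable def ch4_n0_84 (j : ℕ) : ℕ := (Bool.rec (motive := fun _ => ℕ) (Bool.rec (motive := fun _ => ℕ) (Bool.rec (motive := fun _ => ℕ) c4_672 c4_673 (Nat.ble 673 j)) (Bool.rec (motive := fun _ => ℕ) c4_674 c4_675 (Nat.ble 675 j)) (Nat.ble 674 j)) (Bool.rec (motive := fun _ => ℕ) (Bool.rec (motive := fun _ => ℕ) c4_676 c4_677 (Nat.ble 677 j)) (Bool.rec (motive := fun _ => ℕ) c4_678 c4_679 (Nat.ble 679 j)) (Nat.ble 678 j)) (Nat.ble 676 j))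
noncomputable def ch4_n0_85 (j : ℕ) : ℕ := (Bool.rec (motive := fun _ => ℕ) (Bool.rec (motive := fun _ => ℕ) (Bool.rec (motive := fun _ => ℕ) c4_680 c4_681 (Nat.ble 681 j)) (Bool.rec (motive := fun _ => ℕ) c4_682 c4_683 (Nat.ble 683 j)) (Nat.ble 682 j)) (Bool.rec (motive := fun _ => ℕ) (Bool.rec (motive := fun _ => ℕ) c4_684 c4_685 (Nat.ble 685 j)) (Bool.rec (motive := fun _ => ℕ) c4_686 c4_687 (Nat.ble 687 j)) (Nat.ble 686 j)) (Nat.ble 684 j))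
noncomputable def ch4_n0_86 (j : ℕ) : ℕ := (Bool.rec (motive := fun _ => ℕ) (Bool.rec (motive := fun _ => ℕ) (Bool.rec (motive := fun _ => ℕ) c4_688 c4_689 (Nat.ble 689 j)) (Bool.rec (motive := fun _ => ℕ) c4_690 c4_691 (Nat.ble 691 j)) (Nat.ble 690 j)) (Bool.rec (motive := fun _ => ℕ) (Bool.rec (motive := fun _ => ℕ) c4_692 c4_693 (Nat.ble 693 j)) (Bool.rec (motive := fun _ => ℕ) c4_694 c4_695 (Nat.ble 695 j)) (Nat.ble 694 j)) (Nat.ble 692 j))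
noncomputable def ch4_n0_87 (j : ℕ) : ℕ := (Bool.rec (motive := fun _ => ℕ) (Bool.rec (motive := fun _ => ℕ) (Bool.rec (motive := fun _ => ℕ) c4_696 c4_697 (Nat.ble 697 j)) (Bool.rec (motive := fun _ => ℕ) c4_698 c4_699 (Nat.ble 699 j)) (Nat.ble 698 j)) (Bool.rec (motive := fun _ => ℕ) (Bool.rec (motive := fun _ => ℕ) c4_700 c4_701 (Nat.ble 701 j)) (Bool.rec (motive := fun _ => ℕ) c4_702 c4_703 (Nat.ble 703 j)) (Nat.ble 702 j)) (Nat.ble 700 j))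
noncomputable def ch4_n0_88 (j : ℕ) : ℕ := (Bool.rec (motive := fun _ => ℕ) (Bool.rec (motive := fun _ => ℕ) (Bool.rec (motive := fun _ => ℕ) c4_704 c4_705 (Nat.ble 705 j)) (Bool.rec (motive := fun _ => ℕ) c4_706 c4_707 (Nat.ble 707 j)) (Nat.ble 706 j)) (Bool.rec (motive := fun _ => ℕ) (Bool.rec (motive := fun _ => ℕ) c4_708 c4_709 (Nat.ble 709 j)) (Bool.rec (motive := fun _ => ℕ) c4_710 c4_711 (Nat.ble 711 j)) (Nat.ble 710 j)) (Nat.ble 708 j))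
noncomputable def ch4_n0_89 (j : ℕ) : ℕ := (Bool.rec (motive := fun _ => ℕ) (Bool.rec (motive := fun _ => ℕ) (Bool.rec (motive := fun _ => ℕ) c4_712 c4_713 (Nat.ble 713 j)) (Bool.rec (motive := fun _ => ℕ) c4_714 c4_715 (Nat.ble 715 j)) (Nat.ble 714 j)) (Bool.rec (motive := fun _ => ℕ) (Bool.rec (motive := fun _ => ℕ) c4_716 c4_717 (Nat.ble 717 j)) (Bool.rec (motive := fun _ => ℕ) c4_718 c4_719 (Nat.ble 719 j)) (Nat.ble 718 j)) (Nat.ble 716 j))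
noncomputable def ch4_n0_90 (j : ℕ) : ℕ := (Bool.rec (motive := fun _ => ℕ) (Bool.rec (motive := fun _ => ℕ) (Bool.rec (motive := fun _ => ℕ) c4_720 c4_721 (Nat.ble 721 j)) (Bool.rec (motive := fun _ => ℕ) c4_722 c4_723 (Nat.ble 723 j)) (Nat.ble 722 j)) (Bool.rec (motive := fun _ => ℕ) (Bool.rec (motive := fun _ => ℕ) c4_724 c4_725 (Nat.ble 725 j)) (Bool.rec (motive := fun _ => ℕ) c4_726 c4_727 (Nat.ble 727 j)) (Nat.ble 726 j)) (Nat.ble 724 j))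
noncomputable def ch4_n0_91 (j : ℕ) : ℕ := (Bool.rec (motive := fun _ => ℕ) (Bool.rec (motive := fun _ => ℕ) (Bool.rec (motive := fun _ => ℕ) c4_728 c4_729 (Nat.ble 729 j)) (Bool.rec (motive := fun _ => ℕ) c4_730 c4_731 (Nat.ble 731 j)) (Nat.ble 730 j)) (Bool.rec (motive := fun _ => ℕ) (Bool.rec (motive := fun _ => ℕ) c4_732 c4_733 (Nat.ble 733 j)) (Bool.rec (motive := fun _ => ℕ) c4_734 c4_735 (Nat.ble 735 j)) (Nat.ble 734 j)) (Nat.ble 732 j))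
noncomputable def ch4_n0_92 (j : ℕ) : ℕ := (Bool.rec (motive := fun _ => ℕ) (Bool.rec (motive := fun _ => ℕ) (Bool.rec (motive := fun _ => ℕ) c4_736 c4_737 (Nat.ble 737 j)) (Bool.rec (motive := fun _ => ℕ) c4_738 c4_739 (Nat.ble 739 j)) (Nat.ble 738 j)) (Bool.rec (motive := fun _ => ℕ) (Bool.rec (motive := fun _ => ℕ) c4_740 c4_741 (Nat.ble 741 j)) (Bool.rec (motive := fun _ => ℕ) c4_742 c4_743 (Nat.ble 743 j)) (Nat.ble 742 j)) (Nat.ble 740 j))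
noncomputable def ch4_n0_93 (j : ℕ) : ℕ := (Bool.rec (motive := fun _ => ℕ) (Bool.rec (motive := fun _ => ℕ) (Bool.rec (motive := fun _ => ℕ) c4_744 c4_745 (Nat.ble 745 j)) (Bool.rec (motive := fun _ => ℕ) c4_746 c4_747 (Nat.ble 747 j)) (Nat.ble 746 j)) (Bool.rec (motive := fun _ => ℕ) (Bool.rec (motive := fun _ => ℕ) c4_748 c4_749 (Nat.ble 749 j)) (Bool.rec (motive := fun _ => ℕ) c4_750 c4_751 (Nat.ble 751 j)) (Nat.ble 750 j)) (Nat.ble 748 j))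
noncomputable def ch4_n0_94 (j : ℕ) : ℕ := (Bool.rec (motive := fun _ => ℕ) (Bool.rec (motive := fun _ => ℕ) (Bool.rec (motive := fun _ => ℕ) c4_752 c4_753 (Nat.ble 753 j)) (Bool.rec (motive := fun _ => ℕ) c4_754 c4_755 (Nat.ble 755 j)) (Nat.ble 754 j)) (Bool.rec (motive := fun _ => ℕ) (Bool.rec (motive := fun _ => ℕ) c4_756 c4_757 (Nat.ble 757 j)) (Bool.rec (motive := fun _ => ℕ) c4_758 c4_759 (Nat.ble 759 j)) (Nat.ble 758 j)) (Nat.ble 756 j))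
noncomputable def ch4_n0_95 (j : ℕ) : ℕ := (Bool.rec (motive := fun _ => ℕ) (Bool.rec (motive := fun _ => ℕ) (Bool.rec (motive := fun _ => ℕ) c4_760 c4_761 (Nat.ble 761 j)) (Bool.rec (motive := fun _ => ℕ) c4_762 c4_763 (Nat.ble 763 j)) (Nat.ble 762 j)) (Bool.rec (motive := fun _ => ℕ) (Bool.rec (motive := fun _ => ℕ) c4_764 c4_765 (Nat.ble 765 j)) (Bool.rec (motive := fun _ => ℕ) c4_766 c4_767 (Nat.ble 767 j)) (Nat.ble 766 j)) (Nat.ble 764 j))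
noncomputable def ch4_n0_96 (j : ℕ) : ℕ := (Bool.rec (motive := fun _ => ℕ) (Bool.rec (motive := fun _ => ℕ) (Bool.rec (motive := fun _ => ℕ) c4_768 c4_769 (Nat.ble 769 j)) (Bool.rec (motive := fun _ => ℕ) c4_770 c4_771 (Nat.ble 771 j)) (Nat.ble 770 j)) (Bool.rec (motive := fun _ => ℕ) (Bool.rec (motive := fun _ => ℕ) c4_772 c4_773 (Nat.ble 773 j)) (Bool.rec (motive := fun _ => ℕ) c4_774 c4_775 (Nat.ble 775 j)) (Nat.ble 774 j)) (Nat.ble 772 j))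
noncomputable def ch4_n0_97 (j : ℕ) : ℕ := (Bool.rec (motive := fun _ => ℕ) (Bool.rec (motive := fun _ => ℕ) (Bool.rec (motive := fun _ => ℕ) c4_776 c4_777 (Nat.ble 777 j)) (Bool.rec (motive := fun _ => ℕ) c4_778 c4_779 (Nat.ble 779 j)) (Nat.ble 778 j)) (Bool.rec (motive := fun _ => ℕ) (Bool.rec (motive := fun _ => ℕ) c4_780 c4_781 (Nat.ble 781 j)) (Bool.rec (motive := fun _ => ℕ) c4_782 c4_783 (Nat.ble 783 j)) (Nat.ble 782 j)) (Nat.ble 780 j))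
noncomputable def ch4_n0_98 (j : ℕ) : ℕ := (Bool.rec (motive := fun _ => ℕ) (Bool.rec (motive := fun _ => ℕ) (Bool.rec (motive := fun _ => ℕ) c4_784 c4_785 (Nat.ble 785 j)) (Bool.rec (motive := fun _ => ℕ) c4_786 c4_787 (Nat.ble 787 j)) (Nat.ble 786 j)) (Bool.rec (motive := fun _ => ℕ) (Bool.rec (motive := fun _ => ℕ) c4_788 c4_789 (Nat.ble 789 j)) (Bool.rec (motive := fun _ => ℕ) c4_790 c4_791 (Nat.ble 791 j)) (Nat.ble 790 j)) (Nat.ble 788 j))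
noncomputable def ch4_n0_99 (j : ℕ) : ℕ := (Bool.rec (motive := fun _ => ℕ) (Bool.rec (motive := fun _ => ℕ) (Bool.rec (motive := fun _ => ℕ) c4_792 c4_793 (Nat.ble 793 j)) (Bool.rec (motive := fun _ => ℕ) c4_794 c4_795 (Nat.ble 795 j)) (Nat.ble 794 j)) (Bool.rec (motive := fun _ => ℕ) (Bool.rec (motive := fun _ => ℕ) c4_796 c4_797 (Nat.ble 797 j)) (Bool.rec (motive := fun _ => ℕ) c4_798 c4_799 (Nat.ble 799 j)) (Nat.ble 798 j)) (Nat.ble 796 j))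
noncomputable def ch4_n0_100 (j : ℕ) : ℕ := (Bool.rec (motive := fun _ => ℕ) (Bool.rec (motive := fun _ => ℕ) (Bool.rec (motive := fun _ => ℕ) c4_800 c4_801 (Nat.ble 801 j)) (Bool.rec (motive := fun _ => ℕ) c4_802 c4_803 (Nat.ble 803 j)) (Nat.ble 802 j)) (Bool.rec (motive := fun _ => ℕ) (Bool.rec (motive := fun _ => ℕ) c4_804 c4_805 (Nat.ble 805 j)) (Bool.rec (motive := fun _ => ℕ) c4_806 c4_807 (Nat.ble 807 j)) (Nat.ble 806 j)) (Nat.ble 804 j))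
noncomputable def ch4_n0_101 (j : ℕ) : ℕ := (Bool.rec (motive := fun _ => ℕ) (Bool.rec (motive := fun _ => ℕ) (Bool.rec (motive := fun _ => ℕ) c4_808 c4_809 (Nat.ble 809 j)) (Bool.rec (motive := fun _ => ℕ) c4_810 c4_811 (Nat.ble 811 j)) (Nat.ble 810 j)) (Bool.rec (motive := fun _ => ℕ) (Bool.rec (motive := fun _ => ℕ) c4_812 c4_813 (Nat.ble 813 j)) (Bool.rec (motive := fun _ => ℕ) c4_814 c4_815 (Nat.ble 815 j)) (Nat.ble 814 j)) (Nat.ble 812 j))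
noncomputable def ch4_n0_102 (j : ℕ) : ℕ := (Bool.rec (motive := fun _ => ℕ) (Bool.rec (motive := fun _ => ℕ) (Bool.rec (motive := fun _ => ℕ) c4_816 c4_817 (Nat.ble 817 j)) (Bool.rec (motive := fun _ => ℕ) c4_818 c4_819 (Nat.ble 819 j)) (Nat.ble 818 j)) (Bool.rec (motive := fun _ => ℕ) (Bool.rec (motive := fun _ => ℕ) c4_820 c4_821 (Nat.ble 821 j)) (Bool.rec (motive := fun _ => ℕ) c4_822 c4_823 (Nat.ble 823 j)) (Nat.ble 822 j)) (Nat.ble 820 j))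
noncomputable def ch4_n0_103 (j : ℕ) : ℕ := (Bool.rec (motive := fun _ => ℕ) (Bool.rec (motive := fun _ => ℕ) (Bool.rec (motive := fun _ => ℕ) c4_824 c4_825 (Nat.ble 825 j)) (Bool.rec (motive := fun _ => ℕ) c4_826 c4_827 (Nat.ble 827 j)) (Nat.ble 826 j)) (Bool.rec (motive := fun _ => ℕ) (Bool.rec (motive := fun _ => ℕ) c4_828 c4_829 (Nat.ble 829 j)) (Bool.rec (motive := fun _ => ℕ) c4_830 c4_831 (Nat.ble 831 j)) (Nat.ble 830 j)) (Nat.ble 828 j))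
noncomputable def ch4_n0_104 (j : ℕ) : ℕ := (Bool.rec (motive := fun _ => ℕ) (Bool.rec (motive := fun _ => ℕ) (Bool.rec (motive := fun _ => ℕ) c4_832 c4_833 (Nat.ble 833 j)) (Bool.rec (motive := fun _ => ℕ) c4_834 c4_835 (Nat.ble 835 j)) (Nat.ble 834 j)) (Bool.rec (motive := fun _ => ℕ) (Bool.rec (motive := fun _ => ℕ) c4_836 c4_837 (Nat.ble 837 j)) (Bool.rec (motive := fun _ => ℕ) c4_838 c4_839 (Nat.ble 839 j)) (Nat.ble 838 j)) (Nat.ble 836 j))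
noncomputable def ch4_n0_105 (j : ℕ) : ℕ := (Bool.rec (motive := fun _ => ℕ) (Bool.rec (motive := fun _ => ℕ) (Bool.rec (motive := fun _ => ℕ) c4_840 c4_841 (Nat.ble 841 j)) (Bool.rec (motive := fun _ => ℕ) c4_842 c4_843 (Nat.ble 843 j)) (Nat.ble 842 j)) (Bool.rec (motive := fun _ => ℕ) (Bool.rec (motive := fun _ => ℕ) c4_844 c4_845 (Nat.ble 845 j)) (Bool.rec (motive := fun _ => ℕ) c4_846 c4_847 (Nat.ble 847 j)) (Nat.ble 846 j)) (Nat.ble 844 j))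
noncomputable def ch4_n0_106 (j : ℕ) : ℕ := (Bool.rec (motive := fun _ => ℕ) (Bool.rec (motive := fun _ => ℕ) (Bool.rec (motive := fun _ => ℕ) c4_848 c4_849 (Nat.ble 849 j)) (Bool.rec (motive := fun _ => ℕ) c4_850 c4_851 (Nat.ble 851 j)) (Nat.ble 850 j)) (Bool.rec (motive := fun _ => ℕ) (Bool.rec (motive := fun _ => ℕ) c4_852 c4_853 (Nat.ble 853 j)) (Bool.rec (motive := fun _ => ℕ) c4_854 c4_855 (Nat.ble 855 j)) (Nat.ble 854 j)) (Nat.ble 852 j))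
noncomputable def ch4_n0_107 (j : ℕ) : ℕ := (Bool.rec (motive := fun _ => ℕ) (Bool.rec (motive := fun _ => ℕ) (Bool.rec (motive := fun _ => ℕ) c4_856 c4_857 (Nat.ble 857 j)) (Bool.rec (motive := fun _ => ℕ) c4_858 c4_859 (Nat.ble 859 j)) (Nat.ble 858 j)) (Bool.rec (motive := fun _ => ℕ) (Bool.rec (motive := fun _ => ℕ) c4_860 c4_861 (Nat.ble 861 j)) (Bool.rec (motive := fun _ => ℕ) c4_862 c4_863 (Nat.ble 863 j)) (Nat.ble 862 j)) (Nat.ble 860 j))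
noncomputable def ch4_n0_108 (j : ℕ) : ℕ := (Bool.rec (motive := fun _ => ℕ) (Bool.rec (motive := fun _ => ℕ) (Bool.rec (motive := fun _ => ℕ) c4_864 c4_865 (Nat.ble 865 j)) (Bool.rec (motive := fun _ => ℕ) c4_866 c4_867 (Nat.ble 867 j)) (Nat.ble 866 j)) (Bool.rec (motive := fun _ => ℕ) (Bool.rec (motive := fun _ => ℕ) c4_868 c4_869 (Nat.ble 869 j)) (Bool.rec (motive := fun _ => ℕ) c4_870 c4_871 (Nat.ble 871 j)) (Nat.ble 870 j)) (Nat.ble 868 j))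
noncomputable def ch4_n0_109 (j : ℕ) : ℕ := (Bool.rec (motive := fun _ => ℕ) (Bool.rec (motive := fun _ => ℕ) (Bool.rec (motive := fun _ => ℕ) c4_872 c4_873 (Nat.ble 873 j)) (Bool.rec (motive := fun _ => ℕ) c4_874 c4_875 (Nat.ble 875 j)) (Nat.ble 874 j)) (Bool.rec (motive := fun _ => ℕ) (Bool.rec (motive := fun _ => ℕ) c4_876 c4_877 (Nat.ble 877 j)) (Bool.rec (motive := fun _ => ℕ) c4_878 c4_879 (Nat.ble 879 j)) (Nat.ble 878 j)) (Nat.ble 876 j))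
noncomputable def ch4_n0_110 (j : ℕ) : ℕ := (Bool.rec (motive := fun _ => ℕ) (Bool.rec (motive := fun _ => ℕ) (Bool.rec (motive := fun _ => ℕ) c4_880 c4_881 (Nat.ble 881 j)) (Bool.rec (motive := fun _ => ℕ) c4_882 c4_883 (Nat.ble 883 j)) (Nat.ble 882 j)) (Bool.rec (motive := fun _ => ℕ) (Bool.rec (motive := fun _ => ℕ) c4_884 c4_885 (Nat.ble 885 j)) (Bool.rec (motive := fun _ => ℕ) c4_886 c4_887 (Nat.ble 887 j)) (Nat.ble 886 j)) (Nat.ble 884 j))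
noncomputable def ch4_n0_111 (j : ℕ) : ℕ := (Bool.rec (motive := fun _ => ℕ) (Bool.rec (motive := fun _ => ℕ) (Bool.rec (motive := fun _ => ℕ) c4_888 c4_889 (Nat.ble 889 j)) (Bool.rec (motive := fun _ => ℕ) c4_890 c4_891 (Nat.ble 891 j)) (Nat.ble 890 j)) (Bool.rec (motive := fun _ => ℕ) (Bool.rec (motive := fun _ => ℕ) c4_892 c4_893 (Nat.ble 893 j)) (Bool.rec (motive := fun _ => ℕ) c4_894 c4_895 (Nat.ble 895 j)) (Nat.ble 894 j)) (Nat.ble 892 j))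
noncomputable def ch4_n0_112 (j : ℕ) : ℕ := (Bool.rec (motive := fun _ => ℕ) (Bool.rec (motive := fun _ => ℕ) (Bool.rec (motive := fun _ => ℕ) c4_896 c4_897 (Nat.ble 897 j)) (Bool.rec (motive := fun _ => ℕ) c4_898 c4_899 (Nat.ble 899 j)) (Nat.ble 898 j)) (Bool.rec (motive := fun _ => ℕ) (Bool.rec (motive := fun _ => ℕ) c4_900 c4_901 (Nat.ble 901 j)) (Bool.rec (motive := fun _ => ℕ) c4_902 c4_903 (Nat.ble 903 j)) (Nat.ble 902 j)) (Nat.ble 900 j))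
noncomputable def ch4_n0_113 (j : ℕ) : ℕ := (Bool.rec (motive := fun _ => ℕ) (Bool.rec (motive := fun _ => ℕ) (Bool.rec (motive := fun _ => ℕ) c4_904 c4_905 (Nat.ble 905 j)) (Bool.rec (motive := fun _ => ℕ) c4_906 c4_907 (Nat.ble 907 j)) (Nat.ble 906 j)) (Bool.rec (motive := fun _ => ℕ) (Bool.rec (motive := fun _ => ℕ) c4_908 c4_909 (Nat.ble 909 j)) (Bool.rec (motive := fun _ => ℕ) c4_910 c4_911 (Nat.ble 911 j)) (Nat.ble 910 j)) (Nat.ble 908 j))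
noncomputable def ch4_n0_114 (j : ℕ) : ℕ := (Bool.rec (motive := fun _ => ℕ) (Bool.rec (motive := fun _ => ℕ) (Bool.rec (motive := fun _ => ℕ) c4_912 c4_913 (Nat.ble 913 j)) (Bool.rec (motive := fun _ => ℕ) c4_914 c4_915 (Nat.ble 915 j)) (Nat.ble 914 j)) (Bool.rec (motive := fun _ => ℕ) (Bool.rec (motive := fun _ => ℕ) c4_916 c4_917 (Nat.ble 917 j)) (Bool.rec (motive := fun _ => ℕ) c4_918 c4_919 (Nat.ble 919 j)) (Nat.ble 918 j)) (Nat.ble 916 j))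
noncomputable def ch4_n0_115 (j : ℕ) : ℕ := (Bool.rec (motive := fun _ => ℕ) (Bool.rec (motive := fun _ => ℕ) (Bool.rec (motive := fun _ => ℕ) c4_920 c4_921 (Nat.ble 921 j)) (Bool.rec (motive := fun _ => ℕ) c4_922 c4_923 (Nat.ble 923 j)) (Nat.ble 922 j)) (Bool.rec (motive := fun _ => ℕ) (Bool.rec (motive := fun _ => ℕ) c4_924 c4_925 (Nat.ble 925 j)) (Bool.rec (motive := fun _ => ℕ) c4_926 c4_927 (Nat.ble 927 j)) (Nat.ble 926 j)) (Nat.ble 924 j))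
noncomputable def ch4_n0_116 (j : ℕ) : ℕ := (Bool.rec (motive := fun _ => ℕ) (Bool.rec (motive := fun _ => ℕ) (Bool.rec (motive := fun _ => ℕ) c4_928 c4_929 (Nat.ble 929 j)) (Bool.rec (motive := fun _ => ℕ) c4_930 c4_931 (Nat.ble 931 j)) (Nat.ble 930 j)) (Bool.rec (motive := fun _ => ℕ) (Bool.rec (motive := fun _ => ℕ) c4_932 c4_933 (Nat.ble 933 j)) (Bool.rec (motive := fun _ => ℕ) c4_934 c4_935 (Nat.ble 935 j)) (Nat.ble 934 j)) (Nat.ble 932 j))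
noncomputable def ch4_n0_117 (j : ℕ) : ℕ := (Bool.rec (motive := fun _ => ℕ) (Bool.rec (motive := fun _ => ℕ) (Bool.rec (motive := fun _ => ℕ) c4_936 c4_937 (Nat.ble 937 j)) (Bool.rec (motive := fun _ => ℕ) c4_938 c4_939 (Nat.ble 939 j)) (Nat.ble 938 j)) (Bool.rec (motive := fun _ => ℕ) (Bool.rec (motive := fun _ => ℕ) c4_940 c4_941 (Nat.ble 941 j)) (Bool.rec (motive := fun _ => ℕ) c4_942 c4_943 (Nat.ble 943 j)) (Nat.ble 942 j)) (Nat.ble 940 j))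
noncomputable def ch4_n0_118 (j : ℕ) : ℕ := (Bool.rec (motive := fun _ => ℕ) (Bool.rec (motive := fun _ => ℕ) c4_944 (Bool.rec (motive := fun _ => ℕ) c4_945 c4_946 (Nat.ble 946 j)) (Nat.ble 945 j)) (Bool.rec (motive := fun _ => ℕ) c4_947 (Bool.rec (motive := fun _ => ℕ) c4_948 c4_949 (Nat.ble 949 j)) (Nat.ble 948 j)) (Nat.ble 947 j))
noncomputable def ch4_n1_0 (j : ℕ) : ℕ := (Bool.rec (motive := fun _ => ℕ) (Bool.rec (motive := fun _ => ℕ) (Bool.rec (motive := fun _ => ℕ) (ch4_n0_0 j) (ch4_n0_1 j) (Nat.ble 8 j)) (Bool.rec (motive := fun _ => ℕ) (ch4_n0_2 j) (ch4_n0_3 j) (Nat.ble 24 j)) (Nat.ble 16 j)) (Bool.rec (motive := fun _ => ℕ) (Bool.rec (motive := fun _ => ℕ) (ch4_n0_4 j) (ch4_n0_5 j) (Nat.ble 40 j)) (Bool.rec (motive := fun _ => ℕ) (ch4_n0_6 j) (ch4_n0_7 j) (Nat.ble 56 j)) (Nat.ble 48 j)) (Nat.ble 32 j))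
noncomputable def ch4_n1_1 (j : ℕ) : ℕ := (Bool.rec (motive := fun _ => ℕ) (Bool.rec (motive := fun _ => ℕ) (Bool.rec (motive := fun _ => ℕ) (ch4_n0_8 j) (ch4_n0_9 j) (Nat.ble 72 j)) (Bool.rec (motive := fun _ => ℕ) (ch4_n0_10 j) (ch4_n0_11 j) (Nat.ble 88 j)) (Nat.ble 80 j)) (Bool.rec (motive := fun _ => ℕ) (Bool.rec (motive := fun _ => ℕ) (ch4_n0_12 j) (ch4_n0_13 j) (Nat.ble 104 j)) (Bool.rec (motive := fun _ => ℕ) (ch4_n0_14 j) (ch4_n0_15 j) (Nat.ble 120 j)) (Nat.ble 112 j)) (Nat.ble 96 j))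
noncomputable def ch4_n1_2 (j : ℕ) : ℕ := (Bool.rec (motive := fun _ => ℕ) (Bool.rec (motive := fun _ => ℕ) (Bool.rec (motive := fun _ => ℕ) (ch4_n0_16 j) (ch4_n0_17 j) (Nat.ble 136 j)) (Bool.rec (motive := fun _ => ℕ) (ch4_n0_18 j) (ch4_n0_19 j) (Nat.ble 152 j)) (Nat.ble 144 j)) (Bool.rec (motive := fun _ => ℕ) (Bool.rec (motive := fun _ => ℕ) (ch4_n0_20 j) (ch4_n0_21 j) (Nat.ble 168 j)) (Bool.rec (motive := fun _ => ℕ) (ch4_n0_22 j) (ch4_n0_23 j) (Nat.ble 184 j)) (Nat.ble 176 j)) (Nat.ble 160 j))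
noncomputable def ch4_n1_3 (j : ℕ) : ℕ := (Bool.rec (motive := fun _ => ℕ) (Bool.rec (motive := fun _ => ℕ) (Bool.rec (motive := fun _ => ℕ) (ch4_n0_24 j) (ch4_n0_25 j) (Nat.ble 200 j)) (Bool.rec (motive := fun _ => ℕ) (ch4_n0_26 j) (ch4_n0_27 j) (Nat.ble 216 j)) (Nat.ble 208 j)) (Bool.rec (motive := fun _ => ℕ) (Bool.rec (motive := fun _ => ℕ) (ch4_n0_28 j) (ch4_n0_29 j) (Nat.ble 232 j)) (Bool.rec (motive := fun _ => ℕ) (ch4_n0_30 j) (ch4_n0_31 j) (Nat.ble 248 j)) (Nat.ble 240 j)) (Nat.ble 224 j))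
noncomputable def ch4_n1_4 (j : ℕ) : ℕ := (Bool.rec (motive := fun _ => ℕ) (Bool.rec (motive := fun _ => ℕ) (Bool.rec (motive := fun _ => ℕ) (ch4_n0_32 j) (ch4_n0_33 j) (Nat.ble 264 j)) (Bool.rec (motive := fun _ => ℕ) (ch4_n0_34 j) (ch4_n0_35 j) (Nat.ble 280 j)) (Nat.ble 272 j)) (Bool.rec (motive := fun _ => ℕ) (Bool.rec (motive := fun _ => ℕ) (ch4_n0_36 j) (ch4_n0_37 j) (Nat.ble 296 j)) (Bool.rec (motive := fun _ => ℕ) (ch4_n0_38 j) (ch4_n0_39 j) (Nat.ble 312 j)) (Nat.ble 304 j)) (Nat.ble 288 j))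
noncomputable def ch4_n1_5 (j : ℕ) : ℕ := (Bool.rec (motive := fun _ => ℕ) (Bool.rec (motive := fun _ => ℕ) (Bool.rec (motive := fun _ => ℕ) (ch4_n0_40 j) (ch4_n0_41 j) (Nat.ble 328 j)) (Bool.rec (motive := fun _ => ℕ) (ch4_n0_42 j) (ch4_n0_43 j) (Nat.ble 344 j)) (Nat.ble 336 j)) (Bool.rec (motive := fun _ => ℕ) (Bool.rec (motive := fun _ => ℕ) (ch4_n0_44 j) (ch4_n0_45 j) (Nat.ble 360 j)) (Bool.rec (motive := fun _ => ℕ) (ch4_n0_46 j) (ch4_n0_47 j) (Nat.ble 376 j)) (Nat.ble 368 j)) (Nat.ble 352 j))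
noncomputable def ch4_n1_6 (j : ℕ) : ℕ := (Bool.rec (motive := fun _ => ℕ) (Bool.rec (motive := fun _ => ℕ) (Bool.rec (motive := fun _ => ℕ) (ch4_n0_48 j) (ch4_n0_49 j) (Nat.ble 392 j)) (Bool.rec (motive := fun _ => ℕ) (ch4_n0_50 j) (ch4_n0_51 j) (Nat.ble 408 j)) (Nat.ble 400 j)) (Bool.rec (motive := fun _ => ℕ) (Bool.rec (motive := fun _ => ℕ) (ch4_n0_52 j) (ch4_n0_53 j) (Nat.ble 424 j)) (Bool.rec (motive := fun _ => ℕ) (ch4_n0_54 j) (ch4_n0_55 j) (Nat.ble 440 j)) (Nat.ble 432 j)) (Nat.ble 416 j))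
noncomputable def ch4_n1_7 (j : ℕ) : ℕ := (Bool.rec (motive := fun _ => ℕ) (Bool.rec (motive := fun _ => ℕ) (Bool.rec (motive := fun _ => ℕ) (ch4_n0_56 j) (ch4_n0_57 j) (Nat.ble 456 j)) (Bool.rec (motive := fun _ => ℕ) (ch4_n0_58 j) (ch4_n0_59 j) (Nat.ble 472 j)) (Nat.ble 464 j)) (Bool.rec (motive := fun _ => ℕ) (Bool.rec (motive := fun _ => ℕ) (ch4_n0_60 j) (ch4_n0_61 j) (Nat.ble 488 j)) (Bool.rec (motive := fun _ => ℕ) (ch4_n0_62 j) (ch4_n0_63 j) (Nat.ble 504 j)) (Nat.ble 496 j)) (Nat.ble 480 j))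
noncomputable def ch4_n1_8 (j : ℕ) : ℕ := (Bool.rec (motive := fun _ => ℕ) (Bool.rec (motive := fun _ => ℕ) (Bool.rec (motive := fun _ => ℕ) (ch4_n0_64 j) (ch4_n0_65 j) (Nat.ble 520 j)) (Bool.rec (motive := fun _ => ℕ) (ch4_n0_66 j) (ch4_n0_67 j) (Nat.ble 536 j)) (Nat.ble 528 j)) (Bool.rec (motive := fun _ => ℕ) (Bool.rec (motive := fun _ => ℕ) (ch4_n0_68 j) (ch4_n0_69 j) (Nat.ble 552 j)) (Bool.rec (motive := fun _ => ℕ) (ch4_n0_70 j) (ch4_n0_71 j) (Nat.ble 568 j)) (Nat.ble 560 j)) (Nat.ble 544 j))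
noncomputable def ch4_n1_9 (j : ℕ) : ℕ := (Bool.rec (motive := fun _ => ℕ) (Bool.rec (motive := fun _ => ℕ) (Bool.rec (motive := fun _ => ℕ) (ch4_n0_72 j) (ch4_n0_73 j) (Nat.ble 584 j)) (Bool.rec (motive := fun _ => ℕ) (ch4_n0_74 j) (ch4_n0_75 j) (Nat.ble 600 j)) (Nat.ble 592 j)) (Bool.rec (motive := fun _ => ℕ) (Bool.rec (motive := fun _ => ℕ) (ch4_n0_76 j) (ch4_n0_77 j) (Nat.ble 616 j)) (Bool.rec (motive := fun _ => ℕ) (ch4_n0_78 j) (ch4_n0_79 j) (Nat.ble 632 j)) (Nat.ble 624 j)) (Nat.ble 608 j))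
noncomputable def ch4_n1_10 (j : ℕ) : ℕ := (Bool.rec (motive := fun _ => ℕ) (Bool.rec (motive := fun _ => ℕ) (Bool.rec (motive := fun _ => ℕ) (ch4_n0_80 j) (ch4_n0_81 j) (Nat.ble 648 j)) (Bool.rec (motive := fun _ => ℕ) (ch4_n0_82 j) (ch4_n0_83 j) (Nat.ble 664 j)) (Nat.ble 656 j)) (Bool.rec (motive := fun _ => ℕ) (Bool.rec (motive := fun _ => ℕ) (ch4_n0_84 j) (ch4_n0_85 j) (Nat.ble 680 j)) (Bool.rec (motive := fun _ => ℕ) (ch4_n0_86 j) (ch4_n0_87 j) (Nat.ble 696 j)) (Nat.ble 688 j)) (Nat.ble 672 j))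
noncomputable def ch4_n1_11 (j : ℕ) : ℕ := (Bool.rec (motive := fun _ => ℕ) (Bool.rec (motive := fun _ => ℕ) (Bool.rec (motive := fun _ => ℕ) (ch4_n0_88 j) (ch4_n0_89 j) (Nat.ble 712 j)) (Bool.rec (motive := fun _ => ℕ) (ch4_n0_90 j) (ch4_n0_91 j) (Nat.ble 728 j)) (Nat.ble 720 j)) (Bool.rec (motive := fun _ => ℕ) (Bool.rec (motive := fun _ => ℕ) (ch4_n0_92 j) (ch4_n0_93 j) (Nat.ble 744 j)) (Bool.rec (motive := fun _ => ℕ) (ch4_n0_94 j) (ch4_n0_95 j) (Nat.ble 760 j)) (Nat.ble 752 j)) (Nat.ble 736 j))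
noncomputable def ch4_n1_12 (j : ℕ) : ℕ := (Bool.rec (motive := fun _ => ℕ) (Bool.rec (motive := fun _ => ℕ) (Bool.rec (motive := fun _ => ℕ) (ch4_n0_96 j) (ch4_n0_97 j) (Nat.ble 776 j)) (Bool.rec (motive := fun _ => ℕ) (ch4_n0_98 j) (ch4_n0_99 j) (Nat.ble 792 j)) (Nat.ble 784 j)) (Bool.rec (motive := fun _ => ℕ) (Bool.rec (motive := fun _ => ℕ) (ch4_n0_100 j) (ch4_n0_101 j) (Nat.ble 808 j)) (Bool.rec (motive := fun _ => ℕ) (ch4_n0_102 j) (ch4_n0_103 j) (Nat.ble 824 j)) (Nat.ble 816 j)) (Nat.ble 800 j))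
noncomputable def ch4_n1_13 (j : ℕ) : ℕ := (Bool.rec (motive := fun _ => ℕ) (Bool.rec (motive := fun _ => ℕ) (Bool.rec (motive := fun _ => ℕ) (ch4_n0_104 j) (ch4_n0_105 j) (Nat.ble 840 j)) (Bool.rec (motive := fun _ => ℕ) (ch4_n0_106 j) (ch4_n0_107 j) (Nat.ble 856 j)) (Nat.ble 848 j)) (Bool.rec (motive := fun _ => ℕ) (Bool.rec (motive := fun _ => ℕ) (ch4_n0_108 j) (ch4_n0_109 j) (Nat.ble 872 j)) (Bool.rec (motive := fun _ => ℕ) (ch4_n0_110 j) (ch4_n0_111 j) (Nat.ble 888 j)) (Nat.ble 880 j)) (Nat.ble 864 j))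
noncomputable def ch4_n1_14 (j : ℕ) : ℕ := (Bool.rec (motive := fun _ => ℕ) (Bool.rec (motive := fun _ => ℕ) (ch4_n0_112 j) (Bool.rec (motive := fun _ => ℕ) (ch4_n0_113 j) (ch4_n0_114 j) (Nat.ble 912 j)) (Nat.ble 904 j)) (Bool.rec (motive := fun _ => ℕ) (Bool.rec (motive := fun _ => ℕ) (ch4_n0_115 j) (ch4_n0_116 j) (Nat.ble 928 j)) (Bool.rec (motive := fun _ => ℕ) (ch4_n0_117 j) (ch4_n0_118 j) (Nat.ble 944 j)) (Nat.ble 936 j)) (Nat.ble 920 j))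
noncomputable def ch4_n2_0 (j : ℕ) : ℕ := (Bool.rec (motive := fun _ => ℕ) (Bool.rec (motive := fun _ => ℕ) (Bool.rec (motive := fun _ => ℕ) (ch4_n1_0 j) (ch4_n1_1 j) (Nat.ble 64 j)) (Bool.rec (motive := fun _ => ℕ) (ch4_n1_2 j) (ch4_n1_3 j) (Nat.ble 192 j)) (Nat.ble 128 j)) (Bool.rec (motive := fun _ => ℕ) (Bool.rec (motive := fun _ => ℕ) (ch4_n1_4 j) (ch4_n1_5 j) (Nat.ble 320 j)) (Bool.rec (motive := fun _ => ℕ) (ch4_n1_6 j) (ch4_n1_7 j) (Nat.ble 448 j)) (Nat.ble 384 j)) (Nat.ble 256 j))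
noncomputable def ch4_n2_1 (j : ℕ) : ℕ := (Bool.rec (motive := fun _ => ℕ) (Bool.rec (motive := fun _ => ℕ) (ch4_n1_8 j) (Bool.rec (motive := fun _ => ℕ) (ch4_n1_9 j) (ch4_n1_10 j) (Nat.ble 640 j)) (Nat.ble 576 j)) (Bool.rec (motive := fun _ => ℕ) (Bool.rec (motive := fun _ => ℕ) (ch4_n1_11 j) (ch4_n1_12 j) (Nat.ble 768 j)) (Bool.rec (motive := fun _ => ℕ) (ch4_n1_13 j) (ch4_n1_14 j) (Nat.ble 896 j)) (Nat.ble 832 j)) (Nat.ble 704 j))
noncomputable def ch4_n3_0 (j : ℕ) : ℕ := (Bool.rec (motive := fun _ => ℕ) (ch4_n2_0 j) (ch4_n2_1 j) (Nat.ble 512 j))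

/-- the chunks of the table of the large certificate -/
noncomputable def chunk4 (j : ℕ) : ℕ := ch4_n3_0 j

/-- the chunks of the definitions of the rows of the large certificate -/
def pchunk4 (j : ℕ) : ℕ := (bif Nat.blt j 6 then (bif Nat.blt j 3 then (bif Nat.blt j 1 then q4_0 else (bif Nat.blt j 2 then q4_1 else q4_2)) else (bif Nat.blt j 4 then q4_3 else (bif Nat.blt j 5 then q4_4 else q4_5))) else (bif Nat.blt j 9 then (bif Nat.blt j 7 then q4_6 else (bif Nat.blt j 8 then q4_7 else q4_8)) else (bif Nat.blt j 10 then q4_9 else (bif Nat.blt j 11 then q4_10 else q4_11))))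

noncomputable def ent4 (i : ℕ) : ℕ := (chunk4 (i / 256) >>> (72 * (i % 256))) % 4722366482869645213696
def par4 (b : ℕ) : ℕ := (pchunk4 (b / 4096) >>> (18 * (b % 4096))) % 262144
def ent3 (i : ℕ) : ℕ := (chunk3 (i / 128) >>> (72 * (i % 128))) % 4722366482869645213696
def par3 (b : ℕ) : ℕ := (q3_0 >>> (18 * b)) % 262144
def ent2 (i : ℕ) : ℕ := (chunk2 (i / 128) >>> (72 * (i % 128))) % 4722366482869645213696
def par2 (b : ℕ) : ℕ := (q2_0 >>> (18 * b)) % 262144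
def ent1 (i : ℕ) : ℕ := (c1_0 >>> (72 * i)) % 4722366482869645213696
def par1 (b : ℕ) : ℕ := (q1_0 >>> (18 * b)) % 262144

/-- the words of the second certificate: the coincidences and the triple -/
def W2 (k : ℕ) : List ℕ := bif Nat.beq k 26 then tripW else longW (rel2.getD k c0)

/-- the four certificates -/
def cert1 : FCert := mkCert 10 2 0 ent1 par1 fun k => longW (rel1.getD k c0)
def cert2 : FCert := mkCert 792 3 2 ent2 par2 W2
def cert3 : FCert := mkCert 1288 4 3 ent3 par3 fun k => longW (rel3.getD k c0)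
noncomputable def cert4 : FCert := mkCert 48600 5 4 ent4 par4 fun k => longW (rel4.getD k c0)

/-! ### the checks on the codes -/

/-- the code of the base involution, the seventh power of the second generator -/
def cz : ℕ := pmul 276 cb (pmul 276 cb (pmul 276 cb (pmul 276 cb (pmul 276 cb (pmul 276 cb cb)))))

/-- the code of an involution -/
def gc (i : ℕ) : ℕ := gcodes.getD i cz

/-- conjugate the code `v` successively by the involutions with the indices in `h` -/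
noncomputable def palC (h : List ℕ) : ℕ → ℕ :=
  List.rec (motive := fun _ => ℕ → ℕ) (fun v => v)
    (fun s _ ih v => strictN (gc s) fun g => strictN (pmul 276 (pmul 276 g v) g) ih) h

theorem palC_nil (v : ℕ) : palC [] v = v := rfl

theorem palC_cons (s : ℕ) (h : List ℕ) (v : ℕ) :
    palC (s :: h) v = palC h (pmul 276 (pmul 276 (gc s) v) (gc s)) := by
  show strictN (gc s) (fun g => strictN (pmul 276 (pmul 276 g v) g) (palC h)) = _
  rw [strictN_eq, strictN_eq]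

/-- the value of a palindrome -/
noncomputable def palV (p : List ℕ × ℕ) : ℕ := palC p.1 (gc p.2)

/-- the two palindromes of a coincidence have the same value -/
noncomputable def relOK (c : List ℕ × ℕ × List ℕ × ℕ) : Bool :=
  Nat.beq (palC c.1 (gc c.2.1)) (palC c.2.2.1 (gc c.2.2.2))

/-- the letters of a coincidence are below `g` -/
def letOK (g : ℕ) (c : List ℕ × ℕ × List ℕ × ℕ) : Bool :=
  c.1.all (fun x => Nat.blt x g) && (Nat.blt c.2.1 g && (c.2.2.1.all (fun x => Nat.blt x g) && Nat.blt c.2.2.2 g))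

/-- the conjugate of the base involution by a word in the letters `a`, `b`, `a⁻¹`, `b⁻¹` -/
noncomputable def conjWord (w : List ℕ) : ℕ :=
  List.rec (motive := fun _ => ℕ) cz
    (fun l _ ih => strictN ih fun v =>
      pmul 276 (pmul 276 ([ca, cb, cai, cbi].getD l ca) v) ([cai, cbi, ca, cb].getD l cai)) w

theorem conjWord_nil : conjWord [] = cz := rfl

theorem conjWord_cons (l : ℕ) (w : List ℕ) : conjWord (l :: w) =
    pmul 276 (pmul 276 ([ca, cb, cai, cbi].getD l ca) (conjWord w)) ([cai, cbi, ca, cb].getD l cai) := by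
  show strictN (conjWord w) (fun v =>
    pmul 276 (pmul 276 ([ca, cb, cai, cbi].getD l ca) v) ([cai, cbi, ca, cb].getD l cai)) = _
  rw [strictN_eq]

/-- the rows of a range are checked as soon as each of them is -/
theorem rowsOK_of_forall (C : FCert) {lo len : ℕ} (h : ∀ a, lo ≤ a → a < lo + len → C.rowOK a = true) :
    C.rowsOK lo len = true := by
  rw [FCert.rowsOK, List.all_eq_true]
  intro i hi
  have hi' := List.mem_range.1 hi
  exact h _ (Nat.le_add_right _ _) (by omega)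

/-- a row of a checked range -/
theorem row_of_rows (C : FCert) {lo len : ℕ} (h : C.rowsOK lo len = true) {a : ℕ} (h1 : lo ≤ a) (h2 : a < lo + len) :
    C.rowOK a = true := by
  rw [FCert.rowsOK, List.all_eq_true] at h
  have h3 := h (a - lo) (List.mem_range.2 (by omega))
  rwa [show lo + (a - lo) = a by omega] at h3

/-- a check of a list in two parts -/
theorem all_split {α : Type*} (p : α → Bool) (n : ℕ) (l : List α) (h1 : (l.take n).all p = true)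
    (h2 : (l.drop n).all p = true) : l.all p = true := by
  rw [← List.take_append_drop n l, List.all_append, h1, h2]
  rfl

end Cfsg.Agent.Lib.Helper5.Co3Mult
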