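import Cfsg.Agent.Lib.Helper5.Co3MultC

/-! The checks for the Schur multiplier of `Co₃` that the kernel evaluates: codes of permutations, small certificates -/

set_option autoImplicit false
set_option maxRecDepth 100000

namespace Cfsg.Agent.Lib.Helper5.Co3Mult

open Cfsg.Agent.PG Cfsg.Agent.Co3P

theorem chk_gw : gwords.map conjWord = gcodes := by decide +kernel

theorem chk_z : Nat.beq (pmul 276 cz cz) (pone 276) = true := by decide +kernel

theorem chk_rel1 : rel1.all relOK = true := by decide +kernel

theorem chk_rel2 : rel2.all relOK = true := by decide +kernel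

theorem chk_rel3 : rel3.all relOK = true := by decide +kernel

theorem chk_let1 : rel1.all (letOK 2) = true := by decide +kernel

theorem chk_let2 : rel2.all (letOK 3) = true ∧ tripW.all (fun x => Nat.blt x 3) = true ∧
    rel2.length = 26 := by decide +kernel

theorem chk_let3 : rel3.all (letOK 4) = true := by decide +kernel

theorem chk_let4 : rel4_0.all (letOK 5) = true ∧ rel4_1.all (letOK 5) = true ∧ rel4_2.all (letOK 5) = true ∧
    rel4_3.all (letOK 5) = true := by decide +kernel

theorem chk_trip : Nat.beq (pmul 276 (palV tripA) (palV tripC)) (palV tripU) = true ∧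
    Nat.beq (pmul 276 (palV tripC) (palV tripA)) (pmul 276 (palV tripA) (palV tripC)) = true := by
  decide +kernel

theorem chk_slp : (run 276 slpAB [gc 4, gc 3, gc 2, gc 1, gc 0]).getD idxA (pone 276) = ca ∧
    (run 276 slpAB [gc 4, gc 3, gc 2, gc 1, gc 0]).getD idxB (pone 276) = cb := by decide +kernel

theorem chk_c1 : cert1.rowsOK 0 10 = true := by decide +kernel

theorem chk_c2 : cert2.rowsOK 0 792 = true := by decide +kernel

theorem chk_c3 : cert3.rowsOK 0 1288 = true := by decide +kernel

end Cfsg.Agent.Lib.Helper5.Co3Mult
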