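import Cfsg.Agent.Lib.Helper5.Co3MultC

/-! The coincidences of the large coset certificate for the Schur multiplier of `Co₃`, checked by the kernel (part 3, in
eight pieces to keep the memory of one check small) -/

set_option autoImplicit false
set_option maxRecDepth 100000

namespace Cfsg.Agent.Lib.Helper5.Co3Mult

open Cfsg.Agent.PG Cfsg.Agent.Co3P

theorem chk_rel4_3_0 : (rel4_3.take 55).all relOK = true := by decide +kernel
theorem chk_rel4_3_1 : ((rel4_3.drop 55).take 55).all relOK = true := by decide +kernel
theorem chk_rel4_3_2 : (((rel4_3.drop 55).drop 55).take 55).all relOK = true := by decide +kernel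
theorem chk_rel4_3_3 : ((((rel4_3.drop 55).drop 55).drop 55).take 55).all relOK = true := by decide +kernel
theorem chk_rel4_3_4 : (((((rel4_3.drop 55).drop 55).drop 55).drop 55).take 55).all relOK = true := by decide +kernel
theorem chk_rel4_3_5 : ((((((rel4_3.drop 55).drop 55).drop 55).drop 55).drop 55).take 55).all relOK = true := by decide +kernel
theorem chk_rel4_3_6 : (((((((rel4_3.drop 55).drop 55).drop 55).drop 55).drop 55).drop 55).take 55).all relOK = true := by decide +kernel
theorem chk_rel4_3_7 : (((((((rel4_3.drop 55).drop 55).drop 55).drop 55).drop 55).drop 55).drop 55).all relOK = true := by decide +kernel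

theorem chk_rel4_3 : rel4_3.all relOK = true :=
  all_split relOK 55 _ chk_rel4_3_0
    (all_split relOK 55 _ chk_rel4_3_1
    (all_split relOK 55 _ chk_rel4_3_2
    (all_split relOK 55 _ chk_rel4_3_3
    (all_split relOK 55 _ chk_rel4_3_4
    (all_split relOK 55 _ chk_rel4_3_5
    (all_split relOK 55 _ chk_rel4_3_6
    (chk_rel4_3_7)))))))

end Cfsg.Agent.Lib.Helper5.Co3Mult
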