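import Cfsg.Agent.Lib.Helper5.Co3MultC

/-! The rows of the large coset certificate for the Schur multiplier of `Co₃`, checked by the kernel (part 4, in five
ranges of 405 rows to keep the memory of one check small) -/

set_option autoImplicit false
set_option maxRecDepth 100000

namespace Cfsg.Agent.Lib.Helper5.Co3Mult

open Cfsg.Agent.PG Cfsg.Agent.Co3P

theorem chk_c4_4_0 : cert4.rowsOK 8100 405 = true := by decide +kernel
theorem chk_c4_4_1 : cert4.rowsOK 8505 405 = true := by decide +kernel
theorem chk_c4_4_2 : cert4.rowsOK 8910 405 = true := by decide +kernel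
theorem chk_c4_4_3 : cert4.rowsOK 9315 405 = true := by decide +kernel
theorem chk_c4_4_4 : cert4.rowsOK 9720 405 = true := by decide +kernel

theorem chk_c4_4 : cert4.rowsOK 8100 2025 = true := by
  apply rowsOK_of_forall
  intro a hlo hhi
  rcases Nat.lt_or_ge a 8505 with h | h0
  · exact row_of_rows cert4 chk_c4_4_0 (by omega) (by omega)
  rcases Nat.lt_or_ge a 8910 with h | h1
  · exact row_of_rows cert4 chk_c4_4_1 (by omega) (by omega)
  rcases Nat.lt_or_ge a 9315 with h | h2
  · exact row_of_rows cert4 chk_c4_4_2 (by omega) (by omega)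
  rcases Nat.lt_or_ge a 9720 with h | h3
  · exact row_of_rows cert4 chk_c4_4_3 (by omega) (by omega)
  exact row_of_rows cert4 chk_c4_4_4 (by omega) (by omega)

end Cfsg.Agent.Lib.Helper5.Co3Mult
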