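import Cfsg.Agent.Lib.Helper5.Co3MultChk0
import Cfsg.Agent.Lib.Helper5.Co3MultChkR0
import Cfsg.Agent.Lib.Helper5.Co3MultChkR1
import Cfsg.Agent.Lib.Helper5.Co3MultChkR2
import Cfsg.Agent.Lib.Helper5.Co3MultChkR3
import Cfsg.Agent.Lib.Helper5.Co3MultChkT0
import Cfsg.Agent.Lib.Helper5.Co3MultChkT1
import Cfsg.Agent.Lib.Helper5.Co3MultChkT2
import Cfsg.Agent.Lib.Helper5.Co3MultChkT3
import Cfsg.Agent.Lib.Helper5.Co3MultChkT4
import Cfsg.Agent.Lib.Helper5.Co3MultChkT5
import Cfsg.Agent.Lib.Helper5.Co3MultChkT6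
import Cfsg.Agent.Lib.Helper5.Co3MultChkT7
import Cfsg.Agent.Lib.Helper5.Co3MultChkT8
import Cfsg.Agent.Lib.Helper5.Co3MultChkT9
import Cfsg.Agent.Lib.Helper5.Co3MultChkT10
import Cfsg.Agent.Lib.Helper5.Co3MultChkT11
import Cfsg.Agent.Lib.Helper5.Co3MultChkT12
import Cfsg.Agent.Lib.Helper5.Co3MultChkT13
import Cfsg.Agent.Lib.Helper5.Co3MultChkT14
import Cfsg.Agent.Lib.Helper5.Co3MultChkT15
import Cfsg.Agent.Lib.Helper5.Co3MultChkT16
import Cfsg.Agent.Lib.Helper5.Co3MultChkT17
import Cfsg.Agent.Lib.Helper5.Co3MultChkT18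
import Cfsg.Agent.Lib.Helper5.Co3MultChkT19
import Cfsg.Agent.Lib.Helper5.Co3MultChkT20
import Cfsg.Agent.Lib.Helper5.Co3MultChkT21
import Cfsg.Agent.Lib.Helper5.Co3MultChkT22
import Cfsg.Agent.Lib.Helper5.Co3MultChkT23

/-!
# A finite stem extension of `Co₃` is an isomorphism

`Co₃` is the group `P` of permutations of 276 points.  Let `tz` be the seventh power of the second generator, an
involution; assume that its centraliser is perfect.  Five conjugates of `tz` generate `P`; in a stem extension their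
canonical lifts `γ 0, …, γ 4` generate the extension and satisfy every relation "two conjugates coincide" (checked on the
codes of the permutations) and one relation "the product of two commuting conjugates is a conjugate".  Four coset
certificates give `|⟨γ 0, γ 1⟩| ≤ 10`, `|⟨γ 0, γ 1, γ 2⟩| ≤ 792 · 10`, `|⟨γ 0, …, γ 3⟩| ≤ 1288 · 792 · 10` and
`|⟨γ 0, …, γ 4⟩| ≤ 48600 · 1288 · 792 · 10 = |Co₃|`.
-/

set_option autoImplicit false

namespace Cfsg.Agent.Lib.Helper5.Co3Mult

open Cfsg.Agent.PG Cfsg.Agent.Co3P Cfsg.Agent.Lib.Helper8.CanonLift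
open Cfsg.Agent.Lib.Helper5.J3Mult (FCert palW conjV conjV_eq palP Tq Tq_mk Tq_conj Tq_sq Tq_injective Tq_palP
  prod_palW prod_coincide prod_triple Cz exists_lifts_cent seg seg_zero card_seg_le)

theorem n_le : (276 : ℕ) ≤ 512 := by norm_num

/-! ### codes of elements of `P` -/

/-- `c` is the code of an element of `P` -/
def Good (c : ℕ) : Prop := ∃ g : ↥P, enc 276 g.1 = c

open Classical in
/-- the element with the code `c` -/
noncomputable def el (c : ℕ) : ↥P := if h : Good c then h.choose else 1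

open Classical in
theorem enc_el {c : ℕ} (h : Good c) : enc 276 (el c).1 = c := by
  rw [el, dif_pos h]
  exact h.choose_spec

theorem el_eq {c : ℕ} {g : ↥P} (h : enc 276 g.1 = c) : el c = g := by
  have hg : Good c := ⟨g, h⟩
  apply Subtype.ext
  apply enc_injective n_le
  rw [enc_el hg, h]

theorem Good.mul {a b : ℕ} (ha : Good a) (hb : Good b) : Good (pmul 276 a b) := by
  obtain ⟨g, rfl⟩ := ha
  obtain ⟨h, rfl⟩ := hb
  exact ⟨g * h, by rw [Subgroup.coe_mul, pmul_enc n_le]⟩

theorem el_pmul {a b : ℕ} (ha : Good a) (hb : Good b) : el (pmul 276 a b) = el a * el b := by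
  apply el_eq
  rw [Subgroup.coe_mul, ← pmul_enc n_le, enc_el ha, enc_el hb]

theorem good_pone : Good (pone 276) := ⟨1, by rw [pone_eq]; rfl⟩

theorem el_pone : el (pone 276) = 1 := el_eq (by rw [pone_eq]; rfl)

/-- the two generators -/
noncomputable def aP : ↥P := ⟨gA, gA_mem⟩
noncomputable def bP : ↥P := ⟨gB, gB_mem⟩

theorem good_ca : Good ca := ⟨aP, enc_gA⟩
theorem good_cb : Good cb := ⟨bP, enc_gB⟩
theorem good_cai : Good cai := ⟨aP⁻¹, enc_gAi⟩
theorem good_cbi : Good cbi := ⟨bP⁻¹, enc_gBi⟩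
theorem el_ca : el ca = aP := el_eq enc_gA
theorem el_cb : el cb = bP := el_eq enc_gB
theorem el_cai : el cai = aP⁻¹ := el_eq enc_gAi
theorem el_cbi : el cbi = bP⁻¹ := el_eq enc_gBi

theorem good_cz : Good cz := by
  unfold cz
  exact good_cb.mul (good_cb.mul (good_cb.mul (good_cb.mul (good_cb.mul (good_cb.mul good_cb)))))

/-- the base involution -/
noncomputable def tz : ↥P := el cz

theorem tz_sq : tz * tz = 1 := by
  unfold tz
  rw [← el_pmul good_cz good_cz, Nat.eq_of_beq_eq_true chk_z, el_pone]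

/-- the code of a conjugate of the base involution -/
def ConjZ (c : ℕ) : Prop := Good c ∧ ∃ w : ↥P, el c = w * tz * w⁻¹

theorem conjZ_cz : ConjZ cz := ⟨good_cz, 1, by simp [tz]⟩

theorem conjZ_step {g gi c : ℕ} (hg : Good g) (hgi : Good gi) (hinv : el gi = (el g)⁻¹) (hc : ConjZ c) :
    ConjZ (pmul 276 (pmul 276 g c) gi) := by
  obtain ⟨hc1, w, hw⟩ := hc
  refine ⟨(hg.mul hc1).mul hgi, el g * w, ?_⟩
  rw [el_pmul (hg.mul hc1) hgi, el_pmul hg hc1, hw, hinv]
  group

theorem conjZ_conjWord : ∀ w : List ℕ, ConjZ (conjWord w)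
  | [] => conjZ_cz
  | l :: w => by
    rw [conjWord_cons]
    have ih := conjZ_conjWord w
    rcases l with _ | _ | _ | _ | l
    · exact conjZ_step (g := ca) (gi := cai) good_ca good_cai (by rw [el_cai, el_ca]) ih
    · exact conjZ_step (g := cb) (gi := cbi) good_cb good_cbi (by rw [el_cbi, el_cb]) ih
    · exact conjZ_step (g := cai) (gi := ca) good_cai good_ca (by rw [el_cai, el_ca, inv_inv]) ih
    · exact conjZ_step (g := cbi) (gi := cb) good_cbi good_cb (by rw [el_cbi, el_cb, inv_inv]) ih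
    · exact conjZ_step (g := ca) (gi := cai) good_ca good_cai (by rw [el_cai, el_ca]) ih

theorem conjZ_gc (i : ℕ) : ConjZ (gc i) := by
  unfold gc
  rw [← chk_gw]
  by_cases hi : i < (gwords.map conjWord).length
  · rw [List.getD_eq_getElem _ _ hi, List.getElem_map]
    exact conjZ_conjWord _
  · rw [List.getD_eq_default _ _ (by omega)]
    exact conjZ_cz

theorem good_gc (i : ℕ) : Good (gc i) := (conjZ_gc i).1

/-- the five involutions -/
noncomputable def tG (i : ℕ) : ↥P := el (gc i)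

theorem tG_conj (i : ℕ) : ∃ g : ↥P, tG i = g * tz * g⁻¹ := (conjZ_gc i).2

/-- the cosets of the centraliser that belong to the involutions -/
noncomputable def xG (i : ℕ) : ↥P ⧸ Cz tz := (((tG_conj i).choose : ↥P) : ↥P ⧸ Cz tz)

theorem Tq_xG (i : ℕ) : Tq tz (xG i) = tG i := by
  unfold xG
  rw [Tq_mk]
  exact ((tG_conj i).choose_spec).symm

theorem Tq_xG' : (fun i => Tq tz (xG i)) = tG := funext Tq_xG

theorem tG_sq (i : ℕ) : tG i * tG i = 1 := by
  rw [← Tq_xG]
  exact Tq_sq _ tz_sq _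

/-- the value of a palindrome, on the codes -/
theorem conjV_code : ∀ (h : List ℕ) (v : ℕ), Good v →
    Good (palC h v) ∧ conjV tG h (el v) = el (palC h v)
  | [], v, hv => ⟨hv, rfl⟩
  | s :: h, v, hv => by
    rw [palC_cons, conjV]
    have hg := good_gc s
    have h1 : tG s * el v * tG s = el (pmul 276 (pmul 276 (gc s) v) (gc s)) := by
      unfold tG
      rw [el_pmul (hg.mul hv) hg, el_pmul hg hv]
    rw [h1]
    exact conjV_code h _ ((hg.mul hv).mul hg)

theorem good_palV (p : List ℕ × ℕ) : Good (palV p) := (conjV_code p.1 (gc p.2) (good_gc p.2)).1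

theorem conjV_palV (p : List ℕ × ℕ) : conjV tG p.1 (tG p.2) = el (palV p) :=
  (conjV_code p.1 (gc p.2) (good_gc p.2)).2

theorem Tq_palP_code (p : List ℕ × ℕ) : Tq tz (palP xG p.1 p.2) = el (palV p) := by
  rw [Tq_palP xG (fun i => by rw [Tq_xG]; exact tG_sq i), Tq_xG', Tq_xG, conjV_palV]

/-! ### the five involutions generate `P` -/

/-- **the five involutions generate `P`** -/
theorem closure_tG : Subgroup.closure (tG '' Set.Iio 5) = ⊤ := by
  set K := Subgroup.closure (tG '' Set.Iio 5) with hKdef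
  have hK : ∀ i, i < 5 → tG i ∈ K := fun i hi => Subgroup.subset_closure ⟨i, hi, rfl⟩
  set H := K.map P.subtype with hH
  have hmem : ∀ i, i < 5 → (tG i).1 ∈ H := fun i hi => ⟨tG i, hK i hi, rfl⟩
  let gs : List ↥H := [⟨(tG 4).1, hmem 4 (by norm_num)⟩, ⟨(tG 3).1, hmem 3 (by norm_num)⟩,
    ⟨(tG 2).1, hmem 2 (by norm_num)⟩, ⟨(tG 1).1, hmem 1 (by norm_num)⟩, ⟨(tG 0).1, hmem 0 (by norm_num)⟩]
  have hregs : RegsOK H gs [gc 4, gc 3, gc 2, gc 1, gc 0] :=
    List.Forall₂.cons (enc_el (good_gc 4)) (List.Forall₂.cons (enc_el (good_gc 3))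
      (List.Forall₂.cons (enc_el (good_gc 2)) (List.Forall₂.cons (enc_el (good_gc 1))
        (List.Forall₂.cons (enc_el (good_gc 0)) List.Forall₂.nil))))
  have hrun := hregs.run n_le (is := slpAB)
  have hA : gA ∈ H := by
    have h1 := hrun.getD idxA
    rw [chk_slp.1, ← enc_gA] at h1
    rw [← enc_injective n_le h1]
    exact ((runM slpAB gs).getD idxA 1).2
  have hB : gB ∈ H := by
    have h1 := hrun.getD idxB
    rw [chk_slp.2, ← enc_gB] at h1
    rw [← enc_injective n_le h1]
    exact ((runM slpAB gs).getD idxB 1).2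
  have hle : P ≤ H := by
    unfold P
    rw [Subgroup.closure_le]
    intro g hg
    rcases hg with rfl | hg
    · exact hA
    · rw [Set.mem_singleton_iff] at hg
      subst hg
      exact hB
  rw [Subgroup.eq_top_iff']
  intro y
  obtain ⟨k, hk, hky⟩ := hle y.2
  have : k = y := Subtype.ext hky
  rw [← this]
  exact hk

/-! ### the words of the certificates are trivial on the lifts -/

section lifts

variable {E : Type*} [Group E] {σ : E →* ↥P} (Λ : Lifts σ (Tq tz))

/-- the lifts of the five involutions -/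
noncomputable def γL (i : ℕ) : E := Λ.L (xG i)

theorem γL_sq (i : ℕ) : γL Λ i * γL Λ i = 1 := Λ.sq _

theorem word_of_relOK {c : List ℕ × ℕ × List ℕ × ℕ} (h : relOK c = true) :
    ((longW c).map (γL Λ)).prod = 1 := by
  unfold longW
  apply prod_coincide Λ xG (fun i => by rw [Tq_xG]; exact tG_sq i)
  rw [Tq_xG', Tq_xG, Tq_xG]
  have e1 := conjV_palV (c.1, c.2.1)
  have e2 := conjV_palV (c.2.2.1, c.2.2.2)
  rw [e1, e2]
  unfold relOK at h
  unfold palV
  rw [Nat.eq_of_beq_eq_true h]

theorem relOK_c0 : relOK c0 = true := by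
  unfold relOK c0
  exact Nat.beq_refl _

theorem word_getD {l : List (List ℕ × ℕ × List ℕ × ℕ)} (hl : l.all relOK = true) (k : ℕ) :
    ((longW (l.getD k c0)).map (γL Λ)).prod = 1 := by
  apply word_of_relOK
  by_cases hk : k < l.length
  · rw [List.getD_eq_getElem _ _ hk]
    exact List.all_eq_true.1 hl _ (List.getElem_mem hk)
  · rw [List.getD_eq_default _ _ (by omega)]
    exact relOK_c0

theorem mem_palW {h : List ℕ} {c x : ℕ} (hx : x ∈ palW h c) : x ∈ h ∨ x = c := by
  unfold palW at hx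
  rw [List.mem_append, List.mem_reverse, List.mem_cons] at hx
  tauto

theorem lt_of_letOK {g : ℕ} {c : List ℕ × ℕ × List ℕ × ℕ} (h : letOK g c = true) :
    ∀ x ∈ longW c, x < g := by
  unfold letOK at h
  simp only [Bool.and_eq_true, List.all_eq_true, Nat.blt_eq] at h
  obtain ⟨h1, h2', h3, h4⟩ := h
  intro x hx
  unfold longW at hx
  rcases List.mem_append.1 hx with hx | hx
  · rcases mem_palW hx with hx | rfl
    · exact h1 x hx
    · exact h2'
  · rcases mem_palW hx with hx | rfl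
    · exact h3 x hx
    · exact h4

theorem lt_getD {g : ℕ} (hg : 0 < g) {l : List (List ℕ × ℕ × List ℕ × ℕ)}
    (hl : l.all (letOK g) = true) (k : ℕ) : ∀ x ∈ longW (l.getD k c0), x < g := by
  by_cases hk : k < l.length
  · rw [List.getD_eq_getElem _ _ hk]
    exact lt_of_letOK (List.all_eq_true.1 hl _ (List.getElem_mem hk))
  · rw [List.getD_eq_default _ _ (by omega)]
    intro x hx
    have : x = 0 := by
      unfold longW c0 palW at hx
      simpa using hx
    omega

theorem chk_rel4 : rel4.all relOK = true := by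
  unfold rel4
  rw [List.all_append, List.all_append, List.all_append, chk_rel4_0, chk_rel4_1, chk_rel4_2, chk_rel4_3]
  rfl

theorem chk_let4' : rel4.all (letOK 5) = true := by
  unfold rel4
  rw [List.all_append, List.all_append, List.all_append, chk_let4.1, chk_let4.2.1, chk_let4.2.2.1,
    chk_let4.2.2.2]
  rfl

/-- the points of the triple -/
noncomputable def ptA : ↥P ⧸ Cz tz := palP xG tripA.1 tripA.2
noncomputable def ptC : ↥P ⧸ Cz tz := palP xG tripC.1 tripC.2
noncomputable def ptU : ↥P ⧸ Cz tz := palP xG tripU.1 tripU.2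

theorem trip_mul : Tq tz ptA * Tq tz ptC = Tq tz ptU := by
  unfold ptA ptC ptU
  rw [Tq_palP_code, Tq_palP_code, Tq_palP_code, ← el_pmul (good_palV _) (good_palV _),
    Nat.eq_of_beq_eq_true chk_trip.1]

theorem trip_comm : Tq tz ptC * Tq tz ptA * (Tq tz ptC)⁻¹ = Tq tz ptA := by
  have h : Tq tz ptC * Tq tz ptA = Tq tz ptA * Tq tz ptC := by
    unfold ptA ptC
    rw [Tq_palP_code, Tq_palP_code, ← el_pmul (good_palV _) (good_palV _),
      ← el_pmul (good_palV _) (good_palV _), Nat.eq_of_beq_eq_true chk_trip.2]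
  rw [h]
  group

theorem tripW_eq_one (hacu : Λ.L ptA * Λ.L ptC = Λ.L ptU) : (tripW.map (γL Λ)).prod = 1 :=
  prod_triple Λ xG hacu

end lifts

/-! ### the bound -/

theorem hall4 : ∀ a, a < cert4.n → ∀ x, x < cert4.g → cert4.slotOK a x = true := by
  intro a ha x hx
  have ha' : a < 48600 := ha
  rcases Nat.lt_or_ge a 2025 with h0 | h0
  · exact cert4.slot_of_rows chk_c4_0 (Nat.zero_le _) (by omega) hx
  rcases Nat.lt_or_ge a 4050 with h1 | h1
  · exact cert4.slot_of_rows chk_c4_1 h0 (by omega) hx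
  rcases Nat.lt_or_ge a 6075 with h2 | h2
  · exact cert4.slot_of_rows chk_c4_2 h1 (by omega) hx
  rcases Nat.lt_or_ge a 8100 with h3 | h3
  · exact cert4.slot_of_rows chk_c4_3 h2 (by omega) hx
  rcases Nat.lt_or_ge a 10125 with h4 | h4
  · exact cert4.slot_of_rows chk_c4_4 h3 (by omega) hx
  rcases Nat.lt_or_ge a 12150 with h5 | h5
  · exact cert4.slot_of_rows chk_c4_5 h4 (by omega) hx
  rcases Nat.lt_or_ge a 14175 with h6 | h6
  · exact cert4.slot_of_rows chk_c4_6 h5 (by omega) hx
  rcases Nat.lt_or_ge a 16200 with h7 | h7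
  · exact cert4.slot_of_rows chk_c4_7 h6 (by omega) hx
  rcases Nat.lt_or_ge a 18225 with h8 | h8
  · exact cert4.slot_of_rows chk_c4_8 h7 (by omega) hx
  rcases Nat.lt_or_ge a 20250 with h9 | h9
  · exact cert4.slot_of_rows chk_c4_9 h8 (by omega) hx
  rcases Nat.lt_or_ge a 22275 with h10 | h10
  · exact cert4.slot_of_rows chk_c4_10 h9 (by omega) hx
  rcases Nat.lt_or_ge a 24300 with h11 | h11
  · exact cert4.slot_of_rows chk_c4_11 h10 (by omega) hx
  rcases Nat.lt_or_ge a 26325 with h12 | h12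
  · exact cert4.slot_of_rows chk_c4_12 h11 (by omega) hx
  rcases Nat.lt_or_ge a 28350 with h13 | h13
  · exact cert4.slot_of_rows chk_c4_13 h12 (by omega) hx
  rcases Nat.lt_or_ge a 30375 with h14 | h14
  · exact cert4.slot_of_rows chk_c4_14 h13 (by omega) hx
  rcases Nat.lt_or_ge a 32400 with h15 | h15
  · exact cert4.slot_of_rows chk_c4_15 h14 (by omega) hx
  rcases Nat.lt_or_ge a 34425 with h16 | h16
  · exact cert4.slot_of_rows chk_c4_16 h15 (by omega) hx
  rcases Nat.lt_or_ge a 36450 with h17 | h17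
  · exact cert4.slot_of_rows chk_c4_17 h16 (by omega) hx
  rcases Nat.lt_or_ge a 38475 with h18 | h18
  · exact cert4.slot_of_rows chk_c4_18 h17 (by omega) hx
  rcases Nat.lt_or_ge a 40500 with h19 | h19
  · exact cert4.slot_of_rows chk_c4_19 h18 (by omega) hx
  rcases Nat.lt_or_ge a 42525 with h20 | h20
  · exact cert4.slot_of_rows chk_c4_20 h19 (by omega) hx
  rcases Nat.lt_or_ge a 44550 with h21 | h21
  · exact cert4.slot_of_rows chk_c4_21 h20 (by omega) hx
  rcases Nat.lt_or_ge a 46575 with h22 | h22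
  · exact cert4.slot_of_rows chk_c4_22 h21 (by omega) hx
  exact cert4.slot_of_rows chk_c4_23 h22 (by omega) hx

theorem hall3 : ∀ a, a < cert3.n → ∀ x, x < cert3.g → cert3.slotOK a x = true := by
  intro a ha x hx
  have ha' : a < 1288 := ha
  exact cert3.slot_of_rows chk_c3 (Nat.zero_le _) (by omega) hx

theorem hall2 : ∀ a, a < cert2.n → ∀ x, x < cert2.g → cert2.slotOK a x = true := by
  intro a ha x hx
  have ha' : a < 792 := ha
  exact cert2.slot_of_rows chk_c2 (Nat.zero_le _) (by omega) hx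

theorem hall1 : ∀ a, a < cert1.n → ∀ x, x < cert1.g → cert1.slotOK a x = true := by
  intro a ha x hx
  have ha' : a < 10 := ha
  exact cert1.slot_of_rows chk_c1 (Nat.zero_le _) (by omega) hx

/-- **a finite stem extension of `P` has at most `|P|` elements**, if the centraliser of `tz` is perfect -/
theorem card_stem_le (hperf : commutator ↥(Cz tz) = ⊤) {E : Type*} [Group E] [Finite E] (σ : E →* ↥P)
    (hsurj : Function.Surjective σ) (hcen : σ.ker ≤ Subgroup.center E) (hder : σ.ker ≤ commutator E) :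
    Nat.card E ≤ 495766656000 := by
  obtain ⟨Λ, hacu⟩ := exists_lifts_cent tz hsurj hcen tz_sq hperf ptA ptC ptU trip_mul trip_comm
  set γ := γL Λ with hγ
  have hinv : ∀ x, γ x * γ x = 1 := γL_sq Λ
  -- the lifts generate
  have htop : seg γ 5 = ⊤ := by
    have := Λ.closure_eq_top hcen hder (xG '' Set.Iio 5) ⟨xG 0, 0, by norm_num, rfl⟩ (by
      rw [Set.image_image, Tq_xG']
      exact closure_tG)
    rw [Set.image_image] at this
    exact this
  -- the four certificates
  have hW1 : ∀ k, ((cert1.W k).map γ).prod = 1 := fun k => word_getD Λ chk_rel1 k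
  have hW3 : ∀ k, ((cert3.W k).map γ).prod = 1 := fun k => word_getD Λ chk_rel3 k
  have hW4 : ∀ k, ((cert4.W k).map γ).prod = 1 := fun k => word_getD Λ chk_rel4 k
  have hW2 : ∀ k, ((cert2.W k).map γ).prod = 1 := by
    intro k
    show ((W2 k).map γ).prod = 1
    unfold W2
    cases hk : Nat.beq k 26 with
    | true => exact tripW_eq_one Λ hacu
    | false => exact word_getD Λ chk_rel2 k
  have hL1 : ∀ k, ∀ x ∈ cert1.W k, x < cert1.g := fun k => lt_getD (by norm_num) chk_let1 k
  have hL3 : ∀ k, ∀ x ∈ cert3.W k, x < cert3.g := fun k => lt_getD (by norm_num) chk_let3 k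
  have hL4 : ∀ k, ∀ x ∈ cert4.W k, x < cert4.g := fun k => lt_getD (by norm_num) chk_let4' k
  have hL2 : ∀ k, ∀ x ∈ cert2.W k, x < cert2.g := by
    intro k
    show ∀ x ∈ W2 k, x < 3
    unfold W2
    cases hk : Nat.beq k 26 with
    | true =>
      intro x hx
      have := List.all_eq_true.1 chk_let2.2.1 x hx
      simpa using this
    | false => exact lt_getD (by norm_num) chk_let2.1 k
  have hfin0 : Finite ↥(seg γ cert1.nsub) := by
    show Finite ↥(seg γ 0)
    rw [seg_zero]
    infer_instance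
  obtain ⟨hfin1, hc1⟩ := card_seg_le γ cert1 hinv hW1 hL1 (Nat.zero_le _) (show 0 < 10 by norm_num) hall1 hfin0
  have hc1' : Nat.card ↥(seg γ 2) ≤ 10 := by
    have h0 : Nat.card ↥(seg γ cert1.nsub) = 1 := by
      show Nat.card ↥(seg γ 0) = 1
      rw [seg_zero]
      exact Subgroup.card_bot
    rw [h0] at hc1
    exact hc1
  obtain ⟨hfin2, hc2⟩ := card_seg_le γ cert2 hinv hW2 hL2 (show 2 ≤ 3 by norm_num) (show 0 < 792 by norm_num) hall2 hfin1
  have hc2' : Nat.card ↥(seg γ 3) ≤ 792 * 10 := le_trans hc2 (Nat.mul_le_mul_left _ hc1')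
  obtain ⟨hfin3, hc3⟩ := card_seg_le γ cert3 hinv hW3 hL3 (show 3 ≤ 4 by norm_num) (show 0 < 1288 by norm_num) hall3 hfin2
  have hc3' : Nat.card ↥(seg γ 4) ≤ 1288 * (792 * 10) := le_trans hc3 (Nat.mul_le_mul_left _ hc2')
  obtain ⟨_, hc4⟩ := card_seg_le γ cert4 hinv hW4 hL4 (show 4 ≤ 5 by norm_num) (show 0 < 48600 by norm_num) hall4 hfin3
  have hc4' : Nat.card ↥(seg γ 5) ≤ 48600 * (1288 * (792 * 10)) := le_trans hc4 (Nat.mul_le_mul_left _ hc3')
  rw [htop, Subgroup.card_top] at hc4'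
  exact hc4'

end Cfsg.Agent.Lib.Helper5.Co3Mult
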