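import Cfsg.Agent.Lib.Helper5.FixCount
import Mathlib

set_option autoImplicit false

namespace Cfsg.Agent.Lib.Helper5.FixCount

section conjsub
variable {G : Type*} [Group G]

/-- the conjugate subgroup `c A c⁻¹` -/
def conjSub (c : G) (A : Subgroup G) : Subgroup G := A.map (MulAut.conj c).toMonoidHom

theorem mem_conjSub (c : G) (A : Subgroup G) (x : G) : x ∈ conjSub c A ↔ c⁻¹ * x * c ∈ A := by
  unfold conjSub
  rw [Subgroup.mem_map]
  constructor
  · rintro ⟨a, ha, rfl⟩
    change c⁻¹ * (c * a * c⁻¹) * c ∈ A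
    have e : c⁻¹ * (c * a * c⁻¹) * c = a := by group
    rwa [e]
  · intro h
    refine ⟨c⁻¹ * x * c, h, ?_⟩
    change c * (c⁻¹ * x * c) * c⁻¹ = x
    group

theorem conj_mem_conjSub (c : G) (A : Subgroup G) {a : G} (ha : a ∈ A) :
    c * a * c⁻¹ ∈ conjSub c A := by
  rw [mem_conjSub]
  have e : c⁻¹ * (c * a * c⁻¹) * c = a := by group
  rwa [e]

theorem card_conjSub (c : G) (A : Subgroup G) : Nat.card (conjSub c A) = Nat.card A := by
  unfold conjSub
  exact (Nat.card_congr (A.equivMapOfInjective _ (MulAut.conj c).injective).toEquiv).symm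

theorem conjSub_conjSub (c d : G) (A : Subgroup G) : conjSub c (conjSub d A) = conjSub (c * d) A := by
  ext x
  rw [mem_conjSub, mem_conjSub, mem_conjSub]
  have e : d⁻¹ * (c⁻¹ * x * c) * d = (c * d)⁻¹ * x * (c * d) := by group
  rw [e]

theorem conjSub_one (A : Subgroup G) : conjSub 1 A = A := by
  ext x
  rw [mem_conjSub]
  simp

theorem normalizer_conjSub (c : G) (A : Subgroup G) :
    Subgroup.normalizer ((conjSub c A : Subgroup G) : Set G) =
      conjSub c (Subgroup.normalizer (A : Set G)) := by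
  ext x
  rw [mem_conjSub, Subgroup.mem_normalizer_iff, Subgroup.mem_normalizer_iff]
  constructor
  · intro h y
    have := h (c * y * c⁻¹)
    rw [mem_conjSub, mem_conjSub] at this
    have e1 : c⁻¹ * (c * y * c⁻¹) * c = y := by group
    have e2 : c⁻¹ * (x * (c * y * c⁻¹) * x⁻¹) * c = c⁻¹ * x * c * y * (c⁻¹ * x * c)⁻¹ := by group
    rw [e1, e2] at this
    exact this
  · intro h y
    rw [mem_conjSub, mem_conjSub]
    have := h (c⁻¹ * y * c)
    have e2 : c⁻¹ * x * c * (c⁻¹ * y * c) * (c⁻¹ * x * c)⁻¹ = c⁻¹ * (x * y * x⁻¹) * c := by group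
    rw [e2] at this
    exact this

theorem centralizer_conj (c g : G) :
    Subgroup.centralizer ({c * g * c⁻¹} : Set G) = conjSub c (Subgroup.centralizer {g}) := by
  ext x
  rw [mem_conjSub, Subgroup.mem_centralizer_singleton_iff, Subgroup.mem_centralizer_singleton_iff]
  constructor
  · intro h
    have e1 : c⁻¹ * x * c * g = c⁻¹ * (x * (c * g * c⁻¹)) * c := by group
    have e2 : g * (c⁻¹ * x * c) = c⁻¹ * ((c * g * c⁻¹) * x) * c := by group
    rw [e1, e2, h]
  · intro h
    have e1 : x * (c * g * c⁻¹) = c * (c⁻¹ * x * c * g) * c⁻¹ := by group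
    have e2 : c * g * c⁻¹ * x = c * (g * (c⁻¹ * x * c)) * c⁻¹ := by group
    rw [e1, e2, h]

theorem clsSet_conjSub (c : G) (A : Subgroup G) : clsSet (conjSub c A) = clsSet A := by
  ext x
  rw [mem_clsSet, mem_clsSet]
  constructor
  · rintro ⟨hx, h, hh⟩
    rw [mem_conjSub] at hh
    refine ⟨hx, h * c, ?_⟩
    have e : (h * c)⁻¹ * x * (h * c) = c⁻¹ * (h⁻¹ * x * h) * c := by group
    rw [e]
    exact hh
  · rintro ⟨hx, h, hh⟩
    refine ⟨hx, h * c⁻¹, ?_⟩
    rw [mem_conjSub]
    have e : c⁻¹ * ((h * c⁻¹)⁻¹ * x * (h * c⁻¹)) * c = h⁻¹ * x * h := by group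
    rw [e]
    exact hh

theorem isCyclic_conjSub (c : G) (A : Subgroup G) [IsCyclic A] : IsCyclic (conjSub c A) := by
  unfold conjSub
  exact isCyclic_of_surjective _ (A.equivMapOfInjective _ (MulAut.conj c).injective).surjective

end conjsub

end Cfsg.Agent.Lib.Helper5.FixCount
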