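import Mathlib
import Cfsg.Agent.Lib.Lead.PSolvable
import Cfsg.Agent.S3800
import Cfsg.Agent.S0028

/-!
# Centralizers of `p`-subgroups in `p`-constrained groups are `p`-constrained (helper5)

`exists_constrained_centralizer` : if `C_G(Q) ≤ O_{p',p}(G)` for a Sylow `p`-subgroup `Q` of
`O_{p',p}(G)` then for every `p`-subgroup `R` the group `C_G(R)` is `p`-constrained over
`O_{p'}(G) ∩ C_G(R)`.
-/

set_option autoImplicit false
set_option linter.style.haveILetI false
set_option linter.unusedSectionVars false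
set_option linter.unusedVariables false

namespace Cfsg.Agent.Lib.Helper5.ConstrCent

open Cfsg

/-- an element of `p`-power order and of order prime to `p` is trivial -/
theorem eq_one_of_pow_of_coprime {G : Type*} [Group G] {p : ℕ} (x : G) (k n : ℕ)
    (hx : x ^ (p ^ k) = 1) (hn : x ^ n = 1) (hc : n.Coprime p) : x = 1 := by
  have h1 : orderOf x ∣ p ^ k := orderOf_dvd_of_pow_eq_one hx
  have h2 : orderOf x ∣ n := orderOf_dvd_of_pow_eq_one hn
  have : orderOf x = 1 := Nat.eq_one_of_dvd_coprimes (Nat.Coprime.pow_left k hc.symm) h1 h2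
  exact orderOf_eq_one_iff.1 this

/-- if `V` is a normal self-centralizing `p`-subgroup of `H` and `R` is a `p`-subgroup, then
`X = C_H(R)` satisfies `C_X(O_p(X)) ≤ O_p(X)` -/
theorem centralizer_pCore_centralizer_le {H : Type*} [Group H] [Finite H] (p : ℕ) [Fact p.Prime]
    (V : Subgroup H) [hVn : V.Normal] (hV : IsPGroup p V)
    (hCV : Subgroup.centralizer (V : Set H) ≤ V) (R : Subgroup H) (hR : IsPGroup p R) :
    Subgroup.centralizer ((pCore p ↥(Subgroup.centralizer (R : Set H)) :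
      Subgroup ↥(Subgroup.centralizer (R : Set H))) : Set ↥(Subgroup.centralizer (R : Set H))) ≤
      pCore p ↥(Subgroup.centralizer (R : Set H)) := by
  have hp : p.Prime := Fact.out
  set X := Subgroup.centralizer (R : Set H) with hX
  set U := pCore p ↥X with hU
  have hVU : V.subgroupOf X ≤ U := by
    haveI : (V.subgroupOf X).Normal := hVn.subgroupOf X
    exact Cfsg.Agent.H1.le_pCore inferInstance (hV.comap_subtype)
  have hCUp : IsPGroup p ↥(Subgroup.centralizer (U : Set ↥X)) := by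
    rintro ⟨y, hy⟩
    obtain ⟨a, m, hm, hord⟩ : ∃ a m, ¬ p ∣ m ∧ orderOf y = p ^ a * m :=
      Nat.exists_eq_pow_mul_and_not_dvd (orderOf_pos y).ne' p hp.ne_one
    have hmc : m.Coprime p := ((Nat.Prime.coprime_iff_not_dvd hp).2 hm).symm
    set y' : ↥X := y ^ (p ^ a) with hy'
    have hy'CU : y' ∈ Subgroup.centralizer (U : Set ↥X) := pow_mem hy _
    have hy'm : y' ^ m = 1 := by
      rw [hy', ← pow_mul, ← hord]
      exact pow_orderOf_eq_one y
    have hy'mH : (y' : H) ^ m = 1 := by
      have := congrArg Subtype.val hy'm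
      simpa using this
    have hzle : Subgroup.zpowers (y' : H) ≤ Subgroup.centralizer (R : Set H) :=
      Subgroup.zpowers_le.2 y'.2
    have key : Subgroup.zpowers (y' : H) ≤ Subgroup.centralizer (V : Set H) := by
      apply Cfsg.Agent.S0028.result p R (Subgroup.zpowers (y' : H)) V hR ?_ hV ?_ ?_ ?_ ?_
      · rw [Nat.card_zpowers]
        exact Nat.Coprime.coprime_dvd_left (orderOf_dvd_of_pow_eq_one hy'mH) hmc
      · exact Subgroup.le_centralizer_iff.1 hzle
      · rw [Subgroup.normalizer_eq_top]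
        exact le_top
      · rw [Subgroup.normalizer_eq_top]
        exact le_top
      · rintro v ⟨hvV, hvX⟩
        have hvU : (⟨v, hvX⟩ : ↥X) ∈ U := hVU (Subgroup.mem_subgroupOf.2 hvV)
        have hc := Subgroup.mem_centralizer_iff.1 hy'CU _ hvU
        have hcH : v * (y' : H) = (y' : H) * v := by
          have := congrArg Subtype.val hc
          simpa using this
        rw [Subgroup.mem_centralizer_iff]
        intro z hz
        obtain ⟨n, rfl⟩ := Subgroup.mem_zpowers_iff.1 hz
        have hcomm : Commute (y' : H) v := hcH.symm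
        exact (hcomm.zpow_left n).eq
    have hy'V : (y' : H) ∈ V := hCV (key (Subgroup.mem_zpowers _))
    have hy'1 : (y' : H) = 1 := by
      obtain ⟨k, hk⟩ := hV ⟨_, hy'V⟩
      have hk' : (y' : H) ^ (p ^ k) = 1 := by
        have := congrArg Subtype.val hk
        simpa using this
      exact eq_one_of_pow_of_coprime (y' : H) k m hk' hy'mH hmc
    refine ⟨a, ?_⟩
    apply Subtype.ext
    apply Subtype.ext
    simpa [hy'] using hy'1
  haveI : (Subgroup.centralizer (U : Set ↥X)).Normal := by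
    haveI : U.Normal := Cfsg.Agent.H1.pCore_normal p
    exact Subgroup.normal_centralizer
  exact Cfsg.Agent.H1.le_pCore inferInstance hCUp

/-- **`C_G(R)` is `p`-constrained over `O_{p'}(G) ∩ C_G(R)`** -/
theorem exists_constrained_centralizer {G : Type*} [Group G] [Finite G] (p : ℕ) [Fact p.Prime]
    (K L Q : Subgroup G) (hK : K = pPrimeCore p G) (hL : L = pPrimePCore p G) (hQL : Q ≤ L)
    (hQp : IsPGroup p Q) (hQS : ¬ p ∣ Q.relIndex L)
    (hCQ : Subgroup.centralizer (Q : Set G) ≤ L) (R : Subgroup G) (hR : IsPGroup p R) :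
    ∃ (L' Q' : Subgroup ↥(Subgroup.centralizer (R : Set G))) (k : ℕ), L'.Normal ∧
      (K ⊓ Subgroup.centralizer (R : Set G)).subgroupOf (Subgroup.centralizer (R : Set G)) ≤ L' ∧
      ((K ⊓ Subgroup.centralizer (R : Set G)).subgroupOf
        (Subgroup.centralizer (R : Set G))).relIndex L' = p ^ k ∧
      Q' ≤ L' ∧ IsPGroup p Q' ∧
      Subgroup.centralizer (Q' : Set ↥(Subgroup.centralizer (R : Set G))) ≤ L' := by
  subst hK hL
  have hp : p.Prime := Fact.out
  haveI hKn : (pPrimeCore p G).Normal := Cfsg.Agent.H1.pPrimeCore_normal p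
  have hKc : (Nat.card ↥(pPrimeCore p G)).Coprime p := Cfsg.Agent.H1.pPrimeCore_coprime p
  -- Step 1: the image of `Q` is `O_p(G / O_{p'}(G))`
  have hQp' : IsPGroup p ↥(Q.subgroupOf (pPrimePCore p G)) := hQp.comap_subtype
  have hidx : ¬ p ∣ (Q.subgroupOf (pPrimePCore p G)).index := hQS
  have hQbar : Q.map (QuotientGroup.mk' (pPrimeCore p G)) = pCore p (G ⧸ pPrimeCore p G) := by
    have h := Cfsg.Agent.Lib.Lead.PSolvable.map_sylow_eq_pCore (hQp'.toSylow hidx)
    have e : ((hQp'.toSylow hidx : Sylow p ↥(pPrimePCore p G)) :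
        Subgroup ↥(pPrimePCore p G)).map (pPrimePCore p G).subtype = Q :=
      Subgroup.map_subgroupOf_eq_of_le hQL
    rwa [e] at h
  -- Step 2: `O_p(G / O_{p'}(G))` is self-centralizing
  have hCV : Subgroup.centralizer ((pCore p (G ⧸ pPrimeCore p G) :
      Subgroup (G ⧸ pPrimeCore p G)) : Set (G ⧸ pPrimeCore p G)) ≤ pCore p (G ⧸ pPrimeCore p G) := by
    rw [← hQbar, (Cfsg.Agent.S3800.result (pPrimeCore p G) hKc Q hQp).2]
    rintro _ ⟨x, hx, rfl⟩
    rw [hQbar]
    exact (Cfsg.Agent.Lib.Lead.PSolvable.mem_pPrimePCore_iff x).1 (hCQ hx)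
  -- Step 3
  have hA := centralizer_pCore_centralizer_le p (pCore p (G ⧸ pPrimeCore p G))
    (Cfsg.Agent.H1.pCore_isPGroup p) hCV (R.map (QuotientGroup.mk' (pPrimeCore p G)))
    (hR.map (QuotientGroup.mk' (pPrimeCore p G)))
  have hX : Subgroup.centralizer ((R.map (QuotientGroup.mk' (pPrimeCore p G)) :
      Subgroup (G ⧸ pPrimeCore p G)) : Set (G ⧸ pPrimeCore p G)) =
      (Subgroup.centralizer (R : Set G)).map (QuotientGroup.mk' (pPrimeCore p G)) :=
    (Cfsg.Agent.S3800.result (pPrimeCore p G) hKc R hR).2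
  generalize hXdef : Subgroup.centralizer ((R.map (QuotientGroup.mk' (pPrimeCore p G)) :
      Subgroup (G ⧸ pPrimeCore p G)) : Set (G ⧸ pPrimeCore p G)) = X at hA hX
  generalize hCdef : Subgroup.centralizer (R : Set G) = C at hX ⊢
  -- Step 4
  have hmem : ∀ c : ↥C, ((QuotientGroup.mk' (pPrimeCore p G)).comp C.subtype) c ∈ X := fun c => by
    rw [hX]
    exact Subgroup.mem_map_of_mem _ c.2
  set φ : ↥C →* ↥X :=
    ((QuotientGroup.mk' (pPrimeCore p G)).comp C.subtype).codRestrict X hmem with hφ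
  have hφval : ∀ c : ↥C, ((φ c : ↥X) : G ⧸ pPrimeCore p G) =
      QuotientGroup.mk' (pPrimeCore p G) (c : G) := fun c => rfl
  have hφsurj : Function.Surjective φ := by
    rintro ⟨x, hx⟩
    have hx' := hx
    rw [hX] at hx'
    obtain ⟨c, hc, rfl⟩ := hx'
    exact ⟨⟨c, hc⟩, rfl⟩
  have hker : φ.ker = (pPrimeCore p G ⊓ C).subgroupOf C := by
    ext c
    rw [MonoidHom.mem_ker, Subgroup.mem_subgroupOf, Subgroup.mem_inf]
    constructor
    · intro h
      have h1 : QuotientGroup.mk' (pPrimeCore p G) (c : G) = 1 := by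
        rw [← hφval, h]; rfl
      exact ⟨(QuotientGroup.eq_one_iff _).1 h1, c.2⟩
    · rintro ⟨h, -⟩
      apply Subtype.ext
      rw [hφval]
      exact (QuotientGroup.eq_one_iff _).2 h
  have hkerc : (Nat.card ↥φ.ker).Coprime p := by
    have h1 : Nat.card ↥φ.ker = Nat.card ↥(pPrimeCore p G ⊓ C) := by
      rw [hker]
      exact Nat.card_congr (Subgroup.subgroupOfEquivOfLe inf_le_right).toEquiv
    rw [h1]
    exact Nat.Coprime.coprime_dvd_left (Subgroup.card_dvd_of_le inf_le_left) hKc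
  obtain ⟨k, hk⟩ := IsPGroup.iff_card.1 (Cfsg.Agent.H1.pCore_isPGroup (G := ↥X) p)
  have hrel : φ.ker.relIndex ((pCore p ↥X).comap φ) = p ^ k := by
    have h1 : φ.ker = (⊥ : Subgroup ↥X).comap φ := (MonoidHom.comap_bot φ).symm
    rw [h1, Subgroup.relIndex_comap, Subgroup.map_comap_eq_self_of_surjective hφsurj,
      Subgroup.relIndex_bot_left, hk]
  obtain ⟨L', hL'def⟩ : ∃ L' : Subgroup ↥C, L' = (pCore p ↥X).comap φ := ⟨_, rfl⟩
  rw [← hL'def] at hrel
  have P' : Sylow p ↥L' := default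
  obtain ⟨Q', hQ'def⟩ : ∃ Q' : Subgroup ↥C, Q' = (P' : Subgroup ↥L').map L'.subtype := ⟨_, rfl⟩
  have hQ'p : IsPGroup p ↥Q' := by rw [hQ'def]; exact P'.isPGroup'.map _
  have hQ'L' : Q' ≤ L' := by rw [hQ'def]; exact Subgroup.map_subtype_le _
  refine ⟨L', Q', k, ?_, ?_, ?_, hQ'L', hQ'p, ?_⟩
  · haveI : (pCore p ↥X).Normal := Cfsg.Agent.H1.pCore_normal p
    rw [hL'def]
    exact Subgroup.Normal.comap inferInstance φ
  · rw [← hker, hL'def]
    exact MonoidHom.ker_le_comap φ _
  · rw [← hker]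
    exact hrel
  · -- the image of `Q'` is `O_p(X)`
    have hS : Q'.map φ = pCore p ↥X := by
      apply Subgroup.eq_of_le_of_card_ge
      · rintro _ ⟨q, hq, rfl⟩
        have := hQ'L' hq
        rw [hL'def] at this
        exact this
      · rw [hk]
        have h1 : p ^ k ∣ Nat.card ↥L' := by
          rw [← hrel]
          exact Subgroup.relIndex_dvd_card _ _
        have h2 : p ^ k ∣ Nat.card ↥(P' : Subgroup ↥L') := P'.pow_dvd_card_of_pow_dvd_card h1
        have h3 : Nat.card ↥Q' = Nat.card ↥(P' : Subgroup ↥L') := by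
          rw [hQ'def]
          exact Subgroup.card_map_of_injective (Subgroup.subtype_injective _)
        have h4 : Nat.card ↥Q' ≤ Nat.card ↥(Q'.map φ) := by
          apply Nat.card_le_card_of_injective
            (fun q : ↥Q' => (⟨φ q, Subgroup.mem_map_of_mem φ q.2⟩ : ↥(Q'.map φ)))
          intro q1 q2 h
          have h5 : φ (q1 : ↥C) = φ (q2 : ↥C) := congrArg Subtype.val h
          have h6 : (q1 : ↥C)⁻¹ * (q2 : ↥C) ∈ φ.ker := by
            rw [MonoidHom.mem_ker, map_mul, map_inv, h5, inv_mul_cancel]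
          have h7 : (q1 : ↥C)⁻¹ * (q2 : ↥C) ∈ Q' := Q'.mul_mem (Q'.inv_mem q1.2) q2.2
          obtain ⟨j, hj⟩ := hQ'p ⟨_, h7⟩
          have hj' : ((q1 : ↥C)⁻¹ * (q2 : ↥C)) ^ (p ^ j) = 1 := by
            have := congrArg Subtype.val hj
            simpa using this
          have h8 : ((q1 : ↥C)⁻¹ * (q2 : ↥C)) ^ (Nat.card ↥φ.ker) = 1 := by
            have : (⟨_, h6⟩ : ↥φ.ker) ^ (Nat.card ↥φ.ker) = 1 := pow_card_eq_one'
            have := congrArg Subtype.val this
            simpa using this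
          have h9 := eq_one_of_pow_of_coprime _ j _ hj' h8 hkerc
          apply Subtype.ext
          exact (inv_mul_eq_one.1 h9)
        have h10 : p ^ k ≤ Nat.card ↥(P' : Subgroup ↥L') := Nat.le_of_dvd Nat.card_pos h2
        omega
    intro c hc
    rw [hL'def]
    show φ c ∈ pCore p ↥X
    apply hA
    rw [← hS, Subgroup.mem_centralizer_iff]
    rintro _ ⟨q, hq, rfl⟩
    have := Subgroup.mem_centralizer_iff.1 hc q hq
    rw [← map_mul, ← map_mul, this]

end Cfsg.Agent.Lib.Helper5.ConstrCent
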