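import Mathlib
import Cfsg.Agent.H2.CC2
import Cfsg.Agent.Lib.Helper5.CountTrick

/-!
# S4138, Part IV glue (helper5): every non-central element of `C(y)` has class size `m`
-/

set_option autoImplicit false
set_option linter.style.haveILetI false
set_option linter.unusedSectionVars false
set_option linter.unusedVariables false

namespace Cfsg.Agent.Lib.Helper5.CountGlue

open Cfsg.Agent.H2.ClassProd Cfsg.Agent.H2.CC Cfsg.Agent.Lib.Helper5.CountTrick

theorem cs_eq_of_commute_of_not_center {G : Type*} [Group G] [Finite G] {m n : ℕ}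
    (hyp : Hyp G m n) (y : G) (hy : cs y = m) (x : G) (hxL : x ∈ LL G m)
    (hKH : Subgroup.centralizer ({x} : Set G) ⊓ Subgroup.centralizer ({y} : Set G) ≤
      Subgroup.center G)
    (hLH : ∀ l ∈ LL G m, l * y = y * l → l = 1)
    (hH : (Subgroup.center G).relIndex (Subgroup.centralizer ({y} : Set G)) = n)
    (h : G) (hh : h * y = y * h) (hhZ : h ∉ Subgroup.center G) : cs h = m := by
  by_contra hne
  have hlt : cs h < m := lt_of_le_of_ne (hyp.htop h) hne
  obtain ⟨t, w, j, hsplit, ht, hw, hto, hwo⟩ := exists_pi_split m h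
  have hhH : h ∈ Subgroup.centralizer ({y} : Set G) := (mem_centralizer_singleton y h).2 hh
  have hzp : Subgroup.zpowers h ≤ Subgroup.centralizer ({y} : Set G) :=
    Subgroup.zpowers_le.2 hhH
  have htH := hzp ht
  have hwH := hzp hw
  have hZH : Subgroup.center G ≤ Subgroup.centralizer ({y} : Set G) := by
    intro z hz
    exact (mem_centralizer_singleton y z).2 ((Subgroup.mem_center_iff.1 hz y).symm)
  -- the `m`-part is central
  have htn : t ^ n ∈ Subgroup.center G := by
    haveI : ((Subgroup.center G).subgroupOf (Subgroup.centralizer ({y} : Set G))).Normal :=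
      Subgroup.Normal.subgroupOf inferInstance _
    have h1 := Subgroup.pow_index_mem
      ((Subgroup.center G).subgroupOf (Subgroup.centralizer ({y} : Set G)))
      (⟨t, htH⟩ : ↥(Subgroup.centralizer ({y} : Set G)))
    have h2 : ((Subgroup.center G).subgroupOf (Subgroup.centralizer ({y} : Set G))).index = n :=
      hH
    rw [h2, Subgroup.mem_subgroupOf] at h1
    simpa using h1
  have htm : t ^ (m ^ j) ∈ Subgroup.center G := by
    rw [orderOf_dvd_iff_pow_eq_one.1 hto]
    exact one_mem _
  have htZ : t ∈ Subgroup.center G :=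
    mem_of_pow_mem_coprime (Subgroup.center G) t
      (Nat.Coprime.pow_right j hyp.hcop.symm) htn htm
  have hwZ : w ∉ Subgroup.center G := by
    intro hwZ
    apply hhZ
    rw [hsplit]
    exact mul_mem htZ hwZ
  have htw : t * w = w * t := (Subgroup.mem_center_iff.1 htZ w).symm
  have hcsw : cs w = cs h := by
    rw [hsplit, htw, cs_mul_central w t htZ]
  have hcop : (orderOf w).Coprime (Nat.card ↥(LL G m)) :=
    Nat.Coprime.coprime_dvd_right (card_LL_dvd hyp y hy) hwo
  apply counting_trick (LL G m) (Subgroup.centralizer ({y} : Set G))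
    (fun a ha b hb => LL_comm hyp y hy a b ha hb) hZH ?_ x hxL ?_ w hwH hwZ hcop ?_
  · rw [eq_bot_iff]
    rintro l ⟨hl, hly⟩
    rw [Subgroup.mem_bot]
    exact hLH l hl ((mem_centralizer_singleton y l).1 hly)
  · rw [inf_comm]
    exact hKH
  · intro v hv hvw
    rw [hH]
    by_contra hgt
    have h1 : cs (v * w) = m := by
      by_contra h2
      exact hgt (hyp.hsecond _ (lt_of_le_of_ne (hyp.htop _) h2))
    have h3 := cs_LL_mul hyp (v * w) h1 v⁻¹ ((LL G m).inv_mem hv)
    rw [inv_mul_cancel_left] at h3
    exact hne (hcsw ▸ h3)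

end Cfsg.Agent.Lib.Helper5.CountGlue
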