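import Cfsg.Agent.Lib.Helper4.FrobThm
import Cfsg.Prelude.Def_LieExceptional
import Mathlib

set_option autoImplicit false
open Cfsg
open scoped Pointwise

namespace Cfsg.Agent.Lib.Helper5.Zass

/-- the basic hypotheses on a Zassenhaus-type action -/
structure Hyp (G Ω : Type*) [Group G] [MulAction G Ω] : Prop where
  faithful : FaithfulSMul G Ω
  h2 : ∀ {a b c d : Ω}, a ≠ b → c ≠ d → ∃ g : G, g • a = c ∧ g • b = d
  h3 : ∀ g : G, ∀ a b c : Ω, a ≠ b → b ≠ c → a ≠ c → g • a = a → g • b = b → g • c = c → g = 1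
  hfix : ∃ g : G, g ≠ 1 ∧ ∃ a b : Ω, a ≠ b ∧ g • a = a ∧ g • b = b

theorem hyp_of_zassenhaus {G Ω : Type*} [Group G] [MulAction G Ω]
    (hZ : IsZassenhausGroup G Ω) : Hyp G Ω :=
  ⟨hZ.1, fun hab hcd => (MulAction.is_two_pretransitive_iff.1 hZ.2.1) hab hcd, hZ.2.2.1, hZ.2.2.2.1⟩

section
variable {G Ω : Type*} [Group G] [MulAction G Ω] (h : Hyp G Ω)
include h

theorem finite_group [Finite Ω] : Finite G := by
  have := h.faithful
  exact Finite.of_injective (MulAction.toPermHom G Ω) MulAction.toPerm_injective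

theorem exists_ne (a : Ω) : ∃ b : Ω, b ≠ a := by
  obtain ⟨g0, -, a0, b0, hab0, -, -⟩ := h.hfix
  by_cases ha : a0 = a
  · exact ⟨b0, fun hb => hab0 (ha.trans hb.symm)⟩
  · exact ⟨a0, ha⟩

theorem exists_third (a b : Ω) (hab : a ≠ b) : ∃ c : Ω, c ≠ a ∧ c ≠ b := by
  obtain ⟨g0, hg0, a0, b0, hab0, ha0, hb0⟩ := h.hfix
  have := h.faithful
  obtain ⟨c0, hc0⟩ : ∃ c0 : Ω, g0 • c0 ≠ c0 := by
    by_contra hcon
    push Not at hcon
    apply hg0
    apply FaithfulSMul.eq_of_smul_eq_smul (α := Ω)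
    intro c
    rw [hcon c, one_smul]
  obtain ⟨x, hxa, hxb⟩ := h.h2 hab0 hab
  refine ⟨x • c0, ?_, ?_⟩
  · intro hc
    rw [← hxa] at hc
    have := MulAction.injective x hc
    rw [this] at hc0
    exact hc0 ha0
  · intro hc
    rw [← hxb] at hc
    have := MulAction.injective x hc
    rw [this] at hc0
    exact hc0 hb0

theorem exists_fix2 (a b : Ω) (hab : a ≠ b) : ∃ g : G, g ≠ 1 ∧ g • a = a ∧ g • b = b := by
  obtain ⟨g0, hg0, a0, b0, hab0, ha0, hb0⟩ := h.hfix
  obtain ⟨x, hxa, hxb⟩ := h.h2 hab0 hab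
  refine ⟨x * g0 * x⁻¹, ?_, ?_, ?_⟩
  · intro hx
    apply hg0
    have : g0 = x⁻¹ * (x * g0 * x⁻¹) * x := by group
    rw [this, hx]
    group
  · rw [mul_smul, mul_smul, ← hxa, inv_smul_smul, ha0]
  · rw [mul_smul, mul_smul, ← hxb, inv_smul_smul, hb0]

/-- the set underlying the Frobenius kernel of the point stabiliser -/
def KS (a : Ω) : Set G := {x | x • a = a ∧ (x = 1 ∨ ∀ c : Ω, c ≠ a → x • c ≠ c)}

omit h in
theorem conj_mem_KS {a a' : Ω} {g x : G} (hg : g • a = a') (hx : x ∈ (KS a : Set G)) :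
    g * x * g⁻¹ ∈ (KS a' : Set G) := by
  refine ⟨?_, ?_⟩
  · rw [mul_smul, mul_smul, ← hg, inv_smul_smul, hx.1]
  · rcases hx.2 with rfl | hx2
    · left
      group
    · right
      intro c hc hfix
      apply hx2 (g⁻¹ • c)
      · intro hc'
        apply hc
        rw [← hg, ← hc', smul_inv_smul]
      · rw [mul_smul, mul_smul] at hfix
        exact (smul_eq_iff_eq_inv_smul g).1 hfix

theorem exists_kernel [Finite Ω] (a : Ω) : ∃ K : Subgroup G, (K : Set G) = KS a ∧
    ∀ c d : Ω, c ≠ a → d ≠ a → ∃ k ∈ K, k • c = d := by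
  have := finite_group h
  obtain ⟨b, hb⟩ := exists_ne h a
  let Ga := MulAction.stabilizer G a
  let Hab : Subgroup Ga := MulAction.stabilizer Ga b
  have hmemH : ∀ g : Ga, g ∈ Hab ↔ (g : G) • b = b := fun g => MulAction.mem_stabilizer_iff
  have hconj : ∀ (g k : Ga), k ∈ MulAut.conj g • Hab ↔ (k : G) • ((g : G) • b) = (g : G) • b := by
    intro g k
    rw [Subgroup.mem_pointwise_smul_iff_inv_smul_mem, MulAut.smul_def, MulAut.conj_inv_apply, hmemH]
    simp only [Subgroup.coe_mul, Subgroup.coe_inv, mul_smul]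
    rw [inv_smul_eq_iff]
  have hne : ∀ g : Ga, (g : G) • b ≠ a := by
    intro g hg
    apply hb
    have : (g : G) • a = a := g.2
    rw [← this] at hg
    exact MulAction.injective (g : G) hg
  have hFC : IsFrobeniusComplement Hab := by
    refine ⟨?_, ?_, ?_⟩
    · obtain ⟨g, hg1, hga, hgb⟩ := exists_fix2 h a b hb.symm
      intro hbot
      have : (⟨g, hga⟩ : Ga) ∈ Hab := (hmemH _).2 hgb
      rw [hbot, Subgroup.mem_bot] at this
      exact hg1 (congrArg Subtype.val this)
    · obtain ⟨c, hca, hcb⟩ := exists_third h a b hb.symm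
      obtain ⟨g, hga, hgb⟩ := h.h2 hb.symm hca.symm
      intro htop
      have : (⟨g, hga⟩ : Ga) ∈ Hab := by
        rw [htop]
        trivial
      rw [hmemH] at this
      exact hcb (hgb.symm.trans this)
    · intro g hg
      rw [eq_bot_iff]
      intro k hk
      rw [Subgroup.mem_inf, hconj, hmemH] at hk
      rw [Subgroup.mem_bot]
      apply Subtype.ext
      rw [hmemH] at hg
      exact h.h3 (k : G) a b ((g : G) • b) hb.symm (Ne.symm hg) (hne g).symm k.2 hk.1 hk.2
  obtain ⟨Ka, hKa, hKn, hKc⟩ := Cfsg.Agent.Lib.Helper4.FrobThm.frobenius_theorem Hab hFC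
  have hKmem : ∀ k : Ga, k ∈ Ka ↔ (k = 1 ∨ ∀ c : Ω, c ≠ a → (k : G) • c ≠ c) := by
    intro k
    rw [← SetLike.mem_coe, hKa]
    unfold frobeniusKernel
    simp only [Set.mem_ofPred_eq]
    apply or_congr Iff.rfl
    constructor
    · intro hk c hc hfix
      obtain ⟨g, hga, hgb⟩ := h.h2 hb.symm hc.symm
      apply hk ⟨g, hga⟩
      rw [hconj]
      change (k : G) • (g • b) = g • b
      rw [hgb]
      exact hfix
    · intro hk g hg
      rw [hconj] at hg
      exact hk _ (hne g) hg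
  refine ⟨Ka.map Ga.subtype, ?_, ?_⟩
  · ext x
    simp only [Subgroup.coe_map, Set.mem_image, SetLike.mem_coe]
    constructor
    · rintro ⟨k, hk, rfl⟩
      refine ⟨k.2, ?_⟩
      rcases (hKmem k).1 hk with rfl | h'
      · left
        rfl
      · right
        exact h'
    · rintro ⟨hxa, hx2⟩
      refine ⟨⟨x, hxa⟩, (hKmem _).2 ?_, rfl⟩
      rcases hx2 with rfl | h'
      · left
        rfl
      · right
        exact h'
  · have key : ∀ d : Ω, d ≠ a → ∃ k ∈ Ka, (k : G) • b = d := by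
      intro d hd
      obtain ⟨g, hga, hgb⟩ := h.h2 hb.symm hd.symm
      obtain ⟨⟨k, y⟩, hky⟩ := hKc.2 ⟨g, hga⟩
      refine ⟨k.1, k.2, ?_⟩
      have hy : (y.1 : G) • b = b := (hmemH _).1 y.2
      have := congrArg (fun z : Ga => (z : G) • b) hky
      simp only [Subgroup.coe_mul, mul_smul, hy, hgb] at this
      exact this
    intro c d hc hd
    obtain ⟨k1, hk1, hk1b⟩ := key c hc
    obtain ⟨k2, hk2, hk2b⟩ := key d hd
    refine ⟨(k2 * k1⁻¹ : Ga), Subgroup.mem_map_of_mem _ (Ka.mul_mem hk2 (Ka.inv_mem hk1)), ?_⟩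
    simp only [Subgroup.coe_mul, Subgroup.coe_inv, mul_smul]
    rw [← hk1b, inv_smul_smul, hk2b]

/-- the Frobenius kernel of the point stabiliser, as a subgroup of `G` -/
noncomputable def ker [Finite Ω] (a : Ω) : Subgroup G := (exists_kernel h a).choose

theorem mem_ker [Finite Ω] (a : Ω) (x : G) :
    x ∈ ker h a ↔ x • a = a ∧ (x = 1 ∨ ∀ c : Ω, c ≠ a → x • c ≠ c) := by
  rw [← SetLike.mem_coe, ker, (exists_kernel h a).choose_spec.1]
  rfl

theorem ker_trans [Finite Ω] (a c d : Ω) (hc : c ≠ a) (hd : d ≠ a) :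
    ∃ k ∈ ker h a, k • c = d :=
  (exists_kernel h a).choose_spec.2 c d hc hd

theorem conj_mem_ker [Finite Ω] {a a' : Ω} {g x : G} (hg : g • a = a') (hx : x ∈ ker h a) :
    g * x * g⁻¹ ∈ ker h a' := by
  rw [mem_ker] at hx ⊢
  exact conj_mem_KS hg hx

theorem ker_fix [Finite Ω] {a b : Ω} {x : G} (hx : x ∈ ker h a) (hb : b ≠ a) (hxb : x • b = b) :
    x = 1 := by
  rcases ((mem_ker h a x).1 hx).2 with h1 | h1
  · exact h1
  · exact absurd hxb (h1 b hb)

/-- a normal subgroup containing a nonidentity element fixing two points contains the kernel -/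
theorem ker_le_of_fix2 [Finite Ω] (N : Subgroup G) [N.Normal] {x : G} (hxN : x ∈ N) (hx1 : x ≠ 1)
    {a b : Ω} (hab : a ≠ b) (hxa : x • a = a) (hxb : x • b = b) : ker h a ≤ N := by
  have := finite_group h
  have hxinv : x⁻¹ • a = a := by rw [inv_smul_eq_iff, hxa]
  let f : ker h a → ker h a := fun k => ⟨(k : G) * x * (k : G)⁻¹ * x⁻¹, by
    have h1 : x * (k : G)⁻¹ * x⁻¹ ∈ ker h a := conj_mem_ker h hxa ((ker h a).inv_mem k.2)
    have := (ker h a).mul_mem k.2 h1
    have e : (k : G) * (x * (k : G)⁻¹ * x⁻¹) = (k : G) * x * (k : G)⁻¹ * x⁻¹ := by group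
    rw [e] at this
    exact this⟩
  have hinj : Function.Injective f := by
    intro k k' hkk
    have h1 : (k : G) * x * (k : G)⁻¹ * x⁻¹ = k' * x * (k' : G)⁻¹ * x⁻¹ := congrArg Subtype.val hkk
    have h2 : (k : G) * x * (k : G)⁻¹ = k' * x * (k' : G)⁻¹ := mul_right_cancel h1
    set c : G := (k' : G)⁻¹ * k with hc
    have hcK : c ∈ ker h a := (ker h a).mul_mem ((ker h a).inv_mem k'.2) k.2
    have hcomm : c * x = x * c := by
      have : x = (k' : G)⁻¹ * ((k : G) * x * (k : G)⁻¹) * k' := by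
        rw [h2]
        group
      calc c * x = (k' : G)⁻¹ * ((k : G) * x * (k : G)⁻¹) * k := by rw [hc]; group
        _ = (k' : G)⁻¹ * ((k : G) * x * (k : G)⁻¹) * k' * c := by rw [hc]; group
        _ = x * c := by rw [← this]
    have hca : c • a = a := ((mem_ker h a c).1 hcK).1
    have hcb : c • b = b := by
      by_contra hne
      apply hx1
      apply h.h3 x a b (c • b) hab (Ne.symm hne) ?_ hxa hxb ?_
      · intro h'
        rw [← hca] at h'
        exact hab (MulAction.injective c h')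
      · rw [← mul_smul, ← hcomm, mul_smul, hxb]
    have hc1 : c = 1 := ker_fix h hcK hab.symm hcb
    apply Subtype.ext
    have : (k : G) = k' * c := by rw [hc]; group
    rw [this, hc1, mul_one]
  have hsurj := Finite.surjective_of_injective hinj
  intro k hk
  obtain ⟨k', hk'⟩ := hsurj ⟨k, hk⟩
  have : k = (k' : G) * x * (k' : G)⁻¹ * x⁻¹ := (congrArg Subtype.val hk').symm
  rw [this]
  exact N.mul_mem (Subgroup.Normal.conj_mem inferInstance x hxN _) (N.inv_mem hxN)

/-- nontrivial normal subgroups are transitive -/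
theorem normal_trans (N : Subgroup G) [N.Normal] (hN : N ≠ ⊥) (p q : Ω) : ∃ n ∈ N, n • p = q := by
  by_cases hpq : p = q
  · exact ⟨1, N.one_mem, by rw [one_smul, hpq]⟩
  obtain ⟨n, hn1⟩ := (Subgroup.ne_bot_iff_exists_ne_one.1 hN)
  have := h.faithful
  obtain ⟨c, hc⟩ : ∃ c : Ω, (n : G) • c ≠ c := by
    by_contra hcon
    push Not at hcon
    apply hn1
    apply Subtype.ext
    apply FaithfulSMul.eq_of_smul_eq_smul (α := Ω)
    intro c
    rw [hcon c]
    simp
  obtain ⟨g, hg1, hg2⟩ := h.h2 (Ne.symm hc) hpq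
  refine ⟨g * n * g⁻¹, Subgroup.Normal.conj_mem inferInstance _ n.2 _, ?_⟩
  rw [mul_smul, mul_smul, ← hg1, inv_smul_smul, hg2]

/-- a nontrivial normal subgroup contains a nonidentity element fixing two points -/
theorem exists_fix2_of_normal [Finite Ω]
    (hreg : ∀ N : Subgroup G, N.Normal → MulAction.IsPretransitive N Ω →
      ∃ a : Ω, MulAction.stabilizer N a ≠ ⊥)
    (N : Subgroup G) [N.Normal] (hN : N ≠ ⊥) :
    ∃ x ∈ N, x ≠ 1 ∧ ∃ a b : Ω, a ≠ b ∧ x • a = a ∧ x • b = b := by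
  have := finite_group h
  by_contra hcon
  push Not at hcon
  have hNt : MulAction.IsPretransitive N Ω := ⟨fun p q => by
    obtain ⟨n, hn, hnp⟩ := normal_trans h N hN p q
    exact ⟨⟨n, hn⟩, hnp⟩⟩
  obtain ⟨a, ha⟩ := hreg N inferInstance hNt
  let Na : Subgroup N := MulAction.stabilizer N a
  have hmemNa : ∀ n : N, n ∈ Na ↔ (n : G) • a = a := fun n => MulAction.mem_stabilizer_iff
  have hconj : ∀ (n y : N), y ∈ MulAut.conj n • Na ↔ (y : G) • ((n : G) • a) = (n : G) • a := by
    intro n y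
    rw [Subgroup.mem_pointwise_smul_iff_inv_smul_mem, MulAut.smul_def, MulAut.conj_inv_apply, hmemNa]
    simp only [Subgroup.coe_mul, Subgroup.coe_inv, mul_smul]
    rw [inv_smul_eq_iff]
  have hFC : IsFrobeniusComplement Na := by
    refine ⟨ha, ?_, ?_⟩
    · obtain ⟨b, hb⟩ := exists_ne h a
      obtain ⟨n, hn, hnb⟩ := normal_trans h N hN a b
      intro htop
      have : (⟨n, hn⟩ : N) ∈ Na := by
        rw [htop]
        trivial
      rw [hmemNa] at this
      exact hb (hnb.symm.trans this)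
    · intro n hn
      rw [eq_bot_iff]
      intro y hy
      rw [Subgroup.mem_inf, hconj, hmemNa] at hy
      rw [Subgroup.mem_bot]
      by_contra hy1
      rw [hmemNa] at hn
      exact hcon (y : G) y.2 (fun h' => hy1 (Subtype.ext h')) a ((n : G) • a) (Ne.symm hn) hy.1 hy.2
  obtain ⟨M, hM, hMn, hMc⟩ := Cfsg.Agent.Lib.Helper4.FrobThm.frobenius_theorem Na hFC
  have hMmem : ∀ y : N, y ∈ M ↔ (y = 1 ∨ ∀ c : Ω, (y : G) • c ≠ c) := by
    intro y
    rw [← SetLike.mem_coe, hM]
    unfold frobeniusKernel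
    simp only [Set.mem_ofPred_eq]
    apply or_congr Iff.rfl
    constructor
    · intro hy c hfix
      obtain ⟨n, hn, hnc⟩ := normal_trans h N hN a c
      apply hy ⟨n, hn⟩
      rw [hconj]
      change (y : G) • (n • a) = n • a
      rw [hnc]
      exact hfix
    · intro hy n hn
      rw [hconj] at hn
      exact hy _ hn
  let M' : Subgroup G := M.map N.subtype
  have hM'mem : ∀ x : G, x ∈ M' ↔ x ∈ N ∧ (x = 1 ∨ ∀ c : Ω, x • c ≠ c) := by
    intro x
    constructor
    · rintro ⟨y, hy, rfl⟩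
      refine ⟨y.2, ?_⟩
      rcases (hMmem y).1 hy with rfl | h'
      · left
        rfl
      · right
        exact h'
    · rintro ⟨hxN, hx2⟩
      refine ⟨⟨x, hxN⟩, (hMmem _).2 ?_, rfl⟩
      rcases hx2 with rfl | h'
      · left
        rfl
      · right
        exact h'
  have hM'n : M'.Normal := by
    constructor
    intro x hx g
    rw [hM'mem] at hx ⊢
    refine ⟨Subgroup.Normal.conj_mem inferInstance x hx.1 g, ?_⟩
    rcases hx.2 with rfl | h'
    · left
      group
    · right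
      intro c hfix
      apply h' (g⁻¹ • c)
      rw [mul_smul, mul_smul] at hfix
      exact (smul_eq_iff_eq_inv_smul g).1 hfix
  have hM't : MulAction.IsPretransitive M' Ω := by
    have key : ∀ c : Ω, ∃ m ∈ M', m • a = c := by
      intro c
      obtain ⟨n, hn, hnc⟩ := normal_trans h N hN a c
      obtain ⟨⟨m, y⟩, hmy⟩ := hMc.2 ⟨n, hn⟩
      refine ⟨((m.1 : N) : G), Subgroup.mem_map_of_mem _ m.2, ?_⟩
      have hy : ((y.1 : N) : G) • a = a := (hmemNa _).1 y.2
      have := congrArg (fun z : N => (z : G) • a) hmy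
      simp only [Subgroup.coe_mul, mul_smul, hy, hnc] at this
      exact this
    constructor
    intro p q
    obtain ⟨m1, hm1, hm1p⟩ := key p
    obtain ⟨m2, hm2, hm2q⟩ := key q
    refine ⟨⟨m2 * m1⁻¹, M'.mul_mem hm2 (M'.inv_mem hm1)⟩, ?_⟩
    change (m2 * m1⁻¹) • p = q
    rw [mul_smul, ← hm1p, inv_smul_smul, hm2q]
  obtain ⟨c, hc⟩ := hreg M' hM'n hM't
  apply hc
  rw [eq_bot_iff]
  intro m hm
  rw [Subgroup.mem_bot]
  have hm' : (m : G) • c = c := hm
  rcases ((hM'mem m).1 m.2).2 with h1 | h1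
  · exact Subtype.ext h1
  · exact absurd hm' (h1 c)

theorem ker_le_of_normal [Finite Ω]
    (hreg : ∀ N : Subgroup G, N.Normal → MulAction.IsPretransitive N Ω →
      ∃ a : Ω, MulAction.stabilizer N a ≠ ⊥)
    (N : Subgroup G) [N.Normal] (hN : N ≠ ⊥) (c : Ω) : ker h c ≤ N := by
  obtain ⟨x, hxN, hx1, a, b, hab, hxa, hxb⟩ := exists_fix2_of_normal h hreg N hN
  obtain ⟨d, hd⟩ := exists_ne h c
  obtain ⟨g, hga, hgb⟩ := h.h2 hab hd.symm
  apply ker_le_of_fix2 h N (x := g * x * g⁻¹) (Subgroup.Normal.conj_mem inferInstance x hxN g) ?_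
    hd.symm
  · rw [mul_smul, mul_smul, ← hga, inv_smul_smul, hxa]
  · rw [mul_smul, mul_smul, ← hgb, inv_smul_smul, hxb]
  · intro hx
    apply hx1
    have : x = g⁻¹ * (g * x * g⁻¹) * g := by group
    rw [this, hx]
    group

theorem card_ker [Finite Ω] (a : Ω) : Nat.card (ker h a) + 1 = Nat.card Ω := by
  have := finite_group h
  obtain ⟨b, hb⟩ := exists_ne h a
  let φ : Option (ker h a) → Ω := fun o => match o with
    | none => a
    | some k => (k : G) • b
  have hφ : Function.Bijective φ := by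
    constructor
    · intro o o' hoo
      match o, o' with
      | none, none => rfl
      | none, some k =>
        exfalso
        change a = (k : G) • b at hoo
        have hk : (k : G) • a = a := ((mem_ker h a _).1 k.2).1
        exact hb (MulAction.injective (k : G) (hk.trans hoo)).symm
      | some k, none =>
        exfalso
        change (k : G) • b = a at hoo
        have hk : (k : G) • a = a := ((mem_ker h a _).1 k.2).1
        exact hb (MulAction.injective (k : G) (hoo.trans hk.symm))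
      | some k, some k' =>
        change (k : G) • b = (k' : G) • b at hoo
        have h1 : ((k' : G)⁻¹ * k) • b = b := by rw [mul_smul, hoo, inv_smul_smul]
        have h2 := ker_fix h ((ker h a).mul_mem ((ker h a).inv_mem k'.2) k.2) hb h1
        congr 1
        apply Subtype.ext
        have : (k : G) = k' * ((k' : G)⁻¹ * k) := by group
        rw [this, h2, mul_one]
    · intro c
      by_cases hc : c = a
      · exact ⟨none, hc.symm⟩
      · obtain ⟨k, hk, hkb⟩ := ker_trans h a b c hb hc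
        exact ⟨some ⟨k, hk⟩, hkb⟩
  rw [← Nat.card_congr (Equiv.ofBijective φ hφ), Finite.card_option]

/-- **Zassenhaus groups of odd degree are simple** -/
theorem simple_of_odd [Finite Ω]
    (hreg : ∀ N : Subgroup G, N.Normal → MulAction.IsPretransitive N Ω →
      ∃ a : Ω, MulAction.stabilizer N a ≠ ⊥)
    (hodd : Odd (Nat.card Ω)) : IsSimpleGroup G := by
  have := finite_group h
  have hnt : Nontrivial G := by
    obtain ⟨g0, hg0, -⟩ := h.hfix
    exact ⟨⟨g0, 1, hg0⟩⟩
  refine ⟨fun N hNn => ?_⟩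
  by_cases hN : N = ⊥
  · exact Or.inl hN
  right
  have hK := ker_le_of_normal h hreg N hN
  obtain ⟨g0, -, a, -, -, -, -⟩ := h.hfix
  have heven : 2 ∣ Nat.card (ker h a) := by
    have := card_ker h a
    rw [← this] at hodd
    rcases Nat.even_or_odd (Nat.card (ker h a)) with he | ho
    · exact he.two_dvd
    · exact absurd (ho.add_odd odd_one) (Nat.not_even_iff_odd.2 hodd)
  have : Fact (Nat.Prime 2) := ⟨Nat.prime_two⟩
  obtain ⟨τ', hτ'⟩ := exists_prime_orderOf_dvd_card' 2 heven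
  set τ : G := (τ' : G) with hτdef
  have hτK : τ ∈ ker h a := τ'.2
  have hτ2 : τ * τ = 1 := by
    have := pow_orderOf_eq_one τ'
    rw [hτ', pow_two] at this
    exact congrArg Subtype.val this
  have hτ1 : τ ≠ 1 := by
    intro h1
    have : τ' = 1 := Subtype.ext h1
    rw [this, orderOf_one] at hτ'
    omega
  have hτinv : τ⁻¹ = τ := inv_eq_of_mul_eq_one_left hτ2
  have hτfix : ∀ c : Ω, τ • c = c → c = a := by
    intro c hc
    by_contra hca
    exact hτ1 (ker_fix h hτK hca hc)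
  have hτa : τ • a = a := ((mem_ker h a τ).1 hτK).1
  obtain ⟨b, hb⟩ := exists_ne h a
  set b' : Ω := τ • b with hb'def
  have hb'b : b' ≠ b := fun h' => hb (hτfix b h')
  have hb'a : b' ≠ a := by
    intro h'
    rw [hb'def, ← hτa] at h'
    exact hb (MulAction.injective τ h')
  have hτb' : τ • b' = b := by rw [hb'def, ← mul_smul, hτ2, one_smul]
  let H' : Subgroup G := MulAction.stabilizer G b ⊓ MulAction.stabilizer G b'
  have hH'mem : ∀ x : G, x ∈ H' ↔ x • b = b ∧ x • b' = b' := fun x => by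
    rw [Subgroup.mem_inf, MulAction.mem_stabilizer_iff, MulAction.mem_stabilizer_iff]
  have hH'N : H' ≤ N := by
    let f : H' → H' := fun x => ⟨τ * (x : G) * τ⁻¹ * (x : G)⁻¹, by
      have hx := (hH'mem x).1 x.2
      have hxi : (x : G)⁻¹ • b = b := by rw [inv_smul_eq_iff, hx.1]
      have hxi' : (x : G)⁻¹ • b' = b' := by rw [inv_smul_eq_iff, hx.2]
      rw [hH'mem]
      constructor
      · rw [mul_smul, mul_smul, mul_smul, hxi, hτinv, ← hb'def, hx.2, hτb']
      · rw [mul_smul, mul_smul, mul_smul, hxi', hτinv, hτb', hx.1]⟩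
    have hinj : Function.Injective f := by
      intro x y hxy
      have h1 : τ * (x : G) * τ⁻¹ * (x : G)⁻¹ = τ * (y : G) * τ⁻¹ * (y : G)⁻¹ :=
        congrArg Subtype.val hxy
      set c : G := (y : G)⁻¹ * x with hc
      have hcomm : c * τ⁻¹ = τ⁻¹ * c := by
        have h2 : (x : G) * τ⁻¹ * (x : G)⁻¹ = (y : G) * τ⁻¹ * (y : G)⁻¹ := by
          have : τ * ((x : G) * τ⁻¹ * (x : G)⁻¹) = τ * ((y : G) * τ⁻¹ * (y : G)⁻¹) := by
            simpa only [mul_assoc] using h1
          exact mul_left_cancel this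
        calc c * τ⁻¹ = (y : G)⁻¹ * ((x : G) * τ⁻¹ * (x : G)⁻¹) * x := by rw [hc]; group
          _ = (y : G)⁻¹ * ((y : G) * τ⁻¹ * (y : G)⁻¹) * x := by rw [h2]
          _ = τ⁻¹ * c := by rw [hc]; group
      rw [hτinv] at hcomm
      have hx := (hH'mem x).1 x.2
      have hy := (hH'mem y).1 y.2
      have hcb : c • b = b := by rw [hc, mul_smul, hx.1, inv_smul_eq_iff, hy.1]
      have hcb' : c • b' = b' := by rw [hc, mul_smul, hx.2, inv_smul_eq_iff, hy.2]
      have hca : c • a = a := by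
        apply hτfix
        rw [← mul_smul, ← hcomm, mul_smul, hτa]
      have hc1 : c = 1 := h.h3 c a b b' hb.symm hb'b.symm hb'a.symm hca hcb hcb'
      apply Subtype.ext
      have : (x : G) = y * c := by rw [hc]; group
      rw [this, hc1, mul_one]
    have hsurj := Finite.surjective_of_injective hinj
    intro x hx
    obtain ⟨y, hy⟩ := hsurj ⟨x, hx⟩
    have : x = τ * (y : G) * τ⁻¹ * (y : G)⁻¹ := (congrArg Subtype.val hy).symm
    rw [this]
    have hτN : τ ∈ N := hK a hτK
    have e : τ * (y : G) * τ⁻¹ * (y : G)⁻¹ = τ * ((y : G) * τ⁻¹ * (y : G)⁻¹) := by group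
    rw [e]
    exact N.mul_mem hτN (Subgroup.Normal.conj_mem inferInstance _ (N.inv_mem hτN) _)
  rw [eq_top_iff]
  intro g _
  obtain ⟨n, hn, hnb⟩ := normal_trans h N hN b (g • b)
  set y : G := n⁻¹ * g with hy
  have hyb : y • b = b := by rw [hy, mul_smul, inv_smul_eq_iff, hnb]
  have hyb' : y • b' ≠ b := by
    intro h'
    rw [← hyb] at h'
    exact hb'b (MulAction.injective y h')
  obtain ⟨k, hk, hkb'⟩ := ker_trans h b b' (y • b') hb'b hyb'
  have hkb : k • b = b := ((mem_ker h b k).1 hk).1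
  have hmem : k⁻¹ * y ∈ H' := by
    rw [hH'mem]
    constructor
    · rw [mul_smul, hyb, inv_smul_eq_iff, hkb]
    · rw [mul_smul, inv_smul_eq_iff, hkb']
  have : g = n * (k * (k⁻¹ * y)) := by rw [hy]; group
  rw [this]
  exact N.mul_mem hn (N.mul_mem (hK b hk) (hH'N hmem))

end

end Cfsg.Agent.Lib.Helper5.Zass
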