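import Mathlib
import Cfsg.Agent.Lib.Helper4.ZJE
import Cfsg.Agent.Lib.Helper8.ThompsonMap

set_option autoImplicit false
set_option linter.unusedSectionVars false
set_option linter.style.haveILetI false
set_option linter.unusedVariables false

namespace Cfsg.Agent.Lib.Helper5.ExtPrimEndgame

variable {T : Type*} [Group T]

/-- centralizer of a single element -/
abbrev Cx (x : T) : Subgroup T := Subgroup.centralizer ({x} : Set T)

theorem mem_Cx {x y : T} : y ∈ Cx x ↔ x * y = y * x := by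
  unfold Cx
  rw [Subgroup.mem_centralizer_iff]
  constructor
  · intro h; exact h x rfl
  · intro h z hz
    rw [Set.mem_singleton_iff] at hz
    rw [hz]; exact h

theorem self_mem_Cx (x : T) : x ∈ Cx x := mem_Cx.mpr rfl

theorem Cx_inv (x : T) : Cx x⁻¹ = Cx x := by
  ext y
  rw [mem_Cx, mem_Cx]
  constructor
  · intro h
    have : y * x = x * y := by
      have h2 := congrArg (fun t => x * t * x) h
      simpa [mul_assoc] using h2
    exact this.symm
  · intro h
    have h2 := congrArg (fun t => x⁻¹ * t * x⁻¹) h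
    have : y * x⁻¹ = x⁻¹ * y := by simpa [mul_assoc] using h2
    exact this.symm

theorem Cx_le_pow (x : T) (j : ℕ) : Cx x ≤ Cx (x ^ j) := by
  intro y hy
  rw [mem_Cx] at hy ⊢
  exact ((Commute.pow_left (show Commute x y from hy) j)).eq

theorem map_Cx (σ : T ≃* T) (x : T) : (Cx x).map σ.toMonoidHom = Cx (σ x) := by
  ext y
  constructor
  · rintro ⟨z, hz, rfl⟩
    rw [SetLike.mem_coe, mem_Cx] at hz
    rw [mem_Cx]
    change σ x * σ z = σ z * σ x
    rw [← map_mul, ← map_mul, hz]
  · intro hy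
    rw [mem_Cx] at hy
    refine ⟨σ.symm y, ?_, ?_⟩
    · rw [SetLike.mem_coe, mem_Cx]
      apply σ.injective
      rw [map_mul, map_mul, MulEquiv.apply_symm_apply]
      exact hy
    · change σ (σ.symm y) = y
      exact MulEquiv.apply_symm_apply σ y

theorem map_Cx_of (σ : T ≃* T) (x : T) (h : σ x = x ∨ σ x = x⁻¹) :
    (Cx x).map σ.toMonoidHom = Cx x := by
  rw [map_Cx]
  rcases h with h | h
  · rw [h]
  · rw [h, Cx_inv]

theorem pow_of (σ : T ≃* T) (x : T) (j : ℕ) (h : σ x = x ∨ σ x = x⁻¹) :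
    σ (x ^ j) = x ^ j ∨ σ (x ^ j) = (x ^ j)⁻¹ := by
  rcases h with h | h
  · left; rw [map_pow, h]
  · right; rw [map_pow, h, inv_pow]

section main

variable [Finite T] [IsSimpleGroup T]

theorem center_eq_bot (hnc : ¬ IsMulCommutative T) : Subgroup.center T = ⊥ := by
  rcases (inferInstance : (Subgroup.center T).Normal).eq_bot_or_eq_top with h | h
  · exact h
  · exfalso
    apply hnc
    refine ⟨⟨fun a b => ?_⟩⟩
    have ha : a ∈ Subgroup.center T := by rw [h]; exact Subgroup.mem_top a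
    exact ((Subgroup.mem_center_iff.mp ha) b).symm

theorem Cx_ne_top (hnc : ¬ IsMulCommutative T) {x : T} (hx : x ≠ 1) : Cx x ≠ ⊤ := by
  intro h
  apply hx
  have hc : x ∈ Subgroup.center T := by
    rw [Subgroup.mem_center_iff]
    intro g
    have hg : g ∈ Cx x := by rw [h]; exact Subgroup.mem_top g
    exact (mem_Cx.mp hg).symm
  rw [center_eq_bot hnc, Subgroup.mem_bot] at hc
  exact hc

variable (hnc : ¬ IsMulCommutative T)
  (hstar : ∀ x : T, x ≠ 1 → ∀ L : Subgroup T, Subgroup.centralizer ({x} : Set T) ≤ L →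
      (∀ σ : T ≃* T, (σ x = x ∨ σ x = x⁻¹) → L.map σ.toMonoidHom = L) →
      L = Subgroup.centralizer ({x} : Set T) ∨ L = ⊤)

include hnc hstar

/-- step (1) -/
theorem Cx_pow {x : T} (hx : x ≠ 1) (j : ℕ) (hj : x ^ j ≠ 1) : Cx (x ^ j) = Cx x := by
  rcases hstar x hx (Cx (x ^ j)) (Cx_le_pow x j)
      (fun σ hσ => map_Cx_of σ (x ^ j) (pow_of σ x j hσ)) with h | h
  · exact h
  · exact absurd h (Cx_ne_top hnc hj)

/-- step (2) -/
theorem normalizer_Cx {x : T} (hx : x ≠ 1) :
    Subgroup.normalizer ((Cx x : Subgroup T) : Set T) = Cx x := by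
  rcases hstar x hx (Subgroup.normalizer ((Cx x : Subgroup T) : Set T)) Subgroup.le_normalizer
      (fun σ hσ => by
        rw [Subgroup.map_equiv_normalizer_eq, map_Cx_of σ x hσ]) with h | h
  · exact h
  · exfalso
    have hn : (Cx x).Normal := Subgroup.normalizer_eq_top_iff.mp h
    rcases hn.eq_bot_or_eq_top with h1 | h1
    · have := self_mem_Cx x
      rw [h1, Subgroup.mem_bot] at this
      exact hx this
    · exact Cx_ne_top hnc hx h1

/-- step (3), one half -/
theorem Cx_mul_left {x c : T} (hx : x ≠ 1) (hcomm : x * c = c * x)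
    (hcop : (orderOf x).Coprime (orderOf c)) : Cx (x * c) = Cx x := by
  have hpow : (x * c) ^ orderOf c = x ^ orderOf c := by
    rw [(show Commute x c from hcomm).mul_pow, pow_orderOf_eq_one, mul_one]
  have hne : x ^ orderOf c ≠ 1 := by
    intro h
    have hd : orderOf x ∣ orderOf c := orderOf_dvd_of_pow_eq_one h
    have h1 : orderOf x = 1 := Nat.Coprime.eq_one_of_dvd hcop hd
    exact hx (orderOf_eq_one_iff.mp h1)
  have hxc : x * c ≠ 1 := by
    intro h
    rw [h, one_pow] at hpow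
    exact hne hpow.symm
  rw [← Cx_pow hnc hstar hxc (orderOf c) (by rw [hpow]; exact hne), hpow,
    Cx_pow hnc hstar hx (orderOf c) hne]


theorem Cx_eq_of_comm_coprime {a b : T} (ha : a ≠ 1) (hb : b ≠ 1) (hcomm : a * b = b * a)
    (hcop : (orderOf a).Coprime (orderOf b)) : Cx a = Cx b := by
  rw [← Cx_mul_left hnc hstar ha hcomm hcop, hcomm,
    Cx_mul_left hnc hstar hb hcomm.symm hcop.symm]

omit hnc hstar in
theorem conj_mem_Cx (g x y : T) : g * y * g⁻¹ ∈ Cx (g * x * g⁻¹) ↔ y ∈ Cx x := by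
  rw [mem_Cx, mem_Cx]
  constructor
  · intro h
    have h2 := congrArg (fun t => g⁻¹ * t * g) h
    simpa [mul_assoc] using h2
  · intro h
    have : g * x * g⁻¹ * (g * y * g⁻¹) = g * (x * y) * g⁻¹ := by group
    rw [this, h]; group

/-- step (4) -/
theorem Cx_isPGroup {x : T} {p : ℕ} [hp : Fact p.Prime] (hxp : orderOf x = p) :
    IsPGroup p (Cx x) := by
  have hx : x ≠ 1 := by
    intro h
    rw [h, orderOf_one] at hxp
    exact hp.out.ne_one hxp.symm
  by_contra hnot
  -- a prime q ≠ p dividing |C|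
  have hq : ∃ q : ℕ, q.Prime ∧ q ∣ Nat.card (Cx x) ∧ q ≠ p := by
    by_contra hno
    apply hnot
    have hpos : Nat.card (Cx x) ≠ 0 := Nat.card_pos.ne'
    exact IsPGroup.of_card (Nat.eq_prime_pow_of_unique_prime_dvd hpos
      (fun {d} hd hdv => by
        by_contra hne
        exact hno ⟨d, hd, hdv, hne⟩))
  obtain ⟨q, hqp, hqd, hqne⟩ := hq
  haveI : Fact q.Prime := ⟨hqp⟩
  obtain ⟨c', hc'⟩ := exists_prime_orderOf_dvd_card' (G := ↥(Cx x)) q hqd
  have hcq : orderOf (c' : T) = q := by rw [Subgroup.orderOf_coe]; exact hc'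
  have hc1 : (c' : T) ≠ 1 := by
    intro h
    rw [h, orderOf_one] at hcq
    exact hqp.ne_one hcq.symm
  have hcomm : x * (c' : T) = (c' : T) * x := mem_Cx.mp c'.2
  have hpq : Nat.Coprime p q := (Nat.coprime_primes hp.out hqp).mpr (Ne.symm hqne)
  have hCc : Cx (c' : T) = Cx x :=
    (Cx_eq_of_comm_coprime hnc hstar hx hc1 hcomm (by rw [hxp, hcq]; exact hpq)).symm
  -- Claim A'
  have hA : ∀ y : T, y ∈ Cx x → ∀ r : ℕ, r.Prime → orderOf y = r → Cx y = Cx x := by
    intro y hy r hr hyr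
    have hy1 : y ≠ 1 := by
      intro h
      rw [h, orderOf_one] at hyr
      exact hr.ne_one hyr.symm
    by_cases hrp : r = p
    · -- use c
      have hyc : (c' : T) * y = y * (c' : T) := by
        have : y ∈ Cx (c' : T) := by rw [hCc]; exact hy
        exact mem_Cx.mp this
      have := Cx_eq_of_comm_coprime hnc hstar hc1 hy1 hyc
        (by rw [hcq, hyr, hrp]; exact hpq.symm)
      rw [← this, hCc]
    · have hyx : x * y = y * x := mem_Cx.mp hy
      have := Cx_eq_of_comm_coprime hnc hstar hx hy1 hyx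
        (by rw [hxp, hyr]; exact (Nat.coprime_primes hp.out hr).mpr (Ne.symm hrp))
      exact this.symm
  -- Claim B
  have hB : ∀ w : T, w ∈ Cx x → w ≠ 1 → Cx w = Cx x := by
    intro w hw hw1
    have hn1 : orderOf w ≠ 1 := fun h => hw1 (orderOf_eq_one_iff.mp h)
    have hn0 : orderOf w ≠ 0 := (orderOf_pos w).ne'
    have hr : (orderOf w).minFac.Prime := Nat.minFac_prime hn1
    have hrd : (orderOf w).minFac ∣ orderOf w := Nat.minFac_dvd _
    have ho : orderOf (w ^ (orderOf w / (orderOf w).minFac)) = (orderOf w).minFac :=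
      orderOf_pow_orderOf_div hn0 hrd
    have hw'1 : w ^ (orderOf w / (orderOf w).minFac) ≠ 1 := by
      intro h
      rw [h, orderOf_one] at ho
      exact hr.ne_one ho.symm
    have h1 := Cx_pow hnc hstar hw1 _ hw'1
    have h2 := hA _ (Subgroup.pow_mem _ hw _) _ hr ho
    rw [← h1, h2]
  -- a Sylow p-subgroup containing x
  have hzp : IsPGroup p (Subgroup.zpowers x) := by
    apply IsPGroup.of_card (n := 1)
    rw [Nat.card_zpowers, hxp, pow_one]
  obtain ⟨R, hR⟩ := hzp.exists_le_sylow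
  have hxR : x ∈ (R : Subgroup T) := hR (Subgroup.mem_zpowers x)
  haveI : Nontrivial ↥(R : Subgroup T) := ⟨⟨⟨x, hxR⟩, 1, fun h => hx (congrArg Subtype.val h)⟩⟩
  haveI : Nontrivial (Subgroup.center ↥(R : Subgroup T)) := R.isPGroup'.center_nontrivial
  obtain ⟨z', hz'⟩ := exists_ne (1 : Subgroup.center ↥(R : Subgroup T))
  have hz1 : ((z' : ↥(R : Subgroup T)) : T) ≠ 1 := by
    intro h
    apply hz'
    apply Subtype.ext
    apply Subtype.ext
    exact h
  have hzc : ∀ g : T, g ∈ (R : Subgroup T) →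
      g * ((z' : ↥(R : Subgroup T)) : T) = ((z' : ↥(R : Subgroup T)) : T) * g := by
    intro g hg
    have := Subgroup.mem_center_iff.mp z'.2 ⟨g, hg⟩
    exact congrArg Subtype.val this
  have hzC : ((z' : ↥(R : Subgroup T)) : T) ∈ Cx x := mem_Cx.mpr (hzc x hxR)
  have hCz := hB _ hzC hz1
  have hRC : (R : Subgroup T) ≤ Cx x := by
    intro g hg
    rw [← hCz, mem_Cx]
    exact (hzc g hg).symm
  -- N(R) ≤ C
  have hNC : Subgroup.normalizer ((R : Subgroup T) : Set T) ≤ Cx x := by
    intro g hg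
    have h1 : g * x * g⁻¹ ∈ (R : Subgroup T) := (Subgroup.mem_normalizer_iff.mp hg x).mp hxR
    have h2 : g * x * g⁻¹ ≠ 1 := by
      intro h
      apply hx
      have := congrArg (fun t => g⁻¹ * t * g) h
      simpa [mul_assoc] using this
    have h3 : Cx (g * x * g⁻¹) = Cx x := hB _ (hRC h1) h2
    rw [← normalizer_Cx hnc hstar hx, Subgroup.mem_normalizer_iff]
    intro h
    rw [← conj_mem_Cx g x h, h3]
  -- C ≤ C(R)
  have hCR : Cx x ≤ Subgroup.centralizer ((R : Subgroup T) : Set T) := by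
    intro u hu
    rw [Subgroup.mem_centralizer_iff]
    intro w hw
    by_cases hw1 : w = 1
    · rw [hw1, one_mul, mul_one]
    · have : u ∈ Cx w := by rw [hB w (hRC hw) hw1]; exact hu
      exact mem_Cx.mp this
  have hNR : Subgroup.normalizer ((R : Subgroup T) : Set T) ≤
      Subgroup.centralizer ((R : Subgroup T) : Set T) := hNC.trans hCR
  have hcompl := MonoidHom.ker_transferSylow_isComplement' R hNR
  rcases (MonoidHom.normal_ker (MonoidHom.transferSylow R hNR)).eq_bot_or_eq_top with h | h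
  · rw [h, Subgroup.isComplement'_bot_left] at hcompl
    apply Cx_ne_top hnc hx
    rw [eq_top_iff, ← hcompl]
    exact hRC
  · rw [h, Subgroup.isComplement'_top_left] at hcompl
    rw [hcompl, Subgroup.mem_bot] at hxR
    exact hx hxR


omit hnc hstar in
theorem mem_normalizer_of_map_conj (g : T) (H : Subgroup T)
    (h : H.map (MulAut.conj g).toMonoidHom = H) : g ∈ Subgroup.normalizer (H : Set T) := by
  rw [Subgroup.mem_normalizer_iff]
  intro y
  constructor
  · intro hy
    rw [← h]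
    exact ⟨y, hy, rfl⟩
  · intro hy
    rw [← h] at hy
    obtain ⟨y', hy', he⟩ := hy
    have he' : g * y' * g⁻¹ = g * y * g⁻¹ := he
    have : y' = y := by
      have := congrArg (fun t => g⁻¹ * t * g) he'
      simpa [mul_assoc] using this
    rw [← this]; exact hy'

omit hnc hstar in
theorem exists_isMaxEA (p : ℕ) (P : Subgroup T) :
    ∃ A, Cfsg.Agent.Lib.Helper7.IsMaxEA p P A := by
  haveI : Nonempty {B : Subgroup T // B ≤ P ∧ Cfsg.IsElementaryAbelian p B} :=
    ⟨⟨⊥, bot_le, ⟨⟨⟨fun a b => Subtype.ext (by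
        have ha := Subgroup.mem_bot.mp a.2
        have hb := Subgroup.mem_bot.mp b.2
        change (a : T) * (b : T) = (b : T) * (a : T)
        rw [ha, hb])⟩⟩, fun a ha => by rw [Subgroup.mem_bot.mp ha, one_pow]⟩⟩⟩
  obtain ⟨⟨A, hAP, hAg⟩, hmax⟩ :=
    Finite.exists_max
      (fun B : {B : Subgroup T // B ≤ P ∧ Cfsg.IsElementaryAbelian p B} => Nat.card B.1)
  exact ⟨A, hAP, hAg, fun B hB hBg => hmax ⟨B, hB, hBg⟩⟩

omit hnc hstar in
theorem ZJ_ne_bot {p : ℕ} [hp : Fact p.Prime] (P : Subgroup T) (hP : IsPGroup p P) {x : T}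
    (hxP : x ∈ P) (hxp : orderOf x = p) : Cfsg.centerThompsonOf p P ≠ ⊥ := by
  obtain ⟨A, hA⟩ := exists_isMaxEA p P
  have hzE : Cfsg.IsElementaryAbelian p (Subgroup.zpowers x) := by
    refine ⟨inferInstance, ?_⟩
    intro a ha
    obtain ⟨k, rfl⟩ := Subgroup.mem_zpowers_iff.mp ha
    rw [← zpow_natCast, ← zpow_mul, mul_comm, zpow_mul, zpow_natCast, ← hxp, pow_orderOf_eq_one,
      one_zpow]
  have hzP : Subgroup.zpowers x ≤ P := by
    rw [Subgroup.zpowers_le]; exact hxP
  have hcard : p ≤ Nat.card A := by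
    have := hA.2.2 _ hzP hzE
    rw [Nat.card_zpowers, hxp] at this
    exact this
  have hJ : Cfsg.thompsonSubgroupOf p P ≠ ⊥ := by
    intro h
    have hAle := hA.le_thompsonSubgroupOf
    rw [h, le_bot_iff] at hAle
    rw [hAle, Subgroup.card_bot] at hcard
    exact absurd hcard (not_le.mpr hp.out.one_lt)
  have hJP : IsPGroup p (Cfsg.thompsonSubgroupOf p P) :=
    hP.to_le (Cfsg.Agent.Lib.Helper7.thompsonSubgroupOf_le P)
  obtain ⟨y, hyJ, hyC, -, hy1⟩ :=
    Cfsg.Agent.H1.exists_central_order_p hJP le_rfl Subgroup.le_normalizer hJ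
  intro h
  have : y ∈ Cfsg.centerThompsonOf p P := by
    unfold Cfsg.centerThompsonOf
    exact Subgroup.mem_inf.mpr ⟨hyJ, hyC⟩
  rw [h, Subgroup.mem_bot] at this
  exact hy1 this

omit hnc hstar in
theorem hasNPC_of_isPGroup {H : Type*} [Group H] {p : ℕ} [Fact p.Prime] (h : IsPGroup p H) :
    Cfsg.HasNormalPComplement p H := by
  have htop : IsPGroup p (⊤ : Subgroup H) := by
    intro g
    obtain ⟨k, hk⟩ := h (g : H)
    exact ⟨k, Subtype.ext hk⟩
  obtain ⟨Q, hQ⟩ := htop.exists_le_sylow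
  refine ⟨Q, ⊥, inferInstance, ?_⟩
  rw [Subgroup.isComplement'_bot_left]
  exact top_le_iff.mp hQ

theorem endgame_aux : False := by
  -- T is not a 2-group: an odd prime divides |T|
  haveI : Nontrivial T := by
    by_contra hnt
    rw [not_nontrivial_iff_subsingleton] at hnt
    exact hnc ⟨⟨fun a b => Subsingleton.elim _ _⟩⟩
  have hp : ∃ p : ℕ, p.Prime ∧ p ∣ Nat.card T ∧ p ≠ 2 := by
    by_contra hno
    have hpos : Nat.card T ≠ 0 := Nat.card_pos.ne'
    haveI : Fact (2 : ℕ).Prime := ⟨Nat.prime_two⟩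
    have h2 : IsPGroup 2 T := IsPGroup.of_card (Nat.eq_prime_pow_of_unique_prime_dvd hpos
      (fun {d} hd hdv => by
        by_contra hne
        exact hno ⟨d, hd, hdv, hne⟩))
    haveI := h2.center_nontrivial
    obtain ⟨z, hz⟩ := exists_ne (1 : Subgroup.center T)
    have hz2 : (z : T) ∈ (⊥ : Subgroup T) := by
      rw [← center_eq_bot hnc]; exact z.2
    rw [Subgroup.mem_bot] at hz2
    exact hz (Subtype.ext hz2)
  obtain ⟨p, hpp, hpd, hp2⟩ := hp
  haveI : Fact p.Prime := ⟨hpp⟩
  obtain ⟨x₀, hx₀⟩ := exists_prime_orderOf_dvd_card' (G := T) p hpd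
  have hzp : IsPGroup p (Subgroup.zpowers x₀) := by
    apply IsPGroup.of_card (n := 1)
    rw [Nat.card_zpowers, hx₀, pow_one]
  obtain ⟨P, hP⟩ := hzp.exists_le_sylow
  have hPne : (P : Subgroup T) ≠ ⊥ := by
    intro h
    have h1 : x₀ ∈ (P : Subgroup T) := hP (Subgroup.mem_zpowers x₀)
    rw [h, Subgroup.mem_bot] at h1
    rw [h1, orderOf_one] at hx₀
    exact hpp.ne_one hx₀.symm
  obtain ⟨x, hxP, hxC, hxpow, hx1⟩ :=
    Cfsg.Agent.H1.exists_central_order_p P.isPGroup' le_rfl Subgroup.le_normalizer hPne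
  have hxp : orderOf x = p := orderOf_eq_prime hxpow hx1
  -- C(x) = P
  have hPle : (P : Subgroup T) ≤ Cx x := by
    intro g hg
    rw [mem_Cx]
    exact ((Subgroup.mem_centralizer_iff.mp hxC) g hg).symm
  have hCP : Cx x = (P : Subgroup T) :=
    P.is_maximal' (Cx_isPGroup hnc hstar hxp) hPle
  -- L = N(ZJ(P))
  have hZmap : ∀ σ : T ≃* T, (Cx x).map σ.toMonoidHom = Cx x →
      (Cfsg.centerThompsonOf p (P : Subgroup T)).map σ.toMonoidHom =
        Cfsg.centerThompsonOf p (P : Subgroup T) := by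
    intro σ hσ
    rw [Cfsg.Agent.Lib.Helper8.ThompsonMap.centerThompsonOf_map, ← hCP, hσ]
  have hle : Cx x ≤ Subgroup.normalizer
      ((Cfsg.centerThompsonOf p (P : Subgroup T) : Subgroup T) : Set T) := by
    intro g hg
    apply mem_normalizer_of_map_conj
    apply hZmap
    apply map_Cx_of
    left
    change g * x * g⁻¹ = x
    rw [← mem_Cx.mp hg, mul_inv_cancel_right]
  rcases hstar x hx1 _ hle (fun σ hσ => by
      rw [Subgroup.map_equiv_normalizer_eq, hZmap σ (map_Cx_of σ x hσ)]) with h | h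
  · -- L = P : Glauberman–Thompson
    have hLp : IsPGroup p ↥(Subgroup.normalizer
        ((Cfsg.centerThompsonOf p (P : Subgroup T) : Subgroup T) : Set T)) := by
      rw [h]
      exact Cx_isPGroup hnc hstar hxp
    have hN := hasNPC_of_isPGroup hLp
    obtain ⟨P', N, hNn, hc⟩ := Cfsg.Agent.Lib.Helper4.ZJE.glauberman_thompson_ZJe hp2 P hN
    rcases hNn.eq_bot_or_eq_top with hN1 | hN1
    · rw [hN1, Subgroup.isComplement'_bot_left] at hc
      have h1 : (⊤ : Subgroup T) = (P : Subgroup T) :=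
        P.is_maximal' (by rw [← hc]; exact P'.isPGroup') le_top
      apply Cx_ne_top hnc hx1
      rw [hCP, ← h1]
    · rw [hN1, Subgroup.isComplement'_top_left] at hc
      have h1 := P'.not_dvd_index
      rw [hc, Subgroup.index_bot] at h1
      exact h1 hpd
  · -- ZJ(P) normal in T
    have hn : (Cfsg.centerThompsonOf p (P : Subgroup T)).Normal :=
      Subgroup.normalizer_eq_top_iff.mp h
    rcases hn.eq_bot_or_eq_top with h1 | h1
    · exact ZJ_ne_bot (P : Subgroup T) P.isPGroup' hxP hxp h1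
    · apply Cx_ne_top hnc hx1
      rw [hCP, eq_top_iff, ← h1]
      exact Cfsg.Agent.Lib.Helper4.ZJE.Z_le (P : Subgroup T)

end main

/-- **Endgame for S3493**: a nonabelian finite simple group cannot satisfy `hstar`. -/
theorem endgame {T : Type*} [Group T] [Finite T] [IsSimpleGroup T] (hnc : ¬ IsMulCommutative T)
    (hstar : ∀ x : T, x ≠ 1 → ∀ L : Subgroup T, Subgroup.centralizer ({x} : Set T) ≤ L →
      (∀ σ : T ≃* T, (σ x = x ∨ σ x = x⁻¹) → L.map σ.toMonoidHom = L) →
      L = Subgroup.centralizer ({x} : Set T) ∨ L = ⊤) : False :=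
  endgame_aux hnc hstar

end Cfsg.Agent.Lib.Helper5.ExtPrimEndgame
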