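import Mathlib

/-!
# A vanishing sum of products of two matrix representations (helper5)

If `B`, `C` are multiplicative maps from a finite group to complex matrices with
`∑ n, tr (B n) * tr (C n) = 0`, then `∑ n, B n * C n = 0`: the average of `B n ⊗ C n` is an
idempotent of trace zero.
-/

set_option autoImplicit false

namespace Cfsg.Agent.Lib.Helper5.FSInd

open scoped Kronecker

theorem sum_mul_eq_zero {N : Type*} [Group N] [Fintype N] {d : ℕ}
    (B C : N → Matrix (Fin d) (Fin d) ℂ)
    (hB : ∀ n m, B (n * m) = B n * B m) (hC : ∀ n m, C (n * m) = C n * C m)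
    (htr : ∑ n, (B n).trace * (C n).trace = 0) : ∑ n, B n * C n = 0 := by
  classical
  set K : N → Matrix (Fin d × Fin d) (Fin d × Fin d) ℂ := fun n => B n ⊗ₖ C n with hK
  have hKmul : ∀ g h : N, K (g * h) = K g * K h := by
    intro g h
    simp only [hK]
    rw [hB, hC, Matrix.mul_kronecker_mul]
  have hN0 : (Nat.card N : ℂ) ≠ 0 := by exact_mod_cast Nat.card_pos.ne'
  set P : Matrix (Fin d × Fin d) (Fin d × Fin d) ℂ := (Nat.card N : ℂ)⁻¹ • ∑ g : N, K g with hP
  have hKP : ∀ h : N, K h * P = P := by
    intro h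
    rw [hP, Matrix.mul_smul, Finset.mul_sum]
    congr 1
    simp only [← hKmul]
    exact Fintype.sum_equiv (Equiv.mulLeft h) _ _ (fun g => rfl)
  have hPP : P * P = P := by
    have h1 : P * P = (Nat.card N : ℂ)⁻¹ • ∑ g : N, K g * P := by
      conv_lhs => rw [hP]
      rw [Matrix.smul_mul, Finset.sum_mul]
    rw [h1]
    simp only [hKP]
    rw [Finset.sum_const, Finset.card_univ, ← Nat.card_eq_fintype_card,
      ← Nat.cast_smul_eq_nsmul ℂ, smul_smul, inv_mul_cancel₀ hN0, one_smul]
  have htrP : Matrix.trace P = 0 := by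
    rw [hP, Matrix.trace_smul, Matrix.trace_sum, smul_eq_mul]
    have : ∑ g : N, Matrix.trace (K g) = 0 := by
      rw [← htr]
      apply Finset.sum_congr rfl
      intro g _
      simp only [hK]
      rw [Matrix.trace_kronecker]
    rw [this, mul_zero]
  have hP0 : P = 0 := by
    set p : (Fin d × Fin d → ℂ) →ₗ[ℂ] (Fin d × Fin d → ℂ) := Matrix.toLin' P with hp
    have hpid : IsIdempotentElem p := by
      unfold IsIdempotentElem
      rw [hp, Module.End.mul_eq_comp, ← Matrix.toLin'_mul, hPP]
    have htr' : LinearMap.trace ℂ _ p = Matrix.trace P := Matrix.trace_toLin'_eq P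
    have hp0 : p = 0 := (LinearMap.IsIdempotentElem.trace_eq_zero_iff hpid).mp (htr'.trans htrP)
    have : Matrix.toLin' P = Matrix.toLin' 0 := by rw [← hp, hp0, map_zero]
    exact Matrix.toLin'.injective this
  have hsumK : ∑ g : N, K g = 0 := by
    have h1 : (Nat.card N : ℂ) • P = ∑ g : N, K g := by
      rw [hP, smul_smul, mul_inv_cancel₀ hN0, one_smul]
    rw [← h1, hP0, smul_zero]
  ext a c
  rw [Matrix.sum_apply, Matrix.zero_apply]
  have h2 : ∀ n : N, (B n * C n) a c = ∑ b, K n (a, b) (b, c) := by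
    intro n
    rw [Matrix.mul_apply]
    apply Finset.sum_congr rfl
    intro b _
    simp only [hK, Matrix.kronecker_apply]
  rw [Finset.sum_congr rfl (fun n _ => h2 n), Finset.sum_comm]
  apply Finset.sum_eq_zero
  intro b _
  have := congrFun (congrFun hsumK (a, b)) (b, c)
  rw [Matrix.sum_apply, Matrix.zero_apply] at this
  exact this

end Cfsg.Agent.Lib.Helper5.FSInd
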