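import Mathlib
import Cfsg.Prelude.Def_Characters
import Cfsg.Agent.Lib.Helper5.FSInd1
import Cfsg.Agent.Lib.helper3.IndFun
import Cfsg.Agent.Lib.helper3.Irr13

/-!
# The Frobenius--Schur indicator of an induced character (helper5)

`fsInd (indFun I ψ) = fsInd ψ` when `N ≤ I`, `N` normal in `G`, and for every `g ∉ I` the
restriction of `ψ` to `N` is orthogonal to the complex conjugate of its `g`-conjugate (in the
bilinear form `∑ n, ψ (g⁻¹ n g) ψ n = 0`).
-/

set_option autoImplicit false

namespace Cfsg.Agent.Lib.Helper5.FSInd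

open Cfsg Cfsg.Agent.Lib.helper3.IndFun Cfsg.Agent.Lib.helper3.Irr

variable {G : Type*} [Group G]

theorem conj_inv_mem (N : Subgroup G) [hN : N.Normal] (g : G) {n : G} (hn : n ∈ N) :
    g⁻¹ * n * g ∈ N := by
  have := hN.conj_mem n hn g⁻¹
  rwa [inv_inv] at this

theorem sq_mul_eq (g n : G) : (g * n) * (g * n) = (g * g) * (g⁻¹ * n * g) * n := by group

/-- The sum of `ψ ((g n)²)` over a coset `g N` vanishes. -/
theorem sum_coset_sq_eq_zero (N I : Subgroup G) [hN : N.Normal] (hNI : N ≤ I) [Fintype N]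
    {d : ℕ} (ρ : Representation ℂ I (Fin d → ℂ)) (g : G) (hg2 : g * g ∈ I)
    (hsum : ∑ n : N, ρ.character ⟨g⁻¹ * n * g, hNI (conj_inv_mem N g n.2)⟩
      * ρ.character ⟨n, hNI n.2⟩ = 0) :
    ∑ n : N, extendByZero I ρ.character ((g * n) * (g * n)) = 0 := by
  classical
  set A : I → Matrix (Fin d) (Fin d) ℂ := fun i => LinearMap.toMatrix' (ρ i) with hA
  have hAmul : ∀ i j : I, A (i * j) = A i * A j := by
    intro i j
    simp only [hA]
    rw [map_mul, ← LinearMap.toMatrix'_mul]
  have hAtr : ∀ i : I, Matrix.trace (A i) = ρ.character i := by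
    intro i
    simp only [hA]
    unfold Representation.character
    rw [← Matrix.trace_toLin'_eq, Matrix.toLin'_toMatrix']
  set B : N → Matrix (Fin d) (Fin d) ℂ :=
    fun n => A ⟨g⁻¹ * n * g, hNI (conj_inv_mem N g n.2)⟩ with hB
  set C : N → Matrix (Fin d) (Fin d) ℂ := fun n => A ⟨n, hNI n.2⟩ with hC
  have hBmul : ∀ n m : N, B (n * m) = B n * B m := by
    intro n m
    simp only [hB]
    rw [← hAmul]
    congr 1
    apply Subtype.ext
    simp only [Subgroup.coe_mul]
    group
  have hCmul : ∀ n m : N, C (n * m) = C n * C m := by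
    intro n m
    simp only [hC]
    rw [← hAmul]
    congr 1
  have htr : ∑ n : N, (B n).trace * (C n).trace = 0 := by
    rw [← hsum]
    apply Finset.sum_congr rfl
    intro n _
    simp only [hB, hC]
    rw [hAtr, hAtr]
  have key := sum_mul_eq_zero B C hBmul hCmul htr
  have hterm : ∀ n : N, extendByZero I ρ.character ((g * n) * (g * n))
      = Matrix.trace (A ⟨g * g, hg2⟩ * (B n * C n)) := by
    intro n
    have hmem : (g * n) * (g * n) ∈ I := by
      rw [sq_mul_eq]
      exact I.mul_mem (I.mul_mem hg2 (hNI (conj_inv_mem N g n.2))) (hNI n.2)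
    rw [extendByZero_mem I _ hmem, ← hAtr]
    congr 1
    simp only [hB, hC]
    rw [← hAmul, ← hAmul]
    congr 1
    apply Subtype.ext
    simp only [Subgroup.coe_mul]
    rw [sq_mul_eq]
    group
  rw [Finset.sum_congr rfl (fun n _ => hterm n), ← Matrix.trace_sum, ← Finset.mul_sum, key,
    mul_zero, Matrix.trace_zero]

/-- The indicator of an induced function as a sum over the big group. -/
theorem fsInd_indFun_eq [Fintype G] (I : Subgroup G) (ψ : I → ℂ) :
    fsInd (indFun I ψ) = (Nat.card I : ℂ)⁻¹ * ∑ s : G, extendByZero I ψ (s * s) := by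
  classical
  unfold fsInd
  have hG0 : (Nat.card G : ℂ) ≠ 0 := by exact_mod_cast Nat.card_pos.ne'
  have h1 : ∑ s : G, indFun I ψ (s * s)
      = (Nat.card I : ℂ)⁻¹ * ∑ x : G, ∑ s : G, extendByZero I ψ (x⁻¹ * (s * s) * x) := by
    simp_rw [indFun_apply, ← Finset.mul_sum]
    rw [Finset.sum_comm]
  have h2 : ∀ x : G, ∑ s : G, extendByZero I ψ (x⁻¹ * (s * s) * x)
      = ∑ s : G, extendByZero I ψ (s * s) := by
    intro x
    apply Fintype.sum_equiv (MulAut.conj x⁻¹).toEquiv
    intro s
    simp only [MulEquiv.toEquiv_eq_coe, EquivLike.coe_coe, MulAut.conj_apply, inv_inv]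
    congr 1
    group
  rw [h1]
  simp_rw [h2]
  rw [Finset.sum_const, Finset.card_univ, nsmul_eq_mul, ← Nat.card_eq_fintype_card]
  field_simp

theorem fsInd_indFun [Fintype G] (N I : Subgroup G) [hN : N.Normal] (hNI : N ≤ I)
    [Fintype I] [Fintype N] (ψ : I → ℂ) (hψ : IsCharacter I ψ)
    (horth : ∀ g : G, g ∉ I → g * g ∈ I →
      ∑ n : N, ψ ⟨g⁻¹ * n * g, hNI (conj_inv_mem N g n.2)⟩ * ψ ⟨n, hNI n.2⟩ = 0) :
    fsInd (indFun I ψ) = fsInd ψ := by
  classical
  obtain ⟨d, ρ, rfl⟩ := hψ
  rw [fsInd_indFun_eq]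
  unfold fsInd
  congr 1
  set ψ0 : G → ℂ := extendByZero I ρ.character with hψ0
  set F : G → ℂ := fun s => if s ∈ I then 0 else ψ0 (s * s) with hF
  have hsplit : ∀ s : G, ψ0 (s * s)
      = extendByZero I (fun _ => (1 : ℂ)) s * ψ0 (s * s) + F s := by
    intro s
    by_cases hs : s ∈ I
    · rw [extendByZero_mem I _ hs]
      simp only [hF, hs, if_true, one_mul, add_zero]
    · rw [extendByZero_not_mem I _ hs]
      simp only [hF, hs, if_false, zero_mul, zero_add]
  rw [Finset.sum_congr rfl (fun s _ => hsplit s), Finset.sum_add_distrib,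
    sum_extendByZero_mul I (fun _ => (1 : ℂ)) (fun s => ψ0 (s * s))]
  have hfirst : ∑ h : I, (fun _ : I => (1 : ℂ)) h * (fun s : G => ψ0 (s * s)) (h : G)
      = ∑ s : I, ρ.character (s * s) := by
    apply Finset.sum_congr rfl
    intro h _
    simp only [one_mul]
    rw [hψ0]
    have : ((h : G) * (h : G)) = ((h * h : I) : G) := rfl
    rw [this, extendByZero_coe]
  rw [hfirst]
  have hFzero : ∑ s : G, F s = 0 := by
    have hN0 : (Nat.card N : ℂ) ≠ 0 := by exact_mod_cast Nat.card_pos.ne'
    have h1 : (Nat.card N : ℂ) * ∑ s : G, F s = ∑ s : G, ∑ n : N, F (s * n) := by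
      rw [Finset.sum_comm]
      have : ∀ n : N, ∑ s : G, F (s * n) = ∑ s : G, F s := by
        intro n
        exact Fintype.sum_equiv (Equiv.mulRight (n : G)) _ _ (fun s => rfl)
      simp_rw [this]
      rw [Finset.sum_const, Finset.card_univ, nsmul_eq_mul, ← Nat.card_eq_fintype_card]
    have h2 : ∀ s : G, ∑ n : N, F (s * n) = 0 := by
      intro s
      by_cases hs : s ∈ I
      · apply Finset.sum_eq_zero
        intro n _
        have : s * n ∈ I := I.mul_mem hs (hNI n.2)
        simp only [hF, this, if_true]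
      · have hsn : ∀ n : N, s * (n : G) ∉ I := by
          intro n hmem
          apply hs
          have := I.mul_mem hmem (I.inv_mem (hNI n.2))
          simpa using this
        have hFsn : ∀ n : N, F (s * n) = ψ0 ((s * n) * (s * n)) := by
          intro n
          simp only [hF, hsn n, if_false]
        rw [Finset.sum_congr rfl (fun n _ => hFsn n)]
        by_cases hs2 : s * s ∈ I
        · rw [hψ0]
          exact sum_coset_sq_eq_zero N I hNI ρ s hs2 (horth s hs hs2)
        · apply Finset.sum_eq_zero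
          intro n _
          rw [hψ0]
          apply extendByZero_not_mem
          intro hmem
          apply hs2
          rw [sq_mul_eq] at hmem
          have h3 : s * s * (s⁻¹ * n * s) ∈ I := by
            have := I.mul_mem hmem (I.inv_mem (hNI n.2))
            simpa using this
          have h4 := I.mul_mem h3 (I.inv_mem (hNI (conj_inv_mem N s n.2)))
          have h5 : s * s * (s⁻¹ * ↑n * s) * (s⁻¹ * ↑n * s)⁻¹ = s * s := by group
          rwa [h5] at h4
    simp_rw [h2] at h1
    rw [Finset.sum_const_zero] at h1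
    rcases mul_eq_zero.mp h1 with h | h
    · exact absurd h hN0
    · exact h
  rw [hFzero, add_zero]

end Cfsg.Agent.Lib.Helper5.FSInd
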