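import Mathlib
import Cfsg.Prelude.Def_Characters
import Cfsg.Agent.Lib.Helper5.FSInd2
import Cfsg.Agent.Lib.Helper4.FS
import Cfsg.Agent.Lib.helper3.CliffCorr
import Cfsg.Agent.Lib.helper3.Gallagher2
import Cfsg.Agent.Lib.helper3.Gallagher3
import Cfsg.Agent.Lib.helper3.Inflate2
import Cfsg.Agent.Lib.helper3.AbelianInertia

/-!
# Strongly real characters induced from the inertia group (helper5)
-/

set_option autoImplicit false
set_option linter.style.haveILetI false
set_option linter.unusedSectionVars false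

namespace Cfsg.Agent.Lib.Helper5.FSInd

open Cfsg Cfsg.Agent.Lib.helper3.IndFun Cfsg.Agent.Lib.helper3.Irr
open Cfsg.Agent.Lib.helper3.IndFunTrans Cfsg.Agent.Lib.Helper4.FS
open scoped ComplexConjugate

variable {G : Type*} [Group G]

/-- An irreducible character of the inertia group extending `φ` lies over `φ`. -/
theorem classInner_ind_sub_ne_zero [Fintype G] (N I : Subgroup G) [hN : N.Normal] [Fintype I]
    (hNI : N ≤ I) (φ : N → ℂ) (hφ : IsIrrCharacter N φ) (ψ : I → ℂ) (hψ : IsIrrCharacter I ψ)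
    (hext : ∀ n : N, ψ ⟨n, hNI n.2⟩ = φ n) :
    classInner (indFun (N.subgroupOf I) (subFun N I φ)) ψ ≠ 0 := by
  classical
  letI : Fintype N := Fintype.ofFinite N
  letI : Fintype (N.subgroupOf I) := Fintype.ofFinite _
  rw [frobenius_reciprocity (N.subgroupOf I) _ _
    (isClassFunction_of_isCharacter (isCharacter_of_isIrrCharacter hψ))]
  have h2 : (fun x : N.subgroupOf I => ψ (x : I)) = subFun N I φ := by
    funext x
    unfold subFun
    rw [← hext]
  rw [h2, classInner_subFun hNI, irr_classInner_self hφ]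
  exact one_ne_zero

/-- Clifford correspondence for extensions. -/
theorem irr_indFun_of_extends [Fintype G] (N I : Subgroup G) [hN : N.Normal] [Fintype I]
    (hNI : N ≤ I) (φ : N → ℂ) (hφ : IsIrrCharacter N φ)
    (hT : ∀ g : G, g ∈ I ↔ ∀ h : N, φ ⟨g * h * g⁻¹, hN.conj_mem h h.2 g⟩ = φ h)
    (ψ ψ' : I → ℂ) (hψ : IsIrrCharacter I ψ) (hψ' : IsIrrCharacter I ψ')
    (hext : ∀ n : N, ψ ⟨n, hNI n.2⟩ = φ n) (hext' : ∀ n : N, ψ' ⟨n, hNI n.2⟩ = φ n) :
    IsIrrCharacter G (indFun I ψ) ∧ (indFun I ψ = indFun I ψ' → ψ = ψ') :=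
  clifford_corr_injective N I φ hφ hT hNI ψ ψ' hψ hψ'
    (classInner_ind_sub_ne_zero N I hNI φ hφ ψ hψ hext)
    (classInner_ind_sub_ne_zero N I hNI φ hφ ψ' hψ' hext')

/-- The indicator of the character induced from a strongly real extension to the inertia
group. -/
theorem fsInd_indFun_of_extends [Fintype G] (N I : Subgroup G) [hN : N.Normal] [Fintype I]
    (hNI : N ≤ I) (φ : N → ℂ) (hφ : IsIrrCharacter N φ)
    (hT : ∀ g : G, g ∈ I ↔ ∀ h : N, φ ⟨g * h * g⁻¹, hN.conj_mem h h.2 g⟩ = φ h)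
    (ψ : I → ℂ) (hψ : IsIrrCharacter I ψ) (hext : ∀ n : N, ψ ⟨n, hNI n.2⟩ = φ n)
    (hfs : fsInd ψ ≠ 0) : fsInd (indFun I ψ) = fsInd ψ := by
  classical
  letI : Fintype N := Fintype.ofFinite N
  have hreal := real_of_fsInd_ne_zero hψ hfs
  have hφreal : ∀ n : N, conj (φ n) = φ n := by
    intro n
    rw [← hext, hreal]
  apply fsInd_indFun N I hNI ψ (isCharacter_of_isIrrCharacter hψ)
  intro g hg _
  have hne : conjFun N φ g⁻¹ ≠ φ := by
    intro heq
    apply hg
    have : g⁻¹ ∈ I := by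
      rw [hT]
      intro h
      exact congrFun heq h
    simpa using I.inv_mem this
  have h0 := irr_classInner_eq_zero (isIrrCharacter_conjFun N hφ g⁻¹) hφ hne
  rw [classInner_apply] at h0
  have hN0 : (Nat.card N : ℂ) ≠ 0 := card_ne_zero_complex N
  have h1 : ∑ n : N, conjFun N φ g⁻¹ n * conj (φ n) = 0 := by
    rcases mul_eq_zero.mp h0 with h | h
    · exact absurd (inv_eq_zero.mp h) hN0
    · exact h
  rw [← h1]
  apply Finset.sum_congr rfl
  intro n _
  rw [hφreal, hext]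
  congr 1
  have := hext ⟨g⁻¹ * n * g, conj_inv_mem N g n.2⟩
  rw [this]
  unfold conjFun
  congr 1
  apply Subtype.ext
  simp

/-- A linear character with nonzero indicator has square one. -/
theorem linear_sq_eq_one [Fintype G] {lam : G → ℂ} (hlam : IsCharacter G lam) (h1 : lam 1 = 1)
    (hfs : fsInd lam ≠ 0) (g : G) : lam g * lam g = 1 := by
  have hirr := isIrrCharacter_of_linear hlam h1
  have hreal := real_of_fsInd_ne_zero hirr hfs g
  have hp : lam g ^ orderOf g = 1 :=
    Cfsg.Agent.Lib.helper3.Lin.pow_eq_one_of_linear hlam h1 g _ (pow_orderOf_eq_one g)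
  have hnorm : ‖lam g‖ = 1 :=
    Complex.norm_eq_one_of_pow_eq_one hp (orderOf_pos g).ne'
  have hn : lam g * conj (lam g) = 1 := by
    rw [Complex.mul_conj, Complex.normSq_eq_norm_sq, hnorm]
    simp
  rwa [hreal] at hn

/-- A linear character is trivial on a non-abelian minimal normal subgroup. -/
theorem linear_trivial_on_minimal_normal [Finite G] (N : Subgroup G) [hN : N.Normal]
    (hmin : ∀ M : Subgroup G, M.Normal → M ≤ N → M = ⊥ ∨ M = N)
    (hna : ¬ IsMulCommutative N) {lam : G → ℂ} (hlam : IsCharacter G lam) (h1 : lam 1 = 1)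
    (n : G) (hn : n ∈ N) : lam n = 1 := by
  have hmul := Cfsg.Agent.Lib.helper3.Lin.map_mul_of_apply_one_eq_one hlam h1
  have hinv : ∀ a : G, lam a * lam a⁻¹ = 1 := by
    intro a
    rw [← hmul, mul_inv_cancel, h1]
  let K : Subgroup G :=
    { carrier := {g | g ∈ N ∧ lam g = 1}
      mul_mem' := by
        rintro a b ⟨ha, ha1⟩ ⟨hb, hb1⟩
        exact ⟨N.mul_mem ha hb, by rw [hmul, ha1, hb1, one_mul]⟩
      one_mem' := ⟨N.one_mem, h1⟩
      inv_mem' := by
        rintro a ⟨ha, ha1⟩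
        refine ⟨N.inv_mem ha, ?_⟩
        have := hinv a
        rwa [ha1, one_mul] at this }
  have hKmem : ∀ g : G, g ∈ K ↔ g ∈ N ∧ lam g = 1 := fun g => Iff.rfl
  have hKn : K.Normal := by
    constructor
    intro a ha g
    rw [hKmem] at ha ⊢
    refine ⟨hN.conj_mem a ha.1 g, ?_⟩
    rw [hmul, hmul, ha.2, mul_one, hinv]
  have hKN : K ≤ N := fun g hg => ((hKmem g).mp hg).1
  rcases hmin K hKn hKN with h | h
  · exfalso
    apply hna
    constructor
    constructor
    intro a b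
    have hc : (a : G) * b * (a : G)⁻¹ * (b : G)⁻¹ ∈ K := by
      rw [hKmem]
      refine ⟨N.mul_mem (N.mul_mem (N.mul_mem a.2 b.2) (N.inv_mem a.2)) (N.inv_mem b.2), ?_⟩
      rw [hmul, hmul, hmul]
      calc lam a * lam b * lam (a : G)⁻¹ * lam (b : G)⁻¹
          = (lam a * lam (a : G)⁻¹) * (lam b * lam (b : G)⁻¹) := by ring
        _ = 1 := by rw [hinv, hinv, one_mul]
    rw [h, Subgroup.mem_bot] at hc
    apply Subtype.ext
    rw [Subgroup.coe_mul, Subgroup.coe_mul]
    calc (a : G) * b = ((a : G) * b * (a : G)⁻¹ * (b : G)⁻¹) * (b * a) := by group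
      _ = b * a := by rw [hc, one_mul]
  · have : n ∈ K := by rw [h]; exact hn
    exact ((hKmem n).mp this).2

/-- Counting irreducible constituents by the degree. -/
theorem card_constituents_le [Fintype G] {Θ : G → ℂ} (hΘ : IsCharacter G Θ) (m : ℕ)
    (hm : Θ 1 = m) (S : Finset (IrrCharacter G))
    (hS : ∀ χ ∈ S, classInner Θ (χ : G → ℂ) ≠ 0) : S.card ≤ m := by
  classical
  obtain ⟨f, hf⟩ := exists_decomposition_of_isCharacter hΘ
  have hdeg : ∀ χ : IrrCharacter G, ∃ n : ℕ, 0 < n ∧ (χ : G → ℂ) 1 = n :=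
    fun χ => exists_pos_nat_apply_one χ.2
  choose dg hdgpos hdg using hdeg
  have h1 : (m : ℂ) = ((∑ χ : IrrCharacter G, f χ * dg χ : ℕ) : ℂ) := by
    rw [← hm, hf, Finset.sum_apply]
    push_cast
    apply Finset.sum_congr rfl
    intro χ _
    rw [Pi.smul_apply, smul_eq_mul, hdg]
  have h2 : m = ∑ χ : IrrCharacter G, f χ * dg χ := by exact_mod_cast h1
  have hfS : ∀ χ ∈ S, 1 ≤ f χ * dg χ := by
    intro χ hχ
    have h3 := hS χ hχ
    rw [hf, classInner_decomposition_left (fun χ : IrrCharacter G => (f χ : ℂ)) χ] at h3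
    have h4 : f χ ≠ 0 := by
      intro h
      apply h3
      rw [h, Nat.cast_zero]
    exact Nat.mul_pos (Nat.pos_of_ne_zero h4) (hdgpos χ)
  calc S.card = ∑ _χ ∈ S, 1 := by simp
    _ ≤ ∑ χ ∈ S, f χ * dg χ := Finset.sum_le_sum hfS
    _ ≤ ∑ χ : IrrCharacter G, f χ * dg χ :=
        Finset.sum_le_sum_of_subset (Finset.subset_univ S)
    _ = m := h2.symm

end Cfsg.Agent.Lib.Helper5.FSInd
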