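import Mathlib
import Cfsg.Prelude.Def_Characters
import Cfsg.Agent.Lib.Helper5.FSInd3

/-!
# Counting strongly real linear characters against strongly real characters of a fixed
degree (helper5)
-/

set_option autoImplicit false
set_option linter.style.haveILetI false
set_option linter.unusedSectionVars false

namespace Cfsg.Agent.Lib.Helper5.FSInd

open Cfsg Cfsg.Agent.Lib.helper3.IndFun Cfsg.Agent.Lib.helper3.Irr
open Cfsg.Agent.Lib.helper3.IndFunTrans Cfsg.Agent.Lib.Helper4.FS
open scoped ComplexConjugate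

section gallagher

variable {K : Type*} [Group K]

/-- Gallagher: a linear character of `K` trivial on `M` that fixes (by multiplication) a
character restricting irreducibly to `M` is trivial. -/
theorem linear_eq_one_of_mul_eq [Fintype K] (M : Subgroup K) [hM : M.Normal]
    (ψ : K → ℂ) (hψ : IsIrrCharacter K ψ) (hψM : IsIrrCharacter M (fun n : M => ψ n))
    (ρ : K → ℂ) (hρ : IsCharacter K ρ) (hρ1 : ρ 1 = 1) (hρM : ∀ n ∈ M, ρ n = 1)
    (heq : ρ * ψ = ψ) (k : K) : ρ k = 1 := by
  classical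
  letI : Fintype M := Fintype.ofFinite M
  have hmul := Cfsg.Agent.Lib.helper3.Lin.map_mul_of_apply_one_eq_one hρ hρ1
  have hρirr := isIrrCharacter_of_linear hρ hρ1
  obtain ⟨β, hβ, hρβ⟩ := exists_eq_inflate hρirr M (by
    intro g n hn
    rw [hmul, hρM n hn, mul_one])
  have h1irr : IsIrrCharacter (K ⧸ M) (fun _ => (1 : ℂ)) := isIrrCharacter_one
  obtain ⟨-, hinj⟩ := gallagher_inflate M ψ (isCharacter_of_isIrrCharacter hψ)
    (apply_one_ne_zero hψ) hψM
  have h2 : inflate M (fun _ : K ⧸ M => (1 : ℂ)) * ψ = ψ := by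
    funext x
    rw [Pi.mul_apply, inflate_apply, one_mul]
  have h3 := hinj ⟨β, hβ⟩ ⟨fun _ => 1, h1irr⟩ (by
    show inflate M β * ψ = inflate M (fun _ : K ⧸ M => (1 : ℂ)) * ψ
    rw [h2, ← hρβ, heq])
  have h4 : β = fun _ => 1 := congrArg Subtype.val h3
  rw [hρβ, h4, inflate_apply]

end gallagher

variable {G : Type*} [Group G]

/-- The restriction of `ψ` to `N.subgroupOf I` is irreducible when `ψ` extends `φ`. -/
theorem irr_restrict_subgroupOf [Finite G] (N I : Subgroup G) (hNI : N ≤ I) (φ : N → ℂ)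
    (hφ : IsIrrCharacter N φ) (ψ : I → ℂ) (hext : ∀ n : N, ψ ⟨n, hNI n.2⟩ = φ n) :
    IsIrrCharacter (N.subgroupOf I) (fun x : N.subgroupOf I => ψ (x : I)) := by
  have h2 : (fun x : N.subgroupOf I => ψ (x : I)) = subFun N I φ := by
    funext x
    unfold subFun
    rw [← hext]
  rw [h2]
  exact isIrrCharacter_subFun hNI hφ

section main

variable [Fintype G] (N I : Subgroup G) [hN : N.Normal] [Fintype I] (hNI : N ≤ I)
  (φ : N → ℂ) (hφ : IsIrrCharacter N φ)
  (hT : ∀ g : G, g ∈ I ↔ ∀ h : N, φ ⟨g * h * g⁻¹, hN.conj_mem h h.2 g⟩ = φ h)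
  (ψ : I → ℂ) (hψ : IsIrrCharacter I ψ) (hext : ∀ n : N, ψ ⟨n, hNI n.2⟩ = φ n)

include hφ hT hψ hext

/-- Twisting the induced character by a linear character trivial on `N`. -/
theorem twist_props {lam : G → ℂ} (hlam : IsCharacter G lam) (h1 : lam 1 = 1)
    (htriv : ∀ n ∈ N, lam n = 1) :
    IsIrrCharacter I (ψ * fun i : I => lam i) ∧
      (∀ n : N, (ψ * fun i : I => lam i) ⟨n, hNI n.2⟩ = φ n) ∧
      indFun I (ψ * fun i : I => lam i) = indFun I ψ * lam ∧
      IsIrrCharacter G (indFun I ψ * lam) := by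
  have hirr : IsIrrCharacter I (ψ * fun i : I => lam i) := by
    rw [mul_comm]
    exact isIrrCharacter_linear_mul (isCharacter_restrict hlam I) h1 hψ
  have hext2 : ∀ n : N, (ψ * fun i : I => lam i) ⟨n, hNI n.2⟩ = φ n := by
    intro n
    rw [Pi.mul_apply, hext]
    show φ n * lam (n : G) = φ n
    rw [htriv n n.2, mul_one]
  have hind := indFun_mul_restrict I ψ lam
    (isClassFunction_of_isCharacter hlam)
  refine ⟨hirr, hext2, hind, ?_⟩
  rw [← hind]
  exact (irr_indFun_of_extends N I hNI φ hφ hT _ _ hirr hirr hext2 hext2).1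

/-- Two twists agree only if the linear characters agree on the inertia group. -/
theorem twist_fibre {lam mu : G → ℂ} (hlam : IsCharacter G lam) (h1 : lam 1 = 1)
    (htriv : ∀ n ∈ N, lam n = 1) (hmu : IsCharacter G mu) (h1' : mu 1 = 1)
    (htriv' : ∀ n ∈ N, mu n = 1) (hsq : ∀ g, mu g * mu g = 1)
    (heq : indFun I ψ * lam = indFun I ψ * mu) (i : I) : lam i = mu i := by
  classical
  obtain ⟨hirr, hext2, hind, -⟩ := twist_props N I hNI φ hφ hT ψ hψ hext hlam h1 htriv
  obtain ⟨hirr', hext2', hind', -⟩ := twist_props N I hNI φ hφ hT ψ hψ hext hmu h1' htriv'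
  have h2 : (ψ * fun i : I => lam i) = (ψ * fun i : I => mu i) := by
    apply (irr_indFun_of_extends N I hNI φ hφ hT _ _ hirr hirr' hext2 hext2').2
    rw [hind, hind', heq]
  -- the product character
  set ρ : I → ℂ := (fun i : I => lam i) * (fun i : I => mu i) with hρ
  have hρc : IsCharacter I ρ :=
    isCharacter_mul (isCharacter_restrict hlam I) (isCharacter_restrict hmu I)
  have hρ1 : ρ 1 = 1 := by
    show lam ((1 : I) : G) * mu ((1 : I) : G) = 1
    rw [Subgroup.coe_one, h1, h1', one_mul]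
  have hρψ : ρ * ψ = ψ := by
    funext x
    have h3 := congrFun h2 x
    simp only [Pi.mul_apply] at h3
    simp only [hρ, Pi.mul_apply]
    calc lam x * mu x * ψ x = (ψ x * lam x) * mu x := by ring
      _ = (ψ x * mu x) * mu x := by rw [h3]
      _ = ψ x * (mu x * mu x) := by ring
      _ = ψ x := by rw [hsq, mul_one]
  haveI : (N.subgroupOf I).Normal := Subgroup.normal_subgroupOf
  have hρN : ∀ n ∈ N.subgroupOf I, ρ n = 1 := by
    intro n hn
    have hn' : (n : G) ∈ N := Subgroup.mem_subgroupOf.mp hn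
    show lam (n : G) * mu (n : G) = 1
    rw [htriv _ hn', htriv' _ hn', one_mul]
  have h4 := linear_eq_one_of_mul_eq (N.subgroupOf I) ψ hψ
    (irr_restrict_subgroupOf N I hNI φ hφ ψ hext) ρ hρc hρ1 hρN hρψ i
  have h5 : lam i * mu i = 1 := h4
  calc lam i = lam i * (mu i * mu i) := by rw [hsq, mul_one]
    _ = (lam i * mu i) * mu i := by ring
    _ = mu i := by rw [h5, one_mul]

end main

end Cfsg.Agent.Lib.Helper5.FSInd
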