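import Mathlib
import Cfsg.Prelude.Def_Characters
import Cfsg.Agent.Lib.Helper5.FSInd4

/-!
# The count of strongly real linear characters (helper5)
-/

set_option autoImplicit false
set_option linter.style.haveILetI false
set_option linter.unusedSectionVars false

namespace Cfsg.Agent.Lib.Helper5.FSInd

open Cfsg Cfsg.Agent.Lib.helper3.IndFun Cfsg.Agent.Lib.helper3.Irr
open Cfsg.Agent.Lib.helper3.IndFunTrans Cfsg.Agent.Lib.Helper4.FS
open scoped ComplexConjugate

variable {G : Type*} [Group G]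

theorem fsInd_mul_of_sq [Fintype G] (χ lam : G → ℂ)
    (hmul : ∀ a b : G, lam (a * b) = lam a * lam b) (hsq : ∀ g, lam g * lam g = 1) :
    fsInd (χ * lam) = fsInd χ := by
  unfold fsInd
  congr 1
  apply Finset.sum_congr rfl
  intro s _
  rw [Pi.mul_apply, hmul, hsq, mul_one]

theorem count_main [Fintype G] (N I : Subgroup G) [hN : N.Normal] [Fintype I] (hNI : N ≤ I)
    (hmin : ∀ M : Subgroup G, M.Normal → M ≤ N → M = ⊥ ∨ M = N)
    (hna : ¬ IsMulCommutative N)
    (φ : N → ℂ) (hφ : IsIrrCharacter N φ)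
    (hT : ∀ g : G, g ∈ I ↔ ∀ h : N, φ ⟨g * h * g⁻¹, hN.conj_mem h h.2 g⟩ = φ h)
    (ψ : I → ℂ) (hψ : IsIrrCharacter I ψ) (hext : ∀ n : N, ψ ⟨n, hNI n.2⟩ = φ n)
    (hfs : fsInd ψ = 1) (dφ : ℕ) (hdφ : φ 1 = dφ) :
    (Finset.univ.filter (fun χ : IrrCharacter G =>
        (χ : G → ℂ) 1 = 1 ∧ fsInd (χ : G → ℂ) = 1)).card
      ≤ I.index * (Finset.univ.filter (fun χ : IrrCharacter G =>
        (χ : G → ℂ) 1 = ((dφ * I.index : ℕ) : ℂ) ∧ fsInd (χ : G → ℂ) = 1)).card := by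
  classical
  set R := Finset.univ.filter (fun χ : IrrCharacter G =>
        (χ : G → ℂ) 1 = 1 ∧ fsInd (χ : G → ℂ) = 1) with hR
  set T := Finset.univ.filter (fun χ : IrrCharacter G =>
        (χ : G → ℂ) 1 = ((dφ * I.index : ℕ) : ℂ) ∧ fsInd (χ : G → ℂ) = 1) with hTdef
  set χ₁ : G → ℂ := indFun I ψ with hχ₁
  have hfs0 : fsInd ψ ≠ 0 := by rw [hfs]; exact one_ne_zero
  have hfsχ₁ : fsInd χ₁ = 1 := by
    rw [hχ₁, fsInd_indFun_of_extends N I hNI φ hφ hT ψ hψ hext hfs0, hfs]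
  -- facts on the members of `R`
  have hRmem : ∀ lam ∈ R, IsCharacter G (lam : G → ℂ) ∧ (lam : G → ℂ) 1 = 1 ∧
      (∀ n ∈ N, (lam : G → ℂ) n = 1) ∧ (∀ g, (lam : G → ℂ) g * (lam : G → ℂ) g = 1) := by
    intro lam hlam
    rw [hR, Finset.mem_filter] at hlam
    have hc := isCharacter_of_isIrrCharacter lam.2
    refine ⟨hc, hlam.2.1, ?_, ?_⟩
    · intro n hn
      exact linear_trivial_on_minimal_normal N hmin hna hc hlam.2.1 n hn
    · intro g
      apply linear_sq_eq_one hc hlam.2.1 _ g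
      rw [hlam.2.2]
      exact one_ne_zero
  set f : IrrCharacter G → (G → ℂ) := fun lam => χ₁ * (lam : G → ℂ) with hf
  have h1 : R.card ≤ I.index * (R.image f).card := by
    apply Finset.card_le_mul_card_image
    intro b hb
    obtain ⟨lam₀, hlam₀, rfl⟩ := Finset.mem_image.mp hb
    obtain ⟨hc₀, h1₀, htriv₀, hsq₀⟩ := hRmem lam₀ hlam₀
    set Θ : G → ℂ := indFun I (fun i : I => (lam₀ : G → ℂ) i) with hΘ
    have hΘc : IsCharacter G Θ := isCharacter_indFun I _ (isCharacter_restrict hc₀ I)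
    have hΘ1 : Θ 1 = (I.index : ℂ) := by
      rw [hΘ, indFun_apply_one]
      show (I.index : ℂ) * (lam₀ : G → ℂ) ((1 : I) : G) = _
      rw [Subgroup.coe_one, h1₀, mul_one]
    apply card_constituents_le hΘc I.index hΘ1
    intro mu hmu
    rw [Finset.mem_filter] at hmu
    obtain ⟨hc, h1', htriv, hsq⟩ := hRmem mu hmu.1
    have hres : ∀ i : I, (mu : G → ℂ) i = (lam₀ : G → ℂ) i :=
      twist_fibre N I hNI φ hφ hT ψ hψ hext hc h1' htriv hc₀ h1₀ htriv₀ hsq₀ hmu.2
    rw [hΘ, frobenius_reciprocity I _ _ (isClassFunction_of_isCharacter hc)]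
    have : (fun h : I => (mu : G → ℂ) h) = fun i : I => (lam₀ : G → ℂ) i := funext hres
    rw [this, irr_classInner_self (isIrrCharacter_of_linear (isCharacter_restrict hc₀ I)
      (by show (lam₀ : G → ℂ) ((1 : I) : G) = 1; rw [Subgroup.coe_one, h1₀]))]
    exact one_ne_zero
  have h2 : (R.image f).card ≤ T.card := by
    have hsub : R.image f ⊆ T.image (fun χ : IrrCharacter G => (χ : G → ℂ)) := by
      intro b hb
      obtain ⟨lam, hlam, rfl⟩ := Finset.mem_image.mp hb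
      obtain ⟨hc, h1', htriv, hsq⟩ := hRmem lam hlam
      obtain ⟨-, -, -, hirr⟩ := twist_props N I hNI φ hφ hT ψ hψ hext hc h1' htriv
      rw [Finset.mem_image]
      refine ⟨⟨χ₁ * (lam : G → ℂ), hirr⟩, ?_, rfl⟩
      rw [hTdef, Finset.mem_filter]
      refine ⟨Finset.mem_univ _, ?_, ?_⟩
      · show χ₁ 1 * (lam : G → ℂ) 1 = _
        rw [h1', mul_one, hχ₁, indFun_apply_one]
        have : ψ 1 = φ 1 := hext 1
        rw [this, hdφ]
        push_cast
        ring
      · show fsInd (χ₁ * (lam : G → ℂ)) = 1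
        rw [fsInd_mul_of_sq χ₁ _
          (Cfsg.Agent.Lib.helper3.Lin.map_mul_of_apply_one_eq_one hc h1') hsq, hfsχ₁]
    exact (Finset.card_le_card hsub).trans Finset.card_image_le
  calc R.card ≤ I.index * (R.image f).card := h1
    _ ≤ I.index * T.card := Nat.mul_le_mul_left _ h2

end Cfsg.Agent.Lib.Helper5.FSInd
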