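import Mathlib
import Cfsg.Prelude.Def_KGroupFacts

/-!
# The largest stem extension of a perfect group maps onto every stem extension

If `π : Γ → G` is a finite stem extension of a perfect group and every finite stem extension of `G` has at most `|Γ|`
elements, then for every finite stem extension `σ : E → G` the kernel of `σ` is a homomorphic image of the kernel of
`π`: the commutator subgroup of the fibre product of `E` and `Γ` over `G` is again a stem extension of `G`, so its
projection onto `Γ` is an isomorphism.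
-/

set_option autoImplicit false

namespace Cfsg.Agent.Lib.Helper5.J3Mult

open Cfsg
open scoped commutatorElement

section

variable {G : Type*} [Group G]

/-- a stem extension of a perfect group is perfect -/
theorem perfect_of_stem {E : Type*} [Group E] {σ : E →* G} (hσ : IsStemExtension σ)
    (hG : commutator G = ⊤) : commutator E = ⊤ := by
  obtain ⟨hsurj, -, hder⟩ := hσ
  have h1 : Subgroup.map σ (commutator E) = ⊤ := by
    rw [commutator_def, Subgroup.map_commutator, ← MonoidHom.range_eq_map,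
      MonoidHom.range_eq_top.2 hsurj, ← commutator_def, hG]
  rw [Subgroup.eq_top_iff']
  intro e
  have h2 : σ e ∈ Subgroup.map σ (commutator E) := by rw [h1]; exact Subgroup.mem_top _
  obtain ⟨c, hc, hce⟩ := h2
  have h3 : c⁻¹ * e ∈ σ.ker := by
    rw [MonoidHom.mem_ker, map_mul, map_inv, hce, inv_mul_cancel]
  have h4 : e = c * (c⁻¹ * e) := by group
  rw [h4]
  exact Subgroup.mul_mem _ hc (hder h3)

end

section fibre

universe u

variable {G Γ E : Type u} [Group G] [Group Γ] [Group E]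

/-- the fibre product of two groups over `G` -/
def fib (π : Γ →* G) (σ : E →* G) : Subgroup (E × Γ) :=
  (σ.comp (MonoidHom.fst E Γ)).eqLocus (π.comp (MonoidHom.snd E Γ))

theorem mem_fib {π : Γ →* G} {σ : E →* G} {p : E × Γ} : p ∈ fib π σ ↔ σ p.1 = π p.2 := Iff.rfl

/-- **every stem extension is a quotient of a stem extension of the largest order** -/
theorem exists_ker_surjective [Finite Γ] [Finite E] (π : Γ →* G) (hπ : IsStemExtension π)
    (σ : E →* G) (hσ : IsStemExtension σ) (hG : commutator G = ⊤)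
    (hbound : ∀ (D : Type u) [Group D] [Finite D] (ρ : D →* G), IsStemExtension ρ →
      Nat.card D ≤ Nat.card Γ) :
    ∃ f : π.ker →* σ.ker, Function.Surjective f := by
  have hΓp : commutator Γ = ⊤ := perfect_of_stem hπ hG
  have hEp : commutator E = ⊤ := perfect_of_stem hσ hG
  obtain ⟨hπs, hπc, hπd⟩ := hπ
  obtain ⟨hσs, hσc, hσd⟩ := hσ
  set P := fib π σ with hP
  -- the derived subgroup of the fibre product
  set D : Subgroup (E × Γ) := ⁅P, P⁆ with hD
  have hDP : D ≤ P := Subgroup.commutator_le_self P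
  -- commutators of pairs over the same elements of `G`
  have hcomm : ∀ p q : E × Γ, p ∈ P → q ∈ P → ⁅p, q⁆ ∈ D := fun p q hp hq =>
    Subgroup.commutator_mem_commutator hp hq
  -- the projections
  let p1 : ↥D →* E := (MonoidHom.fst E Γ).comp D.subtype
  let p2 : ↥D →* Γ := (MonoidHom.snd E Γ).comp D.subtype
  let ρ : ↥D →* G := σ.comp p1
  have hρ2 : ∀ d : ↥D, ρ d = π (p2 d) := fun d => mem_fib.1 (hDP d.2)
  -- `p2` is onto
  have hp2s : Function.Surjective p2 := by
    intro γ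
    have hγ : γ ∈ commutator Γ := by rw [hΓp]; exact Subgroup.mem_top _
    rw [commutator_eq_closure] at hγ
    induction hγ using Subgroup.closure_induction with
    | mem γ hγ =>
      obtain ⟨a, b, rfl⟩ := hγ
      obtain ⟨ea, hea⟩ := hσs (π a)
      obtain ⟨eb, heb⟩ := hσs (π b)
      exact ⟨⟨⁅(ea, a), (eb, b)⁆, hcomm _ _ (mem_fib.2 hea) (mem_fib.2 heb)⟩, rfl⟩
    | one => exact ⟨1, rfl⟩
    | mul a b _ _ ha hb =>
      obtain ⟨da, rfl⟩ := ha
      obtain ⟨db, rfl⟩ := hb
      exact ⟨da * db, map_mul p2 da db⟩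
    | inv a _ ha =>
      obtain ⟨da, rfl⟩ := ha
      exact ⟨da⁻¹, map_inv p2 da⟩
  -- `p1` is onto
  have hp1s : Function.Surjective p1 := by
    intro e
    have he : e ∈ commutator E := by rw [hEp]; exact Subgroup.mem_top _
    rw [commutator_eq_closure] at he
    induction he using Subgroup.closure_induction with
    | mem e he =>
      obtain ⟨a, b, rfl⟩ := he
      obtain ⟨ga, hga⟩ := hπs (σ a)
      obtain ⟨gb, hgb⟩ := hπs (σ b)
      exact ⟨⟨⁅(a, ga), (b, gb)⁆, hcomm _ _ (mem_fib.2 hga.symm) (mem_fib.2 hgb.symm)⟩, rfl⟩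
    | one => exact ⟨1, rfl⟩
    | mul a b _ _ ha hb =>
      obtain ⟨da, rfl⟩ := ha
      obtain ⟨db, rfl⟩ := hb
      exact ⟨da * db, map_mul p1 da db⟩
    | inv a _ ha =>
      obtain ⟨da, rfl⟩ := ha
      exact ⟨da⁻¹, map_inv p1 da⟩
  -- `ρ` is a stem extension
  have hρs : Function.Surjective ρ := hσs.comp hp1s
  have hkc : ∀ d : ↥D, ρ d = 1 → ∀ q : E × Γ, q * d.1 = d.1 * q := by
    intro d hd q
    have h1 : d.1.1 ∈ Subgroup.center E := hσc (MonoidHom.mem_ker.2 hd)
    have h2 : d.1.2 ∈ Subgroup.center Γ := hπc (MonoidHom.mem_ker.2 ((hρ2 d).symm.trans hd))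
    apply Prod.ext
    · exact Subgroup.mem_center_iff.1 h1 q.1
    · exact Subgroup.mem_center_iff.1 h2 q.2
  have hρc : ρ.ker ≤ Subgroup.center ↥D := by
    intro d hd
    rw [Subgroup.mem_center_iff]
    intro q
    exact Subtype.ext (hkc d (MonoidHom.mem_ker.1 hd) q.1)
  -- every element of the fibre product is in `D` up to a central element
  have hdec : ∀ p ∈ P, ∃ d : ↥D, ∀ q : E × Γ, q * (d.1⁻¹ * p) = (d.1⁻¹ * p) * q := by
    intro p hp
    obtain ⟨d, hd⟩ := hρs (σ p.1)
    refine ⟨d, ?_⟩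
    have h1 : (d.1⁻¹ * p).1 ∈ Subgroup.center E := by
      apply hσc
      rw [MonoidHom.mem_ker]
      show σ ((d.1)⁻¹.1 * p.1) = 1
      rw [map_mul, Prod.fst_inv, map_inv]
      have : σ d.1.1 = σ p.1 := hd
      rw [this, inv_mul_cancel]
    have h2 : (d.1⁻¹ * p).2 ∈ Subgroup.center Γ := by
      apply hπc
      rw [MonoidHom.mem_ker]
      show π ((d.1)⁻¹.2 * p.2) = 1
      rw [map_mul, Prod.snd_inv, map_inv]
      have e1 : π d.1.2 = σ p.1 := (hρ2 d).symm.trans hd
      have e2 : σ p.1 = π p.2 := mem_fib.1 hp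
      rw [e1, e2, inv_mul_cancel]
    intro q
    apply Prod.ext
    · exact Subgroup.mem_center_iff.1 h1 q.1
    · exact Subgroup.mem_center_iff.1 h2 q.2
  -- `D` is perfect
  have hDD : D ≤ ⁅D, D⁆ := by
    rw [hD, Subgroup.commutator_le]
    intro p hp q hq
    obtain ⟨dp, hzp⟩ := hdec p hp
    obtain ⟨dq, hzq⟩ := hdec q hq
    set zp := dp.1⁻¹ * p with hzpd
    set zq := dq.1⁻¹ * q with hzqd
    have ep : p = dp.1 * zp := by rw [hzpd]; group
    have eq' : q = dq.1 * zq := by rw [hzqd]; group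
    have : ⁅p, q⁆ = ⁅dp.1, dq.1⁆ := by
      rw [ep, eq', commutatorElement_def, commutatorElement_def]
      calc dp.1 * zp * (dq.1 * zq) * (dp.1 * zp)⁻¹ * (dq.1 * zq)⁻¹
          = dp.1 * (zp * dq.1) * (zq * zp⁻¹) * dp.1⁻¹ * zq⁻¹ * dq.1⁻¹ := by group
        _ = dp.1 * (dq.1 * zp) * (zp⁻¹ * zq) * dp.1⁻¹ * zq⁻¹ * dq.1⁻¹ := by
            rw [← hzp dq.1, hzq zp⁻¹]
        _ = dp.1 * dq.1 * (zq * dp.1⁻¹) * zq⁻¹ * dq.1⁻¹ := by group
        _ = dp.1 * dq.1 * (dp.1⁻¹ * zq) * zq⁻¹ * dq.1⁻¹ := by rw [← hzq dp.1⁻¹]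
        _ = dp.1 * dq.1 * dp.1⁻¹ * dq.1⁻¹ := by group
    rw [this]
    exact Subgroup.commutator_mem_commutator dp.2 dq.2
  have hDperf : commutator ↥D = ⊤ := by
    rw [Subgroup.eq_top_iff']
    intro d
    have h1 : d.1 ∈ ⁅D, D⁆ := hDD d.2
    rw [← Subgroup.map_subtype_commutator] at h1
    obtain ⟨c, hc, hcd⟩ := h1
    have : c = d := Subtype.ext hcd
    rw [← this]
    exact hc
  have hρd : ρ.ker ≤ commutator ↥D := by rw [hDperf]; exact le_top
  -- the order
  have : Finite ↥D := inferInstance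
  have hcard : Nat.card ↥D ≤ Nat.card Γ := hbound ↥D ρ ⟨hρs, hρc, hρd⟩
  have hp2b : Function.Bijective p2 := hp2s.bijective_of_nat_card_le hcard
  -- the homomorphism
  let e2 : ↥D ≃* Γ := MulEquiv.ofBijective p2 hp2b
  let φ : Γ →* E := p1.comp e2.symm.toMonoidHom
  have hφ : ∀ γ, σ (φ γ) = π γ := by
    intro γ
    have h1 := hρ2 (e2.symm γ)
    have h2 : p2 (e2.symm γ) = γ := e2.apply_symm_apply γ
    rw [h2] at h1
    exact h1
  have hφs : Function.Surjective φ := hp1s.comp e2.symm.surjective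
  refine ⟨(φ.comp π.ker.subtype).codRestrict σ.ker (fun k => ?_), ?_⟩
  · rw [MonoidHom.mem_ker]
    show σ (φ k.1) = 1
    rw [hφ]
    exact MonoidHom.mem_ker.1 k.2
  · rintro ⟨k, hk⟩
    obtain ⟨γ, rfl⟩ := hφs k
    have hγ : γ ∈ π.ker := by
      rw [MonoidHom.mem_ker, ← hφ]
      exact MonoidHom.mem_ker.1 hk
    exact ⟨⟨γ, hγ⟩, rfl⟩

end fibre

end Cfsg.Agent.Lib.Helper5.J3Mult
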