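import Mathlib
import Cfsg.Agent.Lib.Helper5.J3FusA

/-!
# A static certificate for an enumeration of cosets, with the table given by functions

The same certificate as helper8's `CosetCert` (a table of rows with, for every entry, the time at which it was found
and the reason: the definition of a row, the entry in the other direction, a generator of the subgroup, or a trivial
word traced from some row with one gap through entries found before), but the table, the times and the reasons are
functions (so that they can be read from packed numerals), all the checks are boolean and the scan is written with the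
recursor of lists.  The conclusion is stated for the subgroups generated by initial segments of a family of
involutions: `card_closure_le`.
-/

set_option autoImplicit false

namespace Cfsg.Agent.Lib.Helper5.J3Mult

open Cfsg.Agent.Lib.Helper5.J3Fus

/-! ### right cosets -/

section coset

variable {Γ : Type*} [Group Γ] (H : Subgroup Γ)

/-- two elements in the same right coset -/
def RC (p q : Γ) : Prop := p * q⁻¹ ∈ H

variable {H}

theorem RC.refl (p : Γ) : RC H p p := by simp [RC, H.one_mem]

theorem RC.symm {p q : Γ} (h : RC H p q) : RC H q p := by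
  have := H.inv_mem h
  simpa [RC, mul_inv_rev] using this

theorem RC.trans {p q r : Γ} (h1 : RC H p q) (h2 : RC H q r) : RC H p r := by
  have := H.mul_mem h1 h2
  simpa [RC, mul_assoc] using this

theorem RC.mul_right {p q : Γ} (h : RC H p q) (z : Γ) : RC H (p * z) (q * z) := by
  simpa [RC, mul_assoc] using h

/-- the rows of a table that is closed under the generators cover the group -/
theorem index_le_of_closed {γ : ℕ → Γ} {g n : ℕ}
    (τ : ℕ → Γ) (hτ : τ 0 = 1) (hn : 0 < n)
    (hcl : ∀ a, a < n → ∀ x, x < g → ∃ b, b < n ∧ RC H (τ a * γ x) (τ b))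
    (hgen : ∀ z : Γ, ∃ u : List ℕ, (∀ x ∈ u, x < g) ∧ z = (u.map γ).prod) :
    H.index ≤ n ∧ H.index ≠ 0 := by
  have key : ∀ (u : List ℕ), (∀ x ∈ u, x < g) → ∀ a, a < n →
      ∃ b, b < n ∧ RC H (τ a * (u.map γ).prod) (τ b) := by
    intro u
    induction u with
    | nil =>
      intro _ a ha
      exact ⟨a, ha, by simpa using RC.refl (H := H) (τ a)⟩
    | cons x u ih =>
      intro hu a ha
      obtain ⟨b, hb, hRb⟩ := hcl a ha x (hu x (List.mem_cons_self ..))
      obtain ⟨b', hb', hRb'⟩ := ih (fun y hy => hu y (List.mem_cons_of_mem _ hy)) b hb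
      refine ⟨b', hb', ?_⟩
      rw [List.map_cons, List.prod_cons, ← mul_assoc]
      exact (hRb.mul_right _).trans hRb'
  let φ : Fin n → Γ ⧸ H := fun b => QuotientGroup.mk ((τ b.val)⁻¹)
  have hsurj : Function.Surjective φ := by
    intro q
    induction q using QuotientGroup.induction_on with
    | H z =>
      obtain ⟨u, hu, hz⟩ := hgen z⁻¹
      obtain ⟨b, hb, hRb⟩ := key u hu 0 hn
      refine ⟨⟨b, hb⟩, ?_⟩
      show (QuotientGroup.mk ((τ b)⁻¹) : Γ ⧸ H) = QuotientGroup.mk z
      rw [QuotientGroup.eq]
      rw [hτ, one_mul, ← hz] at hRb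
      have := H.inv_mem hRb
      simpa [RC, mul_inv_rev] using this
  have hfin : Finite (Γ ⧸ H) := Finite.of_surjective φ hsurj
  have hle : Nat.card (Γ ⧸ H) ≤ Nat.card (Fin n) := Nat.card_le_card_of_surjective φ hsurj
  rw [Nat.card_fin] at hle
  refine ⟨hle, ?_⟩
  show Nat.card (Γ ⧸ H) ≠ 0
  exact Nat.card_pos.ne'

end coset

/-! ### the certificate -/

/-- the data: the number of rows, of generators, of generators of the subgroup; the table; the times of its
entries; the kinds of the reasons and their parameters (row, word, place); the definitions of the rows (row and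
generator); the words -/
structure FCert where
  n : ℕ
  g : ℕ
  nsub : ℕ
  Tg : ℕ → ℕ → ℕ
  tg : ℕ → ℕ → ℕ
  kd : ℕ → ℕ → ℕ
  rs : ℕ → ℕ → ℕ
  rw : ℕ → ℕ → ℕ
  rp : ℕ → ℕ → ℕ
  pa : ℕ → ℕ
  px : ℕ → ℕ
  W : ℕ → List ℕ

namespace FCert

variable (C : FCert)

/-- follow the letters of a word from a row, through entries found before the time `t`; the value is `C.n` when
an entry is missing -/
noncomputable def scan (t : ℕ) (w : List ℕ) : ℕ → ℕ :=
  List.rec (motive := fun _ => ℕ → ℕ) (fun cur => cur)
    (fun x _ ih cur =>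
      Bool.rec (motive := fun _ => ℕ) C.n (strictN (C.Tg cur x) ih)
        (Nat.blt (C.tg cur x) t && (Nat.blt cur C.n && Nat.blt x C.g))) w

theorem scan_nil (t cur : ℕ) : C.scan t [] cur = cur := rfl

theorem scan_cons (t x : ℕ) (w : List ℕ) (cur : ℕ) : C.scan t (x :: w) cur =
    Bool.rec (motive := fun _ => ℕ) C.n (C.scan t w (C.Tg cur x))
      (Nat.blt (C.tg cur x) t && (Nat.blt cur C.n && Nat.blt x C.g)) := by
  show Bool.rec (motive := fun _ => ℕ) C.n (strictN (C.Tg cur x) (C.scan t w)) _ = _
  rw [strictN_eq]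

/-- the check of one entry -/
noncomputable def slotOK (a x : ℕ) : Bool :=
  Nat.blt (C.Tg a x) C.n &&
    Bool.rec (motive := fun _ => Bool)
      (Bool.rec (motive := fun _ => Bool)
        (Bool.rec (motive := fun _ => Bool)
          -- a word with a gap
          (Nat.beq ((C.W (C.rw a x)).getD (C.rp a x) C.g) x &&
            (Nat.beq (C.scan (C.tg a x) ((C.W (C.rw a x)).take (C.rp a x)) (C.rs a x)) a &&
              Nat.beq (C.scan (C.tg a x) (((C.W (C.rw a x)).drop (C.rp a x + 1)).reverse) (C.rs a x))
                (C.Tg a x)))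
          -- a generator of the subgroup
          (Nat.beq a 0 && (Nat.beq (C.Tg a x) 0 && Nat.blt x C.nsub))
          (Nat.beq (C.kd a x) 2))
        -- the entry in the other direction
        (Nat.beq (C.Tg (C.Tg a x) x) a && Nat.blt (C.tg (C.Tg a x) x) (C.tg a x))
        (Nat.beq (C.kd a x) 1))
      -- the definition of a row
      (Nat.beq (C.pa (C.Tg a x)) a && (Nat.beq (C.px (C.Tg a x)) x && Nat.blt a (C.Tg a x)))
      (Nat.beq (C.kd a x) 0)

/-- the check of a row -/
noncomputable def rowOK (a : ℕ) : Bool := (List.range C.g).all fun x => C.slotOK a x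

/-- the check of the rows `lo, …, lo + len - 1` -/
noncomputable def rowsOK (lo len : ℕ) : Bool := (List.range len).all fun i => C.rowOK (lo + i)

theorem slot_of_rows {lo len : ℕ} (h : C.rowsOK lo len = true) {a x : ℕ} (h1 : lo ≤ a) (h2 : a < lo + len)
    (hx : x < C.g) : C.slotOK a x = true := by
  rw [rowsOK, List.all_eq_true] at h
  have h3 := h (a - lo) (List.mem_range.2 (by omega))
  rw [show lo + (a - lo) = a by omega, rowOK, List.all_eq_true] at h3
  exact h3 x (List.mem_range.2 hx)

/-! ### soundness -/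

section sound

variable {Γ : Type*} [Group Γ] (γ : ℕ → Γ) (H : Subgroup Γ)

/-- the element of the group that belongs to a row -/
noncomputable def τ (r : ℕ) : Γ :=
  if _h : C.pa r < r then τ (C.pa r) * γ (C.px r) else 1
termination_by r
decreasing_by assumption

theorem τ_zero : C.τ γ 0 = 1 := by
  rw [τ]
  simp

theorem τ_def {a x r : ℕ} (har : a < r) (hP : C.pa r = a) (hX : C.px r = x) :
    C.τ γ r = C.τ γ a * γ x := by
  rw [τ, dif_pos (by rw [hP]; exact har), hP, hX]

/-- all that the table says with entries found before the time `t` is true -/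
def Good (t : ℕ) : Prop :=
  ∀ a x, a < C.n → x < C.g → C.tg a x < t → RC H (C.τ γ a * γ x) (C.τ γ (C.Tg a x))

variable {γ H}

theorem scan_spec {t : ℕ} (hG : C.Good γ H t) : ∀ (w : List ℕ) (cur e : ℕ),
    C.scan t w cur = e → e < C.n → RC H (C.τ γ cur * (w.map γ).prod) (C.τ γ e)
  | [], cur, e, h, _ => by
    rw [scan_nil] at h
    subst h
    simpa using RC.refl (H := H) (C.τ γ cur)
  | x :: w, cur, e, h, he => by
    rw [scan_cons] at h
    cases hc : (Nat.blt (C.tg cur x) t && (Nat.blt cur C.n && Nat.blt x C.g)) with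
    | false =>
      rw [hc] at h
      exact absurd he (by rw [← h]; exact lt_irrefl _)
    | true =>
      rw [hc] at h
      rw [Bool.and_eq_true, Bool.and_eq_true, Nat.blt_eq, Nat.blt_eq, Nat.blt_eq] at hc
      obtain ⟨h1, h2, h3⟩ := hc
      have ih := scan_spec hG w _ e h he
      have h4 := hG cur x h2 h3 h1
      rw [List.map_cons, List.prod_cons, ← mul_assoc]
      exact (h4.mul_right _).trans ih

theorem prod_reverse_inv (hinv : ∀ x, γ x * γ x = 1) : ∀ l : List ℕ,
    ((l.reverse).map γ).prod = ((l.map γ).prod)⁻¹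
  | [] => by simp
  | x :: l => by
    have hx : (γ x)⁻¹ = γ x := inv_eq_of_mul_eq_one_left (hinv x)
    simp only [List.reverse_cons, List.map_append, List.prod_append, prod_reverse_inv hinv l,
      List.map_cons, List.map_nil, List.prod_cons, List.prod_nil, mul_one, mul_inv_rev, hx]

theorem good_succ (hinv : ∀ x, γ x * γ x = 1) (hsub : ∀ x, x < C.nsub → γ x ∈ H)
    (hW : ∀ k, ((C.W k).map γ).prod = 1)
    (hall : ∀ a, a < C.n → ∀ x, x < C.g → C.slotOK a x = true) {t : ℕ} (hG : C.Good γ H t) :
    C.Good γ H (t + 1) := by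
  intro a x ha hx ht
  rcases Nat.lt_or_ge (C.tg a x) t with h | h
  · exact hG a x ha hx h
  have ht' : C.tg a x = t := by omega
  have hs := hall a ha x hx
  rw [slotOK, Bool.and_eq_true, Nat.blt_eq] at hs
  obtain ⟨hb, hs⟩ := hs
  cases h0 : Nat.beq (C.kd a x) 0 with
  | true =>
    -- the definition of a row
    rw [h0] at hs
    simp only [Bool.and_eq_true, Nat.blt_eq] at hs
    obtain ⟨h1, h2, h3⟩ := hs
    rw [C.τ_def γ h3 (Nat.eq_of_beq_eq_true h1) (Nat.eq_of_beq_eq_true h2)]
    exact RC.refl _
  | false =>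
    rw [h0] at hs
    cases h1 : Nat.beq (C.kd a x) 1 with
    | true =>
      -- the entry in the other direction
      rw [h1] at hs
      simp only [Bool.and_eq_true, Nat.blt_eq] at hs
      obtain ⟨h2, h3⟩ := hs
      have h4 := hG (C.Tg a x) x hb hx (by rw [ht'] at h3; exact h3)
      rw [Nat.eq_of_beq_eq_true h2] at h4
      have h5 := (h4.mul_right (γ x)).symm
      rw [mul_assoc, hinv, mul_one] at h5
      exact h5
    | false =>
      rw [h1] at hs
      cases h2 : Nat.beq (C.kd a x) 2 with
      | true =>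
        -- a generator of the subgroup
        rw [h2] at hs
        simp only [Bool.and_eq_true, Nat.blt_eq] at hs
        obtain ⟨h3, h4, h5⟩ := hs
        rw [Nat.eq_of_beq_eq_true h4, Nat.eq_of_beq_eq_true h3, τ_zero, one_mul]
        show γ x * 1⁻¹ ∈ H
        rw [inv_one, mul_one]
        exact hsub x h5
      | false =>
        -- a word with a gap
        rw [h2] at hs
        simp only [Bool.and_eq_true] at hs
        obtain ⟨h3, h4, h5⟩ := hs
        replace h3 := Nat.eq_of_beq_eq_true h3
        replace h4 := Nat.eq_of_beq_eq_true h4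
        replace h5 := Nat.eq_of_beq_eq_true h5
        set w := C.W (C.rw a x) with hw
        set p := C.rp a x with hp
        set a0 := C.rs a x with ha0
        have hwm : (w.map γ).prod = 1 := hW _
        rw [ht'] at h4 h5
        have hF := C.scan_spec hG _ _ _ h4 ha
        have hB := C.scan_spec hG _ _ _ h5 hb
        rw [prod_reverse_inv hinv] at hB
        have hpl : p < w.length := by
          by_contra hcon
          rw [List.getD_eq_default _ _ (by omega)] at h3
          omega
        have hsplit : w = w.take p ++ x :: w.drop (p + 1) := by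
          have hx' : w[p] = x := by
            rw [List.getD_eq_getElem _ _ hpl] at h3
            exact h3
          rw [← hx', ← List.drop_eq_getElem_cons hpl, List.take_append_drop]
        have hprod : ((w.take p).map γ).prod * γ x = (((w.drop (p + 1)).map γ).prod)⁻¹ := by
          have h6 := hwm
          rw [hsplit, List.map_append, List.prod_append, List.map_cons, List.prod_cons, ← mul_assoc] at h6
          exact eq_inv_of_mul_eq_one_left h6
        have h7 := hF.mul_right (γ x)
        rw [mul_assoc, hprod] at h7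
        exact h7.symm.trans hB

theorem good_all (hinv : ∀ x, γ x * γ x = 1) (hsub : ∀ x, x < C.nsub → γ x ∈ H)
    (hW : ∀ k, ((C.W k).map γ).prod = 1)
    (hall : ∀ a, a < C.n → ∀ x, x < C.g → C.slotOK a x = true) : ∀ t, C.Good γ H t
  | 0 => fun _ _ _ _ h0 => absurd h0 (Nat.not_lt_zero _)
  | t + 1 => C.good_succ hinv hsub hW hall (good_all hinv hsub hW hall t)

/-- **the checked table bounds the index** -/
theorem index_le (hinv : ∀ x, γ x * γ x = 1) (hsub : ∀ x, x < C.nsub → γ x ∈ H)
    (hW : ∀ k, ((C.W k).map γ).prod = 1)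
    (hgen : ∀ z : Γ, ∃ u : List ℕ, (∀ x ∈ u, x < C.g) ∧ z = (u.map γ).prod)
    (hn : 0 < C.n) (hall : ∀ a, a < C.n → ∀ x, x < C.g → C.slotOK a x = true) :
    H.index ≤ C.n ∧ H.index ≠ 0 := by
  refine index_le_of_closed (C.τ γ) (C.τ_zero γ) hn (fun a ha x hx => ?_) hgen
  have hs := hall a ha x hx
  rw [slotOK, Bool.and_eq_true, Nat.blt_eq] at hs
  exact ⟨C.Tg a x, hs.1, C.good_all hinv hsub hW hall (C.tg a x + 1) a x ha hx (Nat.lt_succ_self _)⟩

end sound

end FCert

/-! ### the subgroups generated by initial segments of a family of involutions -/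

section closure

variable {E : Type*} [Group E] (γ : ℕ → E)

/-- the subgroup generated by the first `k` members of the family -/
def seg (k : ℕ) : Subgroup E := Subgroup.closure (γ '' Set.Iio k)

theorem seg_mono {k l : ℕ} (h : k ≤ l) : seg γ k ≤ seg γ l :=
  Subgroup.closure_mono (Set.image_mono fun _ hx => lt_of_lt_of_le hx h)

theorem mem_seg {k x : ℕ} (h : x < k) : γ x ∈ seg γ k := Subgroup.subset_closure ⟨x, h, rfl⟩

theorem seg_zero : seg γ 0 = ⊥ := by
  unfold seg
  have : Set.Iio (0 : ℕ) = ∅ := by ext; simp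
  rw [this, Set.image_empty, Subgroup.closure_empty]

theorem exists_word_seg (hinv : ∀ x, γ x * γ x = 1) (k : ℕ) (z : E) (hz : z ∈ seg γ k) :
    ∃ u : List ℕ, (∀ x ∈ u, x < k) ∧ z = (u.map γ).prod := by
  induction hz using Subgroup.closure_induction with
  | mem z hz =>
    obtain ⟨x, hx, rfl⟩ := hz
    exact ⟨[x], by simpa using hx, by simp⟩
  | one => exact ⟨[], by simp, by simp⟩
  | mul a b _ _ ha hb =>
    obtain ⟨u, hu, rfl⟩ := ha
    obtain ⟨v, hv, rfl⟩ := hb
    refine ⟨u ++ v, ?_, by rw [List.map_append, List.prod_append]⟩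
    intro x hx
    rcases List.mem_append.1 hx with h' | h'
    · exact hu x h'
    · exact hv x h'
  | inv a _ ha =>
    obtain ⟨u, hu, rfl⟩ := ha
    exact ⟨u.reverse, fun x hx => hu x (List.mem_reverse.1 hx),
      (FCert.prod_reverse_inv hinv u).symm⟩

/-- **a checked table bounds the order of the subgroup generated by `C.g` involutions by `C.n` times the order of
the subgroup generated by the first `C.nsub` of them** -/
theorem card_seg_le (C : FCert) (hinv : ∀ x, γ x * γ x = 1) (hW : ∀ k, ((C.W k).map γ).prod = 1)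
    (hWlt : ∀ k, ∀ x ∈ C.W k, x < C.g) (hle : C.nsub ≤ C.g) (hn : 0 < C.n)
    (hall : ∀ a, a < C.n → ∀ x, x < C.g → C.slotOK a x = true) (hfin : Finite ↥(seg γ C.nsub)) :
    Finite ↥(seg γ C.g) ∧ Nat.card ↥(seg γ C.g) ≤ C.n * Nat.card ↥(seg γ C.nsub) := by
  set K := seg γ C.g with hK
  set H := seg γ C.nsub with hH
  have hHK : H ≤ K := seg_mono γ hle
  -- the family inside `K`
  let γ' : ℕ → ↥K := fun x => if h : x < C.g then ⟨γ x, mem_seg γ h⟩ else 1
  have hγ' : ∀ x, x < C.g → (γ' x : E) = γ x := fun x hx => by simp [γ', hx]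
  have hinv' : ∀ x, γ' x * γ' x = 1 := by
    intro x
    by_cases hx : x < C.g
    · apply Subtype.ext
      rw [Subgroup.coe_mul, hγ' x hx, hinv]
      rfl
    · simp [γ', hx]
  have hmap : ∀ u : List ℕ, (∀ x ∈ u, x < C.g) → (((u.map γ').prod : ↥K) : E) = (u.map γ).prod := by
    intro u hu
    induction u with
    | nil => simp
    | cons x u ih =>
      rw [List.map_cons, List.prod_cons, List.map_cons, List.prod_cons, Subgroup.coe_mul,
        hγ' x (hu x (List.mem_cons_self ..)), ih fun y hy => hu y (List.mem_cons_of_mem _ hy)]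
  have hW' : ∀ k, ((C.W k).map γ').prod = 1 := by
    intro k
    apply Subtype.ext
    rw [hmap _ (hWlt k), hW]
    rfl
  have hsub' : ∀ x, x < C.nsub → γ' x ∈ H.subgroupOf K := by
    intro x hx
    rw [Subgroup.mem_subgroupOf, hγ' x (lt_of_lt_of_le hx hle)]
    exact mem_seg γ hx
  have hgen' : ∀ z : ↥K, ∃ u : List ℕ, (∀ x ∈ u, x < C.g) ∧ z = (u.map γ').prod := by
    intro z
    obtain ⟨u, hu, hz⟩ := exists_word_seg γ hinv C.g z.1 z.2
    exact ⟨u, hu, Subtype.ext (by rw [hmap u hu]; exact hz)⟩
  obtain ⟨hidx, hidx0⟩ := C.index_le (γ := γ') (H := H.subgroupOf K) hinv' hsub' hW' hgen' hn hall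
  have hcard : Nat.card ↥(H.subgroupOf K) = Nat.card ↥H :=
    Nat.card_congr (Subgroup.subgroupOfEquivOfLe hHK).toEquiv
  have hmul : Nat.card ↥(H.subgroupOf K) * (H.subgroupOf K).index = Nat.card ↥K :=
    Subgroup.card_mul_index _
  have hpos : Nat.card ↥H ≠ 0 := Nat.card_pos.ne'
  have hKne : Nat.card ↥K ≠ 0 := by
    rw [← hmul, hcard]
    exact Nat.mul_ne_zero hpos hidx0
  refine ⟨Nat.finite_of_card_ne_zero hKne, ?_⟩
  rw [← hmul, hcard, Nat.mul_comm]
  exact Nat.mul_le_mul_right _ hidx

end closure

end Cfsg.Agent.Lib.Helper5.J3Mult
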