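import Mathlib
import Cfsg.Prelude.Def_Characters
import Cfsg.Agent.Lib.helper3.AbelianInertia
import Cfsg.Agent.Lib.helper3.Degrees
import Cfsg.Agent.Lib.helper3.Irr9

/-!
# A nonlinear irreducible character of a `p`-group vanishes off a maximal subgroup (helper5)
-/

set_option autoImplicit false
set_option linter.style.haveILetI false

namespace Cfsg.Agent.Lib.Helper5.FieldVal

open Cfsg Module Cfsg.Agent.Lib.helper3.IndFun Cfsg.Agent.Lib.helper3.CharBasic
open Cfsg.Agent.Lib.helper3.Irr Cfsg.Agent.Lib.helper3.Central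
open scoped ComplexConjugate

variable {P : Type*} [Group P] [Fintype P]

/-- a nonlinear irreducible character of a `p`-group is fixed by multiplication with a nontrivial
linear character -/
theorem exists_linear_mul_eq (p a : ℕ) (hp : p.Prime) (hP : Nat.card P = p ^ a) {χ : P → ℂ}
    (hχ : IsIrrCharacter P χ) (hnl : χ 1 ≠ 1) :
    ∃ β : P → ℂ, IsCharacter P β ∧ β 1 = 1 ∧ (∃ g, β g ≠ 1) ∧ ∀ g, β g * χ g = χ g := by
  classical
  have hχc := isCharacter_of_isIrrCharacter hχ
  have hΘ : IsCharacter P (χ * fun g => conj (χ g)) := isCharacter_mul hχc (isCharacter_conj hχc)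
  obtain ⟨m, hm⟩ := exists_decomposition_of_isCharacter hΘ
  obtain ⟨f, hf, hfdvd, hfpos⟩ := irr_degree_dvd_card hχ
  have hdeg : ∀ ψ : IrrCharacter P, ∃ d : ℕ, (ψ : P → ℂ) 1 = d ∧ d ∣ Nat.card P ∧ 0 < d :=
    fun ψ => irr_degree_dvd_card ψ.2
  choose d hd hddvd hdpos using hdeg
  -- evaluate at 1
  have h1 : f * f = ∑ ψ, m ψ * d ψ := by
    have := congrFun hm 1
    rw [Pi.mul_apply, hf, Finset.sum_apply] at this
    simp only [Pi.smul_apply, smul_eq_mul, hd, map_natCast] at this
    exact_mod_cast this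
  -- `p ∣ f`
  have hpf : p ∣ f := by
    rw [hP] at hfdvd
    obtain ⟨k, hk, rfl⟩ := (Nat.dvd_prime_pow hp).1 hfdvd
    have : k ≠ 0 := by
      rintro rfl
      apply hnl
      rw [hf]
      simp
    exact dvd_pow_self p this
  -- multiplicities
  have hmult : ∀ ψ : IrrCharacter P, (m ψ : ℂ) = classInner (χ * fun g => conj (χ g)) (ψ : P → ℂ) := by
    intro ψ
    rw [hm, classInner_decomposition_left]
  have hmlin : ∀ ψ : IrrCharacter P, d ψ = 1 →
      (m ψ : ℂ) = if χ = (ψ : P → ℂ) * χ then 1 else 0 := by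
    intro ψ hψ1
    have hψ1' : (ψ : P → ℂ) 1 = 1 := by rw [hd, hψ1]; simp
    have hirr : IsIrrCharacter P ((ψ : P → ℂ) * χ) :=
      isIrrCharacter_linear_mul (isCharacter_of_isIrrCharacter ψ.2) hψ1' hχ
    rw [hmult ψ, ← irr_classInner_eq hχ hirr, classInner_apply, classInner_apply]
    congr 1
    apply Finset.sum_congr rfl
    intro g _
    simp only [Pi.mul_apply, map_mul]
    ring
  -- the set of linear characters fixing `χ`
  set S : Finset (IrrCharacter P) :=
    Finset.univ.filter (fun ψ => d ψ = 1 ∧ χ = (ψ : P → ℂ) * χ) with hS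
  have hterm : ∀ ψ : IrrCharacter P, ψ ∉ S → p ∣ m ψ * d ψ := by
    intro ψ hψ
    rw [hS, Finset.mem_filter] at hψ
    by_cases h1 : d ψ = 1
    · have h2 : ¬ χ = (ψ : P → ℂ) * χ := fun h => hψ ⟨Finset.mem_univ _, h1, h⟩
      have := hmlin ψ h1
      rw [if_neg h2] at this
      have h3 : m ψ = 0 := by exact_mod_cast this
      rw [h3, zero_mul]
      exact dvd_zero p
    · have h2 := hddvd ψ
      rw [hP] at h2
      obtain ⟨k, hk, hk'⟩ := (Nat.dvd_prime_pow hp).1 h2
      have : k ≠ 0 := by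
        rintro rfl
        exact h1 (by rw [hk', pow_zero])
      rw [hk']
      exact Dvd.dvd.mul_left (dvd_pow_self p this) _
  have hin : ∀ ψ ∈ S, m ψ * d ψ = 1 := by
    intro ψ hψ
    rw [hS, Finset.mem_filter] at hψ
    have := hmlin ψ hψ.2.1
    rw [if_pos hψ.2.2] at this
    have h3 : m ψ = 1 := by exact_mod_cast this
    rw [h3, hψ.2.1]
  have hsplit : ∑ ψ, m ψ * d ψ = S.card + ∑ ψ ∈ Finset.univ \ S, m ψ * d ψ := by
    rw [← Finset.sum_sdiff (Finset.subset_univ S), add_comm, Finset.sum_congr rfl hin,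
      Finset.sum_const, smul_eq_mul, mul_one]
  have hpS : p ∣ S.card := by
    have h2 : p ∣ ∑ ψ ∈ Finset.univ \ S, m ψ * d ψ := by
      apply Finset.dvd_sum
      intro ψ hψ
      exact hterm ψ (Finset.mem_sdiff.1 hψ).2
    have h3 : p ∣ f * f := Dvd.dvd.mul_left hpf f
    rw [h1, hsplit] at h3
    exact (Nat.dvd_add_left h2).1 h3
  -- the principal character lies in `S`
  let ψ₀ : IrrCharacter P := ⟨fun _ => 1, isIrrCharacter_one⟩
  have hψ₀ : ψ₀ ∈ S := by
    rw [hS, Finset.mem_filter]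
    refine ⟨Finset.mem_univ _, ?_, ?_⟩
    · have := hd ψ₀
      have h2 : ((1 : ℕ) : ℂ) = d ψ₀ := by rw [← this]; simp [ψ₀]
      exact_mod_cast h2.symm
    · funext g
      simp [ψ₀]
  have hcard : 1 < S.card := by
    have hpos : 0 < S.card := Finset.card_pos.2 ⟨ψ₀, hψ₀⟩
    have := Nat.le_of_dvd hpos hpS
    have := hp.two_le
    omega
  obtain ⟨β, hβS, hβne⟩ := Finset.exists_mem_ne hcard ψ₀
  rw [hS, Finset.mem_filter] at hβS
  refine ⟨(β : P → ℂ), isCharacter_of_isIrrCharacter β.2, ?_, ?_, ?_⟩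
  · rw [hd, hβS.2.1]; simp
  · by_contra hcon
    push Not at hcon
    apply hβne
    apply Subtype.ext
    funext g
    exact hcon g
  · intro g
    have := congrFun hβS.2.2 g
    rw [Pi.mul_apply] at this
    exact this.symm

/-- a nonlinear irreducible character of a `p`-group vanishes off some normal subgroup of
index `p` -/
theorem exists_index_p_vanish (p a : ℕ) (hp : p.Prime) (hP : Nat.card P = p ^ a) {χ : P → ℂ}
    (hχ : IsIrrCharacter P χ) (hnl : χ 1 ≠ 1) :
    ∃ M : Subgroup P, M.Normal ∧ M.index = p ∧ ∀ g, g ∉ M → χ g = 0 := by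
  classical
  haveI : Fact p.Prime := ⟨hp⟩
  obtain ⟨β, hβc, hβ1, ⟨g₀, hg₀⟩, hβχ⟩ := exists_linear_mul_eq p a hp hP hχ hnl
  -- the kernel of `β`
  let K : Subgroup P :=
    { carrier := {g | β g = 1}
      mul_mem' := by
        intro x y hx hy
        show β (x * y) = 1
        rw [Cfsg.Agent.Lib.helper3.Lin.map_mul_of_apply_one_eq_one hβc hβ1, hx, hy, mul_one]
      one_mem' := hβ1
      inv_mem' := by
        intro x hx
        show β x⁻¹ = 1
        have := Cfsg.Agent.Lib.helper3.Lin.map_mul_of_apply_one_eq_one hβc hβ1 x x⁻¹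
        rw [mul_inv_cancel, hβ1, hx, one_mul] at this
        exact this.symm }
  have hK : ∀ g, g ∈ K ↔ β g = 1 := fun g => Iff.rfl
  have hKtop : K ≠ ⊤ := by
    intro h
    apply hg₀
    rw [← hK, h]
    trivial
  -- the order of `K`
  have hKdvd : Nat.card K ∣ p ^ a := by
    rw [← hP]; exact Subgroup.card_subgroup_dvd_card K
  obtain ⟨k, hk, hKcard⟩ := (Nat.dvd_prime_pow hp).1 hKdvd
  have hka : k < a := by
    rcases Nat.lt_or_ge k a with h | h
    · exact h
    · exfalso
      have : k = a := le_antisymm hk h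
      apply hKtop
      apply Subgroup.eq_top_of_card_eq
      rw [hKcard, this, hP]
  have ha : 1 ≤ a := by omega
  obtain ⟨M, hMcard, hKM⟩ := Sylow.exists_subgroup_card_pow_prime_le p
    (n := k) (m := a - 1) (by rw [hP]; exact pow_dvd_pow p (by omega)) K hKcard (by omega)
  have hidx : M.index = p := by
    have h1 := M.card_mul_index
    rw [hMcard, hP] at h1
    have h2 : p ^ a = p ^ (a - 1) * p := by
      rw [← pow_succ]
      congr 1
      omega
    rw [h2] at h1
    exact Nat.eq_of_mul_eq_mul_left (pow_pos hp.pos _) h1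
  refine ⟨M, ?_, hidx, ?_⟩
  · apply Subgroup.normal_of_index_eq_minFac_card
    rw [hidx, hP, Nat.Prime.pow_minFac hp (by omega)]
  · intro g hg
    have hgK : β g ≠ 1 := fun h => hg (hKM ((hK g).2 h))
    have h1 := hβχ g
    have h2 : (β g - 1) * χ g = 0 := by rw [sub_mul, h1, one_mul, sub_self]
    rcases mul_eq_zero.1 h2 with h3 | h3
    · exact absurd (sub_eq_zero.1 h3) hgK
    · exact h3

end Cfsg.Agent.Lib.Helper5.FieldVal
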