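import Mathlib
import Cfsg.Prelude.Def_Characters
import Cfsg.Agent.Lib.Helper5.FieldVal7
import Cfsg.Agent.Lib.Helper5.FieldVal3
import Cfsg.Agent.Lib.helper3.Lin

/-!
# The order of a `p`-group with a faithful irreducible character of given degree and field (helper5)
-/

set_option autoImplicit false
set_option linter.style.haveILetI false
set_option linter.unusedSectionVars false

namespace Cfsg.Agent.Lib.Helper5.FieldVal

open Cfsg Module Cfsg.Agent.Lib.helper3.IndFun Cfsg.Agent.Lib.helper3.CharBasic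
open Cfsg.Agent.Lib.helper3.Irr Cfsg.Agent.Lib.helper3.Cyclo Cfsg.Agent.Lib.helper3.GalPow
open Cfsg.Agent.Lib.helper3.PDeg Cfsg.Agent.Lib.helper3.Central
open scoped ComplexConjugate

/-- the base case: a faithful linear character -/
theorem base_case {P : Type*} [Group P] [Finite P] (p a : ℕ) (hp : p.Prime)
    (hP : Nat.card P = p ^ a) {χ : P → ℂ} (hχ : IsCharacter P χ) (h1 : χ 1 = 1)
    (hfaith : ∀ g : P, χ g = χ 1 → g = 1) (t : ℕ)
    (hfield : finrank ℚ (IntermediateField.adjoin ℚ (Set.range χ)) = (p - 1) * p ^ t) :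
    a ≤ t + 1 := by
  classical
  rcases Nat.eq_zero_or_pos a with ha | ha
  · omega
  haveI : NeZero (p ^ a) := ⟨(pow_pos hp.pos a).ne'⟩
  have hexp : ∀ g : P, g ^ (p ^ a) = 1 := by
    intro g
    rw [← hP]
    exact pow_card_eq_one'
  have hE := inE_of_isCharacter (p ^ a) hexp hχ
  rw [finrank_adjoin_range (p ^ a) hE] at hfield
  -- the group is cyclic
  have hmul := Cfsg.Agent.Lib.helper3.Lin.map_mul_of_apply_one_eq_one hχ h1
  have hinj : Function.Injective (Cfsg.Agent.Lib.helper3.Lin.toHom hχ h1) := by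
    intro x y hxy
    rw [Cfsg.Agent.Lib.helper3.Lin.toHom_apply, Cfsg.Agent.Lib.helper3.Lin.toHom_apply] at hxy
    have h2 : χ (x * y⁻¹) = χ 1 := by
      rw [hmul, hxy, ← hmul, mul_inv_cancel]
    have h3 := hfaith _ h2
    exact mul_inv_eq_one.1 h3
  haveI : IsCyclic P := isCyclic_of_injective_ringHom _ hinj
  obtain ⟨g₀, hg₀⟩ := IsCyclic.exists_generator (α := P)
  have hord : orderOf g₀ = p ^ a := by
    rw [orderOf_eq_card_of_forall_mem_zpowers hg₀, hP]
  -- the stabilizer is trivial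
  have hbot : stab (p ^ a) χ = ⊥ := by
    rw [eq_bot_iff]
    intro σ hσ
    rw [mem_stab_iff (p ^ a) hE] at hσ
    obtain ⟨k, hkc, hk⟩ := aut_zeta (p ^ a) σ
    rw [galFun_eq_pow (p ^ a) hexp hχ σ k hk] at hσ
    have hk0 : k ≠ 0 := by
      rintro rfl
      rw [Nat.coprime_zero_left] at hkc
      have : 1 < p ^ a := Nat.one_lt_pow ha.ne' hp.one_lt
      omega
    obtain ⟨k', rfl⟩ := Nat.exists_eq_succ_of_ne_zero hk0
    have h2 := congrFun hσ g₀
    rw [pow_succ, hmul] at h2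
    have hne : χ g₀ ≠ 0 := by
      intro h0
      have := hmul g₀ g₀⁻¹
      rw [mul_inv_cancel, h1, h0, zero_mul] at this
      exact one_ne_zero this
    have h3 : χ (g₀ ^ k') = χ 1 := by
      rw [h1]
      have : χ (g₀ ^ k') * χ g₀ = 1 * χ g₀ := by rw [one_mul]; exact h2
      exact mul_right_cancel₀ hne this
    have h4 := hfaith _ h3
    have h5 : p ^ a ∣ k' := by
      rw [← hord]
      exact orderOf_dvd_of_pow_eq_one h4
    obtain ⟨c, rfl⟩ := h5
    rw [Subgroup.mem_bot]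
    apply eq_one_of_zeta
    rw [hk, pow_succ, pow_mul, (zetaK_spec (p ^ a)).pow_eq_one, one_pow, one_mul]
  rw [hbot, Subgroup.index_bot, card_gal, Nat.totient_prime_pow hp ha] at hfield
  have hp1 : 0 < p - 1 := by have := hp.two_le; omega
  have h6 : p ^ (a - 1) = p ^ t := by
    have : (p - 1) * p ^ (a - 1) = (p - 1) * p ^ t := by rw [← hfield]; ring
    exact Nat.eq_of_mul_eq_mul_left hp1 this
  have := Nat.pow_right_injective hp.two_le h6
  omega

theorem arith_p (p a f' t : ℕ) (hp : 2 ≤ p) (hf' : 1 ≤ f') (ha : 1 ≤ a)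
    (h : (p - 1) * (a - 1) ≤ (f' - 1) + (p - 1) * (t + 1 + 1) * f') :
    (p - 1) * a ≤ (p * f' - 1) + (p - 1) * (t + 1) * (p * f') := by
  obtain ⟨q, rfl⟩ : ∃ q, p = q + 2 := ⟨p - 2, by omega⟩
  obtain ⟨r, rfl⟩ : ∃ r, f' = r + 1 := ⟨f' - 1, by omega⟩
  obtain ⟨b, rfl⟩ : ∃ b, a = b + 1 := ⟨a - 1, by omega⟩
  simp only [Nat.add_sub_cancel] at h
  have e1 : q + 2 - 1 = q + 1 := by omega
  have e2 : (q + 2) * (r + 1) - 1 = q * r + q + 2 * r + 1 := by
    have : (q + 2) * (r + 1) = q * r + q + 2 * r + 1 + 1 := by ring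
    omega
  rw [e1] at h ⊢
  rw [e2]
  nlinarith [Nat.zero_le (q * t), Nat.zero_le (q * r), Nat.zero_le (q * t * r),
    Nat.zero_le (q * q * t * r), Nat.zero_le (q * q * t), Nat.zero_le (q * q * r),
    Nat.zero_le (t * r), Nat.zero_le (q * q)]

theorem arith_one (p a a' f' t : ℕ) (hp : 2 ≤ p) (hf' : 1 ≤ f') (ha : 1 ≤ a)
    (h : (p - 1) * a' ≤ (f' - 1) + (p - 1) * (t + 1) * f') (hb : a - 1 ≤ a' * p) :
    (p - 1) * a ≤ (p * f' - 1) + (p - 1) * (t + 1) * (p * f') := by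
  obtain ⟨q, rfl⟩ : ∃ q, p = q + 2 := ⟨p - 2, by omega⟩
  obtain ⟨r, rfl⟩ : ∃ r, f' = r + 1 := ⟨f' - 1, by omega⟩
  obtain ⟨b, rfl⟩ : ∃ b, a = b + 1 := ⟨a - 1, by omega⟩
  simp only [Nat.add_sub_cancel] at h hb
  have e1 : q + 2 - 1 = q + 1 := by omega
  have e2 : (q + 2) * (r + 1) - 1 = q * r + q + 2 * r + 1 := by
    have : (q + 2) * (r + 1) = q * r + q + 2 * r + 1 + 1 := by ring
    omega
  rw [e1] at h ⊢
  rw [e2]
  have h2 : (q + 1) * b ≤ (q + 1) * (a' * (q + 2)) := Nat.mul_le_mul_left _ hb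
  have h3 : (q + 2) * ((q + 1) * a') ≤ (q + 2) * (r + (q + 1) * (t + 1) * (r + 1)) :=
    Nat.mul_le_mul_left _ h
  nlinarith [h2, h3]

end Cfsg.Agent.Lib.Helper5.FieldVal
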