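import Mathlib
import Cfsg.Prelude.Def_Characters
import Cfsg.Agent.Lib.Helper5.FieldVal8

/-!
# The main induction (helper5)
-/

set_option autoImplicit false
set_option linter.style.haveILetI false
set_option linter.unusedSectionVars false

namespace Cfsg.Agent.Lib.Helper5.FieldVal

open Cfsg Module Cfsg.Agent.Lib.helper3.IndFun Cfsg.Agent.Lib.helper3.CharBasic
open Cfsg.Agent.Lib.helper3.Irr Cfsg.Agent.Lib.helper3.Cyclo Cfsg.Agent.Lib.helper3.GalPow
open Cfsg.Agent.Lib.helper3.PDeg Cfsg.Agent.Lib.helper3.Central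
open scoped ComplexConjugate

universe u

theorem main (p : ℕ) (hp : p.Prime) : ∀ (a : ℕ) (P : Type u) [Group P] [Finite P],
    Nat.card P = p ^ a → ∀ (χ : P → ℂ), IsIrrCharacter P χ → (∀ g : P, χ g = χ 1 → g = 1) →
    ∀ (f t : ℕ), χ 1 = f →
      finrank ℚ (IntermediateField.adjoin ℚ (Set.range χ)) = (p - 1) * p ^ t →
      (p - 1) * a ≤ (f - 1) + (p - 1) * (t + 1) * f := by
  intro a
  induction a using Nat.strong_induction_on with
  | _ a ih =>
  intro P _ _ hP χ hχ hfaith f t hf hfield
  classical
  letI : Fintype P := Fintype.ofFinite P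
  have hχc := isCharacter_of_isIrrCharacter hχ
  by_cases hf1 : f = 1
  · subst hf1
    have h1 : χ 1 = 1 := by rw [hf]; simp
    have := base_case p a hp hP hχc h1 hfaith t hfield
    calc (p - 1) * a ≤ (p - 1) * (t + 1) := Nat.mul_le_mul_left _ this
      _ = (1 - 1) + (p - 1) * (t + 1) * 1 := by simp
  · have hnl : χ 1 ≠ 1 := by
      rw [hf]
      intro h
      apply hf1
      exact_mod_cast h
    obtain ⟨M, hMn, hidx, hvan⟩ := exists_index_p_vanish p a hp hP hχ hnl
    haveI := hMn
    letI : Fintype M := Fintype.ofFinite M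
    obtain ⟨ψ, hψ, hsum, hcard⟩ := restrict_structure p hp M hidx hχ hvan
    have hψc := isCharacter_of_isIrrCharacter hψ
    -- `a ≥ 1`
    have ha : 1 ≤ a := by
      rcases Nat.eq_zero_or_pos a with h0 | h0
      · exfalso
        have h1 := M.index_dvd_card
        rw [hidx, hP, h0, pow_zero] at h1
        exact hp.one_lt.ne' (Nat.dvd_one.1 h1)
      · exact h0
    have hMcard : Nat.card M = p ^ (a - 1) := by
      have h1 := M.card_mul_index
      rw [hidx, hP] at h1
      have h2 : p ^ a = p ^ (a - 1) * p := by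
        rw [← pow_succ]
        congr 1
        omega
      rw [h2] at h1
      exact Nat.eq_of_mul_eq_mul_right hp.pos h1
    haveI : NeZero (p ^ a) := ⟨(pow_pos hp.pos a).ne'⟩
    have hEχ := inE_of_isCharacter (p ^ a) (hexpP (p ^ a) hP) hχc
    have hEψ := inE_of_isCharacter (p ^ a) (hexpM (p ^ a) hP M) hψc
    have hne : ψ ∈ Finset.univ.image (conjFun M ψ) := by
      rw [Finset.mem_image]
      refine ⟨1, Finset.mem_univ _, ?_⟩
      funext m
      unfold conjFun
      congr 1
      apply Subtype.ext
      simp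
    have hHidx : (stab (p ^ a) χ).index = (p - 1) * p ^ t := by
      rw [← finrank_adjoin_range (p ^ a) hEχ]; exact hfield
    have hle := stab_le (p ^ a) hP M hχ hvan hψ hsum
    have hrel := relIndex_le (p ^ a) hP M hχ hψ hsum hne
    rw [hcard] at hrel
    set d := (stab (p ^ a) ψ).relIndex (stab (p ^ a) χ) with hd
    have hmul : d * (stab (p ^ a) χ).index = (stab (p ^ a) ψ).index :=
      Subgroup.relIndex_mul_index hle
    have hp1 : 0 < p - 1 := by have := hp.two_le; omega
    have hdvd : (stab (p ^ a) ψ).index ∣ p ^ (a - 1) * (p - 1) := by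
      rw [← Nat.totient_prime_pow hp ha, ← card_gal (p ^ a)]
      exact Subgroup.index_dvd_card _
    -- `d` is `1` or `p`
    have hd1p : d = 1 ∨ d = p := by
      rw [← hmul, hHidx] at hdvd
      have h1 : d * p ^ t * (p - 1) ∣ p ^ (a - 1) * (p - 1) := by
        have e : d * p ^ t * (p - 1) = d * ((p - 1) * p ^ t) := by ring
        rw [e]; exact hdvd
      have h2 := Nat.dvd_of_mul_dvd_mul_right hp1 h1
      have h3 : d ∣ p ^ (a - 1) := Dvd.dvd.trans (dvd_mul_right d (p ^ t)) h2
      obtain ⟨j, -, hj⟩ := (Nat.dvd_prime_pow hp).1 h3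
      rcases j with _ | _ | j
      · left; rw [hj, pow_zero]
      · right; rw [hj]; simp
      · exfalso
        have h4 := hrel.1
        rw [hj] at h4
        have h5 : p ^ 2 ≤ p ^ (j + 1 + 1) := Nat.pow_le_pow_right hp.pos (by omega)
        have h6 : p * 2 ≤ p * p := Nat.mul_le_mul_left _ hp.two_le
        have := hp.pos
        nlinarith
    have hfieldψ : finrank ℚ (IntermediateField.adjoin ℚ (Set.range ψ))
        = d * ((p - 1) * p ^ t) := by
      rw [finrank_adjoin_range (p ^ a) hEψ, ← hmul, hHidx]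
    -- degrees
    obtain ⟨f', hf', -, hf'pos⟩ := irr_degree_dvd_card hψ
    have hff' : f = p * f' := by
      have := degree_eq M hsum
      rw [hcard, hf, hf'] at this
      exact_mod_cast this
    rw [hff']
    rcases hd1p with hd1 | hdp
    · -- the field does not grow
      rw [hd1, one_mul] at hfieldψ
      obtain ⟨θ', hirr', hfaith', hdeg', hrange'⟩ := exists_deflation hψ
      have hqdvd : (kerSub hψc).index ∣ p ^ (a - 1) := by
        rw [← hMcard]; exact Subgroup.index_dvd_card _
      obtain ⟨a', ha'le, ha'⟩ := (Nat.dvd_prime_pow hp).1 hqdvd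
      have hqcard : Nat.card (↥M ⧸ kerSub hψc) = p ^ a' := by
        rw [← ha']; rfl
      have ih' := ih a' (by omega) (↥M ⧸ kerSub hψc) hqcard θ' hirr' hfaith' f' t
        (by rw [hdeg', hf']) (by rw [hrange']; exact hfieldψ)
      have hbound := card_le_index_pow M hsum hψ hfaith
      rw [hMcard, hcard, ha', ← pow_mul] at hbound
      have hb : a - 1 ≤ a' * p := (Nat.pow_le_pow_iff_right hp.one_lt).1 hbound
      exact arith_one p a a' f' t hp.two_le hf'pos ha ih' hb
    · -- the field grows by the factor `p`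
      have hgal := hrel.2 hdp
      have hfaithψ := faithful_of_galois M hsum (p ^ a) hfaith hgal
      rw [hdp] at hfieldψ
      have ih' := ih (a - 1) (by omega) ↥M hMcard ψ hψ hfaithψ f' (t + 1) hf'
        (by rw [hfieldψ]; ring)
      exact arith_p p a f' t hp.two_le hf'pos ha ih'

end Cfsg.Agent.Lib.Helper5.FieldVal
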