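import Mathlib

set_option autoImplicit false

namespace Cfsg.Agent.Lib.Helper5.FixCount

open MulAction

section general
variable {G Ω : Type*} [Group G] [MulAction G Ω]

/-- embeddings fixed by `g` are embeddings into the fixed points of `g` -/
def fixedEmbEquiv (n : ℕ) (g : G) : fixedBy (Fin n ↪ Ω) g ≃ (Fin n ↪ fixedBy Ω g) where
  toFun e := ⟨fun i => ⟨e.1 i, by
      have := e.2
      rw [mem_fixedBy] at this ⊢
      exact DFunLike.congr_fun this i⟩, fun i j h => e.1.injective (congrArg Subtype.val h)⟩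
  invFun e := ⟨⟨fun i => (e i).1, fun i j h => e.injective (Subtype.ext h)⟩, by
      rw [mem_fixedBy]
      ext i
      exact (e i).2⟩
  left_inv e := by
    apply Subtype.ext
    ext i
    rfl
  right_inv e := by
    ext i
    rfl

theorem card_orbits_eq_one (X : Type*) [MulAction G X] [IsPretransitive G X] [Nonempty X]
    [Fintype (Quotient (orbitRel G X))] : Fintype.card (Quotient (orbitRel G X)) = 1 := by
  rw [Fintype.card_eq_one_iff]
  obtain ⟨x⟩ := ‹Nonempty X›
  refine ⟨Quotient.mk'' x, fun y => ?_⟩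
  induction y using Quotient.inductionOn' with
  | h y =>
    apply Quotient.sound'
    exact MulAction.exists_smul_eq G x y |>.imp fun g hg => hg

end general

section count
variable {G Ω : Type*} [Group G] [Fintype G] [MulAction G Ω] [Fintype Ω] [DecidableEq Ω]

/-- counting the fixed-point-free elements of a 2-transitive group in which non-identity
elements fix at most two points -/
theorem two_mul_card_fixfree [IsPretransitive G Ω]
    (h2 : IsMultiplyPretransitive G Ω 2) (hcard : 2 ≤ Fintype.card Ω)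
    (h3 : ∀ g : G, g ≠ 1 → Fintype.card (fixedBy Ω g) ≤ 2) :
    (2 * Nat.card {g : G // ∀ ω : Ω, g • ω ≠ ω} : ℤ) +
      ((Fintype.card Ω : ℤ) - 1) * ((Fintype.card Ω : ℤ) - 2) = Fintype.card G := by
  classical
  have hne : Nonempty Ω := by
    rw [← Fintype.card_pos_iff]; omega
  have hne2 : Nonempty (Fin 2 ↪ Ω) := by
    rw [← Fintype.card_pos_iff, Fintype.card_embedding_eq, Fintype.card_fin]
    exact Nat.descFactorial_pos.2 hcard
  have B1 : (∑ g : G, Fintype.card (fixedBy Ω g)) = Fintype.card G := by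
    rw [sum_card_fixedBy_eq_card_orbits_mul_card_group, card_orbits_eq_one, one_mul]
  have B2 : (∑ g : G, (Fintype.card (fixedBy Ω g)).descFactorial 2) = Fintype.card G := by
    have := sum_card_fixedBy_eq_card_orbits_mul_card_group G (Fin 2 ↪ Ω)
    rw [card_orbits_eq_one, one_mul] at this
    rw [← this]
    apply Finset.sum_congr rfl
    intro g _
    rw [Fintype.card_congr (fixedEmbEquiv 2 g), Fintype.card_embedding_eq, Fintype.card_fin]
  have hdf : ∀ k : ℕ, ((k.descFactorial 2 : ℕ) : ℤ) = (k : ℤ) * ((k : ℤ) - 1) := by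
    intro k
    rcases k with _ | k
    · simp
    · simp [Nat.descFactorial]
      ring
  have hT : ∀ g : G, ((Fintype.card (fixedBy Ω g) : ℤ) - 1) * ((Fintype.card (fixedBy Ω g) : ℤ) - 2) =
      (if g = 1 then ((Fintype.card Ω : ℤ) - 1) * ((Fintype.card Ω : ℤ) - 2) else 0) +
        (if (∀ ω : Ω, g • ω ≠ ω) then 2 else 0) := by
    intro g
    by_cases hg : g = 1
    · subst hg
      have h1 : Fintype.card (fixedBy Ω (1 : G)) = Fintype.card Ω := by
        apply Fintype.card_congr
        exact ⟨fun x => x.1, fun x => ⟨x, by simp⟩, fun x => rfl, fun x => rfl⟩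
      have h2 : ¬ (∀ ω : Ω, (1 : G) • ω ≠ ω) := by
        intro h
        obtain ⟨ω⟩ := hne
        exact h ω (one_smul _ _)
      rw [h1, if_pos rfl, if_neg h2, add_zero]
    · rw [if_neg hg, zero_add]
      have h4 : Fintype.card (fixedBy Ω g) = 0 ↔ ∀ ω : Ω, g • ω ≠ ω := by
        rw [Fintype.card_eq_zero_iff]
        constructor
        · intro h ω hω
          exact h.false ⟨ω, hω⟩
        · intro h
          exact ⟨fun ω => h ω.1 ω.2⟩
      have h5 := h3 g hg
      by_cases hff : ∀ ω : Ω, g • ω ≠ ω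
      · rw [if_pos hff, h4.2 hff]
        norm_num
      · rw [if_neg hff]
        have h6 : Fintype.card (fixedBy Ω g) ≠ 0 := fun h => hff (h4.1 h)
        have h7 : Fintype.card (fixedBy Ω g) = 1 ∨ Fintype.card (fixedBy Ω g) = 2 := by omega
        rcases h7 with h7 | h7 <;> rw [h7] <;> norm_num
  have hsum : (∑ g : G, ((Fintype.card (fixedBy Ω g) : ℤ) - 1) * ((Fintype.card (fixedBy Ω g) : ℤ) - 2)) =
      Fintype.card G := by
    have e : ∀ g : G, ((Fintype.card (fixedBy Ω g) : ℤ) - 1) * ((Fintype.card (fixedBy Ω g) : ℤ) - 2) =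
        (((Fintype.card (fixedBy Ω g)).descFactorial 2 : ℕ) : ℤ) -
          2 * ((Fintype.card (fixedBy Ω g) : ℕ) : ℤ) + 2 := by
      intro g
      rw [hdf]
      ring
    simp_rw [e]
    rw [Finset.sum_add_distrib, Finset.sum_sub_distrib, ← Finset.mul_sum, ← Nat.cast_sum,
      ← Nat.cast_sum, B1, B2]
    simp
    ring
  simp_rw [hT] at hsum
  rw [Finset.sum_add_distrib, Finset.sum_ite_eq' Finset.univ (1 : G), if_pos (Finset.mem_univ _),
    Finset.sum_ite, Finset.sum_const_zero, add_zero, Finset.sum_const, nsmul_eq_mul] at hsum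
  rw [Nat.card_eq_fintype_card, Fintype.card_subtype]
  linarith

end count

section free

/-- a finite group acting freely on a finite set has order dividing the size of the set -/
theorem card_dvd_of_free {H X : Type*} [Group H] [Finite H] [MulAction H X] [Finite X]
    (hfree : ∀ h : H, h ≠ 1 → ∀ x : X, h • x ≠ x) : Nat.card H ∣ Nat.card X := by
  classical
  have := Fintype.ofFinite H
  have := Fintype.ofFinite X
  have B := sum_card_fixedBy_eq_card_orbits_mul_card_group H X
  have h1 : ∀ h : H, Fintype.card (fixedBy X h) = if h = 1 then Fintype.card X else 0 := by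
    intro h
    by_cases hh : h = 1
    · subst hh
      rw [if_pos rfl]
      apply Fintype.card_congr
      exact ⟨fun x => x.1, fun x => ⟨x, by simp⟩, fun x => rfl, fun x => rfl⟩
    · rw [if_neg hh, Fintype.card_eq_zero_iff]
      exact ⟨fun x => hfree h hh x.1 x.2⟩
  simp_rw [h1] at B
  rw [Finset.sum_ite_eq' Finset.univ (1 : H), if_pos (Finset.mem_univ _)] at B
  rw [Nat.card_eq_fintype_card, Nat.card_eq_fintype_card, B]
  exact dvd_mul_left _ _

end free

section ti
variable {G : Type*} [Group G]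

/-- the non-identity elements conjugate into `A` -/
def clsSet (A : Subgroup G) : Set G := {x | x ≠ 1 ∧ ∃ h : G, h⁻¹ * x * h ∈ A}

theorem mem_clsSet (A : Subgroup G) (x : G) : x ∈ clsSet A ↔ x ≠ 1 ∧ ∃ h : G, h⁻¹ * x * h ∈ A :=
  Iff.rfl

/-- counting the elements conjugate into a trivial-intersection subgroup -/
theorem ti_class_count [Finite G] (A : Subgroup G)
    (hTI : ∀ n : G, (∃ a ∈ A, a ≠ 1 ∧ n * a * n⁻¹ ∈ A) → n ∈ Subgroup.normalizer (A : Set G)) :
    Nat.card (clsSet A) * Nat.card (Subgroup.normalizer (A : Set G)) =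
      Nat.card G * (Nat.card A - 1) := by
  classical
  have hNmem : ∀ n ∈ Subgroup.normalizer (A : Set G), ∀ a ∈ A, n⁻¹ * a * n ∈ A := by
    intro n hn a ha
    have hn' := (Subgroup.normalizer (A : Set G)).inv_mem hn
    have := (Subgroup.mem_normalizer_iff.1 hn' a).1 ha
    rwa [inv_inv] at this
  let h₀ : clsSet A → G := fun x => Classical.choose x.2.2
  have hh₀ : ∀ x : clsSet A, (h₀ x)⁻¹ * x.1 * h₀ x ∈ A := fun x => Classical.choose_spec x.2.2
  let ψ : clsSet A × Subgroup.normalizer (A : Set G) → G × {a : A // a ≠ 1} := fun p =>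
    (h₀ p.1 * p.2.1, ⟨⟨(h₀ p.1 * p.2.1)⁻¹ * p.1.1 * (h₀ p.1 * p.2.1), by
      have e : (h₀ p.1 * p.2.1)⁻¹ * p.1.1 * (h₀ p.1 * p.2.1) =
          (p.2.1)⁻¹ * ((h₀ p.1)⁻¹ * p.1.1 * h₀ p.1) * p.2.1 := by group
      rw [e]
      exact hNmem _ p.2.2 _ (hh₀ p.1)⟩, by
      intro h
      have h' : (h₀ p.1 * p.2.1)⁻¹ * p.1.1 * (h₀ p.1 * p.2.1) = 1 := congrArg Subtype.val h
      apply p.1.2.1
      have e : p.1.1 = (h₀ p.1 * p.2.1) * ((h₀ p.1 * p.2.1)⁻¹ * p.1.1 * (h₀ p.1 * p.2.1)) *
          (h₀ p.1 * p.2.1)⁻¹ := by group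
      rw [e, h']
      group⟩)
  have hψ : Function.Bijective ψ := by
    constructor
    · rintro ⟨x, n⟩ ⟨x', n'⟩ h
      have e1 : h₀ x * n.1 = h₀ x' * n'.1 := congrArg Prod.fst h
      have e2 : (h₀ x * n.1)⁻¹ * x.1 * (h₀ x * n.1) = (h₀ x' * n'.1)⁻¹ * x'.1 * (h₀ x' * n'.1) :=
        congrArg (fun p : G × {a : A // a ≠ 1} => (p.2.1 : G)) h
      rw [← e1] at e2
      have hx : x.1 = x'.1 := by
        have := mul_left_cancel (mul_right_cancel e2)
        exact this
      have hxx : x = x' := Subtype.ext hx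
      subst hxx
      have hn : n.1 = n'.1 := mul_left_cancel e1
      rw [Subtype.ext hn]
    · rintro ⟨h, ⟨a, ha1⟩⟩
      have ha1' : (a : G) ≠ 1 := fun h' => ha1 (Subtype.ext h')
      have hx : h * a.1 * h⁻¹ ∈ clsSet A := by
        refine ⟨?_, h, ?_⟩
        · intro h'
          apply ha1'
          have e : (a : G) = h⁻¹ * (h * a.1 * h⁻¹) * h := by group
          rw [e, h']
          group
        · have e : h⁻¹ * (h * a.1 * h⁻¹) * h = a.1 := by group
          rw [e]
          exact a.2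
      let x : clsSet A := ⟨h * a.1 * h⁻¹, hx⟩
      have hn : (h₀ x)⁻¹ * h ∈ Subgroup.normalizer (A : Set G) := by
        apply hTI
        refine ⟨a.1, a.2, ha1', ?_⟩
        have e : (h₀ x)⁻¹ * h * a.1 * ((h₀ x)⁻¹ * h)⁻¹ = (h₀ x)⁻¹ * (h * a.1 * h⁻¹) * h₀ x := by
          group
        rw [e]
        exact hh₀ x
      refine ⟨(x, ⟨(h₀ x)⁻¹ * h, hn⟩), ?_⟩
      have e1 : h₀ x * ((h₀ x)⁻¹ * h) = h := by group
      apply Prod.ext
      · exact e1
      · apply Subtype.ext
        apply Subtype.ext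
        change (h₀ x * ((h₀ x)⁻¹ * h))⁻¹ * (h * a.1 * h⁻¹) * (h₀ x * ((h₀ x)⁻¹ * h)) = a.1
        rw [e1]
        group
  have hcard := Nat.card_congr (Equiv.ofBijective ψ hψ)
  rw [Nat.card_prod, Nat.card_prod] at hcard
  rw [hcard]
  congr 1
  have : Nat.card {a : A // a ≠ 1} = Nat.card A - 1 := by
    have := Fintype.ofFinite A
    rw [Nat.card_eq_fintype_card, Nat.card_eq_fintype_card, Fintype.card_subtype_compl,
      Fintype.card_subtype_eq]
  exact this

end ti

end Cfsg.Agent.Lib.Helper5.FixCount
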