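import Mathlib

/-!
# `GL₂` over a finite field: the unitriangular subgroup and the Borel subgroup (helper5's shared lemmas)
-/

set_option autoImplicit false

namespace Cfsg.Agent.Lib.Helper5.GL2

open Matrix

variable {F : Type*} [Field F]

local notation "G" => Matrix.GeneralLinearGroup (Fin 2) F

theorem mul00 (g h : G) : ((g * h : G) : Matrix (Fin 2) (Fin 2) F) 0 0 =
    (g : Matrix (Fin 2) (Fin 2) F) 0 0 * (h : Matrix (Fin 2) (Fin 2) F) 0 0 +
    (g : Matrix (Fin 2) (Fin 2) F) 0 1 * (h : Matrix (Fin 2) (Fin 2) F) 1 0 := by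
  simp [Matrix.mul_apply, Fin.sum_univ_two]
theorem mul01 (g h : G) : ((g * h : G) : Matrix (Fin 2) (Fin 2) F) 0 1 =
    (g : Matrix (Fin 2) (Fin 2) F) 0 0 * (h : Matrix (Fin 2) (Fin 2) F) 0 1 +
    (g : Matrix (Fin 2) (Fin 2) F) 0 1 * (h : Matrix (Fin 2) (Fin 2) F) 1 1 := by
  simp [Matrix.mul_apply, Fin.sum_univ_two]
theorem mul10 (g h : G) : ((g * h : G) : Matrix (Fin 2) (Fin 2) F) 1 0 =
    (g : Matrix (Fin 2) (Fin 2) F) 1 0 * (h : Matrix (Fin 2) (Fin 2) F) 0 0 +
    (g : Matrix (Fin 2) (Fin 2) F) 1 1 * (h : Matrix (Fin 2) (Fin 2) F) 1 0 := by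
  simp [Matrix.mul_apply, Fin.sum_univ_two]
theorem mul11 (g h : G) : ((g * h : G) : Matrix (Fin 2) (Fin 2) F) 1 1 =
    (g : Matrix (Fin 2) (Fin 2) F) 1 0 * (h : Matrix (Fin 2) (Fin 2) F) 0 1 +
    (g : Matrix (Fin 2) (Fin 2) F) 1 1 * (h : Matrix (Fin 2) (Fin 2) F) 1 1 := by
  simp [Matrix.mul_apply, Fin.sum_univ_two]

theorem ext2 {g h : G} (h00 : (g : Matrix (Fin 2) (Fin 2) F) 0 0 = (h : Matrix (Fin 2) (Fin 2) F) 0 0)
    (h01 : (g : Matrix (Fin 2) (Fin 2) F) 0 1 = (h : Matrix (Fin 2) (Fin 2) F) 0 1)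
    (h10 : (g : Matrix (Fin 2) (Fin 2) F) 1 0 = (h : Matrix (Fin 2) (Fin 2) F) 1 0)
    (h11 : (g : Matrix (Fin 2) (Fin 2) F) 1 1 = (h : Matrix (Fin 2) (Fin 2) F) 1 1) : g = h := by
  apply Matrix.GeneralLinearGroup.ext
  intro i j
  fin_cases i <;> fin_cases j <;> assumption

theorem det_ne_zero (g : G) : (g : Matrix (Fin 2) (Fin 2) F) 0 0 * (g : Matrix (Fin 2) (Fin 2) F) 1 1 -
    (g : Matrix (Fin 2) (Fin 2) F) 0 1 * (g : Matrix (Fin 2) (Fin 2) F) 1 0 ≠ 0 := by
  have := Matrix.GeneralLinearGroup.det_ne_zero g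
  rwa [Matrix.det_fin_two] at this

/-- the matrix `[[x,y],[z,w]]` of nonzero determinant as an element of `GL₂` -/
noncomputable def mk (x y z w : F) (h : x * w - y * z ≠ 0) : G :=
  Matrix.GeneralLinearGroup.mkOfDetNeZero !![x, y; z, w] (by rwa [Matrix.det_fin_two_of])

@[simp] theorem mk00 (x y z w : F) (h : x * w - y * z ≠ 0) :
    ((mk x y z w h : G) : Matrix (Fin 2) (Fin 2) F) 0 0 = x := rfl
@[simp] theorem mk01 (x y z w : F) (h : x * w - y * z ≠ 0) :
    ((mk x y z w h : G) : Matrix (Fin 2) (Fin 2) F) 0 1 = y := rfl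
@[simp] theorem mk10 (x y z w : F) (h : x * w - y * z ≠ 0) :
    ((mk x y z w h : G) : Matrix (Fin 2) (Fin 2) F) 1 0 = z := rfl
@[simp] theorem mk11 (x y z w : F) (h : x * w - y * z ≠ 0) :
    ((mk x y z w h : G) : Matrix (Fin 2) (Fin 2) F) 1 1 = w := rfl

/-- upper unitriangular subgroup -/
def U : Subgroup G where
  carrier := {g | (g : Matrix (Fin 2) (Fin 2) F) 0 0 = 1 ∧ (g : Matrix (Fin 2) (Fin 2) F) 1 0 = 0 ∧
    (g : Matrix (Fin 2) (Fin 2) F) 1 1 = 1}
  one_mem' := by simp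
  mul_mem' := by
    rintro a b ⟨a1, a2, a3⟩ ⟨b1, b2, b3⟩
    refine ⟨?_, ?_, ?_⟩
    · rw [mul00, a1, b1, b2]; ring
    · rw [mul10, a2, a3, b2]; ring
    · rw [mul11, a2, a3, b3]; ring
  inv_mem' := by
    rintro a ⟨a1, a2, a3⟩
    have h := mul_inv_cancel a
    have h00 := congrArg (fun g : G => (g : Matrix (Fin 2) (Fin 2) F) 0 0) h
    have h10 := congrArg (fun g : G => (g : Matrix (Fin 2) (Fin 2) F) 1 0) h
    have h11 := congrArg (fun g : G => (g : Matrix (Fin 2) (Fin 2) F) 1 1) h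
    simp only [mul00, mul10, mul11, a1, a2, a3] at h00 h10 h11
    simp [-Matrix.coe_units_inv] at h00 h10 h11
    refine ⟨?_, h10, h11⟩
    rw [h10] at h00
    simpa using h00

theorem mem_U (g : G) : g ∈ (U : Subgroup G) ↔ (g : Matrix (Fin 2) (Fin 2) F) 0 0 = 1 ∧
    (g : Matrix (Fin 2) (Fin 2) F) 1 0 = 0 ∧ (g : Matrix (Fin 2) (Fin 2) F) 1 1 = 1 := Iff.rfl

/-- Borel subgroup -/
def Bor : Subgroup G where
  carrier := {g | (g : Matrix (Fin 2) (Fin 2) F) 1 0 = 0}
  one_mem' := by simp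
  mul_mem' := by
    intro a b ha hb
    simp only [Set.mem_ofPred_eq] at ha hb ⊢
    rw [mul10, ha, hb]; ring
  inv_mem' := by
    intro a ha
    simp only [Set.mem_ofPred_eq] at ha ⊢
    have h := mul_inv_cancel a
    have h10 := congrArg (fun g : G => (g : Matrix (Fin 2) (Fin 2) F) 1 0) h
    simp only [mul10, ha] at h10
    simp [-Matrix.coe_units_inv] at h10
    have hd := det_ne_zero a
    rw [ha] at hd
    rcases h10 with h | h
    · exfalso; apply hd; rw [h]; ring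
    · exact h

theorem mem_Bor (g : G) : g ∈ (Bor : Subgroup G) ↔ (g : Matrix (Fin 2) (Fin 2) F) 1 0 = 0 := Iff.rfl

/-- `U ≃ F` -/
noncomputable def equivU : (U : Subgroup G) ≃ F where
  toFun g := (g.1 : Matrix (Fin 2) (Fin 2) F) 0 1
  invFun b := ⟨mk 1 b 0 1 (by simp), by simp [mem_U]⟩
  left_inv := by
    rintro ⟨g, h1, h2, h3⟩
    apply Subtype.ext
    apply ext2 <;> simp [h1, h2, h3]
  right_inv := by
    intro b
    simp

theorem card_U [Fintype F] : Nat.card (U : Subgroup G) = Fintype.card F := by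
  rw [Nat.card_congr equivU, Nat.card_eq_fintype_card]

/-- `Bor ≃ Fˣ × Fˣ × F` -/
noncomputable def equivBor : (Bor : Subgroup G) ≃ Fˣ × Fˣ × F where
  toFun g := (Units.mk0 ((g.1 : Matrix (Fin 2) (Fin 2) F) 0 0) (by
      have h := det_ne_zero g.1
      rw [(mem_Bor g.1).1 g.2, mul_zero, sub_zero] at h
      exact left_ne_zero_of_mul h),
    Units.mk0 ((g.1 : Matrix (Fin 2) (Fin 2) F) 1 1) (by
      have h := det_ne_zero g.1
      rw [(mem_Bor g.1).1 g.2, mul_zero, sub_zero] at h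
      exact right_ne_zero_of_mul h),
    (g.1 : Matrix (Fin 2) (Fin 2) F) 0 1)
  invFun t := ⟨mk (t.1 : F) t.2.2 0 (t.2.1 : F) (by simp), by simp [mem_Bor]⟩
  left_inv := by
    rintro ⟨g, h⟩
    apply Subtype.ext
    apply ext2 <;> simp [(mem_Bor g).1 h]
  right_inv := by
    rintro ⟨x, w, y⟩
    simp

theorem card_Bor [Fintype F] :
    Nat.card (Bor : Subgroup G) = (Fintype.card F - 1) * ((Fintype.card F - 1) * Fintype.card F) := by
  classical
  rw [Nat.card_congr equivBor, Nat.card_eq_fintype_card, Fintype.card_prod, Fintype.card_prod,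
    Fintype.card_units]

theorem card_G [Fintype F] :
    Nat.card G = (Fintype.card F ^ 2 - 1) * (Fintype.card F ^ 2 - Fintype.card F) := by
  rw [Matrix.card_GL_field, Fin.prod_univ_two]
  simp

theorem diag_ne_zero_of_Bor {g : G} (hg : g ∈ (Bor : Subgroup G)) :
    (g : Matrix (Fin 2) (Fin 2) F) 0 0 ≠ 0 ∧ (g : Matrix (Fin 2) (Fin 2) F) 1 1 ≠ 0 := by
  have h := det_ne_zero g
  rw [(mem_Bor g).1 hg, mul_zero, sub_zero] at h
  exact ⟨left_ne_zero_of_mul h, right_ne_zero_of_mul h⟩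

/-- if `h * g = g * u` with `g` in the Borel subgroup and `u` unitriangular, then `h` is
unitriangular -/
theorem mem_U_of_mul_eq {g u h : G} (hg : g ∈ (Bor : Subgroup G)) (hu : u ∈ (U : Subgroup G))
    (e : h * g = g * u) : h ∈ (U : Subgroup G) := by
  obtain ⟨u1, u2, u3⟩ := hu
  obtain ⟨g0, g1⟩ := diag_ne_zero_of_Bor hg
  have g10 := (mem_Bor g).1 hg
  have e00 := congrArg (fun g : G => (g : Matrix (Fin 2) (Fin 2) F) 0 0) e
  have e10 := congrArg (fun g : G => (g : Matrix (Fin 2) (Fin 2) F) 1 0) e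
  have e11 := congrArg (fun g : G => (g : Matrix (Fin 2) (Fin 2) F) 1 1) e
  simp only [mul00, mul10, mul11, u1, u2, u3, g10, mul_zero, add_zero, mul_one, zero_mul,
    zero_add] at e00 e10 e11
  have h10 : (h : Matrix (Fin 2) (Fin 2) F) 1 0 = 0 := (mul_eq_zero.1 e10).resolve_right g0
  refine ⟨?_, h10, ?_⟩
  · exact mul_right_cancel₀ g0 (by rw [e00, one_mul])
  · rw [h10, zero_mul, zero_add] at e11
    exact mul_right_cancel₀ g1 (by rw [e11, one_mul])

theorem conj_mem_U {g u : G} (hg : g ∈ (Bor : Subgroup G)) (hu : u ∈ (U : Subgroup G)) :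
    g * u * g⁻¹ ∈ (U : Subgroup G) :=
  mem_U_of_mul_eq hg hu (by group)

/-- if `u' * g = g * u` with `u, u'` unitriangular and `u' ≠ 1` then `g` is in the Borel subgroup -/
theorem mem_Bor_of_mul_eq {g u u' : G} (hu : u ∈ (U : Subgroup G)) (hu' : u' ∈ (U : Subgroup G))
    (hne : u' ≠ 1) (e : u' * g = g * u) : g ∈ (Bor : Subgroup G) := by
  obtain ⟨u1, u2, u3⟩ := hu
  obtain ⟨v1, v2, v3⟩ := hu'
  have e00 := congrArg (fun g : G => (g : Matrix (Fin 2) (Fin 2) F) 0 0) e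
  simp only [mul00, u1, u2, v1, mul_zero, add_zero, mul_one, one_mul] at e00
  have h01 : (u' : Matrix (Fin 2) (Fin 2) F) 0 1 ≠ 0 := by
    intro h0
    apply hne
    apply ext2 <;> simp [v1, v2, v3, h0]
  have : (u' : Matrix (Fin 2) (Fin 2) F) 0 1 * (g : Matrix (Fin 2) (Fin 2) F) 1 0 = 0 := by
    linear_combination e00
  exact (mul_eq_zero.1 this).resolve_left h01

theorem normalizer_U : Subgroup.normalizer ((U : Subgroup G) : Set G) = Bor := by
  apply le_antisymm
  · intro g hg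
    have hu : mk 1 1 0 1 (by simp) ∈ (U : Subgroup G) := by simp [mem_U]
    have h1 := (Subgroup.mem_normalizer_iff.1 hg _).1 hu
    refine mem_Bor_of_mul_eq hu h1 ?_ (by group)
    intro h
    have : mk (1 : F) 1 0 1 (by simp) = 1 := by
      have := congrArg (fun x => g⁻¹ * x * g) h
      simpa [mul_assoc] using this
    have h01 := congrArg (fun g : G => (g : Matrix (Fin 2) (Fin 2) F) 0 1) this
    simp at h01
  · rw [Subgroup.le_normalizer_iff]
    intro g hg u hu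
    exact conj_mem_U hg hu

section Sylow

variable [Fintype F] (p : ℕ) [Fact p.Prime] [CharP F p]

omit [Fact p.Prime] in
theorem card_eq_pow : ∃ f : ℕ, 0 < f ∧ Fintype.card F = p ^ f := by
  obtain ⟨n, _, hn⟩ := FiniteField.card F p
  exact ⟨n, n.pos, hn⟩

theorem index_U : (U : Subgroup G).index = (Fintype.card F ^ 2 - 1) * (Fintype.card F - 1) := by
  have h1 := Subgroup.card_mul_index (U : Subgroup G)
  rw [card_U, card_G] at h1
  have hq : 0 < Fintype.card F := Fintype.card_pos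
  have h2 : (Fintype.card F ^ 2 - 1) * (Fintype.card F ^ 2 - Fintype.card F) =
      Fintype.card F * ((Fintype.card F ^ 2 - 1) * (Fintype.card F - 1)) := by
    have : Fintype.card F ^ 2 - Fintype.card F = Fintype.card F * (Fintype.card F - 1) := by
      rw [Nat.mul_sub, mul_one, sq]
    rw [this]; ring
  rw [h2] at h1
  exact Nat.eq_of_mul_eq_mul_left hq h1

theorem not_dvd_index_U : ¬ p ∣ (U : Subgroup G).index := by
  obtain ⟨f, hf, hq⟩ := card_eq_pow (F := F) p
  have hp : p.Prime := Fact.out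
  have hpq : p ∣ Fintype.card F := by rw [hq]; exact dvd_pow_self p hf.ne'
  have hq1 : 1 ≤ Fintype.card F := Fintype.card_pos
  rw [index_U, hp.dvd_mul]
  rintro (h | h)
  · have h2 : p ∣ Fintype.card F ^ 2 := dvd_pow hpq two_ne_zero
    have h3 : 1 ≤ Fintype.card F ^ 2 := Nat.one_le_pow _ _ hq1
    have : p ∣ 1 := by
      have := Nat.dvd_sub h2 h
      rwa [Nat.sub_sub_self h3] at this
    exact hp.one_lt.ne' (Nat.dvd_one.1 this)
  · have : p ∣ 1 := by
      have := Nat.dvd_sub hpq h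
      rwa [Nat.sub_sub_self hq1] at this
    exact hp.one_lt.ne' (Nat.dvd_one.1 this)

omit [Fact p.Prime] in
theorem isPGroup_U : IsPGroup p (U : Subgroup G) := by
  obtain ⟨f, _, hq⟩ := card_eq_pow (F := F) p
  exact IsPGroup.of_card (n := f) (by rw [card_U, hq])

/-- `U` as a Sylow `p`-subgroup -/
noncomputable def sylU : Sylow p G := (isPGroup_U p).toSylow (not_dvd_index_U p)

@[simp] theorem coe_sylU : ((sylU p : Sylow p G) : Subgroup G) = U := rfl

/-- every Sylow `p`-subgroup is a conjugate of `U` -/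
theorem exists_conj (P : Sylow p G) : ∃ g : G, ∀ a : G, a ∈ P ↔ g⁻¹ * a * g ∈ (U : Subgroup G) := by
  obtain ⟨g, hg⟩ := MulAction.exists_smul_eq G (sylU p : Sylow p G) P
  refine ⟨g, fun a => ?_⟩
  have h1 : a ∈ P ↔ a ∈ ((g • sylU p : Sylow p G) : Subgroup G) := by rw [hg]; exact Iff.rfl
  rw [h1, Sylow.coe_subgroup_smul, Subgroup.mem_pointwise_smul_iff_inv_smul_mem, coe_sylU,
    ← map_inv, MulAut.smul_def, MulAut.conj_apply, inv_inv]

omit [Fact p.Prime] [CharP F p] in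
theorem index_Bor : (Bor : Subgroup G).index = Fintype.card F + 1 := by
  have h1 := Subgroup.card_mul_index (Bor : Subgroup G)
  rw [card_Bor, card_G] at h1
  have hq : 1 < Fintype.card F := Fintype.one_lt_card
  obtain ⟨t, ht⟩ : ∃ t, Fintype.card F = t + 1 := ⟨Fintype.card F - 1, by omega⟩
  rw [ht] at h1 ⊢
  have ht0 : 0 < t := by omega
  have e1 : (t + 1) ^ 2 - 1 = t * (t + 2) := by
    have : (t + 1) ^ 2 = t * (t + 2) + 1 := by ring
    omega
  have e2 : (t + 1) ^ 2 - (t + 1) = (t + 1) * t := by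
    have : (t + 1) ^ 2 = (t + 1) * t + (t + 1) := by ring
    omega
  rw [e1, e2, Nat.add_sub_cancel] at h1
  have h2 : t * (t * (t + 1)) * (Bor : Subgroup G).index = t * (t * (t + 1)) * (t + 1 + 1) := by
    rw [h1]; ring
  exact Nat.eq_of_mul_eq_mul_left (by positivity) h2

theorem card_sylow : Nat.card (Sylow p G) = Fintype.card F + 1 := by
  have h : Subgroup.normalizer ((sylU p : Sylow p G) : Set G) =
      Subgroup.normalizer ((U : Subgroup G) : Set G) := rfl
  rw [Sylow.card_eq_index_normalizer (sylU p), h, normalizer_U, index_Bor]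

theorem card_normalizer (P : Sylow p G) :
    Nat.card (Subgroup.normalizer ((P : Subgroup G) : Set G)) =
      Fintype.card F * (Fintype.card F - 1) ^ 2 := by
  have h1 := Subgroup.card_mul_index (Subgroup.normalizer ((P : Subgroup G) : Set G))
  have h : Subgroup.normalizer ((P : Subgroup G) : Set G) = Subgroup.normalizer (P : Set G) := rfl
  have h0 := Sylow.card_eq_index_normalizer P
  rw [← h] at h0
  rw [← h0, card_sylow, card_G] at h1
  have hq : 1 < Fintype.card F := Fintype.one_lt_card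
  obtain ⟨t, ht⟩ : ∃ t, Fintype.card F = t + 1 := ⟨Fintype.card F - 1, by omega⟩
  rw [ht] at h1 ⊢
  have e1 : (t + 1) ^ 2 - 1 = t * (t + 2) := by
    have : (t + 1) ^ 2 = t * (t + 2) + 1 := by ring
    omega
  have e2 : (t + 1) ^ 2 - (t + 1) = (t + 1) * t := by
    have : (t + 1) ^ 2 = (t + 1) * t + (t + 1) := by ring
    omega
  rw [e1, e2] at h1
  rw [Nat.add_sub_cancel]
  have h2 : (t + 1 + 1) * Nat.card (Subgroup.normalizer ((P : Subgroup G) : Set G)) =
      (t + 1 + 1) * ((t + 1) * t ^ 2) := by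
    rw [mul_comm, h1]; ring
  exact Nat.eq_of_mul_eq_mul_left (by positivity) h2

theorem sylow_inf_eq_bot (P Q : Sylow p G) (h : P ≠ Q) :
    (P : Subgroup G) ⊓ (Q : Subgroup G) = ⊥ := by
  obtain ⟨g₁, h₁⟩ := exists_conj p P
  obtain ⟨g₂, h₂⟩ := exists_conj p Q
  rw [Subgroup.eq_bot_iff_forall]
  rintro a ⟨haP, haQ⟩
  by_contra hne
  apply h
  have hu₁ := (h₁ a).1 haP
  have hu₂ := (h₂ a).1 haQ
  have hne₁ : g₁⁻¹ * a * g₁ ≠ 1 := by
    intro h0
    apply hne
    have := congrArg (fun x => g₁ * x * g₁⁻¹) h0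
    simpa [mul_assoc] using this
  have hg : g₁⁻¹ * g₂ ∈ (Bor : Subgroup G) := mem_Bor_of_mul_eq hu₂ hu₁ hne₁ (by group)
  have hn : (g₁⁻¹ * g₂)⁻¹ ∈ Subgroup.normalizer (((U : Subgroup G)) : Set G) := by
    rw [normalizer_U]; exact inv_mem hg
  ext b
  change b ∈ P ↔ b ∈ Q
  rw [h₁ b, h₂ b, Subgroup.mem_normalizer_iff.1 hn (g₁⁻¹ * b * g₁)]
  have : (g₁⁻¹ * g₂)⁻¹ * (g₁⁻¹ * b * g₁) * (g₁⁻¹ * g₂)⁻¹⁻¹ = g₂⁻¹ * b * g₂ := by group
  rw [this]

omit [Fintype F] in
theorem mem_centralizer_iff_of_U {u : G} (hu : u ∈ (U : Subgroup G)) (hne : u ≠ 1) (c : G) :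
    c ∈ Subgroup.centralizer ({u} : Set G) ↔
      (c : Matrix (Fin 2) (Fin 2) F) 1 0 = 0 ∧
        (c : Matrix (Fin 2) (Fin 2) F) 0 0 = (c : Matrix (Fin 2) (Fin 2) F) 1 1 := by
  obtain ⟨u1, u2, u3⟩ := hu
  have h01 : (u : Matrix (Fin 2) (Fin 2) F) 0 1 ≠ 0 := by
    intro h0
    apply hne
    apply ext2 <;> simp [u1, u2, u3, h0]
  rw [Subgroup.mem_centralizer_iff]
  constructor
  · intro h
    have e := h u rfl
    have e00 := congrArg (fun g : G => (g : Matrix (Fin 2) (Fin 2) F) 0 0) e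
    have e01 := congrArg (fun g : G => (g : Matrix (Fin 2) (Fin 2) F) 0 1) e
    simp only [mul00, mul01, u1, u2, u3, mul_zero, add_zero, mul_one, one_mul] at e00 e01
    have hz : (c : Matrix (Fin 2) (Fin 2) F) 1 0 = 0 := by
      have : (u : Matrix (Fin 2) (Fin 2) F) 0 1 * (c : Matrix (Fin 2) (Fin 2) F) 1 0 = 0 := by
        linear_combination e00
      exact (mul_eq_zero.1 this).resolve_left h01
    refine ⟨hz, ?_⟩
    have : (u : Matrix (Fin 2) (Fin 2) F) 0 1 * ((c : Matrix (Fin 2) (Fin 2) F) 0 0 -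
        (c : Matrix (Fin 2) (Fin 2) F) 1 1) = 0 := by
      linear_combination -e01
    exact sub_eq_zero.1 ((mul_eq_zero.1 this).resolve_left h01)
  · rintro ⟨hz, hx⟩ v hv
    rw [Set.mem_singleton_iff] at hv
    subst hv
    apply ext2
    · rw [mul00, mul00, u1, u2, hz]; ring
    · rw [mul01, mul01, u1, u3, hx]; ring
    · rw [mul10, mul10, u1, u2, hz]; ring
    · rw [mul11, mul11, u2, u3, hz]; ring

/-- the centralizer of a nontrivial unitriangular element is `{[[x,y],[0,x]]} ≃ Fˣ × F` -/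
noncomputable def equivCentralizer {u : G} (hu : u ∈ (U : Subgroup G)) (hne : u ≠ 1) :
    Subgroup.centralizer ({u} : Set G) ≃ Fˣ × F where
  toFun c := (Units.mk0 ((c.1 : Matrix (Fin 2) (Fin 2) F) 0 0) (by
      have h := det_ne_zero c.1
      rw [((mem_centralizer_iff_of_U hu hne c.1).1 c.2).1, mul_zero, sub_zero] at h
      exact left_ne_zero_of_mul h), (c.1 : Matrix (Fin 2) (Fin 2) F) 0 1)
  invFun t := ⟨mk (t.1 : F) t.2 0 (t.1 : F) (by simp),
    (mem_centralizer_iff_of_U hu hne _).2 (by simp)⟩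
  left_inv := by
    rintro ⟨c, hc⟩
    obtain ⟨h1, h2⟩ := (mem_centralizer_iff_of_U hu hne c).1 hc
    apply Subtype.ext
    apply ext2 <;> simp [h1, h2]
  right_inv := by
    rintro ⟨x, y⟩
    simp

theorem card_centralizer_of_U {u : G} (hu : u ∈ (U : Subgroup G)) (hne : u ≠ 1) :
    Nat.card (Subgroup.centralizer ({u} : Set G)) = (Fintype.card F - 1) * Fintype.card F := by
  classical
  rw [Nat.card_congr (equivCentralizer hu hne), Nat.card_eq_fintype_card, Fintype.card_prod,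
    Fintype.card_units]

theorem card_centralizer (P : Sylow p G) (a : G) (ha : a ∈ P) (ha1 : a ≠ 1) :
    Nat.card (Subgroup.centralizer ({a} : Set G)) = Fintype.card F * (Fintype.card F - 1) := by
  obtain ⟨g, hg⟩ := exists_conj p P
  have hu := (hg a).1 ha
  have hne : g⁻¹ * a * g ≠ 1 := by
    intro h0
    apply ha1
    have := congrArg (fun x => g * x * g⁻¹) h0
    simpa [mul_assoc] using this
  rw [mul_comm, ← card_centralizer_of_U hu hne]
  apply Nat.card_congr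
  refine Equiv.subtypeEquiv (MulAut.conj g⁻¹).toEquiv (fun c => ?_)
  simp only [MulEquiv.toEquiv_eq_coe, EquivLike.coe_coe, MulAut.conj_apply, inv_inv]
  change c ∈ Subgroup.centralizer {a} ↔ g⁻¹ * c * g ∈ Subgroup.centralizer {g⁻¹ * a * g}
  rw [Subgroup.mem_centralizer_singleton_iff, Subgroup.mem_centralizer_singleton_iff]
  constructor
  · intro h
    calc g⁻¹ * c * g * (g⁻¹ * a * g) = g⁻¹ * (c * a) * g := by group
      _ = g⁻¹ * (a * c) * g := by rw [h]
      _ = _ := by group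
  · intro h
    have : g * (g⁻¹ * c * g * (g⁻¹ * a * g)) * g⁻¹ = g * (g⁻¹ * a * g * (g⁻¹ * c * g)) * g⁻¹ := by
      rw [h]
    calc c * a = g * (g⁻¹ * c * g * (g⁻¹ * a * g)) * g⁻¹ := by group
      _ = g * (g⁻¹ * a * g * (g⁻¹ * c * g)) * g⁻¹ := this
      _ = _ := by group

/-- every element of order `p` is conjugate to `[[1,1],[0,1]]` -/
theorem isConj_of_orderOf (g : G) (hg : orderOf g = p) : IsConj (mk (1 : F) 1 0 1 (by simp)) g := by
  have hp : p.Prime := Fact.out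
  have hpg : IsPGroup p (Subgroup.zpowers g) := by
    apply IsPGroup.of_card (n := 1)
    rw [Nat.card_zpowers, hg, pow_one]
  obtain ⟨P, hP⟩ := hpg.exists_le_sylow
  have hgP : g ∈ P := hP (Subgroup.mem_zpowers g)
  have hg1 : g ≠ 1 := by
    intro h
    rw [h, orderOf_one] at hg
    exact hp.one_lt.ne hg
  obtain ⟨g₀, h₀⟩ := exists_conj p P
  obtain ⟨u1, u2, u3⟩ := (h₀ g).1 hgP
  set u := g₀⁻¹ * g * g₀ with hu
  have hne : u ≠ 1 := by
    intro h0
    apply hg1
    have := congrArg (fun x => g₀ * x * g₀⁻¹) h0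
    simpa [hu, mul_assoc] using this
  have h01 : (u : Matrix (Fin 2) (Fin 2) F) 0 1 ≠ 0 := by
    intro h0
    apply hne
    apply ext2 <;> simp [u1, u2, u3, h0]
  set d : G := mk ((u : Matrix (Fin 2) (Fin 2) F) 0 1) 0 0 1 (by simpa using h01) with hd
  have e : d * mk (1 : F) 1 0 1 (by simp) = u * d := by
    apply ext2
    · rw [mul00, mul00, u1]; simp [hd]
    · rw [mul01, mul01, u1]; simp [hd]
    · rw [mul10, mul10, u2, u3]; simp [hd]
    · rw [mul11, mul11, u2, u3]; simp [hd]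
  rw [isConj_iff]
  refine ⟨g₀ * d, ?_⟩
  have : g = g₀ * u * g₀⁻¹ := by rw [hu]; group
  rw [this]
  calc g₀ * d * mk (1 : F) 1 0 1 (by simp) * (g₀ * d)⁻¹
      = g₀ * (d * mk (1 : F) 1 0 1 (by simp)) * d⁻¹ * g₀⁻¹ := by group
    _ = g₀ * (u * d) * d⁻¹ * g₀⁻¹ := by rw [e]
    _ = _ := by group

end Sylow

end Cfsg.Agent.Lib.Helper5.GL2
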