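import Mathlib
import Cfsg.Prelude.Def_Characters
import Cfsg.Agent.Lib.helper3.Cyclo
import Cfsg.Agent.Lib.helper3.Irr7

/-!
# A Galois dictionary for the field of values of a `2`-element (helper5, for S4923)

For a `2`-element `g` with `g ^ (2 ^ n) = 1` and a primitive `2 ^ (n - 1)`-th root of unity `ζ`, the
field generated by the values `χ g`, `χ ∈ Irr G`, equals `ℚ(ζ + ζ⁻¹)` (resp. `ℚ(ζ - ζ⁻¹)`) if and
only if for odd `k`: `g ^ k ∼ g ↔ ζ ^ k ∈ {ζ, ζ⁻¹}` (resp. `ζ ^ k ∈ {ζ, -ζ⁻¹}`).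
-/

set_option autoImplicit false
set_option linter.style.haveILetI false
set_option linter.unusedSectionVars false

namespace Cfsg.Agent.Lib.Helper5.GalDict

open Cfsg Cfsg.Agent.Lib.helper3.Cyclo
open scoped ComplexConjugate

/-! ### algebra -/

theorem add_inv_eq_iff {K : Type*} [Field K] (x y : K) (hx : x ≠ 0) (hy : y ≠ 0) :
    x + x⁻¹ = y + y⁻¹ ↔ x = y ∨ x = y⁻¹ := by
  constructor
  · intro h
    have h1 : (x - y) * (x * y - 1) = 0 := by
      have h2 : (x + x⁻¹) * (x * y) = (y + y⁻¹) * (x * y) := by rw [h]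
      have e1 : (x + x⁻¹) * (x * y) = x * x * y + y := by field_simp
      have e2 : (y + y⁻¹) * (x * y) = x * y * y + x := by field_simp
      rw [e1, e2] at h2
      linear_combination h2
    rcases mul_eq_zero.1 h1 with h3 | h3
    · exact Or.inl (sub_eq_zero.1 h3)
    · right
      have h4 : x * y = 1 := sub_eq_zero.1 h3
      exact eq_inv_of_mul_eq_one_left h4
  · rintro (rfl | rfl)
    · rfl
    · rw [inv_inv, add_comm]

theorem sub_inv_eq_iff {K : Type*} [Field K] (x y : K) (hx : x ≠ 0) (hy : y ≠ 0) :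
    x - x⁻¹ = y - y⁻¹ ↔ x = y ∨ x = -y⁻¹ := by
  constructor
  · intro h
    have h1 : (x - y) * (x * y + 1) = 0 := by
      have h2 : (x - x⁻¹) * (x * y) = (y - y⁻¹) * (x * y) := by rw [h]
      have e1 : (x - x⁻¹) * (x * y) = x * x * y - y := by field_simp
      have e2 : (y - y⁻¹) * (x * y) = x * y * y - x := by field_simp
      rw [e1, e2] at h2
      linear_combination h2
    rcases mul_eq_zero.1 h1 with h3 | h3
    · exact Or.inl (sub_eq_zero.1 h3)
    · right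
      have h4 : x * y = -1 := eq_neg_of_add_eq_zero_left h3
      have h5 : x * (-y) = 1 := by rw [mul_neg, h4, neg_neg]
      have h6 := eq_inv_of_mul_eq_one_left h5
      rw [h6, inv_neg]
  · rintro (rfl | rfl)
    · rfl
    · rw [inv_neg, inv_inv]
      ring

/-! ### arithmetic -/

/-- an exponent congruent to the odd number `k` modulo `2 ^ n` and coprime to `2 ^ n * c` -/
theorem exists_t (n c k : ℕ) (hn : 1 ≤ n) (hc : c ≠ 0) (hk : Odd k) :
    ∃ t : ℕ, t ≡ k [MOD 2 ^ n] ∧ t.Coprime (2 ^ n * c) := by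
  set c' := ordCompl[2] c with hc'
  have hcop : (2 ^ n).Coprime c' :=
    Nat.Coprime.pow_left n (Nat.coprime_ordCompl Nat.prime_two hc)
  obtain ⟨t, ht1, ht2⟩ := Nat.chineseRemainder hcop k 1
  refine ⟨t, ht1, ?_⟩
  have htodd : Odd t := by
    have h2 : t ≡ k [MOD 2] := ht1.of_dvd (dvd_pow_self 2 (by omega))
    rcases hk with ⟨j, rfl⟩
    rw [Nat.odd_iff]
    have := h2
    unfold Nat.ModEq at this
    omega
  have ht2' : t.Coprime 2 := Nat.coprime_two_right.2 htodd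
  have htc' : t.Coprime c' := by
    have := ht2.gcd_eq
    unfold Nat.Coprime
    rw [this]
    exact Nat.gcd_one_left c'
  have hcfac : c = 2 ^ (c.factorization 2) * c' := (Nat.ordProj_mul_ordCompl_eq_self c 2).symm
  rw [hcfac, ← mul_assoc, ← pow_add]
  exact Nat.Coprime.mul_right (Nat.Coprime.pow_right _ ht2') htc'

/-! ### characters separate classes -/

theorem isConj_iff_forall_irr {G : Type*} [Group G] [Finite G] (a b : G) :
    IsConj a b ↔ ∀ χ : IrrCharacter G, (χ : G → ℂ) a = (χ : G → ℂ) b := by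
  classical
  haveI : Fintype G := Fintype.ofFinite G
  constructor
  · intro h χ
    have hcf : IsClassFunction G (χ : G → ℂ) := by
      obtain ⟨n, ρ, -, hρ⟩ := χ.2
      exact Cfsg.Agent.Lib.helper3.Irr.isClassFunction_of_isCharacter ⟨n, ρ, hρ⟩
    exact (Cfsg.Agent.Lib.helper3.Irr.isClassFunction_iff_isConj.1 hcf) a b h
  · intro h
    by_contra hab
    have h0 := (Cfsg.Agent.Lib.helper3.Irr.column_orthogonality a b).2 hab
    have h1 := (Cfsg.Agent.Lib.helper3.Irr.column_orthogonality b b).1 (IsConj.refl b)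
    have h2 : ∑ χ : IrrCharacter G, (χ : G → ℂ) a * conj ((χ : G → ℂ) b)
        = ∑ χ : IrrCharacter G, (χ : G → ℂ) b * conj ((χ : G → ℂ) b) :=
      Finset.sum_congr rfl (fun χ _ => by rw [h χ])
    rw [h0, h1] at h2
    have hpos : 0 < Nat.card (Subgroup.centralizer ({b} : Set G)) := Nat.card_pos
    exact (Nat.cast_ne_zero.2 hpos.ne') h2.symm

/-! ### automorphisms fixing an adjoined set -/

theorem fixes_adjoin_set {L : ℕ} [NeZero L]
    (σ : CyclotomicField L ℚ ≃ₐ[ℚ] CyclotomicField L ℚ) (S : Set (CyclotomicField L ℚ))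
    (hS : ∀ x ∈ S, σ x = x) (a : CyclotomicField L ℚ)
    (ha : a ∈ IntermediateField.adjoin ℚ S) : σ a = a := by
  induction ha using IntermediateField.adjoin_induction with
  | mem x hx => exact hS x hx
  | algebraMap x => exact σ.commutes x
  | add x y _ _ hx hy => rw [map_add, hx, hy]
  | inv x _ hx => rw [map_inv₀, hx]
  | mul x y _ _ hx hy => rw [map_mul, hx, hy]

theorem mem_fixingSubgroup_adjoin_iff {L : ℕ} [NeZero L]
    (σ : CyclotomicField L ℚ ≃ₐ[ℚ] CyclotomicField L ℚ) (S : Set (CyclotomicField L ℚ)) :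
    σ ∈ (IntermediateField.adjoin ℚ S).fixingSubgroup ↔ ∀ x ∈ S, σ x = x := by
  rw [IntermediateField.mem_fixingSubgroup_iff]
  constructor
  · intro h x hx
    exact h x (IntermediateField.subset_adjoin ℚ S hx)
  · intro h x hx
    exact fixes_adjoin_set σ S h x hx

/-! ### the dictionary -/

section dict

variable {G : Type*} [Group G] [Finite G]

theorem core (n : ℕ) (hn : 3 ≤ n) (ζ : ℂ)
    (hζ : IsPrimitiveRoot ζ (2 ^ (n - 1))) (g : G) (hg : g ^ (2 ^ n) = 1) (s : ℤ) :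
    IntermediateField.adjoin ℚ {z : ℂ | ∃ χ : Cfsg.IrrCharacter G, (χ : G → ℂ) g = z}
      = IntermediateField.adjoin ℚ ({ζ + (s : ℂ) * ζ⁻¹} : Set ℂ) ↔
    ∀ k : ℕ, Odd k →
      (IsConj (g ^ k) g ↔ ζ ^ k + (s : ℂ) * (ζ ^ k)⁻¹ = ζ + (s : ℂ) * ζ⁻¹) := by
  classical
  obtain ⟨c, hc⟩ : ∃ c : ℕ, c = Nat.card G := ⟨_, rfl⟩
  have hc0 : c ≠ 0 := by rw [hc]; exact Nat.card_pos.ne'
  obtain ⟨N, hN⟩ : ∃ N : ℕ, N = 2 ^ n * c := ⟨_, rfl⟩
  have hN0 : N ≠ 0 := by
    rw [hN]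
    exact mul_ne_zero (pow_ne_zero n two_ne_zero) hc0
  haveI : NeZero N := ⟨hN0⟩
  have hexp : ∀ x : G, x ^ N = 1 := by
    intro x
    rw [hN, mul_comm, pow_mul, hc, pow_card_eq_one', one_pow]
  haveI := isCyclo N
  haveI : FiniteDimensional ℚ (CyclotomicField N ℚ) :=
    IsCyclotomicExtension.finiteDimensional {N} ℚ (CyclotomicField N ℚ)
  haveI : IsGalois ℚ (CyclotomicField N ℚ) := IsCyclotomicExtension.isGalois {N} ℚ _
  -- the root of unity upstairs
  set w : CyclotomicField N ℚ := zetaK N ^ (2 * c) with hw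
  have hNw : N = 2 * c * 2 ^ (n - 1) := by
    rw [hN]
    obtain ⟨m, rfl⟩ : ∃ m, n = m + 1 := ⟨n - 1, by omega⟩
    rw [Nat.add_sub_cancel, pow_succ]
    ring
  have hwprim : IsPrimitiveRoot w (2 ^ (n - 1)) :=
    (zetaK_spec N).pow (Nat.pos_of_ne_zero hN0) hNw
  have hewprim : IsPrimitiveRoot (emb N w) (2 ^ (n - 1)) :=
    hwprim.map_of_injective (emb_injective N)
  haveI : NeZero (2 ^ (n - 1)) := ⟨pow_ne_zero _ two_ne_zero⟩
  obtain ⟨i, -, hi⟩ := hewprim.eq_pow_of_pow_eq_one hζ.pow_eq_one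
  set z : CyclotomicField N ℚ := w ^ i with hz
  have hez : emb N z = ζ := by rw [hz, map_pow, hi]
  have hzσ : ∀ (σ : CyclotomicField N ℚ ≃ₐ[ℚ] CyclotomicField N ℚ) (t : ℕ),
      σ (zetaK N) = zetaK N ^ t → σ z = z ^ t := by
    intro σ t hσ
    rw [hz, hw, map_pow, map_pow, hσ, ← pow_mul, ← pow_mul, ← pow_mul, ← pow_mul]
    congr 1
    ring
  set e' : CyclotomicField N ℚ := z + (s : CyclotomicField N ℚ) * z⁻¹ with he'
  have hee' : emb N e' = ζ + (s : ℂ) * ζ⁻¹ := by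
    rw [he', map_add, map_mul, map_inv₀, hez, map_intCast]
  -- lifts of the character values
  have hlift : ∀ χ : IrrCharacter G, ∃ a : CyclotomicField N ℚ, emb N a = (χ : G → ℂ) g ∧
      ∀ (σ : CyclotomicField N ℚ ≃ₐ[ℚ] CyclotomicField N ℚ) (t : ℕ),
        σ (zetaK N) = zetaK N ^ t → emb N (σ a) = (χ : G → ℂ) (g ^ t) := by
    intro χ
    obtain ⟨d, ρ, -, hρ⟩ := χ.2
    obtain ⟨a, -, ha, haσ⟩ := exists_cyclo_lift N hexp ρ g
    refine ⟨a, by rw [ha, hρ], ?_⟩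
    intro σ t hσ
    rw [haσ σ t hσ, hρ]
  choose a ha haσ using hlift
  set F' : IntermediateField ℚ (CyclotomicField N ℚ) :=
    IntermediateField.adjoin ℚ (Set.range a) with hF'
  set E' : IntermediateField ℚ (CyclotomicField N ℚ) :=
    IntermediateField.adjoin ℚ ({e'} : Set (CyclotomicField N ℚ)) with hE'
  have hFmap : F'.map (emb N)
      = IntermediateField.adjoin ℚ {z : ℂ | ∃ χ : Cfsg.IrrCharacter G, (χ : G → ℂ) g = z} := by
    rw [hF', IntermediateField.adjoin_map]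
    congr 1
    ext y
    constructor
    · rintro ⟨x, ⟨χ, rfl⟩, rfl⟩
      exact ⟨χ, (ha χ).symm⟩
    · rintro ⟨χ, rfl⟩
      exact ⟨a χ, ⟨χ, rfl⟩, ha χ⟩
  have hEmap : E'.map (emb N)
      = IntermediateField.adjoin ℚ ({ζ + (s : ℂ) * ζ⁻¹} : Set ℂ) := by
    rw [hE', IntermediateField.adjoin_map, Set.image_singleton, hee']
  rw [← hFmap, ← hEmap]
  -- membership in the two fixing subgroups
  have hFfix : ∀ (σ : CyclotomicField N ℚ ≃ₐ[ℚ] CyclotomicField N ℚ) (t : ℕ),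
      σ (zetaK N) = zetaK N ^ t → (σ ∈ F'.fixingSubgroup ↔ IsConj (g ^ t) g) := by
    intro σ t hσ
    rw [hF', mem_fixingSubgroup_adjoin_iff, isConj_iff_forall_irr]
    constructor
    · intro h χ
      rw [← haσ χ σ t hσ, h (a χ) ⟨χ, rfl⟩, ha χ]
    · rintro h x ⟨χ, rfl⟩
      apply emb_injective N
      rw [haσ χ σ t hσ, h χ, ha χ]
  have hEfix : ∀ (σ : CyclotomicField N ℚ ≃ₐ[ℚ] CyclotomicField N ℚ) (t : ℕ),
      σ (zetaK N) = zetaK N ^ t →
      (σ ∈ E'.fixingSubgroup ↔ ζ ^ t + (s : ℂ) * (ζ ^ t)⁻¹ = ζ + (s : ℂ) * ζ⁻¹) := by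
    intro σ t hσ
    rw [hE', mem_fixingSubgroup_adjoin_iff]
    have hσe : emb N (σ e') = ζ ^ t + (s : ℂ) * (ζ ^ t)⁻¹ := by
      rw [he', map_add, map_mul, map_inv₀, map_intCast, hzσ σ t hσ, map_add, map_mul, map_inv₀,
        map_pow, hez, map_intCast]
    constructor
    · intro h
      rw [← hσe, h e' (Set.mem_singleton e'), hee']
    · intro h x hx
      rw [Set.mem_singleton_iff] at hx
      subst hx
      apply emb_injective N
      rw [hσe, h, hee']
  have hζ2n : ζ ^ (2 ^ n) = 1 := by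
    obtain ⟨m, rfl⟩ : ∃ m, n = m + 1 := ⟨n - 1, by omega⟩
    rw [Nat.add_sub_cancel] at hζ
    rw [pow_succ, pow_mul, hζ.pow_eq_one, one_pow]
  constructor
  · intro h k hk
    have hFE : F' = E' := IntermediateField.map_injective (emb N) h
    obtain ⟨t, htk, htN⟩ := exists_t n c k (by omega) hc0 hk
    rw [← hN] at htN
    obtain ⟨σ, hσ⟩ := exists_aut N t htN
    have e1 : g ^ k = g ^ t := (pow_eq_pow_of_modEq htk hg).symm
    have e2 : ζ ^ k = ζ ^ t := (pow_eq_pow_of_modEq htk hζ2n).symm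
    rw [e1, e2, ← hFfix σ t hσ, ← hEfix σ t hσ, hFE]
  · intro h
    have hfix : F'.fixingSubgroup = E'.fixingSubgroup := by
      ext σ
      obtain ⟨t, htc, ht⟩ := aut_zeta N σ
      have htodd : Odd t := by
        have h2 : t.Coprime 2 := by
          apply Nat.Coprime.coprime_dvd_right _ htc
          rw [hN]
          exact Dvd.dvd.mul_right (dvd_pow_self 2 (by omega)) c
        exact Nat.coprime_two_right.1 h2
      rw [hFfix σ t ht, hEfix σ t ht]
      exact h t htodd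
    have hFE : F' = E' := by
      rw [← IsGalois.fixedField_fixingSubgroup F', ← IsGalois.fixedField_fixingSubgroup E', hfix]
    rw [hFE]

theorem adjoin_eq_plus_iff (n : ℕ) (hn : 3 ≤ n) (ζ : ℂ)
    (hζ : IsPrimitiveRoot ζ (2 ^ (n - 1))) (g : G) (hg : g ^ (2 ^ n) = 1) :
    IntermediateField.adjoin ℚ {z : ℂ | ∃ χ : Cfsg.IrrCharacter G, (χ : G → ℂ) g = z}
      = IntermediateField.adjoin ℚ ({ζ + ζ⁻¹} : Set ℂ) ↔
    ∀ k : ℕ, Odd k → (IsConj (g ^ k) g ↔ (ζ ^ k = ζ ∨ ζ ^ k = ζ⁻¹)) := by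
  have hζ0 : ζ ≠ 0 := hζ.ne_zero (pow_ne_zero _ two_ne_zero)
  have h := core n hn ζ hζ g hg 1
  simp only [Int.cast_one, one_mul] at h
  rw [h]
  refine forall_congr' (fun k => forall_congr' (fun _ => ?_))
  rw [add_inv_eq_iff (ζ ^ k) ζ (pow_ne_zero k hζ0) hζ0]

theorem adjoin_eq_minus_iff (n : ℕ) (hn : 3 ≤ n) (ζ : ℂ)
    (hζ : IsPrimitiveRoot ζ (2 ^ (n - 1))) (g : G) (hg : g ^ (2 ^ n) = 1) :
    IntermediateField.adjoin ℚ {z : ℂ | ∃ χ : Cfsg.IrrCharacter G, (χ : G → ℂ) g = z}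
      = IntermediateField.adjoin ℚ ({ζ - ζ⁻¹} : Set ℂ) ↔
    ∀ k : ℕ, Odd k → (IsConj (g ^ k) g ↔ (ζ ^ k = ζ ∨ ζ ^ k = -ζ⁻¹)) := by
  have hζ0 : ζ ≠ 0 := hζ.ne_zero (pow_ne_zero _ two_ne_zero)
  have h := core n hn ζ hζ g hg (-1)
  simp only [Int.cast_neg, Int.cast_one, neg_mul, one_mul, ← sub_eq_add_neg] at h
  rw [h]
  refine forall_congr' (fun k => forall_congr' (fun _ => ?_))
  rw [sub_inv_eq_iff (ζ ^ k) ζ (pow_ne_zero k hζ0) hζ0]

end dict

end Cfsg.Agent.Lib.Helper5.GalDict
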