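import Mathlib

/-!
# The Heisenberg group over a commutative ring

`Heis R` is the group of upper unitriangular `3 × 3` matrices
`!![1, a, c; 0, 1, b; 0, 0, 1]` over `R`, written in coordinates `(a, b, c)`:
`(a, b, c) * (a', b', c') = (a + a', b + b', c + c' + a * b')`.
-/

set_option autoImplicit false

namespace Cfsg.Agent.Lib.Helper5.Heis3

/-- the Heisenberg group over `R`, in coordinates -/
@[ext] structure Heis (R : Type*) where
  /-- the entry `(0, 1)` -/
  a : R
  /-- the entry `(1, 2)` -/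
  b : R
  /-- the entry `(0, 2)` -/
  c : R

namespace Heis

variable {R : Type*} [CommRing R]

instance instMulHeis : Mul (Heis R) :=
  ⟨fun x y => ⟨x.a + y.a, x.b + y.b, x.c + y.c + x.a * y.b⟩⟩

instance instOneHeis : One (Heis R) := ⟨⟨0, 0, 0⟩⟩

instance instInvHeis : Inv (Heis R) := ⟨fun x => ⟨-x.a, -x.b, -x.c + x.a * x.b⟩⟩

@[simp] theorem mul_a (x y : Heis R) : (x * y).a = x.a + y.a := rfl
@[simp] theorem mul_b (x y : Heis R) : (x * y).b = x.b + y.b := rfl
@[simp] theorem mul_c (x y : Heis R) : (x * y).c = x.c + y.c + x.a * y.b := rfl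
@[simp] theorem one_a : (1 : Heis R).a = 0 := rfl
@[simp] theorem one_b : (1 : Heis R).b = 0 := rfl
@[simp] theorem one_c : (1 : Heis R).c = 0 := rfl
@[simp] theorem inv_a (x : Heis R) : (x⁻¹).a = -x.a := rfl
@[simp] theorem inv_b (x : Heis R) : (x⁻¹).b = -x.b := rfl
@[simp] theorem inv_c (x : Heis R) : (x⁻¹).c = -x.c + x.a * x.b := rfl

theorem mk_mul_mk (a b c a' b' c' : R) :
    (⟨a, b, c⟩ : Heis R) * ⟨a', b', c'⟩ = ⟨a + a', b + b', c + c' + a * b'⟩ := rfl

theorem one_def : (1 : Heis R) = ⟨0, 0, 0⟩ := rfl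

instance instGroupHeis : Group (Heis R) :=
  Group.ofLeftAxioms
    (fun x y z => by ext <;> simp <;> ring)
    (fun x => by ext <;> simp)
    (fun x => by ext <;> simp <;> ring)

/-- the coordinates -/
def equivProd : Heis R ≃ R × R × R where
  toFun x := (x.a, x.b, x.c)
  invFun p := ⟨p.1, p.2.1, p.2.2⟩
  left_inv _ := rfl
  right_inv _ := rfl

instance instFiniteHeis [Finite R] : Finite (Heis R) := Finite.of_equiv _ equivProd.symm

theorem card_eq [Finite R] : Nat.card (Heis R) = Nat.card R ^ 3 := by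
  rw [Nat.card_congr (equivProd (R := R)), Nat.card_prod, Nat.card_prod]
  ring

theorem card_eq_of_card {n : ℕ} [Finite R] (h : Nat.card R = n) : Nat.card (Heis R) = n ^ 3 := by
  rw [card_eq, h]

end Heis

end Cfsg.Agent.Lib.Helper5.Heis3
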