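import Cfsg.Agent.Lib.Helper5.Heis3
import Cfsg.Agent.S0243

/-!
# The Heisenberg group over the field of order 4 is a Sylow 2-subgroup of `PSL(3, 4)`
-/

set_option autoImplicit false

namespace Cfsg.Agent.Lib.Helper5.Heis3

open Matrix

variable {F : Type*} [Field F]

/-- the unitriangular matrix of an element -/
def Heis.toMatrix (x : Heis F) : Matrix (Fin 3) (Fin 3) F :=
  !![1, x.a, x.c; 0, 1, x.b; 0, 0, 1]

theorem Heis.det_toMatrix (x : Heis F) : x.toMatrix.det = 1 := by
  rw [Heis.toMatrix, Matrix.det_fin_three]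
  simp

theorem Heis.toMatrix_mul (x y : Heis F) : (x * y).toMatrix = x.toMatrix * y.toMatrix := by
  ext i j
  fin_cases i <;> fin_cases j <;>
    simp [Heis.toMatrix, Matrix.mul_apply, Fin.sum_univ_three] <;> ring

theorem Heis.toMatrix_one : (1 : Heis F).toMatrix = 1 := by
  ext i j
  fin_cases i <;> fin_cases j <;> simp [Heis.toMatrix]

/-- the unitriangular embedding into `SL(3, F)` -/
def Heis.toSL : Heis F →* Matrix.SpecialLinearGroup (Fin 3) F where
  toFun x := ⟨x.toMatrix, x.det_toMatrix⟩
  map_one' := Subtype.ext Heis.toMatrix_one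
  map_mul' x y := Subtype.ext (Heis.toMatrix_mul x y)

theorem Heis.toSL_coe (x : Heis F) : (Heis.toSL x).1 = x.toMatrix := rfl

/-- the unitriangular homomorphism into `PSL(3, F)` -/
def Heis.toPSL : Heis F →* Matrix.ProjectiveSpecialLinearGroup (Fin 3) F :=
  (QuotientGroup.mk' (Subgroup.center (Matrix.SpecialLinearGroup (Fin 3) F))).comp Heis.toSL

theorem Heis.toPSL_injective : Function.Injective (Heis.toPSL (F := F)) := by
  rw [injective_iff_map_eq_one]
  intro x hx
  have h1 : Heis.toSL x ∈ Subgroup.center (Matrix.SpecialLinearGroup (Fin 3) F) := by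
    have : (QuotientGroup.mk' (Subgroup.center (Matrix.SpecialLinearGroup (Fin 3) F)))
        (Heis.toSL x) = 1 := hx
    rwa [QuotientGroup.mk'_apply, QuotientGroup.eq_one_iff] at this
  rw [Matrix.SpecialLinearGroup.mem_center_iff] at h1
  obtain ⟨r, -, hr⟩ := h1
  rw [Heis.toSL_coe] at hr
  have e01 := congrFun (congrFun hr 0) 1
  have e12 := congrFun (congrFun hr 1) 2
  have e02 := congrFun (congrFun hr 0) 2
  simp [Heis.toMatrix, Matrix.scalar_apply] at e01 e12 e02
  ext
  · simpa using e01.symm
  · simpa using e12.symm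
  · simpa using e02.symm

theorem factorization_20160 : (20160 : ℕ).factorization 2 = 6 := by
  have h : (20160 : ℕ) = 2 ^ 6 * 315 := by norm_num
  rw [h, Nat.factorization_mul (by norm_num) (by norm_num), Finsupp.add_apply,
    Nat.Prime.factorization_pow Nat.prime_two, Finsupp.single_eq_same,
    Nat.factorization_eq_zero_of_not_dvd (by norm_num)]

/-- the order of `PSL(3, 4)` -/
theorem card_psl_three_four (F : Type) [Field F] [Fintype F] (hF : Fintype.card F = 4) :
    Nat.card (Matrix.ProjectiveSpecialLinearGroup (Fin 3) F) = 20160 := by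
  have h := Cfsg.Agent.S0243.result hF 3 (by norm_num)
  rw [Fin.prod_univ_three] at h
  norm_num at h
  omega

/-- the Heisenberg group over the field of order 4 is a Sylow 2-subgroup of `PSL(3, 4)` -/
theorem exists_sylow_iso (F : Type) [Field F] [Fintype F] (hF : Fintype.card F = 4) :
    ∃ S : Sylow 2 (Matrix.ProjectiveSpecialLinearGroup (Fin 3) F),
      Nonempty (Heis F ≃* ↥(S : Subgroup (Matrix.ProjectiveSpecialLinearGroup (Fin 3) F))) := by
  haveI : Finite (Matrix.ProjectiveSpecialLinearGroup (Fin 3) F) :=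
    Nat.finite_of_card_ne_zero (by rw [card_psl_three_four F hF]; norm_num)
  have hc : Nat.card (Heis.toPSL (F := F)).range =
      2 ^ (Nat.card (Matrix.ProjectiveSpecialLinearGroup (Fin 3) F)).factorization 2 := by
    rw [card_psl_three_four F hF, factorization_20160,
      ← Nat.card_congr (MonoidHom.ofInjective (Heis.toPSL_injective (F := F))).toEquiv,
      Heis.card_eq_of_card (R := F) (n := 4) (by rw [Nat.card_eq_fintype_card, hF])]
    norm_num
  exact ⟨Sylow.ofCard _ hc, ⟨MonoidHom.ofInjective (Heis.toPSL_injective (F := F))⟩⟩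

/-- the form in which S3157 asks for it -/
theorem exists_field_sylow_iso :
    ∃ (F : Type) (_ : Field F) (_ : Fintype F), Fintype.card F = 4 ∧
      ∃ S : Sylow 2 (Matrix.ProjectiveSpecialLinearGroup (Fin 3) F),
        Nonempty (Heis F ≃* ↥(S : Subgroup (Matrix.ProjectiveSpecialLinearGroup (Fin 3) F))) := by
  haveI : Fact (Nat.Prime 2) := ⟨Nat.prime_two⟩
  letI : Fintype (GaloisField 2 2) := Fintype.ofFinite _
  have hcard : Fintype.card (GaloisField 2 2) = 4 := by
    rw [← Nat.card_eq_fintype_card, GaloisField.card 2 2 (by norm_num)]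
    norm_num
  exact ⟨GaloisField 2 2, inferInstance, inferInstance, hcard,
    exists_sylow_iso (GaloisField 2 2) hcard⟩

/-- a ring isomorphism gives an isomorphism of Heisenberg groups -/
def Heis.mapEquiv {R R' : Type*} [CommRing R] [CommRing R'] (e : R ≃+* R') :
    Heis R ≃* Heis R' where
  toFun x := ⟨e x.a, e x.b, e x.c⟩
  invFun y := ⟨e.symm y.a, e.symm y.b, e.symm y.c⟩
  left_inv x := by ext <;> simp
  right_inv y := by ext <;> simp
  map_mul' x y := by ext <;> simp

/-- the form for a field of order 4 in any universe -/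
theorem exists_field_sylow_iso_of_card (K : Type*) [Field K] [Finite K] (hK : Nat.card K = 4) :
    ∃ (F : Type) (_ : Field F) (_ : Fintype F), Fintype.card F = 4 ∧
      ∃ S : Sylow 2 (Matrix.ProjectiveSpecialLinearGroup (Fin 3) F),
        Nonempty (Heis K ≃* ↥(S : Subgroup (Matrix.ProjectiveSpecialLinearGroup (Fin 3) F))) := by
  obtain ⟨F, iF, iFt, hF, S, ⟨e⟩⟩ := exists_field_sylow_iso
  letI : Fintype K := Fintype.ofFinite K
  have hKF : Fintype.card K = Fintype.card F := by
    rw [hF, ← Nat.card_eq_fintype_card, hK]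
  exact ⟨F, iF, iFt, hF, S, ⟨(Heis.mapEquiv (FiniteField.ringEquivOfCardEq hKF)).trans e⟩⟩

end Cfsg.Agent.Lib.Helper5.Heis3
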