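import Mathlib
import Cfsg.Agent.Lib.Helper5.UnitaryCount
import Cfsg.Agent.Lib.Helper5.HermPlanes
import Cfsg.Agent.S0277

/-!
# Counting hyperbolic-orthonormal frames adapted to a totally isotropic subspace of a Hermitian
space over a finite field (helper5's shared lemmas)
-/

set_option autoImplicit false

namespace Cfsg.Agent.Lib.Helper5.HermFrames

open Cfsg.Agent.Lib.Helper5.UnitaryCount

universe u v

section
variable {F : Type v} {V : Type u} [Field F] [AddCommGroup V] [Module F V] {σ : F →+* F}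
  (B : V →ₛₗ[σ] V →ₗ[F] F)

/-- hyperbolic-orthonormal frames: `(e_i, f_i)` hyperbolic pairs, `u_l` orthonormal, all else
orthogonal -/
structure IsFrame (k m : ℕ) (e f : Fin k → V) (u : Fin m → V) : Prop where
  ee : ∀ i j, B (e i) (e j) = 0
  ff : ∀ i j, B (f i) (f j) = 0
  ef : ∀ i j, B (e i) (f j) = if i = j then 1 else 0
  eu : ∀ i l, B (e i) (u l) = 0
  fu : ∀ i l, B (f i) (u l) = 0
  uu : ∀ l l', B (u l) (u l') = if l = l' then 1 else 0

/-- frames whose `e`-part lies in `W` -/
abbrev AF (W : Submodule F V) (k m : ℕ) : Type u :=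
  {x : (Fin k → V) × (Fin k → V) × (Fin m → V) //
    IsFrame B k m x.1 x.2.1 x.2.2 ∧ ∀ i, x.1 i ∈ W}

/-- the orthogonal complement of a pair -/
abbrev perp2 (e f : V) : Submodule F V := LinearMap.ker (B e) ⊓ LinearMap.ker (B f)

/-- the form restricted to the orthogonal complement of a pair -/
abbrev restr2 (e f : V) : perp2 B e f →ₛₗ[σ] perp2 B e f →ₗ[F] F :=
  B.domRestrict₁₂ (perp2 B e f) (perp2 B e f)

/-- the part of `W` inside the orthogonal complement of a pair -/
abbrev Wsub (W : Submodule F V) (e f : V) : Submodule F (perp2 B e f) :=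
  W.comap (perp2 B e f).subtype

/-- head pairs -/
abbrev HP (W : Submodule F V) : Type u :=
  {p : V × V // p.1 ∈ W ∧ B p.1 p.2 = 1 ∧ B p.2 p.2 = 0}

variable {B}

theorem mem_perp2 (e f x : V) : x ∈ perp2 B e f ↔ B e x = 0 ∧ B f x = 0 := by
  simp [LinearMap.mem_ker]

theorem restr2_isSymm (hS : B.IsSymm) (e f : V) : (restr2 B e f).IsSymm := hS.domRestrict _

theorem swap_eq_zero (hS : B.IsSymm) {x y : V} (h : B x y = 0) : B y x = 0 := by
  rw [← hS.eq x y, h, map_zero]

theorem swap_eq_one (hS : B.IsSymm) {x y : V} (h : B x y = 1) : B y x = 1 := by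
  rw [← hS.eq x y, h, map_one]

theorem proj_mem_perp2 (hS : B.IsSymm) {e f : V} (hee : B e e = 0) (hef : B e f = 1)
    (hff : B f f = 0) (x : V) : x - (B f x) • e - (B e x) • f ∈ perp2 B e f := by
  have hfe := swap_eq_one hS hef
  rw [mem_perp2]
  constructor
  · simp only [map_sub, map_smul, hee, hef, smul_eq_mul, mul_zero, mul_one, sub_zero, sub_self]
  · simp only [map_sub, map_smul, hfe, hff, smul_eq_mul, mul_zero, mul_one, sub_zero, sub_self]

theorem restr2_sepLeft (hS : B.IsSymm) (hB : B.SeparatingLeft) {e f : V} (hee : B e e = 0)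
    (hef : B e f = 1) (hff : B f f = 0) : (restr2 B e f).SeparatingLeft := by
  intro w hw
  have hw' : ∀ y ∈ perp2 B e f, B w y = 0 := by
    intro y hy
    have := hw ⟨y, hy⟩
    rw [LinearMap.domRestrict₁₂_apply] at this
    exact this
  have hwe : B (w : V) e = 0 := swap_eq_zero hS ((mem_perp2 e f w).1 w.2).1
  have hwf : B (w : V) f = 0 := swap_eq_zero hS ((mem_perp2 e f w).1 w.2).2
  have : (w : V) = 0 := by
    apply hB
    intro x
    have h1 := hw' _ (proj_mem_perp2 hS hee hef hff x)
    rw [map_sub, map_sub, map_smul, map_smul, hwe, hwf, smul_zero, smul_zero, sub_zero,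
      sub_zero] at h1
    exact h1
  exact Subtype.ext this

theorem finrank_perp2 [FiniteDimensional F V] (hS : B.IsSymm) {e f : V} (hee : B e e = 0)
    (hef : B e f = 1) (hff : B f f = 0) :
    Module.finrank F (perp2 B e f) + 2 = Module.finrank F V := by
  have hfe := swap_eq_one hS hef
  have hφ : Function.Surjective ((B e).prod (B f)) := by
    rintro ⟨a, b⟩
    refine ⟨a • f + b • e, ?_⟩
    simp [hef, hfe, hee, hff]
  have hker : LinearMap.ker ((B e).prod (B f)) = perp2 B e f := by
    ext x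
    simp [LinearMap.mem_ker]
  have := LinearMap.finrank_range_add_finrank_ker ((B e).prod (B f))
  rw [LinearMap.range_eq_top.2 hφ, hker] at this
  simp at this
  omega

theorem finrank_Wsub [FiniteDimensional F V] (hS : B.IsSymm) (W : Submodule F V)
    (hti : ∀ u ∈ W, ∀ v ∈ W, B u v = 0) {e f : V} (heW : e ∈ W) (hef : B e f = 1) :
    Module.finrank F (Wsub B W e f) + 1 = Module.finrank F W := by
  have hfe := swap_eq_one hS hef
  let φ : W →ₗ[F] F := (B f).domRestrict W
  have hφ : Function.Surjective φ := by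
    intro a
    refine ⟨a • ⟨e, heW⟩, ?_⟩
    change B f (a • e) = a
    rw [map_smul, hfe, smul_eq_mul, mul_one]
  have h1 := LinearMap.finrank_range_add_finrank_ker φ
  rw [LinearMap.range_eq_top.2 hφ] at h1
  simp at h1
  have e1 : Wsub B W e f ≃ₗ[F] LinearMap.ker φ :=
    { toFun := fun w => ⟨⟨(w : V), w.2⟩, by
        rw [LinearMap.mem_ker]
        exact ((mem_perp2 e f _).1 w.1.2).2⟩
      map_add' := fun _ _ => rfl
      map_smul' := fun _ _ => rfl
      invFun := fun w => ⟨⟨(w : V), by
        rw [mem_perp2]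
        exact ⟨hti e heW _ w.1.2, LinearMap.mem_ker.1 w.2⟩⟩, w.1.2⟩
      left_inv := fun _ => rfl
      right_inv := fun _ => rfl }
  rw [LinearEquiv.finrank_eq e1]
  omega

/-- head pair of an adapted frame -/
def headP (W : Submodule F V) (k m : ℕ) (x : AF B W (k + 1) m) : HP B W :=
  ⟨(x.1.1 0, x.1.2.1 0), x.2.2 0, by have := x.2.1.ef 0 0; simpa using this, x.2.1.ff 0 0⟩

theorem isFrame_cons (hS : B.IsSymm) (W : Submodule F V) (hti : ∀ u ∈ W, ∀ v ∈ W, B u v = 0)
    (k m : ℕ) (p : HP B W) (y : AF (restr2 B p.1.1 p.1.2) (Wsub B W p.1.1 p.1.2) k m) :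
    IsFrame B (k + 1) m (Fin.cons p.1.1 (fun i => (y.1.1 i : V)))
      (Fin.cons p.1.2 (fun i => (y.1.2.1 i : V))) (fun l => (y.1.2.2 l : V)) := by
  obtain ⟨⟨e₀, f₀⟩, heW, hef, hff⟩ := p
  obtain ⟨⟨e, f, w⟩, fr, hW⟩ := y
  have hee : B e₀ e₀ = 0 := hti e₀ heW e₀ heW
  have he1 : ∀ i, B e₀ (e i : V) = 0 := fun i => ((mem_perp2 e₀ f₀ _).1 (e i).2).1
  have he2 : ∀ i, B f₀ (e i : V) = 0 := fun i => ((mem_perp2 e₀ f₀ _).1 (e i).2).2
  have hf1 : ∀ i, B e₀ (f i : V) = 0 := fun i => ((mem_perp2 e₀ f₀ _).1 (f i).2).1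
  have hf2 : ∀ i, B f₀ (f i : V) = 0 := fun i => ((mem_perp2 e₀ f₀ _).1 (f i).2).2
  have hw1 : ∀ i, B e₀ (w i : V) = 0 := fun i => ((mem_perp2 e₀ f₀ _).1 (w i).2).1
  have hw2 : ∀ i, B f₀ (w i : V) = 0 := fun i => ((mem_perp2 e₀ f₀ _).1 (w i).2).2
  have hfe := swap_eq_one hS hef
  constructor
  · intro i j
    refine Fin.cases ?_ (fun i => ?_) i <;> refine Fin.cases ?_ (fun j => ?_) j
    · simpa using hee
    · simpa using he1 j
    · simpa using swap_eq_zero hS (he1 i)
    · have := fr.ee i j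
      rw [LinearMap.domRestrict₁₂_apply] at this
      simpa using this
  · intro i j
    refine Fin.cases ?_ (fun i => ?_) i <;> refine Fin.cases ?_ (fun j => ?_) j
    · simpa using hff
    · simpa using hf2 j
    · simpa using swap_eq_zero hS (hf2 i)
    · have := fr.ff i j
      rw [LinearMap.domRestrict₁₂_apply] at this
      simpa using this
  · intro i j
    refine Fin.cases ?_ (fun i => ?_) i <;> refine Fin.cases ?_ (fun j => ?_) j
    · simpa using hef
    · simp only [Fin.cons_zero, Fin.cons_succ]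
      rw [hf1 j, if_neg (Fin.succ_ne_zero j).symm]
    · simp only [Fin.cons_zero, Fin.cons_succ]
      rw [swap_eq_zero hS (he2 i), if_neg (Fin.succ_ne_zero i)]
    · have := fr.ef i j
      rw [LinearMap.domRestrict₁₂_apply] at this
      simpa [Fin.succ_inj] using this
  · intro i l
    refine Fin.cases ?_ (fun i => ?_) i
    · simpa using hw1 l
    · have := fr.eu i l
      rw [LinearMap.domRestrict₁₂_apply] at this
      simpa using this
  · intro i l
    refine Fin.cases ?_ (fun i => ?_) i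
    · simpa using hw2 l
    · have := fr.fu i l
      rw [LinearMap.domRestrict₁₂_apply] at this
      simpa using this
  · intro l l'
    have := fr.uu l l'
    rw [LinearMap.domRestrict₁₂_apply] at this
    exact this

/-- the fibre of `headP` over a head pair -/
def fiberEquiv2 (hS : B.IsSymm) (W : Submodule F V) (hti : ∀ u ∈ W, ∀ v ∈ W, B u v = 0)
    (k m : ℕ) (p : HP B W) :
    {x : AF B W (k + 1) m // headP W k m x = p} ≃
      AF (restr2 B p.1.1 p.1.2) (Wsub B W p.1.1 p.1.2) k m where
  toFun x :=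
    have he : x.1.1.1 0 = p.1.1 := congrArg (fun t => t.1.1) x.2
    have hf : x.1.1.2.1 0 = p.1.2 := congrArg (fun t => t.1.2) x.2
    have fr := x.1.2.1
    ⟨(fun i => ⟨x.1.1.1 i.succ, by
        rw [mem_perp2, ← he, ← hf]
        refine ⟨fr.ee 0 i.succ, swap_eq_zero hS ?_⟩
        rw [fr.ef, if_neg (Fin.succ_ne_zero i)]⟩,
      fun i => ⟨x.1.1.2.1 i.succ, by
        rw [mem_perp2, ← he, ← hf]
        refine ⟨?_, fr.ff 0 i.succ⟩
        rw [fr.ef, if_neg (Fin.succ_ne_zero i).symm]⟩,
      fun l => ⟨x.1.1.2.2 l, by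
        rw [mem_perp2, ← he, ← hf]
        exact ⟨fr.eu 0 l, fr.fu 0 l⟩⟩),
      ⟨⟨fun i j => by rw [LinearMap.domRestrict₁₂_apply]; exact fr.ee i.succ j.succ,
        fun i j => by rw [LinearMap.domRestrict₁₂_apply]; exact fr.ff i.succ j.succ,
        fun i j => by
          rw [LinearMap.domRestrict₁₂_apply]
          have := fr.ef i.succ j.succ
          simpa [Fin.succ_inj] using this,
        fun i l => by rw [LinearMap.domRestrict₁₂_apply]; exact fr.eu i.succ l,
        fun i l => by rw [LinearMap.domRestrict₁₂_apply]; exact fr.fu i.succ l,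
        fun l l' => by rw [LinearMap.domRestrict₁₂_apply]; exact fr.uu l l'⟩,
       fun i => x.1.2.2 i.succ⟩⟩
  invFun y :=
    ⟨⟨(Fin.cons p.1.1 (fun i => (y.1.1 i : V)), Fin.cons p.1.2 (fun i => (y.1.2.1 i : V)),
        fun l => (y.1.2.2 l : V)),
      isFrame_cons hS W hti k m p y,
      fun i => by
        refine Fin.cases ?_ (fun i => ?_) i
        · simpa using p.2.1
        · simpa using y.2.2 i⟩, Subtype.ext rfl⟩
  left_inv := by
    rintro ⟨⟨⟨e, f, w⟩, fr, hW⟩, hp⟩
    have he : e 0 = p.1.1 := congrArg (fun t => t.1.1) hp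
    have hf : f 0 = p.1.2 := congrArg (fun t => t.1.2) hp
    apply Subtype.ext
    apply Subtype.ext
    refine Prod.ext ?_ (Prod.ext ?_ rfl)
    · funext i
      refine Fin.cases ?_ (fun i => ?_) i
      · simp [he]
      · simp
    · funext i
      refine Fin.cases ?_ (fun i => ?_) i
      · simp [hf]
      · simp
  right_inv := by
    rintro ⟨⟨e, f, w⟩, fr, hW⟩
    apply Subtype.ext
    refine Prod.ext ?_ (Prod.ext ?_ ?_)
    · funext i
      apply Subtype.ext
      simp
    · funext i
      apply Subtype.ext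
      simp
    · funext i
      apply Subtype.ext
      simp

end

section
variable {F : Type v} [Field F] [Fintype F] {q : ℕ} {σ : F →+* F}
  {V : Type u} [AddCommGroup V] [Module F V] [FiniteDimensional F V]
  {B : V →ₛₗ[σ] V →ₗ[F] F}

open Cfsg Cfsg.Agent.Lib.Helper5.Herm

/-- the form in orthonormal coordinates -/
theorem form_eq_sum {n : ℕ} (b : Module.Basis (Fin n) F V)
    (hb : ∀ i j, B (b i) (b j) = if i = j then 1 else 0) (x y : V) :
    B x y = ∑ i, σ (b.equivFun x i) * b.equivFun y i := by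
  conv_lhs => rw [← b.sum_equivFun x, ← b.sum_equivFun y]
  simp only [map_sum, LinearMap.sum_apply, LinearMap.map_smulₛₗ₂, map_smul, hb, smul_eq_mul,
    mul_ite, mul_one, mul_zero]
  refine Finset.sum_congr rfl (fun i _ => ?_)
  rw [Finset.sum_ite_eq' Finset.univ i, if_pos (Finset.mem_univ _), mul_comm]

/-- number of isotropic partners of an isotropic vector -/
theorem card_partner (hF : Fintype.card F = q ^ 2) (hσ : ∀ x, σ x = x ^ q)
    (hne : σ ≠ RingHom.id F) (hσ2 : ∀ a : F, σ (σ a) = a) (hS : B.IsSymm)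
    (hB : B.SeparatingLeft) {n : ℕ} (hn : Module.finrank F V = n) (e : V) (he : e ≠ 0)
    (hee : B e e = 0) :
    Nat.card {f : V // B e f = 1 ∧ B f f = 0} * q ^ 3 = q ^ (2 * n) := by
  obtain ⟨b, hb⟩ := exists_basis hne hσ2 hS hB hn
  have hv : b.equivFun e ≠ 0 := by
    intro h
    exact he (b.equivFun.injective (by rw [h, map_zero]))
  have hv0 : hermForm n F q (b.equivFun e) (b.equivFun e) = 0 := by
    rw [← hee, form_eq_sum b hb]
    unfold hermForm
    exact Finset.sum_congr rfl (fun i _ => by rw [hσ, mul_comm])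
  rw [← Cfsg.Agent.Lib.Helper5.HermPlanes.card_hyp_partner hF n (b.equivFun e) hv hv0]
  congr 1
  apply Nat.card_congr
  refine Equiv.subtypeEquiv b.equivFun.toEquiv (fun f => ?_)
  have h1 : B e f = hermForm n F q (b.equivFun f) (b.equivFun e) := by
    rw [form_eq_sum b hb]
    unfold hermForm
    exact Finset.sum_congr rfl (fun i _ => by rw [hσ, mul_comm])
  have h2 : B f f = hermForm n F q (b.equivFun f) (b.equivFun f) := by
    rw [form_eq_sum b hb]
    unfold hermForm
    exact Finset.sum_congr rfl (fun i _ => by rw [hσ, mul_comm])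
  rw [h1, h2]
  rfl

theorem card_partner' (hF : Fintype.card F = q ^ 2) (hσ : ∀ x, σ x = x ^ q)
    (hne : σ ≠ RingHom.id F) (hσ2 : ∀ a : F, σ (σ a) = a) (hS : B.IsSymm)
    (hB : B.SeparatingLeft) {n : ℕ} (hn : Module.finrank F V = n) (hn2 : 2 ≤ n) (e : V)
    (he : e ≠ 0) (hee : B e e = 0) :
    Nat.card {f : V // B e f = 1 ∧ B f f = 0} = q ^ (2 * n - 3) := by
  have hq := one_lt_q hF
  have h := card_partner hF hσ hne hσ2 hS hB hn e he hee
  have h2 : q ^ (2 * n) = q ^ (2 * n - 3) * q ^ 3 := by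
    rw [← pow_add]
    congr 1
    omega
  rw [h2] at h
  exact Nat.eq_of_mul_eq_mul_right (by positivity) h

/-- number of head pairs -/
theorem card_HP (hF : Fintype.card F = q ^ 2) (hσ : ∀ x, σ x = x ^ q)
    (hne : σ ≠ RingHom.id F) (hσ2 : ∀ a : F, σ (σ a) = a) (hS : B.IsSymm)
    (hB : B.SeparatingLeft) {n : ℕ} (hn : Module.finrank F V = n) (hn2 : 2 ≤ n)
    (W : Submodule F V) (hti : ∀ u ∈ W, ∀ v ∈ W, B u v = 0) {k : ℕ}
    (hk : Module.finrank F W = k) :
    Nat.card (HP B W) = (q ^ (2 * k) - 1) * q ^ (2 * n - 3) := by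
  classical
  have : Finite V := Module.finite_of_finite F
  have := Fintype.ofFinite V
  have hWc : Nat.card W = q ^ (2 * k) := by
    rw [Module.natCard_eq_pow_finrank (K := F), hk, Nat.card_eq_fintype_card, hF, ← pow_mul]
  rw [Nat.card_congr (Equiv.subtypeProdEquivSigmaSubtype
    (fun e f : V => e ∈ W ∧ B e f = 1 ∧ B f f = 0)), Nat.card_sigma]
  have hfib : ∀ e : V, Nat.card {f : V // e ∈ W ∧ B e f = 1 ∧ B f f = 0} =
      if e ∈ W ∧ e ≠ 0 then q ^ (2 * n - 3) else 0 := by
    intro e
    split_ifs with he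
    · rw [← card_partner' hF hσ hne hσ2 hS hB hn hn2 e he.2 (hti e he.1 e he.1)]
      apply Nat.card_congr
      exact Equiv.subtypeEquivRight (fun f => by simp [he.1])
    · rw [Nat.card_eq_zero]
      left
      refine ⟨fun f => he ⟨f.2.1, ?_⟩⟩
      rintro rfl
      have := f.2.2.1
      simp at this
  rw [Finset.sum_congr rfl (fun e _ => hfib e), Finset.sum_ite, Finset.sum_const_zero, add_zero,
    Finset.sum_const, smul_eq_mul]
  congr 1
  have h1 : (Finset.univ.filter (fun e : V => e ∈ W ∧ e ≠ 0)).card + 1 = Nat.card W := by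
    rw [Nat.card_eq_fintype_card, Fintype.card_subtype]
    have : (Finset.univ.filter (fun e : V => e ∈ W)) =
        insert 0 (Finset.univ.filter (fun e : V => e ∈ W ∧ e ≠ 0)) := by
      ext e
      simp only [Finset.mem_filter, Finset.mem_univ, true_and, Finset.mem_insert]
      constructor
      · intro h
        by_cases h0 : e = 0
        · exact Or.inl h0
        · exact Or.inr ⟨h, h0⟩
      · rintro (h | h)
        · rw [h]; exact W.zero_mem
        · exact h.1
    rw [this, Finset.card_insert_of_notMem (by simp)]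
  omega

/-- number of adapted frames -/
theorem card_AF (hF : Fintype.card F = q ^ 2) (hσ : ∀ x, σ x = x ^ q)
    (hne : σ ≠ RingHom.id F) (hσ2 : ∀ a : F, σ (σ a) = a) (m : ℕ) :
    ∀ (k : ℕ) (V : Type u) [AddCommGroup V] [Module F V] [FiniteDimensional F V]
    (B : V →ₛₗ[σ] V →ₗ[F] F) (W : Submodule F V), B.IsSymm → B.SeparatingLeft →
    Module.finrank F V = 2 * k + m → Module.finrank F W = k →
    (∀ u ∈ W, ∀ v ∈ W, B u v = 0) →
    Nat.card (AF B W k m) =
      (∏ j ∈ Finset.range k, ((q ^ (2 * (j + 1)) - 1) * q ^ (4 * j + 2 * m + 1))) *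
        ∏ i ∈ Finset.range m, unitCount σ (i + 1) := by
  intro k
  induction k with
  | zero =>
    intro V _ _ _ B W hS hB hn hk hti
    rw [Finset.range_zero, Finset.prod_empty, one_mul,
      ← card_ON hne hσ2 m V B hS hB (by omega)]
    apply Nat.card_congr
    exact
      { toFun := fun x => ⟨x.1.2.2, x.2.1.uu⟩
        invFun := fun y => ⟨(Fin.elim0, Fin.elim0, y.1),
          ⟨fun i => i.elim0, fun i => i.elim0, fun i => i.elim0, fun i => i.elim0,
            fun i => i.elim0, y.2⟩, fun i => i.elim0⟩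
        left_inv := by
          rintro ⟨⟨e, f, w⟩, fr, hW⟩
          apply Subtype.ext
          refine Prod.ext ?_ (Prod.ext ?_ rfl)
          · funext i; exact i.elim0
          · funext i; exact i.elim0
        right_inv := fun y => rfl }
  | succ k ih =>
    intro V _ _ _ B W hS hB hn hk hti
    have : Finite V := Module.finite_of_finite F
    have := Fintype.ofFinite (HP B W)
    rw [← Nat.card_congr (Equiv.sigmaFiberEquiv (headP (B := B) W k m)), Nat.card_sigma]
    have hfib : ∀ p : HP B W, Nat.card {x : AF B W (k + 1) m // headP W k m x = p} =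
        (∏ j ∈ Finset.range k, ((q ^ (2 * (j + 1)) - 1) * q ^ (4 * j + 2 * m + 1))) *
          ∏ i ∈ Finset.range m, unitCount σ (i + 1) := by
      intro p
      rw [Nat.card_congr (fiberEquiv2 hS W hti k m p)]
      have hee : B p.1.1 p.1.1 = 0 := hti _ p.2.1 _ p.2.1
      apply ih
      · exact restr2_isSymm hS _ _
      · exact restr2_sepLeft hS hB hee p.2.2.1 p.2.2.2
      · have := finrank_perp2 hS hee p.2.2.1 p.2.2.2
        omega
      · have := finrank_Wsub hS W hti p.2.1 p.2.2.1
        omega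
      · intro u hu v hv
        rw [LinearMap.domRestrict₁₂_apply]
        exact hti _ hu _ hv
    rw [Finset.sum_congr rfl (fun p _ => hfib p), Finset.sum_const, Finset.card_univ, smul_eq_mul,
      ← Nat.card_eq_fintype_card, card_HP hF hσ hne hσ2 hS hB hn (by omega) W hti hk,
      Finset.prod_range_succ]
    have : 2 * (2 * (k + 1) + m) - 3 = 4 * k + 2 * m + 1 := by omega
    rw [this]
    ring

end

end Cfsg.Agent.Lib.Helper5.HermFrames
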