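import Mathlib
import Cfsg.Agent.Lib.Helper5.HermFrames
import Cfsg.Agent.S0278

/-!
# The stabiliser of a totally isotropic subspace in `GU_n` and adapted frames
(helper5's shared lemmas)
-/

set_option autoImplicit false

namespace Cfsg.Agent.Lib.Helper5.HermStab

open Matrix Cfsg Cfsg.Agent.Lib.Helper5.Herm Cfsg.Agent.Lib.Helper5.UnitaryCount
  Cfsg.Agent.Lib.Helper5.HermFrames Cfsg.Agent.S0277

section
variable {F : Type*} [Field F] {σ : F →+* F} {V : Type*} [AddCommGroup V] [Module F V]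
  {B : V →ₛₗ[σ] V →ₗ[F] F}

/-- index type of frames -/
abbrev Idx (k m : ℕ) : Type := Fin k ⊕ Fin k ⊕ Fin m

/-- the combined family of a frame -/
def fam {k m : ℕ} (x : (Fin k → V) × (Fin k → V) × (Fin m → V)) : Idx k m → V :=
  Sum.elim x.1 (Sum.elim x.2.1 x.2.2)

/-- the Gram matrix of frames -/
def gram (F : Type*) [Field F] (k m : ℕ) : Idx k m → Idx k m → F
  | Sum.inl _, Sum.inl _ => 0
  | Sum.inl i, Sum.inr (Sum.inl j) => if i = j then 1 else 0
  | Sum.inl _, Sum.inr (Sum.inr _) => 0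
  | Sum.inr (Sum.inl i), Sum.inl j => if i = j then 1 else 0
  | Sum.inr (Sum.inl _), Sum.inr (Sum.inl _) => 0
  | Sum.inr (Sum.inl _), Sum.inr (Sum.inr _) => 0
  | Sum.inr (Sum.inr _), Sum.inl _ => 0
  | Sum.inr (Sum.inr _), Sum.inr (Sum.inl _) => 0
  | Sum.inr (Sum.inr l), Sum.inr (Sum.inr l') => if l = l' then 1 else 0

/-- dual index -/
def dual {k m : ℕ} : Idx k m → Idx k m
  | Sum.inl i => Sum.inr (Sum.inl i)
  | Sum.inr (Sum.inl i) => Sum.inl i
  | Sum.inr (Sum.inr l) => Sum.inr (Sum.inr l)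

theorem fam_gram (hS : B.IsSymm) {k m : ℕ} (x : (Fin k → V) × (Fin k → V) × (Fin m → V))
    (fr : IsFrame B k m x.1 x.2.1 x.2.2) (a b : Idx k m) :
    B (fam x a) (fam x b) = gram F k m a b := by
  obtain ⟨e, f, u⟩ := x
  rcases a with i | i | l <;> rcases b with j | j | l'
  · exact fr.ee i j
  · exact fr.ef i j
  · exact fr.eu i l'
  · show B (f i) (e j) = if i = j then 1 else 0
    rw [← hS.eq (e j) (f i), fr.ef j i]
    split_ifs with h1 h2 h2
    · simp
    · exact absurd h1.symm h2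
    · exact absurd h2.symm h1
    · simp
  · exact fr.ff i j
  · exact fr.fu i l'
  · exact swap_eq_zero hS (fr.eu j l)
  · exact swap_eq_zero hS (fr.fu j l)
  · exact fr.uu l l'

theorem fam_li (hS : B.IsSymm) {k m : ℕ} (x : (Fin k → V) × (Fin k → V) × (Fin m → V))
    (fr : IsFrame B k m x.1 x.2.1 x.2.2) : LinearIndependent F (fam x) := by
  classical
  rw [Fintype.linearIndependent_iff]
  intro c hc a
  have := congrArg (B (fam x (dual a))) hc
  simp only [map_sum, map_smul, fam_gram hS x fr, smul_eq_mul, map_zero] at this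
  rcases a with i | i | l
  · simpa [Fintype.sum_sum_type, gram, dual] using this
  · simpa [Fintype.sum_sum_type, gram, dual] using this
  · simpa [Fintype.sum_sum_type, gram, dual] using this

end

section
variable {F : Type*} [Field F] {σ : F →+* F} {n : ℕ}

/-- criterion for a `GL`-element to stabilise a subspace -/
theorem stab_iff (W : Submodule F (Fin n → F)) {ι : Type*} [Fintype ι]
    (e' : ι → (Fin n → F)) (hli : LinearIndependent F e') (he : ∀ j, e' j ∈ W)
    (hWk : Module.finrank F W = Fintype.card ι) (g : GL (Fin n) F) :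
    g ∈ stabilizing (Units.coeHom (Matrix (Fin n) (Fin n) F)) (W : Set (Fin n → F)) ↔
      ∀ j, (g : Matrix (Fin n) (Fin n) F) *ᵥ e' j ∈ W := by
  constructor
  · intro h j
    exact (h (e' j)).1 (he j)
  · intro h v
    have hspan : Submodule.span F (Set.range e') = W := by
      apply Submodule.eq_of_le_of_finrank_eq
      · rw [Submodule.span_le]
        rintro _ ⟨j, rfl⟩
        exact he j
      · rw [finrank_span_eq_card hli, hWk]
    let L : (Fin n → F) →ₗ[F] (Fin n → F) := Matrix.mulVecLin (g : Matrix (Fin n) (Fin n) F)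
    have hL : ∀ v, L v = (g : Matrix (Fin n) (Fin n) F) *ᵥ v := fun v => rfl
    have hinv : ∀ v, ((g⁻¹ : GL (Fin n) F) : Matrix (Fin n) (Fin n) F) *ᵥ
        ((g : Matrix (Fin n) (Fin n) F) *ᵥ v) = v := by
      intro v
      rw [Matrix.mulVec_mulVec, ← Units.val_mul, inv_mul_cancel, Units.val_one, Matrix.one_mulVec]
    have hinj : Function.Injective L := by
      intro a b hab
      rw [hL, hL] at hab
      rw [← hinv a, hab, hinv]
    have hmap : W.map L ≤ W := by
      rw [← hspan, Submodule.map_span, Submodule.span_le]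
      rintro _ ⟨_, ⟨j, rfl⟩, rfl⟩
      rw [hspan]
      exact h j
    have hmapeq : W.map L = W := by
      apply Submodule.eq_of_le_of_finrank_eq hmap
      exact (LinearEquiv.finrank_eq (Submodule.equivMapOfInjective L hinj W)).symm
    change v ∈ W ↔ L v ∈ W
    constructor
    · intro hv
      rw [← hmapeq]
      exact Submodule.mem_map_of_mem hv
    · intro hv
      rw [← hmapeq] at hv
      obtain ⟨v', hv', hvv⟩ := hv
      rw [← hinj hvv]
      exact hv'

variable (hS : (stdB n σ).IsSymm) {k m : ℕ} (hn : n = 2 * k + m)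

/-- the basis attached to a frame -/
noncomputable def frameBasis (hS : (stdB n σ).IsSymm) (hn : n = 2 * k + m)
    (x : (Fin k → (Fin n → F)) × (Fin k → (Fin n → F)) × (Fin m → (Fin n → F)))
    (fr : IsFrame (stdB n σ) k m x.1 x.2.1 x.2.2) : Module.Basis (Idx k m) F (Fin n → F) :=
  Module.Basis.mk (fam_li hS x fr)
    ((fam_li hS x fr).span_eq_top_of_card_eq_finrank' (by simp [hn]; ring)).ge

theorem frameBasis_apply (x : (Fin k → (Fin n → F)) × (Fin k → (Fin n → F)) × (Fin m → (Fin n → F)))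
    (fr : IsFrame (stdB n σ) k m x.1 x.2.1 x.2.2) (a : Idx k m) :
    frameBasis hS hn x fr a = fam x a := by
  unfold frameBasis
  rw [Module.Basis.coe_mk]

/-- the linear equivalence carrying one frame to another -/
noncomputable def frameMap
    (x₀ x : (Fin k → (Fin n → F)) × (Fin k → (Fin n → F)) × (Fin m → (Fin n → F)))
    (fr₀ : IsFrame (stdB n σ) k m x₀.1 x₀.2.1 x₀.2.2)
    (fr : IsFrame (stdB n σ) k m x.1 x.2.1 x.2.2) : (Fin n → F) ≃ₗ[F] (Fin n → F) :=
  (frameBasis hS hn x₀ fr₀).equiv (frameBasis hS hn x fr) (Equiv.refl _)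

theorem frameMap_apply
    (x₀ x : (Fin k → (Fin n → F)) × (Fin k → (Fin n → F)) × (Fin m → (Fin n → F)))
    (fr₀ : IsFrame (stdB n σ) k m x₀.1 x₀.2.1 x₀.2.2)
    (fr : IsFrame (stdB n σ) k m x.1 x.2.1 x.2.2) (a : Idx k m) :
    frameMap hS hn x₀ x fr₀ fr (fam x₀ a) = fam x a := by
  unfold frameMap
  rw [← frameBasis_apply hS hn x₀ fr₀, Module.Basis.equiv_apply, frameBasis_apply]
  rfl

theorem frameMap_preserve
    (x₀ x : (Fin k → (Fin n → F)) × (Fin k → (Fin n → F)) × (Fin m → (Fin n → F)))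
    (fr₀ : IsFrame (stdB n σ) k m x₀.1 x₀.2.1 x₀.2.2)
    (fr : IsFrame (stdB n σ) k m x.1 x.2.1 x.2.2) (u v : Fin n → F) :
    stdB n σ (frameMap hS hn x₀ x fr₀ fr u) (frameMap hS hn x₀ x fr₀ fr v) = stdB n σ u v := by
  let L : (Fin n → F) →ₗ[F] (Fin n → F) := (frameMap hS hn x₀ x fr₀ fr).toLinearMap
  have key : ((stdB n σ).comp L).compl₂ L = stdB n σ := by
    apply LinearMap.ext_basis (frameBasis hS hn x₀ fr₀) (frameBasis hS hn x₀ fr₀)
    intro a b
    rw [frameBasis_apply, frameBasis_apply, LinearMap.compl₂_apply, LinearMap.comp_apply]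
    show stdB n σ (frameMap hS hn x₀ x fr₀ fr (fam x₀ a)) (frameMap hS hn x₀ x fr₀ fr (fam x₀ b)) = _
    rw [frameMap_apply, frameMap_apply, fam_gram hS x fr, fam_gram hS x₀ fr₀]
  have := LinearMap.congr_fun₂ key u v
  rw [LinearMap.compl₂_apply, LinearMap.comp_apply] at this
  exact this

/-- the `GL`-element carrying one frame to another -/
noncomputable def frameGL
    (x₀ x : (Fin k → (Fin n → F)) × (Fin k → (Fin n → F)) × (Fin m → (Fin n → F)))
    (fr₀ : IsFrame (stdB n σ) k m x₀.1 x₀.2.1 x₀.2.2)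
    (fr : IsFrame (stdB n σ) k m x.1 x.2.1 x.2.2) : GL (Fin n) F :=
  Matrix.GeneralLinearGroup.toLin.symm
    (LinearMap.GeneralLinearGroup.ofLinearEquiv (frameMap hS hn x₀ x fr₀ fr))

theorem frameGL_mulVec
    (x₀ x : (Fin k → (Fin n → F)) × (Fin k → (Fin n → F)) × (Fin m → (Fin n → F)))
    (fr₀ : IsFrame (stdB n σ) k m x₀.1 x₀.2.1 x₀.2.2)
    (fr : IsFrame (stdB n σ) k m x.1 x.2.1 x.2.2) (v : Fin n → F) :
    (frameGL hS hn x₀ x fr₀ fr : Matrix (Fin n) (Fin n) F) *ᵥ v =
      frameMap hS hn x₀ x fr₀ fr v := by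
  have h1 : Matrix.GeneralLinearGroup.toLin (frameGL hS hn x₀ x fr₀ fr) =
      LinearMap.GeneralLinearGroup.ofLinearEquiv (frameMap hS hn x₀ x fr₀ fr) := by
    unfold frameGL
    rw [MulEquiv.apply_symm_apply]
  have h2 := Matrix.GeneralLinearGroup.toLin_apply (A := frameGL hS hn x₀ x fr₀ fr) v
  rw [h1] at h2
  rw [Matrix.mulVecLin_apply] at h2
  rw [← h2]
  rfl

end

section
variable {F : Type*} [Field F] {q : ℕ} {σ : F →+* F} {n k m : ℕ}

/-- the elements of `GU` stabilising `W` -/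
abbrev StabGU (n : ℕ) (F : Type*) [Field F] (q : ℕ) (W : Submodule F (Fin n → F)) :
    Subgroup (GL (Fin n) F) :=
  GU n F q ⊓ stabilizing (Units.coeHom (Matrix (Fin n) (Fin n) F)) (W : Set (Fin n → F))

theorem GU_preserve (hσ : ∀ x, σ x = x ^ q) (g : GL (Fin n) F) (hg : g ∈ GU n F q)
    (u v : Fin n → F) :
    stdB n σ ((g : Matrix (Fin n) (Fin n) F) *ᵥ u) ((g : Matrix (Fin n) (Fin n) F) *ᵥ v) =
      stdB n σ u v := by
  rw [stdB_eq_hermForm n σ hσ, stdB_eq_hermForm n σ hσ]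
  exact hg v u

/-- the stabiliser of `W` in `GU` is in bijection with the adapted frames -/
noncomputable def equivAF (hσ : ∀ x, σ x = x ^ q) (hS : (stdB n σ).IsSymm) (hn : n = 2 * k + m)
    (W : Submodule F (Fin n → F)) (hWk : Module.finrank F W = k)
    (x₀ : AF (stdB n σ) W k m) : StabGU n F q W ≃ AF (stdB n σ) W k m where
  toFun g :=
    have hg := (Subgroup.mem_inf.1 g.2).1
    have hst := (Subgroup.mem_inf.1 g.2).2
    ⟨(fun i => (g.1 : Matrix (Fin n) (Fin n) F) *ᵥ x₀.1.1 i,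
      fun i => (g.1 : Matrix (Fin n) (Fin n) F) *ᵥ x₀.1.2.1 i,
      fun l => (g.1 : Matrix (Fin n) (Fin n) F) *ᵥ x₀.1.2.2 l),
    ⟨fun i j => by rw [GU_preserve hσ g.1 hg]; exact x₀.2.1.ee i j,
     fun i j => by rw [GU_preserve hσ g.1 hg]; exact x₀.2.1.ff i j,
     fun i j => by rw [GU_preserve hσ g.1 hg]; exact x₀.2.1.ef i j,
     fun i l => by rw [GU_preserve hσ g.1 hg]; exact x₀.2.1.eu i l,
     fun i l => by rw [GU_preserve hσ g.1 hg]; exact x₀.2.1.fu i l,
     fun l l' => by rw [GU_preserve hσ g.1 hg]; exact x₀.2.1.uu l l'⟩,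
    fun i => (hst _).1 (x₀.2.2 i)⟩
  invFun x := ⟨frameGL hS hn x₀.1 x.1 x₀.2.1 x.2.1, by
    rw [Subgroup.mem_inf]
    constructor
    · intro u v
      change hermForm n F q ((frameGL hS hn x₀.1 x.1 x₀.2.1 x.2.1 : Matrix (Fin n) (Fin n) F) *ᵥ u)
        ((frameGL hS hn x₀.1 x.1 x₀.2.1 x.2.1 : Matrix (Fin n) (Fin n) F) *ᵥ v) = hermForm n F q u v
      rw [← stdB_eq_hermForm n σ hσ, ← stdB_eq_hermForm n σ hσ, frameGL_mulVec, frameGL_mulVec,
        frameMap_preserve]
    · have hli : LinearIndependent F x₀.1.1 :=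
        (fam_li hS x₀.1 x₀.2.1).comp Sum.inl Sum.inl_injective
      rw [stab_iff W x₀.1.1 hli x₀.2.2 (by rw [hWk, Fintype.card_fin])]
      intro j
      rw [frameGL_mulVec]
      have := frameMap_apply hS hn x₀.1 x.1 x₀.2.1 x.2.1 (Sum.inl j)
      change frameMap hS hn x₀.1 x.1 x₀.2.1 x.2.1 (x₀.1.1 j) = x.1.1 j at this
      rw [this]
      exact x.2.2 j⟩
  left_inv g := by
    apply Subtype.ext
    have hg := (Subgroup.mem_inf.1 g.2).1
    have hst := (Subgroup.mem_inf.1 g.2).2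
    set x : (Fin k → (Fin n → F)) × (Fin k → (Fin n → F)) × (Fin m → (Fin n → F)) :=
      (fun i => (g.1 : Matrix (Fin n) (Fin n) F) *ᵥ x₀.1.1 i,
        fun i => (g.1 : Matrix (Fin n) (Fin n) F) *ᵥ x₀.1.2.1 i,
        fun l => (g.1 : Matrix (Fin n) (Fin n) F) *ᵥ x₀.1.2.2 l) with hx
    have fr : IsFrame (stdB n σ) k m x.1 x.2.1 x.2.2 :=
      ⟨fun i j => by rw [GU_preserve hσ g.1 hg]; exact x₀.2.1.ee i j,
       fun i j => by rw [GU_preserve hσ g.1 hg]; exact x₀.2.1.ff i j,
       fun i j => by rw [GU_preserve hσ g.1 hg]; exact x₀.2.1.ef i j,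
       fun i l => by rw [GU_preserve hσ g.1 hg]; exact x₀.2.1.eu i l,
       fun i l => by rw [GU_preserve hσ g.1 hg]; exact x₀.2.1.fu i l,
       fun l l' => by rw [GU_preserve hσ g.1 hg]; exact x₀.2.1.uu l l'⟩
    change frameGL hS hn x₀.1 x x₀.2.1 fr = g.1
    have hlin : (frameMap hS hn x₀.1 x x₀.2.1 fr).toLinearMap =
        Matrix.mulVecLin (g.1 : Matrix (Fin n) (Fin n) F) := by
      apply (frameBasis hS hn x₀.1 x₀.2.1).ext
      intro a
      rw [frameBasis_apply, LinearEquiv.coe_coe, frameMap_apply, Matrix.mulVecLin_apply]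
      rcases a with i | i | l <;> rfl
    apply Units.ext
    apply Matrix.toLin'.injective
    apply LinearMap.ext
    intro v
    rw [Matrix.toLin'_apply, Matrix.toLin'_apply, frameGL_mulVec]
    have := LinearMap.congr_fun hlin v
    rw [LinearEquiv.coe_coe, Matrix.mulVecLin_apply] at this
    exact this
  right_inv x := by
    apply Subtype.ext
    refine Prod.ext ?_ (Prod.ext ?_ ?_)
    · funext i
      change (frameGL hS hn x₀.1 x.1 x₀.2.1 x.2.1 : Matrix (Fin n) (Fin n) F) *ᵥ x₀.1.1 i = x.1.1 i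
      rw [frameGL_mulVec]
      exact frameMap_apply hS hn x₀.1 x.1 x₀.2.1 x.2.1 (Sum.inl i)
    · funext i
      change (frameGL hS hn x₀.1 x.1 x₀.2.1 x.2.1 : Matrix (Fin n) (Fin n) F) *ᵥ x₀.1.2.1 i =
        x.1.2.1 i
      rw [frameGL_mulVec]
      exact frameMap_apply hS hn x₀.1 x.1 x₀.2.1 x.2.1 (Sum.inr (Sum.inl i))
    · funext l
      change (frameGL hS hn x₀.1 x.1 x₀.2.1 x.2.1 : Matrix (Fin n) (Fin n) F) *ᵥ x₀.1.2.2 l =
        x.1.2.2 l
      rw [frameGL_mulVec]
      exact frameMap_apply hS hn x₀.1 x.1 x₀.2.1 x.2.1 (Sum.inr (Sum.inr l))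

end

section
variable {F : Type*} [Field F] {σ : F →+* F} {V : Type*} [AddCommGroup V] [Module F V]
  {B : V →ₛₗ[σ] V →ₗ[F] F}

/-- rescaling the hyperbolic pairs of a frame -/
theorem isFrame_scale {k m : ℕ} (x : (Fin k → V) × (Fin k → V) × (Fin m → V))
    (fr : IsFrame B k m x.1 x.2.1 x.2.2) (d₁ d₂ : Fin k → F) (hd : ∀ i, σ (d₁ i) * d₂ i = 1) :
    IsFrame B k m (fun i => d₁ i • x.1 i) (fun i => d₂ i • x.2.1 i) x.2.2 := by
  constructor
  · intro i j
    simp only [LinearMap.map_smulₛₗ₂, map_smul, fr.ee, smul_zero]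
  · intro i j
    simp only [LinearMap.map_smulₛₗ₂, map_smul, fr.ff, smul_zero]
  · intro i j
    simp only [LinearMap.map_smulₛₗ₂, map_smul, fr.ef, smul_eq_mul]
    split_ifs with h
    · subst h
      rw [mul_one, mul_comm]
      exact hd i
    · simp
  · intro i l
    simp only [LinearMap.map_smulₛₗ₂, fr.eu, smul_zero]
  · intro i l
    simp only [LinearMap.map_smulₛₗ₂, fr.fu, smul_zero]
  · exact fr.uu

/-- Hilbert 90 for norm-one elements -/
theorem exists_div_conj (hne : σ ≠ RingHom.id F) (hσ2 : ∀ a : F, σ (σ a) = a) (a : F)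
    (ha : a * σ a = 1) : ∃ c : F, c ≠ 0 ∧ c = a * σ c := by
  by_cases h1 : 1 + a = 0
  · obtain ⟨w, hw⟩ : ∃ w : F, σ w ≠ w := by
      by_contra h
      push Not at h
      exact hne (RingHom.ext h)
    refine ⟨w - σ w, fun h => hw (by linear_combination -h), ?_⟩
    rw [map_sub, hσ2]
    linear_combination (w - σ w) * h1
  · refine ⟨1 + a, h1, ?_⟩
    rw [map_add, map_one]
    linear_combination -ha

end

section
variable {F : Type*} [Field F] {σ : F →+* F} {n k m : ℕ}

/-- the determinant of the `GL`-element rescaling a frame -/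
theorem det_frameGL_scale (hS : (stdB n σ).IsSymm) (hn : n = 2 * k + m)
    (x₀ : (Fin k → (Fin n → F)) × (Fin k → (Fin n → F)) × (Fin m → (Fin n → F)))
    (fr₀ : IsFrame (stdB n σ) k m x₀.1 x₀.2.1 x₀.2.2) (d₁ d₂ : Fin k → F)
    (hd : ∀ i, σ (d₁ i) * d₂ i = 1) :
    (frameGL hS hn x₀ (fun i => d₁ i • x₀.1 i, fun i => d₂ i • x₀.2.1 i, x₀.2.2) fr₀
      (isFrame_scale x₀ fr₀ d₁ d₂ hd) : Matrix (Fin n) (Fin n) F).det =
      (∏ i, d₁ i) * ∏ i, d₂ i := by
  classical
  set x₁ : (Fin k → (Fin n → F)) × (Fin k → (Fin n → F)) × (Fin m → (Fin n → F)) :=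
    (fun i => d₁ i • x₀.1 i, fun i => d₂ i • x₀.2.1 i, x₀.2.2) with hx₁
  set fr₁ := isFrame_scale x₀ fr₀ d₁ d₂ hd
  set L := frameMap hS hn x₀ x₁ fr₀ fr₁ with hL
  set M : Matrix (Fin n) (Fin n) F := (frameGL hS hn x₀ x₁ fr₀ fr₁ : Matrix (Fin n) (Fin n) F)
    with hM
  have h1 : M = LinearMap.toMatrix' L.toLinearMap := by
    apply Matrix.toLin'.injective
    rw [Matrix.toLin'_toMatrix']
    apply LinearMap.ext
    intro v
    rw [Matrix.toLin'_apply, hM, frameGL_mulVec]
    rfl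
  let D : Idx k m → F := Sum.elim d₁ (Sum.elim d₂ (fun _ => 1))
  have h2 : LinearMap.toMatrix (frameBasis hS hn x₀ fr₀) (frameBasis hS hn x₀ fr₀) L.toLinearMap =
      Matrix.diagonal D := by
    ext a b
    rw [LinearMap.toMatrix_apply, frameBasis_apply, LinearEquiv.coe_coe, hL, frameMap_apply]
    have hfam : fam x₁ b = D b • frameBasis hS hn x₀ fr₀ b := by
      rw [frameBasis_apply]
      rcases b with i | i | l
      · rfl
      · rfl
      · show x₀.2.2 l = (1 : F) • x₀.2.2 l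
        rw [one_smul]
    rw [hfam, map_smul, Module.Basis.repr_self, Finsupp.smul_apply, Finsupp.single_apply,
      Matrix.diagonal_apply, smul_eq_mul]
    split_ifs with h3 h4 h4
    · subst h3; rw [mul_one]
    · exact absurd h3.symm h4
    · exact absurd h4.symm h3
    · rw [mul_zero]
  rw [h1, LinearMap.det_toMatrix', ← LinearMap.det_toMatrix (frameBasis hS hn x₀ fr₀), h2,
    Matrix.det_diagonal, Fintype.prod_sum_type, Fintype.prod_sum_type]
  simp [D]

end

section
variable {F : Type*} [Field F] [Fintype F] {q : ℕ}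

open Cfsg.Agent.S0278

/-- the determinant on the stabiliser -/
noncomputable def detStab (q : ℕ) (n : ℕ) (W : Submodule F (Fin n → F)) : StabGU n F q W →* Fˣ :=
  Matrix.GeneralLinearGroup.det.comp (StabGU n F q W).subtype

/-- the kernel of the determinant on the stabiliser is the stabiliser in `SU` -/
noncomputable def equivKerStab (n : ℕ) (W : Submodule F (Fin n → F)) :
    ↥((stabilizing (slToMat n F) (W : Set (Fin n → F))).subgroupOf (SU n F q)) ≃
      (detStab q n W).ker where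
  toFun s := ⟨⟨Matrix.SpecialLinearGroup.toGL s.1.1,
    Subgroup.mem_inf.2 ⟨s.1.2, Subgroup.mem_subgroupOf.1 s.2⟩⟩, by
    rw [MonoidHom.mem_ker]
    apply Units.ext
    exact s.1.1.2⟩
  invFun g := ⟨⟨⟨(g.1.1 : Matrix (Fin n) (Fin n) F), by
    have := g.2
    rw [MonoidHom.mem_ker] at this
    exact congrArg Units.val this⟩, (Subgroup.mem_inf.1 g.1.2).1⟩,
    Subgroup.mem_subgroupOf.2 (Subgroup.mem_inf.1 g.1.2).2⟩
  left_inv s := by
    apply Subtype.ext
    apply Subtype.ext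
    apply Subtype.ext
    rfl
  right_inv g := by
    apply Subtype.ext
    apply Subtype.ext
    apply Units.ext
    rfl

/-- the order of the stabiliser in `SU` in terms of adapted frames -/
theorem card_stab_SU (hF : Fintype.card F = q ^ 2) {σ : F →+* F} (hσ : ∀ x, σ x = x ^ q)
    (hne : σ ≠ RingHom.id F) (hσ2 : ∀ a : F, σ (σ a) = a) {n k m : ℕ} (hk1 : 1 ≤ k)
    (hn : n = 2 * k + m) (W : Submodule F (Fin n → F)) (hWk : Module.finrank F W = k)
    (x₀ : AF (stdB n σ) W k m) :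
    (q + 1) * Nat.card ↥((stabilizing (slToMat n F) (W : Set (Fin n → F))).subgroupOf (SU n F q)) =
      Nat.card (AF (stdB n σ) W k m) := by
  classical
  have hS := stdB_isSymm n σ hσ2
  rw [← Nat.card_congr (equivAF hσ hS hn W hWk x₀), Nat.card_congr (equivKerStab n W),
    ← Subgroup.card_mul_index (detStab q n W).ker, Subgroup.index_ker, mul_comm]
  congr 1
  rw [← card_N1 hF]
  have hr : (detStab q n W).range = N1 F q := by
    ext a
    constructor
    · rintro ⟨g, rfl⟩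
      exact det_mem_N1 hF n ⟨g.1, (Subgroup.mem_inf.1 g.2).1⟩
    · intro ha
      rw [mem_N1] at ha
      have ha' : (a : F) * σ (a : F) = 1 := by
        rw [hσ, ← pow_succ']
        exact ha
      obtain ⟨c, hc0, hc⟩ := exists_div_conj hne hσ2 (a : F) ha'
      have hσc : σ c ≠ 0 := by
        intro h
        apply hc0
        rw [hc, h, mul_zero]
      let i0 : Fin k := ⟨0, hk1⟩
      let d₁ : Fin k → F := fun i => if i = i0 then c else 1
      let d₂ : Fin k → F := fun i => if i = i0 then (σ c)⁻¹ else 1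
      have hd : ∀ i, σ (d₁ i) * d₂ i = 1 := by
        intro i
        simp only [d₁, d₂]
        split_ifs
        · exact mul_inv_cancel₀ hσc
        · rw [map_one, mul_one]
      let x₁ : AF (stdB n σ) W k m :=
        ⟨(fun i => d₁ i • x₀.1.1 i, fun i => d₂ i • x₀.1.2.1 i, x₀.1.2.2),
          isFrame_scale x₀.1 x₀.2.1 d₁ d₂ hd, fun i => W.smul_mem _ (x₀.2.2 i)⟩
      refine ⟨(equivAF hσ hS hn W hWk x₀).symm x₁, ?_⟩
      apply Units.ext
      change ((frameGL hS hn x₀.1 x₁.1 x₀.2.1 x₁.2.1 : GL (Fin n) F) :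
        Matrix (Fin n) (Fin n) F).det = (a : F)
      rw [det_frameGL_scale hS hn x₀.1 x₀.2.1 d₁ d₂ hd]
      simp only [d₁, d₂]
      rw [Finset.prod_ite_eq' Finset.univ i0 (fun _ => c),
        Finset.prod_ite_eq' Finset.univ i0 (fun _ => (σ c)⁻¹), if_pos (Finset.mem_univ _),
        if_pos (Finset.mem_univ _)]
      rw [mul_inv_eq_iff_eq_mul₀ hσc]
      exact hc
  rw [hr]

end

end Cfsg.Agent.Lib.Helper5.HermStab
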