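import Mathlib
import Cfsg.Agent.Lib.Helper7.CoprimeGen3

/-!
# Isaacs, Lemma 12.3 (group-theoretic part)

(author: helper5)  `G` finite solvable, `V = G'` the unique minimal normal subgroup (`V ≠ 1` and every
nontrivial normal subgroup contains `V`; equivalently `G` is nonabelian and all proper quotients are abelian).
Then `V` is an elementary abelian `p`-group, and either `G` is a `p`-group, or `V` has a cyclic complement `L`
of order prime to `p` acting fixed-point-freely on `V` (so `G` is a Frobenius group with kernel `V`).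
-/

set_option autoImplicit false
set_option linter.unusedVariables false
set_option linter.unusedSectionVars false
set_option linter.style.haveILetI false
set_option linter.unusedSimpArgs false
set_option maxHeartbeats 1000000

namespace Cfsg.Agent.Lib.Helper5.Isaacs123

open Subgroup
open scoped commutatorElement Pointwise

variable {G : Type*} [Group G]

/-- a subgroup `K` all of whose elements conjugate `W` into `W` normalises `W` -/
theorem le_normalizer_of_conj_mem (K W : Subgroup G)
    (h : ∀ k ∈ K, ∀ w ∈ W, k * w * k⁻¹ ∈ W) : K ≤ normalizer (W : Set G) := by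
  intro k hk
  rw [mem_normalizer_iff]
  intro w
  constructor
  · exact h k hk w
  · intro hw
    have := h k⁻¹ (K.inv_mem hk) _ hw
    simpa [mul_assoc] using this

/-- if `A ⊔ B = ⊤` and both `A`, `B` conjugate `W` into itself then `W` is normal -/
theorem normal_of_sup_eq_top (A B W : Subgroup G) (hAB : A ⊔ B = ⊤)
    (hA : ∀ k ∈ A, ∀ w ∈ W, k * w * k⁻¹ ∈ W) (hB : ∀ k ∈ B, ∀ w ∈ W, k * w * k⁻¹ ∈ W) :
    W.Normal := by
  rw [← normalizer_eq_top_iff, eq_top_iff, ← hAB]
  exact sup_le (le_normalizer_of_conj_mem A W hA) (le_normalizer_of_conj_mem B W hB)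

variable [Finite G]

section abelian

variable (hmin : ∀ N : Subgroup G, N.Normal → N ≠ ⊥ → commutator G ≤ N)
  (hne : commutator G ≠ ⊥)

include hmin hne in
/-- `G'` is abelian -/
theorem comm_of_min [Group.IsSolvable G] :
    ∀ v ∈ commutator G, ∀ w ∈ commutator G, v * w = w * v := by
  set V := commutator G with hV
  haveI : Nontrivial V := (Subgroup.nontrivial_iff_ne_bot V).mpr hne
  have hlt := Group.IsSolvable.commutator_lt_top_of_nontrivial V
  have hW : ⁅V, V⁆ = ⊥ := by
    by_contra hW
    have hle : V ≤ ⁅V, V⁆ := hmin ⁅V, V⁆ inferInstance hW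
    rw [← map_subtype_commutator V] at hle
    have : (⊤ : Subgroup V) ≤ commutator V := by
      intro x _
      obtain ⟨y, hy, hyx⟩ := hle x.2
      have : y = x := Subtype.ext hyx
      rw [← this]; exact hy
    exact absurd (top_le_iff.mp this) hlt.ne
  rw [commutator_eq_bot_iff_le_centralizer] at hW
  intro v hv w hw
  exact (mem_centralizer_iff.mp (hW hv) w hw).symm

include hmin hne in
/-- `G'` has prime exponent -/
theorem exists_prime_exponent [Group.IsSolvable G] :
    ∃ p : ℕ, p.Prime ∧ p ∣ Nat.card (commutator G) ∧ ∀ v ∈ commutator G, v ^ p = 1 := by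
  have hcomm := comm_of_min hmin hne
  set V := commutator G with hV
  have hcard : Nat.card V ≠ 1 := by
    intro h1
    exact hne (Subgroup.card_eq_one.mp h1)
  obtain ⟨p, hp, hpd⟩ := Nat.exists_prime_and_dvd hcard
  haveI : Fact p.Prime := ⟨hp⟩
  refine ⟨p, hp, hpd, ?_⟩
  let Ω : Subgroup G :=
    { carrier := {v | v ∈ V ∧ v ^ p = 1}
      mul_mem' := by
        rintro a b ⟨ha, hap⟩ ⟨hb, hbp⟩
        refine ⟨V.mul_mem ha hb, ?_⟩
        rw [(show Commute a b from hcomm a ha b hb).mul_pow, hap, hbp, one_mul]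
      one_mem' := ⟨V.one_mem, one_pow _⟩
      inv_mem' := by
        rintro a ⟨ha, hap⟩
        exact ⟨V.inv_mem ha, by rw [inv_pow, hap, inv_one]⟩ }
  have hΩn : Ω.Normal := by
    refine ⟨fun v hv g => ?_⟩
    obtain ⟨hvV, hvp⟩ := hv
    refine ⟨(inferInstance : V.Normal).conj_mem v hvV g, ?_⟩
    rw [conj_pow, hvp, mul_one, mul_inv_cancel]
  have hΩne : Ω ≠ ⊥ := by
    obtain ⟨x, hx⟩ := exists_prime_orderOf_dvd_card' (G := V) p hpd
    intro hbot
    have hxΩ : (x : G) ∈ Ω := by
      refine ⟨x.2, ?_⟩
      have : x ^ p = 1 := by rw [← hx]; exact pow_orderOf_eq_one x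
      have := congrArg (fun z : V => (z : G)) this
      simpa using this
    rw [hbot, Subgroup.mem_bot] at hxΩ
    have : x = 1 := Subtype.ext hxΩ
    rw [this, orderOf_one] at hx
    exact hp.one_lt.ne hx
  intro v hv
  exact (hmin Ω hΩn hΩne hv).2

end abelian

/-- **Isaacs 12.3** (group-theoretic part). -/
theorem isaacs_12_3 [Group.IsSolvable G]
    (hmin : ∀ N : Subgroup G, N.Normal → N ≠ ⊥ → commutator G ≤ N)
    (hne : commutator G ≠ ⊥) :
    ∃ p : ℕ, p.Prime ∧ (∀ v ∈ commutator G, v ^ p = 1) ∧
      (∀ v ∈ commutator G, ∀ w ∈ commutator G, v * w = w * v) ∧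
      (IsPGroup p G ∨
        (¬ p ∣ (commutator G).index ∧
          ∃ L : Subgroup G, (commutator G).IsComplement' L ∧ IsCyclic L ∧
            ∀ x ∈ L, x ≠ 1 → ∀ v ∈ commutator G, x * v = v * x → v = 1)) := by
  classical
  have hcomm := comm_of_min hmin hne
  obtain ⟨p, hp, hpd, hexp⟩ := exists_prime_exponent hmin hne
  haveI : Fact p.Prime := ⟨hp⟩
  refine ⟨p, hp, hexp, hcomm, ?_⟩
  set V := commutator G with hV
  have hVn : V.Normal := inferInstance
  by_cases hall : ∀ q : ℕ, q.Prime → q ∣ Nat.card G → q = p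
  · left
    have := Nat.eq_prime_pow_of_unique_prime_dvd (Nat.card_pos (α := G)).ne'
      (fun {d} hd hdd => hall d hd hdd)
    exact IsPGroup.of_card this
  right
  push_neg at hall
  obtain ⟨q, hq, hqd, hqp⟩ := hall
  haveI : Fact q.Prime := ⟨hq⟩
  obtain ⟨Q⟩ : Nonempty (Sylow q G) := inferInstance
  have hQne : (Q : Subgroup G) ≠ ⊥ := Q.ne_bot_of_dvd_card hqd
  -- `V` is a `p`-group of exponent `p`, not a `q`-group
  have hVnotle : ¬ V ≤ (Q : Subgroup G) := by
    intro hle
    obtain ⟨v, hv1⟩ := (Subgroup.ne_bot_iff_exists_ne_one).mp hne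
    have hvV : (v : G) ∈ V := v.2
    have ho : orderOf (v : G) = p := orderOf_eq_prime (hexp _ hvV) (fun h => hv1 (Subtype.ext h))
    obtain ⟨k, hk⟩ := (Q.2 ⟨(v : G), hle hvV⟩)
    have h2 : (v : G) ^ q ^ k = 1 := by
      have := congrArg (fun z : (Q : Subgroup G) => (z : G)) hk
      simpa using this
    have h3 : p ∣ q ^ k := by rw [← ho]; exact orderOf_dvd_of_pow_eq_one h2
    have h4 := (Nat.prime_dvd_prime_iff_eq hp hq).mp (hp.dvd_of_dvd_pow h3)
    exact hqp h4.symm
  -- `N = V ⊔ Q` is normal
  set N : Subgroup G := V ⊔ (Q : Subgroup G) with hN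
  have hNn : N.Normal := by
    refine ⟨fun n hn g => ?_⟩
    have h1 : ⁅g, n⁆ ∈ V := by
      rw [hV, _root_.commutator_def]
      exact commutator_mem_commutator (mem_top g) (mem_top n)
    have h2 : g * n * g⁻¹ = ⁅g, n⁆ * n := by
      rw [commutatorElement_def]; group
    rw [h2]
    exact N.mul_mem (le_sup_left (a := V) h1) hn
  have hQN : (Q : Subgroup G) ≤ N := le_sup_right
  have hfr := Sylow.normalizer_sup_eq_top (Q.subtype hQN)
  rw [Sylow.coe_subtype, map_subgroupOf_eq_of_le hQN] at hfr
  set H : Subgroup G := normalizer ((Q : Subgroup G) : Set G) with hH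
  have hQH : (Q : Subgroup G) ≤ H := le_normalizer
  have hHV : H ⊔ V = ⊤ := by
    rw [eq_top_iff, ← hfr, hN]
    refine sup_le le_sup_left (sup_le le_sup_right (hQH.trans le_sup_left))
  have hHtop : H ≠ ⊤ := by
    intro htop
    have hQn : (Q : Subgroup G).Normal := normalizer_eq_top_iff.mp htop
    exact hVnotle (hmin _ hQn hQne)
  have hVH : ¬ V ≤ H := by
    intro hle
    apply hHtop
    rw [eq_top_iff, ← hHV]
    exact sup_le le_rfl hle
  -- `V ⊓ H = ⊥`
  have hdisj : V ⊓ H = ⊥ := by
    by_contra hnb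
    have hnorm : (V ⊓ H).Normal := by
      refine normal_of_sup_eq_top H V _ hHV ?_ ?_
      · intro k hk w hw
        exact ⟨hVn.conj_mem w hw.1 k, H.mul_mem (H.mul_mem hk hw.2) (H.inv_mem hk)⟩
      · intro k hk w hw
        have : k * w * k⁻¹ = w := by
          rw [hcomm k hk w hw.1, mul_inv_cancel_right]
        rw [this]; exact hw
    exact hVH ((hmin _ hnorm hnb).trans inf_le_right)
  have hHcomm : ∀ x ∈ H, ∀ y ∈ H, x * y = y * x := by
    intro x hx y hy
    rw [← commutatorElement_eq_one_iff_mul_comm]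
    have h1 : ⁅x, y⁆ ∈ V := by
      rw [hV, _root_.commutator_def]
      exact commutator_mem_commutator (mem_top x) (mem_top y)
    have h2 : ⁅x, y⁆ ∈ H := by
      rw [commutatorElement_def]
      exact H.mul_mem (H.mul_mem (H.mul_mem hx hy) (H.inv_mem hx)) (H.inv_mem hy)
    have : ⁅x, y⁆ ∈ V ⊓ H := ⟨h1, h2⟩
    rwa [hdisj, mem_bot] at this
  -- fixed-point-freeness
  have hfpf : ∀ x ∈ H, x ≠ 1 → ∀ v ∈ V, x * v = v * x → v = 1 := by
    intro x hx hx1
    -- `H ⊓ C(V) = ⊥`
    have hZ : H ⊓ centralizer (V : Set G) = ⊥ := by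
      by_contra hnb
      have hnorm : (H ⊓ centralizer (V : Set G)).Normal := by
        refine normal_of_sup_eq_top H V _ hHV ?_ ?_
        · intro k hk w hw
          have : k * w * k⁻¹ = w := by
            rw [hHcomm k hk w hw.1, mul_inv_cancel_right]
          rw [this]; exact hw
        · intro k hk w hw
          have : k * w * k⁻¹ = w := by
            have := mem_centralizer_iff.mp hw.2 k hk
            rw [this, mul_inv_cancel_right]
          rw [this]; exact hw
      have hle := hmin _ hnorm hnb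
      exact hVH (hle.trans inf_le_left)
    set C : Subgroup G := V ⊓ centralizer ({x} : Set G) with hC
    have hCn : C.Normal := by
      refine normal_of_sup_eq_top H V _ hHV ?_ ?_
      · intro k hk w hw
        refine ⟨hVn.conj_mem w hw.1 k, mem_centralizer_iff.mpr ?_⟩
        intro y hy
        rw [Set.mem_singleton_iff] at hy
        subst hy
        have h1 : y * w = w * y := by
          have := mem_centralizer_iff.mp hw.2 y (Set.mem_singleton y)
          exact this
        have h2 : y * k = k * y := hHcomm y hx k hk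
        have h3 : y * k⁻¹ = k⁻¹ * y := by
          have := hHcomm y hx k⁻¹ (H.inv_mem hk)
          exact this
        calc y * (k * w * k⁻¹) = (y * k) * w * k⁻¹ := by group
          _ = k * (y * w) * k⁻¹ := by rw [h2]; group
          _ = k * w * (y * k⁻¹) := by rw [h1]; group
          _ = k * w * k⁻¹ * y := by rw [h3]; group
      · intro k hk w hw
        have : k * w * k⁻¹ = w := by
          rw [hcomm k hk w hw.1, mul_inv_cancel_right]
        rw [this]; exact hw
    have hCbot : C = ⊥ := by
      by_contra hnb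
      have hle := hmin _ hCn hnb
      have hxZ : x ∈ H ⊓ centralizer (V : Set G) := by
        refine ⟨hx, mem_centralizer_iff.mpr ?_⟩
        intro v hv
        have := mem_centralizer_iff.mp (hle hv).2 x (Set.mem_singleton x)
        exact this.symm
      rw [hZ, mem_bot] at hxZ
      exact hx1 hxZ
    intro v hv hxv
    have : v ∈ C := by
      refine ⟨hv, mem_centralizer_iff.mpr ?_⟩
      intro y hy
      rw [Set.mem_singleton_iff] at hy
      subst hy
      exact hxv
    rwa [hCbot, mem_bot] at this
  -- complement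
  have hcompl : V.IsComplement' H := by
    refine isComplement'_of_disjoint_and_mul_eq_univ (disjoint_iff.mpr hdisj) ?_
    rw [← normal_mul V H, sup_comm, hHV, coe_top]
  have hidx : V.index = Nat.card H := by
    have h1 := hcompl.card_mul_card
    have h2 := V.card_mul_index
    have hpos : 0 < Nat.card V := Nat.card_pos
    exact Nat.eq_of_mul_eq_mul_left hpos (h2.trans h1.symm)
  -- `p ∤ |H|`
  have hpH : ¬ p ∣ Nat.card H := by
    intro hpH
    obtain ⟨x, hx⟩ := exists_prime_orderOf_dvd_card' (G := H) p hpH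
    have hx1 : (x : G) ≠ 1 := by
      intro h1
      have : x = 1 := Subtype.ext h1
      rw [this, orderOf_one] at hx
      exact hp.one_lt.ne hx
    have hzp : IsPGroup p (zpowers x) := by
      apply IsPGroup.of_card (n := 1)
      rw [Nat.card_zpowers, hx, pow_one]
    let φ : ↥(zpowers x) →* MulAut ↥V :=
      (MulAut.conjNormal (H := V)).comp ((H.subtype).comp (zpowers x).subtype)
    letI : MulAction ↥(zpowers x) ↥V := MulAction.compHom ↥V φ
    have hmod := hzp.card_modEq_card_fixedPoints ↥V
    have hfix : Nat.card (MulAction.fixedPoints ↥(zpowers x) ↥V) = 1 := by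
      rw [Nat.card_eq_one_iff_unique]
      refine ⟨⟨fun a b => ?_⟩, ⟨⟨1, fun y => ?_⟩⟩⟩
      · have key : ∀ c : MulAction.fixedPoints ↥(zpowers x) ↥V, (c : ↥V) = 1 := by
          intro c
          have h1 := c.2 ⟨x, mem_zpowers x⟩
          have h2 : ((x : G) * ((c : ↥V) : G) * (x : G)⁻¹) = ((c : ↥V) : G) := by
            have := congrArg (fun z : ↥V => (z : G)) h1
            exact this
          have h3 : (x : G) * ((c : ↥V) : G) = ((c : ↥V) : G) * (x : G) := by
            calc (x : G) * ((c : ↥V) : G) = ((x : G) * ((c : ↥V) : G) * (x : G)⁻¹) * (x : G) := by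
                  group
              _ = ((c : ↥V) : G) * (x : G) := by rw [h2]
          exact Subtype.ext (hfpf (x : G) x.2 hx1 _ (c : ↥V).2 h3)
        exact Subtype.ext ((key a).trans (key b).symm)
      · show φ y 1 = 1
        exact map_one _
    rw [hfix] at hmod
    have h5 : Nat.card ↥V % p = 0 := Nat.mod_eq_zero_of_dvd hpd
    have h6 : 1 % p = 1 := Nat.mod_eq_of_lt hp.one_lt
    unfold Nat.ModEq at hmod
    omega
  refine ⟨by rw [hidx]; exact hpH, H, hcompl, ?_, hfpf⟩
  -- cyclic
  by_contra hnc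
  haveI : IsMulCommutative ↥H := ⟨⟨fun a b => Subtype.ext (hHcomm a a.2 b b.2)⟩⟩
  have hVp : IsPGroup p V := by
    intro v
    refine ⟨1, ?_⟩
    rw [pow_one]
    exact Subtype.ext (hexp v v.2)
  obtain ⟨k, hk⟩ := hVp.exists_card_eq
  have hcop : (Nat.card H).Coprime (Nat.card V) := by
    rw [hk]
    exact Nat.Coprime.pow_right k ((Nat.Prime.coprime_iff_not_dvd hp).mpr hpH).symm
  have hgen := Cfsg.Agent.Lib.Helper7.cgen_eq_of_not_isCyclic H V hnc
    (by rw [normalizer_eq_top_iff.mpr hVn]; exact le_top) hcop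
  have hbot : Cfsg.Agent.Lib.Helper7.cgen H V = ⊥ := by
    unfold Cfsg.Agent.Lib.Helper7.cgen
    rw [eq_bot_iff]
    refine iSup₂_le (fun x hx => ?_)
    intro v hv
    rw [mem_bot]
    refine hfpf x hx.1 hx.2 v hv.1 ?_
    exact mem_centralizer_iff.mp hv.2 x (Set.mem_singleton x)
  rw [hbot] at hgen
  exact hne hgen.symm

/-- in the Frobenius case of `isaacs_12_3` every element outside `G'` acts fixed-point-freely on `G'` -/
theorem fpf_off_commutator
    (hcomm : ∀ v ∈ commutator G, ∀ w ∈ commutator G, v * w = w * v)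
    (L : Subgroup G) (hL : (commutator G).IsComplement' L)
    (hfpf : ∀ x ∈ L, x ≠ 1 → ∀ v ∈ commutator G, x * v = v * x → v = 1)
    (g : G) (hg : g ∉ commutator G) (v : G) (hv : v ∈ commutator G) (hgv : g * v = v * g) :
    v = 1 := by
  have huniv : ((commutator G : Subgroup G) : Set G) * (L : Set G) = Set.univ := hL.mul_eq
  have hgm : g ∈ ((commutator G : Subgroup G) : Set G) * (L : Set G) := by
    rw [huniv]; exact Set.mem_univ g
  obtain ⟨v₀, hv₀, x, hx, rfl⟩ := Set.mem_mul.mp hgm
  have hx1 : x ≠ 1 := by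
    intro h1
    apply hg
    rw [h1, mul_one]
    exact hv₀
  refine hfpf x hx hx1 v hv ?_
  have h1 : v₀ * (x * v) = v₀ * (v * x) := by
    calc v₀ * (x * v) = v₀ * x * v := by group
      _ = v * (v₀ * x) := hgv
      _ = (v * v₀) * x := by group
      _ = (v₀ * v) * x := by rw [hcomm v hv v₀ hv₀]
      _ = v₀ * (v * x) := by group
  exact mul_left_cancel h1

/-- the hypothesis of `isaacs_12_3` from: `G` nonabelian and all commutators lie in every nontrivial normal
subgroup (i.e. every proper quotient is abelian) -/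
theorem hyp_of_quotients (hnab : ¬ ∀ x y : G, x * y = y * x)
    (hq : ∀ N : Subgroup G, N.Normal → N ≠ ⊥ → ∀ x y : G, ⁅x, y⁆ ∈ N) :
    (∀ N : Subgroup G, N.Normal → N ≠ ⊥ → commutator G ≤ N) ∧ commutator G ≠ ⊥ := by
  constructor
  · intro N hN hne
    rw [_root_.commutator_def, Subgroup.commutator_le]
    intro x _ y _
    exact hq N hN hne x y
  · intro hbot
    apply hnab
    intro x y
    rw [← commutatorElement_eq_one_iff_mul_comm]
    have : ⁅x, y⁆ ∈ commutator G := by
      rw [_root_.commutator_def]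
      exact commutator_mem_commutator (mem_top x) (mem_top y)
    rwa [hbot, mem_bot] at this

end Cfsg.Agent.Lib.Helper5.Isaacs123
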