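import Mathlib
import Cfsg.Prelude.Def_Spor_J2
import Cfsg.Agent.Lib.Lead.J2.IcoLam

/-!
# Quaternion-level reflection theory for the icosian Leech lattice (part A)

Closure properties of the icosian Leech lattice `Λ = icoLeech`, the divisibility `x·r ∈ 2I` for `x, r ∈ Λ`,
and the basic identities of the quaternionic reflections `qrefl r`.
-/

set_option autoImplicit false

namespace Cfsg.Agent.Lib.Helper5.J2Refl

open Quaternion Cfsg.Spor

/-- left scalar multiplication of a vector of `ℍ³` by a quaternion -/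
noncomputable def lsm (a : ℍ[ℝ]) (v : Fin 3 → ℍ[ℝ]) : Fin 3 → ℍ[ℝ] := fun t => a * v t

theorem star_mem_icosians {a : ℍ[ℝ]} (ha : a ∈ icosians) : star a ∈ icosians := by
  obtain ⟨p, hp, rfl⟩ := (Cfsg.Agent.J2.Ico.mem_icosians_iff a).1 ha
  exact (Cfsg.Agent.J2.Ico.mem_icosians_iff _).2 ⟨_, hp.conj, Cfsg.Agent.J2.Ico.emb_conj p⟩

theorem icoH_mem : icoH ∈ icosians :=
  (Cfsg.Agent.J2.Ico.mem_icosians_iff _).2 ⟨Cfsg.Agent.J2.Ico.mH, by decide, Cfsg.Agent.J2.Ico.emb_mH⟩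

theorem star_icoH_mem : star icoH ∈ icosians := star_mem_icosians icoH_mem

theorem leftIdeal_add {q x y : ℍ[ℝ]} (hx : x ∈ leftIdeal q) (hy : y ∈ leftIdeal q) :
    x + y ∈ leftIdeal q := by
  obtain ⟨a, ha, rfl⟩ := hx
  obtain ⟨b, hb, rfl⟩ := hy
  exact ⟨a + b, icosians.add_mem ha hb, by rw [add_mul]⟩

theorem leftIdeal_neg {q x : ℍ[ℝ]} (hx : x ∈ leftIdeal q) : -x ∈ leftIdeal q := by
  obtain ⟨a, ha, rfl⟩ := hx
  exact ⟨-a, icosians.neg_mem ha, by rw [neg_mul]⟩

theorem leftIdeal_mul {q a x : ℍ[ℝ]} (ha : a ∈ icosians) (hx : x ∈ leftIdeal q) :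
    a * x ∈ leftIdeal q := by
  obtain ⟨b, hb, rfl⟩ := hx
  exact ⟨a * b, icosians.mul_mem ha hb, by rw [mul_assoc]⟩

theorem icoLeech_add {v w : Fin 3 → ℍ[ℝ]} (hv : v ∈ icoLeech) (hw : w ∈ icoLeech) : v + w ∈ icoLeech := by
  obtain ⟨h0, h1, h2, h3⟩ := hv
  obtain ⟨k0, k1, k2, k3⟩ := hw
  refine ⟨fun t => icosians.add_mem (h0 t) (k0 t), ?_, ?_, ?_⟩
  · have := leftIdeal_add h1 k1
    have e : (v + w) 0 - (v + w) 1 = v 0 - v 1 + (w 0 - w 1) := by simp only [Pi.add_apply]; abel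
    rw [e]; exact this
  · have := leftIdeal_add h2 k2
    have e : (v + w) 1 - (v + w) 2 = v 1 - v 2 + (w 1 - w 2) := by simp only [Pi.add_apply]; abel
    rw [e]; exact this
  · have := leftIdeal_add h3 k3
    have e : (v + w) 0 + (v + w) 1 + (v + w) 2 = v 0 + v 1 + v 2 + (w 0 + w 1 + w 2) := by
      simp only [Pi.add_apply]; abel
    rw [e]; exact this

theorem icoLeech_neg {v : Fin 3 → ℍ[ℝ]} (hv : v ∈ icoLeech) : -v ∈ icoLeech := by
  obtain ⟨h0, h1, h2, h3⟩ := hv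
  refine ⟨fun t => icosians.neg_mem (h0 t), ?_, ?_, ?_⟩
  · have := leftIdeal_neg h1
    have e : (-v) 0 - (-v) 1 = -(v 0 - v 1) := by simp only [Pi.neg_apply]; abel
    rw [e]; exact this
  · have := leftIdeal_neg h2
    have e : (-v) 1 - (-v) 2 = -(v 1 - v 2) := by simp only [Pi.neg_apply]; abel
    rw [e]; exact this
  · have := leftIdeal_neg h3
    have e : (-v) 0 + (-v) 1 + (-v) 2 = -(v 0 + v 1 + v 2) := by simp only [Pi.neg_apply]; abel
    rw [e]; exact this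

theorem icoLeech_lsm {a : ℍ[ℝ]} (ha : a ∈ icosians) {v : Fin 3 → ℍ[ℝ]} (hv : v ∈ icoLeech) :
    lsm a v ∈ icoLeech := by
  obtain ⟨h0, h1, h2, h3⟩ := hv
  refine ⟨fun t => icosians.mul_mem ha (h0 t), ?_, ?_, ?_⟩
  · have := leftIdeal_mul ha h1
    have e : lsm a v 0 - lsm a v 1 = a * (v 0 - v 1) := by simp only [lsm]; rw [mul_sub]
    rw [e]; exact this
  · have := leftIdeal_mul ha h2
    have e : lsm a v 1 - lsm a v 2 = a * (v 1 - v 2) := by simp only [lsm]; rw [mul_sub]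
    rw [e]; exact this
  · have := leftIdeal_mul ha h3
    have e : lsm a v 0 + lsm a v 1 + lsm a v 2 = a * (v 0 + v 1 + v 2) := by
      simp only [lsm]; rw [mul_add, mul_add]
    rw [e]; exact this

theorem qip_def3 (x r : Fin 3 → ℍ[ℝ]) :
    qip x r = x 0 * star (r 0) + x 1 * star (r 1) + x 2 * star (r 2) := by
  unfold qip; rw [Fin.sum_univ_three]

/-- the algebraic identity behind `x·r ∈ 2I` -/
theorem core_identity {R : Type*} [Ring R] (h hb : R) (h1 : h * hb = 2) (h2 : hb * h = 2)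
    (c a0 a1 a2 d b0 b1 b2 : R) (ha : a0 + a1 + a2 = 0) (hb' : b0 + b1 + b2 = 0) :
    (c * hb + a0 * h) * (h * d + hb * b0) + (c * hb + a1 * h) * (h * d + hb * b1)
      + (c * hb + a2 * h) * (h * d + hb * b2)
    = 2 * (3 * (c * d) + a0 * b0 + a1 * b1 + a2 * b2) := by
  have key : ∀ a b : R, (c * hb + a * h) * (h * d + hb * b)
      = 2 * (c * d) + c * hb * hb * b + a * h * h * d + 2 * (a * b) := by
    intro a b
    have e1 : c * hb * (h * d) = 2 * (c * d) := by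
      rw [mul_assoc, ← mul_assoc hb, h2, two_mul, mul_add, ← two_mul]
    have e2 : a * h * (hb * b) = 2 * (a * b) := by
      rw [mul_assoc, ← mul_assoc h, h1, two_mul, mul_add, ← two_mul]
    rw [add_mul, mul_add, mul_add, e1, e2]
    noncomm_ring
  rw [key, key, key]
  have s1 : c * hb * hb * b0 + c * hb * hb * b1 + c * hb * hb * b2 = 0 := by
    rw [← mul_add, ← mul_add, hb', mul_zero]
  have s2 : a0 * h * h * d + a1 * h * h * d + a2 * h * h * d = 0 := by
    have : a0 * h * h * d + a1 * h * h * d + a2 * h * h * d = (a0 + a1 + a2) * h * h * d := by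
      noncomm_ring
    rw [this, ha]; simp
  have : 2 * (c * d) + c * hb * hb * b0 + a0 * h * h * d + 2 * (a0 * b0) +
      (2 * (c * d) + c * hb * hb * b1 + a1 * h * h * d + 2 * (a1 * b1)) +
      (2 * (c * d) + c * hb * hb * b2 + a2 * h * h * d + 2 * (a2 * b2))
      = (c * hb * hb * b0 + c * hb * hb * b1 + c * hb * hb * b2)
        + (a0 * h * h * d + a1 * h * h * d + a2 * h * h * d)
        + 2 * (3 * (c * d) + a0 * b0 + a1 * b1 + a2 * b2) := by
    noncomm_ring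
  rw [this, s1, s2]; simp

theorem qip_mem_icosians {x r : Fin 3 → ℍ[ℝ]} (hx : ∀ t, x t ∈ icosians) (hr : ∀ t, r t ∈ icosians) :
    qip x r ∈ icosians := by
  rw [qip_def3]
  exact icosians.add_mem (icosians.add_mem (icosians.mul_mem (hx 0) (star_mem_icosians (hr 0)))
    (icosians.mul_mem (hx 1) (star_mem_icosians (hr 1)))) (icosians.mul_mem (hx 2) (star_mem_icosians (hr 2)))

theorem qip_mem_two {x r : Fin 3 → ℍ[ℝ]} (hx : x ∈ icoLeech) (hr : r ∈ icoLeech) :
    ∃ c ∈ icosians, qip x r = 2 * c := by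
  obtain ⟨hxI, ⟨a, haI, ha⟩, ⟨b, hbI, hb⟩, ⟨c, hcI, hc⟩⟩ := hx
  obtain ⟨hrI, ⟨a', haI', ha'⟩, ⟨b', hbI', hb'⟩, ⟨c', hcI', hc'⟩⟩ := hr
  have hT := qip_mem_icosians hxI hrI
  have h1 : icoH * star icoH = 2 := Cfsg.Agent.J2.Ico.icoH_mul_star
  have h2 : star icoH * icoH = 2 := Cfsg.Agent.J2.Ico.star_icoH_mul
  -- 3 x_t = c h̄ + α_t h
  have x0 : 3 * x 0 = c * star icoH + (2 * a + b) * icoH := by
    have : 3 * x 0 = (x 0 + x 1 + x 2) + 2 * (x 0 - x 1) + (x 1 - x 2) := by noncomm_ring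
    rw [this, ha, hb, hc]; noncomm_ring
  have x1 : 3 * x 1 = c * star icoH + (b - a) * icoH := by
    have : 3 * x 1 = (x 0 + x 1 + x 2) - (x 0 - x 1) + (x 1 - x 2) := by noncomm_ring
    rw [this, ha, hb, hc]; noncomm_ring
  have x2 : 3 * x 2 = c * star icoH + (-a - 2 * b) * icoH := by
    have : 3 * x 2 = (x 0 + x 1 + x 2) - (x 0 - x 1) - 2 * (x 1 - x 2) := by noncomm_ring
    rw [this, ha, hb, hc]; noncomm_ring
  have r0 : 3 * r 0 = c' * star icoH + (2 * a' + b') * icoH := by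
    have : 3 * r 0 = (r 0 + r 1 + r 2) + 2 * (r 0 - r 1) + (r 1 - r 2) := by noncomm_ring
    rw [this, ha', hb', hc']; noncomm_ring
  have r1 : 3 * r 1 = c' * star icoH + (b' - a') * icoH := by
    have : 3 * r 1 = (r 0 + r 1 + r 2) - (r 0 - r 1) + (r 1 - r 2) := by noncomm_ring
    rw [this, ha', hb', hc']; noncomm_ring
  have r2 : 3 * r 2 = c' * star icoH + (-a' - 2 * b') * icoH := by
    have : 3 * r 2 = (r 0 + r 1 + r 2) - (r 0 - r 1) - 2 * (r 1 - r 2) := by noncomm_ring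
    rw [this, ha', hb', hc']; noncomm_ring
  have st : ∀ (u β : ℍ[ℝ]), 3 * u = c' * star icoH + β * icoH →
      star (3 * u) = icoH * star c' + star icoH * star β := by
    intro u β h
    rw [h, star_add, star_mul, star_mul, star_star]
  have s0 := st _ _ r0
  have s1 := st _ _ r1
  have s2 := st _ _ r2
  have nine : ∀ u w : ℍ[ℝ], (3 * u) * star (3 * w) = 9 * (u * star w) := by
    intro u w
    rw [star_mul, star_ofNat]
    noncomm_ring
  have hsum := core_identity icoH (star icoH) h1 h2 c (2 * a + b) (b - a) (-a - 2 * b) (star c')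
    (star (2 * a' + b')) (star (b' - a')) (star (-a' - 2 * b')) (by noncomm_ring)
    (by rw [← star_add, ← star_add]
        have : 2 * a' + b' + (b' - a') + (-a' - 2 * b') = 0 := by noncomm_ring
        rw [this, star_zero])
  rw [← x0, ← x1, ← x2, ← s0, ← s1, ← s2, nine, nine, nine, ← mul_add, ← mul_add, ← qip_def3] at hsum
  set E : ℍ[ℝ] := 3 * (c * star c') + (2 * a + b) * star (2 * a' + b') + (b - a) * star (b' - a') +
      (-a - 2 * b) * star (-a' - 2 * b') with hE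
  have hEI : E ∈ icosians := by
    have two : (2 : ℍ[ℝ]) ∈ icosians := ofNat_mem _ 2
    have three : (3 : ℍ[ℝ]) ∈ icosians := ofNat_mem _ 3
    have m1 : 2 * a + b ∈ icosians := icosians.add_mem (icosians.mul_mem two haI) hbI
    have m2 : b - a ∈ icosians := icosians.sub_mem hbI haI
    have m3 : -a - 2 * b ∈ icosians := icosians.sub_mem (icosians.neg_mem haI) (icosians.mul_mem two hbI)
    have m1' : 2 * a' + b' ∈ icosians := icosians.add_mem (icosians.mul_mem two haI') hbI'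
    have m2' : b' - a' ∈ icosians := icosians.sub_mem hbI' haI'
    have m3' : -a' - 2 * b' ∈ icosians :=
      icosians.sub_mem (icosians.neg_mem haI') (icosians.mul_mem two hbI')
    exact icosians.add_mem (icosians.add_mem (icosians.add_mem
      (icosians.mul_mem three (icosians.mul_mem hcI (star_mem_icosians hcI')))
      (icosians.mul_mem m1 (star_mem_icosians m1'))) (icosians.mul_mem m2 (star_mem_icosians m2')))
      (icosians.mul_mem m3 (star_mem_icosians m3'))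
  refine ⟨E - 4 * qip x r, icosians.sub_mem hEI (icosians.mul_mem (ofNat_mem _ 4) hT), ?_⟩
  have e : 2 * (E - 4 * qip x r) = 2 * E - 8 * qip x r := by noncomm_ring
  rw [e, ← hsum]; noncomm_ring

theorem qip_add_left (x y r : Fin 3 → ℍ[ℝ]) : qip (x + y) r = qip x r + qip y r := by
  simp only [qip, Pi.add_apply, add_mul, Finset.sum_add_distrib]

theorem qip_sub_left (x y r : Fin 3 → ℍ[ℝ]) : qip (x - y) r = qip x r - qip y r := by
  simp only [qip, Pi.sub_apply, sub_mul, Finset.sum_sub_distrib]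

theorem qip_sub_right (x r s : Fin 3 → ℍ[ℝ]) : qip x (r - s) = qip x r - qip x s := by
  simp only [qip, Pi.sub_apply, star_sub, mul_sub, Finset.sum_sub_distrib]

theorem qip_lsm_left (c : ℍ[ℝ]) (x r : Fin 3 → ℍ[ℝ]) : qip (lsm c x) r = c * qip x r := by
  simp only [qip, lsm, Finset.mul_sum, mul_assoc]

theorem qip_lsm_right (d : ℍ[ℝ]) (x r : Fin 3 → ℍ[ℝ]) : qip x (lsm d r) = qip x r * star d := by
  simp only [qip, lsm, Finset.sum_mul, star_mul, mul_assoc]

theorem star_qip (x y : Fin 3 → ℍ[ℝ]) : star (qip x y) = qip y x := by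
  simp only [qip, star_sum, star_mul, star_star]

theorem qrefl_eq_sub (r x : Fin 3 → ℍ[ℝ]) : qrefl r x = x - lsm ((1 / 2 : ℝ) • qip x r) r := rfl

theorem half_smul_two_mul (c : ℍ[ℝ]) : (1 / 2 : ℝ) • ((2 : ℍ[ℝ]) * c) = c := by
  rw [two_mul, ← two_smul ℝ c, smul_smul]; norm_num

theorem qrefl_mem {r x : Fin 3 → ℍ[ℝ]} (hr : r ∈ icoLeech) (h4 : qip r r = 4) (hx : x ∈ icoLeech) :
    qrefl r x ∈ icoLeech := by
  have _ := h4
  obtain ⟨c, hc, e⟩ := qip_mem_two hx hr
  rw [qrefl_eq_sub, e, half_smul_two_mul, sub_eq_add_neg]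
  exact icoLeech_add hx (icoLeech_neg (icoLeech_lsm hc hr))

theorem four_eq : (4 : ℍ[ℝ]) = (((4 : ℝ)) : ℍ[ℝ]) := by norm_cast

theorem mul_four (q : ℍ[ℝ]) : q * 4 = (4 : ℝ) • q := by
  rw [four_eq, Quaternion.mul_coe_eq_smul]

theorem qrefl_qrefl {r : Fin 3 → ℍ[ℝ]} (h4 : qip r r = 4) (x : Fin 3 → ℍ[ℝ]) : qrefl r (qrefl r x) = x := by
  have e : qip (qrefl r x) r = - qip x r := by
    rw [qrefl_eq_sub, qip_sub_left, qip_lsm_left, h4, mul_four, smul_smul]
    have h : (4 * (1 / 2) : ℝ) = 2 := by norm_num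
    rw [h, two_smul]; abel
  rw [qrefl_eq_sub r (qrefl r x), e, qrefl_eq_sub]
  funext t
  simp only [Pi.sub_apply, lsm, smul_neg, neg_mul]
  abel

theorem qip_qrefl {r : Fin 3 → ℍ[ℝ]} (h4 : qip r r = 4) (x y : Fin 3 → ℍ[ℝ]) :
    qip (qrefl r x) (qrefl r y) = qip x y := by
  rw [qrefl_eq_sub, qrefl_eq_sub, qip_sub_left, qip_sub_right, qip_sub_right, qip_lsm_left, qip_lsm_left,
    qip_lsm_right, qip_lsm_right, h4, ← star_qip y r, Quaternion.star_smul, ← mul_assoc, mul_four]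
  simp only [smul_mul_assoc, mul_smul_comm, smul_smul]
  have : ∀ z : ℍ[ℝ], qip x y - (1 / 2 : ℝ) • z - ((1 / 2 : ℝ) • z - (1 / 2 * (4 * (1 / 2)) : ℝ) • z) = qip x y := by
    intro z
    have h : (1 / 2 * (4 * (1 / 2)) : ℝ) = 1 := by norm_num
    rw [h, one_smul]
    have h2 : z = (1 / 2 : ℝ) • z + (1 / 2 : ℝ) • z := by rw [← add_smul]; norm_num
    nth_rewrite 3 [h2]
    abel
  exact this _

end Cfsg.Agent.Lib.Helper5.J2Refl
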