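import Mathlib
import Cfsg.Prelude.Def_Spor_J2
import Cfsg.Agent.Lib.Helper5.J2ReflA

/-!
# Quaternion-level reflection theory for the icosian Leech lattice (part B)

The reflections as permutations of `Λ`, linearity of the elements of `2·J₂`, conjugation of reflections, and `-1`.
-/

set_option autoImplicit false

namespace Cfsg.Agent.Lib.Helper5.J2Refl

open Quaternion Cfsg.Spor

/-- the reflection in a minimal vector `r`, as a permutation of the lattice -/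
noncomputable def reflPerm (r : icoLeech) (h4 : qip (r : Fin 3 → ℍ[ℝ]) r = 4) : Equiv.Perm icoLeech where
  toFun x := ⟨qrefl r x, qrefl_mem r.2 h4 x.2⟩
  invFun x := ⟨qrefl r x, qrefl_mem r.2 h4 x.2⟩
  left_inv x := Subtype.ext (qrefl_qrefl h4 x)
  right_inv x := Subtype.ext (qrefl_qrefl h4 x)

theorem reflPerm_apply (r : icoLeech) (h4 : qip (r : Fin 3 → ℍ[ℝ]) r = 4) (x : icoLeech) :
    ((reflPerm r h4 x : icoLeech) : Fin 3 → ℍ[ℝ]) = qrefl r x := rfl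

theorem isIcoReflection_iff (f : Equiv.Perm icoLeech) :
    IsIcoReflection f ↔ ∃ (r : icoLeech) (h4 : qip (r : Fin 3 → ℍ[ℝ]) r = 4), f = reflPerm r h4 := by
  constructor
  · rintro ⟨r, h4, hf⟩
    exact ⟨r, h4, Equiv.ext fun x => Subtype.ext (hf x)⟩
  · rintro ⟨r, h4, rfl⟩
    exact ⟨r, h4, fun x => rfl⟩

/-- linearity (over the icosians, acting on the left) and invariance of the Hermitian form -/
structure IsLin (g : Equiv.Perm icoLeech) : Prop where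
  add : ∀ x y z : icoLeech, (z : Fin 3 → ℍ[ℝ]) = x + y → ((g z : icoLeech) : Fin 3 → ℍ[ℝ]) = g x + g y
  smul : ∀ (a : ℍ[ℝ]) (x z : icoLeech), a ∈ icosians → (z : Fin 3 → ℍ[ℝ]) = lsm a x →
    ((g z : icoLeech) : Fin 3 → ℍ[ℝ]) = lsm a (g x)
  qip : ∀ x y : icoLeech, Cfsg.Spor.qip (g x : Fin 3 → ℍ[ℝ]) (g y) = Cfsg.Spor.qip (x : Fin 3 → ℍ[ℝ]) y

theorem lsm_add (c : ℍ[ℝ]) (x y : Fin 3 → ℍ[ℝ]) : lsm c (x + y) = lsm c x + lsm c y := by
  funext t; simp only [lsm, Pi.add_apply, mul_add]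

theorem lsm_lsm (a c : ℍ[ℝ]) (x : Fin 3 → ℍ[ℝ]) : lsm a (lsm c x) = lsm (a * c) x := by
  funext t; simp only [lsm, mul_assoc]

theorem qrefl_add (r x y : Fin 3 → ℍ[ℝ]) : qrefl r (x + y) = qrefl r x + qrefl r y := by
  funext t
  simp only [qrefl, qip_add_left, Pi.add_apply, smul_add, add_mul]
  abel

theorem qrefl_lsm (r : Fin 3 → ℍ[ℝ]) (a : ℍ[ℝ]) (x : Fin 3 → ℍ[ℝ]) : qrefl r (lsm a x) = lsm a (qrefl r x) := by
  funext t
  simp only [qrefl, qip_lsm_left, lsm, mul_sub]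
  rw [← mul_smul_comm, mul_assoc]

theorem isLin_reflPerm (r : icoLeech) (h4 : Cfsg.Spor.qip (r : Fin 3 → ℍ[ℝ]) r = 4) : IsLin (reflPerm r h4) where
  add x y z hz := by
    rw [reflPerm_apply, reflPerm_apply, reflPerm_apply, hz, qrefl_add]
  smul a x z _ hz := by
    rw [reflPerm_apply, reflPerm_apply, hz, qrefl_lsm]
  qip x y := by
    rw [reflPerm_apply, reflPerm_apply, qip_qrefl h4]

theorem perm_apply_inv (g : Equiv.Perm icoLeech) (x : icoLeech) : g (g⁻¹ x) = x := g.apply_symm_apply x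

theorem perm_inv_apply (g : Equiv.Perm icoLeech) (x : icoLeech) : g⁻¹ (g x) = x := g.symm_apply_apply x

theorem isLin_one : IsLin 1 where
  add _ _ _ hz := hz
  smul _ _ _ _ hz := hz
  qip _ _ := rfl

theorem IsLin.mul {g k : Equiv.Perm icoLeech} (hg : IsLin g) (hk : IsLin k) : IsLin (g * k) where
  add x y z hz := hg.add (k x) (k y) (k z) (hk.add x y z hz)
  smul a x z ha hz := hg.smul a (k x) (k z) ha (hk.smul a x z ha hz)
  qip x y := (hg.qip (k x) (k y)).trans (hk.qip x y)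

theorem IsLin.inv {g : Equiv.Perm icoLeech} (hg : IsLin g) : IsLin g⁻¹ where
  add x y z hz := by
    have hw := hg.add (g⁻¹ x) (g⁻¹ y) ⟨_, icoLeech_add (g⁻¹ x).2 (g⁻¹ y).2⟩ rfl
    rw [perm_apply_inv, perm_apply_inv, ← hz] at hw
    have e : g ⟨_, icoLeech_add (g⁻¹ x).2 (g⁻¹ y).2⟩ = z := Subtype.ext hw
    rw [← e, perm_inv_apply]
  smul a x z ha hz := by
    have hw := hg.smul a (g⁻¹ x) ⟨_, icoLeech_lsm ha (g⁻¹ x).2⟩ ha rfl
    rw [perm_apply_inv, ← hz] at hw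
    have e : g ⟨_, icoLeech_lsm ha (g⁻¹ x).2⟩ = z := Subtype.ext hw
    rw [← e, perm_inv_apply]
  qip x y := by
    have := hg.qip (g⁻¹ x) (g⁻¹ y)
    rw [perm_apply_inv, perm_apply_inv] at this
    exact this.symm

theorem isLin_of_mem {g : Equiv.Perm icoLeech} (hg : g ∈ twoJ2) : IsLin g := by
  unfold twoJ2 at hg
  induction hg using Subgroup.closure_induction with
  | mem f hf =>
    obtain ⟨r, h4, rfl⟩ := (isIcoReflection_iff f).1 hf
    exact isLin_reflPerm r h4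
  | one => exact isLin_one
  | mul a b _ _ ha hb => exact ha.mul hb
  | inv a _ ha => exact ha.inv

theorem conj_reflPerm {g : Equiv.Perm icoLeech} (hg : g ∈ twoJ2) (r : icoLeech)
    (h4 : qip (r : Fin 3 → ℍ[ℝ]) r = 4)
    (h4' : qip (g r : Fin 3 → ℍ[ℝ]) (g r) = 4) : g * reflPerm r h4 * g⁻¹ = reflPerm (g r) h4' := by
  have hl := isLin_of_mem hg
  apply Equiv.ext
  intro x
  apply Subtype.ext
  rw [Equiv.Perm.mul_apply, Equiv.Perm.mul_apply, reflPerm_apply]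
  set y : icoLeech := g⁻¹ x with hy
  have hgy : g y = x := perm_apply_inv g x
  obtain ⟨c, hc, e⟩ := qip_mem_two y.2 r.2
  -- z = reflPerm r y, with y = z + c r
  set z : icoLeech := reflPerm r h4 y with hz
  have hzv : (z : Fin 3 → ℍ[ℝ]) = (y : Fin 3 → ℍ[ℝ]) - lsm c r := by
    rw [hz, reflPerm_apply, qrefl_eq_sub, e, half_smul_two_mul]
  set w : icoLeech := ⟨lsm c r, icoLeech_lsm hc r.2⟩ with hw
  have h1 : (y : Fin 3 → ℍ[ℝ]) = z + w := by rw [hzv, hw]; simp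
  have h2 := hl.add z w y h1
  have h3 := hl.smul c r w hc rfl
  have h5 : qip (x : Fin 3 → ℍ[ℝ]) (g r) = 2 * c := by
    rw [← hgy, hl.qip, e]
  rw [qrefl_eq_sub, h5, half_smul_two_mul, ← h3, ← hgy, h2]
  simp

/-- `-1` as a permutation of the lattice -/
noncomputable def negPerm : Equiv.Perm icoLeech where
  toFun x := ⟨-x, icoLeech_neg x.2⟩
  invFun x := ⟨-x, icoLeech_neg x.2⟩
  left_inv _ := Subtype.ext (neg_neg _)
  right_inv _ := Subtype.ext (neg_neg _)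

theorem negPerm_apply (x : icoLeech) : ((negPerm x : icoLeech) : Fin 3 → ℍ[ℝ]) = -x := rfl

theorem two_mem_leftIdeal_H : (2 : ℍ[ℝ]) ∈ leftIdeal icoH :=
  ⟨star icoH, star_icoH_mem, Cfsg.Agent.J2.Ico.star_icoH_mul.symm⟩

theorem two_mem_leftIdeal_Hbar : (2 : ℍ[ℝ]) ∈ leftIdeal (star icoH) :=
  ⟨icoH, icoH_mem, Cfsg.Agent.J2.Ico.icoH_mul_star.symm⟩

theorem zero_mem_leftIdeal (q : ℍ[ℝ]) : (0 : ℍ[ℝ]) ∈ leftIdeal q :=
  ⟨0, icosians.zero_mem, (zero_mul q).symm⟩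

theorem single_mem (i : Fin 3) : (Pi.single i (2 : ℍ[ℝ]) : Fin 3 → ℍ[ℝ]) ∈ icoLeech := by
  have two : (2 : ℍ[ℝ]) ∈ icosians := ofNat_mem _ 2
  refine ⟨fun t => ?_, ?_, ?_, ?_⟩
  · by_cases h : t = i
    · subst h; rw [Pi.single_eq_same]; exact two
    · rw [Pi.single_eq_of_ne h]; exact icosians.zero_mem
  · fin_cases i
    · simpa using two_mem_leftIdeal_H
    · simpa using leftIdeal_neg two_mem_leftIdeal_H
    · simpa using zero_mem_leftIdeal icoH
  · fin_cases i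
    · simpa using zero_mem_leftIdeal icoH
    · simpa using two_mem_leftIdeal_H
    · simpa using leftIdeal_neg two_mem_leftIdeal_H
  · fin_cases i
    all_goals simpa using two_mem_leftIdeal_Hbar

theorem qip_single (i : Fin 3) (x : Fin 3 → ℍ[ℝ]) : qip x (Pi.single i (2 : ℍ[ℝ])) = x i * 2 := by
  unfold qip
  rw [Finset.sum_eq_single i]
  · rw [Pi.single_eq_same, star_ofNat]
  · intro b _ hb
    rw [Pi.single_eq_of_ne hb, star_zero, mul_zero]
  · intro h; exact absurd (Finset.mem_univ i) h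

theorem qip_single_self (i : Fin 3) :
    qip (Pi.single i (2 : ℍ[ℝ]) : Fin 3 → ℍ[ℝ]) (Pi.single i (2 : ℍ[ℝ])) = 4 := by
  rw [qip_single, Pi.single_eq_same]; norm_num

theorem qrefl_single (i : Fin 3) (x : Fin 3 → ℍ[ℝ]) (t : Fin 3) :
    qrefl (Pi.single i (2 : ℍ[ℝ])) x t = if t = i then - x t else x t := by
  unfold qrefl
  rw [qip_single]
  by_cases h : t = i
  · subst h
    rw [Pi.single_eq_same, if_pos rfl]
    have e : (1 / 2 : ℝ) • (x t * 2) = x t := by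
      rw [mul_two, ← two_smul ℝ (x t), smul_smul]; norm_num
    rw [e, mul_two]; abel
  · rw [Pi.single_eq_of_ne h, if_neg h, mul_zero, sub_zero]

/-- the three coordinate vectors `(2,0,0)`, `(0,2,0)`, `(0,0,2)` of the lattice -/
noncomputable def eVec (i : Fin 3) : icoLeech := ⟨Pi.single i (2 : ℍ[ℝ]), single_mem i⟩

theorem reflPerm_eVec_apply (i : Fin 3) (x : icoLeech) (t : Fin 3) :
    ((reflPerm (eVec i) (qip_single_self i) x : icoLeech) : Fin 3 → ℍ[ℝ]) t =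
      if t = i then - (x : Fin 3 → ℍ[ℝ]) t else (x : Fin 3 → ℍ[ℝ]) t :=
  qrefl_single i x t

theorem negPerm_eq : negPerm = reflPerm (eVec 0) (qip_single_self 0) * reflPerm (eVec 1) (qip_single_self 1) *
    reflPerm (eVec 2) (qip_single_self 2) := by
  apply Equiv.ext
  intro x
  apply Subtype.ext
  funext t
  rw [Equiv.Perm.mul_apply, Equiv.Perm.mul_apply, reflPerm_eVec_apply, reflPerm_eVec_apply,
    reflPerm_eVec_apply, negPerm_apply]
  fin_cases t <;> simp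

theorem reflPerm_mem (r : icoLeech) (h4 : qip (r : Fin 3 → ℍ[ℝ]) r = 4) : reflPerm r h4 ∈ twoJ2 :=
  Subgroup.subset_closure ((isIcoReflection_iff _).2 ⟨r, h4, rfl⟩)

theorem negPerm_mem : negPerm ∈ twoJ2 := by
  rw [negPerm_eq]
  exact twoJ2.mul_mem (twoJ2.mul_mem (reflPerm_mem _ _) (reflPerm_mem _ _)) (reflPerm_mem _ _)

theorem neg_one_mem_icosians : (-1 : ℍ[ℝ]) ∈ icosians := icosians.neg_mem icosians.one_mem

theorem negPerm_central : (⟨negPerm, negPerm_mem⟩ : twoJ2) ∈ Subgroup.center twoJ2 := by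
  rw [Subgroup.mem_center_iff]
  intro g
  apply Subtype.ext
  apply Equiv.ext
  intro x
  apply Subtype.ext
  have hl := isLin_of_mem g.2
  show ((g : Equiv.Perm icoLeech) (negPerm x) : Fin 3 → ℍ[ℝ]) = (negPerm ((g : Equiv.Perm icoLeech) x) : Fin 3 → ℍ[ℝ])
  rw [negPerm_apply]
  have h := hl.smul (-1) x (negPerm x) neg_one_mem_icosians (by
    rw [negPerm_apply]; funext t; simp [lsm])
  rw [h]; funext t; simp [lsm]

theorem reflPerm_eq_of (r s : icoLeech) (hr : qip (r : Fin 3 → ℍ[ℝ]) r = 4) (hs : qip (s : Fin 3 → ℍ[ℝ]) s = 4)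
    (h : ∀ t t', star ((r : Fin 3 → ℍ[ℝ]) t) * (r : Fin 3 → ℍ[ℝ]) t' =
      star ((s : Fin 3 → ℍ[ℝ]) t) * (s : Fin 3 → ℍ[ℝ]) t') : reflPerm r hr = reflPerm s hs := by
  apply Equiv.ext
  intro x
  apply Subtype.ext
  funext t'
  rw [reflPerm_apply, reflPerm_apply]
  unfold qrefl
  have e : ∀ (u : Fin 3 → ℍ[ℝ]), ((1 / 2 : ℝ) • qip (x : Fin 3 → ℍ[ℝ]) u) * u t' =
      (1 / 2 : ℝ) • ∑ t, (x : Fin 3 → ℍ[ℝ]) t * (star (u t) * u t') := by
    intro u
    rw [smul_mul_assoc, qip, Finset.sum_mul]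
    simp only [mul_assoc]
  rw [e, e]
  simp only [h]

theorem reflPerm_eq_imp (r s : icoLeech) (hr : qip (r : Fin 3 → ℍ[ℝ]) r = 4) (hs : qip (s : Fin 3 → ℍ[ℝ]) s = 4)
    (h : reflPerm r hr = reflPerm s hs) (t t' : Fin 3) :
    star ((r : Fin 3 → ℍ[ℝ]) t) * (r : Fin 3 → ℍ[ℝ]) t' =
      star ((s : Fin 3 → ℍ[ℝ]) t) * (s : Fin 3 → ℍ[ℝ]) t' := by
  have h1 : qrefl (r : Fin 3 → ℍ[ℝ]) r = qrefl (s : Fin 3 → ℍ[ℝ]) r := by
    have := congrArg (fun f : Equiv.Perm icoLeech => ((f r : icoLeech) : Fin 3 → ℍ[ℝ])) h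
    simpa only [reflPerm_apply] using this
  set c : ℍ[ℝ] := (1 / 4 : ℝ) • qip (r : Fin 3 → ℍ[ℝ]) s with hc
  have hrc : (r : Fin 3 → ℍ[ℝ]) = lsm c s := by
    funext u
    have h2 := congrFun h1 u
    simp only [qrefl, hr] at h2
    have e1 : ((1 / 2 : ℝ) • (4 : ℍ[ℝ])) = 2 := by
      have : (4 : ℍ[ℝ]) = 2 * 2 := by norm_num
      rw [this, half_smul_two_mul]
    rw [e1] at h2
    -- h2 : r u - 2 * r u = r u - (1/2 • qip r s) * s u
    have h3 : (2 : ℍ[ℝ]) * (r : Fin 3 → ℍ[ℝ]) u = ((1 / 2 : ℝ) • qip (r : Fin 3 → ℍ[ℝ]) s) * (s : Fin 3 → ℍ[ℝ]) u := by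
      have := sub_right_injective h2
      exact this
    have h4 : (r : Fin 3 → ℍ[ℝ]) u = (1 / 2 : ℝ) • ((2 : ℍ[ℝ]) * (r : Fin 3 → ℍ[ℝ]) u) := (half_smul_two_mul _).symm
    rw [h4, h3, lsm, hc, smul_mul_assoc, smul_mul_assoc, smul_smul]
    norm_num
  have hn : c * star c = 1 := by
    have e := hr
    have e4 : (4 : ℍ[ℝ]) * star c = (4 : ℝ) • star c := by rw [four_eq, Quaternion.coe_mul_eq_smul]
    rw [hrc, qip_lsm_left, qip_lsm_right, hs, e4, mul_smul_comm] at e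
    -- e : 4 • (c * star c) = 4
    have : (4 : ℝ) • (c * star c) = (4 : ℝ) • (1 : ℍ[ℝ]) := by
      rw [e, ← mul_four, one_mul]
    exact smul_right_injective _ (by norm_num : (4 : ℝ) ≠ 0) this
  have hn' : star c * c = 1 := by
    rw [Quaternion.self_mul_star] at hn
    rw [Quaternion.star_mul_self]; exact hn
  rw [hrc]
  simp only [lsm, star_mul]
  rw [mul_assoc, ← mul_assoc (star c), hn', one_mul]

end Cfsg.Agent.Lib.Helper5.J2Refl
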