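import Mathlib
import Cfsg.Prelude.Def_Spor_J2
import Cfsg.Agent.Lib.Helper5.J2ReflB

/-!
# The centre of `2·J₂` at quaternion level

A linear permutation of the icosian Leech lattice fixing every quaternionic line of minimal vectors is `±1`;
the centre of `twoJ2` is `{1, -1}`.
-/

set_option autoImplicit false

namespace Cfsg.Agent.Lib.Helper5.J2Refl

open Quaternion Cfsg.Spor Cfsg.Agent.J2

/-- (L4) equal "signatures" means same quaternionic line -/
theorem exists_lsm_of_sig {r s : Fin 3 → ℍ[ℝ]} (hr : qip r r = 4)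
    (h : ∀ t t' : Fin 3, star (s t) * s t' = star (r t) * r t') : ∃ c : ℍ[ℝ], s = lsm c r := by
  have hs : qip s s = 4 := by
    rw [← hr]; unfold qip
    refine Finset.sum_congr rfl fun t _ => ?_
    rw [Quaternion.self_mul_star, Quaternion.self_mul_star]
    have := h t t
    rw [Quaternion.star_mul_self, Quaternion.star_mul_self] at this
    exact this
  refine ⟨(1 / 4 : ℝ) • qip s r, ?_⟩
  funext t'
  simp only [lsm]
  rw [smul_mul_assoc, qip, Finset.sum_mul]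
  have e : ∀ t, s t * star (r t) * r t' = s t * star (s t) * s t' := by
    intro t; rw [mul_assoc, ← h t t', ← mul_assoc]
  simp only [e]
  rw [← Finset.sum_mul]
  change s t' = (1 / 4 : ℝ) • (qip s s * s t')
  rw [hs, four_eq, Quaternion.coe_mul_eq_smul, smul_smul]; norm_num

theorem two_mul_cancel {a b : ℍ[ℝ]} (h : (2 : ℍ[ℝ]) * a = 2 * b) : a = b := by
  rw [← half_smul_two_mul a, h, half_smul_two_mul]

theorem icoH_mul_left_cancel {a b : ℍ[ℝ]} (h : icoH * a = icoH * b) : a = b := by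
  have := congrArg (fun z => star icoH * z) h
  simp only [← mul_assoc, Ico.star_icoH_mul] at this
  exact two_mul_cancel this

theorem icoH_mul_right_cancel {a b : ℍ[ℝ]} (h : a * icoH = b * icoH) : a = b := by
  have := congrArg (fun z => z * star icoH) h
  simp only [mul_assoc, Ico.icoH_mul_star] at this
  have e : ∀ z : ℍ[ℝ], z * 2 = 2 * z := fun z => by rw [mul_two, two_mul]
  rw [e, e] at this
  exact two_mul_cancel this

/-- the model of `w₁ = ½(i + σ j + τ k)` -/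
def mW1 : Ico := ⟨0, 0, 1, 0, 1, -1, 0, 1⟩
/-- the model of `w₂ = ½(σ i + τ j + k)` -/
def mW2 : Ico := ⟨0, 0, 1, -1, 0, 1, 1, 0⟩

/-- a quaternion commuting with `w₁` and `w₂` is real -/
theorem real_of_commute {c : ℍ[ℝ]} (h1 : c * Ico.emb mW1 = Ico.emb mW1 * c)
    (h2 : c * Ico.emb mW2 = Ico.emb mW2 * c) : c = ((c.re : ℝ) : ℍ[ℝ]) := by
  have ht := Ico.tau_sq
  have a1 := congrArg QuaternionAlgebra.imI h1
  have a2 := congrArg QuaternionAlgebra.imJ h1
  have a3 := congrArg QuaternionAlgebra.imK h1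
  have b1 := congrArg QuaternionAlgebra.imI h2
  have b2 := congrArg QuaternionAlgebra.imJ h2
  have b3 := congrArg QuaternionAlgebra.imK h2
  simp only [Quaternion.imI_mul, Quaternion.imJ_mul, Quaternion.imK_mul, Ico.emb_re, Ico.emb_imI, Ico.emb_imJ,
    Ico.emb_imK, mW1, mW2] at a1 a2 a3 b1 b2 b3
  push_cast at a1 a2 a3 b1 b2 b3
  -- a2 : c3 = τ c1 ; b2 : c1 = σ c3
  have e3 : c.imK = tau * c.imI := by linarith
  have e1 : c.imI = (1 - tau) * c.imK := by linarith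
  have z1 : c.imI = 0 := by
    have : c.imI = (1 - tau) * tau * c.imI := by rw [e3] at e1; linarith
    have h' : (1 - tau) * tau = -1 := by nlinarith [ht]
    rw [h'] at this; linarith
  have z3 : c.imK = 0 := by rw [e3, z1, mul_zero]
  have z2 : c.imJ = 0 := by rw [z1, z3] at a3; linarith
  ext
  · rfl
  · rw [z1]; rfl
  · rw [z2]; rfl
  · rw [z3]; rfl

theorem mul_two_comm (z : ℍ[ℝ]) : z * 2 = 2 * z := by rw [mul_two, two_mul]

/-- step 1 of (L1): on each coordinate `g` is right multiplication by a unit quaternion -/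
theorem coord_of_fix {g : Equiv.Perm icoLeech} (hg : IsLin g)
    (hfix : ∀ r : icoLeech, qip (r : Fin 3 → ℍ[ℝ]) r = 4 → ∃ c : ℍ[ℝ], (g r : Fin 3 → ℍ[ℝ]) = lsm c r)
    (s : Fin 3) : ∃ u : ℍ[ℝ], u * star u = 1 ∧ star u * u = 1 ∧
      ∀ x : icoLeech, (g x : Fin 3 → ℍ[ℝ]) s = (x : Fin 3 → ℍ[ℝ]) s * u := by
  obtain ⟨c, hc⟩ := hfix (eVec s) (qip_single_self s)
  have hn : c * star c = 1 := by
    have h := hg.qip (eVec s) (eVec s)
    rw [hc, qip_lsm_left, qip_lsm_right] at h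
    have e : qip ((eVec s : icoLeech) : Fin 3 → ℍ[ℝ]) (eVec s) = 4 := qip_single_self s
    have e4 : (4 : ℍ[ℝ]) * star c = (4 : ℝ) • star c := by rw [four_eq, Quaternion.coe_mul_eq_smul]
    rw [e, e4, mul_smul_comm] at h
    have : (4 : ℝ) • (c * star c) = (4 : ℝ) • (1 : ℍ[ℝ]) := by
      rw [h, ← mul_four, one_mul]
    exact smul_right_injective _ (by norm_num : (4 : ℝ) ≠ 0) this
  have hn' : star c * c = 1 := by
    rw [Quaternion.self_mul_star] at hn
    rw [Quaternion.star_mul_self]; exact hn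
  refine ⟨c, hn, hn', fun x => ?_⟩
  have h := hg.qip x (eVec s)
  rw [hc, qip_lsm_right] at h
  have e : ∀ y : Fin 3 → ℍ[ℝ], qip y ((eVec s : icoLeech) : Fin 3 → ℍ[ℝ]) = y s * 2 := fun y => qip_single s y
  rw [e, e, mul_two_comm, mul_two_comm ((x : Fin 3 → ℍ[ℝ]) s), mul_assoc] at h
  have h' := two_mul_cancel h
  -- h' : (g x) s * star c = x s
  rw [← h', mul_assoc, hn', mul_one]

theorem emb_V3_zero (v : V3) : V3.emb v 0 = Ico.emb v.x := rfl
theorem emb_V3_one (v : V3) : V3.emb v 1 = Ico.emb v.y := rfl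
theorem emb_V3_two (v : V3) : V3.emb v 2 = Ico.emb v.z := rfl

theorem emb_W1H : Ico.emb (Ico.mul mW1 Ico.mH) = Ico.emb mW1 * icoH := by
  rw [Ico.emb_mul (by decide) (by decide), Ico.emb_mH]

theorem emb_W2H : Ico.emb (Ico.mul mW2 Ico.mH) = Ico.emb mW2 * icoH := by
  rw [Ico.emb_mul (by decide) (by decide), Ico.emb_mH]

/-- (L1) a linear permutation of the lattice fixing every line of minimal vectors is ±1 -/
theorem eq_one_or_neg_of_fix {g : Equiv.Perm icoLeech} (hg : IsLin g)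
    (hfix : ∀ r : icoLeech, qip (r : Fin 3 → ℍ[ℝ]) r = 4 → ∃ c : ℍ[ℝ], (g r : Fin 3 → ℍ[ℝ]) = lsm c r) :
    g = 1 ∨ g = negPerm := by
  choose u hu1 hu2 hu using coord_of_fix hg hfix
  -- the test vectors
  have m1 : V3.emb ⟨Ico.mH, Ico.mH, 0⟩ ∈ icoLeech := (V3.mem_icoLeech_iff _).2 ⟨_, by decide, rfl⟩
  have m2 : V3.emb ⟨Ico.mH, 0, Ico.mH⟩ ∈ icoLeech := (V3.mem_icoLeech_iff _).2 ⟨_, by decide, rfl⟩
  have m3 : V3.emb ⟨Ico.mH, Ico.mul mW1 Ico.mH, 0⟩ ∈ icoLeech := (V3.mem_icoLeech_iff _).2 ⟨_, by decide, rfl⟩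
  have m4 : V3.emb ⟨Ico.mH, Ico.mul mW2 Ico.mH, 0⟩ ∈ icoLeech := (V3.mem_icoLeech_iff _).2 ⟨_, by decide, rfl⟩
  have n1 : qip (V3.emb ⟨Ico.mH, Ico.mH, 0⟩) (V3.emb ⟨Ico.mH, Ico.mH, 0⟩) = 4 :=
    (V3.qip_self_eq_four_iff _).2 (by decide)
  have n2 : qip (V3.emb ⟨Ico.mH, 0, Ico.mH⟩) (V3.emb ⟨Ico.mH, 0, Ico.mH⟩) = 4 :=
    (V3.qip_self_eq_four_iff _).2 (by decide)
  have n3 : qip (V3.emb ⟨Ico.mH, Ico.mul mW1 Ico.mH, 0⟩) (V3.emb ⟨Ico.mH, Ico.mul mW1 Ico.mH, 0⟩) = 4 :=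
    (V3.qip_self_eq_four_iff _).2 (by decide)
  have n4 : qip (V3.emb ⟨Ico.mH, Ico.mul mW2 Ico.mH, 0⟩) (V3.emb ⟨Ico.mH, Ico.mul mW2 Ico.mH, 0⟩) = 4 :=
    (V3.qip_self_eq_four_iff _).2 (by decide)
  -- step 2: u 0 = u 1 = u 2
  have e01 : u 0 = u 1 := by
    obtain ⟨c, hc⟩ := hfix ⟨_, m1⟩ n1
    have a0 := congrFun hc 0
    have a1 := congrFun hc 1
    rw [hu] at a0 a1
    simp only [lsm, emb_V3_zero, emb_V3_one, Ico.emb_mH] at a0 a1
    exact icoH_mul_left_cancel (a0.trans a1.symm)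
  have e02 : u 0 = u 2 := by
    obtain ⟨c, hc⟩ := hfix ⟨_, m2⟩ n2
    have a0 := congrFun hc 0
    have a2 := congrFun hc 2
    rw [hu] at a0 a2
    simp only [lsm, emb_V3_zero, emb_V3_two, Ico.emb_mH] at a0 a2
    exact icoH_mul_left_cancel (a0.trans a2.symm)
  -- step 3: u 0 is real
  obtain ⟨c, hc⟩ := hfix ⟨_, m3⟩ n3
  obtain ⟨c', hc'⟩ := hfix ⟨_, m4⟩ n4
  have a0 := congrFun hc 0
  have a1 := congrFun hc 1
  have b0 := congrFun hc' 0
  have b1 := congrFun hc' 1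
  rw [hu] at a0 a1 b0 b1
  simp only [lsm, emb_V3_zero, emb_V3_one, Ico.emb_mH, emb_W1H, emb_W2H, ← e01] at a0 a1 b0 b1
  -- a0 : icoH * u 0 = c * icoH ; a1 : w1 * icoH * u 0 = c * (w1 * icoH)
  have hcc : c' = c := icoH_mul_right_cancel (b0.symm.trans a0)
  rw [hcc] at b1
  have k1 : c * Ico.emb mW1 = Ico.emb mW1 * c := by
    apply icoH_mul_right_cancel
    rw [mul_assoc c, ← a1, mul_assoc, a0, mul_assoc]
  have k2 : c * Ico.emb mW2 = Ico.emb mW2 * c := by
    apply icoH_mul_right_cancel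
    rw [mul_assoc c, ← b1, mul_assoc, a0, mul_assoc]
  have hreal := real_of_commute k1 k2
  have hu0 : u 0 = ((c.re : ℝ) : ℍ[ℝ]) := by
    apply icoH_mul_left_cancel
    rw [a0, hreal, Quaternion.coe_mul_eq_smul, Quaternion.mul_coe_eq_smul]
    simp
  -- step 4: c.re = ± 1
  have hsq : c.re * c.re = 1 := by
    have := hu1 0
    rw [hu0, Quaternion.star_coe, ← Quaternion.coe_mul] at this
    have h' := congrArg QuaternionAlgebra.re this
    simpa using h'
  have hpm : c.re = 1 ∨ c.re = -1 := by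
    have : (c.re - 1) * (c.re + 1) = 0 := by ring_nf; linarith
    rcases mul_eq_zero.1 this with h | h
    · left; linarith
    · right; linarith
  have hall : ∀ (x : icoLeech) (t : Fin 3), (g x : Fin 3 → ℍ[ℝ]) t = (c.re : ℝ) • (x : Fin 3 → ℍ[ℝ]) t := by
    intro x t
    have ht : u t = u 0 := by
      fin_cases t
      · rfl
      · exact e01.symm
      · exact e02.symm
    rw [hu, ht, hu0, Quaternion.mul_coe_eq_smul]
  rcases hpm with h | h
  · left
    apply Equiv.ext; intro x; apply Subtype.ext; funext t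
    rw [hall, h, one_smul]; rfl
  · right
    apply Equiv.ext; intro x; apply Subtype.ext; funext t
    rw [hall, h, negPerm_apply]; simp

theorem negPerm_ne_one : negPerm ≠ 1 := by
  intro h
  have h1 := congrArg (fun f : Equiv.Perm icoLeech => ((f (eVec 0) : icoLeech) : Fin 3 → ℍ[ℝ]) 0) h
  simp only [negPerm_apply, Equiv.Perm.one_apply] at h1
  change -(Pi.single (0 : Fin 3) (2 : ℍ[ℝ]) : Fin 3 → ℍ[ℝ]) 0 = (Pi.single (0 : Fin 3) (2 : ℍ[ℝ]) : Fin 3 → ℍ[ℝ]) 0 at h1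
  rw [Pi.single_eq_same] at h1
  have h2 : ((-2 : ℝ) : ℍ[ℝ]) = ((2 : ℝ) : ℍ[ℝ]) := by push_cast; exact h1
  have h3 := Quaternion.coe_injective h2
  norm_num at h3

/-- the centre of `2·J₂` is `{1, -1}` -/
theorem center_twoJ2 (z : twoJ2) : z ∈ Subgroup.center twoJ2 ↔ z = 1 ∨ z = ⟨negPerm, negPerm_mem⟩ := by
  constructor
  · intro hz
    have hl := isLin_of_mem z.2
    have key : ∀ r : icoLeech, qip (r : Fin 3 → ℍ[ℝ]) r = 4 →
        ∃ c : ℍ[ℝ], ((z : Equiv.Perm icoLeech) r : Fin 3 → ℍ[ℝ]) = lsm c r := by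
      intro r h4
      have h4' : qip ((z : Equiv.Perm icoLeech) r : Fin 3 → ℍ[ℝ]) ((z : Equiv.Perm icoLeech) r) = 4 := by
        rw [hl.qip, h4]
      have hconj := conj_reflPerm z.2 r h4 h4'
      have hcomm : (z : Equiv.Perm icoLeech) * reflPerm r h4 = reflPerm r h4 * (z : Equiv.Perm icoLeech) := by
        have := (Subgroup.mem_center_iff.1 hz) ⟨reflPerm r h4, reflPerm_mem r h4⟩
        have h' := congrArg (fun w : twoJ2 => (w : Equiv.Perm icoLeech)) this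
        exact h'.symm
      rw [hcomm, mul_assoc, mul_inv_cancel, mul_one] at hconj
      have hsig := reflPerm_eq_imp _ _ h4' h4 hconj.symm
      exact exists_lsm_of_sig h4 hsig
    rcases eq_one_or_neg_of_fix hl key with h | h
    · left; exact Subtype.ext h
    · right; exact Subtype.ext h
  · rintro (h | h)
    · rw [h]; exact Subgroup.one_mem _
    · rw [h]; exact negPerm_central

theorem card_center_twoJ2 : Nat.card (Subgroup.center twoJ2) = 2 := by
  rw [Nat.card_eq_two_iff]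
  refine ⟨1, ⟨⟨negPerm, negPerm_mem⟩, negPerm_central⟩, ?_, ?_⟩
  · intro h
    have h1 := congrArg (fun w : Subgroup.center twoJ2 => ((w : twoJ2) : Equiv.Perm icoLeech)) h
    exact negPerm_ne_one h1.symm
  · ext w
    simp only [Set.mem_insert_iff, Set.mem_singleton_iff, Set.mem_univ, iff_true]
    rcases (center_twoJ2 w.1).1 w.2 with h | h
    · left; exact Subtype.ext h
    · right; exact Subtype.ext h

/-- S1619 from the order of `2·J₂` -/
theorem S1619_of_card (hcard : Nat.card ↥Cfsg.Spor.twoJ2 = 1209600) :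
    Nat.card ↥Cfsg.Spor.twoJ2 = 1209600 ∧ Nat.card ↥(Subgroup.center ↥Cfsg.Spor.twoJ2) = 2 ∧
    (∃ z ∈ Subgroup.center ↥Cfsg.Spor.twoJ2, ∀ x : ↥Cfsg.Spor.icoLeech,
      (((z : Equiv.Perm ↥Cfsg.Spor.icoLeech) x : ↥Cfsg.Spor.icoLeech) : Fin 3 → ℍ[ℝ]) = -(x : Fin 3 → ℍ[ℝ])) ∧
    Nat.card Cfsg.Spor.J2 = 604800 := by
  refine ⟨hcard, card_center_twoJ2, ⟨⟨negPerm, negPerm_mem⟩, negPerm_central, fun x => negPerm_apply x⟩, ?_⟩
  have h := Subgroup.card_eq_card_quotient_mul_card_subgroup (Subgroup.center ↥Cfsg.Spor.twoJ2)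
  rw [hcard, card_center_twoJ2] at h
  change 1209600 = Nat.card Cfsg.Spor.J2 * 2 at h
  omega

end Cfsg.Agent.Lib.Helper5.J2Refl
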