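import Mathlib
import Cfsg.Agent.Lib.Lead.J2.PermGrp
import Cfsg.Agent.Lib.Helper6.SSPerm

/-!
# Packed permutations of 315 points (for the spectrum of `PJ2`)

A permutation of `Fin 315` is stored in one natural number, 9 bits per point; `lk P i` is the image of `i`.
Straight-line programs over packed permutations, with their semantics in `PJ2`.
-/

set_option autoImplicit false

namespace Cfsg.Agent.Lib.Helper5.J2Spec

open Cfsg.Agent.J2
open Cfsg.Agent.Lib.Helper6.SS (toPerm toPerm_apply Valid)

/-- evaluation forcing: semantically `k n`, but the kernel first evaluates `n` to a numeral -/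
def strict {α : Type} (n : ℕ) (k : ℕ → α) : α :=
  match n with
  | 0 => k 0
  | m + 1 => k (m + 1)

@[simp] theorem strict_eq {α : Type} (n : ℕ) (k : ℕ → α) : strict n k = k n := by
  cases n <;> rfl

/-- image of `i` under the packed permutation `P` -/
def lk (P i : ℕ) : ℕ := (P >>> (9 * i)) % 512

theorem lk_lt (P i : ℕ) : lk P i < 512 := Nat.mod_lt _ (by norm_num)

/-- packing of a list of images -/
def pack : List ℕ → ℕ
  | [] => 0
  | a :: l => a + 512 * pack l

theorem lk_pack : ∀ (l : List ℕ), (∀ x ∈ l, x < 512) → ∀ i : ℕ, lk (pack l) i = l.getD i 0 := by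
  intro l
  induction l with
  | nil => intro _ i; simp [lk, pack]
  | cons a l ih =>
    intro h i
    have ha : a < 512 := h a (List.mem_cons_self)
    have hl : ∀ x ∈ l, x < 512 := fun x hx => h x (List.mem_cons_of_mem _ hx)
    cases i with
    | zero =>
      simp only [lk, pack, Nat.mul_zero, Nat.shiftRight_zero, List.getD_cons_zero]
      rw [Nat.add_mul_mod_self_left, Nat.mod_eq_of_lt ha]
    | succ i =>
      have e : lk (pack (a :: l)) (i + 1) = lk (pack l) i := by
        simp only [lk, pack]
        have h1 : 9 * (i + 1) = 9 + 9 * i := by ring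
        rw [h1, Nat.shiftRight_add, Nat.shiftRight_eq_div_pow (a + 512 * pack l) 9]
        have h2 : (a + 512 * pack l) / 2 ^ 9 = pack l := by
          have : (2 : ℕ) ^ 9 = 512 := by norm_num
          rw [this, Nat.add_mul_div_left _ _ (by norm_num : 0 < 512), Nat.div_eq_of_lt ha, Nat.zero_add]
        rw [h2]
      rw [e, ih hl i, List.getD_cons_succ]

/-- the product of packed permutations: `lk (mulP A B) i = lk A (lk B i)` -/
def mulP (A B : ℕ) : ℕ := pack ((List.range 315).map fun i => lk A (lk B i))

theorem lk_mulP (A B : ℕ) {i : ℕ} (hi : i < 315) : lk (mulP A B) i = lk A (lk B i) := by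
  unfold mulP
  rw [lk_pack]
  · rw [List.getD_eq_getElem _ _ (by simpa using hi)]
    simp
  · intro x hx
    rw [List.mem_map] at hx
    obtain ⟨j, _, rfl⟩ := hx
    exact lk_lt _ _

/-- the packed identity -/
def idP : ℕ := pack (List.range 315)

theorem lk_idP {i : ℕ} (hi : i < 315) : lk idP i = i := by
  unfold idP
  rw [lk_pack]
  · rw [List.getD_eq_getElem _ _ (by simpa using hi)]
    simp
  · intro x hx
    have := List.mem_range.1 hx
    omega

/-- `P` represents the permutation `σ` -/
def Rep (P : ℕ) (σ : Equiv.Perm (Fin 315)) : Prop := ∀ i : Fin 315, ((σ i : Fin 315) : ℕ) = lk P i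

theorem rep_pack {l : List ℕ} (h : Valid 315 l) : Rep (pack l) (toPerm 315 l) := by
  intro i
  rw [toPerm_apply h, lk_pack]
  intro x hx
  have := h.lt x hx
  omega

theorem Rep.mul {A B : ℕ} {σ τ : Equiv.Perm (Fin 315)} (hA : Rep A σ) (hB : Rep B τ) :
    Rep (mulP A B) (σ * τ) := by
  intro i
  rw [Equiv.Perm.mul_apply, hA, hB, lk_mulP _ _ i.2]

theorem rep_idP : Rep idP 1 := by
  intro i
  rw [lk_idP i.2]; rfl

theorem Rep.unique {P : ℕ} {σ τ : Equiv.Perm (Fin 315)} (h1 : Rep P σ) (h2 : Rep P τ) : σ = τ := by
  apply Equiv.ext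
  intro i
  apply Fin.ext
  rw [h1, h2]

theorem Rep.apply_val {P : ℕ} {σ : Equiv.Perm (Fin 315)} (h : Rep P σ) {i : ℕ} (hi : i < 315) :
    ((σ ⟨i, hi⟩ : Fin 315) : ℕ) = lk P i := h ⟨i, hi⟩

/-- `P` represents an element of `PJ2` -/
def Good (P : ℕ) : Prop := ∃ σ ∈ PJ2, Rep P σ

theorem good_idP : Good idP := ⟨1, PJ2.one_mem, rep_idP⟩

theorem Good.mul {A B : ℕ} (hA : Good A) (hB : Good B) : Good (mulP A B) := by
  obtain ⟨σ, hσ, h1⟩ := hA
  obtain ⟨τ, hτ, h2⟩ := hB
  exact ⟨σ * τ, PJ2.mul_mem hσ hτ, h1.mul h2⟩

theorem good_g24 : Good (pack g24) := ⟨_, Subgroup.subset_closure (by simp), rep_pack valid_g24⟩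
theorem good_g77 : Good (pack g77) := ⟨_, Subgroup.subset_closure (by simp), rep_pack valid_g77⟩
theorem good_g165 : Good (pack g165) := ⟨_, Subgroup.subset_closure (by simp), rep_pack valid_g165⟩
theorem good_g202 : Good (pack g202) := ⟨_, Subgroup.subset_closure (by simp), rep_pack valid_g202⟩

open Classical in
/-- the element of `PJ2` represented by `P` (the identity if there is none) -/
noncomputable def sem (P : ℕ) : Equiv.Perm (Fin 315) := if h : Good P then Classical.choose h else 1

theorem sem_mem (P : ℕ) : sem P ∈ PJ2 := by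
  unfold sem
  split_ifs with h
  · exact (Classical.choose_spec h).1
  · exact PJ2.one_mem

theorem sem_rep {P : ℕ} (h : Good P) : Rep P (sem P) := by
  unfold sem
  rw [dif_pos h]
  exact (Classical.choose_spec h).2

theorem sem_idP : sem idP = 1 := (sem_rep good_idP).unique rep_idP

theorem sem_mulP {A B : ℕ} (hA : Good A) (hB : Good B) : sem (mulP A B) = sem A * sem B :=
  (sem_rep (hA.mul hB)).unique ((sem_rep hA).mul (sem_rep hB))

theorem sem_apply_val {P : ℕ} (h : Good P) {i : ℕ} (hi : i < 315) :
    ((sem P ⟨i, hi⟩ : Fin 315) : ℕ) = lk P i := (sem_rep h) ⟨i, hi⟩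

/-- straight-line programs: the list is kept reversed (newest element first); `len` is its length;
instruction `(a, b)` appends the product of the elements number `a` and `b` (numbered from the oldest) -/
def slpR : List ℕ → ℕ → List (ℕ × ℕ) → List ℕ
  | acc, _, [] => acc
  | acc, len, (a, b) :: prog =>
    strict (mulP (acc.getD (len - 1 - a) idP) (acc.getD (len - 1 - b) idP)) fun x =>
      slpR (x :: acc) (len + 1) prog

theorem good_getD {L : List ℕ} (h : ∀ P ∈ L, Good P) (k : ℕ) : Good (L.getD k idP) := by
  by_cases hk : k < L.length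
  · rw [List.getD_eq_getElem _ _ hk]; exact h _ (List.getElem_mem hk)
  · rw [List.getD_eq_default _ _ (by omega)]; exact good_idP

theorem good_slpR : ∀ (prog : List (ℕ × ℕ)) (acc : List ℕ) (len : ℕ), (∀ P ∈ acc, Good P) →
    ∀ P ∈ slpR acc len prog, Good P := by
  intro prog
  induction prog with
  | nil => intro acc len h; simpa [slpR] using h
  | cons ab prog ih =>
    intro acc len h
    obtain ⟨a, b⟩ := ab
    simp only [slpR, strict_eq]
    apply ih
    intro P hP
    rcases List.mem_cons.1 hP with h1 | hP
    · rw [h1]; exact (good_getD h _).mul (good_getD h _)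
    · exact h P hP

set_option maxRecDepth 100000 in
/-- the initial elements: identity and the four generators (reversed) -/
def initR : List ℕ := [pack g202, pack g165, pack g77, pack g24, idP]

set_option maxRecDepth 100000 in
theorem good_initR : ∀ P ∈ initR, Good P := by
  intro P hP
  unfold initR at hP
  simp only [List.mem_cons, List.not_mem_nil, or_false] at hP
  rcases hP with rfl | rfl | rfl | rfl | rfl
  · exact good_g202
  · exact good_g165
  · exact good_g77
  · exact good_g24
  · exact good_idP

end Cfsg.Agent.Lib.Helper5.J2Spec
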