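import Mathlib

/-!
# Data for the spectrum of `PJ2`

A straight-line program over the four generators, the indices of the transversals of a stabiliser chain
(base 0, 1, 5, 2, 10), of the double coset representatives, the covering certificate and the order witnesses.
Generated by a script (Schreier trees); everything is re-checked in Lean.
-/

set_option autoImplicit false

namespace Cfsg.Agent.Lib.Helper5.J2Spec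

/-- the straight-line program -/
def progD : List (ℕ × ℕ) :=
  [(1, 4), (4, 1), (2, 5), (6, 2), (3, 7), (8, 3), (2, 9), (10, 2), (1, 3), (3, 1), (4, 13), (14, 4), (1,
  15), (16, 1), (2, 17), (18, 2), (1, 19), (20, 1), (4, 11), (22, 23), (4, 21), (12, 25), (2, 6), (5, 2), (3,
  27), (28, 3), (1, 29), (30, 1), (2, 31), (32, 2), (2, 13), (14, 2), (1, 35), (36, 1), (4, 37), (38, 4), (1,
  39), (40, 1), (3, 33), (42, 43), (3, 41), (34, 45), (24, 24), (26, 26), (24, 47), (46, 49), (49, 44), (26,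
  50), (51, 24), (26, 52), (53, 24), (46, 54), (55, 44), (46, 24), (26, 44), (24, 58), (59, 26), (24, 60),
  (61, 26), (24, 62), (63, 26), (46, 64), (65, 44), (24, 56), (67, 68), (26, 66), (57, 70), (24, 44), (46,
  26), (24, 72), (73, 26), (44, 74), (75, 46), (26, 76), (77, 24), (46, 72), (73, 44), (24, 80), (81, 26),
  (24, 82), (83, 26), (44, 78), (85, 86), (46, 84), (79, 88), (89, 89), (89, 90), (87, 87), (89, 69), (71,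
  87), (71, 93), (87, 95), (69, 89), (94, 97), (44, 44), (46, 46), (44, 26), (24, 46), (46, 47), (48, 44),
  (26, 58), (59, 24), (44, 72), (73, 46), (24, 101), (102, 26), (26, 73), (72, 24), (44, 49), (49, 46), (24,
  103), (104, 26), (26, 103), (104, 24), (26, 105), (106, 24), (46, 105), (106, 44), (46, 74), (75, 44), (26,
  80), (81, 24), (24, 81), (80, 26), (26, 81), (80, 24), (24, 109), (110, 26), (44, 61), (60, 46), (44, 110),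
  (109, 46), (44, 111), (112, 46), (46, 111), (112, 44), (24, 50), (51, 26), (24, 115), (116, 26), (44, 62),
  (63, 46), (24, 121), (122, 26), (26, 121), (122, 24), (24, 76), (77, 26), (44, 76), (77, 46), (24, 123),
  (124, 26), (46, 122), (121, 44), (26, 125), (126, 24), (44, 131), (132, 46), (46, 131), (132, 44), (24,
  133), (44, 116), (115, 46), (24, 135), (136, 26), (26, 135), (136, 24), (44, 65), (64, 46), (46, 65), (64,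
  44), (24, 141), (142, 26), (44, 143), (144, 46), (46, 151), (152, 44), (46, 78), (79, 44), (44, 142), (141,
  46), (24, 180), (181, 26), (87, 69), (71, 89), (2, 4), (4, 2), (3, 190), (191, 3), (1, 7), (8, 1), (2,
  194), (195, 2), (4, 196), (4, 3), (2, 199), (199, 2), (1, 200), (201, 1), (2, 1), (1, 2), (4, 204), (205,
  4), (2, 206), (207, 2), (4, 208), (209, 4), (1, 210), (211, 1), (2, 212), (213, 2), (2, 3), (3, 2), (1,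
  216), (217, 1), (2, 218), (219, 2), (4, 220), (221, 4), (2, 222), (223, 2), (4, 224), (225, 4), (4, 190),
  (1, 228), (2, 229), (3, 230), (2, 231), (1, 36), (4, 233), (2, 234), (1, 235), (2, 219), (4, 237), (4, 36),
  (1, 239), (4, 240)]

/-- indices of the transversal U1 -/
def iU1 : List ℕ :=
  [0, 24, 44, 26, 47, 58, 72, 99, 59, 101, 48, 73, 49, 103, 60, 105, 74, 107, 80, 104, 81, 109, 61, 110, 111,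
  113, 50, 115, 117, 62, 119, 121, 51, 76, 123, 122, 82, 125, 127, 129, 131, 133, 116, 83, 135, 137, 139, 65,
  141, 52, 143, 64, 145, 147, 149, 151, 153, 78, 155, 157, 84, 159, 142, 161, 163, 165, 166, 168, 170, 172,
  174, 176, 54, 178, 66, 180, 182, 184, 56, 186]

/-- indices of the transversal U2 -/
def iU2 : List ℕ :=
  [0, 69, 87, 89, 188, 93]

/-- indices of the transversal U3 -/
def iU3 : List ℕ :=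
  [0, 96]

/-- indices of the transversal U4 -/
def iU4 : List ℕ :=
  [0, 91]

/-- indices of the double coset representatives -/
def iT : List ℕ := [0, 192, 198, 202, 214, 226]

/-- covering certificate: for the point `j`, `(i, a, b, c, d)` with `U1[a] (U2[b] (U3[c] (U4[d] (T[i] 0)))) = j` -/
def covD : List (ℕ × ℕ × ℕ × ℕ × ℕ) :=
  [(0, 0, 0, 0, 0), (1, 0, 0, 0, 0), (1, 22, 0, 0, 0), (1, 34, 0, 0, 0), (1, 70, 0, 0, 0), (1, 52, 0, 0, 0),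
  (1, 71, 0, 0, 0), (1, 14, 0, 0, 0), (1, 67, 0, 0, 0), (2, 0, 0, 0, 0), (1, 57, 0, 0, 0), (1, 23, 0, 0, 0),
  (1, 33, 0, 0, 0), (1, 11, 0, 0, 0), (1, 24, 0, 0, 0), (1, 69, 0, 0, 0), (1, 7, 0, 0, 0), (1, 55, 0, 0, 0),
  (1, 10, 0, 0, 0), (1, 68, 0, 0, 0), (1, 38, 0, 0, 0), (1, 36, 0, 0, 0), (1, 62, 0, 0, 0), (1, 26, 0, 0, 0),
  (1, 15, 0, 0, 0), (1, 64, 0, 0, 0), (1, 43, 0, 0, 0), (1, 1, 0, 0, 0), (1, 61, 0, 0, 0), (1, 54, 0, 0, 0),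
  (1, 29, 0, 0, 0), (1, 9, 0, 0, 0), (1, 58, 0, 0, 0), (1, 66, 0, 0, 0), (1, 78, 0, 0, 0), (1, 50, 0, 0, 0),
  (1, 28, 0, 0, 0), (1, 74, 0, 0, 0), (1, 27, 0, 0, 0), (1, 13, 0, 0, 0), (1, 35, 0, 0, 0), (1, 17, 0, 0, 0),
  (1, 48, 0, 0, 0), (1, 42, 0, 0, 0), (1, 45, 0, 0, 0), (1, 5, 0, 0, 0), (1, 3, 0, 0, 0), (1, 44, 0, 0, 0),
  (1, 56, 0, 0, 0), (1, 60, 0, 0, 0), (1, 46, 0, 0, 0), (1, 76, 0, 0, 0), (1, 19, 0, 0, 0), (1, 75, 0, 0, 0),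
  (1, 47, 0, 0, 0), (1, 41, 0, 0, 0), (1, 16, 0, 0, 0), (1, 2, 0, 0, 0), (1, 32, 0, 0, 0), (1, 8, 0, 0, 0),
  (1, 59, 0, 0, 0), (1, 65, 0, 0, 0), (1, 63, 0, 0, 0), (1, 25, 0, 0, 0), (1, 6, 0, 0, 0), (1, 79, 0, 0, 0),
  (1, 39, 0, 0, 0), (1, 4, 0, 0, 0), (1, 37, 0, 0, 0), (1, 31, 0, 0, 0), (1, 73, 0, 0, 0), (1, 72, 0, 0, 0),
  (1, 51, 0, 0, 0), (1, 21, 0, 0, 0), (3, 0, 0, 0, 0), (3, 71, 2, 0, 0), (3, 10, 0, 1, 0), (3, 15, 0, 0, 0),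
  (3, 2, 2, 0, 0), (3, 41, 5, 0, 0), (3, 23, 2, 0, 0), (3, 70, 0, 0, 0), (3, 9, 0, 1, 0), (3, 1, 0, 0, 0),
  (3, 76, 0, 0, 0), (3, 61, 1, 0, 0), (3, 7, 0, 0, 0), (3, 69, 5, 0, 0), (3, 4, 0, 0, 0), (3, 72, 2, 0, 0),
  (3, 35, 2, 0, 0), (3, 14, 2, 0, 0), (3, 68, 0, 0, 0), (3, 13, 1, 1, 0), (3, 28, 0, 0, 0), (3, 64, 2, 0, 0),
  (3, 13, 2, 0, 0), (3, 35, 1, 0, 0), (3, 61, 0, 0, 0), (3, 28, 1, 0, 0), (3, 79, 0, 0, 0), (3, 63, 0, 0, 0),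
  (3, 9, 2, 0, 0), (3, 71, 0, 0, 0), (3, 37, 0, 0, 0), (3, 43, 0, 0, 0), (3, 55, 2, 0, 0), (3, 52, 0, 0, 0),
  (3, 69, 3, 0, 0), (3, 16, 2, 0, 0), (3, 57, 0, 0, 0), (3, 11, 0, 1, 0), (3, 14, 0, 0, 0), (3, 0, 0, 1, 0),
  (3, 25, 0, 0, 0), (3, 67, 2, 0, 0), (3, 73, 3, 1, 0), (3, 21, 0, 0, 0), (3, 75, 4, 0, 0), (3, 52, 1, 0, 0),
  (3, 59, 3, 0, 0), (3, 54, 0, 0, 0), (3, 10, 2, 0, 0), (3, 14, 3, 0, 0), (3, 25, 5, 0, 0), (3, 6, 0, 0, 0),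
  (3, 3, 2, 0, 0), (3, 29, 3, 0, 0), (3, 0, 2, 0, 0), (3, 52, 2, 0, 0), (3, 56, 0, 0, 0), (3, 75, 0, 0, 0),
  (3, 27, 0, 0, 0), (3, 13, 3, 0, 0), (3, 45, 0, 0, 0), (3, 48, 0, 0, 0), (3, 47, 2, 0, 0), (3, 67, 0, 0, 0),
  (4, 0, 0, 0, 0), (4, 25, 0, 0, 0), (4, 11, 0, 0, 0), (4, 70, 0, 0, 0), (4, 1, 0, 0, 0), (4, 61, 1, 0, 0),
  (4, 4, 0, 0, 0), (4, 54, 0, 0, 0), (4, 56, 0, 0, 0), (4, 26, 0, 0, 0), (4, 6, 0, 0, 0), (4, 63, 1, 0, 0),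
  (4, 48, 0, 0, 0), (4, 44, 0, 0, 0), (4, 37, 0, 0, 0), (4, 43, 0, 0, 0), (5, 0, 0, 0, 0), (5, 10, 2, 0, 0),
  (5, 6, 0, 0, 0), (5, 23, 2, 0, 0), (5, 1, 0, 0, 0), (5, 3, 2, 0, 0), (5, 4, 0, 0, 0), (5, 76, 0, 0, 0), (5,
  48, 0, 0, 0), (5, 25, 0, 0, 0), (5, 21, 0, 0, 0), (5, 13, 2, 0, 0), (5, 56, 0, 0, 0), (5, 13, 0, 0, 0), (5,
  27, 0, 0, 0), (5, 43, 0, 0, 0), (1, 12, 0, 0, 0), (1, 40, 0, 0, 0), (1, 77, 0, 0, 0), (1, 18, 0, 0, 0), (1,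
  20, 0, 0, 0), (1, 49, 0, 0, 0), (1, 30, 0, 0, 0), (1, 53, 0, 0, 0), (3, 12, 0, 0, 0), (3, 49, 2, 0, 0), (3,
  68, 2, 1, 0), (3, 41, 0, 0, 0), (3, 54, 1, 0, 0), (3, 25, 2, 0, 0), (3, 62, 3, 0, 0), (3, 60, 0, 0, 0), (3,
  23, 0, 0, 0), (3, 49, 0, 1, 0), (3, 47, 5, 0, 0), (3, 2, 0, 0, 0), (3, 73, 1, 0, 0), (3, 53, 0, 0, 0), (3,
  74, 0, 0, 0), (3, 72, 0, 0, 0), (3, 75, 2, 0, 0), (3, 29, 0, 0, 0), (3, 3, 0, 0, 0), (3, 48, 2, 0, 0), (3,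
  18, 0, 0, 0), (3, 27, 1, 0, 0), (3, 49, 0, 0, 0), (3, 59, 0, 0, 0), (3, 9, 0, 0, 0), (3, 59, 0, 1, 0), (3,
  78, 3, 0, 0), (3, 53, 2, 0, 0), (3, 8, 1, 0, 0), (3, 65, 1, 0, 0), (3, 4, 2, 0, 0), (3, 15, 3, 0, 0), (3,
  24, 0, 0, 0), (3, 69, 0, 0, 0), (3, 10, 0, 0, 0), (3, 26, 2, 0, 0), (3, 27, 2, 0, 0), (3, 17, 1, 0, 0), (3,
  20, 1, 0, 0), (3, 17, 0, 0, 0), (3, 12, 2, 0, 0), (3, 45, 1, 0, 0), (3, 23, 5, 0, 0), (3, 30, 0, 0, 0), (3,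
  39, 1, 0, 0), (3, 35, 0, 0, 0), (3, 39, 0, 1, 0), (3, 31, 0, 0, 0), (3, 11, 2, 0, 0), (3, 58, 5, 0, 0), (3,
  57, 2, 0, 0), (3, 36, 1, 0, 0), (3, 27, 3, 0, 0), (3, 50, 0, 0, 0), (3, 50, 1, 0, 0), (3, 36, 0, 0, 0), (3,
  25, 1, 1, 0), (3, 53, 1, 0, 0), (3, 46, 0, 0, 0), (3, 47, 0, 0, 0), (3, 30, 3, 0, 0), (3, 1, 2, 0, 0), (3,
  18, 1, 0, 0), (3, 46, 0, 1, 0), (2, 7, 0, 0, 0), (2, 1, 0, 0, 0), (2, 10, 0, 0, 0), (2, 13, 0, 0, 0), (2,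
  3, 0, 0, 0), (2, 6, 0, 0, 0), (2, 2, 0, 0, 0), (2, 4, 0, 0, 0), (2, 12, 0, 0, 0), (4, 12, 0, 0, 0), (4, 31,
  0, 0, 0), (4, 47, 0, 0, 0), (4, 3, 0, 0, 0), (4, 27, 1, 0, 0), (4, 18, 0, 0, 0), (4, 59, 0, 0, 0), (4, 49,
  0, 0, 0), (4, 9, 0, 0, 0), (4, 69, 0, 0, 0), (4, 2, 0, 0, 0), (4, 27, 2, 0, 0), (4, 53, 0, 0, 0), (4, 10,
  0, 0, 0), (4, 74, 0, 0, 0), (4, 17, 0, 0, 0), (3, 79, 1, 0, 0), (3, 63, 1, 0, 0), (3, 74, 2, 0, 0), (3, 44,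
  0, 0, 0), (3, 42, 2, 0, 0), (3, 26, 0, 0, 0), (3, 24, 0, 1, 0), (3, 65, 0, 0, 0), (3, 21, 1, 0, 0), (3, 50,
  4, 0, 0), (3, 58, 1, 0, 0), (3, 37, 1, 0, 0), (3, 11, 0, 0, 0), (3, 69, 2, 0, 0), (3, 5, 0, 0, 0), (3, 3,
  0, 1, 0), (5, 12, 0, 0, 0), (5, 69, 0, 0, 0), (5, 10, 0, 0, 0), (5, 4, 2, 0, 0), (5, 25, 2, 0, 0), (5, 9,
  0, 0, 0), (5, 26, 0, 0, 0), (5, 17, 0, 0, 0), (5, 3, 0, 0, 0), (5, 12, 2, 0, 0), (5, 2, 0, 0, 0), (5, 11,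
  2, 0, 0), (5, 35, 0, 0, 0), (5, 49, 0, 0, 0), (5, 18, 0, 0, 0), (5, 72, 0, 0, 0), (3, 13, 0, 0, 0), (3, 78,
  2, 0, 0), (3, 25, 4, 0, 0), (3, 38, 1, 0, 0), (3, 47, 1, 1, 0), (3, 31, 1, 0, 0), (3, 33, 2, 0, 0), (3, 60,
  1, 0, 0), (3, 59, 1, 0, 0), (3, 21, 2, 0, 0), (3, 44, 5, 0, 0), (3, 6, 2, 0, 0), (3, 41, 1, 0, 0), (3, 55,
  0, 0, 0), (3, 79, 2, 0, 0), (3, 51, 0, 0, 0)]

/-- indices of elements of orders 7, 8, 10, 12, 15 -/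
def iW7 : ℕ := 236
def iW8 : ℕ := 219
def iW10 : ℕ := 11
def iW12 : ℕ := 232
def iW15 : ℕ := 241

end Cfsg.Agent.Lib.Helper5.J2Spec
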