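import Mathlib
import Cfsg.Agent.Lib.Helper5.J2SpecA
import Cfsg.Agent.Lib.Helper5.J2SpecData

/-!
# The checks for the spectrum of `PJ2` (definitions)
-/

set_option autoImplicit false

namespace Cfsg.Agent.Lib.Helper5.J2Spec

/-- forcing of all the elements of a list -/
def forceList {α : Type} : List ℕ → (List ℕ → α) → α
  | [], k => k []
  | a :: l, k => strict a fun a' => forceList l fun l' => k (a' :: l')

@[simp] theorem forceList_eq {α : Type} (l : List ℕ) (k : List ℕ → α) : forceList l k = k l := by
  induction l generalizing k with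
  | nil => rfl
  | cons a l ih => simp [forceList, ih]

/-- all the elements of the straight-line program (newest first) -/
def elemsR : List ℕ := slpR initR 5 progD

/-- number of elements -/
def nEl : ℕ := 242

/-- the elements with the given numbers -/
def pick (E : List ℕ) (idx : List ℕ) : List ℕ := idx.map fun k => E.getD (nEl - 1 - k) idP

/-- the cycle length of the point `b` under `i ↦ lk W (lk V i)` (`0` if longer than the fuel) -/
def cyc (W V b : ℕ) : ℕ → ℕ → ℕ → ℕ
  | 0, _, _ => 0
  | fuel + 1, p, k => strict (lk W (lk V p)) fun q => if q = b then k + 1 else cyc W V b fuel q (k + 1)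

/-- the least common multiple of the cycle lengths of the five base points -/
def ordWV (W V : ℕ) : ℕ :=
  Nat.lcm (cyc W V 0 15 0 0) (Nat.lcm (cyc W V 1 15 1 0) (Nat.lcm (cyc W V 5 15 5 0)
    (Nat.lcm (cyc W V 2 15 2 0) (cyc W V 10 15 10 0))))

/-- the expected element orders -/
def okSet : List ℕ := [1, 2, 3, 4, 5, 6, 7, 8, 10, 12, 15]

def chkWV (W V : ℕ) : Bool := strict (ordWV W V) fun e => okSet.contains e

/-- the products `u₂ u₃ u₄` -/
def mkVs (U2 U3 U4 : List ℕ) : List ℕ :=
  U2.flatMap fun b => U3.flatMap fun c => U4.map fun d => mulP (mulP b c) d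

/-- the main check for one double coset representative `t` -/
def mainChkT (t : ℕ) (U1 Vs : List ℕ) : Bool :=
  U1.all fun u => strict (mulP t u) fun W => Vs.all fun V => chkWV W V

/-- the main check for the `i`-th double coset representative, from scratch -/
def mainChk (i : ℕ) : Bool :=
  forceList elemsR fun E =>
    forceList (mkVs (pick E iU2) (pick E iU3) (pick E iU4)) fun Vs =>
      mainChkT (E.getD (nEl - 1 - iT.getD i 0) idP) (pick E iU1) Vs

end Cfsg.Agent.Lib.Helper5.J2Spec
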