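import Mathlib
import Cfsg.Agent.Lib.Helper5.J2SpecB
import Cfsg.Agent.Lib.Helper8.J2Simp

/-!
# Soundness of the checks for the spectrum of `PJ2`
-/

set_option autoImplicit false

namespace Cfsg.Agent.Lib.Helper5.J2Spec

open Cfsg.Agent.J2

/-- the five base points -/
def p0 : Fin 315 := ⟨0, by norm_num⟩
def p1 : Fin 315 := ⟨1, by norm_num⟩
def p5 : Fin 315 := ⟨5, by norm_num⟩
def p2 : Fin 315 := ⟨2, by norm_num⟩
def p10 : Fin 315 := ⟨10, by norm_num⟩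

theorem sem_app {P : ℕ} (h : Good P) {i j : ℕ} (hi : i < 315) (hj : j < 315) (e : lk P i = j) :
    sem P ⟨i, hi⟩ = ⟨j, hj⟩ := Fin.ext (by rw [sem_apply_val h hi]; exact e)

/-- the conditions on the transversals of the stabiliser chain -/
def ChainProp (U1 U2 U3 U4 : List ℕ) : Prop :=
  (∀ a < 80, lk (U1.getD a idP) 0 = 0) ∧
  (∀ a < 80, ∀ a' < 80, lk (U1.getD a idP) 1 = lk (U1.getD a' idP) 1 → a = a') ∧
  (∀ b < 6, lk (U2.getD b idP) 0 = 0 ∧ lk (U2.getD b idP) 1 = 1) ∧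
  (∀ b < 6, ∀ b' < 6, lk (U2.getD b idP) 5 = lk (U2.getD b' idP) 5 → b = b') ∧
  (∀ c < 2, lk (U3.getD c idP) 0 = 0 ∧ lk (U3.getD c idP) 1 = 1 ∧ lk (U3.getD c idP) 5 = 5) ∧
  (∀ c < 2, ∀ c' < 2, lk (U3.getD c idP) 2 = lk (U3.getD c' idP) 2 → c = c') ∧
  (∀ d < 2, lk (U4.getD d idP) 0 = 0 ∧ lk (U4.getD d idP) 1 = 1 ∧ lk (U4.getD d idP) 5 = 5 ∧
    lk (U4.getD d idP) 2 = 2) ∧
  (∀ d < 2, ∀ d' < 2, lk (U4.getD d idP) 10 = lk (U4.getD d' idP) 10 → d = d') ∧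
  (U1.getD 0 idP = idP ∧ U2.getD 0 idP = idP ∧ U3.getD 0 idP = idP ∧ U4.getD 0 idP = idP) ∧
  (U1.length = 80 ∧ U2.length = 6 ∧ U3.length = 2 ∧ U4.length = 2)

instance (U1 U2 U3 U4 : List ℕ) : Decidable (ChainProp U1 U2 U3 U4) := by
  unfold ChainProp; infer_instance

theorem level_inj {n : ℕ} (A : ℕ → Equiv.Perm (Fin 315)) (β : Fin 315)
    (hinj : ∀ a < n, ∀ a' < n, A a β = A a' β → a = a') {a a' : ℕ} (ha : a < n) (ha' : a' < n)
    {X X' : Equiv.Perm (Fin 315)} (hX : X β = β) (hX' : X' β = β) (h : A a * X = A a' * X') :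
    a = a' ∧ X = X' := by
  have h1 := congrArg (fun σ : Equiv.Perm (Fin 315) => σ β) h
  simp only [Equiv.Perm.mul_apply, hX, hX'] at h1
  have e := hinj a ha a' ha' h1
  subst e
  exact ⟨rfl, mul_left_cancel h⟩

section chain

variable {U1 U2 U3 U4 : List ℕ}

/-- the product of four transversal elements -/
noncomputable def Phi (U1 U2 U3 U4 : List ℕ) (a b c d : ℕ) : Equiv.Perm (Fin 315) :=
  sem (U1.getD a idP) * (sem (U2.getD b idP) * (sem (U3.getD c idP) * sem (U4.getD d idP)))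

theorem Phi_mem (a b c d : ℕ) : Phi U1 U2 U3 U4 a b c d ∈ PJ2 :=
  PJ2.mul_mem (sem_mem _) (PJ2.mul_mem (sem_mem _) (PJ2.mul_mem (sem_mem _) (sem_mem _)))

variable (hG1 : ∀ P ∈ U1, Good P) (hG2 : ∀ P ∈ U2, Good P) (hG3 : ∀ P ∈ U3, Good P)
  (hG4 : ∀ P ∈ U4, Good P) (hC : ChainProp U1 U2 U3 U4)

include hG1 hG2 hG3 hG4 hC

theorem Phi_fix0 {a b c d : ℕ} (ha : a < 80) (hb : b < 6) (hc : c < 2) (hd : d < 2) :
    Phi U1 U2 U3 U4 a b c d p0 = p0 := by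
  obtain ⟨f1, -, f2, -, f3, -, f4, -, -, -⟩ := hC
  unfold Phi
  simp only [Equiv.Perm.mul_apply]
  have e4 : sem (U4.getD d idP) p0 = p0 := sem_app (good_getD hG4 d) _ _ (f4 d hd).1
  have e3 : sem (U3.getD c idP) p0 = p0 := sem_app (good_getD hG3 c) _ _ (f3 c hc).1
  have e2 : sem (U2.getD b idP) p0 = p0 := sem_app (good_getD hG2 b) _ _ (f2 b hb).1
  have e1 : sem (U1.getD a idP) p0 = p0 := sem_app (good_getD hG1 a) _ _ (f1 a ha)
  rw [e4, e3, e2, e1]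

theorem Phi_inj {a b c d a' b' c' d' : ℕ} (ha : a < 80) (hb : b < 6) (hc : c < 2) (hd : d < 2)
    (ha' : a' < 80) (hb' : b' < 6) (hc' : c' < 2) (hd' : d' < 2)
    (h : Phi U1 U2 U3 U4 a b c d = Phi U1 U2 U3 U4 a' b' c' d') : a = a' ∧ b = b' ∧ c = c' ∧ d = d' := by
  obtain ⟨-, i1, f2, i2, f3, i3, f4, i4, -, -⟩ := hC
  unfold Phi at h
  -- fixed points
  have g2 : ∀ b < 6, sem (U2.getD b idP) p1 = p1 := fun b hb => sem_app (good_getD hG2 b) _ _ (f2 b hb).2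
  have g3 : ∀ c < 2, sem (U3.getD c idP) p1 = p1 := fun c hc => sem_app (good_getD hG3 c) _ _ (f3 c hc).2.1
  have g4 : ∀ d < 2, sem (U4.getD d idP) p1 = p1 := fun d hd => sem_app (good_getD hG4 d) _ _ (f4 d hd).2.1
  have k3 : ∀ c < 2, sem (U3.getD c idP) p5 = p5 := fun c hc => sem_app (good_getD hG3 c) _ _ (f3 c hc).2.2
  have k4 : ∀ d < 2, sem (U4.getD d idP) p5 = p5 := fun d hd => sem_app (good_getD hG4 d) _ _ (f4 d hd).2.2.1
  have l4 : ∀ d < 2, sem (U4.getD d idP) p2 = p2 := fun d hd => sem_app (good_getD hG4 d) _ _ (f4 d hd).2.2.2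
  -- injectivity of the images
  have j1 : ∀ a < 80, ∀ a' < 80, sem (U1.getD a idP) p1 = sem (U1.getD a' idP) p1 → a = a' := by
    intro a ha a' ha' e
    apply i1 a ha a' ha'
    have := congrArg Fin.val e
    rwa [p1, sem_apply_val (good_getD hG1 a), sem_apply_val (good_getD hG1 a')] at this
  have j2 : ∀ b < 6, ∀ b' < 6, sem (U2.getD b idP) p5 = sem (U2.getD b' idP) p5 → b = b' := by
    intro b hb b' hb' e
    apply i2 b hb b' hb'
    have := congrArg Fin.val e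
    rwa [p5, sem_apply_val (good_getD hG2 b), sem_apply_val (good_getD hG2 b')] at this
  have j3 : ∀ c < 2, ∀ c' < 2, sem (U3.getD c idP) p2 = sem (U3.getD c' idP) p2 → c = c' := by
    intro c hc c' hc' e
    apply i3 c hc c' hc'
    have := congrArg Fin.val e
    rwa [p2, sem_apply_val (good_getD hG3 c), sem_apply_val (good_getD hG3 c')] at this
  have j4 : ∀ d < 2, ∀ d' < 2, sem (U4.getD d idP) p10 = sem (U4.getD d' idP) p10 → d = d' := by
    intro d hd d' hd' e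
    apply i4 d hd d' hd'
    have := congrArg Fin.val e
    rwa [p10, sem_apply_val (good_getD hG4 d), sem_apply_val (good_getD hG4 d')] at this
  obtain ⟨e1, h⟩ := level_inj (fun a => sem (U1.getD a idP)) p1 j1 ha ha'
    (by simp only [Equiv.Perm.mul_apply]; rw [g4 d hd, g3 c hc, g2 b hb])
    (by simp only [Equiv.Perm.mul_apply]; rw [g4 d' hd', g3 c' hc', g2 b' hb']) h
  obtain ⟨e2, h⟩ := level_inj (fun b => sem (U2.getD b idP)) p5 j2 hb hb'
    (by simp only [Equiv.Perm.mul_apply]; rw [k4 d hd, k3 c hc])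
    (by simp only [Equiv.Perm.mul_apply]; rw [k4 d' hd', k3 c' hc']) h
  obtain ⟨e3, h⟩ := level_inj (fun c => sem (U3.getD c idP)) p2 j3 hc hc' (l4 d hd) (l4 d' hd') h
  have e4 : d = d' := j4 d hd d' hd' (by rw [h])
  exact ⟨e1, e2, e3, e4⟩

end chain

/-- transitivity of `PJ2` (from helper8's certificate) -/
instance pretransitive_PJ2 : MulAction.IsPretransitive ↥PJ2 (Fin 315) := by
  constructor
  intro x y
  obtain ⟨zx, hzx, ex⟩ := Cfsg.Agent.Lib.Helper8.J2Simp.trans_PJ2 x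
  obtain ⟨zy, hzy, ey⟩ := Cfsg.Agent.Lib.Helper8.J2Simp.trans_PJ2 y
  refine ⟨⟨zy, hzy⟩ * ⟨zx, hzx⟩⁻¹, ?_⟩
  show zy (zx.symm x) = y
  rw [← ex, Equiv.symm_apply_apply, ey]

theorem mem_stab_iff (z : ↥PJ2) : z ∈ MulAction.stabilizer ↥PJ2 p0 ↔ (z : Equiv.Perm (Fin 315)) p0 = p0 :=
  Iff.rfl

theorem card_stab (hcard : Nat.card ↥PJ2 = 604800) : Nat.card ↥(MulAction.stabilizer ↥PJ2 p0) = 1920 := by
  have h1 := MulAction.index_stabilizer_of_transitive ↥PJ2 p0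
  have h2 := Subgroup.index_mul_card (MulAction.stabilizer ↥PJ2 p0)
  rw [h1, hcard, Nat.card_eq_fintype_card, Fintype.card_fin] at h2
  omega

section chain2

variable {U1 U2 U3 U4 : List ℕ}
variable (hG1 : ∀ P ∈ U1, Good P) (hG2 : ∀ P ∈ U2, Good P) (hG3 : ∀ P ∈ U3, Good P)
  (hG4 : ∀ P ∈ U4, Good P) (hC : ChainProp U1 U2 U3 U4) (hcard : Nat.card ↥PJ2 = 604800)

include hG1 hG2 hG3 hG4 hC hcard

/-- **F1**: every element of `PJ2` fixing the point `0` is a product of transversal elements -/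
theorem exists_Phi {g : Equiv.Perm (Fin 315)} (hg : g ∈ PJ2) (h0 : g p0 = p0) :
    ∃ a < 80, ∃ b < 6, ∃ c < 2, ∃ d < 2, g = Phi U1 U2 U3 U4 a b c d := by
  let F : Fin 80 × Fin 6 × Fin 2 × Fin 2 → ↥(MulAction.stabilizer ↥PJ2 p0) := fun t =>
    ⟨⟨Phi U1 U2 U3 U4 t.1 t.2.1 t.2.2.1 t.2.2.2, Phi_mem _ _ _ _⟩,
      (mem_stab_iff _).2 (Phi_fix0 hG1 hG2 hG3 hG4 hC t.1.2 t.2.1.2 t.2.2.1.2 t.2.2.2.2)⟩
  have hinj : Function.Injective F := by
    intro t t' e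
    have e' : Phi U1 U2 U3 U4 t.1 t.2.1 t.2.2.1 t.2.2.2 = Phi U1 U2 U3 U4 t'.1 t'.2.1 t'.2.2.1 t'.2.2.2 :=
      congrArg (fun z : ↥(MulAction.stabilizer ↥PJ2 p0) => ((z : ↥PJ2) : Equiv.Perm (Fin 315))) e
    obtain ⟨e1, e2, e3, e4⟩ := Phi_inj hG1 hG2 hG3 hG4 hC t.1.2 t.2.1.2 t.2.2.1.2 t.2.2.2.2
      t'.1.2 t'.2.1.2 t'.2.2.1.2 t'.2.2.2.2 e'
    obtain ⟨a, b, c, d⟩ := t
    obtain ⟨a', b', c', d'⟩ := t'
    simp only [Prod.mk.injEq]
    exact ⟨Fin.ext e1, Fin.ext e2, Fin.ext e3, Fin.ext e4⟩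
  have hc : Nat.card (Fin 80 × Fin 6 × Fin 2 × Fin 2) = Nat.card ↥(MulAction.stabilizer ↥PJ2 p0) := by
    rw [card_stab hcard]
    simp
  have hbij := (Nat.bijective_iff_injective_and_card F).2 ⟨hinj, hc⟩
  obtain ⟨t, ht⟩ := hbij.2 ⟨⟨g, hg⟩, (mem_stab_iff _).2 h0⟩
  refine ⟨t.1, t.1.2, t.2.1, t.2.1.2, t.2.2.1, t.2.2.1.2, t.2.2.2, t.2.2.2.2, ?_⟩
  have := congrArg (fun z : ↥(MulAction.stabilizer ↥PJ2 p0) => ((z : ↥PJ2) : Equiv.Perm (Fin 315))) ht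
  exact this.symm

/-- **F2**: an element of `PJ2` fixing the five base points is the identity -/
theorem eq_one_of_fix {g : Equiv.Perm (Fin 315)} (hg : g ∈ PJ2) (h0 : g p0 = p0) (h1 : g p1 = p1)
    (h5 : g p5 = p5) (h2 : g p2 = p2) (h10 : g p10 = p10) : g = 1 := by
  obtain ⟨a, ha, b, hb, c, hc, d, hd, e⟩ := exists_Phi hG1 hG2 hG3 hG4 hC hcard hg h0
  obtain ⟨-, i1, f2, i2, f3, i3, f4, i4, ⟨z1, z2, z3, z4⟩, -⟩ := hC
  have g2 : ∀ b < 6, sem (U2.getD b idP) p1 = p1 := fun b hb => sem_app (good_getD hG2 b) _ _ (f2 b hb).2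
  have g3 : ∀ c < 2, sem (U3.getD c idP) p1 = p1 := fun c hc => sem_app (good_getD hG3 c) _ _ (f3 c hc).2.1
  have g4 : ∀ d < 2, sem (U4.getD d idP) p1 = p1 := fun d hd => sem_app (good_getD hG4 d) _ _ (f4 d hd).2.1
  have k3 : ∀ c < 2, sem (U3.getD c idP) p5 = p5 := fun c hc => sem_app (good_getD hG3 c) _ _ (f3 c hc).2.2
  have k4 : ∀ d < 2, sem (U4.getD d idP) p5 = p5 := fun d hd => sem_app (good_getD hG4 d) _ _ (f4 d hd).2.2.1
  have l4 : ∀ d < 2, sem (U4.getD d idP) p2 = p2 := fun d hd => sem_app (good_getD hG4 d) _ _ (f4 d hd).2.2.2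
  -- a = 0
  have ea : a = 0 := by
    apply i1 a ha 0 (by norm_num)
    have := congrArg Fin.val h1
    rw [e, Phi] at this
    simp only [Equiv.Perm.mul_apply] at this
    rw [g4 d hd, g3 c hc, g2 b hb, p1, sem_apply_val (good_getD hG1 a)] at this
    rw [this, z1, lk_idP (by norm_num)]
  subst ea
  have eb : b = 0 := by
    apply i2 b hb 0 (by norm_num)
    have := congrArg Fin.val h5
    rw [e, Phi, z1, sem_idP, one_mul] at this
    simp only [Equiv.Perm.mul_apply] at this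
    rw [k4 d hd, k3 c hc, p5, sem_apply_val (good_getD hG2 b)] at this
    rw [this, z2, lk_idP (by norm_num)]
  subst eb
  have ec : c = 0 := by
    apply i3 c hc 0 (by norm_num)
    have := congrArg Fin.val h2
    rw [e, Phi, z1, z2, sem_idP, one_mul, one_mul] at this
    simp only [Equiv.Perm.mul_apply] at this
    rw [l4 d hd, p2, sem_apply_val (good_getD hG3 c)] at this
    rw [this, z3, lk_idP (by norm_num)]
  subst ec
  have ed : d = 0 := by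
    apply i4 d hd 0 (by norm_num)
    have := congrArg Fin.val h10
    rw [e, Phi, z1, z2, z3, sem_idP, one_mul, one_mul, one_mul] at this
    rw [p10, sem_apply_val (good_getD hG4 d)] at this
    rw [this, z4, lk_idP (by norm_num)]
  subst ed
  rw [e, Phi, z1, z2, z3, z4, sem_idP]
  simp

end chain2

end Cfsg.Agent.Lib.Helper5.J2Spec
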