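import Mathlib
import Cfsg.Agent.Lib.Helper5.J2SpecC

/-!
# Elements of `PJ2` given by packed permutations: evaluation at points, words, keys

`el P : ↥PJ2` is the element represented by the packed permutation `P`; `ev x i` is the image of the point `i`
(a natural number) under `x : ↥PJ2`; `prodL l` is the product of the elements of a list of packed permutations and
`lkL l p` the image of `p` computed by lookups; `keyL l` packs the images of the five base points.
-/

set_option autoImplicit false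

namespace Cfsg.Agent.Lib.Helper5.J2Fus

open Cfsg.Agent.J2 Cfsg.Agent.Lib.Helper5.J2Spec

/-- the element of `PJ2` represented by `P` -/
noncomputable def el (P : ℕ) : ↥PJ2 := ⟨sem P, sem_mem P⟩

theorem el_idP : el idP = 1 := Subtype.ext sem_idP

theorem el_mulP {A B : ℕ} (hA : Good A) (hB : Good B) : el (mulP A B) = el A * el B :=
  Subtype.ext (sem_mulP hA hB)

/-- the image of the point `i` -/
def ev (x : ↥PJ2) (i : ℕ) : ℕ :=
  if h : i < 315 then (((x : Equiv.Perm (Fin 315)) ⟨i, h⟩ : Fin 315) : ℕ) else i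

theorem ev_of_lt (x : ↥PJ2) {i : ℕ} (h : i < 315) :
    ev x i = (((x : Equiv.Perm (Fin 315)) ⟨i, h⟩ : Fin 315) : ℕ) := dif_pos h

theorem ev_lt (x : ↥PJ2) {i : ℕ} (h : i < 315) : ev x i < 315 := by
  rw [ev_of_lt x h]; exact Fin.is_lt _

theorem ev_one (i : ℕ) : ev 1 i = i := by
  unfold ev
  split_ifs <;> simp

theorem ev_mul (x y : ↥PJ2) (i : ℕ) : ev (x * y) i = ev x (ev y i) := by
  by_cases h : i < 315
  · rw [ev_of_lt _ h, ev_of_lt y h, ev_of_lt x (Fin.is_lt _)]
    simp [Subgroup.coe_mul, Equiv.Perm.mul_apply]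
  · simp [ev, h]

theorem ev_el {P : ℕ} (hP : Good P) {i : ℕ} (h : i < 315) : ev (el P) i = lk P i := by
  rw [ev_of_lt _ h]; exact sem_apply_val hP h

theorem ev_ext {x y : ↥PJ2} (h : ∀ i < 315, ev x i = ev y i) : x = y := by
  apply Subtype.ext; apply Equiv.ext; intro i; apply Fin.ext
  have := h i.1 i.2
  rwa [ev_of_lt _ i.2, ev_of_lt _ i.2] at this

theorem ev_injective (x : ↥PJ2) {i j : ℕ} (hi : i < 315) (hj : j < 315) (h : ev x i = ev x j) : i = j := by
  rw [ev_of_lt _ hi, ev_of_lt _ hj] at h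
  have := (x : Equiv.Perm (Fin 315)).injective (Fin.ext h)
  exact congrArg Fin.val this

theorem ev_inv_ev (x : ↥PJ2) (i : ℕ) : ev x⁻¹ (ev x i) = i := by
  rw [← ev_mul, inv_mul_cancel, ev_one]

theorem ev_ev_inv (x : ↥PJ2) (i : ℕ) : ev x (ev x⁻¹ i) = i := by
  rw [← ev_mul, mul_inv_cancel, ev_one]

/-- the image of a point under a word, computed by lookups -/
def lkL : List ℕ → ℕ → ℕ
  | [], p => p
  | A :: l, p => lk A (lkL l p)

/-- the product of a word -/
noncomputable def prodL (l : List ℕ) : ↥PJ2 := (l.map el).prod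

@[simp] theorem prodL_nil : prodL [] = 1 := rfl
@[simp] theorem prodL_cons (A : ℕ) (l : List ℕ) : prodL (A :: l) = el A * prodL l := by
  simp [prodL]

theorem prodL_append (l l' : List ℕ) : prodL (l ++ l') = prodL l * prodL l' := by
  simp [prodL]

theorem ev_prodL {l : List ℕ} (hl : ∀ P ∈ l, Good P) {p : ℕ} (hp : p < 315) : ev (prodL l) p = lkL l p := by
  induction l with
  | nil => simp [lkL, ev_one]
  | cons A l ih =>
    have hl' : ∀ P ∈ l, Good P := fun P hP => hl P (List.mem_cons_of_mem _ hP)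
    rw [prodL_cons, ev_mul, lkL, ← ih hl', ev_el (hl A List.mem_cons_self) (ev_lt _ hp)]

theorem lkL_lt512 (l : List ℕ) {p : ℕ} (hp : p < 512) : lkL l p < 512 := by
  cases l with
  | nil => exact hp
  | cons A l => exact lk_lt _ _

/-- the images of the five base points, packed -/
def keyL (l : List ℕ) : ℕ :=
  lkL l 0 + 512 * (lkL l 1 + 512 * (lkL l 5 + 512 * (lkL l 2 + 512 * lkL l 10)))

theorem keyL_eq_iff (l l' : List ℕ) : keyL l = keyL l' ↔
    lkL l 0 = lkL l' 0 ∧ lkL l 1 = lkL l' 1 ∧ lkL l 5 = lkL l' 5 ∧ lkL l 2 = lkL l' 2 ∧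
      lkL l 10 = lkL l' 10 := by
  have a0 := lkL_lt512 l (by norm_num : 0 < 512)
  have a1 := lkL_lt512 l (by norm_num : 1 < 512)
  have a5 := lkL_lt512 l (by norm_num : 5 < 512)
  have a2 := lkL_lt512 l (by norm_num : 2 < 512)
  have a10 := lkL_lt512 l (by norm_num : 10 < 512)
  have b0 := lkL_lt512 l' (by norm_num : 0 < 512)
  have b1 := lkL_lt512 l' (by norm_num : 1 < 512)
  have b5 := lkL_lt512 l' (by norm_num : 5 < 512)
  have b2 := lkL_lt512 l' (by norm_num : 2 < 512)
  have b10 := lkL_lt512 l' (by norm_num : 10 < 512)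
  unfold keyL
  constructor
  · intro h; omega
  · rintro ⟨h0, h1, h5, h2, h10⟩; rw [h0, h1, h5, h2, h10]

/-- the base property: an element of `PJ2` fixing the five base points is trivial -/
def BaseProp : Prop :=
  ∀ x : ↥PJ2, ev x 0 = 0 → ev x 1 = 1 → ev x 5 = 5 → ev x 2 = 2 → ev x 10 = 10 → x = 1

theorem eq_of_base (hB : BaseProp) {x y : ↥PJ2} (h0 : ev x 0 = ev y 0) (h1 : ev x 1 = ev y 1)
    (h5 : ev x 5 = ev y 5) (h2 : ev x 2 = ev y 2) (h10 : ev x 10 = ev y 10) : x = y := by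
  have : y⁻¹ * x = 1 := by
    apply hB
    · rw [ev_mul, h0, ev_inv_ev]
    · rw [ev_mul, h1, ev_inv_ev]
    · rw [ev_mul, h5, ev_inv_ev]
    · rw [ev_mul, h2, ev_inv_ev]
    · rw [ev_mul, h10, ev_inv_ev]
  rw [inv_mul_eq_one] at this
  exact this.symm

theorem prodL_eq_of_key (hB : BaseProp) {l l' : List ℕ} (hl : ∀ P ∈ l, Good P) (hl' : ∀ P ∈ l', Good P)
    (h : keyL l = keyL l') : prodL l = prodL l' := by
  obtain ⟨h0, h1, h5, h2, h10⟩ := (keyL_eq_iff l l').1 h
  apply eq_of_base hB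
  · rw [ev_prodL hl (by norm_num), ev_prodL hl' (by norm_num)]; exact h0
  · rw [ev_prodL hl (by norm_num), ev_prodL hl' (by norm_num)]; exact h1
  · rw [ev_prodL hl (by norm_num), ev_prodL hl' (by norm_num)]; exact h5
  · rw [ev_prodL hl (by norm_num), ev_prodL hl' (by norm_num)]; exact h2
  · rw [ev_prodL hl (by norm_num), ev_prodL hl' (by norm_num)]; exact h10

theorem key_eq_of_prodL {l l' : List ℕ} (hl : ∀ P ∈ l, Good P) (hl' : ∀ P ∈ l', Good P)
    (h : prodL l = prodL l') : keyL l = keyL l' := by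
  rw [keyL_eq_iff]
  refine ⟨?_, ?_, ?_, ?_, ?_⟩
  · rw [← ev_prodL hl (by norm_num), ← ev_prodL hl' (by norm_num), h]
  · rw [← ev_prodL hl (by norm_num), ← ev_prodL hl' (by norm_num), h]
  · rw [← ev_prodL hl (by norm_num), ← ev_prodL hl' (by norm_num), h]
  · rw [← ev_prodL hl (by norm_num), ← ev_prodL hl' (by norm_num), h]
  · rw [← ev_prodL hl (by norm_num), ← ev_prodL hl' (by norm_num), h]

theorem prodL_ne_of_lkL {l l' : List ℕ} (hl : ∀ P ∈ l, Good P) (hl' : ∀ P ∈ l', Good P) {p : ℕ}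
    (hp : p < 315) (h : lkL l p ≠ lkL l' p) : prodL l ≠ prodL l' := by
  intro e
  apply h
  rw [← ev_prodL hl hp, ← ev_prodL hl' hp, e]

/-! ### membership in subgroups -/

/-- `P` represents an element of the subgroup `K` of `PJ2` -/
def GoodIn (K : Subgroup ↥PJ2) (P : ℕ) : Prop := Good P ∧ el P ∈ K

theorem goodIn_idP (K : Subgroup ↥PJ2) : GoodIn K idP := ⟨good_idP, by rw [el_idP]; exact K.one_mem⟩

theorem GoodIn.mul {K : Subgroup ↥PJ2} {A B : ℕ} (hA : GoodIn K A) (hB : GoodIn K B) :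
    GoodIn K (mulP A B) :=
  ⟨hA.1.mul hB.1, by rw [el_mulP hA.1 hB.1]; exact K.mul_mem hA.2 hB.2⟩

theorem goodIn_getD {K : Subgroup ↥PJ2} {L : List ℕ} (h : ∀ P ∈ L, GoodIn K P) (k : ℕ) :
    GoodIn K (L.getD k idP) := by
  by_cases hk : k < L.length
  · rw [List.getD_eq_getElem _ _ hk]; exact h _ (List.getElem_mem hk)
  · rw [List.getD_eq_default _ _ (by omega)]; exact goodIn_idP K

theorem goodIn_slpR {K : Subgroup ↥PJ2} : ∀ (prog : List (ℕ × ℕ)) (acc : List ℕ) (len : ℕ),
    (∀ P ∈ acc, GoodIn K P) → ∀ P ∈ slpR acc len prog, GoodIn K P := by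
  intro prog
  induction prog with
  | nil => intro acc len h; simpa [slpR] using h
  | cons ab prog ih =>
    intro acc len h
    obtain ⟨a, b⟩ := ab
    simp only [slpR, strict_eq]
    apply ih
    intro P hP
    rcases List.mem_cons.1 hP with h1 | hP
    · rw [h1]; exact (goodIn_getD h _).mul (goodIn_getD h _)
    · exact h P hP

theorem goodIn_top {P : ℕ} (h : Good P) : GoodIn ⊤ P := ⟨h, Subgroup.mem_top _⟩

/-- the elements of a list with the given numbers (the list being newest first, of length `n`) -/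
def pk (E : List ℕ) (n : ℕ) (idx : List ℕ) : List ℕ := idx.map fun k => E.getD (n - 1 - k) idP

theorem goodIn_pk {K : Subgroup ↥PJ2} {E : List ℕ} (h : ∀ P ∈ E, GoodIn K P) (n : ℕ) (idx : List ℕ) :
    ∀ P ∈ pk E n idx, GoodIn K P := by
  intro P hP
  unfold pk at hP
  rw [List.mem_map] at hP
  obtain ⟨k, _, rfl⟩ := hP
  exact goodIn_getD h _

/-- the subgroup generated by a list of packed permutations -/
noncomputable def cl (Gs : List ℕ) : Subgroup ↥PJ2 := Subgroup.closure {x | ∃ P ∈ Gs, el P = x}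

theorem el_mem_cl {Gs : List ℕ} {P : ℕ} (h : P ∈ Gs) : el P ∈ cl Gs :=
  Subgroup.subset_closure ⟨P, h, rfl⟩

theorem cl_le {Gs : List ℕ} {K : Subgroup ↥PJ2} (h : ∀ P ∈ Gs, el P ∈ K) : cl Gs ≤ K := by
  unfold cl
  rw [Subgroup.closure_le]
  rintro _ ⟨P, hP, rfl⟩
  exact h P hP

theorem cl_mono {Gs Gs' : List ℕ} (h : ∀ P ∈ Gs, P ∈ Gs') : cl Gs ≤ cl Gs' :=
  cl_le fun P hP => el_mem_cl (h P hP)

/-- the initial list of a straight-line program over the generators `Gs` -/
def initOf (Gs : List ℕ) : List ℕ := Gs.reverse ++ [idP]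

theorem goodIn_initOf {Gs : List ℕ} (hG : ∀ P ∈ Gs, Good P) : ∀ P ∈ initOf Gs, GoodIn (cl Gs) P := by
  intro P hP
  unfold initOf at hP
  rw [List.mem_append, List.mem_reverse, List.mem_singleton] at hP
  rcases hP with h | h
  · exact ⟨hG P h, el_mem_cl h⟩
  · rw [h]; exact goodIn_idP _

theorem prodL_mem {K : Subgroup ↥PJ2} {l : List ℕ} (h : ∀ P ∈ l, GoodIn K P) : prodL l ∈ K := by
  induction l with
  | nil => exact K.one_mem
  | cons A l ih =>
    rw [prodL_cons]
    exact K.mul_mem (h A List.mem_cons_self).2 (ih fun P hP => h P (List.mem_cons_of_mem _ hP))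

end Cfsg.Agent.Lib.Helper5.J2Fus
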