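import Mathlib
import Cfsg.Agent.Lib.Helper5.J2FusA
import Cfsg.Agent.H9.GfsSimple3
import Cfsg.Agent.Lib.S4139.N1

/-!
# The certificate for the 2-fusion system of `PJ2`, from elementwise facts

`cert_of`: the certificate `Cert2 2 (cl gS)` of helper9, from facts on the point stabiliser `cl Hs`, the normal
2-subgroup `cl gQ` of it and the Sylow 2-subgroup `cl gS` which are established by kernel computations elsewhere.
-/

set_option autoImplicit false

namespace Cfsg.Agent.Lib.Helper5.J2Fus

open Cfsg.Agent.J2 Cfsg.Agent.Lib.Helper5.J2Spec Cfsg.Agent.H9.GfsSimple3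

theorem fact2 : (604800 : ℕ).factorization 2 = 7 := by
  have h : (604800 : ℕ) = 2 ^ 7 * 4725 := by norm_num
  rw [h, Nat.factorization_mul (by norm_num) (by norm_num), Nat.Prime.factorization_pow Nat.prime_two]
  simp [Nat.factorization_eq_zero_of_not_dvd (show ¬ 2 ∣ 4725 by norm_num)]

/-- an involution conjugating the generators of `cl gQ` into `cl gQ` normalises it -/
theorem mem_normalizer_of_invol {gQ : List ℕ} {h : ↥PJ2} (h2 : h * h = 1)
    (hconj : ∀ x ∈ gQ, h * el x * h ∈ cl gQ) :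
    h ∈ Subgroup.normalizer ((cl gQ : Subgroup ↥PJ2) : Set ↥PJ2) := by
  have hinv : h⁻¹ = h := inv_eq_of_mul_eq_one_right h2
  have key : ∀ n ∈ cl gQ, h * n * h ∈ cl gQ := by
    intro n hn
    unfold cl at hn
    induction hn using Subgroup.closure_induction with
    | mem x hx =>
      obtain ⟨P, hP, rfl⟩ := hx
      exact hconj P hP
    | one => rw [mul_one, h2]; exact Subgroup.one_mem _
    | mul x y _ _ hx hy =>
      have e : h * (x * y) * h = (h * x * h) * (h * y * h) := by
        calc h * (x * y) * h = h * x * (1 * (y * h)) := by group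
          _ = h * x * ((h * h) * (y * h)) := by rw [h2]
          _ = (h * x * h) * (h * y * h) := by group
      rw [e]
      exact Subgroup.mul_mem _ hx hy
    | inv x _ hx =>
      have e : h * x⁻¹ * h = (h * x * h)⁻¹ := by
        rw [mul_inv_rev, mul_inv_rev, hinv, mul_assoc]
      rw [e]
      exact Subgroup.inv_mem _ hx
  rw [Subgroup.mem_normalizer_iff]
  intro n
  rw [hinv]
  constructor
  · exact key n
  · intro hn
    have := key _ hn
    have e : h * (h * n * h) * h = n := by
      calc h * (h * n * h) * h = (h * h) * n * (h * h) := by group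
        _ = n := by rw [h2, one_mul, mul_one]
    rwa [e] at this

section main

variable {Hs gQ gS : List ℕ} {zP : ℕ}

/-- **the certificate**, from elementwise facts -/
theorem cert_of (hcardG : Nat.card ↥PJ2 = 604800)
    (hsub : ∀ P ∈ gQ, P ∈ gS)
    (hgS : ∀ P ∈ gS, Good P)
    (hH : ∀ x : ↥PJ2, ev x 0 = 0 → x ∈ cl Hs)
    (hCQ : ∀ x : ↥PJ2, ev x 0 = 0 → x ∈ cl gQ ∨ ∃ q ∈ cl gQ, x * q ≠ q * x)
    (hfixQ : ∀ p < 315, (∀ x ∈ gQ, lk x p = p) → p = 0)
    (hfixS : ∀ x ∈ gS, lk x 0 = 0)
    (hHs : ∀ h ∈ Hs, el h * el h = 1 ∧ ∀ x ∈ gQ, el h * el x * el h ∈ cl gQ)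
    (hcen : ∀ x ∈ cl gS, x = 1 ∨ x = el zP ∨ ∃ g ∈ cl gS, x * g ≠ g * x)
    (hcard : Nat.card ↥(cl gS) = 128)
    (hfusR : ∀ r ∈ gQ, ∃ w : ↥PJ2, el r = w * el zP * w⁻¹)
    (hfusF : ∀ f ∈ gS, f ∈ gQ ∨ ∃ w : ↥PJ2, ∃ q ∈ cl gQ, el f = w * q * w⁻¹) :
    Cert2 2 (cl gS) := by
  have hQS : cl gQ ≤ cl gS := cl_mono hsub
  -- the Sylow subgroup fixes the point 0
  have fixS : ∀ x ∈ cl gS, ev x 0 = 0 := by
    intro x hx
    unfold cl at hx
    induction hx using Subgroup.closure_induction with
    | mem x hx =>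
      obtain ⟨P, hP, rfl⟩ := hx
      rw [ev_el (hgS P hP) (by norm_num)]; exact hfixS P hP
    | one => exact ev_one 0
    | mul x y _ _ hx hy => rw [ev_mul, hy, hx]
    | inv x _ hx =>
      have := ev_inv_ev x 0
      rw [hx] at this
      exact this
  -- a point fixed by the generators of `Q` is the point 0
  have fixQ : ∀ p < 315, (∀ x ∈ gQ, ev (el x) p = p) → p = 0 := by
    intro p hp h
    apply hfixQ p hp
    intro x hx
    rw [← ev_el (hgS x (hsub x hx)) hp]; exact h x hx
  -- the normaliser of the Sylow subgroup fixes 0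
  have normS : ∀ g ∈ Subgroup.normalizer ((cl gS : Subgroup ↥PJ2) : Set ↥PJ2), ev g 0 = 0 := by
    intro g hg
    apply fixQ _ (ev_lt g (by norm_num))
    intro x hx
    have hxS : el x ∈ cl gS := el_mem_cl (hsub x hx)
    have hg' : g⁻¹ ∈ Subgroup.normalizer ((cl gS : Subgroup ↥PJ2) : Set ↥PJ2) := inv_mem hg
    have h1 : g⁻¹ * el x * g⁻¹⁻¹ ∈ cl gS := (Subgroup.mem_normalizer_iff.1 hg' (el x)).1 hxS
    have h2 := fixS _ h1
    rw [inv_inv, ev_mul, ev_mul] at h2
    have h3 := congrArg (ev g) h2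
    rw [ev_ev_inv] at h3
    exact h3
  -- the centraliser of `Q` fixes 0
  have centQ0 : ∀ y : ↥PJ2, (∀ x ∈ cl gQ, y * x = x * y) → ev y 0 = 0 := by
    intro y hy
    apply fixQ _ (ev_lt y (by norm_num))
    intro x hx
    have hxQ : el x ∈ cl gQ := el_mem_cl hx
    have h0 : ev (el x) 0 = 0 := fixS _ (hQS hxQ)
    have := congrArg (fun t => ev t 0) (hy _ hxQ)
    simp only [ev_mul, h0] at this
    exact this.symm
  -- the centraliser of `Q` is in `Q`
  have centQ : ∀ y : ↥PJ2, (∀ x ∈ cl gQ, y * x = x * y) → y ∈ cl gQ := by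
    intro y hy
    rcases hCQ y (centQ0 y hy) with h | ⟨q, hq, hne⟩
    · exact h
    · exact absurd (hy q hq) hne
  -- `Q` is centric
  have centric : CentricIn (cl gS) (cl gQ) := by
    refine ⟨hQS, ?_⟩
    intro g _ y _ hy
    have hy' : g⁻¹ * y * g ∈ cl gQ := by
      apply centQ
      intro x hx
      have := hy x hx
      calc g⁻¹ * y * g * x = g⁻¹ * (y * (g * x * g⁻¹)) * g := by group
        _ = g⁻¹ * (g * x * g⁻¹ * y) * g := by rw [this]
        _ = x * (g⁻¹ * y * g) := by group
    exact ⟨g⁻¹ * y * g, hy', by group⟩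
  -- the point stabiliser is generated by 2-elements normalising `Q`
  have hHgen : cl Hs ≤ pNormGen 2 (cl gQ) := by
    apply cl_le
    intro h hh
    obtain ⟨h2, hconj⟩ := hHs h hh
    apply Subgroup.subset_closure
    refine ⟨mem_normalizer_of_invol h2 hconj, ?_⟩
    have hd : orderOf (el h) ∣ 2 := orderOf_dvd_of_pow_eq_one (by rw [pow_two]; exact h2)
    rcases (Nat.dvd_prime Nat.prime_two).1 hd with h1 | h1
    · exact ⟨0, by rw [h1, pow_zero]⟩
    · exact ⟨1, by rw [h1, pow_one]⟩
  refine ⟨?_, ?_, ?_, ?_⟩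
  · rw [hcardG, fact2, hcard]; norm_num
  · intro h
    rw [h, Subgroup.card_bot] at hcard
    norm_num at hcard
  · -- strongly closed subgroups
    intro T hTS hT
    by_cases hbot : T = ⊥
    · exact Or.inl hbot
    right
    have hz : el zP ∈ T := by
      have : Fact (Nat.Prime 2) := ⟨Nat.prime_two⟩
      have hp : IsPGroup 2 ↥(cl gS) := IsPGroup.of_card (n := 7) (by rw [hcard]; norm_num)
      have hnil : Group.IsNilpotent ↥(cl gS) := hp.isNilpotent
      have hTn : (T.subgroupOf (cl gS)).Normal := by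
        constructor
        intro n hn g
        rw [Subgroup.mem_subgroupOf] at hn ⊢
        have e : ((g * n * g⁻¹ : ↥(cl gS)) : ↥PJ2) = (g : ↥PJ2) * (n : ↥PJ2) * (g : ↥PJ2)⁻¹ := by
          simp
        rw [e]
        apply hT _ hn
        exact mul_mem (mul_mem g.2 n.2) (inv_mem g.2)
      have hT' : T.subgroupOf (cl gS) ≠ ⊥ := by
        intro h
        apply hbot
        rw [eq_bot_iff]
        intro x hx
        have hm : (⟨x, hTS hx⟩ : ↥(cl gS)) ∈ T.subgroupOf (cl gS) := by
          rw [Subgroup.mem_subgroupOf]; exact hx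
        rw [h, Subgroup.mem_bot] at hm
        rw [Subgroup.mem_bot]
        exact congrArg Subtype.val hm
      have hne := Cfsg.Agent.S4139L.N1_inf_center_ne_bot hnil (T.subgroupOf (cl gS)) hT'
      obtain ⟨x, hx1⟩ := (Subgroup.ne_bot_iff_exists_ne_one).1 hne
      obtain ⟨hxT, hxZ⟩ := Subgroup.mem_inf.1 x.2
      rw [Subgroup.mem_subgroupOf] at hxT
      rw [Subgroup.mem_center_iff] at hxZ
      have hcomm : ∀ s ∈ cl gS, ((x : ↥(cl gS)) : ↥PJ2) * s = s * ((x : ↥(cl gS)) : ↥PJ2) := by
        intro s hs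
        have := hxZ ⟨s, hs⟩
        exact (congrArg Subtype.val this).symm
      rcases hcen _ (x : ↥(cl gS)).2 with h1 | h1 | ⟨g, hg, hne'⟩
      · exfalso
        apply hx1
        apply Subtype.ext
        apply Subtype.ext
        exact h1
      · rw [← h1]; exact hxT
      · exact absurd (hcomm g hg) hne'
    have hQT : cl gQ ≤ T := by
      apply cl_le
      intro r hr
      obtain ⟨w, hw⟩ := hfusR r hr
      rw [hw]
      apply hT _ hz
      rw [← hw]; exact el_mem_cl (hsub r hr)
    have hST : cl gS ≤ T := by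
      apply cl_le
      intro f hf
      rcases hfusF f hf with h | ⟨w, q, hq, hw⟩
      · exact hQT (el_mem_cl h)
      · rw [hw]; apply hT _ (hQT hq); rw [← hw]; exact el_mem_cl hf
    exact le_antisymm hTS hST
  · -- the normaliser of the Sylow subgroup
    intro g hg
    refine ⟨g, ?_, fun x _ => rfl⟩
    apply Subgroup.subset_closure
    exact ⟨hg, cl gQ, centric, hHgen (hH g (normS g hg))⟩

end main

end Cfsg.Agent.Lib.Helper5.J2Fus
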