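import Mathlib
import Cfsg.Agent.Lib.Helper5.J2FusA

/-!
# The checks for the 2-fusion system of `PJ2`, and their soundness

All the checks compare the images of the five base points (`keyL`) or of a single point (`lkL`).
-/

set_option autoImplicit false

namespace Cfsg.Agent.Lib.Helper5.J2Fus

open Cfsg.Agent.J2 Cfsg.Agent.Lib.Helper5.J2Spec

/-- the keys of the elements of a list -/
def keys (L : List ℕ) : List ℕ := L.map fun P => keyL [P]

/-- the key of the word `l` is in the list `K` -/
def memK (K : List ℕ) (l : List ℕ) : Bool := strict (keyL l) fun k => K.contains k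

theorem memK_sound {L l : List ℕ} (h : memK (keys L) l = true) : ∃ y ∈ L, keyL l = keyL [y] := by
  unfold memK at h
  rw [strict_eq, List.contains_iff_mem] at h
  unfold keys at h
  rw [List.mem_map] at h
  obtain ⟨y, hy, e⟩ := h
  exact ⟨y, hy, e.symm⟩

theorem good_one {P : ℕ} (h : Good P) : ∀ A ∈ [P], Good A := by
  intro A hA
  rw [List.mem_singleton] at hA
  rw [hA]; exact h

theorem good_two {P P' : ℕ} (h : Good P) (h' : Good P') : ∀ A ∈ [P, P'], Good A := by
  intro A hA
  simp only [List.mem_cons, List.not_mem_nil, or_false] at hA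
  rcases hA with rfl | rfl
  · exact h
  · exact h'

theorem good_three {P P' P'' : ℕ} (h : Good P) (h' : Good P') (h'' : Good P'') :
    ∀ A ∈ [P, P', P''], Good A := by
  intro A hA
  simp only [List.mem_cons, List.not_mem_nil, or_false] at hA
  rcases hA with rfl | rfl | rfl
  · exact h
  · exact h'
  · exact h''

theorem good_nil : ∀ A ∈ ([] : List ℕ), Good A := by
  intro A hA
  exact absurd hA List.not_mem_nil

theorem prodL_one (P : ℕ) : prodL [P] = el P := by simp

theorem prodL_two (P P' : ℕ) : prodL [P, P'] = el P * el P' := by simp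

theorem prodL_three (P P' P'' : ℕ) : prodL [P, P', P''] = el P * el P' * el P'' := by simp [mul_assoc]

/-! ### enumeration of a subgroup -/

/-- the list `L` (with keys `K`) contains the identity and is closed under left multiplication by `gs` -/
def enumChk (gs L K : List ℕ) : Bool :=
  memK K [] && gs.all fun g => L.all fun P => memK K [g, P]

theorem enum_sound (hB : BaseProp) {gs L : List ℕ} (hgs : ∀ P ∈ gs, Good P) (hL : ∀ P ∈ L, Good P)
    (h : enumChk gs L (keys L) = true) : ∀ x ∈ cl gs, ∃ P ∈ L, x = el P := by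
  unfold enumChk at h
  rw [Bool.and_eq_true, List.all_eq_true] at h
  obtain ⟨h1, h2⟩ := h
  have key : ∀ x ∈ Submonoid.closure {x : ↥PJ2 | ∃ P ∈ gs, el P = x}, ∃ P ∈ L, x = el P := by
    intro x hx
    induction hx using Submonoid.closure_induction_left with
    | one =>
      obtain ⟨y, hy, e⟩ := memK_sound h1
      refine ⟨y, hy, ?_⟩
      have := prodL_eq_of_key hB good_nil (good_one (hL y hy)) e
      rw [prodL_one] at this
      exact this
    | mul_left g hg y _ ih =>
      obtain ⟨A, hA, rfl⟩ := hg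
      obtain ⟨P, hP, rfl⟩ := ih
      have h3 := h2 A hA
      rw [List.all_eq_true] at h3
      obtain ⟨P', hP', e⟩ := memK_sound (h3 P hP)
      refine ⟨P', hP', ?_⟩
      have := prodL_eq_of_key hB (good_two (hgs A hA) (hL P hP)) (good_one (hL P' hP')) e
      rw [prodL_one, prodL_two] at this
      exact this
  intro x hx
  apply key
  have e : (Subgroup.closure {x : ↥PJ2 | ∃ P ∈ gs, el P = x}).toSubmonoid =
      Submonoid.closure {x : ↥PJ2 | ∃ P ∈ gs, el P = x} := Subgroup.closure_toSubmonoid_of_finite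
  rw [← e]
  exact hx

theorem card_of_enum {gs L : List ℕ} (hL : ∀ P ∈ L, GoodIn (cl gs) P)
    (henum : ∀ x ∈ cl gs, ∃ P ∈ L, x = el P) (hnd : (keys L).Nodup) : Nat.card ↥(cl gs) = L.length := by
  let f : Fin L.length → ↥(cl gs) := fun k => ⟨el (L[k.1]'k.2), (hL _ (List.getElem_mem k.2)).2⟩
  have hinj : Function.Injective f := by
    intro k k' e
    have e1 : el (L[k.1]'k.2) = el (L[k'.1]'k'.2) := congrArg Subtype.val e
    have e2 : keyL [L[k.1]'k.2] = keyL [L[k'.1]'k'.2] := by
      apply key_eq_of_prodL (good_one (hL _ (List.getElem_mem k.2)).1)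
        (good_one (hL _ (List.getElem_mem k'.2)).1)
      rw [prodL_one, prodL_one]; exact e1
    have hk : k.1 < (keys L).length := by unfold keys; rw [List.length_map]; exact k.2
    have hk' : k'.1 < (keys L).length := by unfold keys; rw [List.length_map]; exact k'.2
    have e3 : (keys L)[k.1]'hk = (keys L)[k'.1]'hk' := by
      simp only [keys, List.getElem_map]
      exact e2
    exact Fin.ext ((hnd.getElem_inj_iff).1 e3)
  have hsurj : Function.Surjective f := by
    rintro ⟨x, hx⟩
    obtain ⟨P, hP, rfl⟩ := henum x hx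
    obtain ⟨k, hk, rfl⟩ := List.getElem_of_mem hP
    exact ⟨⟨k, hk⟩, rfl⟩
  have := Nat.card_congr (Equiv.ofBijective f ⟨hinj, hsurj⟩)
  rw [← this, Nat.card_eq_fintype_card, Fintype.card_fin]

/-! ### the generators of the point stabiliser -/

/-- the `h` are involutions (or trivial) conjugating the generators of `Q` into `Q` -/
def hsChk (Hs gQ KQ : List ℕ) : Bool :=
  Hs.all fun h => (keyL [h, h] == keyL []) && gQ.all fun x => memK KQ [h, x, h]

theorem hs_sound (hB : BaseProp) {Hs gQ LQ : List ℕ} (hHs : ∀ P ∈ Hs, Good P) (hgQ : ∀ P ∈ gQ, Good P)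
    (hLQ : ∀ P ∈ LQ, GoodIn (cl gQ) P) (h : hsChk Hs gQ (keys LQ) = true) :
    ∀ h ∈ Hs, el h * el h = 1 ∧ ∀ x ∈ gQ, el h * el x * el h ∈ cl gQ := by
  unfold hsChk at h
  rw [List.all_eq_true] at h
  intro A hA
  have h1 := h A hA
  rw [Bool.and_eq_true, List.all_eq_true, beq_iff_eq] at h1
  obtain ⟨h2, h3⟩ := h1
  constructor
  · have := prodL_eq_of_key hB (good_two (hHs A hA) (hHs A hA)) good_nil h2
    rw [prodL_two] at this
    exact this
  · intro x hx
    obtain ⟨y, hy, e⟩ := memK_sound (h3 x hx)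
    have := prodL_eq_of_key hB (good_three (hHs A hA) (hgQ x hx) (hHs A hA)) (good_one (hLQ y hy).1) e
    rw [prodL_three, prodL_one] at this
    rw [this]
    exact (hLQ y hy).2

/-! ### fixed points -/

/-- every point other than `0` is moved by a generator of `Q`; the generators of `S` fix `0` -/
def fixChk (gQ gS : List ℕ) : Bool :=
  ((List.range 315).all fun p => p == 0 || gQ.any fun x => lk x p != p) && gS.all fun x => lk x 0 == 0

theorem fix_sound1 {gQ gS : List ℕ} (h : fixChk gQ gS = true) :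
    ∀ p < 315, (∀ x ∈ gQ, lk x p = p) → p = 0 := by
  unfold fixChk at h
  rw [Bool.and_eq_true, List.all_eq_true] at h
  intro p hp hfix
  have h1 := h.1 p (List.mem_range.2 hp)
  rw [Bool.or_eq_true, beq_iff_eq, List.any_eq_true] at h1
  rcases h1 with h1 | ⟨x, hx, hne⟩
  · exact h1
  · rw [bne_iff_ne] at hne
    exact absurd (hfix x hx) hne

theorem fix_sound2 {gQ gS : List ℕ} (h : fixChk gQ gS = true) : ∀ x ∈ gS, lk x 0 = 0 := by
  unfold fixChk at h
  rw [Bool.and_eq_true, List.all_eq_true, List.all_eq_true] at h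
  intro x hx
  have := h.2 x hx
  rwa [beq_iff_eq] at this

/-! ### the centraliser of `Q` in the point stabiliser -/

/-- one entry of the table: the word `w` is in `Q`, or does not commute with a generator of `Q` -/
def k8One (w gQ KQ : List ℕ) (e : ℕ × ℕ) : Bool :=
  if e.1 = 0 then memK KQ w else
    decide (e.2 < 315) && (lkL (w ++ [gQ.getD (e.1 - 1) idP]) e.2 != lkL (gQ.getD (e.1 - 1) idP :: w) e.2)

def k8Chk (U1 U2 U3 U4 gQ KQ : List ℕ) (T : List (List (ℕ × ℕ))) : Bool :=
  (List.range 80).all fun a => strict (U1.getD a idP) fun u1 => (List.range 6).all fun b =>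
    strict (U2.getD b idP) fun u2 => (List.range 2).all fun c => strict (U3.getD c idP) fun u3 =>
      (List.range 2).all fun d => strict (U4.getD d idP) fun u4 =>
        k8One [u1, u2, u3, u4] gQ KQ ((T.getD a []).getD ((b * 2 + c) * 2 + d) (0, 0))

theorem goodIn_of_mem_gens {gs : List ℕ} (hgs : ∀ P ∈ gs, Good P) : ∀ P ∈ gs, GoodIn (cl gs) P :=
  fun P hP => ⟨hgs P hP, el_mem_cl hP⟩

theorem k8One_sound (hB : BaseProp) {w gQ LQ : List ℕ} (hw : ∀ P ∈ w, Good P) (hgQ : ∀ P ∈ gQ, Good P)
    (hLQ : ∀ P ∈ LQ, GoodIn (cl gQ) P) {e : ℕ × ℕ} (h : k8One w gQ (keys LQ) e = true) :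
    prodL w ∈ cl gQ ∨ ∃ q ∈ cl gQ, prodL w * q ≠ q * prodL w := by
  unfold k8One at h
  split_ifs at h with h0
  · left
    obtain ⟨y, hy, e'⟩ := memK_sound h
    have := prodL_eq_of_key hB hw (good_one (hLQ y hy).1) e'
    rw [prodL_one] at this
    rw [this]
    exact (hLQ y hy).2
  · right
    rw [Bool.and_eq_true, decide_eq_true_eq, bne_iff_ne] at h
    obtain ⟨hp, hne⟩ := h
    have hq : GoodIn (cl gQ) (gQ.getD (e.1 - 1) idP) := goodIn_getD (goodIn_of_mem_gens hgQ) _
    refine ⟨el (gQ.getD (e.1 - 1) idP), hq.2, ?_⟩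
    have hw1 : ∀ P ∈ w ++ [gQ.getD (e.1 - 1) idP], Good P := by
      intro P hP
      rw [List.mem_append, List.mem_singleton] at hP
      rcases hP with hP | hP
      · exact hw P hP
      · rw [hP]; exact hq.1
    have hw2 : ∀ P ∈ gQ.getD (e.1 - 1) idP :: w, Good P := by
      intro P hP
      rw [List.mem_cons] at hP
      rcases hP with hP | hP
      · rw [hP]; exact hq.1
      · exact hw P hP
    have := prodL_ne_of_lkL hw1 hw2 hp hne
    rw [prodL_append, prodL_one, prodL_cons] at this
    exact this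

theorem k8_sound (hB : BaseProp) {U1 U2 U3 U4 gQ LQ : List ℕ} {T : List (List (ℕ × ℕ))}
    (hU1 : ∀ P ∈ U1, Good P) (hU2 : ∀ P ∈ U2, Good P) (hU3 : ∀ P ∈ U3, Good P) (hU4 : ∀ P ∈ U4, Good P)
    (hgQ : ∀ P ∈ gQ, Good P) (hLQ : ∀ P ∈ LQ, GoodIn (cl gQ) P)
    (h : k8Chk U1 U2 U3 U4 gQ (keys LQ) T = true) {a b c d : ℕ} (ha : a < 80) (hb : b < 6) (hc : c < 2)
    (hd : d < 2) :
    prodL [U1.getD a idP, U2.getD b idP, U3.getD c idP, U4.getD d idP] ∈ cl gQ ∨
      ∃ q ∈ cl gQ, prodL [U1.getD a idP, U2.getD b idP, U3.getD c idP, U4.getD d idP] * q ≠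
        q * prodL [U1.getD a idP, U2.getD b idP, U3.getD c idP, U4.getD d idP] := by
  unfold k8Chk at h
  simp only [strict_eq] at h
  rw [List.all_eq_true] at h
  have h1 := h a (List.mem_range.2 ha)
  rw [List.all_eq_true] at h1
  have h2 := h1 b (List.mem_range.2 hb)
  rw [List.all_eq_true] at h2
  have h3 := h2 c (List.mem_range.2 hc)
  rw [List.all_eq_true] at h3
  have h4 := h3 d (List.mem_range.2 hd)
  apply k8One_sound hB ?_ hgQ hLQ h4
  intro P hP
  simp only [List.mem_cons, List.not_mem_nil, or_false] at hP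
  rcases hP with rfl | rfl | rfl | rfl
  · exact good_getD hU1 _
  · exact good_getD hU2 _
  · exact good_getD hU3 _
  · exact good_getD hU4 _

/-! ### the centre of the Sylow subgroup -/

def k9One (P zP : ℕ) (gS : List ℕ) (e : ℕ × ℕ) : Bool :=
  if e.1 = 0 then (keyL [P] == keyL []) || (keyL [P] == keyL [zP]) else
    decide (e.2 < 315) && (lkL [P, gS.getD (e.1 - 1) idP] e.2 != lkL [gS.getD (e.1 - 1) idP, P] e.2)

def k9Chk (LS gS : List ℕ) (zP : ℕ) (T : List (ℕ × ℕ)) : Bool :=
  (List.range 128).all fun k => k9One (LS.getD k idP) zP gS (T.getD k (0, 0))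

theorem k9One_sound (hB : BaseProp) {P zP : ℕ} {gS : List ℕ} (hP : Good P) (hz : Good zP)
    (hgS : ∀ P ∈ gS, Good P) {e : ℕ × ℕ} (h : k9One P zP gS e = true) :
    el P = 1 ∨ el P = el zP ∨ ∃ g ∈ cl gS, el P * g ≠ g * el P := by
  unfold k9One at h
  split_ifs at h with h0
  · rw [Bool.or_eq_true, beq_iff_eq, beq_iff_eq] at h
    rcases h with h | h
    · left
      have := prodL_eq_of_key hB (good_one hP) good_nil h
      rw [prodL_one] at this
      exact this
    · right; left
      have := prodL_eq_of_key hB (good_one hP) (good_one hz) h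
      rw [prodL_one, prodL_one] at this
      exact this
  · right; right
    rw [Bool.and_eq_true, decide_eq_true_eq, bne_iff_ne] at h
    obtain ⟨hp, hne⟩ := h
    have hq : GoodIn (cl gS) (gS.getD (e.1 - 1) idP) := goodIn_getD (goodIn_of_mem_gens hgS) _
    refine ⟨el (gS.getD (e.1 - 1) idP), hq.2, ?_⟩
    have := prodL_ne_of_lkL (good_two hP hq.1) (good_two hq.1 hP) hp hne
    rw [prodL_two, prodL_two] at this
    exact this

theorem k9_sound (hB : BaseProp) {LS gS : List ℕ} {zP : ℕ} {T : List (ℕ × ℕ)} (hLS : ∀ P ∈ LS, Good P)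
    (hz : Good zP) (hgS : ∀ P ∈ gS, Good P) (hlen : LS.length = 128) (h : k9Chk LS gS zP T = true) :
    ∀ P ∈ LS, el P = 1 ∨ el P = el zP ∨ ∃ g ∈ cl gS, el P * g ≠ g * el P := by
  unfold k9Chk at h
  rw [List.all_eq_true] at h
  intro P hP
  obtain ⟨k, hk, rfl⟩ := List.getElem_of_mem hP
  have h1 := h k (List.mem_range.2 (by omega))
  rw [List.getD_eq_getElem _ _ hk] at h1
  exact k9One_sound hB (hLS _ hP) hz hgS h1

/-! ### conjugacy -/

/-- `A[i] * W[i] = W[i] * B[i]` for `i < n` -/
def conjChk (A W B : List ℕ) (n : ℕ) : Bool :=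
  (List.range n).all fun i => keyL [A.getD i idP, W.getD i idP] == keyL [W.getD i idP, B.getD i idP]

theorem conj_sound (hB : BaseProp) {A W B : List ℕ} {n : ℕ} (hA : ∀ P ∈ A, Good P) (hW : ∀ P ∈ W, Good P)
    (hB' : ∀ P ∈ B, Good P) (h : conjChk A W B n = true) {i : ℕ} (hi : i < n) :
    el (A.getD i idP) = el (W.getD i idP) * el (B.getD i idP) * (el (W.getD i idP))⁻¹ := by
  unfold conjChk at h
  rw [List.all_eq_true] at h
  have h1 := h i (List.mem_range.2 hi)
  rw [beq_iff_eq] at h1
  have := prodL_eq_of_key hB (good_two (good_getD hA i) (good_getD hW i))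
    (good_two (good_getD hW i) (good_getD hB' i)) h1
  rw [prodL_two, prodL_two] at this
  rw [← this]
  group

end Cfsg.Agent.Lib.Helper5.J2Fus
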