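import Mathlib

/-!
# Data for the 2-fusion system of `PJ2`

Straight-line programs (four stages), the indices of the elements used, and two certificate tables
(`tK8`: the centraliser of `Q` in the point stabiliser; `tK9`: the centre of the Sylow 2-subgroup).
Generated by a script; everything is re-checked in Lean.
-/

set_option autoImplicit false

namespace Cfsg.Agent.Lib.Helper5.J2Fus

/-- stage 1: from the identity and the four generators -/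
def fprog1 : List (ℕ × ℕ) :=
  [(1, 2), (3, 5), (6, 6), (7, 7), (2, 4), (4, 2), (4, 9), (2, 11), (11, 2), (3, 12), (13, 3), (8, 14), (15,
  16), (2, 1), (4, 18), (19, 19), (20, 20), (21, 20), (21, 21), (18, 3), (1, 6), (24, 1), (4, 25), (26, 4), (2,
  27), (28, 2), (22, 29), (30, 31), (4, 5), (4, 6), (4, 1), (1, 4), (2, 35), (36, 2), (4, 37), (38, 4), (8, 39),
  (40, 41), (3, 4), (1, 43), (2, 44), (45, 45), (46, 46), (47, 46), (47, 47), (1, 3), (3, 1), (4, 50), (51, 4),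
  (1, 52), (53, 1), (48, 54), (55, 56), (3, 54), (52, 52), (1, 35), (2, 60), (60, 2), (3, 61), (62, 3), (59,
  63), (64, 65), (2, 3), (4, 67), (1, 68), (2, 69), (4, 70), (1, 71), (72, 72), (73, 73), (74, 72), (74, 74),
  (2, 53), (52, 2), (4, 77), (78, 4), (1, 79), (80, 1), (75, 81), (82, 83), (2, 43), (4, 85), (1, 86), (3, 87),
  (2, 88), (1, 89), (90, 90), (91, 91), (92, 92), (1, 51), (4, 94), (94, 4), (2, 95), (96, 2), (4, 97), (98, 4),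
  (84, 99), (100, 101), (3, 45), (1, 103), (4, 104), (2, 105), (106, 106), (107, 107), (108, 106), (108, 108),
  (2, 38), (37, 2), (4, 111), (112, 4), (2, 113), (114, 2), (109, 115), (116, 117), (1, 85), (4, 119), (1, 120),
  (3, 121), (2, 122), (1, 18), (3, 10), (4, 125), (1, 126), (2, 68), (3, 68), (1, 129), (2, 129), (3, 131), (3,
  9), (4, 133), (2, 134), (4, 135), (1, 134), (4, 137)]

/-- stage 1 indices of the involutions `h_i` generating the point stabiliser -/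
def ih : List ℕ :=
  [17, 32, 42, 57, 66, 84, 102, 118]

/-- stage 1 indices of the conjugators `w_i` with `w_i z w_i⁻¹ = r_i` -/
def irc : List ℕ :=
  [123, 124, 25, 132]

/-- stage 1 indices of the conjugators `w_j` with `w_j q_j w_j⁻¹ = f_j` -/
def ifc : List ℕ :=
  [136, 138]

/-- stage 2: from the identity and the `h_i` -/
def fprog2 : List (ℕ × ℕ) :=
  [(8, 7), (7, 8), (6, 9), (10, 6), (5, 7), (7, 5), (8, 13), (14, 8), (3, 11), (16, 17), (3, 15), (12, 19), (7,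
  3), (3, 7), (8, 21), (22, 8), (7, 9), (1, 23), (25, 26), (1, 25), (24, 28), (8, 2), (6, 22), (30, 31), (6,
  30), (21, 33), (34, 18), (20, 32), (27, 35), (32, 37), (29, 34), (32, 18), (20, 34), (20, 40), (34, 42), (18,
  32), (41, 44), (2, 1), (3, 1), (1, 3), (4, 1), (1, 4), (5, 1), (1, 5), (6, 1), (1, 6), (7, 1), (1, 7), (8, 1),
  (1, 8), (3, 2), (4, 2), (5, 2), (6, 2), (7, 2), (5, 3), (3, 5), (8, 3), (3, 8), (3, 4), (4, 3), (6, 4), (7,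
  4), (6, 5), (5, 6), (8, 5), (7, 6), (8, 6), (6, 8), (6, 46), (46, 6), (7, 46), (46, 7), (8, 46), (46, 8), (7,
  47), (48, 7), (8, 47), (48, 8), (6, 49), (50, 6), (7, 49), (50, 7), (8, 49), (6, 51), (52, 6), (7, 51), (52,
  7), (8, 51), (52, 8), (3, 55), (56, 3), (5, 55), (56, 5), (8, 55), (56, 8), (7, 57), (58, 7), (8, 59), (59,
  8), (6, 60), (7, 60), (6, 61), (61, 6), (8, 61), (8, 63), (63, 8), (8, 48), (47, 8), (6, 64), (65, 6), (7,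
  64), (8, 64), (65, 8), (7, 54), (53, 7), (8, 14), (13, 8), (8, 22), (21, 8), (3, 9), (10, 3), (8, 84), (85,
  8), (8, 90), (91, 8), (8, 99), (100, 8), (8, 110), (110, 8), (8, 120), (120, 8)]

/-- stage 2 indices of the first transversal -/
def jU1 : List ℕ :=
  [0, 1, 2, 3, 4, 5, 6, 7, 8, 46, 47, 49, 51, 53, 55, 57, 59, 60, 61, 62, 63, 30, 48, 64, 54, 21, 66, 68, 70,
  71, 58, 72, 14, 74, 75, 76, 22, 13, 9, 78, 80, 82, 84, 86, 88, 90, 92, 93, 95, 97, 99, 101, 103, 105, 79, 107,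
  109, 110, 111, 113, 114, 116, 118, 120, 121, 123, 23, 89, 106, 125, 127, 15, 129, 11, 25, 131, 133, 135, 137,
  139]

/-- stage 2 indices of the second transversal -/
def jU2 : List ℕ :=
  [0, 18, 32, 34, 40, 35]

/-- stage 2 indices of the third transversal -/
def jU3 : List ℕ :=
  [0, 43]

/-- stage 2 indices of the fourth transversal -/
def jU4 : List ℕ :=
  [0, 38]

/-- stage 2 index of the central involution `z` of the point stabiliser -/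
def jz : ℕ := 2

/-- stage 2 indices of the `r_i` -/
def jr : List ℕ :=
  [61, 4, 59, 46]

/-- stage 2 indices of the `f_j` -/
def jf : List ℕ :=
  [43, 20]

/-- stage 3: from the identity, `z` and the `r_i` -/
def fprog3 : List (ℕ × ℕ) :=
  [(2, 1), (3, 1), (4, 1), (5, 1), (3, 2), (4, 2), (5, 2), (2, 3), (4, 3), (5, 3), (2, 4), (3, 4), (5, 4), (2,
  5), (3, 5), (4, 5), (4, 10), (5, 10), (3, 11), (5, 11), (3, 12), (4, 12), (5, 14), (4, 15), (5, 22), (4, 23)]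

/-- stage 3 indices of the 32 elements of `Q` -/
def kLQ : List ℕ :=
  [0, 1, 2, 3, 4, 5, 6, 7, 8, 9, 10, 11, 12, 13, 14, 15, 16, 17, 18, 19, 20, 21, 22, 23, 24, 25, 26, 27, 28, 29,
  30, 31]

/-- stage 3 indices of the `q_j` -/
def kq : List ℕ :=
  [17, 25]

/-- stage 4: from the identity, `z`, the `r_i` and the `f_j` -/
def fprog4 : List (ℕ × ℕ) :=
  [(2, 1), (3, 1), (4, 1), (5, 1), (6, 1), (7, 1), (3, 2), (4, 2), (5, 2), (6, 2), (7, 2), (2, 3), (4, 3), (5,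
  3), (6, 3), (7, 3), (2, 4), (3, 4), (5, 4), (6, 4), (7, 4), (2, 5), (3, 5), (4, 5), (6, 5), (7, 5), (2, 6),
  (4, 6), (6, 6), (7, 6), (2, 7), (3, 7), (6, 7), (6, 8), (7, 8), (7, 9), (6, 10), (6, 12), (7, 12), (6, 13),
  (4, 14), (5, 14), (6, 14), (7, 14), (3, 15), (5, 15), (6, 15), (7, 15), (3, 16), (4, 16), (6, 16), (7, 16),
  (2, 17), (4, 17), (6, 17), (7, 17), (2, 18), (3, 18), (6, 18), (7, 19), (6, 20), (7, 20), (4, 21), (6, 21),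
  (7, 21), (2, 22), (7, 22), (2, 23), (3, 23), (6, 23), (6, 24), (6, 25), (6, 26), (7, 26), (2, 27), (7, 27),
  (3, 28), (6, 28), (7, 32), (6, 33), (7, 34), (7, 35), (6, 36), (7, 36), (3, 37), (6, 38), (6, 39), (2, 40),
  (6, 42), (7, 44), (6, 45), (7, 45), (6, 48), (7, 48), (6, 49), (7, 49), (2, 50), (7, 50), (2, 51), (3, 51),
  (6, 51), (6, 52), (6, 53), (7, 53), (2, 54), (7, 54), (3, 55), (6, 55), (7, 58), (6, 59), (7, 60), (7, 61),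
  (6, 62), (7, 62), (6, 64), (6, 65), (2, 66), (2, 68), (3, 69), (6, 76)]

/-- stage 4 indices of the 128 elements of the Sylow subgroup -/
def kLS : List ℕ :=
  [0, 1, 2, 3, 4, 5, 6, 7, 8, 9, 10, 11, 12, 13, 14, 15, 16, 17, 18, 19, 20, 21, 22, 23, 24, 25, 26, 27, 28, 29,
  30, 31, 32, 33, 34, 35, 36, 37, 38, 39, 40, 41, 42, 43, 44, 45, 46, 47, 48, 49, 50, 51, 52, 53, 54, 55, 56,
  57, 58, 59, 60, 61, 62, 63, 64, 65, 66, 67, 68, 69, 70, 71, 72, 73, 74, 75, 76, 77, 78, 79, 80, 81, 82, 83,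
  84, 85, 86, 87, 88, 89, 90, 91, 92, 93, 94, 95, 96, 97, 98, 99, 100, 101, 102, 103, 104, 105, 106, 107, 108,
  109, 110, 111, 112, 113, 114, 115, 116, 117, 118, 119, 120, 121, 122, 123, 124, 125, 126, 127]

/-- for the elements of the point stabiliser (80 rows of 24): in `Q`, or a generator of `Q` and a point where they do not commute -/
def tK8 : List (List (ℕ × ℕ)) :=
  [[(0, 0), (0, 30), (2, 1), (2, 1), (2, 1), (2, 1), (2, 1), (2, 1), (2, 1), (2, 1), (3, 1), (2, 1), (2, 1), (2, 1), (2, 1), (2, 1), (2, 1), (2, 1), (2, 1), (2, 1), (2, 1), (2, 1), (3, 1), (2, 1)],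
  [(0, 9), (0, 24), (2, 1), (2, 1), (2, 1), (2, 1), (2, 1), (2, 1), (2, 1), (2, 1), (2, 1), (3, 1), (2, 1), (2, 1), (2, 1), (2, 1), (2, 1), (2, 1), (2, 1), (2, 1), (2, 1), (2, 1), (2, 1), (3, 1)],
  [(0, 1), (0, 31), (2, 1), (2, 1), (2, 1), (2, 1), (2, 1), (2, 1), (2, 1), (2, 1), (3, 1), (2, 1), (2, 1), (2, 1), (2, 1), (2, 1), (2, 1), (2, 1), (2, 1), (2, 1), (2, 1), (2, 1), (3, 1), (2, 1)],
  [(0, 8), (0, 23), (2, 1), (2, 1), (2, 1), (2, 1), (2, 1), (2, 1), (2, 1), (2, 1), (2, 1), (3, 1), (2, 1), (2, 1), (2, 1), (2, 1), (2, 1), (2, 1), (2, 1), (2, 1), (2, 1), (2, 1), (2, 1), (3, 1)],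
  [(0, 3), (0, 25), (2, 1), (2, 1), (2, 1), (2, 1), (2, 1), (2, 1), (2, 1), (2, 1), (2, 1), (3, 1), (2, 1), (2, 1), (2, 1), (2, 1), (2, 1), (2, 1), (2, 1), (2, 1), (2, 1), (2, 1), (2, 1), (3, 1)],
  [(0, 6), (0, 28), (2, 1), (2, 1), (2, 1), (2, 1), (2, 1), (2, 1), (2, 1), (2, 1), (3, 1), (2, 1), (2, 1), (2, 1), (2, 1), (2, 1), (2, 1), (2, 1), (2, 1), (2, 1), (2, 1), (2, 1), (3, 1), (2, 1)],
  [(2, 1), (2, 1), (2, 1), (2, 1), (2, 1), (2, 1), (2, 1), (2, 1), (2, 1), (2, 1), (2, 1), (2, 1), (2, 1), (2, 1), (2, 1), (2, 1), (2, 1), (2, 1), (2, 1), (2, 1), (2, 1), (2, 1), (2, 1), (2, 1)],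
  [(2, 1), (2, 1), (2, 1), (2, 1), (3, 1), (2, 1), (2, 1), (2, 1), (2, 1), (2, 1), (2, 1), (2, 1), (2, 1), (2, 1), (2, 1), (2, 1), (3, 1), (2, 1), (2, 1), (2, 1), (3, 1), (2, 1), (2, 1), (2, 1)],
  [(3, 1), (2, 1), (2, 1), (2, 1), (2, 1), (2, 1), (2, 1), (2, 1), (2, 1), (2, 1), (3, 1), (2, 1), (2, 1), (2, 1), (2, 1), (2, 1), (2, 1), (2, 1), (2, 1), (2, 1), (2, 1), (2, 1), (4, 1), (2, 1)],
  [(0, 5), (0, 22), (2, 1), (2, 1), (2, 1), (2, 1), (2, 1), (2, 1), (2, 1), (2, 1), (2, 1), (3, 1), (2, 1), (2, 1), (2, 1), (2, 1), (2, 1), (2, 1), (2, 1), (2, 1), (2, 1), (2, 1), (2, 1), (3, 1)],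
  [(0, 21), (0, 10), (2, 1), (2, 1), (2, 1), (2, 1), (2, 1), (2, 1), (2, 1), (2, 1), (3, 1), (2, 1), (2, 1), (2, 1), (2, 1), (2, 1), (2, 1), (2, 1), (2, 1), (2, 1), (2, 1), (2, 1), (3, 1), (2, 1)],
  [(0, 15), (0, 11), (2, 1), (2, 1), (2, 1), (2, 1), (2, 1), (2, 1), (2, 1), (2, 1), (3, 1), (2, 1), (2, 1), (2, 1), (2, 1), (2, 1), (2, 1), (2, 1), (2, 1), (2, 1), (2, 1), (2, 1), (3, 1), (2, 1)],
  [(0, 19), (0, 14), (2, 1), (2, 1), (2, 1), (2, 1), (2, 1), (2, 1), (2, 1), (2, 1), (2, 1), (3, 1), (2, 1), (2, 1), (2, 1), (2, 1), (2, 1), (2, 1), (2, 1), (2, 1), (2, 1), (2, 1), (2, 1), (3, 1)],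
  [(2, 1), (2, 1), (2, 1), (2, 1), (2, 1), (2, 1), (2, 1), (2, 1), (2, 1), (2, 1), (2, 1), (2, 1), (2, 1), (2, 1), (2, 1), (2, 1), (2, 1), (2, 1), (2, 1), (2, 1), (2, 1), (2, 1), (2, 1), (2, 1)],
  [(2, 1), (2, 1), (2, 1), (2, 1), (2, 1), (3, 1), (2, 1), (2, 1), (2, 1), (2, 1), (2, 1), (2, 1), (2, 1), (2, 1), (2, 1), (2, 1), (2, 1), (3, 1), (2, 1), (2, 1), (2, 1), (3, 1), (2, 1), (2, 1)],
  [(2, 1), (3, 1), (2, 1), (2, 1), (2, 1), (2, 1), (2, 1), (2, 1), (2, 1), (2, 1), (2, 1), (3, 1), (2, 1), (2, 1), (2, 1), (2, 1), (2, 1), (2, 1), (2, 1), (2, 1), (2, 1), (2, 1), (2, 1), (3, 1)],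
  [(0, 4), (0, 26), (2, 1), (2, 1), (2, 1), (2, 1), (2, 1), (2, 1), (2, 1), (2, 1), (2, 1), (3, 1), (2, 1), (2, 1), (2, 1), (2, 1), (2, 1), (2, 1), (2, 1), (2, 1), (2, 1), (2, 1), (2, 1), (3, 1)],
  [(0, 7), (0, 27), (2, 1), (2, 1), (2, 1), (2, 1), (2, 1), (2, 1), (2, 1), (2, 1), (2, 1), (3, 1), (2, 1), (2, 1), (2, 1), (2, 1), (2, 1), (2, 1), (2, 1), (2, 1), (2, 1), (2, 1), (2, 1), (3, 1)],
  [(0, 2), (0, 29), (2, 1), (2, 1), (2, 1), (2, 1), (2, 1), (2, 1), (2, 1), (2, 1), (3, 1), (2, 1), (2, 1), (2, 1), (2, 1), (2, 1), (2, 1), (2, 1), (2, 1), (2, 1), (2, 1), (2, 1), (3, 1), (2, 1)],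
  [(2, 1), (2, 1), (2, 1), (2, 1), (2, 1), (2, 1), (2, 1), (2, 1), (2, 1), (2, 1), (2, 1), (2, 1), (2, 1), (2, 1), (2, 1), (2, 1), (2, 1), (2, 1), (2, 1), (2, 1), (2, 1), (2, 1), (2, 1), (2, 1)],
  [(2, 1), (2, 1), (2, 1), (2, 1), (3, 1), (2, 1), (2, 1), (2, 1), (2, 1), (2, 1), (2, 1), (2, 1), (2, 1), (2, 1), (2, 1), (2, 1), (3, 1), (2, 1), (2, 1), (2, 1), (3, 1), (2, 1), (2, 1), (2, 1)],
  [(3, 1), (2, 1), (2, 1), (2, 1), (2, 1), (2, 1), (2, 1), (2, 1), (2, 1), (2, 1), (3, 1), (2, 1), (2, 1), (2, 1), (2, 1), (2, 1), (2, 1), (2, 1), (2, 1), (2, 1), (2, 1), (2, 1), (4, 1), (2, 1)],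
  [(0, 18), (0, 13), (2, 1), (2, 1), (2, 1), (2, 1), (2, 1), (2, 1), (2, 1), (2, 1), (3, 1), (2, 1), (2, 1), (2, 1), (2, 1), (2, 1), (2, 1), (2, 1), (2, 1), (2, 1), (2, 1), (2, 1), (3, 1), (2, 1)],
  [(0, 16), (0, 20), (2, 1), (2, 1), (2, 1), (2, 1), (2, 1), (2, 1), (2, 1), (2, 1), (2, 1), (3, 1), (2, 1), (2, 1), (2, 1), (2, 1), (2, 1), (2, 1), (2, 1), (2, 1), (2, 1), (2, 1), (2, 1), (3, 1)],
  [(2, 1), (2, 1), (2, 1), (2, 1), (2, 1), (2, 1), (2, 1), (2, 1), (2, 1), (2, 1), (2, 1), (2, 1), (2, 1), (2, 1), (2, 1), (2, 1), (2, 1), (2, 1), (2, 1), (2, 1), (2, 1), (2, 1), (2, 1), (2, 1)],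
  [(2, 1), (2, 1), (2, 1), (2, 1), (3, 1), (2, 1), (2, 1), (2, 1), (2, 1), (2, 1), (2, 1), (2, 1), (2, 1), (2, 1), (2, 1), (2, 1), (3, 1), (2, 1), (2, 1), (2, 1), (4, 1), (2, 1), (2, 1), (2, 1)],
  [(2, 1), (3, 1), (2, 1), (2, 1), (2, 1), (2, 1), (2, 1), (2, 1), (2, 1), (2, 1), (2, 1), (3, 1), (2, 1), (2, 1), (2, 1), (2, 1), (2, 1), (2, 1), (2, 1), (2, 1), (2, 1), (2, 1), (2, 1), (4, 1)],
  [(0, 17), (0, 12), (2, 1), (2, 1), (2, 1), (2, 1), (2, 1), (2, 1), (2, 1), (2, 1), (3, 1), (2, 1), (2, 1), (2, 1), (2, 1), (2, 1), (2, 1), (2, 1), (2, 1), (2, 1), (2, 1), (2, 1), (3, 1), (2, 1)],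
  [(2, 1), (2, 1), (2, 1), (2, 1), (2, 1), (2, 1), (2, 1), (2, 1), (2, 1), (2, 1), (2, 1), (2, 1), (2, 1), (2, 1), (2, 1), (2, 1), (2, 1), (2, 1), (2, 1), (2, 1), (2, 1), (2, 1), (2, 1), (2, 1)],
  [(2, 1), (2, 1), (2, 1), (2, 1), (2, 1), (3, 1), (2, 1), (2, 1), (2, 1), (2, 1), (2, 1), (2, 1), (2, 1), (2, 1), (2, 1), (2, 1), (2, 1), (3, 1), (2, 1), (2, 1), (2, 1), (4, 1), (2, 1), (2, 1)],
  [(2, 1), (3, 1), (2, 1), (2, 1), (2, 1), (2, 1), (2, 1), (2, 1), (2, 1), (2, 1), (2, 1), (3, 1), (2, 1), (2, 1), (2, 1), (2, 1), (2, 1), (2, 1), (2, 1), (2, 1), (2, 1), (2, 1), (2, 1), (4, 1)],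
  [(2, 1), (2, 1), (2, 1), (2, 1), (2, 1), (2, 1), (2, 1), (2, 1), (2, 1), (2, 1), (2, 1), (2, 1), (2, 1), (2, 1), (2, 1), (2, 1), (2, 1), (2, 1), (2, 1), (2, 1), (2, 1), (2, 1), (2, 1), (2, 1)],
  [(2, 1), (2, 1), (2, 1), (2, 1), (2, 1), (3, 1), (2, 1), (2, 1), (2, 1), (2, 1), (2, 1), (2, 1), (2, 1), (2, 1), (2, 1), (2, 1), (2, 1), (3, 1), (2, 1), (2, 1), (2, 1), (3, 1), (2, 1), (2, 1)],
  [(3, 1), (2, 1), (2, 1), (2, 1), (2, 1), (2, 1), (2, 1), (2, 1), (2, 1), (2, 1), (3, 1), (2, 1), (2, 1), (2, 1), (2, 1), (2, 1), (2, 1), (2, 1), (2, 1), (2, 1), (2, 1), (2, 1), (3, 1), (2, 1)],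
  [(2, 1), (2, 1), (2, 1), (3, 1), (2, 1), (2, 1), (2, 1), (2, 1), (2, 1), (2, 1), (2, 1), (2, 1), (2, 1), (3, 1), (2, 1), (2, 1), (2, 1), (2, 1), (2, 1), (4, 1), (2, 1), (2, 1), (2, 1), (2, 1)],
  [(2, 1), (2, 1), (2, 1), (2, 1), (2, 1), (2, 1), (2, 1), (2, 1), (2, 1), (2, 1), (2, 1), (2, 1), (2, 1), (2, 1), (2, 1), (2, 1), (2, 1), (2, 1), (2, 1), (2, 1), (2, 1), (2, 1), (2, 1), (2, 1)],
  [(2, 1), (2, 1), (2, 1), (2, 1), (2, 1), (3, 1), (2, 1), (2, 1), (2, 1), (2, 1), (2, 1), (2, 1), (2, 1), (2, 1), (2, 1), (2, 1), (2, 1), (3, 1), (2, 1), (2, 1), (2, 1), (3, 1), (2, 1), (2, 1)],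
  [(2, 1), (2, 1), (2, 1), (2, 1), (3, 1), (2, 1), (2, 1), (2, 1), (2, 1), (2, 1), (2, 1), (2, 1), (2, 1), (2, 1), (2, 1), (2, 1), (3, 1), (2, 1), (2, 1), (2, 1), (4, 1), (2, 1), (2, 1), (2, 1)],
  [(2, 1), (2, 1), (2, 1), (2, 1), (3, 1), (2, 1), (2, 1), (2, 1), (2, 1), (2, 1), (2, 1), (2, 1), (2, 1), (2, 1), (2, 1), (2, 1), (3, 1), (2, 1), (2, 1), (2, 1), (3, 1), (2, 1), (2, 1), (2, 1)],
  [(2, 1), (2, 1), (2, 1), (2, 1), (2, 1), (2, 1), (2, 1), (2, 1), (2, 1), (2, 1), (2, 1), (2, 1), (2, 1), (2, 1), (2, 1), (2, 1), (2, 1), (2, 1), (2, 1), (2, 1), (2, 1), (2, 1), (2, 1), (2, 1)],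
  [(2, 1), (2, 1), (2, 1), (2, 1), (2, 1), (3, 1), (2, 1), (2, 1), (2, 1), (2, 1), (2, 1), (2, 1), (2, 1), (2, 1), (2, 1), (2, 1), (2, 1), (3, 1), (2, 1), (2, 1), (2, 1), (3, 1), (2, 1), (2, 1)],
  [(2, 1), (3, 1), (2, 1), (2, 1), (2, 1), (2, 1), (2, 1), (2, 1), (2, 1), (2, 1), (2, 1), (3, 1), (2, 1), (2, 1), (2, 1), (2, 1), (2, 1), (2, 1), (2, 1), (2, 1), (2, 1), (2, 1), (2, 1), (3, 1)],
  [(2, 1), (2, 1), (2, 1), (2, 1), (2, 1), (3, 1), (2, 1), (2, 1), (2, 1), (2, 1), (2, 1), (2, 1), (2, 1), (2, 1), (2, 1), (2, 1), (2, 1), (3, 1), (2, 1), (2, 1), (2, 1), (4, 1), (2, 1), (2, 1)],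
  [(3, 1), (2, 1), (2, 1), (2, 1), (2, 1), (2, 1), (2, 1), (2, 1), (2, 1), (2, 1), (3, 1), (2, 1), (2, 1), (2, 1), (2, 1), (2, 1), (2, 1), (2, 1), (2, 1), (2, 1), (2, 1), (2, 1), (3, 1), (2, 1)],
  [(2, 1), (2, 1), (2, 1), (2, 1), (2, 1), (2, 1), (2, 1), (2, 1), (2, 1), (2, 1), (2, 1), (2, 1), (2, 1), (2, 1), (2, 1), (2, 1), (2, 1), (2, 1), (2, 1), (2, 1), (2, 1), (2, 1), (2, 1), (2, 1)],
  [(2, 1), (2, 1), (2, 1), (2, 1), (3, 1), (2, 1), (2, 1), (2, 1), (2, 1), (2, 1), (2, 1), (2, 1), (2, 1), (2, 1), (2, 1), (2, 1), (3, 1), (2, 1), (2, 1), (2, 1), (4, 1), (2, 1), (2, 1), (2, 1)],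
  [(3, 1), (2, 1), (2, 1), (2, 1), (2, 1), (2, 1), (2, 1), (2, 1), (2, 1), (2, 1), (3, 1), (2, 1), (2, 1), (2, 1), (2, 1), (2, 1), (2, 1), (2, 1), (2, 1), (2, 1), (2, 1), (2, 1), (3, 1), (2, 1)],
  [(2, 1), (2, 1), (2, 1), (2, 1), (2, 1), (2, 1), (2, 1), (2, 1), (2, 1), (2, 1), (2, 1), (2, 1), (2, 1), (2, 1), (2, 1), (2, 1), (2, 1), (2, 1), (2, 1), (2, 1), (2, 1), (2, 1), (2, 1), (2, 1)],
  [(2, 1), (2, 1), (2, 1), (2, 1), (3, 1), (2, 1), (2, 1), (2, 1), (2, 1), (2, 1), (2, 1), (2, 1), (2, 1), (2, 1), (2, 1), (2, 1), (3, 1), (2, 1), (2, 1), (2, 1), (3, 1), (2, 1), (2, 1), (2, 1)],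
  [(2, 1), (3, 1), (2, 1), (2, 1), (2, 1), (2, 1), (2, 1), (2, 1), (2, 1), (2, 1), (2, 1), (3, 1), (2, 1), (2, 1), (2, 1), (2, 1), (2, 1), (2, 1), (2, 1), (2, 1), (2, 1), (2, 1), (2, 1), (4, 1)],
  [(2, 1), (2, 1), (2, 1), (2, 1), (3, 1), (2, 1), (2, 1), (2, 1), (2, 1), (2, 1), (2, 1), (2, 1), (2, 1), (2, 1), (2, 1), (2, 1), (3, 1), (2, 1), (2, 1), (2, 1), (3, 1), (2, 1), (2, 1), (2, 1)],
  [(2, 1), (2, 1), (2, 1), (2, 1), (2, 1), (3, 1), (2, 1), (2, 1), (2, 1), (2, 1), (2, 1), (2, 1), (2, 1), (2, 1), (2, 1), (2, 1), (2, 1), (3, 1), (2, 1), (2, 1), (2, 1), (4, 1), (2, 1), (2, 1)],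
  [(2, 1), (2, 1), (2, 1), (2, 1), (2, 1), (3, 1), (2, 1), (2, 1), (2, 1), (2, 1), (2, 1), (2, 1), (2, 1), (2, 1), (2, 1), (2, 1), (2, 1), (3, 1), (2, 1), (2, 1), (2, 1), (3, 1), (2, 1), (2, 1)],
  [(2, 1), (2, 1), (2, 1), (2, 1), (2, 1), (2, 1), (2, 1), (2, 1), (2, 1), (2, 1), (2, 1), (2, 1), (2, 1), (2, 1), (2, 1), (2, 1), (2, 1), (2, 1), (2, 1), (2, 1), (2, 1), (2, 1), (2, 1), (2, 1)],
  [(2, 1), (2, 1), (2, 1), (2, 1), (2, 1), (2, 1), (2, 1), (2, 1), (2, 1), (2, 1), (2, 1), (2, 1), (2, 1), (2, 1), (2, 1), (2, 1), (2, 1), (2, 1), (2, 1), (2, 1), (2, 1), (2, 1), (2, 1), (2, 1)],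
  [(2, 1), (3, 1), (2, 1), (2, 1), (2, 1), (2, 1), (2, 1), (2, 1), (2, 1), (2, 1), (2, 1), (3, 1), (2, 1), (2, 1), (2, 1), (2, 1), (2, 1), (2, 1), (2, 1), (2, 1), (2, 1), (2, 1), (2, 1), (4, 1)],
  [(2, 1), (2, 1), (2, 1), (2, 1), (2, 1), (2, 1), (2, 1), (2, 1), (2, 1), (2, 1), (2, 1), (2, 1), (2, 1), (2, 1), (2, 1), (2, 1), (2, 1), (2, 1), (2, 1), (2, 1), (2, 1), (2, 1), (2, 1), (2, 1)],
  [(2, 1), (2, 1), (2, 1), (2, 1), (2, 1), (3, 1), (2, 1), (2, 1), (2, 1), (2, 1), (2, 1), (2, 1), (2, 1), (2, 1), (2, 1), (2, 1), (2, 1), (3, 1), (2, 1), (2, 1), (2, 1), (4, 1), (2, 1), (2, 1)],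
  [(2, 1), (2, 1), (2, 1), (2, 1), (2, 1), (2, 1), (2, 1), (2, 1), (2, 1), (2, 1), (2, 1), (2, 1), (2, 1), (2, 1), (2, 1), (2, 1), (2, 1), (2, 1), (2, 1), (2, 1), (2, 1), (2, 1), (2, 1), (2, 1)],
  [(3, 1), (2, 1), (2, 1), (2, 1), (2, 1), (2, 1), (2, 1), (2, 1), (2, 1), (2, 1), (3, 1), (2, 1), (2, 1), (2, 1), (2, 1), (2, 1), (2, 1), (2, 1), (2, 1), (2, 1), (2, 1), (2, 1), (3, 1), (2, 1)],
  [(2, 1), (2, 1), (2, 1), (2, 1), (3, 1), (2, 1), (2, 1), (2, 1), (2, 1), (2, 1), (2, 1), (2, 1), (2, 1), (2, 1), (2, 1), (2, 1), (3, 1), (2, 1), (2, 1), (2, 1), (3, 1), (2, 1), (2, 1), (2, 1)],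
  [(3, 1), (2, 1), (2, 1), (2, 1), (2, 1), (2, 1), (2, 1), (2, 1), (2, 1), (2, 1), (3, 1), (2, 1), (2, 1), (2, 1), (2, 1), (2, 1), (2, 1), (2, 1), (2, 1), (2, 1), (2, 1), (2, 1), (3, 1), (2, 1)],
  [(2, 1), (2, 1), (2, 1), (2, 1), (2, 1), (2, 1), (2, 1), (2, 1), (2, 1), (2, 1), (2, 1), (2, 1), (2, 1), (2, 1), (2, 1), (2, 1), (2, 1), (2, 1), (2, 1), (2, 1), (2, 1), (2, 1), (2, 1), (2, 1)],
  [(2, 1), (2, 1), (2, 1), (2, 1), (2, 1), (3, 1), (2, 1), (2, 1), (2, 1), (2, 1), (2, 1), (2, 1), (2, 1), (2, 1), (2, 1), (2, 1), (2, 1), (3, 1), (2, 1), (2, 1), (2, 1), (4, 1), (2, 1), (2, 1)],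
  [(2, 1), (3, 1), (2, 1), (2, 1), (2, 1), (2, 1), (2, 1), (2, 1), (2, 1), (2, 1), (2, 1), (3, 1), (2, 1), (2, 1), (2, 1), (2, 1), (2, 1), (2, 1), (2, 1), (2, 1), (2, 1), (2, 1), (2, 1), (3, 1)],
  [(2, 1), (2, 1), (3, 1), (2, 1), (2, 1), (2, 1), (2, 1), (2, 1), (2, 1), (2, 1), (2, 1), (2, 1), (3, 1), (2, 1), (2, 1), (2, 1), (2, 1), (2, 1), (4, 1), (2, 1), (2, 1), (2, 1), (2, 1), (2, 1)],
  [(2, 1), (2, 1), (2, 1), (2, 1), (3, 1), (2, 1), (2, 1), (2, 1), (2, 1), (2, 1), (2, 1), (2, 1), (2, 1), (2, 1), (2, 1), (2, 1), (3, 1), (2, 1), (2, 1), (2, 1), (3, 1), (2, 1), (2, 1), (2, 1)],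
  [(2, 1), (2, 1), (2, 1), (2, 1), (2, 1), (2, 1), (2, 1), (2, 1), (2, 1), (2, 1), (2, 1), (2, 1), (2, 1), (2, 1), (2, 1), (2, 1), (2, 1), (2, 1), (2, 1), (2, 1), (2, 1), (2, 1), (2, 1), (2, 1)],
  [(2, 1), (2, 1), (2, 1), (2, 1), (2, 1), (3, 1), (2, 1), (2, 1), (2, 1), (2, 1), (2, 1), (2, 1), (2, 1), (2, 1), (2, 1), (2, 1), (2, 1), (3, 1), (2, 1), (2, 1), (2, 1), (3, 1), (2, 1), (2, 1)],
  [(2, 1), (2, 1), (2, 1), (2, 1), (2, 1), (3, 1), (2, 1), (2, 1), (2, 1), (2, 1), (2, 1), (2, 1), (2, 1), (2, 1), (2, 1), (2, 1), (2, 1), (3, 1), (2, 1), (2, 1), (2, 1), (3, 1), (2, 1), (2, 1)],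
  [(2, 1), (2, 1), (2, 1), (2, 1), (2, 1), (3, 1), (2, 1), (2, 1), (2, 1), (2, 1), (2, 1), (2, 1), (2, 1), (2, 1), (2, 1), (2, 1), (2, 1), (3, 1), (2, 1), (2, 1), (2, 1), (3, 1), (2, 1), (2, 1)],
  [(2, 1), (2, 1), (2, 1), (2, 1), (3, 1), (2, 1), (2, 1), (2, 1), (2, 1), (2, 1), (2, 1), (2, 1), (2, 1), (2, 1), (2, 1), (2, 1), (3, 1), (2, 1), (2, 1), (2, 1), (3, 1), (2, 1), (2, 1), (2, 1)],
  [(2, 1), (2, 1), (2, 1), (2, 1), (2, 1), (3, 1), (2, 1), (2, 1), (2, 1), (2, 1), (2, 1), (2, 1), (2, 1), (2, 1), (2, 1), (2, 1), (2, 1), (3, 1), (2, 1), (2, 1), (2, 1), (3, 1), (2, 1), (2, 1)],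
  [(2, 1), (3, 1), (2, 1), (2, 1), (2, 1), (2, 1), (2, 1), (2, 1), (2, 1), (2, 1), (2, 1), (3, 1), (2, 1), (2, 1), (2, 1), (2, 1), (2, 1), (2, 1), (2, 1), (2, 1), (2, 1), (2, 1), (2, 1), (3, 1)],
  [(2, 1), (2, 1), (3, 1), (2, 1), (2, 1), (2, 1), (2, 1), (2, 1), (2, 1), (2, 1), (2, 1), (2, 1), (3, 1), (2, 1), (2, 1), (2, 1), (2, 1), (2, 1), (3, 1), (2, 1), (2, 1), (2, 1), (2, 1), (2, 1)],
  [(2, 1), (2, 1), (2, 1), (2, 1), (2, 1), (3, 1), (2, 1), (2, 1), (2, 1), (2, 1), (2, 1), (2, 1), (2, 1), (2, 1), (2, 1), (2, 1), (2, 1), (3, 1), (2, 1), (2, 1), (2, 1), (3, 1), (2, 1), (2, 1)],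
  [(2, 1), (2, 1), (2, 1), (2, 1), (3, 1), (2, 1), (2, 1), (2, 1), (2, 1), (2, 1), (2, 1), (2, 1), (2, 1), (2, 1), (2, 1), (2, 1), (3, 1), (2, 1), (2, 1), (2, 1), (3, 1), (2, 1), (2, 1), (2, 1)],
  [(2, 1), (2, 1), (2, 1), (2, 1), (3, 1), (2, 1), (2, 1), (2, 1), (2, 1), (2, 1), (2, 1), (2, 1), (2, 1), (2, 1), (2, 1), (2, 1), (3, 1), (2, 1), (2, 1), (2, 1), (3, 1), (2, 1), (2, 1), (2, 1)],
  [(2, 1), (2, 1), (2, 1), (2, 1), (2, 1), (3, 1), (2, 1), (2, 1), (2, 1), (2, 1), (2, 1), (2, 1), (2, 1), (2, 1), (2, 1), (2, 1), (2, 1), (3, 1), (2, 1), (2, 1), (2, 1), (3, 1), (2, 1), (2, 1)],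
  [(2, 1), (2, 1), (2, 1), (2, 1), (2, 1), (3, 1), (2, 1), (2, 1), (2, 1), (2, 1), (2, 1), (2, 1), (2, 1), (2, 1), (2, 1), (2, 1), (2, 1), (3, 1), (2, 1), (2, 1), (2, 1), (3, 1), (2, 1), (2, 1)]]

/-- for the elements of the Sylow subgroup: `1` or `z`, or a generator and a point where they do not commute -/
def tK9 : List (ℕ × ℕ) :=
  [(0, 0), (0, 0), (3, 1), (2, 1), (2, 1), (2, 1), (2, 1), (2, 1), (3, 1), (2, 1), (2, 1), (2, 1), (2, 1), (2,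
  1), (2, 1), (2, 1), (2, 1), (2, 1), (2, 1), (2, 1), (3, 1), (3, 1), (2, 1), (2, 1), (2, 1), (3, 1), (4, 1),
  (2, 1), (2, 1), (2, 1), (3, 1), (4, 1), (2, 1), (2, 1), (2, 1), (2, 1), (2, 1), (2, 1), (2, 1), (2, 1), (2,
  1), (2, 1), (2, 1), (2, 1), (2, 1), (2, 1), (2, 1), (2, 1), (5, 1), (4, 1), (2, 1), (2, 1), (5, 1), (3, 1),
  (2, 1), (2, 1), (4, 1), (3, 1), (2, 1), (2, 1), (2, 1), (2, 1), (2, 1), (2, 1), (2, 1), (2, 1), (2, 1), (2,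
  1), (2, 1), (2, 1), (2, 1), (2, 1), (2, 1), (2, 1), (2, 1), (2, 1), (2, 1), (2, 1), (2, 1), (2, 1), (2, 1),
  (2, 1), (2, 1), (2, 1), (2, 1), (2, 1), (2, 1), (2, 1), (2, 1), (2, 1), (2, 1), (2, 1), (2, 1), (2, 1), (2,
  1), (2, 1), (2, 1), (2, 1), (2, 1), (2, 1), (2, 1), (2, 1), (2, 1), (2, 1), (2, 1), (2, 1), (2, 1), (2, 1),
  (2, 1), (2, 1), (2, 1), (2, 1), (2, 1), (2, 1), (2, 1), (2, 1), (2, 1), (2, 1), (2, 1), (2, 1), (2, 1), (2,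
  1), (2, 1), (2, 1), (2, 1), (2, 1), (2, 1), (2, 1)]

end Cfsg.Agent.Lib.Helper5.J2Fus
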