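import Mathlib
import Cfsg.Agent.Lib.Helper5.J2FusB
import Cfsg.Agent.Lib.Helper5.J2FusData

/-!
# Kernel check for the 2-fusion system of `PJ2`

The four straight-line programs are evaluated once, and all the checks are run on the resulting packed permutations.
-/

set_option autoImplicit false

namespace Cfsg.Agent.Lib.Helper5.J2Fus

open Cfsg.Agent.J2 Cfsg.Agent.Lib.Helper5.J2Spec

/-- `A[i] * W[i] = W[i] * b` for `i < n` -/
def conjZChk (A W : List ℕ) (b n : ℕ) : Bool :=
  (List.range n).all fun i => keyL [A.getD i idP, W.getD i idP] == keyL [W.getD i idP, b]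

/-- all the checks -/
def allChk (Hs Wr Wf U1 U2 U3 U4 : List ℕ) (z : ℕ) (Rs Fs LQ Qs LS KQ KS : List ℕ) : Bool :=
  decide (ChainProp U1 U2 U3 U4) && hsChk Hs (z :: Rs) KQ && enumChk (z :: Rs) LQ KQ &&
    enumChk (z :: (Rs ++ Fs)) LS KS && decide (KS.Nodup) && decide (LS.length = 128) &&
    fixChk (z :: Rs) (z :: (Rs ++ Fs)) && k8Chk U1 U2 U3 U4 (z :: Rs) KQ tK8 &&
    k9Chk LS (z :: (Rs ++ Fs)) z tK9 && conjZChk Rs Wr z 4 && decide (Rs.length = 4) &&
    conjChk Fs Wf Qs 2 && decide (Fs.length = 2)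

/-- all the checks, from scratch -/
def fusChk : Bool :=
  forceList (slpR initR 5 fprog1) fun E1 =>
  forceList (slpR (initOf (pk E1 139 ih)) 9 fprog2) fun E2 =>
  forceList (slpR (initOf (E2.getD (141 - 1 - jz) idP :: pk E2 141 jr)) 6 fprog3) fun E3 =>
  forceList (slpR (initOf (E2.getD (141 - 1 - jz) idP :: (pk E2 141 jr ++ pk E2 141 jf))) 8 fprog4) fun E4 =>
  forceList (pk E2 141 jU1) fun U1 => forceList (pk E2 141 jU2) fun U2 =>
  forceList (pk E2 141 jU3) fun U3 => forceList (pk E2 141 jU4) fun U4 =>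
  forceList (pk E3 32 kLQ) fun LQ => forceList (pk E4 128 kLS) fun LS =>
  forceList (keys LQ) fun KQ => forceList (keys LS) fun KS =>
    allChk (pk E1 139 ih) (pk E1 139 irc) (pk E1 139 ifc) U1 U2 U3 U4 (E2.getD (141 - 1 - jz) idP)
      (pk E2 141 jr) (pk E2 141 jf) LQ (pk E3 32 kq) LS KQ KS

set_option maxRecDepth 1000000 in
theorem fusChk_ok : fusChk = true := by decide +kernel

end Cfsg.Agent.Lib.Helper5.J2Fus
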