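import Mathlib
import Cfsg.Agent.Lib.Lead.J2.Bridge
import Cfsg.Agent.Lib.Helper5.J2Cent
import Cfsg.Agent.Lib.Helper5.S8Spec.Main

/-!
# `J₂ ≃* PJ2`

The kernel of the action `phi` of `2·J₂` on the 315 lines of minimal vectors is the centre, so `J₂` is isomorphic
to the permutation group `PJ2`; transfer of the order, of simplicity and of the set of element orders.
-/

set_option autoImplicit false

namespace Cfsg.Agent.Lib.Helper5.J2Iso

open Quaternion Cfsg.Spor Cfsg.Agent.J2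
open Cfsg.Agent.Lib.Helper5.J2Refl
open Cfsg.Agent.Lib.Helper6.SS (toPerm toPerm_apply Valid)

theorem ker_phi : phi.ker = Subgroup.center twoJ2 := by
  ext g
  rw [MonoidHom.mem_ker]
  constructor
  · intro hg
    have hl := isLin_of_mem g.2
    have key : ∀ r : icoLeech, qip (r : Fin 3 → ℍ[ℝ]) r = 4 →
        ∃ c : ℍ[ℝ], ((g : Equiv.Perm icoLeech) r : Fin 3 → ℍ[ℝ]) = lsm c r := by
      intro r h4
      obtain ⟨i, hi⟩ := exists_onLine (r := r) h4
      have h1 : OnLine ((g : Equiv.Perm icoLeech) r) i := by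
        have := onLine_of_isLin hl hi (onLine_act g.1 hl i)
        rw [← phi_apply, hg, Equiv.Perm.one_apply] at this
        exact this
      obtain ⟨u, hu, e⟩ := hi
      obtain ⟨u', hu', e'⟩ := h1
      refine ⟨Ico.emb u' * star (Ico.emb u), ?_⟩
      rw [e', e, lsm_lsm, mul_assoc, (isUnitI_of_mem hu).star_mul, mul_one]
    rcases eq_one_or_neg_of_fix hl key with h | h
    · have : g = 1 := Subtype.ext h
      rw [this]; exact Subgroup.one_mem _
    · have : g = ⟨negPerm, negPerm_mem⟩ := Subtype.ext h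
      rw [this]; exact negPerm_central
  · intro hz
    apply Equiv.ext
    intro j
    rw [Equiv.Perm.one_apply]
    have h1 := conj_lineReflG g j
    have h2 : g * lineReflG j * g⁻¹ = lineReflG j := by
      rw [← (Subgroup.mem_center_iff.1 hz) (lineReflG j), mul_assoc, mul_inv_cancel, mul_one]
    rw [h2] at h1
    have h3 : lineRefl j = lineRefl (phi g j) := congrArg (fun w : twoJ2 => (w : Equiv.Perm icoLeech)) h1
    exact (lineRefl_injective h3).symm

/-- **the Hall–Janko group as a permutation group on 315 points** -/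
noncomputable def isoPJ2 : J2 ≃* PJ2 :=
  (QuotientGroup.quotientMulEquivOfEq ker_phi.symm).trans
    ((QuotientGroup.quotientKerEquivRange phi).trans (MulEquiv.subgroupCongr phi_range))

theorem isoPJ2_mk (g : twoJ2) : (isoPJ2 (QuotientGroup.mk g) : Equiv.Perm (Fin 315)) = phi g := rfl

theorem card_J2_eq : Nat.card J2 = Nat.card PJ2 := Nat.card_congr isoPJ2.toEquiv

theorem card_twoJ2 (h : Nat.card PJ2 = 604800) : Nat.card twoJ2 = 1209600 := by
  have h1 := Subgroup.card_eq_card_quotient_mul_card_subgroup (Subgroup.center ↥Cfsg.Spor.twoJ2)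
  rw [card_center_twoJ2] at h1
  have h2 : Nat.card (↥twoJ2 ⧸ Subgroup.center ↥twoJ2) = 604800 := by
    rw [← h]; exact card_J2_eq
  rw [h2] at h1
  exact h1

/-- S1619 from the order of `PJ2` -/
theorem S1619_of (h : Nat.card PJ2 = 604800) :
    Nat.card ↥Cfsg.Spor.twoJ2 = 1209600 ∧ Nat.card ↥(Subgroup.center ↥Cfsg.Spor.twoJ2) = 2 ∧
    (∃ z ∈ Subgroup.center ↥Cfsg.Spor.twoJ2, ∀ x : ↥Cfsg.Spor.icoLeech,
      (((z : Equiv.Perm ↥Cfsg.Spor.icoLeech) x : ↥Cfsg.Spor.icoLeech) : Fin 3 → ℍ[ℝ]) = -(x : Fin 3 → ℍ[ℝ])) ∧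
    Nat.card Cfsg.Spor.J2 = 604800 :=
  S1619_of_card (card_twoJ2 h)

theorem g24_g77_not_comm : toPerm 315 g24 * toPerm 315 g77 ≠ toPerm 315 g77 * toPerm 315 g24 := by
  intro h
  have h0 := congrArg (fun σ : Equiv.Perm (Fin 315) => ((σ 0 : Fin 315) : ℕ)) h
  simp only [Equiv.Perm.mul_apply] at h0
  rw [toPerm_apply valid_g24, toPerm_apply valid_g77, toPerm_apply valid_g77, toPerm_apply valid_g24] at h0
  revert h0
  decide

/-- S1620 from the simplicity of `PJ2` -/
theorem S1620_of (h : IsSimpleGroup PJ2) :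
    IsSimpleGroup Cfsg.Spor.J2 ∧ ∃ a b : Cfsg.Spor.J2, a * b ≠ b * a := by
  refine ⟨isoPJ2.isSimpleGroup, ?_⟩
  have m24 : toPerm 315 g24 ∈ PJ2 := Subgroup.subset_closure (by simp)
  have m77 : toPerm 315 g77 ∈ PJ2 := Subgroup.subset_closure (by simp)
  refine ⟨isoPJ2.symm ⟨_, m24⟩, isoPJ2.symm ⟨_, m77⟩, ?_⟩
  intro hc
  rw [← map_mul, ← map_mul] at hc
  have := isoPJ2.symm.injective hc
  exact g24_g77_not_comm (congrArg Subtype.val this)

theorem range_orderOf_congr {G H : Type*} [Group G] [Group H] (e : G ≃* H) :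
    Set.range (orderOf : G → ℕ) = Set.range (orderOf : H → ℕ) := by
  ext n
  constructor
  · rintro ⟨x, rfl⟩; exact ⟨e x, e.orderOf_eq x⟩
  · rintro ⟨y, rfl⟩; exact ⟨e.symm y, e.symm.orderOf_eq y⟩

/-- S3485 from the spectrum of `PJ2` -/
theorem S3485_of (h : Set.range (orderOf : PJ2 → ℕ) = {1, 2, 3, 4, 5, 6, 7, 8, 10, 12, 15}) :
    Set.range (orderOf : Equiv.Perm (Fin 8) → ℕ) = Set.range (orderOf : Cfsg.Spor.J2 → ℕ) := by
  rw [range_orderOf_congr isoPJ2, h]
  exact Cfsg.Agent.Lib.Helper5.S8Spec.spec_S8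

/-- S3486 from the spectrum of `PJ2` -/
theorem S3486_of (h : Set.range (orderOf : PJ2 → ℕ) = {1, 2, 3, 4, 5, 6, 7, 8, 10, 12, 15}) (N : ℕ) :
    ∃ (H : Type) (_ : Group H) (_ : Fintype H), N < Fintype.card H ∧
      Set.range (orderOf : H → ℕ) = Set.range (orderOf : Cfsg.Spor.J2 → ℕ) := by
  obtain ⟨H, i1, i2, hN, hs⟩ := Cfsg.Agent.Lib.Helper5.S8Spec.exists_big N
  refine ⟨H, i1, i2, hN, ?_⟩
  rw [range_orderOf_congr isoPJ2, h]
  exact hs

end Cfsg.Agent.Lib.Helper5.J2Iso
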