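import Mathlib
import Cfsg.Agent.Lib.Helper5.J2FusChk
import Cfsg.Agent.Lib.Helper5.J2FusC
import Cfsg.Agent.Lib.Helper5.J2Iso
import Cfsg.Agent.Lib.Helper7.J2Perm

/-!
# The 2-fusion system of the Hall–Janko group is simple

In `PJ2` (the Hall–Janko group on 315 points): `H = cl Hsc` is the stabiliser of the point `0` (of order 1920, generated
by eight involutions), `Q = cl gQc` its normal subgroup of order 32 (generated by `z` and four conjugates `r_i` of `z`),
`S = cl gSc` a Sylow 2-subgroup of order 128 (generated by `Q` and two elements `f_j` conjugate to elements of `Q`).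
The point `0` is the only point fixed by `Q`, so that the normaliser of `S` and the centraliser of `Q` are in `H`;
`Q` contains its centraliser (table `tK8`), so that it is centric, and `H` is generated by involutions normalising `Q`.
The centre of `S` is `{1, z}` (table `tK9`), so that a nontrivial strongly closed subgroup of `S` contains `z`, then
the `r_i`, then `Q`, then the `f_j`. This gives the certificate `Cert2` of helper9.
-/

set_option autoImplicit false

namespace Cfsg.Agent.Lib.Helper5.J2Fus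

open Cfsg.Agent.J2 Cfsg.Agent.Lib.Helper5.J2Spec Cfsg.Agent.H9.GfsSimple3
open Cfsg.Agent.Lib.Helper7.J2Perm (card_PJ2)

def E1c : List ℕ := slpR initR 5 fprog1
def Hsc : List ℕ := pk E1c 139 ih
def Wrc : List ℕ := pk E1c 139 irc
def Wfc : List ℕ := pk E1c 139 ifc
def E2c : List ℕ := slpR (initOf Hsc) 9 fprog2
def V1c : List ℕ := pk E2c 141 jU1
def V2c : List ℕ := pk E2c 141 jU2
def V3c : List ℕ := pk E2c 141 jU3
def V4c : List ℕ := pk E2c 141 jU4
def zc : ℕ := E2c.getD (141 - 1 - jz) idP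
def Rsc : List ℕ := pk E2c 141 jr
def Fsc : List ℕ := pk E2c 141 jf
def gQc : List ℕ := zc :: Rsc
def gSc : List ℕ := zc :: (Rsc ++ Fsc)
def E3c : List ℕ := slpR (initOf gQc) 6 fprog3
def LQc : List ℕ := pk E3c 32 kLQ
def Qsc : List ℕ := pk E3c 32 kq
def E4c : List ℕ := slpR (initOf gSc) 8 fprog4
def LSc : List ℕ := pk E4c 128 kLS

theorem allChk_ok :
    allChk Hsc Wrc Wfc V1c V2c V3c V4c zc Rsc Fsc LQc Qsc LSc (keys LQc) (keys LSc) = true := by
  have h := fusChk_ok
  unfold fusChk at h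
  simp only [forceList_eq] at h
  exact h

theorem chk_parts : ChainProp V1c V2c V3c V4c ∧ hsChk Hsc gQc (keys LQc) = true ∧
    enumChk gQc LQc (keys LQc) = true ∧ enumChk gSc LSc (keys LSc) = true ∧ (keys LSc).Nodup ∧
    LSc.length = 128 ∧ fixChk gQc gSc = true ∧ k8Chk V1c V2c V3c V4c gQc (keys LQc) tK8 = true ∧
    k9Chk LSc gSc zc tK9 = true ∧ conjZChk Rsc Wrc zc 4 = true ∧ Rsc.length = 4 ∧
    conjChk Fsc Wfc Qsc 2 = true ∧ Fsc.length = 2 := by
  have h := allChk_ok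
  unfold allChk at h
  simp only [Bool.and_eq_true, decide_eq_true_eq] at h
  obtain ⟨⟨⟨⟨⟨⟨⟨⟨⟨⟨⟨⟨c1, c2⟩, c3⟩, c4⟩, c5⟩, c6⟩, c7⟩, c8⟩, c9⟩, c10⟩, c11⟩, c12⟩, c13⟩ := h
  exact ⟨c1, c2, c3, c4, c5, c6, c7, c8, c9, c10, c11, c12, c13⟩

/-! ### the packed permutations represent elements of the right subgroups -/

theorem good_pk {E : List ℕ} (h : ∀ P ∈ E, Good P) (n : ℕ) (idx : List ℕ) : ∀ P ∈ pk E n idx, Good P := by
  intro P hP
  unfold pk at hP
  rw [List.mem_map] at hP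
  obtain ⟨k, _, rfl⟩ := hP
  exact good_getD h _

theorem good_E1 : ∀ P ∈ E1c, Good P := good_slpR fprog1 initR 5 good_initR
theorem good_Hs : ∀ P ∈ Hsc, Good P := good_pk good_E1 _ _
theorem good_Wr : ∀ P ∈ Wrc, Good P := good_pk good_E1 _ _
theorem good_Wf : ∀ P ∈ Wfc, Good P := good_pk good_E1 _ _
theorem gin_E2 : ∀ P ∈ E2c, GoodIn (cl Hsc) P := goodIn_slpR fprog2 (initOf Hsc) 9 (goodIn_initOf good_Hs)
theorem gin_V1 : ∀ P ∈ V1c, GoodIn (cl Hsc) P := goodIn_pk gin_E2 _ _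
theorem gin_V2 : ∀ P ∈ V2c, GoodIn (cl Hsc) P := goodIn_pk gin_E2 _ _
theorem gin_V3 : ∀ P ∈ V3c, GoodIn (cl Hsc) P := goodIn_pk gin_E2 _ _
theorem gin_V4 : ∀ P ∈ V4c, GoodIn (cl Hsc) P := goodIn_pk gin_E2 _ _
theorem good_V1 : ∀ P ∈ V1c, Good P := fun P hP => (gin_V1 P hP).1
theorem good_V2 : ∀ P ∈ V2c, Good P := fun P hP => (gin_V2 P hP).1
theorem good_V3 : ∀ P ∈ V3c, Good P := fun P hP => (gin_V3 P hP).1
theorem good_V4 : ∀ P ∈ V4c, Good P := fun P hP => (gin_V4 P hP).1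
theorem good_z : Good zc := (goodIn_getD gin_E2 _).1
theorem good_Rs : ∀ P ∈ Rsc, Good P := fun P hP => (goodIn_pk gin_E2 _ _ P hP).1
theorem good_Fs : ∀ P ∈ Fsc, Good P := fun P hP => (goodIn_pk gin_E2 _ _ P hP).1

theorem mem_gQ {P : ℕ} : P ∈ gQc ↔ P = zc ∨ P ∈ Rsc := by
  unfold gQc; exact List.mem_cons

theorem mem_gS {P : ℕ} : P ∈ gSc ↔ P = zc ∨ P ∈ Rsc ∨ P ∈ Fsc := by
  unfold gSc; rw [List.mem_cons, List.mem_append]

theorem good_gQ : ∀ P ∈ gQc, Good P := by
  intro P hP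
  rcases mem_gQ.1 hP with h | h
  · rw [h]; exact good_z
  · exact good_Rs P h

theorem good_gS : ∀ P ∈ gSc, Good P := by
  intro P hP
  rcases mem_gS.1 hP with h | h | h
  · rw [h]; exact good_z
  · exact good_Rs P h
  · exact good_Fs P h

theorem gin_E3 : ∀ P ∈ E3c, GoodIn (cl gQc) P := goodIn_slpR fprog3 (initOf gQc) 6 (goodIn_initOf good_gQ)
theorem gin_LQ : ∀ P ∈ LQc, GoodIn (cl gQc) P := goodIn_pk gin_E3 _ _
theorem gin_Qs : ∀ P ∈ Qsc, GoodIn (cl gQc) P := goodIn_pk gin_E3 _ _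
theorem gin_E4 : ∀ P ∈ E4c, GoodIn (cl gSc) P := goodIn_slpR fprog4 (initOf gSc) 8 (goodIn_initOf good_gS)
theorem gin_LS : ∀ P ∈ LSc, GoodIn (cl gSc) P := goodIn_pk gin_E4 _ _
theorem good_LS : ∀ P ∈ LSc, Good P := fun P hP => (gin_LS P hP).1

/-! ### the base property and the normal form in the point stabiliser -/

theorem coe_apply_of_ev {x : ↥PJ2} {i j : ℕ} (hi : i < 315) (hj : j < 315) (h : ev x i = j) :
    (x : Equiv.Perm (Fin 315)) ⟨i, hi⟩ = ⟨j, hj⟩ := Fin.ext (by rw [← ev_of_lt x hi]; exact h)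

theorem baseProp : BaseProp := by
  intro x h0 h1 h5 h2 h10
  have key := eq_one_of_fix good_V1 good_V2 good_V3 good_V4 chk_parts.1 card_PJ2 x.2
    (coe_apply_of_ev _ _ h0) (coe_apply_of_ev _ _ h1) (coe_apply_of_ev _ _ h5) (coe_apply_of_ev _ _ h2)
    (coe_apply_of_ev _ _ h10)
  exact Subtype.ext key

theorem exists_word (x : ↥PJ2) (h0 : ev x 0 = 0) : ∃ a < 80, ∃ b < 6, ∃ c < 2, ∃ d < 2,
    x = prodL [V1c.getD a idP, V2c.getD b idP, V3c.getD c idP, V4c.getD d idP] := by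
  obtain ⟨a, ha, b, hb, c, hc, d, hd, e⟩ := exists_Phi good_V1 good_V2 good_V3 good_V4 chk_parts.1 card_PJ2
    x.2 (coe_apply_of_ev _ _ h0)
  refine ⟨a, ha, b, hb, c, hc, d, hd, Subtype.ext ?_⟩
  rw [e, prodL_cons, prodL_cons, prodL_cons, prodL_cons, prodL_nil, mul_one]
  rfl

theorem conjZ_sound {A W : List ℕ} {b n : ℕ} (hA : ∀ P ∈ A, Good P) (hW : ∀ P ∈ W, Good P)
    (hb : Good b) (h : conjZChk A W b n = true) {i : ℕ} (hi : i < n) :
    el (A.getD i idP) = el (W.getD i idP) * el b * (el (W.getD i idP))⁻¹ := by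
  unfold conjZChk at h
  rw [List.all_eq_true] at h
  have h1 := h i (List.mem_range.2 hi)
  rw [beq_iff_eq] at h1
  have := prodL_eq_of_key baseProp (good_two (good_getD hA i) (good_getD hW i))
    (good_two (good_getD hW i) hb) h1
  rw [prodL_two, prodL_two] at this
  rw [← this]
  group

/-! ### the certificate -/

theorem enumS : ∀ x ∈ cl gSc, ∃ P ∈ LSc, x = el P :=
  enum_sound baseProp good_gS good_LS chk_parts.2.2.2.1

/-- **the certificate for `PJ2`** -/
theorem cert : Cert2 2 (cl gSc) := by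
  obtain ⟨-, c2, -, -, c5, c6, c7, c8, c9, c10, c11, c12, c13⟩ := chk_parts
  apply cert_of (Hs := Hsc) (gQ := gQc) (gS := gSc) (zP := zc) card_PJ2
  · intro P hP
    rcases mem_gQ.1 hP with h | h
    · exact mem_gS.2 (Or.inl h)
    · exact mem_gS.2 (Or.inr (Or.inl h))
  · exact good_gS
  · intro x h0
    obtain ⟨a, _, b, _, c, _, d, _, e⟩ := exists_word x h0
    rw [e]
    apply prodL_mem
    intro P hP
    simp only [List.mem_cons, List.not_mem_nil, or_false] at hP
    rcases hP with rfl | rfl | rfl | rfl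
    · exact goodIn_getD gin_V1 _
    · exact goodIn_getD gin_V2 _
    · exact goodIn_getD gin_V3 _
    · exact goodIn_getD gin_V4 _
  · intro x h0
    obtain ⟨a, ha, b, hb, c, hc, d, hd, e⟩ := exists_word x h0
    rw [e]
    exact k8_sound baseProp good_V1 good_V2 good_V3 good_V4 good_gQ gin_LQ c8 ha hb hc hd
  · exact fix_sound1 c7
  · exact fix_sound2 c7
  · exact hs_sound baseProp good_Hs good_gQ gin_LQ c2
  · intro x hx
    obtain ⟨P, hP, rfl⟩ := enumS x hx
    exact k9_sound baseProp good_LS good_z good_gS c6 c9 P hP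
  · rw [card_of_enum gin_LS enumS c5, c6]
  · intro r hr
    rcases mem_gQ.1 hr with h | h
    · exact ⟨1, by rw [h]; group⟩
    · obtain ⟨i, hi, rfl⟩ := List.getElem_of_mem h
      have := conjZ_sound good_Rs good_Wr good_z c10 (i := i) (by omega)
      rw [List.getD_eq_getElem _ _ hi] at this
      exact ⟨_, this⟩
  · intro f hf
    rcases mem_gS.1 hf with h | h | h
    · exact Or.inl (mem_gQ.2 (Or.inl h))
    · exact Or.inl (mem_gQ.2 (Or.inr h))
    · right
      obtain ⟨j, hj, rfl⟩ := List.getElem_of_mem h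
      have := conj_sound baseProp good_Fs good_Wf (fun P hP => (gin_Qs P hP).1) c12 (i := j) (by omega)
      rw [List.getD_eq_getElem _ _ hj] at this
      exact ⟨_, _, (goodIn_getD gin_Qs j).2, this⟩

/-- **the 2-fusion system of a group isomorphic to `J₂` is simple** -/
theorem fusion_simple {G : Type*} [Group G] [Finite G] (hG : Cfsg.Spor.IsoJ2 G) (S : Sylow 2 G) :
    (Cfsg.groupFusionSystem (S : Subgroup G)).IsSimple 2 := by
  obtain ⟨e⟩ := hG
  have : Fact (Nat.Prime 2) := ⟨Nat.prime_two⟩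
  have hinj : Function.Injective ((e.trans Cfsg.Agent.Lib.Helper5.J2Iso.isoPJ2).symm.toMonoidHom) :=
    (e.trans Cfsg.Agent.Lib.Helper5.J2Iso.isoPJ2).symm.injective
  have hsurj : Function.Surjective ((e.trans Cfsg.Agent.Lib.Helper5.J2Iso.isoPJ2).symm.toMonoidHom) :=
    (e.trans Cfsg.Agent.Lib.Helper5.J2Iso.isoPJ2).symm.surjective
  have hker : ((e.trans Cfsg.Agent.Lib.Helper5.J2Iso.isoPJ2).symm.toMonoidHom).ker = ⊥ :=
    (MonoidHom.ker_eq_bot_iff _).2 hinj
  have hc := Cert2.map 2 ((e.trans Cfsg.Agent.Lib.Helper5.J2Iso.isoPJ2).symm.toMonoidHom) hsurj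
    (by rw [hker]; exact bot_le) (by rw [hker, Subgroup.card_bot]; exact Nat.coprime_one_left 2)
    (cl gSc) cert
  exact isSimple_of_cert2 2 _ hc S

end Cfsg.Agent.Lib.Helper5.J2Fus
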