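import Mathlib
import Cfsg.Agent.Lib.Helper5.J2SpecC
import Cfsg.Agent.Lib.Helper5.S8Spec.Cyc

/-!
# Soundness of the main check, of the covering check and of the witnesses
-/

set_option autoImplicit false

namespace Cfsg.Agent.Lib.Helper5.J2Spec

open Cfsg.Agent.J2

theorem cyc_spec (W V b : ℕ) : ∀ (fuel p k m : ℕ), cyc W V b fuel p k = m → m ≠ 0 →
    ∃ j, 0 < j ∧ m = k + j ∧ (fun i => lk W (lk V i))^[j] p = b := by
  intro fuel
  induction fuel with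
  | zero => intro p k m h hm; simp only [cyc] at h; exact absurd h.symm hm
  | succ fuel ih =>
    intro p k m h hm
    simp only [cyc, strict_eq] at h
    split_ifs at h with hq
    · exact ⟨1, one_pos, h.symm, by simpa using hq⟩
    · obtain ⟨j, hj, e, hit⟩ := ih _ _ _ h hm
      exact ⟨j + 1, by omega, by omega, by rw [Function.iterate_succ_apply]; exact hit⟩

theorem pow_val {σ : Equiv.Perm (Fin 315)} {f : ℕ → ℕ} (hf : ∀ i : Fin 315, ((σ i : Fin 315) : ℕ) = f i) :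
    ∀ (j : ℕ) (i : Fin 315), (((σ ^ j) i : Fin 315) : ℕ) = f^[j] i
  | 0, i => rfl
  | j + 1, i => by
    rw [pow_succ', Equiv.Perm.mul_apply, hf, pow_val hf j i, Function.iterate_succ_apply']

theorem okSet_bound : ∀ e ∈ okSet, 0 < e ∧ e ≤ 15 := by decide

theorem okSet_dvd' : ∀ e ∈ okSet, ∀ d < 16, d ∣ e → d ∈ okSet := by decide

theorem okSet_dvd {e d : ℕ} (he : e ∈ okSet) (hd : d ∣ e) : d ∈ okSet := by
  have hb := okSet_bound e he
  have : d ≤ e := Nat.le_of_dvd hb.1 hd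
  exact okSet_dvd' e he d (by omega) hd

/-- the fixed-point statement (F2) as a hypothesis -/
def F2 : Prop := ∀ g ∈ PJ2, g p0 = p0 → g p1 = p1 → g p5 = p5 → g p2 = p2 → g p10 = p10 → g = 1

theorem fix_of_cyc {W V : ℕ} {x : Equiv.Perm (Fin 315)}
    (hf : ∀ i : Fin 315, ((x i : Fin 315) : ℕ) = (fun i => lk W (lk V i)) i) {b : ℕ} (hb : b < 315)
    {e : ℕ} (hm : cyc W V b 15 b 0 ≠ 0) (hdvd : cyc W V b 15 b 0 ∣ e) : (x ^ e) ⟨b, hb⟩ = ⟨b, hb⟩ := by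
  obtain ⟨j, _, ej, hit⟩ := cyc_spec W V b 15 b 0 _ rfl hm
  rw [Nat.zero_add] at ej
  have h1 : (x ^ cyc W V b 15 b 0) ⟨b, hb⟩ = ⟨b, hb⟩ := by
    apply Fin.ext
    rw [pow_val (f := fun i => lk W (lk V i)) hf, ej]
    exact hit
  obtain ⟨c, hc⟩ := hdvd
  rw [hc, pow_mul]
  exact Equiv.Perm.pow_apply_eq_self_of_apply_eq_self h1 c

theorem order_of_chk (hF2 : F2) {W V : ℕ} (hW : Good W) (hV : Good V) (h : chkWV W V = true) :
    orderOf (sem W * sem V) ∈ okSet := by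
  have hf : ∀ i : Fin 315, (((sem W * sem V) i : Fin 315) : ℕ) = (fun i => lk W (lk V i)) i := by
    intro i
    rw [Equiv.Perm.mul_apply, sem_rep hW, sem_rep hV]
  unfold chkWV at h
  simp only [strict_eq] at h
  have he : ordWV W V ∈ okSet := by simpa using h
  have he0 : ordWV W V ≠ 0 := by
    intro h0; rw [h0] at he; revert he; decide
  unfold ordWV at he0
  have m0 : cyc W V 0 15 0 0 ≠ 0 := fun hh => he0 (by rw [hh, Nat.lcm_zero_left])
  have r1 : Nat.lcm (cyc W V 1 15 1 0) (Nat.lcm (cyc W V 5 15 5 0) (Nat.lcm (cyc W V 2 15 2 0) (cyc W V 10 15 10 0)))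
      ≠ 0 := fun hh => he0 (by rw [hh, Nat.lcm_zero_right])
  have m1 : cyc W V 1 15 1 0 ≠ 0 := fun hh => r1 (by rw [hh, Nat.lcm_zero_left])
  have r2 : Nat.lcm (cyc W V 5 15 5 0) (Nat.lcm (cyc W V 2 15 2 0) (cyc W V 10 15 10 0)) ≠ 0 :=
    fun hh => r1 (by rw [hh, Nat.lcm_zero_right])
  have m5 : cyc W V 5 15 5 0 ≠ 0 := fun hh => r2 (by rw [hh, Nat.lcm_zero_left])
  have r3 : Nat.lcm (cyc W V 2 15 2 0) (cyc W V 10 15 10 0) ≠ 0 := fun hh => r2 (by rw [hh, Nat.lcm_zero_right])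
  have m2 : cyc W V 2 15 2 0 ≠ 0 := fun hh => r3 (by rw [hh, Nat.lcm_zero_left])
  have m10 : cyc W V 10 15 10 0 ≠ 0 := fun hh => r3 (by rw [hh, Nat.lcm_zero_right])
  have d0 : cyc W V 0 15 0 0 ∣ ordWV W V := Nat.dvd_lcm_left _ _
  have d1 : cyc W V 1 15 1 0 ∣ ordWV W V := dvd_trans (Nat.dvd_lcm_left _ _) (Nat.dvd_lcm_right _ _)
  have d5 : cyc W V 5 15 5 0 ∣ ordWV W V :=
    dvd_trans (Nat.dvd_lcm_left _ _) (dvd_trans (Nat.dvd_lcm_right _ _) (Nat.dvd_lcm_right _ _))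
  have d2 : cyc W V 2 15 2 0 ∣ ordWV W V :=
    dvd_trans (Nat.dvd_lcm_left _ _) (dvd_trans (Nat.dvd_lcm_right _ _)
      (dvd_trans (Nat.dvd_lcm_right _ _) (Nat.dvd_lcm_right _ _)))
  have d10 : cyc W V 10 15 10 0 ∣ ordWV W V :=
    dvd_trans (Nat.dvd_lcm_right _ _) (dvd_trans (Nat.dvd_lcm_right _ _)
      (dvd_trans (Nat.dvd_lcm_right _ _) (Nat.dvd_lcm_right _ _)))
  have hx : (sem W * sem V) ^ ordWV W V = 1 :=
    hF2 _ (PJ2.pow_mem (PJ2.mul_mem (sem_mem W) (sem_mem V)) _)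
      (fix_of_cyc hf _ m0 d0) (fix_of_cyc hf _ m1 d1) (fix_of_cyc hf _ m5 d5) (fix_of_cyc hf _ m2 d2)
      (fix_of_cyc hf _ m10 d10)
  exact okSet_dvd he (orderOf_dvd_of_pow_eq_one hx)

theorem mem_mkVs {U2 U3 U4 : List ℕ} {b c d : ℕ} (hb : b ∈ U2) (hc : c ∈ U3) (hd : d ∈ U4) :
    mulP (mulP b c) d ∈ mkVs U2 U3 U4 := by
  unfold mkVs
  rw [List.mem_flatMap]
  refine ⟨b, hb, ?_⟩
  rw [List.mem_flatMap]
  refine ⟨c, hc, ?_⟩
  rw [List.mem_map]
  exact ⟨d, hd, rfl⟩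

theorem getD_mem {U : List ℕ} {n a : ℕ} (hl : U.length = n) (ha : a < n) : U.getD a idP ∈ U := by
  rw [List.getD_eq_getElem _ _ (by omega)]
  exact List.getElem_mem _

/-- soundness of the main check -/
theorem order_of_main (hF2 : F2) {t : ℕ} {U1 U2 U3 U4 : List ℕ} (ht : Good t)
    (hG1 : ∀ P ∈ U1, Good P) (hG2 : ∀ P ∈ U2, Good P) (hG3 : ∀ P ∈ U3, Good P) (hG4 : ∀ P ∈ U4, Good P)
    (hC : ChainProp U1 U2 U3 U4) (h : mainChkT t U1 (mkVs U2 U3 U4) = true)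
    {a b c d : ℕ} (ha : a < 80) (hb : b < 6) (hc : c < 2) (hd : d < 2) :
    orderOf (sem t * Phi U1 U2 U3 U4 a b c d) ∈ okSet := by
  obtain ⟨-, -, -, -, -, -, -, -, -, l1, l2, l3, l4⟩ := hC
  have m1 := getD_mem l1 ha
  have m2 := getD_mem l2 hb
  have m3 := getD_mem l3 hc
  have m4 := getD_mem l4 hd
  unfold mainChkT at h
  rw [List.all_eq_true] at h
  have h1 := h _ m1
  simp only [strict_eq] at h1
  rw [List.all_eq_true] at h1
  have h2 := h1 _ (mem_mkVs m2 m3 m4)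
  have g1 := hG1 _ m1
  have g2 := hG2 _ m2
  have g3 := hG3 _ m3
  have g4 := hG4 _ m4
  have := order_of_chk hF2 (ht.mul g1) ((g2.mul g3).mul g4) h2
  rw [sem_mulP ht g1, sem_mulP (g2.mul g3) g4, sem_mulP g2 g3] at this
  have e : sem t * sem (U1.getD a idP) * (sem (U2.getD b idP) * sem (U3.getD c idP) * sem (U4.getD d idP)) =
      sem t * Phi U1 U2 U3 U4 a b c d := by
    unfold Phi; simp only [mul_assoc]
  rw [e] at this
  exact this

end Cfsg.Agent.Lib.Helper5.J2Spec
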