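import Mathlib
import Cfsg.Agent.Lib.Helper5.J2SpecD

/-!
# Covering by double cosets, witnesses, and the spectrum of `PJ2` from the checks
-/

set_option autoImplicit false

namespace Cfsg.Agent.Lib.Helper5.J2Spec

open Cfsg.Agent.J2

/-- the covering check: every point is the image of some `t_i 0` under a product of transversal elements -/
def covChk (Ts U1 U2 U3 U4 : List ℕ) (cov : List (ℕ × ℕ × ℕ × ℕ × ℕ)) : Bool :=
  (List.range 315).all fun j =>
    match cov.getD j (0, 0, 0, 0, 0) with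
    | (i, a, b, c, d) =>
      decide (i < Ts.length ∧ a < 80 ∧ b < 6 ∧ c < 2 ∧ d < 2) &&
        (lk (U1.getD a idP) (lk (U2.getD b idP) (lk (U3.getD c idP) (lk (U4.getD d idP)
          (lk (Ts.getD i idP) 0)))) == j)

theorem cov_sound {Ts U1 U2 U3 U4 : List ℕ} {cov : List (ℕ × ℕ × ℕ × ℕ × ℕ)}
    (hT : ∀ P ∈ Ts, Good P) (hG1 : ∀ P ∈ U1, Good P) (hG2 : ∀ P ∈ U2, Good P) (hG3 : ∀ P ∈ U3, Good P)
    (hG4 : ∀ P ∈ U4, Good P) (h : covChk Ts U1 U2 U3 U4 cov = true) (j : Fin 315) :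
    ∃ i < Ts.length, ∃ a < 80, ∃ b < 6, ∃ c < 2, ∃ d < 2,
      Phi U1 U2 U3 U4 a b c d (sem (Ts.getD i idP) p0) = j := by
  unfold covChk at h
  rw [List.all_eq_true] at h
  have hj := h j.1 (List.mem_range.2 j.2)
  rcases hcov : cov.getD j.1 (0, 0, 0, 0, 0) with ⟨i, a, b, c, d⟩
  rw [hcov] at hj
  simp only [Bool.and_eq_true, decide_eq_true_eq, beq_iff_eq] at hj
  obtain ⟨⟨hi, ha, hb, hc, hd⟩, e⟩ := hj
  refine ⟨i, hi, a, ha, b, hb, c, hc, d, hd, ?_⟩
  apply Fin.ext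
  unfold Phi
  simp only [Equiv.Perm.mul_apply]
  rw [sem_rep (good_getD hG1 a), sem_rep (good_getD hG2 b), sem_rep (good_getD hG3 c),
    sem_rep (good_getD hG4 d), sem_rep (good_getD hT i)]
  exact e

/-- every element of `PJ2` has its order in the expected set -/
theorem order_mem {Ts U1 U2 U3 U4 : List ℕ} {cov : List (ℕ × ℕ × ℕ × ℕ × ℕ)}
    (hT : ∀ P ∈ Ts, Good P) (hG1 : ∀ P ∈ U1, Good P) (hG2 : ∀ P ∈ U2, Good P) (hG3 : ∀ P ∈ U3, Good P)
    (hG4 : ∀ P ∈ U4, Good P) (hC : ChainProp U1 U2 U3 U4) (hcard : Nat.card ↥PJ2 = 604800)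
    (hcov : covChk Ts U1 U2 U3 U4 cov = true)
    (hmain : ∀ t ∈ Ts, mainChkT t U1 (mkVs U2 U3 U4) = true)
    {g : Equiv.Perm (Fin 315)} (hg : g ∈ PJ2) : orderOf g ∈ okSet := by
  have hF2 : F2 := fun g hg h0 h1 h5 h2 h10 => eq_one_of_fix hG1 hG2 hG3 hG4 hC hcard hg h0 h1 h5 h2 h10
  obtain ⟨i, hi, a, ha, b, hb, c, hc, d, hd, e⟩ := cov_sound hT hG1 hG2 hG3 hG4 hcov (g p0)
  set k := Phi U1 U2 U3 U4 a b c d with hk
  set t := sem (Ts.getD i idP) with ht
  have hkm : k ∈ PJ2 := Phi_mem _ _ _ _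
  have htm : t ∈ PJ2 := sem_mem _
  have hk0 : k p0 = p0 := Phi_fix0 hG1 hG2 hG3 hG4 hC ha hb hc hd
  -- h'' = (k t)⁻¹ g k fixes the point 0
  set h2 : Equiv.Perm (Fin 315) := (k * t)⁻¹ * g * k with hh2
  have h2m : h2 ∈ PJ2 := PJ2.mul_mem (PJ2.mul_mem (PJ2.inv_mem (PJ2.mul_mem hkm htm)) hg) hkm
  have h20 : h2 p0 = p0 := by
    rw [hh2]
    simp only [Equiv.Perm.mul_apply]
    rw [hk0, ← e, ← Equiv.Perm.mul_apply k t, Equiv.Perm.inv_def, Equiv.symm_apply_apply]
  obtain ⟨a', ha', b', hb', c', hc', d', hd', e'⟩ := exists_Phi hG1 hG2 hG3 hG4 hC hcard h2m h20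
  have hconj : SemiconjBy k⁻¹ g (t * h2) := by
    unfold SemiconjBy
    rw [hh2]
    group
  rw [hconj.orderOf_eq, e']
  have hti : Ts.getD i idP ∈ Ts := by
    rw [List.getD_eq_getElem _ _ hi]; exact List.getElem_mem _
  exact order_of_main hF2 (hT _ hti) hG1 hG2 hG3 hG4 hC (hmain _ hti) ha' hb' hc' hd'

/-! ### witnesses -/

/-- iteration of a packed permutation -/
def itr (P : ℕ) : ℕ → ℕ → ℕ
  | 0, p => p
  | k + 1, p => itr P k (lk P p)

theorem itr_eq (P : ℕ) : ∀ (k p : ℕ), itr P k p = (lk P)^[k] p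
  | 0, _ => rfl
  | k + 1, p => by rw [itr, itr_eq P k, Function.iterate_succ_apply]

def fixesBase (P n : ℕ) : Bool := [0, 1, 5, 2, 10].all fun b => itr P n b == b

def moves (P n : ℕ) : Bool := (List.range 315).any fun b => itr P n b != b

theorem pow_eq_one_of_fixesBase (hF2 : F2) {P n : ℕ} (hP : Good P) (h : fixesBase P n = true) :
    sem P ^ n = 1 := by
  have hf : ∀ i : Fin 315, ((sem P i : Fin 315) : ℕ) = lk P i := sem_rep hP
  unfold fixesBase at h
  simp only [List.all_cons, List.all_nil, Bool.and_true, Bool.and_eq_true, beq_iff_eq, itr_eq] at h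
  obtain ⟨f0, f1, f5, f2, f10⟩ := h
  refine hF2 _ (PJ2.pow_mem (sem_mem P) n) ?_ ?_ ?_ ?_ ?_ <;> apply Fin.ext <;> rw [pow_val hf]
  · exact f0
  · exact f1
  · exact f5
  · exact f2
  · exact f10

theorem pow_ne_one_of_moves {P n : ℕ} (hP : Good P) (h : moves P n = true) : sem P ^ n ≠ 1 := by
  have hf : ∀ i : Fin 315, ((sem P i : Fin 315) : ℕ) = lk P i := sem_rep hP
  unfold moves at h
  rw [List.any_eq_true] at h
  obtain ⟨b, hb, hne⟩ := h
  have hb' : b < 315 := List.mem_range.1 hb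
  simp only [bne_iff_ne, ne_eq, itr_eq] at hne
  intro h1
  apply hne
  have := pow_val hf n ⟨b, hb'⟩
  rw [h1] at this
  exact this.symm

/-- the check of the five witnesses -/
def witChk (P7 P8 P10 P12 P15 : ℕ) : Bool :=
  fixesBase P7 7 && moves P7 1 && (fixesBase P8 8 && moves P8 4) &&
    (fixesBase P10 10 && moves P10 5 && moves P10 2) && (fixesBase P12 12 && moves P12 6 && moves P12 4) &&
    (fixesBase P15 15 && moves P15 5 && moves P15 3)

theorem wit_sound (hF2 : F2) {P7 P8 P10 P12 P15 : ℕ} (g7 : Good P7) (g8 : Good P8) (g10 : Good P10)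
    (g12 : Good P12) (g15 : Good P15) (h : witChk P7 P8 P10 P12 P15 = true) :
    orderOf (sem P7) = 7 ∧ orderOf (sem P8) = 8 ∧ orderOf (sem P10) = 10 ∧ orderOf (sem P12) = 12 ∧
      orderOf (sem P15) = 15 := by
  unfold witChk at h
  simp only [Bool.and_eq_true] at h
  obtain ⟨⟨⟨⟨⟨a1, a2⟩, b1, b2⟩, ⟨c1, c2⟩, c3⟩, ⟨d1, d2⟩, d3⟩, ⟨e1, e2⟩, e3⟩ := h
  refine ⟨?_, ?_, ?_, ?_, ?_⟩
  · apply orderOf_eq_of_pow_and_pow_div_prime (by norm_num) (pow_eq_one_of_fixesBase hF2 g7 a1)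
    intro p hp hd
    have hle : p ≤ 7 := Nat.le_of_dvd (by norm_num) hd
    interval_cases p <;> first | (exfalso; revert hp; decide) | (exfalso; revert hd; decide) | skip
    exact pow_ne_one_of_moves g7 a2
  · apply orderOf_eq_of_pow_and_pow_div_prime (by norm_num) (pow_eq_one_of_fixesBase hF2 g8 b1)
    intro p hp hd
    have hle : p ≤ 8 := Nat.le_of_dvd (by norm_num) hd
    interval_cases p <;> first | (exfalso; revert hp; decide) | (exfalso; revert hd; decide) | skip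
    exact pow_ne_one_of_moves g8 b2
  · apply orderOf_eq_of_pow_and_pow_div_prime (by norm_num) (pow_eq_one_of_fixesBase hF2 g10 c1)
    intro p hp hd
    have hle : p ≤ 10 := Nat.le_of_dvd (by norm_num) hd
    interval_cases p <;> first | (exfalso; revert hp; decide) | (exfalso; revert hd; decide) | skip
    · exact pow_ne_one_of_moves g10 c2
    · exact pow_ne_one_of_moves g10 c3
  · apply orderOf_eq_of_pow_and_pow_div_prime (by norm_num) (pow_eq_one_of_fixesBase hF2 g12 d1)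
    intro p hp hd
    have hle : p ≤ 12 := Nat.le_of_dvd (by norm_num) hd
    interval_cases p <;> first | (exfalso; revert hp; decide) | (exfalso; revert hd; decide) | skip
    · exact pow_ne_one_of_moves g12 d2
    · exact pow_ne_one_of_moves g12 d3
  · apply orderOf_eq_of_pow_and_pow_div_prime (by norm_num) (pow_eq_one_of_fixesBase hF2 g15 e1)
    intro p hp hd
    have hle : p ≤ 15 := Nat.le_of_dvd (by norm_num) hd
    interval_cases p <;> first | (exfalso; revert hp; decide) | (exfalso; revert hd; decide) | skip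
    · exact pow_ne_one_of_moves g15 e2
    · exact pow_ne_one_of_moves g15 e3

end Cfsg.Agent.Lib.Helper5.J2Spec
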