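import Mathlib
import Cfsg.Agent.Lib.Helper5.J2SpecE

/-!
# Kernel check: the stabiliser chain, the covering by double cosets and the order witnesses
-/

set_option autoImplicit false

namespace Cfsg.Agent.Lib.Helper5.J2Spec

/-- the chain, covering and witness checks, from scratch -/
def chk1 : Bool :=
  forceList elemsR fun E =>
    forceList (pick E iU1) fun U1 => forceList (pick E iU2) fun U2 => forceList (pick E iU3) fun U3 =>
      forceList (pick E iU4) fun U4 => forceList (pick E iT) fun Ts =>
        decide (ChainProp U1 U2 U3 U4) && covChk Ts U1 U2 U3 U4 covD &&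
          witChk (E.getD (nEl - 1 - iW7) idP) (E.getD (nEl - 1 - iW8) idP) (E.getD (nEl - 1 - iW10) idP)
            (E.getD (nEl - 1 - iW12) idP) (E.getD (nEl - 1 - iW15) idP)

set_option maxRecDepth 1000000 in
theorem chk1_ok : chk1 = true := by decide +kernel

end Cfsg.Agent.Lib.Helper5.J2Spec
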