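import Mathlib
import Cfsg.Agent.Lib.Helper5.J2SpecB

/-!
# Kernel check: element orders in the double cosets number 0, 1, 2
-/

set_option autoImplicit false

namespace Cfsg.Agent.Lib.Helper5.J2Spec

set_option maxRecDepth 1000000 in
theorem main0_ok : mainChk 0 = true := by decide +kernel

set_option maxRecDepth 1000000 in
theorem main1_ok : mainChk 1 = true := by decide +kernel

set_option maxRecDepth 1000000 in
theorem main2_ok : mainChk 2 = true := by decide +kernel

end Cfsg.Agent.Lib.Helper5.J2Spec
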