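import Mathlib
import Cfsg.Agent.Lib.Helper5.J2SpecChk1
import Cfsg.Agent.Lib.Helper5.J2SpecChk2
import Cfsg.Agent.Lib.Helper5.J2SpecChk3

/-!
# The spectrum of `PJ2` (given its order)

`spec_PJ2 (hcard : Nat.card ↥PJ2 = 604800) : Set.range (orderOf : ↥PJ2 → ℕ) = {1, 2, 3, 4, 5, 6, 7, 8, 10, 12, 15}`.

Every element of `PJ2` is conjugate to `t_i · h` with `t_i` one of six double coset representatives of the stabiliser
`H` of the point `0` and `h ∈ H`; the `1920` elements of `H` are enumerated by the transversals of a stabiliser chain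
(complete because of the order); for each of the `11520` products the cycle lengths of the five base points are
computed in the kernel, and an element of `PJ2` fixing the five base points is `1`.
-/

set_option autoImplicit false

namespace Cfsg.Agent.Lib.Helper5.J2Spec

open Cfsg.Agent.J2

/-- the concrete transversals and double coset representatives -/
def U1c : List ℕ := pick elemsR iU1
def U2c : List ℕ := pick elemsR iU2
def U3c : List ℕ := pick elemsR iU3
def U4c : List ℕ := pick elemsR iU4
def Tc : List ℕ := pick elemsR iT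

theorem good_elemsR : ∀ P ∈ elemsR, Good P := good_slpR progD initR 5 good_initR

theorem good_pick (idx : List ℕ) : ∀ P ∈ pick elemsR idx, Good P := by
  intro P hP
  unfold pick at hP
  rw [List.mem_map] at hP
  obtain ⟨k, _, rfl⟩ := hP
  exact good_getD good_elemsR _

theorem chk1_unfold : (decide (ChainProp U1c U2c U3c U4c) && covChk Tc U1c U2c U3c U4c covD &&
    witChk (elemsR.getD (nEl - 1 - iW7) idP) (elemsR.getD (nEl - 1 - iW8) idP)
      (elemsR.getD (nEl - 1 - iW10) idP) (elemsR.getD (nEl - 1 - iW12) idP)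
      (elemsR.getD (nEl - 1 - iW15) idP)) = true := by
  have h := chk1_ok
  unfold chk1 at h
  simp only [forceList_eq] at h
  exact h

theorem chain_ok : ChainProp U1c U2c U3c U4c := by
  have h := chk1_unfold
  simp only [Bool.and_eq_true, decide_eq_true_eq] at h
  exact h.1.1

theorem cov_ok : covChk Tc U1c U2c U3c U4c covD = true := by
  have h := chk1_unfold
  simp only [Bool.and_eq_true, decide_eq_true_eq] at h
  exact h.1.2

theorem wit_ok : witChk (elemsR.getD (nEl - 1 - iW7) idP) (elemsR.getD (nEl - 1 - iW8) idP)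
      (elemsR.getD (nEl - 1 - iW10) idP) (elemsR.getD (nEl - 1 - iW12) idP)
      (elemsR.getD (nEl - 1 - iW15) idP) = true := by
  have h := chk1_unfold
  simp only [Bool.and_eq_true, decide_eq_true_eq] at h
  exact h.2

theorem main_unfold {i : ℕ} (h : mainChk i = true) :
    mainChkT (elemsR.getD (nEl - 1 - iT.getD i 0) idP) U1c (mkVs U2c U3c U4c) = true := by
  unfold mainChk at h
  simp only [forceList_eq] at h
  exact h

theorem iT_cases : ∀ k ∈ iT, ∃ i < 6, k = iT.getD i 0 := by decide

theorem main_ok : ∀ t ∈ Tc, mainChkT t U1c (mkVs U2c U3c U4c) = true := by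
  intro t ht
  unfold Tc pick at ht
  rw [List.mem_map] at ht
  obtain ⟨k, hk, rfl⟩ := ht
  obtain ⟨i, hi, rfl⟩ := iT_cases k hk
  interval_cases i
  · exact main_unfold main0_ok
  · exact main_unfold main1_ok
  · exact main_unfold main2_ok
  · exact main_unfold main3_ok
  · exact main_unfold main4_ok
  · exact main_unfold main5_ok

theorem F2_of_card (hcard : Nat.card ↥PJ2 = 604800) : F2 :=
  fun _ hg h0 h1 h5 h2 h10 =>
    eq_one_of_fix (good_pick iU1) (good_pick iU2) (good_pick iU3) (good_pick iU4) chain_ok hcard hg h0 h1 h5 h2 h10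

theorem orderOf_mem_okSet (hcard : Nat.card ↥PJ2 = 604800) {g : Equiv.Perm (Fin 315)} (hg : g ∈ PJ2) :
    orderOf g ∈ okSet :=
  order_mem (good_pick iT) (good_pick iU1) (good_pick iU2) (good_pick iU3) (good_pick iU4) chain_ok hcard
    cov_ok main_ok hg

theorem okSet_cover : ∀ n ∈ okSet, n ∣ 7 ∨ n ∣ 8 ∨ n ∣ 10 ∨ n ∣ 12 ∨ n ∣ 15 := by decide

/-- **the set of element orders of `PJ2`** -/
theorem spec_PJ2 (hcard : Nat.card ↥Cfsg.Agent.J2.PJ2 = 604800) :
    Set.range (orderOf : ↥Cfsg.Agent.J2.PJ2 → ℕ) = {1, 2, 3, 4, 5, 6, 7, 8, 10, 12, 15} := by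
  apply Set.Subset.antisymm
  · rintro _ ⟨x, rfl⟩
    have := orderOf_mem_okSet hcard x.2
    rw [Subgroup.orderOf_coe] at this
    simp only [okSet, List.mem_cons, List.not_mem_nil, or_false] at this
    simp only [Set.mem_insert_iff, Set.mem_singleton_iff]
    exact this
  · intro n hn
    have hn' : n ∈ okSet := by
      simp only [Set.mem_insert_iff, Set.mem_singleton_iff] at hn
      simp only [okSet, List.mem_cons, List.not_mem_nil, or_false]
      exact hn
    obtain ⟨o7, o8, o10, o12, o15⟩ := wit_sound (F2_of_card hcard) (good_getD good_elemsR _)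
      (good_getD good_elemsR _) (good_getD good_elemsR _) (good_getD good_elemsR _)
      (good_getD good_elemsR _) wit_ok
    have key : ∀ (P N : ℕ), orderOf (sem P) = N → N ≠ 0 → n ∣ N → n ∈ Set.range (orderOf : ↥PJ2 → ℕ) := by
      intro P N hP hN hd
      have hw : orderOf (⟨sem P, sem_mem P⟩ : ↥PJ2) = N := by
        rw [← Subgroup.orderOf_coe]; exact hP
      have hd' : n ∣ orderOf (⟨sem P, sem_mem P⟩ : ↥PJ2) := by rw [hw]; exact hd
      have hN' : orderOf (⟨sem P, sem_mem P⟩ : ↥PJ2) ≠ 0 := by rw [hw]; exact hN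
      obtain ⟨x, hx⟩ := Cfsg.Agent.Lib.Helper5.S8Spec.exists_orderOf_of_dvd (⟨sem P, sem_mem P⟩ : ↥PJ2) hd' hN'
      exact ⟨x, hx⟩
    rcases okSet_cover n hn' with h | h | h | h | h
    · exact key _ 7 o7 (by norm_num) h
    · exact key _ 8 o8 (by norm_num) h
    · exact key _ 10 o10 (by norm_num) h
    · exact key _ 12 o12 (by norm_num) h
    · exact key _ 15 o15 (by norm_num) h

end Cfsg.Agent.Lib.Helper5.J2Spec
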