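import Mathlib
import Cfsg.Prelude.Def_Transfer
import Cfsg.Agent.Lib.Lead.Extraspecial2Model
import Cfsg.Agent.Lib.Helper7.Qd2
import Cfsg.Agent.H9.A5CntA

/-!
# Groups of shape `2^{1+4}_- : A₅`, abstractly

`IsTwoA5Split X`: the group `X` has a normal extraspecial subgroup `Q` of order 32 without elementary abelian subgroups
of order 8, complemented, with `X / Q` isomorphic to the alternating group of degree 5.

* `IsTwoA5Split.of_equiv`: transport along an isomorphism.
* `isTwoA5Split_of`: from elementwise facts on subgroups `Q0, H0 ≤ P0` of a group.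
-/

set_option autoImplicit false

namespace Cfsg.Agent.Lib.Helper5.J3Fus

open Cfsg
open scoped commutatorElement

universe u v

/-- a normal extraspecial subgroup of order 32 without elementary abelian subgroups of order 8, complemented, with
quotient the alternating group of degree 5 -/
def IsTwoA5Split (X : Type u) [Group X] : Prop :=
  ∃ (Q : Subgroup X) (_ : Q.Normal), IsExtraspecial 2 Q ∧ Nat.card Q = 32 ∧
    (∀ E : Subgroup Q, IsElementaryAbelian 2 E → Nat.card E ≤ 2 ^ 2) ∧
    (∃ H : Subgroup X, Q.IsComplement' H) ∧ Nonempty (X ⧸ Q ≃* alternatingGroup (Fin 5))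

theorem IsTwoA5Split.of_equiv {X : Type u} {Y : Type v} [Group X] [Group Y] [Finite X]
    (e : X ≃* Y) (h : IsTwoA5Split X) : IsTwoA5Split Y := by
  obtain ⟨Q, hQ, hes, hcard, hE, ⟨H, hH⟩, ⟨f⟩⟩ := h
  have : Finite Y := Finite.of_equiv X e.toEquiv
  have hQ' : (Q.map e.toMonoidHom).Normal := hQ.map _ e.surjective
  refine ⟨Q.map e.toMonoidHom, hQ', ?_, ?_, ?_, ?_, ?_⟩
  · exact Cfsg.Agent.Lib.Helper7.isExtraspecial_of_mulEquiv (e.subgroupMap Q) hes
  · rw [Subgroup.card_map_of_injective e.injective, hcard]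
  · intro E hEl
    obtain ⟨hc, hsq⟩ := hEl
    have hcard' : Nat.card ↥(E.map (e.subgroupMap Q).symm.toMonoidHom) = Nat.card ↥E :=
      Subgroup.card_map_of_injective (e.subgroupMap Q).symm.injective
    rw [← hcard']
    apply hE
    refine ⟨⟨⟨?_⟩⟩, ?_⟩
    · rintro ⟨a, ha⟩ ⟨b, hb⟩
      obtain ⟨a', ha', rfl⟩ := ha
      obtain ⟨b', hb', rfl⟩ := hb
      apply Subtype.ext
      show (e.subgroupMap Q).symm.toMonoidHom a' * (e.subgroupMap Q).symm.toMonoidHom b' =
        (e.subgroupMap Q).symm.toMonoidHom b' * (e.subgroupMap Q).symm.toMonoidHom a'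
      rw [← map_mul, ← map_mul]
      have := hc.is_comm.comm (⟨a', ha'⟩ : ↥E) ⟨b', hb'⟩
      have h' : a' * b' = b' * a' := congrArg Subtype.val this
      exact congrArg _ h'
    · rintro a ⟨a', ha', rfl⟩
      rw [← map_pow]
      have h' : a' ^ 2 = 1 := hsq a' ha'
      exact (congrArg _ h').trans (map_one _)
  · refine ⟨H.map e.toMonoidHom, ?_⟩
    apply Subgroup.isComplement'_of_card_mul_and_disjoint
    · rw [Subgroup.card_map_of_injective e.injective, Subgroup.card_map_of_injective e.injective,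
        hH.card_mul_card]
      exact Nat.card_congr e.toEquiv
    · rw [disjoint_iff, ← Subgroup.map_inf _ _ _ e.injective, disjoint_iff.1 hH.disjoint,
        Subgroup.map_bot]
  · exact ⟨(QuotientGroup.congr Q (Q.map e.toMonoidHom) e rfl).symm.trans f⟩

theorem card_A5' : Nat.card ↥(alternatingGroup (Fin 5)) = 60 := by
  have h := two_mul_card_alternatingGroup (α := Fin 5)
  rw [Fintype.card_perm, Fintype.card_fin] at h
  rw [Nat.card_eq_fintype_card]
  have : (5 : ℕ).factorial = 120 := by decide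
  omega

section main

variable {G : Type u} [Group G] [Finite G]

/-- **the structure `2^{1+4}_- : A₅`**, from elementwise facts -/
theorem isTwoA5Split_of (P0 Q0 H0 : Subgroup G) (z : G) (hQP : Q0 ≤ P0) (hHP : H0 ≤ P0)
    (hnorm : ∀ p ∈ P0, ∀ q ∈ Q0, p * q * p⁻¹ ∈ Q0)
    (hcardP : Nat.card P0 = 1920) (hcardQ : Nat.card Q0 = 32)
    (hz : z ∈ Q0) (hz1 : z ≠ 1) (hz2 : z * z = 1) (hzc : ∀ q ∈ Q0, q * z = z * q)
    (hcomm : ∀ x ∈ Q0, ∀ y ∈ Q0, x * y = y * x ∨ x * y = z * (y * x))
    (hsq : ∀ x ∈ Q0, x * x = 1 ∨ x * x = z)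
    (hcent : ∀ x ∈ Q0, x = 1 ∨ x = z ∨ ∃ q ∈ Q0, x * q ≠ q * x)
    (hna : ∃ x ∈ Q0, ∃ y ∈ Q0, x * y ≠ y * x)
    (hne8 : ∀ x ∈ Q0, ∀ y ∈ Q0, x * x = 1 → y * y = 1 → x * y = y * x →
      x = 1 ∨ x = z ∨ y = 1 ∨ y = z ∨ y = x ∨ y = z * x)
    (hH : Nonempty (↥H0 ≃* alternatingGroup (Fin 5))) :
    IsTwoA5Split ↥P0 := by
  classical
  obtain ⟨eH⟩ := hH
  -- the extraspecial group
  have hES : Cfsg.Agent.Lead.ES2.ES (⟨z, hz⟩ : ↥Q0) := by
    refine ⟨⟨?_, ?_, ?_, ?_, ?_⟩, ?_⟩
    · intro h; exact hz1 (congrArg Subtype.val h)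
    · exact Subtype.ext hz2
    · intro x; exact Subtype.ext (hzc x.1 x.2)
    · intro x y
      rcases hcomm x.1 x.2 y.1 y.2 with h | h
      · left
        apply Subtype.ext
        show (x : G) * y * (x : G)⁻¹ * (y : G)⁻¹ = 1
        rw [h]; group
      · right
        apply Subtype.ext
        show (x : G) * y * (x : G)⁻¹ * (y : G)⁻¹ = z
        rw [h]; group
    · intro x
      rcases hsq x.1 x.2 with h | h
      · exact Or.inl (Subtype.ext h)
      · exact Or.inr (Subtype.ext h)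
    · intro w hw
      rcases hcent w.1 w.2 with h | h | ⟨q, hq, hne⟩
      · exact Or.inl (Subtype.ext h)
      · exact Or.inr (Subtype.ext h)
      · exfalso
        apply hne
        exact (congrArg Subtype.val (hw ⟨q, hq⟩)).symm
  have hExt : IsExtraspecial 2 ↥Q0 := by
    apply Cfsg.Agent.Lead.ES2.extraspecial_of_ES hES
    intro hall
    obtain ⟨x, hx, y, hy, hne⟩ := hna
    apply hne
    have := congrArg Subtype.val (hall ⟨x, hx⟩ ⟨y, hy⟩)
    have h1 : x * y * x⁻¹ * y⁻¹ = 1 := this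
    calc x * y = (x * y * x⁻¹ * y⁻¹) * (y * x) := by group
      _ = y * x := by rw [h1, one_mul]
  -- the subgroups of `P0`
  have hQn : (Q0.subgroupOf P0).Normal := by
    constructor
    intro n hn g
    rw [Subgroup.mem_subgroupOf] at hn ⊢
    have e : ((g * n * g⁻¹ : ↥P0) : G) = (g : G) * (n : G) * (g : G)⁻¹ := by simp
    rw [e]
    exact hnorm g.1 g.2 n.1 hn
  have eQ : ↥(Q0.subgroupOf P0) ≃* ↥Q0 := Subgroup.subgroupOfEquivOfLe hQP
  have eH' : ↥(H0.subgroupOf P0) ≃* ↥H0 := Subgroup.subgroupOfEquivOfLe hHP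
  have hcardQ' : Nat.card ↥(Q0.subgroupOf P0) = 32 := by
    rw [Nat.card_congr eQ.toEquiv, hcardQ]
  have hcardH : Nat.card ↥H0 = 60 := by rw [Nat.card_congr eH.toEquiv, card_A5']
  have hcardH' : Nat.card ↥(H0.subgroupOf P0) = 60 := by
    rw [Nat.card_congr eH'.toEquiv, hcardH]
  -- `Q0 ⊓ H0 = ⊥`
  have hinf : Q0 ⊓ H0 = ⊥ := by
    have hsimple : IsSimpleGroup ↥H0 := by
      have : IsSimpleGroup ↥(alternatingGroup (Fin 5)) := alternatingGroup.isSimpleGroup (by simp)
      exact eH.isSimpleGroup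
    have hN : ((Q0 ⊓ H0).subgroupOf H0).Normal := by
      constructor
      intro n hn g
      rw [Subgroup.mem_subgroupOf] at hn ⊢
      have e : ((g * n * g⁻¹ : ↥H0) : G) = (g : G) * (n : G) * (g : G)⁻¹ := by simp
      rw [e]
      exact ⟨hnorm g.1 (hHP g.2) n.1 hn.1, H0.mul_mem (H0.mul_mem g.2 n.2) (H0.inv_mem g.2)⟩
    rcases hN.eq_bot_or_eq_top with h | h
    · rw [eq_bot_iff]
      intro x hx
      have hm : (⟨x, hx.2⟩ : ↥H0) ∈ (Q0 ⊓ H0).subgroupOf H0 := by
        rw [Subgroup.mem_subgroupOf]; exact hx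
      rw [h, Subgroup.mem_bot] at hm
      rw [Subgroup.mem_bot]
      exact congrArg Subtype.val hm
    · exfalso
      have hle : H0 ≤ Q0 := by
        intro x hx
        have hm : (⟨x, hx⟩ : ↥H0) ∈ (Q0 ⊓ H0).subgroupOf H0 := by rw [h]; exact Subgroup.mem_top _
        rw [Subgroup.mem_subgroupOf] at hm
        exact hm.1
      have := Subgroup.card_dvd_of_le hle
      rw [hcardH, hcardQ] at this
      omega
  have hdisj : Disjoint (Q0.subgroupOf P0) (H0.subgroupOf P0) := by
    rw [disjoint_iff, eq_bot_iff]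
    intro x hx
    rw [Subgroup.mem_inf, Subgroup.mem_subgroupOf, Subgroup.mem_subgroupOf] at hx
    have : (x : G) ∈ Q0 ⊓ H0 := hx
    rw [hinf, Subgroup.mem_bot] at this
    rw [Subgroup.mem_bot]
    exact Subtype.ext this
  have hcompl : (Q0.subgroupOf P0).IsComplement' (H0.subgroupOf P0) := by
    apply Subgroup.isComplement'_of_card_mul_and_disjoint _ hdisj
    rw [hcardQ', hcardH', hcardP]
  refine ⟨Q0.subgroupOf P0, hQn, ?_, hcardQ', ?_, ⟨H0.subgroupOf P0, hcompl⟩, ?_⟩
  · exact Cfsg.Agent.Lib.Helper7.isExtraspecial_of_mulEquiv eQ.symm hExt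
  · -- no elementary abelian subgroup of order 8
    intro E hEl
    obtain ⟨hc, hsq2⟩ := hEl
    -- the elements of `E`, in `G`
    have hval : ∀ a : ↥E, (((a : ↥(Q0.subgroupOf P0)) : ↥P0) : G) ∈ Q0 := fun a => a.1.2
    have hsqG : ∀ a : ↥E, (((a : ↥(Q0.subgroupOf P0)) : ↥P0) : G) *
        (((a : ↥(Q0.subgroupOf P0)) : ↥P0) : G) = 1 := by
      intro a
      have := hsq2 a.1 a.2
      rw [pow_two] at this
      have h1 := congrArg (fun t : ↥(Q0.subgroupOf P0) => ((t : ↥P0) : G)) this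
      simpa using h1
    have hcommG : ∀ a b : ↥E, (((a : ↥(Q0.subgroupOf P0)) : ↥P0) : G) *
        (((b : ↥(Q0.subgroupOf P0)) : ↥P0) : G) = (((b : ↥(Q0.subgroupOf P0)) : ↥P0) : G) *
        (((a : ↥(Q0.subgroupOf P0)) : ↥P0) : G) := by
      intro a b
      have := hc.is_comm.comm a b
      have h1 := congrArg (fun t : ↥E => (((t : ↥(Q0.subgroupOf P0)) : ↥P0) : G)) this
      simpa using h1
    have hinj : Function.Injective (fun a : ↥E => (((a : ↥(Q0.subgroupOf P0)) : ↥P0) : G)) := by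
      intro a b h
      exact Subtype.ext (Subtype.ext (Subtype.ext h))
    by_cases hex : ∃ a : ↥E, (((a : ↥(Q0.subgroupOf P0)) : ↥P0) : G) ≠ 1 ∧
        (((a : ↥(Q0.subgroupOf P0)) : ↥P0) : G) ≠ z
    · obtain ⟨a, ha1, haz⟩ := hex
      set x : G := (((a : ↥(Q0.subgroupOf P0)) : ↥P0) : G) with hx
      have hsub : ∀ b : ↥E, (((b : ↥(Q0.subgroupOf P0)) : ↥P0) : G) ∈
          ({1, z, x, z * x} : Finset G) := by
        intro b
        simp only [Finset.mem_insert, Finset.mem_singleton]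
        rcases hne8 x (hval a) _ (hval b) (hsqG a) (hsqG b) (hcommG a b) with
          h | h | h | h | h | h
        · exact absurd h ha1
        · exact absurd h haz
        · exact Or.inl h
        · exact Or.inr (Or.inl h)
        · exact Or.inr (Or.inr (Or.inl h))
        · exact Or.inr (Or.inr (Or.inr h))
      have h1 : Nat.card ↥E ≤ Nat.card {g : G // g ∈ ({1, z, x, z * x} : Finset G)} :=
        Nat.card_le_card_of_injective (fun b => ⟨_, hsub b⟩) (by
          intro b c h
          exact hinj (Subtype.mk.inj h))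
      have h2 : Nat.card {g : G // g ∈ ({1, z, x, z * x} : Finset G)} =
          ({1, z, x, z * x} : Finset G).card := by
        rw [Nat.card_eq_fintype_card, Fintype.card_coe]
      rw [h2] at h1
      exact h1.trans Finset.card_le_four
    · have hsub : ∀ b : ↥E, (((b : ↥(Q0.subgroupOf P0)) : ↥P0) : G) ∈ ({1, z} : Finset G) := by
        intro b
        simp only [Finset.mem_insert, Finset.mem_singleton]
        by_cases h : (((b : ↥(Q0.subgroupOf P0)) : ↥P0) : G) = 1
        · exact Or.inl h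
        · right
          by_contra hz'
          exact hex ⟨b, h, hz'⟩
      have h1 : Nat.card ↥E ≤ Nat.card {g : G // g ∈ ({1, z} : Finset G)} :=
        Nat.card_le_card_of_injective (fun b => ⟨_, hsub b⟩) (by
          intro b c h
          exact hinj (Subtype.mk.inj h))
      have h2 : Nat.card {g : G // g ∈ ({1, z} : Finset G)} = ({1, z} : Finset G).card := by
        rw [Nat.card_eq_fintype_card, Fintype.card_coe]
      rw [h2] at h1
      exact h1.trans (Finset.card_le_two.trans (by norm_num))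
  · exact ⟨(hcompl.symm.QuotientMulEquiv).trans (eH'.trans eH)⟩

end main

end Cfsg.Agent.Lib.Helper5.J3Fus
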