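import Mathlib
import Cfsg.Agent.Lib.Helper5.J3FusA
import Cfsg.Agent.Lib.Helper6.J3Group

/-!
# Elements of the matrix group `3·J₃` given by codes: words, subgroups, straight-line programs

`G₂ hω h2` is the group generated by the two standard generators (helper6), of order 150698880; its elements are
9 × 9 matrices over a field with four elements, coded by natural numbers below `2 ^ 162`, the product being `lmul`.
`elJ c` is the element with code `c` (when there is one: `Good c`); equal codes give equal elements and, the codes being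
canonical, different codes give different elements.
-/

set_option autoImplicit false

namespace Cfsg.Agent.Lib.Helper5.J3Fus

open Cfsg.Spor Cfsg.Agent.Lib.Helper6.J3 Cfsg.Agent.Lib.Helper6.F4

section

variable {F : Type*} [Field F] [Finite F] {ω : F} (hω : ω ^ 2 + ω + 1 = 0) (h2 : (2 : F) = 0)

/-- the code `c` is canonical and represents an element of the group -/
def Good (c : ℕ) : Prop := Canon c ∧ ∃ g : ↥(G₂ hω h2), ι F g.1 = den F ω c

open Classical in
/-- the element with code `c` -/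
noncomputable def elJ (c : ℕ) : ↥(G₂ hω h2) := if h : Good hω h2 c then h.2.choose else 1

variable {hω h2}

theorem ι_elJ {c : ℕ} (h : Good hω h2 c) : ι F (elJ hω h2 c).1 = den F ω c := by
  unfold elJ
  rw [dif_pos h]
  exact h.2.choose_spec

theorem eq_elJ {c : ℕ} {g : ↥(G₂ hω h2)} (hc : Canon c) (h : ι F g.1 = den F ω c) :
    g = elJ hω h2 c := by
  apply Subtype.ext
  apply ι_inj
  rw [h, ι_elJ ⟨hc, g, h⟩]

theorem canon_lone : Canon lone := lt_trans lone_lt (by norm_num)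

theorem good_lone : Good hω h2 lone :=
  ⟨canon_lone, 1, by rw [Subgroup.coe_one, map_one, den_one]⟩

theorem elJ_lone : elJ hω h2 lone = 1 := by
  symm
  apply eq_elJ canon_lone
  rw [Subgroup.coe_one, map_one, den_one]

theorem Good.mul {a b : ℕ} (ha : Good hω h2 a) (hb : Good hω h2 b) : Good hω h2 (lmul a b) := by
  refine ⟨lmul_lt a b, elJ hω h2 a * elJ hω h2 b, ?_⟩
  rw [Subgroup.coe_mul, map_mul, ι_elJ ha, ι_elJ hb, den_mul hω h2]

theorem elJ_lmul {a b : ℕ} (ha : Good hω h2 a) (hb : Good hω h2 b) :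
    elJ hω h2 (lmul a b) = elJ hω h2 a * elJ hω h2 b := by
  symm
  apply eq_elJ (lmul_lt a b)
  rw [Subgroup.coe_mul, map_mul, ι_elJ ha, ι_elJ hb, den_mul hω h2]

theorem elJ_inj {a b : ℕ} (ha : Good hω h2 a) (hb : Good hω h2 b)
    (h : elJ hω h2 a = elJ hω h2 b) : a = b := by
  apply den_inj hω h2 a b ha.1 hb.1
  rw [← ι_elJ ha, ← ι_elJ hb, h]

theorem good_ca : Good hω h2 ca :=
  ⟨by unfold Canon ca; norm_num, ⟨aΓ hω h2, aΓ_mem hω h2⟩, rfl⟩

theorem good_cb : Good hω h2 cb :=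
  ⟨by unfold Canon cb; norm_num, ⟨bΓ hω h2, bΓ_mem hω h2⟩, rfl⟩

theorem good_cai : Good hω h2 cai :=
  ⟨by unfold Canon cai; norm_num, ⟨(aΓ hω h2)⁻¹, inv_mem (aΓ_mem hω h2)⟩, rfl⟩

theorem good_cbi : Good hω h2 cbi :=
  ⟨by unfold Canon cbi; norm_num, ⟨(bΓ hω h2)⁻¹, inv_mem (bΓ_mem hω h2)⟩, rfl⟩

theorem elJ_inv_of {a b : ℕ} (ha : Good hω h2 a) (hb : Good hω h2 b) (h : lmul a b = lone) :
    elJ hω h2 b = (elJ hω h2 a)⁻¹ := by
  have := elJ_lmul ha hb
  rw [h, elJ_lone] at this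
  exact (inv_eq_of_mul_eq_one_right this.symm).symm

theorem good_getD {L : List ℕ} (h : ∀ c ∈ L, Good hω h2 c) (k : ℕ) : Good hω h2 (L.getD k lone) := by
  by_cases hk : k < L.length
  · rw [List.getD_eq_getElem _ _ hk]; exact h _ (List.getElem_mem hk)
  · rw [List.getD_eq_default _ _ (by omega)]; exact good_lone

/-! ### membership in subgroups -/

/-- the subgroup generated by the elements with codes in a list -/
noncomputable def cl (hω : ω ^ 2 + ω + 1 = 0) (h2 : (2 : F) = 0) (Gs : List ℕ) :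
    Subgroup ↥(G₂ hω h2) :=
  Subgroup.closure {x | ∃ c ∈ Gs, elJ hω h2 c = x}

theorem elJ_mem_cl {Gs : List ℕ} {c : ℕ} (h : c ∈ Gs) : elJ hω h2 c ∈ cl hω h2 Gs :=
  Subgroup.subset_closure ⟨c, h, rfl⟩

theorem cl_le {Gs : List ℕ} {K : Subgroup ↥(G₂ hω h2)} (h : ∀ c ∈ Gs, elJ hω h2 c ∈ K) :
    cl hω h2 Gs ≤ K := by
  unfold cl
  rw [Subgroup.closure_le]
  rintro _ ⟨c, hc, rfl⟩
  exact h c hc

/-- `c` represents an element of the subgroup `K` -/
def GoodIn (K : Subgroup ↥(G₂ hω h2)) (c : ℕ) : Prop := Good hω h2 c ∧ elJ hω h2 c ∈ K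

theorem goodIn_lone (K : Subgroup ↥(G₂ hω h2)) : GoodIn K lone :=
  ⟨good_lone, by rw [elJ_lone]; exact K.one_mem⟩

theorem GoodIn.mul {K : Subgroup ↥(G₂ hω h2)} {a b : ℕ} (ha : GoodIn K a) (hb : GoodIn K b) :
    GoodIn K (lmul a b) :=
  ⟨ha.1.mul hb.1, by rw [elJ_lmul ha.1 hb.1]; exact K.mul_mem ha.2 hb.2⟩

theorem GoodIn.mono {K K' : Subgroup ↥(G₂ hω h2)} (hK : K ≤ K') {a : ℕ} (ha : GoodIn K a) :
    GoodIn K' a := ⟨ha.1, hK ha.2⟩

theorem goodIn_getD {K : Subgroup ↥(G₂ hω h2)} {L : List ℕ} (h : ∀ c ∈ L, GoodIn K c) (k : ℕ) :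
    GoodIn K (L.getD k lone) := by
  by_cases hk : k < L.length
  · rw [List.getD_eq_getElem _ _ hk]; exact h _ (List.getElem_mem hk)
  · rw [List.getD_eq_default _ _ (by omega)]; exact goodIn_lone K

theorem goodIn_top {c : ℕ} (h : Good hω h2 c) : GoodIn (⊤ : Subgroup ↥(G₂ hω h2)) c :=
  ⟨h, Subgroup.mem_top _⟩

theorem goodIn_of_mem_gens {gs : List ℕ} (hgs : ∀ c ∈ gs, Good hω h2 c) :
    ∀ c ∈ gs, GoodIn (cl hω h2 gs) c :=
  fun c hc => ⟨hgs c hc, elJ_mem_cl hc⟩

end

/-! ### straight-line programs -/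

/-- straight-line programs: the list is kept reversed (newest element first); `len` is its length;
instruction `(a, b)` appends the product of the elements number `a` and `b` (numbered from the oldest) -/
def slpC : List ℕ → ℕ → List (ℕ × ℕ) → List ℕ
  | acc, _, [] => acc
  | acc, len, (a, b) :: prog =>
    strictN (lmul (acc.getD (len - 1 - a) lone) (acc.getD (len - 1 - b) lone)) fun x =>
      slpC (x :: acc) (len + 1) prog

/-- the elements of a list with the given numbers (the list being newest first, of length `n`) -/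
def pk (E : List ℕ) (n : ℕ) (idx : List ℕ) : List ℕ := idx.map fun k => E.getD (n - 1 - k) lone

/-- the initial list of a straight-line program over the generators `Gs` -/
def initOf (Gs : List ℕ) : List ℕ := Gs.reverse ++ [lone]

/-- the products of the elements of two lists -/
def prods (T L : List ℕ) : List ℕ := T.flatMap fun t => L.map fun s => lmul t s

section

variable {F : Type*} [Field F] [Finite F] {ω : F} {hω : ω ^ 2 + ω + 1 = 0} {h2 : (2 : F) = 0}

theorem goodIn_slpC {K : Subgroup ↥(G₂ hω h2)} : ∀ (prog : List (ℕ × ℕ)) (acc : List ℕ) (len : ℕ),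
    (∀ c ∈ acc, GoodIn K c) → ∀ c ∈ slpC acc len prog, GoodIn K c := by
  intro prog
  induction prog with
  | nil => intro acc len h; simpa [slpC] using h
  | cons ab prog ih =>
    intro acc len h
    obtain ⟨a, b⟩ := ab
    simp only [slpC, strictN_eq]
    apply ih
    intro c hc
    rcases List.mem_cons.1 hc with h1 | hc
    · rw [h1]; exact (goodIn_getD h _).mul (goodIn_getD h _)
    · exact h c hc

theorem goodIn_pk {K : Subgroup ↥(G₂ hω h2)} {E : List ℕ} (h : ∀ c ∈ E, GoodIn K c) (n : ℕ)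
    (idx : List ℕ) : ∀ c ∈ pk E n idx, GoodIn K c := by
  intro c hc
  unfold pk at hc
  rw [List.mem_map] at hc
  obtain ⟨k, _, rfl⟩ := hc
  exact goodIn_getD h _

theorem goodIn_initOf {Gs : List ℕ} (hG : ∀ c ∈ Gs, Good hω h2 c) :
    ∀ c ∈ initOf Gs, GoodIn (cl hω h2 Gs) c := by
  intro c hc
  unfold initOf at hc
  rw [List.mem_append, List.mem_reverse, List.mem_singleton] at hc
  rcases hc with h | h
  · exact ⟨hG c h, elJ_mem_cl h⟩
  · rw [h]; exact goodIn_lone _

theorem goodIn_initOf' {K : Subgroup ↥(G₂ hω h2)} {Gs : List ℕ} (hG : ∀ c ∈ Gs, GoodIn K c) :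
    ∀ c ∈ initOf Gs, GoodIn K c := by
  intro c hc
  unfold initOf at hc
  rw [List.mem_append, List.mem_reverse, List.mem_singleton] at hc
  rcases hc with h | h
  · exact hG c h
  · rw [h]; exact goodIn_lone _

theorem mem_prods {T L : List ℕ} {c : ℕ} : c ∈ prods T L ↔ ∃ t ∈ T, ∃ s ∈ L, c = lmul t s := by
  unfold prods
  rw [List.mem_flatMap]
  constructor
  · rintro ⟨t, ht, hc⟩
    rw [List.mem_map] at hc
    obtain ⟨s, hs, rfl⟩ := hc
    exact ⟨t, ht, s, hs, rfl⟩
  · rintro ⟨t, ht, s, hs, rfl⟩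
    exact ⟨t, ht, List.mem_map.2 ⟨s, hs, rfl⟩⟩

theorem goodIn_prods {K : Subgroup ↥(G₂ hω h2)} {T L : List ℕ} (hT : ∀ c ∈ T, GoodIn K c)
    (hL : ∀ c ∈ L, GoodIn K c) : ∀ c ∈ prods T L, GoodIn K c := by
  intro c hc
  obtain ⟨t, ht, s, hs, rfl⟩ := mem_prods.1 hc
  exact (hT t ht).mul (hL s hs)

end

end Cfsg.Agent.Lib.Helper5.J3Fus
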