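import Mathlib
import Cfsg.Agent.Lib.Helper5.J3FusB

/-!
# The checks for the 2-fusion system of `J₃`, and their soundness

All the checks are computations with codes: products `lmul`, comparisons, and searches in binary trees.
-/

set_option autoImplicit false

namespace Cfsg.Agent.Lib.Helper5.J3Fus

open Cfsg.Spor Cfsg.Agent.Lib.Helper6.J3 Cfsg.Agent.Lib.Helper6.F4

/-! ### the checks -/

/-- the tree `T` contains the identity and the products of the members of `gs` and `L` -/
noncomputable def enumChk (gs L : List ℕ) (T : BT) : Bool :=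
  T.has lone && gs.all fun g => L.all fun c => strictN (lmul g c) fun x => T.has x

/-- the list is strictly increasing and has `n` members, all above `prev` -/
def incLen : List ℕ → ℕ → ℕ → Bool
  | [], _, n => Nat.beq n 0
  | a :: L, prev, n =>
    match n with
    | 0 => false
    | m + 1 => Nat.blt prev a && incLen L a m

/-- the list is strictly increasing and has `n` members -/
def incLen0 : List ℕ → ℕ → Bool
  | [], n => Nat.beq n 0
  | a :: L, n =>
    match n with
    | 0 => false
    | m + 1 => incLen L a m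

/-- the members of `L` are different, `n` in number: by sorting them with a tree -/
noncomputable def ndChk (L : List ℕ) (T : BT) (n : ℕ) : Bool :=
  incLen0 (BT.keys T) n && Nat.beq (lenS L 0) n

/-- the `h` are involutions commuting with `z` and conjugating the members of `gQ` into the tree -/
noncomputable def hsChk (Hs gQ : List ℕ) (TQ : BT) (z : ℕ) : Bool :=
  Hs.all fun h => Nat.beq (lmul h h) lone && Nat.beq (lmul h z) (lmul z h) &&
    gQ.all fun x => strictN (lmul (lmul h x) h) fun y => TQ.has y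

/-- `r w = w z` for the corresponding members `r`, `w` of the two lists -/
def conjChk (z : ℕ) : List ℕ → List ℕ → Bool
  | [], _ => true
  | _ :: _, [] => false
  | r :: Rs, w :: Ws => Nat.beq (lmul r w) (lmul w z) && conjChk z Rs Ws

/-- `z` commutes with the members of the list -/
def commChk (z : ℕ) (Rs : List ℕ) : Bool := Rs.all fun r => Nat.beq (lmul z r) (lmul r z)

/-- one entry of a table: `c` is `1` or `z`, or does not commute with a member of `gs` -/
def kOne (z : ℕ) (gs : List ℕ) (c e : ℕ) : Bool :=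
  match e with
  | 0 => Nat.beq c lone || Nat.beq c z
  | j + 1 => strictN (gs.getD j lone) fun q => !(Nat.beq (lmul c q) (lmul q c))

/-- the table -/
def kChk (z : ℕ) (gs : List ℕ) : List ℕ → List ℕ → Bool
  | [], _ => true
  | _ :: _, [] => false
  | c :: L, e :: T => kOne z gs c e && kChk z gs L T

/-- the traversal of the class of `z`: `0` goes back, `1` conjugates by the first generator, `2` by the second;
the steps are the digits in base 4 of the numbers of a list, each with a leading digit `1` as a sentinel -/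
noncomputable def dfs : ℕ → ℕ → List ℕ → List ℕ → BT → BT
  | 0, _, _, _, t => t
  | n + 1, cur, rest, st, t =>
    match Nat.beq cur 1 with
    | true =>
      match rest with
      | [] => t
      | c :: rest' => dfs n c rest' st t
    | false =>
      match st with
      | [] => t
      | x :: st' =>
        match cur % 4 with
        | 0 => strictN (cur / 4) fun p => dfs n p rest st' t
        | 1 => strictN (lmul (lmul ca x) cai) fun y => BT.force (t.ins y) fun t' =>
            strictN (cur / 4) fun p => dfs n p rest (y :: x :: st') t'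
        | _ => strictN (lmul (lmul cb x) cbi) fun y => BT.force (t.ins y) fun t' =>
            strictN (cur / 4) fun p => dfs n p rest (y :: x :: st') t'

/-! ### soundness, for numbers -/

theorem incLen_sound : ∀ (L : List ℕ) (prev n : ℕ), incLen L prev n = true →
    L.Pairwise (· < ·) ∧ (∀ x ∈ L, prev < x) ∧ L.length = n
  | [], prev, n, h => by
    unfold incLen at h
    have : n = 0 := Nat.eq_of_beq_eq_true h
    simp [this]
  | a :: L, prev, 0, h => by simp [incLen] at h
  | a :: L, prev, m + 1, h => by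
    unfold incLen at h
    rw [Bool.and_eq_true] at h
    have hpa : prev < a := by simpa [Nat.blt_eq] using h.1
    obtain ⟨h1, h2, h3⟩ := incLen_sound L a m h.2
    refine ⟨List.Pairwise.cons h2 h1, ?_, by simp [h3]⟩
    intro x hx
    rcases List.mem_cons.1 hx with rfl | hx
    · exact hpa
    · exact lt_trans hpa (h2 x hx)

theorem incLen0_sound : ∀ (L : List ℕ) (n : ℕ), incLen0 L n = true → L.Nodup ∧ L.length = n
  | [], n, h => by
    unfold incLen0 at h
    have : n = 0 := Nat.eq_of_beq_eq_true h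
    simp [this]
  | a :: L, 0, h => by simp [incLen0] at h
  | a :: L, m + 1, h => by
    unfold incLen0 at h
    obtain ⟨h1, h2, h3⟩ := incLen_sound L a m h
    refine ⟨?_, by simp [h3]⟩
    have : (a :: L).Pairwise (· < ·) := List.Pairwise.cons h2 h1
    exact this.imp (fun hab => Nat.ne_of_lt hab)

theorem nd_sound {L : List ℕ} {n : ℕ} (h : ndChk L (BT.ofList L BT.leaf) n = true) :
    L.Nodup ∧ L.length = n := by
  classical
  unfold ndChk at h
  rw [Bool.and_eq_true] at h
  obtain ⟨hnd, hlenK⟩ := incLen0_sound _ _ h.1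
  have hlen : L.length = n := by
    have := Nat.eq_of_beq_eq_true h.2
    rw [lenS_eq] at this
    simpa using this
  refine ⟨?_, hlen⟩
  set K := BT.keys (BT.ofList L BT.leaf) with hK
  have hset : ∀ x, x ∈ K ↔ x ∈ L := by
    intro x
    rw [hK, BT.mem_keys, BT.mem_ofList]
    simp [BT.Mem]
  have hfin : K.toFinset = L.toFinset := by
    ext x; simp [hset]
  have hcard : L.toFinset.card = L.length := by
    rw [← hfin, List.toFinset_card_of_nodup hnd, hlenK, hlen]
  exact (Multiset.toFinset_card_eq_card_iff_nodup (m := (L : Multiset ℕ))).1 hcard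

theorem conj_sound {z : ℕ} : ∀ {Rs Ws : List ℕ}, conjChk z Rs Ws = true →
    ∀ r ∈ Rs, ∃ w ∈ Ws, lmul r w = lmul w z
  | [], _, _ => by simp
  | _ :: _, [], h => by simp [conjChk] at h
  | r :: Rs, w :: Ws, h => by
    unfold conjChk at h
    rw [Bool.and_eq_true] at h
    intro r' hr'
    rcases List.mem_cons.1 hr' with rfl | hr'
    · exact ⟨w, List.mem_cons_self, Nat.eq_of_beq_eq_true h.1⟩
    · obtain ⟨w', hw', e⟩ := conj_sound h.2 r' hr'
      exact ⟨w', List.mem_cons_of_mem _ hw', e⟩

theorem k_sound {z : ℕ} {gs : List ℕ} : ∀ {L T : List ℕ}, kChk z gs L T = true →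
    ∀ c ∈ L, c = lone ∨ c = z ∨ ∃ j : ℕ, lmul c (gs.getD j lone) ≠ lmul (gs.getD j lone) c
  | [], _, _ => by simp
  | _ :: _, [], h => by simp [kChk] at h
  | c :: L, e :: T, h => by
    unfold kChk at h
    rw [Bool.and_eq_true] at h
    intro c' hc'
    rcases List.mem_cons.1 hc' with rfl | hc'
    · have h1 := h.1
      unfold kOne at h1
      cases e with
      | zero =>
        simp only [Bool.or_eq_true] at h1
        rcases h1 with h1 | h1
        · exact Or.inl (Nat.eq_of_beq_eq_true h1)
        · exact Or.inr (Or.inl (Nat.eq_of_beq_eq_true h1))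
      | succ j =>
        simp only [strictN_eq, Bool.not_eq_true'] at h1
        exact Or.inr (Or.inr ⟨j, Nat.ne_of_beq_eq_false h1⟩)
    · exact k_sound h.2 c' hc'

theorem dfs_sound (P : ℕ → Prop) (hPa : ∀ x, P x → P (lmul (lmul ca x) cai))
    (hPb : ∀ x, P x → P (lmul (lmul cb x) cbi)) : ∀ (n cur : ℕ) (rest st : List ℕ) (t : BT),
    (∀ x ∈ st, P x) → (∀ x, BT.Mem x t → P x) → ∀ x, BT.Mem x (dfs n cur rest st t) → P x := by
  intro n
  induction n with
  | zero => intro cur rest st t _ ht; simpa [dfs] using ht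
  | succ n ih =>
    intro cur rest st t hst ht
    unfold dfs
    split
    · cases rest with
      | nil => simpa using ht
      | cons c rest' => exact ih _ _ _ _ hst ht
    · cases st with
      | nil => simpa using ht
      | cons x st' =>
        have hx : P x := hst x List.mem_cons_self
        have hst' : ∀ y ∈ st', P y := fun y hy => hst y (List.mem_cons_of_mem _ hy)
        simp only [strictN_eq, BT.force_eq]
        split
        · exact ih _ _ _ _ hst' ht
        · apply ih
          · intro y hy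
            rcases List.mem_cons.1 hy with rfl | hy
            · exact hPa x hx
            · exact hst y hy
          · intro y hy
            rcases BT.mem_ins.1 hy with hy | rfl
            · exact ht y hy
            · exact hPa x hx
        · apply ih
          · intro y hy
            rcases List.mem_cons.1 hy with rfl | hy
            · exact hPb x hx
            · exact hst y hy
          · intro y hy
            rcases BT.mem_ins.1 hy with hy | rfl
            · exact ht y hy
            · exact hPb x hx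

/-! ### soundness, for elements of the group -/

section

variable {F : Type*} [Field F] [Finite F] {ω : F} {hω : ω ^ 2 + ω + 1 = 0} {h2 : (2 : F) = 0}

theorem enum_sound {gs L : List ℕ} (hgs : ∀ c ∈ gs, Good hω h2 c) (hL : ∀ c ∈ L, Good hω h2 c)
    (h : enumChk gs L (BT.ofList L BT.leaf) = true) :
    ∀ x ∈ cl hω h2 gs, ∃ c ∈ L, x = elJ hω h2 c := by
  unfold enumChk at h
  rw [Bool.and_eq_true, List.all_eq_true] at h
  obtain ⟨h1, h3⟩ := h
  have key : ∀ x ∈ Submonoid.closure {x : ↥(G₂ hω h2) | ∃ c ∈ gs, elJ hω h2 c = x},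
      ∃ c ∈ L, x = elJ hω h2 c := by
    intro x hx
    induction hx using Submonoid.closure_induction_left with
    | one => exact ⟨lone, BT.mem_of_has_ofList h1, elJ_lone.symm⟩
    | mul_left g hg y _ ih =>
      obtain ⟨a, ha, rfl⟩ := hg
      obtain ⟨c, hc, rfl⟩ := ih
      have h4 := h3 a ha
      rw [List.all_eq_true] at h4
      have h5 := h4 c hc
      rw [strictN_eq] at h5
      exact ⟨lmul a c, BT.mem_of_has_ofList h5, (elJ_lmul (hgs a ha) (hL c hc)).symm⟩
  intro x hx
  apply key
  have e : (Subgroup.closure {x : ↥(G₂ hω h2) | ∃ c ∈ gs, elJ hω h2 c = x}).toSubmonoid =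
      Submonoid.closure {x : ↥(G₂ hω h2) | ∃ c ∈ gs, elJ hω h2 c = x} :=
    Subgroup.closure_toSubmonoid_of_finite
  rw [← e]
  exact hx

theorem card_of_enum {K : Subgroup ↥(G₂ hω h2)} {L : List ℕ} (hL : ∀ c ∈ L, GoodIn K c)
    (henum : ∀ x ∈ K, ∃ c ∈ L, x = elJ hω h2 c) (hnd : L.Nodup) : Nat.card ↥K = L.length := by
  let f : Fin L.length → ↥K := fun k => ⟨elJ hω h2 (L[k.1]'k.2), (hL _ (List.getElem_mem k.2)).2⟩
  have hinj : Function.Injective f := by
    intro k k' e
    have e1 : elJ hω h2 (L[k.1]'k.2) = elJ hω h2 (L[k'.1]'k'.2) := congrArg Subtype.val e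
    have e2 := elJ_inj (hL _ (List.getElem_mem k.2)).1 (hL _ (List.getElem_mem k'.2)).1 e1
    exact Fin.ext ((hnd.getElem_inj_iff).1 e2)
  have hsurj : Function.Surjective f := by
    rintro ⟨x, hx⟩
    obtain ⟨c, hc, rfl⟩ := henum x hx
    obtain ⟨k, hk, rfl⟩ := List.getElem_of_mem hc
    exact ⟨⟨k, hk⟩, rfl⟩
  have := Nat.card_congr (Equiv.ofBijective f ⟨hinj, hsurj⟩)
  rw [← this, Nat.card_eq_fintype_card, Fintype.card_fin]

/-- the coset decomposition: every element of `cl Hs` is a product of a member of `T` and an element of `K` -/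
theorem cos_sound {Hs T LS : List ℕ} {K : Subgroup ↥(G₂ hω h2)} (hHs : ∀ c ∈ Hs, Good hω h2 c)
    (hT : ∀ c ∈ T, Good hω h2 c) (hLS : ∀ c ∈ LS, GoodIn K c)
    (h : enumChk Hs T (BT.ofList (prods T LS) BT.leaf) = true) :
    ∀ x ∈ cl hω h2 Hs, ∃ t ∈ T, ∃ y ∈ K, x = elJ hω h2 t * y := by
  unfold enumChk at h
  rw [Bool.and_eq_true, List.all_eq_true] at h
  obtain ⟨h1, h3⟩ := h
  have key : ∀ x ∈ Submonoid.closure {x : ↥(G₂ hω h2) | ∃ c ∈ Hs, elJ hω h2 c = x},
      ∃ t ∈ T, ∃ y ∈ K, x = elJ hω h2 t * y := by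
    intro x hx
    induction hx using Submonoid.closure_induction_left with
    | one =>
      obtain ⟨t, ht, s, hs, e⟩ := mem_prods.1 (BT.mem_of_has_ofList h1)
      refine ⟨t, ht, elJ hω h2 s, (hLS s hs).2, ?_⟩
      rw [← elJ_lmul (hT t ht) (hLS s hs).1, ← e, elJ_lone]
    | mul_left g hg y _ ih =>
      obtain ⟨a, ha, rfl⟩ := hg
      obtain ⟨t, ht, y, hy, rfl⟩ := ih
      have h4 := h3 a ha
      rw [List.all_eq_true] at h4
      have h5 := h4 t ht
      rw [strictN_eq] at h5
      obtain ⟨t', ht', s, hs, e⟩ := mem_prods.1 (BT.mem_of_has_ofList h5)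
      refine ⟨t', ht', elJ hω h2 s * y, K.mul_mem (hLS s hs).2 hy, ?_⟩
      rw [← mul_assoc, ← elJ_lmul (hHs a ha) (hT t ht), e, elJ_lmul (hT t' ht') (hLS s hs).1,
        mul_assoc]
  intro x hx
  apply key
  have e : (Subgroup.closure {x : ↥(G₂ hω h2) | ∃ c ∈ Hs, elJ hω h2 c = x}).toSubmonoid =
      Submonoid.closure {x : ↥(G₂ hω h2) | ∃ c ∈ Hs, elJ hω h2 c = x} :=
    Subgroup.closure_toSubmonoid_of_finite
  rw [← e]
  exact hx

theorem hs_sound {Hs gQ LQ : List ℕ} {z : ℕ} {K : Subgroup ↥(G₂ hω h2)}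
    (hHs : ∀ c ∈ Hs, Good hω h2 c) (hgQ : ∀ c ∈ gQ, Good hω h2 c) (hz : Good hω h2 z)
    (hLQ : ∀ c ∈ LQ, GoodIn K c) (h : hsChk Hs gQ (BT.ofList LQ BT.leaf) z = true) :
    ∀ a ∈ Hs, elJ hω h2 a * elJ hω h2 a = 1 ∧ elJ hω h2 a * elJ hω h2 z = elJ hω h2 z * elJ hω h2 a ∧
      ∀ x ∈ gQ, elJ hω h2 a * elJ hω h2 x * elJ hω h2 a ∈ K := by
  unfold hsChk at h
  rw [List.all_eq_true] at h
  intro a ha
  have h1 := h a ha
  rw [Bool.and_eq_true, Bool.and_eq_true, List.all_eq_true] at h1
  obtain ⟨⟨h3, h4⟩, h5⟩ := h1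
  have ga := hHs a ha
  refine ⟨?_, ?_, ?_⟩
  · rw [← elJ_lmul ga ga, Nat.eq_of_beq_eq_true h3, elJ_lone]
  · rw [← elJ_lmul ga hz, ← elJ_lmul hz ga, Nat.eq_of_beq_eq_true h4]
  · intro x hx
    have h6 := h5 x hx
    rw [strictN_eq] at h6
    have h7 := BT.mem_of_has_ofList h6
    rw [← elJ_lmul ga (hgQ x hx), ← elJ_lmul (ga.mul (hgQ x hx)) ga]
    exact (hLQ _ h7).2

theorem comm_sound {z : ℕ} {Rs : List ℕ} (hz : Good hω h2 z) (hRs : ∀ c ∈ Rs, Good hω h2 c)
    (h : commChk z Rs = true) :
    ∀ r ∈ Rs, elJ hω h2 z * elJ hω h2 r = elJ hω h2 r * elJ hω h2 z := by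
  unfold commChk at h
  rw [List.all_eq_true] at h
  intro r hr
  rw [← elJ_lmul hz (hRs r hr), ← elJ_lmul (hRs r hr) hz, Nat.eq_of_beq_eq_true (h r hr)]

theorem conj_sound' {z : ℕ} {Rs Ws : List ℕ} (hz : Good hω h2 z) (hRs : ∀ c ∈ Rs, Good hω h2 c)
    (hWs : ∀ c ∈ Ws, Good hω h2 c) (h : conjChk z Rs Ws = true) :
    ∀ r ∈ Rs, ∃ w : ↥(G₂ hω h2), elJ hω h2 r = w * elJ hω h2 z * w⁻¹ := by
  intro r hr
  obtain ⟨w, hw, e⟩ := conj_sound h r hr
  refine ⟨elJ hω h2 w, ?_⟩
  have := congrArg (elJ hω h2) e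
  rw [elJ_lmul (hRs r hr) (hWs w hw), elJ_lmul (hWs w hw) hz] at this
  rw [← this]
  group

theorem k_sound' {z : ℕ} {gs L T : List ℕ} (hz : Good hω h2 z) (hgs : ∀ c ∈ gs, Good hω h2 c)
    (hL : ∀ c ∈ L, Good hω h2 c) (h : kChk z gs L T = true) :
    ∀ c ∈ L, elJ hω h2 c = 1 ∨ elJ hω h2 c = elJ hω h2 z ∨
      ∃ q ∈ cl hω h2 gs, elJ hω h2 c * q ≠ q * elJ hω h2 c := by
  intro c hc
  rcases k_sound h c hc with rfl | rfl | ⟨j, hne⟩
  · exact Or.inl elJ_lone
  · exact Or.inr (Or.inl rfl)
  · right; right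
    have hq : GoodIn (cl hω h2 gs) (gs.getD j lone) := goodIn_getD (goodIn_of_mem_gens hgs) j
    refine ⟨_, hq.2, ?_⟩
    intro e
    apply hne
    apply elJ_inj ((hL c hc).mul hq.1) (hq.1.mul (hL c hc))
    rw [elJ_lmul (hL c hc) hq.1, elJ_lmul hq.1 (hL c hc), e]

end

end Cfsg.Agent.Lib.Helper5.J3Fus
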