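import Mathlib
import Cfsg.Agent.Lib.Helper5.J3FusC

/-!
# The combined check for the 2-fusion system of `J₃`
-/

set_option autoImplicit false

namespace Cfsg.Agent.Lib.Helper5.J3Fus

open Cfsg.Agent.Lib.Helper6.J3 Cfsg.Agent.Lib.Helper6.F4

/-- all the checks but the one of the class of `z` -/
noncomputable def allChk (Hs Ws Rs Tc LS Qs LP : List ℕ) (TS TQ TP : BT) (zz : ℕ) (t9 t8 : List ℕ) : Bool :=
  Nat.beq zz ca && Nat.beq (lmul ca ca) lone && hsChk Hs (ca :: Qs) TQ ca &&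
    enumChk (ca :: Rs) LS TS && ndChk LS TS 128 && commChk ca Rs && conjChk ca Rs Ws &&
    kChk ca (ca :: Rs) LS t9 && enumChk Hs Tc TP && ndChk LP TP 1920 && kChk ca (ca :: Qs) LP t8

/-- the data of the check: four straight-line programs, the numbers of the elements to pick, two tables -/
structure FusData where
  prog1 : List (ℕ × ℕ)
  n1 : ℕ
  ih : List ℕ
  iw : List ℕ
  prog2 : List (ℕ × ℕ)
  n2 : ℕ
  jz : ℕ
  jr : List ℕ
  jt : List ℕ
  prog3 : List (ℕ × ℕ)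
  n3 : ℕ
  kLS : List ℕ
  kq : List ℕ
  prog4 : List (ℕ × ℕ)
  n4 : ℕ
  kLQ : List ℕ
  t9 : List ℕ
  t8 : List ℕ

/-- the combined check, with forcing of the intermediate lists -/
noncomputable def fusChkOf (D : FusData) : Bool :=
  forceL (slpC (initOf [ca, cb, cbi]) 4 D.prog1) fun E1 =>
  forceL (pk E1 D.n1 D.ih) fun Hs =>
  forceL (pk E1 D.n1 D.iw) fun Ws =>
  forceL (slpC (initOf Hs) 6 D.prog2) fun E2 =>
  forceL (pk E2 D.n2 D.jr) fun Rs =>
  forceL (pk E2 D.n2 D.jt) fun Tc =>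
  forceL (slpC (initOf (ca :: Rs)) 5 D.prog3) fun E3 =>
  forceL (pk E3 D.n3 D.kLS) fun LS =>
  forceL (pk E3 D.n3 D.kq) fun Qs =>
  forceL (slpC (initOf (ca :: Qs)) 6 D.prog4) fun E4 =>
  forceL (pk E4 D.n4 D.kLQ) fun LQ =>
  forceL (prods Tc LS) fun LP =>
  BT.force (BT.ofList LS BT.leaf) fun TS =>
  BT.force (BT.ofList LQ BT.leaf) fun TQ =>
  BT.force (BT.ofList LP BT.leaf) fun TP =>
    allChk Hs Ws Rs Tc LS Qs LP TS TQ TP (E2.getD (D.n2 - 1 - D.jz) lone) D.t9 D.t8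

/-- the check of the class of `z`: the traversal finds `n` different conjugates -/
noncomputable def clsChkOf (fuel : ℕ) (prog : List ℕ) (n : ℕ) : Bool :=
  incLen0 (BT.keys (dfs fuel 1 prog [ca] (BT.node BT.leaf ca BT.leaf))) n

end Cfsg.Agent.Lib.Helper5.J3Fus
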