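import Mathlib
import Cfsg.Agent.Lib.Helper5.J3FusE

/-!
# The checks for the centraliser of an involution of `J₃`, and their soundness

* `invChk`: each member of a list is the identity, or not an involution, or conjugate to `z` by a given element.
* `pairChk`: two members `x`, `y` of a list commute or `x y = z y x`; commuting involutions outside `{1, z}` are equal
  or differ by `z`.
* `sqChk`: the squares of the members of a list are `1` or `z`.
* `a5Chk`: `a ^ 3 = b ^ 5 = (a b) ^ 2 = 1` and `a ≠ 1`.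
-/

set_option autoImplicit false

namespace Cfsg.Agent.Lib.Helper5.J3Fus

open Cfsg.Spor Cfsg.Agent.Lib.Helper6.J3 Cfsg.Agent.Lib.Helper6.F4

/-- one entry of the table of involutions -/
def invOne (z : ℕ) (Ws : List ℕ) (c e : ℕ) : Bool :=
  match e with
  | 0 => Nat.beq c lone || !(Nat.beq (lmul c c) lone)
  | j + 1 => strictN (Ws.getD j lone) fun w => Nat.beq (lmul c w) (lmul w z)

/-- the table of involutions -/
def invChk (z : ℕ) (Ws : List ℕ) : List ℕ → List ℕ → Bool
  | [], _ => true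
  | _ :: _, [] => false
  | c :: L, e :: T => invOne z Ws c e && invChk z Ws L T

/-- the check for a pair -/
def pairOne (z x y : ℕ) : Bool :=
  strictN (lmul x y) fun p => strictN (lmul y x) fun q =>
    match Nat.beq p q with
    | true => !(Nat.beq (lmul x x) lone) || !(Nat.beq (lmul y y) lone) || Nat.beq x lone ||
        Nat.beq x z || Nat.beq y lone || Nat.beq y z || Nat.beq y x || Nat.beq y (lmul z x)
    | false => Nat.beq p (lmul z q)

/-- the check for all pairs -/
def pairChk (z : ℕ) (L : List ℕ) : Bool := L.all fun x => L.all fun y => pairOne z x y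

/-- the squares are `1` or `z` -/
def sqChk (z : ℕ) (L : List ℕ) : Bool :=
  L.all fun x => strictN (lmul x x) fun s => Nat.beq s lone || Nat.beq s z

/-- some two members do not commute -/
def naChk (L : List ℕ) : Bool := L.any fun x => L.any fun y => !(Nat.beq (lmul x y) (lmul y x))

/-- `a ^ 3 = b ^ 5 = (a b) ^ 2 = 1` and `a ≠ 1` -/
def a5Chk (a b : ℕ) : Bool :=
  Nat.beq (lmul a (lmul a a)) lone && Nat.beq (lmul b (lmul b (lmul b (lmul b b)))) lone &&
    Nat.beq (lmul (lmul a b) (lmul a b)) lone && !(Nat.beq a lone)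

/-! ### soundness, for numbers -/

theorem inv_sound {z : ℕ} {Ws : List ℕ} : ∀ {L T : List ℕ}, invChk z Ws L T = true →
    ∀ c ∈ L, c = lone ∨ lmul c c ≠ lone ∨
      ∃ j : ℕ, lmul c (Ws.getD j lone) = lmul (Ws.getD j lone) z
  | [], _, _ => by simp
  | _ :: _, [], h => by simp [invChk] at h
  | c :: L, e :: T, h => by
    unfold invChk at h
    rw [Bool.and_eq_true] at h
    intro c' hc'
    rcases List.mem_cons.1 hc' with rfl | hc'
    · have h1 := h.1
      unfold invOne at h1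
      cases e with
      | zero =>
        simp only [Bool.or_eq_true, Bool.not_eq_true'] at h1
        rcases h1 with h1 | h1
        · exact Or.inl (Nat.eq_of_beq_eq_true h1)
        · exact Or.inr (Or.inl (Nat.ne_of_beq_eq_false h1))
      | succ j =>
        simp only [strictN_eq] at h1
        exact Or.inr (Or.inr ⟨j, Nat.eq_of_beq_eq_true h1⟩)
    · exact inv_sound h.2 c' hc'

/-! ### soundness, for elements of the group -/

section

variable {F : Type*} [Field F] [Finite F] {ω : F} {hω : ω ^ 2 + ω + 1 = 0} {h2 : (2 : F) = 0}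

theorem inv_sound' {z : ℕ} {Ws L T : List ℕ} (hz : Good hω h2 z) (hWs : ∀ c ∈ Ws, Good hω h2 c)
    (hL : ∀ c ∈ L, Good hω h2 c) (h : invChk z Ws L T = true) :
    ∀ c ∈ L, elJ hω h2 c = 1 ∨ elJ hω h2 c * elJ hω h2 c ≠ 1 ∨
      ∃ w : ↥(G₂ hω h2), elJ hω h2 c = w * elJ hω h2 z * w⁻¹ := by
  intro c hc
  have gc := hL c hc
  rcases inv_sound h c hc with rfl | hne | ⟨j, e⟩
  · exact Or.inl elJ_lone
  · right; left
    intro e
    apply hne
    apply elJ_inj (gc.mul gc) good_lone
    rw [elJ_lmul gc gc, e, elJ_lone]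
  · right; right
    have gw : Good hω h2 (Ws.getD j lone) := good_getD hWs j
    refine ⟨elJ hω h2 (Ws.getD j lone), ?_⟩
    have := congrArg (elJ hω h2) e
    rw [elJ_lmul gc gw, elJ_lmul gw hz] at this
    rw [← this]
    group

theorem pair_sound {z : ℕ} {L : List ℕ} (hz : Good hω h2 z) (hz1 : z ≠ lone)
    (hL : ∀ c ∈ L, Good hω h2 c) (h : pairChk z L = true) :
    ∀ x ∈ L, ∀ y ∈ L,
      (elJ hω h2 x * elJ hω h2 y = elJ hω h2 y * elJ hω h2 x ∨
        elJ hω h2 x * elJ hω h2 y = elJ hω h2 z * (elJ hω h2 y * elJ hω h2 x)) ∧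
      (elJ hω h2 x * elJ hω h2 x = 1 → elJ hω h2 y * elJ hω h2 y = 1 →
        elJ hω h2 x * elJ hω h2 y = elJ hω h2 y * elJ hω h2 x →
        elJ hω h2 x = 1 ∨ elJ hω h2 x = elJ hω h2 z ∨ elJ hω h2 y = 1 ∨
          elJ hω h2 y = elJ hω h2 z ∨ elJ hω h2 y = elJ hω h2 x ∨
          elJ hω h2 y = elJ hω h2 z * elJ hω h2 x) := by
  unfold pairChk at h
  rw [List.all_eq_true] at h
  intro x hx y hy
  have h1 := h x hx
  rw [List.all_eq_true] at h1
  have h3 := h1 y hy
  unfold pairOne at h3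
  simp only [strictN_eq] at h3
  have gx := hL x hx
  have gy := hL y hy
  have hz1' : elJ hω h2 z ≠ 1 := by
    intro e
    rw [← elJ_lone] at e
    exact hz1 (elJ_inj hz good_lone e)
  split at h3
  · rename_i hpq
    have hcomm : elJ hω h2 x * elJ hω h2 y = elJ hω h2 y * elJ hω h2 x := by
      rw [← elJ_lmul gx gy, ← elJ_lmul gy gx, Nat.eq_of_beq_eq_true hpq]
    refine ⟨Or.inl hcomm, ?_⟩
    intro hx2 hy2 _
    simp only [Bool.or_eq_true, Bool.not_eq_true'] at h3
    rcases h3 with ((((((h3 | h3) | h3) | h3) | h3) | h3) | h3) | h3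
    · exfalso
      apply Nat.ne_of_beq_eq_false h3
      apply elJ_inj (gx.mul gx) good_lone
      rw [elJ_lmul gx gx, hx2, elJ_lone]
    · exfalso
      apply Nat.ne_of_beq_eq_false h3
      apply elJ_inj (gy.mul gy) good_lone
      rw [elJ_lmul gy gy, hy2, elJ_lone]
    · left; rw [Nat.eq_of_beq_eq_true h3, elJ_lone]
    · right; left; rw [Nat.eq_of_beq_eq_true h3]
    · right; right; left; rw [Nat.eq_of_beq_eq_true h3, elJ_lone]
    · right; right; right; left; rw [Nat.eq_of_beq_eq_true h3]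
    · right; right; right; right; left; rw [Nat.eq_of_beq_eq_true h3]
    · right; right; right; right; right
      rw [Nat.eq_of_beq_eq_true h3, elJ_lmul hz gx]
  · have e := Nat.eq_of_beq_eq_true h3
    have hzc : elJ hω h2 x * elJ hω h2 y = elJ hω h2 z * (elJ hω h2 y * elJ hω h2 x) := by
      rw [← elJ_lmul gx gy, e, elJ_lmul hz (gy.mul gx), elJ_lmul gy gx]
    refine ⟨Or.inr hzc, ?_⟩
    intro _ _ hc
    exfalso
    apply hz1'
    rw [hc] at hzc
    have : elJ hω h2 z * (elJ hω h2 y * elJ hω h2 x) = 1 * (elJ hω h2 y * elJ hω h2 x) := by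
      rw [one_mul]; exact hzc.symm
    exact mul_right_cancel this

theorem sq_sound {z : ℕ} {L : List ℕ} (hL : ∀ c ∈ L, Good hω h2 c)
    (h : sqChk z L = true) :
    ∀ x ∈ L, elJ hω h2 x * elJ hω h2 x = 1 ∨ elJ hω h2 x * elJ hω h2 x = elJ hω h2 z := by
  unfold sqChk at h
  rw [List.all_eq_true] at h
  intro x hx
  have h1 := h x hx
  simp only [strictN_eq, Bool.or_eq_true] at h1
  have gx := hL x hx
  rcases h1 with h1 | h1
  · left; rw [← elJ_lmul gx gx, Nat.eq_of_beq_eq_true h1, elJ_lone]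
  · right; rw [← elJ_lmul gx gx, Nat.eq_of_beq_eq_true h1]

theorem na_sound {L : List ℕ} (hL : ∀ c ∈ L, Good hω h2 c) (h : naChk L = true) :
    ∃ x ∈ L, ∃ y ∈ L, elJ hω h2 x * elJ hω h2 y ≠ elJ hω h2 y * elJ hω h2 x := by
  unfold naChk at h
  rw [List.any_eq_true] at h
  obtain ⟨x, hx, h1⟩ := h
  rw [List.any_eq_true] at h1
  obtain ⟨y, hy, h3⟩ := h1
  rw [Bool.not_eq_true'] at h3
  refine ⟨x, hx, y, hy, ?_⟩
  intro e
  apply Nat.ne_of_beq_eq_false h3
  apply elJ_inj ((hL x hx).mul (hL y hy)) ((hL y hy).mul (hL x hx))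
  rw [elJ_lmul (hL x hx) (hL y hy), elJ_lmul (hL y hy) (hL x hx), e]

theorem a5_sound {a b : ℕ} (ha : Good hω h2 a) (hb : Good hω h2 b) (h : a5Chk a b = true) :
    elJ hω h2 a ^ 3 = 1 ∧ elJ hω h2 b ^ 5 = 1 ∧ (elJ hω h2 a * elJ hω h2 b) ^ 2 = 1 ∧
      elJ hω h2 a ≠ 1 := by
  unfold a5Chk at h
  simp only [Bool.and_eq_true, Bool.not_eq_true'] at h
  obtain ⟨⟨⟨h1, h3⟩, h4⟩, h5⟩ := h
  refine ⟨?_, ?_, ?_, ?_⟩
  · have := congrArg (elJ hω h2) (Nat.eq_of_beq_eq_true h1)
    rw [elJ_lmul ha (ha.mul ha), elJ_lmul ha ha, elJ_lone] at this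
    calc elJ hω h2 a ^ 3 = elJ hω h2 a * (elJ hω h2 a * elJ hω h2 a) := by
          simp only [pow_succ, pow_zero, one_mul, mul_assoc]
      _ = 1 := this
  · have := congrArg (elJ hω h2) (Nat.eq_of_beq_eq_true h3)
    rw [elJ_lmul hb (hb.mul (hb.mul (hb.mul hb))), elJ_lmul hb (hb.mul (hb.mul hb)),
      elJ_lmul hb (hb.mul hb), elJ_lmul hb hb, elJ_lone] at this
    calc elJ hω h2 b ^ 5 = elJ hω h2 b * (elJ hω h2 b * (elJ hω h2 b *
        (elJ hω h2 b * elJ hω h2 b))) := by
          simp only [pow_succ, pow_zero, one_mul, mul_assoc]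
      _ = 1 := this
  · have := congrArg (elJ hω h2) (Nat.eq_of_beq_eq_true h4)
    rw [elJ_lmul (ha.mul hb) (ha.mul hb), elJ_lmul ha hb, elJ_lone] at this
    rw [pow_two]; exact this
  · intro e
    rw [← elJ_lone] at e
    exact Nat.ne_of_beq_eq_false h5 (elJ_inj ha good_lone e)

end

end Cfsg.Agent.Lib.Helper5.J3Fus
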