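import Mathlib
import Cfsg.Agent.Lib.Helper5.J3CentA

/-!
# The combined check for the centraliser of an involution of `J₃`
-/

set_option autoImplicit false

namespace Cfsg.Agent.Lib.Helper5.J3Fus

open Cfsg.Agent.Lib.Helper6.J3 Cfsg.Agent.Lib.Helper6.F4

/-- the additional data: two straight-line programs, the numbers of the elements to pick, a table -/
structure CentData where
  prog5 : List (ℕ × ℕ)
  n5 : ℕ
  iw2 : List ℕ
  tInv : List ℕ
  prog6 : List (ℕ × ℕ)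
  n6 : ℕ
  ja : ℕ
  jb : ℕ

/-- all the checks -/
noncomputable def cenAll (LS Ws2 LQ Qs : List ℕ) (TQ : BT) (ua ub : ℕ) (tInv : List ℕ) : Bool :=
  invChk ca Ws2 LS tInv && enumChk (ca :: Qs) LQ TQ && ndChk LQ TQ 32 && pairChk ca LQ &&
    sqChk ca LQ && naChk LQ && a5Chk ua ub

/-- the combined check, with forcing of the intermediate lists -/
noncomputable def cenChkOf (D : FusData) (C : CentData) : Bool :=
  forceL (slpC (initOf [ca, cb, cbi]) 4 D.prog1) fun E1 =>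
  forceL (pk E1 D.n1 D.ih) fun Hs =>
  forceL (slpC (initOf Hs) 6 D.prog2) fun E2 =>
  forceL (pk E2 D.n2 D.jr) fun Rs =>
  forceL (slpC (initOf (ca :: Rs)) 5 D.prog3) fun E3 =>
  forceL (pk E3 D.n3 D.kLS) fun LS =>
  forceL (pk E3 D.n3 D.kq) fun Qs =>
  forceL (slpC (initOf (ca :: Qs)) 6 D.prog4) fun E4 =>
  forceL (pk E4 D.n4 D.kLQ) fun LQ =>
  forceL (slpC (initOf [ca, cb, cbi]) 4 C.prog5) fun E5 =>
  forceL (pk E5 C.n5 C.iw2) fun Ws2 =>
  forceL (slpC (initOf Hs) 6 C.prog6) fun E6 =>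
  BT.force (BT.ofList LQ BT.leaf) fun TQ =>
    cenAll LS Ws2 LQ Qs TQ (E6.getD (C.n6 - 1 - C.ja) lone) (E6.getD (C.n6 - 1 - C.jb) lone) C.tInv

end Cfsg.Agent.Lib.Helper5.J3Fus
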