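import Mathlib
import Cfsg.Agent.Lib.Helper5.J3CentE
import Cfsg.Agent.Lib.Helper5.J3FusData

/-!
# Data for the centraliser of an involution of `J₃` (generated), and the evaluation of the check by the kernel
-/

set_option autoImplicit false

namespace Cfsg.Agent.Lib.Helper5.J3Fus

/-- the additional data -/
def centData : CentData where
  prog5 := [(1, 2), (2, 4), (1, 5), (2, 6), (1, 7), (2, 8), (2, 9), (1, 10), (2, 11), (1, 12), (2, 13), (1, 14), (2, 15),
    (1, 16), (2, 17), (2, 18), (2, 19), (2, 20), (2, 21), (1, 22), (2, 23), (2, 24), (1, 25), (2, 26), (2, 2),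
    (2, 28), (2, 29), (1, 30), (2, 31), (1, 32), (2, 33), (1, 34), (2, 35), (2, 36), (2, 37), (2, 38), (2, 39),
    (1, 40), (2, 41), (2, 42), (2, 43), (2, 44), (2, 45), (2, 46), (2, 5), (2, 48), (2, 49), (1, 50), (2, 51),
    (1, 52), (2, 53), (2, 54), (2, 55), (1, 56), (2, 57), (2, 58), (2, 59), (2, 60), (2, 61), (1, 62), (2, 63),
    (2, 64), (1, 65), (2, 66), (2, 52), (1, 68), (2, 69), (2, 70), (2, 71), (2, 72), (2, 73), (2, 74), (1, 75),
    (2, 76), (2, 77), (1, 48), (2, 79), (1, 80), (2, 81), (1, 82), (2, 83), (1, 84), (2, 85), (2, 86), (2, 87),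
    (2, 88), (2, 89), (2, 90), (1, 91), (2, 92), (2, 93), (2, 94), (2, 80), (2, 96), (2, 97), (2, 98), (2, 99),
    (2, 100), (2, 101), (1, 102), (2, 103), (1, 104), (2, 105), (2, 106), (1, 107), (2, 108), (1, 109), (2,
    110), (1, 111), (2, 112), (2, 30), (1, 114), (2, 115), (1, 116), (2, 117), (2, 118), (2, 119), (2, 120),
    (1, 121), (2, 122), (1, 123), (2, 124), (1, 125), (2, 126), (2, 127), (2, 128), (2, 50), (2, 130), (1,
    131), (2, 132), (2, 133), (1, 134), (2, 135), (2, 136), (2, 137), (2, 138), (2, 139), (1, 140), (2, 141),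
    (2, 142), (2, 143), (2, 144), (2, 145), (1, 29), (2, 147), (2, 148), (2, 149), (2, 150), (2, 151), (2,
    152), (1, 153), (2, 154), (1, 155), (2, 156), (1, 157), (2, 158), (1, 159), (2, 160), (2, 161), (1, 162),
    (2, 163), (1, 151), (2, 165), (2, 166), (1, 167), (2, 168), (2, 169), (1, 170), (2, 171), (2, 7), (1, 173),
    (2, 174), (1, 175), (2, 176), (2, 177), (1, 178), (2, 179), (2, 180), (2, 181), (2, 182), (2, 183), (1,
    184), (2, 185), (1, 36), (2, 187), (1, 188), (2, 189), (1, 190), (2, 191), (2, 192), (1, 37), (2, 194), (1,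
    195), (2, 196), (1, 197), (2, 198), (1, 199), (2, 200), (2, 201), (1, 202), (2, 203), (2, 175), (1, 205),
    (2, 206), (1, 207), (2, 208), (2, 209), (2, 210), (2, 211), (2, 212), (2, 213), (1, 214), (2, 215), (1,
    216), (2, 217), (2, 34), (1, 219), (2, 220), (2, 221), (2, 222), (2, 223), (2, 224), (1, 225), (2, 226),
    (1, 227), (2, 228), (1, 229), (2, 230), (2, 116), (1, 232), (2, 233), (1, 234), (2, 235), (1, 236), (2,
    237), (1, 238), (2, 239), (1, 240), (2, 241), (2, 242), (2, 243), (2, 244), (2, 245), (2, 246), (2, 247),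
    (1, 150), (2, 249), (2, 250), (2, 251), (1, 252), (2, 253), (2, 254), (2, 255), (2, 256), (2, 257), (2,
    258), (2, 173), (1, 260), (2, 261), (1, 262), (2, 263), (2, 264), (1, 265), (2, 266), (2, 267), (1, 268),
    (2, 269), (2, 270), (1, 96), (2, 272), (2, 273), (2, 274), (1, 275), (2, 276), (1, 277), (2, 278), (1,
    279), (2, 280), (1, 281), (2, 282), (2, 283), (2, 284), (1, 285), (2, 286), (2, 219), (1, 288), (2, 289),
    (2, 290), (2, 291), (2, 292), (2, 293), (1, 294), (2, 295), (2, 296), (2, 297), (2, 298), (2, 299), (2,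
    300), (2, 301), (2, 262), (1, 303), (2, 304), (2, 305), (2, 306), (2, 307), (1, 308), (2, 309), (1, 310),
    (2, 311), (1, 312), (2, 313), (1, 28), (2, 315), (2, 316), (2, 317), (2, 318), (1, 319), (2, 320), (2,
    321), (1, 322), (2, 323), (2, 324), (2, 325), (2, 326), (1, 327), (2, 328), (2, 329), (1, 9), (2, 331), (2,
    332), (1, 333), (2, 334), (2, 335), (2, 336), (2, 337), (2, 338), (1, 339), (2, 340), (2, 341), (2, 342),
    (2, 343), (1, 344), (2, 345), (2, 346), (1, 118), (2, 348), (2, 349), (2, 350), (2, 351), (2, 352), (2,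
    353), (2, 354), (2, 355), (1, 356), (2, 357), (2, 358), (1, 332), (2, 360), (2, 361), (1, 362), (2, 363),
    (2, 364), (2, 365), (2, 366), (2, 367), (1, 368), (2, 369), (2, 370), (1, 49), (2, 372), (2, 373), (2,
    374), (1, 375), (2, 376), (2, 377), (2, 378), (1, 379), (2, 380), (1, 381), (2, 382), (1, 383), (2, 384),
    (1, 385), (2, 386), (2, 387), (2, 32), (2, 389), (1, 390), (2, 391), (2, 392), (2, 393), (2, 394), (2,
    395), (1, 396), (2, 397), (2, 260), (1, 399), (2, 400), (1, 401), (2, 402), (2, 403), (2, 404), (2, 405),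
    (2, 406), (1, 407), (2, 408), (2, 409), (2, 410), (1, 411), (2, 412), (2, 413), (2, 178), (2, 415), (2,
    416), (2, 417), (1, 418), (2, 419), (1, 420), (2, 421), (2, 422), (1, 423), (2, 424), (2, 425), (2, 232),
    (2, 427), (2, 428), (2, 429), (2, 430), (1, 431), (2, 432), (2, 433), (2, 434), (2, 435), (2, 436), (2,
    437), (2, 399), (1, 439), (2, 440), (1, 441), (2, 442), (2, 443), (2, 444), (2, 445), (2, 446), (1, 447),
    (2, 448), (1, 449), (2, 450), (1, 316), (2, 452), (1, 453), (2, 454), (1, 455), (2, 456), (1, 457), (2,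
    458), (1, 459), (2, 460), (2, 461), (2, 462), (2, 463), (2, 153), (2, 465), (1, 466), (2, 467), (2, 468),
    (1, 469), (2, 470), (1, 471), (2, 472), (2, 473), (2, 474), (1, 475), (2, 476), (2, 205), (2, 478), (1,
    479), (2, 480), (2, 481), (2, 482), (2, 483), (1, 484), (2, 485), (2, 486), (1, 487), (2, 488), (2, 489),
    (2, 490), (2, 491), (2, 492)]
  n5 := 494
  iw2 := [0, 27, 47, 67, 78, 95, 113, 129, 146, 164, 172, 186, 193, 204, 218, 231, 248, 259, 271, 287, 302, 314, 330,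
    347, 359, 371, 388, 398, 414, 426, 438, 451, 464, 477, 493]
  tInv := [0, 1, 2, 3, 4, 5, 6, 7, 0, 8, 0, 0, 0, 0, 9, 0, 0, 0, 10, 0, 0, 11, 0, 12, 0, 13, 14, 0, 0, 15, 0, 16, 0, 17,
    0, 0, 0, 0, 0, 0, 0, 18, 0, 0, 0, 0, 0, 0, 0, 0, 0, 0, 19, 0, 0, 0, 0, 0, 20, 0, 0, 21, 0, 0, 0, 0, 0, 0,
    0, 0, 22, 0, 0, 0, 23, 24, 0, 0, 0, 0, 25, 0, 0, 26, 0, 0, 0, 0, 0, 0, 0, 0, 0, 0, 0, 0, 0, 0, 0, 0, 0, 0,
    27, 0, 0, 0, 0, 0, 0, 0, 0, 0, 0, 0, 0, 0, 0, 0, 28, 0, 29, 0, 30, 31, 32, 33, 34, 35]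
  prog6 := [(3, 2), (4, 6), (2, 4)]
  n6 := 9
  ja := 7
  jb := 8

set_option maxRecDepth 1000000 in
theorem cenChk_ok : cenChkOf fusData centData = true := by decide +kernel

end Cfsg.Agent.Lib.Helper5.J3Fus
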