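import Mathlib
import Cfsg.Agent.Lib.Helper5.J3FusData

/-!
# The class of the involution `z` of `3·J₃` has at least 26163 members: evaluation by the kernel
-/

set_option autoImplicit false

namespace Cfsg.Agent.Lib.Helper5.J3Fus

set_option maxRecDepth 1000000 in
theorem clsChk_ok : clsChkOf cfuel cprog 26163 = true := by decide +kernel

end Cfsg.Agent.Lib.Helper5.J3Fus
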