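import Mathlib
import Cfsg.Agent.H9.GfsSimple3
import Cfsg.Agent.Lib.S4139.N1

/-!
# The certificate for the 2-fusion system of `3·J₃`, abstractly

* `card_mul_centralizer_le`: distinct conjugates of `z` bound the order of the centraliser of `z`.
* `cent_decomp`: the centraliser of `z` is the product of the central subgroup of order 3 and a subgroup of order 1920.
* `cert_abs`: the certificate `Cert2` of helper9 for a Sylow 2-subgroup `S0` of order 128 with centre `{1, z}`, generated
  by conjugates of `z`, the centraliser of `z` being `Z × P0` with `Z` central of order 3 and `P0` generated by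
  2-elements normalising a subgroup `Q` of `S0` which contains its centraliser in `P0`.
-/

set_option autoImplicit false

namespace Cfsg.Agent.Lib.Helper5.J3Fus

open Cfsg.Agent.H9.GfsSimple3

variable {G : Type*} [Group G]

/-- distinct conjugates of `z` bound the order of the centraliser of `z` -/
theorem card_mul_centralizer_le [Finite G] (z : G) (s : Finset G)
    (hs : ∀ y ∈ s, ∃ w : G, y = w * z * w⁻¹) :
    s.card * Nat.card (Subgroup.centralizer ({z} : Set G)) ≤ Nat.card G := by
  classical
  set C := Subgroup.centralizer ({z} : Set G) with hC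
  choose! w hw using hs
  have hinj : Function.Injective (fun y : s => (QuotientGroup.mk (w y.1) : G ⧸ C)) := by
    intro y y' e
    have e' : (w y.1)⁻¹ * w y'.1 ∈ C := QuotientGroup.eq.1 e
    rw [hC, Subgroup.mem_centralizer_singleton_iff] at e'
    apply Subtype.ext
    rw [hw y.1 y.2, hw y'.1 y'.2]
    calc w y.1 * z * (w y.1)⁻¹ = w y.1 * (z * ((w y.1)⁻¹ * w y'.1)) * (w y'.1)⁻¹ := by group
      _ = w y.1 * ((w y.1)⁻¹ * w y'.1 * z) * (w y'.1)⁻¹ := by rw [e']
      _ = w y'.1 * z * (w y'.1)⁻¹ := by group
  have h1 : s.card ≤ Nat.card (G ⧸ C) := by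
    have := Nat.card_le_card_of_injective _ hinj
    rwa [Nat.card_eq_fintype_card, Fintype.card_coe] at this
  have h2 : Nat.card G = Nat.card (G ⧸ C) * Nat.card C :=
    Subgroup.card_eq_card_quotient_mul_card_subgroup C
  calc s.card * Nat.card C ≤ Nat.card (G ⧸ C) * Nat.card C := Nat.mul_le_mul_right _ h1
    _ = Nat.card G := h2.symm

/-- the centraliser of `z` is the product of the central subgroup of order 3 and a subgroup of order 1920 -/
theorem cent_decomp [Finite G] (z : G) (Z P0 : Subgroup G) (hZ : Z ≤ Subgroup.center G)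
    (hZc : Nat.card Z = 3) (hP0c : Nat.card P0 = 1920) (hP0z : ∀ p ∈ P0, p * z = z * p)
    (hZP : ∀ n ∈ Z, n ∈ P0 → n = 1)
    (hC : Nat.card (Subgroup.centralizer ({z} : Set G)) ≤ 5760) :
    ∀ g : G, g * z = z * g → ∃ n ∈ Z, ∃ p ∈ P0, g = n * p := by
  have hmem : ∀ np : ↥Z × ↥P0, (np.1 : G) * (np.2 : G) ∈ Subgroup.centralizer ({z} : Set G) := by
    intro np
    rw [Subgroup.mem_centralizer_singleton_iff]
    have h1 : z * (np.1 : G) = (np.1 : G) * z := Subgroup.mem_center_iff.1 (hZ np.1.2) z
    have h2 := hP0z _ np.2.2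
    rw [mul_assoc, h2, ← mul_assoc, ← h1, mul_assoc]
  let f : ↥Z × ↥P0 → ↥(Subgroup.centralizer ({z} : Set G)) := fun np => ⟨_, hmem np⟩
  have hinj : Function.Injective f := by
    rintro ⟨n, p⟩ ⟨n', p'⟩ e
    have e1 : (n : G) * (p : G) = (n' : G) * (p' : G) := congrArg Subtype.val e
    have e2 : (n' : G)⁻¹ * (n : G) = (p' : G) * (p : G)⁻¹ := by
      calc (n' : G)⁻¹ * (n : G) = (n' : G)⁻¹ * ((n : G) * (p : G)) * (p : G)⁻¹ := by group
        _ = (p' : G) * (p : G)⁻¹ := by rw [e1]; group
    have h1 : (n' : G)⁻¹ * (n : G) ∈ Z := mul_mem (inv_mem n'.2) n.2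
    have h2 : (n' : G)⁻¹ * (n : G) ∈ P0 := by rw [e2]; exact mul_mem p'.2 (inv_mem p.2)
    have h3 := hZP _ h1 h2
    have hn : n = n' := by
      apply Subtype.ext
      rw [inv_mul_eq_one] at h3
      exact h3.symm
    have hp : p = p' := by
      apply Subtype.ext
      rw [h3] at e2
      exact (mul_inv_eq_one.1 e2.symm).symm
    rw [hn, hp]
  have hcard : Nat.card (↥Z × ↥P0) = 5760 := by rw [Nat.card_prod, hZc, hP0c]
  have hbij : Function.Bijective f :=
    Function.Injective.bijective_of_nat_card_le hinj (by rw [hcard]; exact hC)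
  intro g hg
  obtain ⟨⟨n, p⟩, e⟩ := hbij.2 ⟨g, Subgroup.mem_centralizer_singleton_iff.2 hg⟩
  exact ⟨n, n.2, p, p.2, (congrArg Subtype.val e).symm⟩

/-- **the certificate**, abstractly -/
theorem cert_abs [Finite G] (S0 Q P0 Z : Subgroup G) (z : G) (R : Set G)
    (hfact : (Nat.card G).factorization 2 = 7)
    (hcard : Nat.card S0 = 128)
    (hz1 : z ≠ 1) (hz2 : z * z = 1)
    (hcen : ∀ x ∈ S0, x = 1 ∨ x = z ∨ ∃ g ∈ S0, x * g ≠ g * x)
    (hzc : ∀ s ∈ S0, z * s = s * z)
    (hR : S0 = Subgroup.closure R) (hRz : ∀ r ∈ R, ∃ w : G, r = w * z * w⁻¹)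
    (hQS : Q ≤ S0) (hzQ : z ∈ Q)
    (hZ : Z ≤ Subgroup.center G) (hZc : Nat.card Z = 3)
    (hC : ∀ g : G, g * z = z * g → ∃ n ∈ Z, ∃ p ∈ P0, g = n * p)
    (hK8 : ∀ p ∈ P0, p = 1 ∨ p = z ∨ ∃ q ∈ Q, p * q ≠ q * p)
    (hP0 : P0 ≤ pNormGen 2 Q) :
    Cert2 2 S0 := by
  have hzS : z ∈ S0 := hQS hzQ
  -- `Q` is centric
  have centric : CentricIn S0 Q := by
    refine ⟨hQS, ?_⟩
    intro g _ y hyS hy
    have hy' : ∀ x ∈ Q, (g⁻¹ * y * g) * x = x * (g⁻¹ * y * g) := by
      intro x hx
      have := hy x hx
      calc g⁻¹ * y * g * x = g⁻¹ * (y * (g * x * g⁻¹)) * g := by group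
        _ = g⁻¹ * (g * x * g⁻¹ * y) * g := by rw [this]
        _ = x * (g⁻¹ * y * g) := by group
    obtain ⟨n, hn, p, hp, e⟩ := hC _ (hy' z hzQ)
    have hnc : ∀ t : G, t * n = n * t := fun t => Subgroup.mem_center_iff.1 (hZ hn) t
    have hpQ : ∀ x ∈ Q, p * x = x * p := by
      intro x hx
      have h1 := hy' x hx
      rw [e] at h1
      have : n * (p * x) = n * (x * p) := by
        calc n * (p * x) = n * p * x := by group
          _ = x * (n * p) := h1
          _ = x * n * p := by group
          _ = n * x * p := by rw [hnc x]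
          _ = n * (x * p) := by group
      exact mul_left_cancel this
    have hp2 : p = 1 ∨ p = z := by
      rcases hK8 p hp with h | h | ⟨q, hq, hne⟩
      · exact Or.inl h
      · exact Or.inr h
      · exact absurd (hpQ q hq) hne
    have hpp : p * p = 1 := by
      rcases hp2 with rfl | rfl
      · simp
      · exact hz2
    have hy128 : y ^ 128 = 1 := by
      have := pow_card_eq_one' (G := S0) (x := ⟨y, hyS⟩)
      rw [hcard] at this
      exact congrArg Subtype.val this
    have hy'128 : (g⁻¹ * y * g) ^ 128 = 1 := by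
      have := conj_pow (a := g⁻¹) (b := y) (i := 128)
      rw [inv_inv] at this
      rw [this, hy128]
      group
    have hn128 : n ^ 128 = 1 := by
      rw [e] at hy'128
      have hcomm : Commute n p := (hnc p).symm
      rw [hcomm.mul_pow] at hy'128
      have hp128 : p ^ 128 = 1 := by
        have : p ^ 128 = (p ^ 2) ^ 64 := by rw [← pow_mul]
        rw [this, pow_two, hpp, one_pow]
      rwa [hp128, mul_one] at hy'128
    have hn3 : n ^ 3 = 1 := by
      have := pow_card_eq_one' (G := Z) (x := ⟨n, hn⟩)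
      rw [hZc] at this
      exact congrArg Subtype.val this
    have hn1 : n = 1 := by
      have h129 : n ^ 129 = 1 := by
        have : n ^ 129 = (n ^ 3) ^ 43 := by rw [← pow_mul]
        rw [this, hn3, one_pow]
      have h129' : n ^ 129 = n ^ 128 * n := pow_succ n 128
      rw [h129', hn128, one_mul] at h129
      exact h129
    rw [hn1, one_mul] at e
    refine ⟨p, ?_, ?_⟩
    · rcases hp2 with rfl | rfl
      · exact Q.one_mem
      · exact hzQ
    · rw [← e]; group
  refine ⟨?_, ?_, ?_, ?_⟩
  · rw [hfact, hcard]; norm_num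
  · intro h
    rw [h, Subgroup.card_bot] at hcard
    norm_num at hcard
  · -- strongly closed subgroups
    intro T hTS hT
    by_cases hbot : T = ⊥
    · exact Or.inl hbot
    right
    have hz : z ∈ T := by
      have : Fact (Nat.Prime 2) := ⟨Nat.prime_two⟩
      have hp : IsPGroup 2 ↥S0 := IsPGroup.of_card (n := 7) (by rw [hcard]; norm_num)
      have hnil : Group.IsNilpotent ↥S0 := hp.isNilpotent
      have hTn : (T.subgroupOf S0).Normal := by
        constructor
        intro n hn g
        rw [Subgroup.mem_subgroupOf] at hn ⊢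
        have e : ((g * n * g⁻¹ : ↥S0) : G) = (g : G) * (n : G) * (g : G)⁻¹ := by simp
        rw [e]
        apply hT _ hn
        exact mul_mem (mul_mem g.2 n.2) (inv_mem g.2)
      have hT' : T.subgroupOf S0 ≠ ⊥ := by
        intro h
        apply hbot
        rw [eq_bot_iff]
        intro x hx
        have hm : (⟨x, hTS hx⟩ : ↥S0) ∈ T.subgroupOf S0 := by
          rw [Subgroup.mem_subgroupOf]; exact hx
        rw [h, Subgroup.mem_bot] at hm
        rw [Subgroup.mem_bot]
        exact congrArg Subtype.val hm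
      have hne := Cfsg.Agent.S4139L.N1_inf_center_ne_bot hnil (T.subgroupOf S0) hT'
      obtain ⟨x, hx1⟩ := (Subgroup.ne_bot_iff_exists_ne_one).1 hne
      obtain ⟨hxT, hxZ⟩ := Subgroup.mem_inf.1 x.2
      rw [Subgroup.mem_subgroupOf] at hxT
      rw [Subgroup.mem_center_iff] at hxZ
      have hcomm : ∀ s ∈ S0, ((x : ↥S0) : G) * s = s * ((x : ↥S0) : G) := by
        intro s hs
        have := hxZ ⟨s, hs⟩
        exact (congrArg Subtype.val this).symm
      rcases hcen _ (x : ↥S0).2 with h1 | h1 | ⟨g, hg, hne'⟩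
      · exfalso
        apply hx1
        apply Subtype.ext
        apply Subtype.ext
        exact h1
      · rw [← h1]; exact hxT
      · exact absurd (hcomm g hg) hne'
    apply le_antisymm hTS
    rw [hR, Subgroup.closure_le]
    intro r hr
    have hrS : r ∈ S0 := by rw [hR]; exact Subgroup.subset_closure hr
    obtain ⟨w, hw⟩ := hRz r hr
    rw [SetLike.mem_coe, hw]
    apply hT _ hz
    rw [← hw]; exact hrS
  · -- the normaliser of the Sylow subgroup
    intro g hg
    have hgz : g * z * g⁻¹ = z := by
      have hx : g * z * g⁻¹ ∈ S0 := (Subgroup.mem_normalizer_iff.1 hg z).1 hzS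
      rcases hcen _ hx with h | h | ⟨s, hs, hne⟩
      · exfalso; apply hz1
        have : z = g⁻¹ * (g * z * g⁻¹) * g := by group
        rw [this, h]; group
      · exact h
      · exfalso; apply hne
        have hs' : g⁻¹ * s * g ∈ S0 := by
          have := (Subgroup.mem_normalizer_iff.1 (inv_mem hg) s).1 hs
          rwa [inv_inv] at this
        have hc := hzc _ hs'
        calc g * z * g⁻¹ * s = g * (z * (g⁻¹ * s * g)) * g⁻¹ := by group
          _ = g * (g⁻¹ * s * g * z) * g⁻¹ := by rw [hc]
          _ = s * (g * z * g⁻¹) := by group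
    have hgc : g * z = z * g := by
      calc g * z = g * z * g⁻¹ * g := by group
        _ = z * g := by rw [hgz]
    obtain ⟨n, hn, p, hp, e⟩ := hC g hgc
    have hnc : ∀ t : G, t * n = n * t := fun t => Subgroup.mem_center_iff.1 (hZ hn) t
    refine ⟨p, ?_, ?_⟩
    · apply Subgroup.subset_closure
      refine ⟨?_, Q, centric, hP0 hp⟩
      have hnN : n ∈ Subgroup.normalizer (S0 : Set G) := by
        rw [Subgroup.mem_normalizer_iff]
        intro h
        have : n * h * n⁻¹ = h := by rw [← hnc h, mul_inv_cancel_right]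
        rw [this]
      have : p = n⁻¹ * g := by rw [e]; group
      rw [this]
      exact mul_mem (inv_mem hnN) hg
    · intro x _
      rw [e]
      calc n * p * x * (n * p)⁻¹ = n * (p * x * p⁻¹) * n⁻¹ := by group
        _ = (p * x * p⁻¹) * n * n⁻¹ := by rw [← hnc (p * x * p⁻¹)]
        _ = p * x * p⁻¹ := by group

/-- an involution conjugating the generators of a subgroup into it normalises it -/
theorem mem_normalizer_closure_of_invol {X : Set G} {h : G} (h2 : h * h = 1)
    (hconj : ∀ x ∈ X, h * x * h ∈ Subgroup.closure X) :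
    h ∈ Subgroup.normalizer ((Subgroup.closure X : Subgroup G) : Set G) := by
  have hinv : h⁻¹ = h := inv_eq_of_mul_eq_one_right h2
  have key : ∀ n ∈ Subgroup.closure X, h * n * h ∈ Subgroup.closure X := by
    intro n hn
    induction hn using Subgroup.closure_induction with
    | mem x hx => exact hconj x hx
    | one => rw [mul_one, h2]; exact Subgroup.one_mem _
    | mul x y _ _ hx hy =>
      have e : h * (x * y) * h = (h * x * h) * (h * y * h) := by
        calc h * (x * y) * h = h * x * (1 * (y * h)) := by group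
          _ = h * x * ((h * h) * (y * h)) := by rw [h2]
          _ = (h * x * h) * (h * y * h) := by group
      rw [e]
      exact Subgroup.mul_mem _ hx hy
    | inv x _ hx =>
      have e : h * x⁻¹ * h = (h * x * h)⁻¹ := by
        rw [mul_inv_rev, mul_inv_rev, hinv, mul_assoc]
      rw [e]
      exact Subgroup.inv_mem _ hx
  rw [Subgroup.mem_normalizer_iff]
  intro n
  rw [hinv]
  constructor
  · exact key n
  · intro hn
    have := key _ hn
    have e : h * (h * n * h) * h = n := by
      calc h * (h * n * h) * h = (h * h) * n * (h * h) := by group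
        _ = n := by rw [h2, one_mul, mul_one]
    rwa [e] at this

theorem fact2J3 : (150698880 : ℕ).factorization 2 = 7 := by
  have h : (150698880 : ℕ) = 2 ^ 7 * 1177335 := by norm_num
  rw [h, Nat.factorization_mul (by norm_num) (by norm_num),
    Nat.Prime.factorization_pow Nat.prime_two]
  simp [Nat.factorization_eq_zero_of_not_dvd (show ¬ 2 ∣ 1177335 by norm_num)]

end Cfsg.Agent.Lib.Helper5.J3Fus
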