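import Mathlib
import Cfsg.Agent.Lib.Helper5.J3FusChk1
import Cfsg.Agent.Lib.Helper5.J3FusChk2
import Cfsg.Agent.Lib.Helper5.J3FusD

/-!
# The 2-fusion system of the third Janko group is simple

In `Γ = G₂ hω h2` (the group `3·J₃` of 9 × 9 matrices over the field with four elements, of order 150698880, with
centre `Z` of order 3): `z` is the first standard generator, an involution; its class has at least 26163 members
(a traversal, `clsChk_ok`), so that its centraliser has at most 5760 elements; `P0 = cl Hsc` is generated by five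
involutions commuting with `z` and has 1920 elements, so that the centraliser of `z` is `Z × P0`;
`S0 = cl gSc ≤ P0` has 128 elements, centre `{1, z}`, and is generated by `z` and three conjugates of `z`;
`Q = cl gQc ≤ S0` is normalised by the five involutions and contains its centraliser in `P0` up to `Z`.
This gives the certificate `Cert2` of helper9 for `Γ`, which is carried to `J₃ = Γ / Z` and to any isomorphic group.
-/

set_option autoImplicit false

namespace Cfsg.Agent.Lib.Helper5.J3Fus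

open Cfsg.Spor Cfsg.Agent.Lib.Helper6.J3 Cfsg.Agent.Lib.Helper6.F4 Cfsg.Agent.H9.GfsSimple3

def E1c : List ℕ := slpC (initOf [ca, cb, cbi]) 4 fusData.prog1
def Hsc : List ℕ := pk E1c fusData.n1 fusData.ih
def Wsc : List ℕ := pk E1c fusData.n1 fusData.iw
def E2c : List ℕ := slpC (initOf Hsc) 6 fusData.prog2
def zzc : ℕ := E2c.getD (fusData.n2 - 1 - fusData.jz) lone
def Rsc : List ℕ := pk E2c fusData.n2 fusData.jr
def Tcc : List ℕ := pk E2c fusData.n2 fusData.jt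
def gSc : List ℕ := ca :: Rsc
def E3c : List ℕ := slpC (initOf gSc) 5 fusData.prog3
def LSc : List ℕ := pk E3c fusData.n3 fusData.kLS
def Qsc : List ℕ := pk E3c fusData.n3 fusData.kq
def gQc : List ℕ := ca :: Qsc
def E4c : List ℕ := slpC (initOf gQc) 6 fusData.prog4
def LQc : List ℕ := pk E4c fusData.n4 fusData.kLQ
def LPc : List ℕ := prods Tcc LSc

theorem allChk_ok : allChk Hsc Wsc Rsc Tcc LSc Qsc LPc (BT.ofList LSc BT.leaf)
    (BT.ofList LQc BT.leaf) (BT.ofList LPc BT.leaf) zzc fusData.t9 fusData.t8 = true := by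
  have h := fusChk_ok
  unfold fusChkOf at h
  simp only [forceL_eq, BT.force_eq] at h
  exact h

theorem chk_parts : Nat.beq zzc ca = true ∧ Nat.beq (lmul ca ca) lone = true ∧
    hsChk Hsc gQc (BT.ofList LQc BT.leaf) ca = true ∧
    enumChk gSc LSc (BT.ofList LSc BT.leaf) = true ∧ ndChk LSc (BT.ofList LSc BT.leaf) 128 = true ∧
    commChk ca Rsc = true ∧ conjChk ca Rsc Wsc = true ∧ kChk ca gSc LSc fusData.t9 = true ∧
    enumChk Hsc Tcc (BT.ofList LPc BT.leaf) = true ∧ ndChk LPc (BT.ofList LPc BT.leaf) 1920 = true ∧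
    kChk ca gQc LPc fusData.t8 = true := by
  have h := allChk_ok
  unfold allChk at h
  simp only [Bool.and_eq_true] at h
  obtain ⟨⟨⟨⟨⟨⟨⟨⟨⟨⟨c1, c2⟩, c3⟩, c4⟩, c5⟩, c6⟩, c7⟩, c8⟩, c9⟩, c10⟩, c11⟩ := h
  exact ⟨c1, c2, c3, c4, c5, c6, c7, c8, c9, c10, c11⟩

section

variable {F : Type*} [Field F] [Finite F] {ω : F} {hω : ω ^ 2 + ω + 1 = 0} {h2 : (2 : F) = 0}

/-! ### the codes represent elements of the right subgroups -/

theorem gin_E1 : ∀ c ∈ E1c, GoodIn (⊤ : Subgroup ↥(G₂ hω h2)) c := by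
  apply goodIn_slpC
  apply goodIn_initOf'
  intro c hc
  simp only [List.mem_cons, List.not_mem_nil, or_false] at hc
  rcases hc with rfl | rfl | rfl
  · exact goodIn_top good_ca
  · exact goodIn_top good_cb
  · exact goodIn_top good_cbi

theorem good_Hs : ∀ c ∈ Hsc, Good hω h2 c := fun c hc => (goodIn_pk gin_E1 _ _ c hc).1
theorem good_Ws : ∀ c ∈ Wsc, Good hω h2 c := fun c hc => (goodIn_pk gin_E1 _ _ c hc).1

theorem gin_E2 : ∀ c ∈ E2c, GoodIn (cl hω h2 Hsc) c :=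
  goodIn_slpC _ _ _ (goodIn_initOf good_Hs)

theorem zz_eq : zzc = ca := Nat.eq_of_beq_eq_true chk_parts.1

theorem gin_ca : GoodIn (cl hω h2 Hsc) ca := by
  have : GoodIn (cl hω h2 Hsc) zzc := goodIn_getD gin_E2 _
  rwa [zz_eq] at this

theorem gin_Rs : ∀ c ∈ Rsc, GoodIn (cl hω h2 Hsc) c := goodIn_pk gin_E2 _ _
theorem gin_Tc : ∀ c ∈ Tcc, GoodIn (cl hω h2 Hsc) c := goodIn_pk gin_E2 _ _

theorem mem_gS {c : ℕ} : c ∈ gSc ↔ c = ca ∨ c ∈ Rsc := by
  unfold gSc; exact List.mem_cons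

theorem mem_gQ {c : ℕ} : c ∈ gQc ↔ c = ca ∨ c ∈ Qsc := by
  unfold gQc; exact List.mem_cons

theorem gin_gS : ∀ c ∈ gSc, GoodIn (cl hω h2 Hsc) c := by
  intro c hc
  rcases mem_gS.1 hc with h | h
  · rw [h]; exact gin_ca
  · exact gin_Rs c h

theorem good_gS : ∀ c ∈ gSc, Good hω h2 c := fun c hc => (gin_gS c hc).1

theorem cl_gS_le : cl hω h2 gSc ≤ cl hω h2 Hsc := cl_le fun c hc => (gin_gS c hc).2

theorem gin_E3 : ∀ c ∈ E3c, GoodIn (cl hω h2 gSc) c :=
  goodIn_slpC _ _ _ (goodIn_initOf good_gS)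

theorem gin_LS : ∀ c ∈ LSc, GoodIn (cl hω h2 gSc) c := goodIn_pk gin_E3 _ _
theorem gin_Qs : ∀ c ∈ Qsc, GoodIn (cl hω h2 gSc) c := goodIn_pk gin_E3 _ _

theorem good_gQ : ∀ c ∈ gQc, Good hω h2 c := by
  intro c hc
  rcases mem_gQ.1 hc with h | h
  · rw [h]; exact good_ca
  · exact (gin_Qs c h).1

theorem cl_gQ_le : cl hω h2 gQc ≤ cl hω h2 gSc := by
  apply cl_le
  intro c hc
  rcases mem_gQ.1 hc with h | h
  · rw [h]; exact elJ_mem_cl (mem_gS.2 (Or.inl rfl))
  · exact (gin_Qs c h).2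

theorem gin_E4 : ∀ c ∈ E4c, GoodIn (cl hω h2 gQc) c :=
  goodIn_slpC _ _ _ (goodIn_initOf good_gQ)

theorem gin_LQ : ∀ c ∈ LQc, GoodIn (cl hω h2 gQc) c := goodIn_pk gin_E4 _ _

theorem gin_LP : ∀ c ∈ LPc, GoodIn (cl hω h2 Hsc) c :=
  goodIn_prods gin_Tc fun c hc => (gin_LS c hc).mono cl_gS_le

/-! ### the enumerations -/

theorem enumS : ∀ x ∈ cl hω h2 gSc, ∃ c ∈ LSc, x = elJ hω h2 c :=
  enum_sound good_gS (fun c hc => (gin_LS c hc).1) chk_parts.2.2.2.1

theorem ndS : LSc.Nodup ∧ LSc.length = 128 := nd_sound chk_parts.2.2.2.2.1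

theorem cardS : Nat.card ↥(cl hω h2 gSc) = 128 := by
  rw [card_of_enum gin_LS enumS ndS.1, ndS.2]

theorem enumP : ∀ x ∈ cl hω h2 Hsc, ∃ c ∈ LPc, x = elJ hω h2 c := by
  intro x hx
  obtain ⟨t, ht, y, hy, rfl⟩ := cos_sound good_Hs (fun c hc => (gin_Tc c hc).1) gin_LS
    chk_parts.2.2.2.2.2.2.2.2.1 x hx
  obtain ⟨s, hs, rfl⟩ := enumS y hy
  exact ⟨lmul t s, mem_prods.2 ⟨t, ht, s, hs, rfl⟩, (elJ_lmul (gin_Tc t ht).1 (gin_LS s hs).1).symm⟩

theorem ndP : LPc.Nodup ∧ LPc.length = 1920 := nd_sound chk_parts.2.2.2.2.2.2.2.2.2.1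

theorem cardP : Nat.card ↥(cl hω h2 Hsc) = 1920 := by
  rw [card_of_enum gin_LP enumP ndP.1, ndP.2]

/-! ### the class of `z` -/

/-- the code represents a conjugate of `z` -/
def ConjZ (hω : ω ^ 2 + ω + 1 = 0) (h2 : (2 : F) = 0) (c : ℕ) : Prop :=
  Good hω h2 c ∧ ∃ w : ↥(G₂ hω h2), elJ hω h2 c = w * elJ hω h2 ca * w⁻¹

theorem conjZ_ca : ConjZ hω h2 ca := ⟨good_ca, 1, by group⟩

theorem conjZ_step {g gi x : ℕ} (hg : Good hω h2 g) (hgi : Good hω h2 gi) (hinv : lmul g gi = lone)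
    (hx : ConjZ hω h2 x) : ConjZ hω h2 (lmul (lmul g x) gi) := by
  obtain ⟨gx, w, hw⟩ := hx
  refine ⟨(hg.mul gx).mul hgi, elJ hω h2 g * w, ?_⟩
  rw [elJ_lmul (hg.mul gx) hgi, elJ_lmul hg gx, elJ_inv_of hg hgi hinv, hw]
  group

attribute [local irreducible] dfs in
theorem class_bound :
    Nat.card (Subgroup.centralizer ({elJ hω h2 ca} : Set ↥(G₂ hω h2))) ≤ 5760 := by
  classical
  have h := clsChk_ok
  unfold clsChkOf at h
  obtain ⟨hnd, hlen⟩ := incLen0_sound _ _ h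
  have hconj : ∀ c ∈ BT.keys (dfs cfuel 1 cprog [ca] (BT.node BT.leaf ca BT.leaf)),
      ConjZ hω h2 c := by
    intro c hc
    rw [BT.mem_keys] at hc
    have key := dfs_sound (ConjZ hω h2) (fun x hx => conjZ_step good_ca good_cai chk_inv.1 hx)
      (fun x hx => conjZ_step good_cb good_cbi chk_inv.2.2.1 hx) cfuel 1 cprog [ca]
      (BT.node BT.leaf ca BT.leaf)
    apply key _ _ c hc
    · intro x hx
      rw [List.mem_singleton] at hx
      rw [hx]; exact conjZ_ca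
    · intro x hx
      simp only [BT.Mem, false_or, or_false] at hx
      rw [hx]; exact conjZ_ca
  have hs : ∀ y ∈ ((BT.keys (dfs cfuel 1 cprog [ca] (BT.node BT.leaf ca BT.leaf))).map
      (elJ hω h2)).toFinset, ∃ w : ↥(G₂ hω h2), y = w * elJ hω h2 ca * w⁻¹ := by
    intro y hy
    rw [List.mem_toFinset, List.mem_map] at hy
    obtain ⟨c, hc, rfl⟩ := hy
    exact (hconj c hc).2
  have hcard : ((BT.keys (dfs cfuel 1 cprog [ca] (BT.node BT.leaf ca BT.leaf))).map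
      (elJ hω h2)).toFinset.card = 26163 := by
    rw [List.toFinset_card_of_nodup, List.length_map, hlen]
    exact List.Nodup.map_on (fun a ha b hb e => elJ_inj (hconj a ha).1 (hconj b hb).1 e) hnd
  have := card_mul_centralizer_le (elJ hω h2 ca) _ hs
  rw [hcard, card_G₂ hω h2] at this
  omega

/-! ### the certificate -/

theorem z_sq : elJ hω h2 ca * elJ hω h2 ca = 1 := by
  rw [← elJ_lmul good_ca good_ca, Nat.eq_of_beq_eq_true chk_parts.2.1, elJ_lone]

theorem z_ne : elJ hω h2 ca ≠ 1 := by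
  intro h
  rw [← elJ_lone] at h
  have := elJ_inj good_ca good_lone h
  revert this
  unfold ca lone
  norm_num

theorem comm_P0 : ∀ p ∈ cl hω h2 Hsc, p * elJ hω h2 ca = elJ hω h2 ca * p := by
  intro p hp
  have hs := hs_sound good_Hs good_gQ good_ca gin_LQ chk_parts.2.2.1 (hω := hω) (h2 := h2)
  unfold cl at hp
  induction hp using Subgroup.closure_induction with
  | mem x hx =>
    obtain ⟨c, hc, rfl⟩ := hx
    exact (hs c hc).2.1
  | one => rw [one_mul, mul_one]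
  | mul x y _ _ hx hy => rw [mul_assoc, hy, ← mul_assoc, hx, mul_assoc]
  | inv x _ hx =>
    have : x⁻¹ * (x * elJ hω h2 ca) * x⁻¹ = x⁻¹ * (elJ hω h2 ca * x) * x⁻¹ := by rw [hx]
    calc x⁻¹ * elJ hω h2 ca = x⁻¹ * (elJ hω h2 ca * x) * x⁻¹ := by group
      _ = x⁻¹ * (x * elJ hω h2 ca) * x⁻¹ := by rw [hx]
      _ = elJ hω h2 ca * x⁻¹ := by group

theorem comm_S0 : ∀ s ∈ cl hω h2 gSc, elJ hω h2 ca * s = s * elJ hω h2 ca :=
  fun s hs => (comm_P0 s (cl_gS_le hs)).symm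

theorem k8 : ∀ p ∈ cl hω h2 Hsc, p = 1 ∨ p = elJ hω h2 ca ∨
    ∃ q ∈ cl hω h2 gQc, p * q ≠ q * p := by
  intro p hp
  obtain ⟨c, hc, rfl⟩ := enumP p hp
  exact k_sound' good_ca good_gQ (fun c hc => (gin_LP c hc).1) chk_parts.2.2.2.2.2.2.2.2.2.2 c hc

theorem k9 : ∀ x ∈ cl hω h2 gSc, x = 1 ∨ x = elJ hω h2 ca ∨
    ∃ g ∈ cl hω h2 gSc, x * g ≠ g * x := by
  intro x hx
  obtain ⟨c, hc, rfl⟩ := enumS x hx
  exact k_sound' good_ca good_gS (fun c hc => (gin_LS c hc).1) chk_parts.2.2.2.2.2.2.2.1 c hc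

theorem zeta_not_in_P0 : ∀ n ∈ Subgroup.zpowers (zG hω h2), n ∈ cl hω h2 Hsc → n = 1 := by
  intro n hn hnP
  have hnc : ∀ t : ↥(G₂ hω h2), t * n = n * t :=
    fun t => Subgroup.mem_center_iff.1 (zpowers_le_center hω h2 hn) t
  rcases k8 n hnP with h | h | ⟨q, _, hne⟩
  · exact h
  · have hn3 : n ^ 3 = 1 := by
      have := pow_card_eq_one' (G := Subgroup.zpowers (zG hω h2)) (x := ⟨n, hn⟩)
      rw [card_zpowers hω h2] at this
      exact congrArg Subtype.val this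
    have hn2 : n * n = 1 := by rw [h]; exact z_sq
    have : n ^ 3 = n := by rw [pow_succ, pow_two, hn2, one_mul]
    rw [← this, hn3]
  · exact absurd (hnc q).symm hne

theorem cent_z : ∀ g : ↥(G₂ hω h2), g * elJ hω h2 ca = elJ hω h2 ca * g →
    ∃ n ∈ Subgroup.zpowers (zG hω h2), ∃ p ∈ cl hω h2 Hsc, g = n * p :=
  cent_decomp (elJ hω h2 ca) (Subgroup.zpowers (zG hω h2)) (cl hω h2 Hsc) (zpowers_le_center hω h2)
    (card_zpowers hω h2) cardP comm_P0 zeta_not_in_P0 class_bound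

theorem P0_le : cl hω h2 Hsc ≤ pNormGen 2 (cl hω h2 gQc) := by
  apply cl_le
  intro a ha
  obtain ⟨hsq, -, hconj⟩ := hs_sound good_Hs good_gQ good_ca gin_LQ chk_parts.2.2.1
    (hω := hω) (h2 := h2) a ha
  apply Subgroup.subset_closure
  refine ⟨?_, ?_⟩
  · unfold cl
    apply mem_normalizer_closure_of_invol hsq
    rintro _ ⟨c, hc, rfl⟩
    exact hconj c hc
  · have hd : orderOf (elJ hω h2 a) ∣ 2 := orderOf_dvd_of_pow_eq_one (by rw [pow_two]; exact hsq)
    rcases (Nat.dvd_prime Nat.prime_two).1 hd with h1 | h1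
    · exact ⟨0, by rw [h1, pow_zero]⟩
    · exact ⟨1, by rw [h1, pow_one]⟩

end

section

variable {F : Type*} [Field F] [Finite F] {ω : F} (hω : ω ^ 2 + ω + 1 = 0) (h2 : (2 : F) = 0)

/-- **the certificate for `3·J₃`** -/
theorem cert : Cert2 2 (cl hω h2 gSc) := by
  apply cert_abs (cl hω h2 gSc) (cl hω h2 gQc) (cl hω h2 Hsc) (Subgroup.zpowers (zG hω h2))
    (elJ hω h2 ca) {x | ∃ c ∈ gSc, elJ hω h2 c = x}
  · rw [card_G₂ hω h2]; exact fact2J3
  · exact cardS
  · exact z_ne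
  · exact z_sq
  · exact k9
  · exact comm_S0
  · rfl
  · rintro _ ⟨c, hc, rfl⟩
    rcases mem_gS.1 hc with h | h
    · exact ⟨1, by rw [h]; group⟩
    · exact conj_sound' good_ca (fun c hc => (gin_Rs c hc).1) good_Ws chk_parts.2.2.2.2.2.2.1 c h
  · exact cl_gQ_le
  · exact elJ_mem_cl (mem_gQ.2 (Or.inl rfl))
  · exact zpowers_le_center hω h2
  · exact card_zpowers hω h2
  · exact cent_z
  · exact k8
  · exact P0_le

/-- the projection of `3·J₃` onto `J₃` -/
noncomputable def toJ3 : ↥(G₂ hω h2) →* J3 F ω :=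
  (QuotientGroup.mk' (Subgroup.center ↥(threeJ3 F ω))).comp
    (MulEquiv.subgroupCongr (threeJ3_eq hω h2).symm).toMonoidHom

theorem toJ3_surjective : Function.Surjective (toJ3 hω h2) := by
  unfold toJ3
  rw [MonoidHom.coe_comp]
  exact (QuotientGroup.mk'_surjective _).comp (MulEquiv.surjective _)

theorem ker_toJ3_le : (toJ3 hω h2).ker ≤ Subgroup.center ↥(G₂ hω h2) := by
  intro x hx
  rw [MonoidHom.mem_ker] at hx
  unfold toJ3 at hx
  rw [MonoidHom.comp_apply, QuotientGroup.mk'_apply, QuotientGroup.eq_one_iff] at hx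
  rw [Subgroup.mem_center_iff] at hx ⊢
  intro y
  have := hx ((MulEquiv.subgroupCongr (threeJ3_eq hω h2).symm) y)
  apply (MulEquiv.subgroupCongr (threeJ3_eq hω h2).symm).injective
  rw [map_mul, map_mul]
  exact this

end

/-- **the 2-fusion system of a group isomorphic to `J₃` is simple** -/
theorem fusion_simple {G : Type*} [Group G] [Finite G] (hG : Cfsg.Spor.IsoJ3 G) (S : Sylow 2 G) :
    (Cfsg.groupFusionSystem (S : Subgroup G)).IsSimple 2 := by
  obtain ⟨F, _, _, ω, hF, hω, ⟨e⟩⟩ := hG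
  have h2 : (2 : F) = 0 := two_eq_zero_of_card hF
  have : Fact (Nat.Prime 2) := ⟨Nat.prime_two⟩
  have hsurj : Function.Surjective (e.symm.toMonoidHom.comp (toJ3 hω h2)) := by
    rw [MonoidHom.coe_comp]
    exact e.symm.surjective.comp (toJ3_surjective hω h2)
  have hkerEq : (e.symm.toMonoidHom.comp (toJ3 hω h2)).ker = (toJ3 hω h2).ker := by
    ext x
    rw [MonoidHom.mem_ker, MonoidHom.mem_ker, MonoidHom.comp_apply]
    exact e.symm.map_eq_one_iff
  have hker : (e.symm.toMonoidHom.comp (toJ3 hω h2)).ker ≤ Subgroup.center ↥(G₂ hω h2) := by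
    rw [hkerEq]; exact ker_toJ3_le hω h2
  have hcop : (Nat.card (e.symm.toMonoidHom.comp (toJ3 hω h2)).ker).Coprime 2 := by
    have hd : Nat.card (e.symm.toMonoidHom.comp (toJ3 hω h2)).ker ∣ 3 := by
      have := Subgroup.card_dvd_of_le hker
      rwa [(main_G₂ hω h2).1] at this
    exact Nat.Coprime.coprime_dvd_left hd (by norm_num)
  have hc := Cert2.map 2 (e.symm.toMonoidHom.comp (toJ3 hω h2)) hsurj hker hcop (cl hω h2 gSc)
    (cert hω h2)
  exact isSimple_of_cert2 2 _ hc S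

end Cfsg.Agent.Lib.Helper5.J3Fus
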