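import Mathlib
import Cfsg.Agent.Lib.Helper5.J3Fus
import Cfsg.Agent.Lib.Helper5.J3CentChk
import Cfsg.Agent.Lib.Helper5.J3CentB

/-!
# The involutions of the third Janko group and their centralisers

With the notation of `J3Fus`: every involution of `Γ = 3·J₃` is conjugate to `z` (it is conjugate into the Sylow
2-subgroup `S0`, whose 35 involutions are conjugate to `z` by explicit elements); `Q0 = cl gQc` has 32 elements and is
extraspecial of minus type (pair table); `P0 = cl Hsc` (of order 1920, with `C_Γ(z) = Z × P0`) contains the subgroup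
generated by `a`, `b` with `a³ = b⁵ = (ab)² = 1`, a copy of `A₅`, which is a complement of `Q0` in `P0`.
The projection `Γ → J₃` maps `P0` isomorphically onto the centraliser of the image of `z`.
-/

set_option autoImplicit false

namespace Cfsg.Agent.Lib.Helper5.J3Fus

open Cfsg Cfsg.Spor Cfsg.Agent.Lib.Helper6.J3 Cfsg.Agent.Lib.Helper6.F4 Cfsg.Agent.H9.GfsSimple3

def E5c : List ℕ := slpC (initOf [ca, cb, cbi]) 4 centData.prog5
def Ws2c : List ℕ := pk E5c centData.n5 centData.iw2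
def E6c : List ℕ := slpC (initOf Hsc) 6 centData.prog6
def uac : ℕ := E6c.getD (centData.n6 - 1 - centData.ja) lone
def ubc : ℕ := E6c.getD (centData.n6 - 1 - centData.jb) lone

theorem cenAll_ok : cenAll LSc Ws2c LQc Qsc (BT.ofList LQc BT.leaf) uac ubc centData.tInv = true := by
  have h := cenChk_ok
  unfold cenChkOf at h
  simp only [forceL_eq, BT.force_eq] at h
  exact h

theorem cen_parts : invChk ca Ws2c LSc centData.tInv = true ∧
    enumChk gQc LQc (BT.ofList LQc BT.leaf) = true ∧ ndChk LQc (BT.ofList LQc BT.leaf) 32 = true ∧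
    pairChk ca LQc = true ∧ sqChk ca LQc = true ∧ naChk LQc = true ∧ a5Chk uac ubc = true := by
  have h := cenAll_ok
  unfold cenAll at h
  simp only [Bool.and_eq_true] at h
  obtain ⟨⟨⟨⟨⟨⟨c1, c2⟩, c3⟩, c4⟩, c5⟩, c6⟩, c7⟩ := h
  exact ⟨c1, c2, c3, c4, c5, c6, c7⟩

section

variable {F : Type*} [Field F] [Finite F] {ω : F} {hω : ω ^ 2 + ω + 1 = 0} {h2 : (2 : F) = 0}

theorem gin_E5 : ∀ c ∈ E5c, GoodIn (⊤ : Subgroup ↥(G₂ hω h2)) c := by
  apply goodIn_slpC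
  apply goodIn_initOf'
  intro c hc
  simp only [List.mem_cons, List.not_mem_nil, or_false] at hc
  rcases hc with rfl | rfl | rfl
  · exact goodIn_top good_ca
  · exact goodIn_top good_cb
  · exact goodIn_top good_cbi

theorem good_Ws2 : ∀ c ∈ Ws2c, Good hω h2 c := fun c hc => (goodIn_pk gin_E5 _ _ c hc).1

theorem gin_E6 : ∀ c ∈ E6c, GoodIn (cl hω h2 Hsc) c :=
  goodIn_slpC _ _ _ (goodIn_initOf good_Hs)

theorem gin_ua : GoodIn (cl hω h2 Hsc) uac := goodIn_getD gin_E6 _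
theorem gin_ub : GoodIn (cl hω h2 Hsc) ubc := goodIn_getD gin_E6 _

/-! ### the subgroup `Q0` -/

theorem enumQ : ∀ x ∈ cl hω h2 gQc, ∃ c ∈ LQc, x = elJ hω h2 c :=
  enum_sound good_gQ (fun c hc => (gin_LQ c hc).1) cen_parts.2.1

theorem ndQ : LQc.Nodup ∧ LQc.length = 32 := nd_sound cen_parts.2.2.1

theorem cardQ : Nat.card ↥(cl hω h2 gQc) = 32 := by
  rw [card_of_enum (K := cl hω h2 gQc) gin_LQ enumQ ndQ.1, ndQ.2]

theorem ca_ne_lone : ca ≠ lone := by
  unfold ca lone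
  norm_num

/-! ### the involutions of `Γ` -/

theorem inv_S0 : ∀ x ∈ cl hω h2 gSc, x * x = 1 → x ≠ 1 →
    ∃ w : ↥(G₂ hω h2), x = w * elJ hω h2 ca * w⁻¹ := by
  intro x hx hx2 hx1
  obtain ⟨c, hc, rfl⟩ := enumS x hx
  rcases inv_sound' (hω := hω) (h2 := h2) good_ca good_Ws2 (fun c hc => (gin_LS c hc).1)
      cen_parts.1 c hc with
    h | h | h
  · exact absurd h hx1
  · exact absurd hx2 h
  · exact h

/-- **every involution of `3·J₃` is conjugate to `z`** -/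
theorem inv_conj (x : ↥(G₂ hω h2)) (hx2 : x * x = 1) (hx1 : x ≠ 1) :
    ∃ w : ↥(G₂ hω h2), x = w * elJ hω h2 ca * w⁻¹ := by
  have : Fact (Nat.Prime 2) := ⟨Nat.prime_two⟩
  have hcard : Nat.card ↥(cl hω h2 gSc) = 2 ^ (Nat.card ↥(G₂ hω h2)).factorization 2 := by
    rw [card_G₂ hω h2, fact2J3, cardS]; norm_num
  let P : Sylow 2 ↥(G₂ hω h2) := Sylow.ofCard (cl hω h2 gSc) hcard
  have hord : orderOf x = 2 := orderOf_eq_prime (by rw [pow_two]; exact hx2) hx1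
  have hp : IsPGroup 2 ↥(Subgroup.zpowers x) :=
    IsPGroup.of_card (n := 1) (by rw [Nat.card_zpowers, hord, pow_one])
  obtain ⟨P', hP'⟩ := hp.exists_le_sylow
  obtain ⟨g, hg⟩ := MulAction.exists_smul_eq ↥(G₂ hω h2) P' P
  have hxP' : x ∈ P' := hP' (Subgroup.mem_zpowers x)
  have hgx : g * x * g⁻¹ ∈ cl hω h2 gSc := by
    have h1 : g * x * g⁻¹ ∈ ((g • P' : Sylow 2 ↥(G₂ hω h2)) : Subgroup ↥(G₂ hω h2)) := by
      rw [Sylow.smul_def, Sylow.pointwise_smul_def]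
      have e : g * x * g⁻¹ = MulAut.conj g • x := by simp [MulAut.smul_def]
      rw [e, Subgroup.smul_mem_pointwise_smul_iff]
      exact hxP'
    rw [hg] at h1
    exact h1
  have hne : g * x * g⁻¹ ≠ 1 := by
    intro h
    apply hx1
    have : x = g⁻¹ * (g * x * g⁻¹) * g := by group
    rw [this, h]; group
  have hsq : g * x * g⁻¹ * (g * x * g⁻¹) = 1 := by
    calc g * x * g⁻¹ * (g * x * g⁻¹) = g * (x * x) * g⁻¹ := by group
      _ = 1 := by rw [hx2]; group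
  obtain ⟨w, hw⟩ := inv_S0 _ hgx hsq hne
  refine ⟨g⁻¹ * w, ?_⟩
  calc x = g⁻¹ * (g * x * g⁻¹) * g := by group
    _ = g⁻¹ * (w * elJ hω h2 ca * w⁻¹) * g := by rw [hw]
    _ = g⁻¹ * w * elJ hω h2 ca * (g⁻¹ * w)⁻¹ := by group

/-! ### the structure of `P0` -/

/-- the complement -/
noncomputable def H0 (hω : ω ^ 2 + ω + 1 = 0) (h2 : (2 : F) = 0) : Subgroup ↥(G₂ hω h2) :=
  Subgroup.closure {elJ hω h2 uac, elJ hω h2 ubc}

theorem H0_le : H0 hω h2 ≤ cl hω h2 Hsc := by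
  unfold H0
  rw [Subgroup.closure_le]
  rintro x (rfl | rfl)
  · exact gin_ua.2
  · exact gin_ub.2

theorem H0_iso : Nonempty (↥(H0 hω h2) ≃* alternatingGroup (Fin 5)) := by
  obtain ⟨h3, h5, h2', h1⟩ := a5_sound (hω := hω) (h2 := h2) gin_ua.1 gin_ub.1 cen_parts.2.2.2.2.2.2
  exact Cfsg.Agent.H9.A5CntA.closure_iso_A5 _ _ h3 h5 h2' h1

theorem Q0_le_P0 : cl hω h2 gQc ≤ cl hω h2 Hsc := cl_gQ_le.trans cl_gS_le

theorem P0_normalizes : ∀ p ∈ cl hω h2 Hsc, ∀ q ∈ cl hω h2 gQc, p * q * p⁻¹ ∈ cl hω h2 gQc := by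
  intro p hp q hq
  have h1 : pNormGen 2 (cl hω h2 gQc) ≤
      Subgroup.normalizer ((cl hω h2 gQc : Subgroup ↥(G₂ hω h2)) : Set ↥(G₂ hω h2)) := by
    unfold pNormGen
    rw [Subgroup.closure_le]
    rintro g ⟨hg, -⟩
    exact hg
  exact (Subgroup.mem_normalizer_iff.1 (h1 (P0_le hp)) q).1 hq

/-- **the structure of `P0`** -/
theorem pkg_P0 : IsTwoA5Split ↥(cl hω h2 Hsc) := by
  have hpair := pair_sound (hω := hω) (h2 := h2) good_ca ca_ne_lone (fun c hc => (gin_LQ c hc).1)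
    cen_parts.2.2.2.1
  apply isTwoA5Split_of (cl hω h2 Hsc) (cl hω h2 gQc) (H0 hω h2) (elJ hω h2 ca) Q0_le_P0 H0_le
    P0_normalizes cardP cardQ (elJ_mem_cl (mem_gQ.2 (Or.inl rfl))) z_ne z_sq
  · intro q hq
    exact comm_P0 q (Q0_le_P0 hq)
  · intro x hx y hy
    obtain ⟨c, hc, rfl⟩ := enumQ x hx
    obtain ⟨d, hd, rfl⟩ := enumQ y hy
    exact (hpair c hc d hd).1
  · intro x hx
    obtain ⟨c, hc, rfl⟩ := enumQ x hx
    exact sq_sound (fun c hc => (gin_LQ c hc).1) cen_parts.2.2.2.2.1 c hc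
  · intro x hx
    exact k8 x (Q0_le_P0 hx)
  · obtain ⟨x, hx, y, hy, hne⟩ := na_sound (hω := hω) (h2 := h2) (fun c hc => (gin_LQ c hc).1)
      cen_parts.2.2.2.2.2.1
    exact ⟨_, (gin_LQ x hx).2, _, (gin_LQ y hy).2, hne⟩
  · intro x hx y hy
    obtain ⟨c, hc, rfl⟩ := enumQ x hx
    obtain ⟨d, hd, rfl⟩ := enumQ y hy
    exact (hpair c hc d hd).2
  · exact H0_iso

end

section

variable {F : Type*} [Field F] [Finite F] {ω : F} (hω : ω ^ 2 + ω + 1 = 0) (h2 : (2 : F) = 0)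

/-! ### the projection onto `J₃` -/

theorem toJ3_eq_one_iff (x : ↥(G₂ hω h2)) :
    toJ3 hω h2 x = 1 ↔ x ∈ Subgroup.center ↥(G₂ hω h2) := by
  constructor
  · intro h
    exact ker_toJ3_le hω h2 ((MonoidHom.mem_ker).2 h)
  · intro hx
    unfold toJ3
    rw [MonoidHom.comp_apply, QuotientGroup.mk'_apply, QuotientGroup.eq_one_iff]
    rw [Subgroup.mem_center_iff] at hx ⊢
    intro y
    obtain ⟨y', rfl⟩ := (MulEquiv.subgroupCongr (threeJ3_eq hω h2).symm).surjective y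
    show (MulEquiv.subgroupCongr (threeJ3_eq hω h2).symm) y' *
      (MulEquiv.subgroupCongr (threeJ3_eq hω h2).symm) x =
      (MulEquiv.subgroupCongr (threeJ3_eq hω h2).symm) x *
      (MulEquiv.subgroupCongr (threeJ3_eq hω h2).symm) y'
    rw [← map_mul, ← map_mul, hx y']

theorem center_pow_three {n : ↥(G₂ hω h2)} (hn : n ∈ Subgroup.center ↥(G₂ hω h2)) : n ^ 3 = 1 := by
  have := pow_card_eq_one' (G := Subgroup.center ↥(G₂ hω h2)) (x := ⟨n, hn⟩)
  rw [(main_G₂ hω h2).1] at this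
  exact congrArg Subtype.val this

theorem center_inter_P0 {n : ↥(G₂ hω h2)} (hn : n ∈ Subgroup.center ↥(G₂ hω h2))
    (hnP : n ∈ cl hω h2 Hsc) : n = 1 := by
  have hnc : ∀ t : ↥(G₂ hω h2), t * n = n * t := fun t => Subgroup.mem_center_iff.1 hn t
  rcases k8 n hnP with h | h | ⟨q, _, hne⟩
  · exact h
  · have hn3 := center_pow_three hω h2 hn
    have hn2 : n * n = 1 := by rw [h]; exact z_sq
    have : n ^ 3 = n := by rw [pow_succ, pow_two, hn2, one_mul]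
    rw [← this, hn3]
  · exact absurd (hnc q).symm hne

/-- the image of `z` in `J₃` -/
noncomputable def tJ : J3 F ω := toJ3 hω h2 (elJ hω h2 ca)

theorem tJ_sq : tJ hω h2 * tJ hω h2 = 1 := by
  unfold tJ
  rw [← map_mul, z_sq, map_one]

theorem tJ_ne : tJ hω h2 ≠ 1 := by
  intro h
  have hz : elJ hω h2 ca ∈ Subgroup.center ↥(G₂ hω h2) := (toJ3_eq_one_iff hω h2 _).1 h
  exact z_ne (center_inter_P0 hω h2 hz gin_ca.2)

theorem orderOf_tJ : orderOf (tJ hω h2) = 2 := by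
  have : Fact (Nat.Prime 2) := ⟨Nat.prime_two⟩
  exact orderOf_eq_prime (by rw [pow_two]; exact tJ_sq hω h2) (tJ_ne hω h2)

/-- an element whose image commutes with the image of `z` commutes with `z` -/
theorem comm_of_toJ3_comm (g : ↥(G₂ hω h2))
    (h : toJ3 hω h2 g * tJ hω h2 = tJ hω h2 * toJ3 hω h2 g) :
    g * elJ hω h2 ca = elJ hω h2 ca * g := by
  have z_sq' : elJ hω h2 ca * elJ hω h2 ca = 1 := z_sq
  unfold tJ at h
  generalize elJ hω h2 ca = z at h z_sq' ⊢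
  -- `n = g z g⁻¹ z⁻¹` is central
  have hn : g * z * g⁻¹ * z⁻¹ ∈ Subgroup.center ↥(G₂ hω h2) := by
    rw [← toJ3_eq_one_iff]
    rw [map_mul, map_mul, map_mul, map_inv, map_inv, h]
    group
  have hnc : ∀ t : ↥(G₂ hω h2), t * (g * z * g⁻¹ * z⁻¹) = (g * z * g⁻¹ * z⁻¹) * t :=
    fun t => Subgroup.mem_center_iff.1 hn t
  have hn3 := center_pow_three hω h2 hn
  have hzinv : z⁻¹ = z := inv_eq_of_mul_eq_one_right z_sq'
  -- `(n z)² = 1` and `(n z)² = n²`
  have hn2 : (g * z * g⁻¹ * z⁻¹) * (g * z * g⁻¹ * z⁻¹) = 1 := by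
    have e1 : g * z * g⁻¹ = (g * z * g⁻¹ * z⁻¹) * z := by group
    have e2 : (g * z * g⁻¹) * (g * z * g⁻¹) = 1 := by
      calc (g * z * g⁻¹) * (g * z * g⁻¹) = g * (z * z) * g⁻¹ := by group
        _ = 1 := by rw [z_sq']; group
    rw [e1] at e2
    calc (g * z * g⁻¹ * z⁻¹) * (g * z * g⁻¹ * z⁻¹)
        = (g * z * g⁻¹ * z⁻¹) * (z * (g * z * g⁻¹ * z⁻¹)) * z⁻¹ := by
          rw [hnc z]; group
      _ = ((g * z * g⁻¹ * z⁻¹) * z * ((g * z * g⁻¹ * z⁻¹) * z)) * z⁻¹ * z⁻¹ := by group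
      _ = 1 := by rw [e2, hzinv, one_mul, z_sq']
  have hn1 : g * z * g⁻¹ * z⁻¹ = 1 := by
    have : (g * z * g⁻¹ * z⁻¹) ^ 3 = g * z * g⁻¹ * z⁻¹ := by
      rw [pow_succ, pow_two, hn2, one_mul]
    rw [← this, hn3]
  calc g * z = (g * z * g⁻¹ * z⁻¹) * (z * g) := by group
    _ = z * g := by rw [hn1, one_mul]

/-- the homomorphism from `P0` to the centraliser of the image of `z` -/
noncomputable def toCent : ↥(cl hω h2 Hsc) →*
    ↥(Subgroup.centralizer ({tJ hω h2} : Set (J3 F ω))) :=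
  ((toJ3 hω h2).comp (cl hω h2 Hsc).subtype).codRestrict _ (by
    intro p
    rw [Subgroup.mem_centralizer_singleton_iff]
    show toJ3 hω h2 p.1 * toJ3 hω h2 (elJ hω h2 ca) = toJ3 hω h2 (elJ hω h2 ca) * toJ3 hω h2 p.1
    rw [← map_mul, ← map_mul, comm_P0 p.1 p.2])

theorem toCent_bijective : Function.Bijective (toCent hω h2) := by
  constructor
  · rw [injective_iff_map_eq_one]
    intro p hp
    have h1 : toJ3 hω h2 p.1 = 1 := congrArg Subtype.val hp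
    have h3 := (toJ3_eq_one_iff hω h2 _).1 h1
    exact Subtype.ext (center_inter_P0 hω h2 h3 p.2)
  · rintro ⟨y, hy⟩
    obtain ⟨g, rfl⟩ := toJ3_surjective hω h2 y
    rw [Subgroup.mem_centralizer_singleton_iff] at hy
    have hg := comm_of_toJ3_comm hω h2 g hy
    obtain ⟨n, hn, p, hp, rfl⟩ := cent_z g hg
    refine ⟨⟨p, hp⟩, ?_⟩
    apply Subtype.ext
    show toJ3 hω h2 p = toJ3 hω h2 (n * p)
    rw [map_mul, (toJ3_eq_one_iff hω h2 n).2 (zpowers_le_center hω h2 hn), one_mul]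

/-- **the structure of the centraliser of an involution of `J₃`** -/
theorem pkg_cent : IsTwoA5Split ↥(Subgroup.centralizer ({tJ hω h2} : Set (J3 F ω))) :=
  IsTwoA5Split.of_equiv (MulEquiv.ofBijective (toCent hω h2) (toCent_bijective hω h2)) pkg_P0

/-- **the involutions of `J₃` are conjugate** -/
theorem inv_conj_J3 (x : J3 F ω) (hx : orderOf x = 2) :
    ∃ c : J3 F ω, x = c * tJ hω h2 * c⁻¹ := by
  obtain ⟨g, rfl⟩ := toJ3_surjective hω h2 x
  have hx2 : toJ3 hω h2 g ^ 2 = 1 := by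
    have := pow_orderOf_eq_one (toJ3 hω h2 g)
    rwa [hx] at this
  have hx1 : toJ3 hω h2 g ≠ 1 := by
    intro h
    rw [h, orderOf_one] at hx
    norm_num at hx
  -- `g ^ 3` is an involution with the same image
  have hg2 : g ^ 2 ∈ Subgroup.center ↥(G₂ hω h2) := by
    rw [← toJ3_eq_one_iff, map_pow]; exact hx2
  have h6 : g ^ 3 * g ^ 3 = 1 := by
    have := center_pow_three hω h2 hg2
    rw [← pow_mul] at this
    rw [← pow_add]; exact this
  have himg : toJ3 hω h2 (g ^ 3) = toJ3 hω h2 g := by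
    rw [map_pow, pow_succ, hx2, one_mul]
  have hne : g ^ 3 ≠ 1 := by
    intro h
    rw [h, map_one] at himg
    exact hx1 himg.symm
  obtain ⟨w, hw⟩ := inv_conj (g ^ 3) h6 hne
  refine ⟨toJ3 hω h2 w, ?_⟩
  unfold tJ
  rw [← himg, hw, map_mul, map_mul, map_inv]

end

/-- **S2135** -/
theorem involutions_J3 {F : Type*} [Field F] [Fintype F] (hF : Fintype.card F = 4) (ω : F)
    (hω : ω ^ 2 + ω + 1 = 0) :
    (∀ x y : Cfsg.Spor.J3 F ω, orderOf x = 2 → orderOf y = 2 → IsConj x y) ∧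
    ∃ t : Cfsg.Spor.J3 F ω, orderOf t = 2 ∧
      ∃ (Q : Subgroup ↥(Subgroup.centralizer ({t} : Set (Cfsg.Spor.J3 F ω)))) (_ : Q.Normal),
        Cfsg.IsExtraspecial 2 Q ∧ Nat.card Q = 32 ∧
        (∀ E : Subgroup Q, Cfsg.IsElementaryAbelian 2 E → Nat.card E ≤ 2 ^ 2) ∧
        (∃ H : Subgroup ↥(Subgroup.centralizer ({t} : Set (Cfsg.Spor.J3 F ω))), Q.IsComplement' H) ∧
        Nonempty (↥(Subgroup.centralizer ({t} : Set (Cfsg.Spor.J3 F ω))) ⧸ Q ≃*
          ↥(alternatingGroup (Fin 5))) := by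
  have h2 : (2 : F) = 0 := two_eq_zero_of_card hF
  refine ⟨?_, tJ hω h2, orderOf_tJ hω h2, pkg_cent hω h2⟩
  intro x y hx hy
  obtain ⟨c, rfl⟩ := inv_conj_J3 hω h2 x hx
  obtain ⟨d, rfl⟩ := inv_conj_J3 hω h2 y hy
  rw [isConj_iff]
  refine ⟨d * c⁻¹, ?_⟩
  group

end Cfsg.Agent.Lib.Helper5.J3Fus
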