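import Cfsg.Agent.Lib.Helper5.J3MultD
import Cfsg.Agent.Lib.Helper5.J3MultE

/-!
# The Schur multiplier of the third Janko group is cyclic of order three

`Γ = G₂ hω h2 → J₃` is a stem extension with kernel the centre of order `3` (the central element is a commutator), and
every finite stem extension of `J₃` has at most `|Γ|` elements (`card_stem_le`), hence is a quotient of `Γ`.
-/

set_option autoImplicit false

namespace Cfsg.Agent.Lib.Helper5.J3Mult

open Cfsg Cfsg.Spor Cfsg.Agent.Lib.Helper6.J3 Cfsg.Agent.Lib.Helper6.F4 Cfsg.Agent.Lib.Helper5.J3Fus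
open scoped commutatorElement

section

variable {F : Type*} [Field F] [Finite F] {ω : F} (hω : ω ^ 2 + ω + 1 = 0) (h2 : (2 : F) = 0)

theorem good_c12 : Good hω h2 c12 :=
  ⟨by unfold Canon c12; norm_num, ⟨(sys hω h2).gen 12, (sys hω h2).hH 12⟩, by
    rw [sys_hgen, ← chk_zeta.2.1]⟩

/-- the central element is a commutator -/
theorem zG_mem_commutator : zG hω h2 ∈ commutator ↥(G₂ hω h2) := by
  have g12 := good_c12 hω h2
  have g12' : Good hω h2 (lmul c12 c12) := g12.mul g12
  have hinv : elJ hω h2 (lmul c12 c12) = (elJ hω h2 c12)⁻¹ := elJ_inv_of g12 g12' chk_zeta.2.2.1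
  have hb : elJ hω h2 cbi = (elJ hω h2 cb)⁻¹ := elJ_inv_of good_cb good_cbi chk_inv.2.2.1
  have h : zG hω h2 = ⁅elJ hω h2 cb, elJ hω h2 c12⁆ := by
    rw [← elJ_zeta, ← chk_zeta.2.2.2, elJ_lmul (good_cb.mul g12) (good_cbi.mul g12'),
      elJ_lmul good_cb g12, elJ_lmul good_cbi g12', hinv, hb, commutatorElement_def]
    group
  rw [h]
  exact Subgroup.commutator_mem_commutator (Subgroup.mem_top _) (Subgroup.mem_top _)

theorem center_eq_zpowers : Subgroup.center ↥(G₂ hω h2) = Subgroup.zpowers (zG hω h2) := by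
  have : Finite ↥(G₂ hω h2) := Nat.finite_of_card_ne_zero (by rw [card_G₂ hω h2]; norm_num)
  symm
  apply Subgroup.eq_of_le_of_card_ge (zpowers_le_center hω h2)
  rw [(main_G₂ hω h2).1, card_zpowers hω h2]

theorem ker_toJ3 : (toJ3 hω h2).ker = Subgroup.center ↥(G₂ hω h2) := by
  ext x
  rw [MonoidHom.mem_ker, toJ3_eq_one_iff]

/-- **`3·J₃ → J₃` is a stem extension** -/
theorem stem_toJ3 : IsStemExtension (toJ3 hω h2) := by
  refine ⟨toJ3_surjective hω h2, ker_toJ3_le hω h2, ?_⟩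
  rw [ker_toJ3, center_eq_zpowers, Subgroup.zpowers_le]
  exact zG_mem_commutator hω h2

include hω h2 in
/-- `J₃` is perfect -/
theorem perfect_J3 : commutator (J3 F ω) = ⊤ := by
  have hs : IsSimpleGroup (J3 F ω) := (main hω h2).2.2.2
  rcases hs.eq_bot_or_eq_top_of_normal (commutator (J3 F ω)) inferInstance with h | h
  · exfalso
    -- then the centraliser of `tJ` would have trivial commutator subgroup
    have h1 : ⁅Cz (tJ hω h2), Cz (tJ hω h2)⁆ ≤ commutator (J3 F ω) := by
      rw [commutator_def]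
      exact Subgroup.commutator_mono le_top le_top
    rw [h, ← Subgroup.map_subtype_commutator, perfect_cent hω h2, ← MonoidHom.range_eq_map,
      Subgroup.range_subtype] at h1
    have h3 : tJ hω h2 ∈ Cz (tJ hω h2) := by
      rw [Subgroup.mem_centralizer_singleton_iff]
    exact tJ_ne hω h2 ((Subgroup.mem_bot).1 (h1 h3))
  · exact h

end

/-- **the Schur multiplier of `J₃` is cyclic of order three** -/
theorem multiplier_J3 {F : Type*} [Field F] [Fintype F] (hF : Fintype.card F = 4) (ω : F)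
    (hω : ω ^ 2 + ω + 1 = 0) : HasCyclicSchurMultiplier (J3 F ω) 3 := by
  have h2 : (2 : F) = 0 := two_eq_zero_of_card hF
  have hfin : Finite ↥(G₂ hω h2) := Nat.finite_of_card_ne_zero (by rw [card_G₂ hω h2]; norm_num)
  have : Fact (Nat.Prime 3) := ⟨by norm_num⟩
  have hk3 : Nat.card ↥(toJ3 hω h2).ker = 3 := by
    rw [ker_toJ3, (main_G₂ hω h2).1]
  have hz3 : Nat.card (Multiplicative (ZMod 3)) = 3 := by
    rw [Nat.card_eq_fintype_card, Fintype.card_multiplicative, ZMod.card]
  have e : Multiplicative (ZMod 3) ≃* ↥(toJ3 hω h2).ker := mulEquivOfPrimeCardEq hz3 hk3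
  refine ⟨⟨↥(G₂ hω h2), inferInstance, hfin, toJ3 hω h2, stem_toJ3 hω h2, ⟨e.symm⟩⟩, ?_⟩
  intro E _ _ σ hσ
  obtain ⟨f, hf⟩ := exists_ker_surjective (toJ3 hω h2) (stem_toJ3 hω h2) σ hσ (perfect_J3 hω h2)
    (fun D _ _ ρ hρ => by
      rw [card_G₂ hω h2]
      exact card_stem_le hω h2 ρ hρ.1 hρ.2.1 hρ.2.2)
  exact ⟨f.comp e.toMonoidHom, hf.comp e.surjective⟩

end Cfsg.Agent.Lib.Helper5.J3Mult
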