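import Mathlib

/-! Data for the Schur multiplier of `J₃` (generated by a script): four involutions, the words that make them
conjugates of the first generator, the coincidences of conjugates behind the words of the certificates. -/

set_option autoImplicit false

namespace Cfsg.Agent.Lib.Helper5.J3Mult

/-- the codes of the four involutions -/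
def gcodes : List ℕ := [411248893610256111161963963659483702113636293822, 1880985308685686344361436709931091013312427545581, 777549903754079425667408834056221476581534068054, 2621354462116012610986649725675881828538243049804]

/-- the words (letters `0 = a`, `1 = b`, `2 = b⁻¹`) that conjugate the first generator to the four involutions -/
def gwords : List (List ℕ) := [[0, 1, 1, 1, 0, 2, 2, 2, 2, 0, 1], [2, 0, 1, 1, 1, 0, 2, 0, 1, 1, 1, 0, 1, 1, 0, 2], [1, 0, 1, 0, 1, 1, 0, 1, 1, 1, 0, 1], [1, 0, 1, 0, 1, 1, 1, 0, 1]]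

/-- the coincidence behind the word of the smallest certificate -/
def rel2 : List (List ℕ × ℕ × List ℕ × ℕ) := [([1, 0, 1, 0, 1, 0, 1, 0, 1, 0, 1, 0, 1, 0, 1, 0], 0, [], 1)]

/-- the coincidences behind the words of the middle certificate -/
def rel3 : List (List ℕ × ℕ × List ℕ × ℕ) := [([0], 1, [0, 2], 1),
  ([2], 0, [2, 0], 0),
  ([0, 1], 2, [0, 2], 2),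
  ([0, 1], 2, [0, 1, 2], 2),
  ([2, 0], 1, [2, 0, 2], 1),
  ([1, 0, 2], 0, [2, 1, 0], 0),
  ([0, 2], 2, [0, 1, 2, 1], 2),
  ([1, 0, 2, 1], 0, [2, 1, 2, 0], 0),
  ([1, 0, 2, 1], 0, [1, 2, 0, 2], 0),
  ([1, 2, 1, 2], 0, [1, 2, 1, 2, 1], 0),
  ([0, 1, 0, 2, 1], 1, [1, 2, 1, 0, 1, 2], 0),
  ([1, 0, 1, 2, 1], 0, [1, 0, 1, 2, 1, 2], 0),
  ([1, 0, 1, 0, 1, 2], 0, [1, 0, 1, 0, 1, 2, 1], 0)]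

/-- the three palindromes of the normalising triple -/
def tripA : List ℕ × ℕ := ([], 0)
def tripC : List ℕ × ℕ := ([2], 0)
def tripU : List ℕ × ℕ := ([2, 1, 2, 1], 1)

/-- the coincidences behind the words of the large certificate -/
def rel4 : List (List ℕ × ℕ × List ℕ × ℕ) := [([0], 1, [0, 2], 1),
  ([2], 0, [2, 0], 0),
  ([0, 1], 2, [0, 2], 2),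
  ([0, 1], 2, [0, 1, 2], 2),
  ([2, 0], 1, [2, 0, 2], 1),
  ([3, 2], 2, [3, 2, 3], 2),
  ([1, 0, 2], 0, [2, 1, 0], 0),
  ([0, 2], 2, [0, 1, 2, 1], 2),
  ([2, 0, 1], 0, [1, 0, 2, 0], 0),
  ([1, 0, 3], 2, [3, 0, 3, 2], 1),
  ([2, 1, 0], 1, [2, 1, 0, 2], 1),
  ([1, 2, 0], 2, [1, 2, 0, 2], 2),
  ([0, 1, 0, 2], 1, [2, 0, 1, 0], 1),
  ([0, 1, 0, 1], 2, [1, 0, 2, 0], 2),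
  ([1, 0, 2, 1], 0, [2, 1, 2, 0], 0),
  ([1, 0, 2, 1], 0, [1, 2, 0, 2], 0),
  ([2, 1, 0, 1], 0, [2, 1, 2, 0], 0),
  ([0, 1, 0], 2, [0, 1, 2, 0, 2], 2),
  ([0, 1, 0, 2], 3, [2, 0, 1, 0], 3),
  ([0, 1, 0, 3], 2, [3, 2, 3, 2], 2),
  ([0, 2, 0, 1], 3, [1, 0, 2, 0], 3),
  ([1, 2, 0, 2], 0, [2, 1, 2, 0], 0),
  ([1, 2, 0, 2], 0, [2, 1, 0, 1], 0),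
  ([3, 0, 3, 2], 1, [1, 0, 2, 3], 2),
  ([0, 2], 2, [0, 1, 2, 1, 2, 1], 2),
  ([0, 1, 3, 1], 3, [1, 0, 3, 0], 3),
  ([0, 2, 0, 2], 3, [2, 0, 2, 0], 3),
  ([0, 2, 0, 3], 2, [3, 2, 3, 2], 2),
  ([3, 1, 3, 2], 1, [3, 1, 3, 0], 2),
  ([3, 0, 3, 0], 1, [0, 3, 1, 3], 3),
  ([2, 0, 2, 1], 1, [0, 1, 0, 2, 0], 1),
  ([2, 0, 1, 0], 0, [2, 1, 2, 0, 1], 0),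
  ([2, 0, 1, 2], 0, [1, 0, 2, 1, 0], 0),
  ([2, 1, 0, 1], 0, [2, 0, 1, 2, 0], 0),
  ([2, 3, 0, 1], 3, [3, 0, 2, 1, 0], 2),
  ([0, 1, 0], 2, [0, 1, 2, 1, 0, 2], 2),
  ([3, 2, 3], 2, [0, 1, 0, 2, 3, 2], 2),
  ([2, 0, 1, 0], 1, [0, 2, 1, 0, 2], 1),
  ([3, 2, 3], 2, [0, 2, 1, 0, 3, 2], 2),
  ([3, 2, 3], 2, [0, 1, 2, 0, 3, 2], 2),
  ([0, 3, 1, 3], 3, [1, 0, 3, 2, 0], 2),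
  ([1, 2, 1, 0], 2, [1, 2, 1, 0, 2], 2),
  ([1, 2, 1, 2], 0, [1, 2, 1, 2, 1], 0),
  ([3, 0, 1, 3], 0, [3, 0, 1, 3, 1], 0),
  ([2, 1, 2, 0], 1, [2, 1, 2, 0, 2], 1),
  ([1, 2, 0, 3], 2, [1, 2, 0, 3, 2], 2),
  ([3, 0, 2, 3], 1, [3, 0, 2, 3, 2], 1),
  ([3, 0, 3, 0], 0, [3, 0, 3, 0, 3], 0),
  ([3, 1, 2, 1], 1, [3, 1, 2, 1, 3], 1),
  ([1, 0, 1, 0, 2], 0, [1, 2, 0, 1, 0], 0),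
  ([3, 1, 0, 1, 0], 0, [3, 2, 1, 0, 1], 1),
  ([3, 0, 3, 2, 3], 1, [0, 1, 0, 1, 0], 2),
  ([2, 0, 1, 2], 0, [2, 0, 1, 0, 1, 0], 0),
  ([1, 0, 2, 0, 2], 0, [2, 1, 0, 1, 0], 0),
  ([1, 0, 2, 0, 2], 0, [1, 0, 2, 1, 0], 0),
  ([1, 0, 2, 0, 2], 0, [1, 2, 0, 2, 0], 0),
  ([0, 1, 2, 0, 2], 1, [2, 0, 1, 2, 0], 1),
  ([3, 0, 2, 1, 0], 2, [2, 3, 2, 0, 1], 3),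
  ([1, 0, 1, 0, 2], 2, [1, 2, 0, 1, 0], 2),
  ([1, 0, 1, 0, 2], 3, [1, 2, 0, 1, 0], 3),
  ([3, 0, 1, 0, 2], 0, [3, 2, 0, 1, 0], 0),
  ([3, 0, 1, 0, 2], 1, [3, 2, 0, 1, 0], 1),
  ([3, 0, 1, 0, 2], 2, [3, 2, 0, 1, 0], 2),
  ([2, 0, 2, 0, 1], 1, [2, 1, 0, 2, 0], 1),
  ([2, 0, 2, 0, 1], 3, [2, 1, 0, 2, 0], 3),
  ([3, 0, 2, 0, 1], 0, [3, 1, 0, 2, 0], 0),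
  ([3, 0, 2, 0, 1], 1, [3, 1, 0, 2, 0], 1),
  ([3, 0, 2, 0, 1], 2, [3, 1, 0, 2, 0], 2),
  ([3, 0, 3, 2, 3], 1, [0, 2, 0, 1, 0], 2),
  ([0, 2, 0, 3, 0], 1, [1, 0, 3, 2, 3], 2),
  ([3, 0, 2, 1, 2], 2, [2, 3, 0, 1, 0], 3),
  ([0, 2], 2, [0, 1, 2, 1, 0, 2, 0, 1], 2),
  ([0, 1, 2, 0, 2], 3, [2, 0, 1, 2, 0], 3),
  ([0, 2, 0, 1, 2], 3, [1, 2, 0, 2, 0], 3),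
  ([1, 0, 2, 0, 1], 3, [2, 0, 2, 0, 2], 3),
  ([0, 2, 0, 2, 1], 3, [2, 1, 0, 2, 0], 3),
  ([0, 2, 1, 0, 2], 3, [2, 0, 2, 1, 0], 3),
  ([1, 2, 0, 3, 0], 0, [3, 1, 2, 3, 1], 2),
  ([1, 3, 0, 3, 0], 0, [2, 1, 0, 1, 2], 3),
  ([1, 0, 1, 3, 1], 2, [1, 2, 3, 2, 3], 3),
  ([3, 2, 3], 2, [1, 0, 2, 0, 1, 3, 2], 2),
  ([1, 0, 2, 3, 2], 2, [0, 3, 1, 3, 0], 3),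
  ([3, 0, 1, 2, 1], 2, [3, 2, 0, 1, 2], 2),
  ([2, 1, 2, 1, 0], 1, [2, 1, 2, 1, 2], 1),
  ([1, 0, 2, 0, 2], 3, [1, 2, 0, 2, 0], 3),
  ([3, 1, 0, 3, 2], 2, [3, 1, 2, 3, 0], 2),
  ([3, 0, 2, 0, 2], 0, [3, 2, 0, 2, 0], 0),
  ([3, 0, 2, 0, 2], 1, [3, 2, 0, 2, 0], 1),
  ([3, 0, 2, 0, 2], 2, [3, 2, 0, 2, 0], 2),
  ([2, 3, 1, 3, 0], 0, [3, 2, 3, 0, 2], 0),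
  ([1, 2, 0, 2, 3], 2, [1, 2, 0, 3, 2], 2),
  ([3, 2, 0, 3, 1], 2, [3, 2, 3, 0, 3], 2),
  ([0, 1, 0, 2, 1], 1, [1, 2, 1, 0, 1, 2], 0),
  ([1, 0, 1, 2, 1], 0, [1, 0, 1, 2, 1, 2], 0),
  ([3, 0, 3, 2, 3], 1, [0, 1, 0, 1, 0, 2], 2),
  ([1, 0, 2, 0, 1], 0, [2, 0, 2, 0, 2, 0], 0),
  ([3, 0, 3, 2, 3], 1, [0, 2, 1, 0, 1, 0], 2),
  ([2, 0, 2, 1, 2], 1, [0, 1, 2, 0, 2, 0], 1),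
  ([1, 0, 3, 0, 2], 3, [1, 0, 1, 0, 3, 0], 2),
  ([0, 1, 3, 1, 2], 3, [1, 0, 1, 0, 3, 0], 2),
  ([2, 0, 1, 0, 1], 1, [1, 2, 1, 0, 1, 2], 0),
  ([0, 1, 2, 1, 2], 1, [3, 1, 3, 2, 1, 0], 0),
  ([3, 1, 0, 3, 2], 1, [2, 1, 0, 1, 0, 1], 1),
  ([0, 1, 0, 3, 1], 2, [3, 1, 3, 2, 0, 3], 1),
  ([0, 1, 0, 3, 2], 2, [0, 2, 0, 3, 2, 3], 2),
  ([1, 2, 0, 1, 0], 2, [1, 0, 2, 1, 0, 2], 2),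
  ([1, 0, 3, 2, 3], 2, [0, 2, 0, 1, 3, 0], 1),
  ([1, 0, 2, 3, 2], 2, [0, 2, 0, 3, 0, 3], 1),
  ([3, 1, 3, 0, 2], 2, [0, 2, 0, 3, 1, 3], 1),
  ([2, 3, 2, 0, 1], 3, [3, 0, 2, 1, 2, 0], 2),
  ([0, 3, 0, 1, 0], 1, [0, 3, 0, 1, 0, 3], 1),
  ([0, 1, 0, 3, 2], 3, [3, 1, 3, 1, 0, 1], 0),
  ([2, 1, 3, 0, 1], 3, [1, 3, 0, 2, 3, 0], 3),
  ([2, 3, 0, 1, 0], 1, [0, 3, 2, 1, 2, 3], 1),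
  ([2, 0, 2, 1], 0, [2, 1, 2, 0, 1, 2, 0], 0),
  ([2, 3, 0, 1, 2], 3, [3, 2, 0, 2, 1, 0], 2),
  ([3, 1, 0, 3, 1], 1, [2, 1, 0, 1, 2, 0], 1),
  ([3, 0, 3, 2, 3], 1, [0, 2, 0, 2, 1, 0], 2),
  ([2, 0, 2, 1], 0, [1, 2, 0, 2, 1, 2, 0], 0),
  ([2, 3, 1, 0, 1], 1, [2, 3, 0, 3, 0, 2], 1),
  ([0, 3, 2, 1, 0], 3, [3, 2, 0, 1, 2, 1], 0),
  ([3, 0, 3, 2, 1], 2, [3, 0, 1, 2, 1, 0], 1),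
  ([0, 3, 2, 1, 2], 3, [3, 0, 1, 2, 1, 0], 0),
  ([1, 2, 3, 2, 3], 3, [1, 0, 2, 1, 3, 1], 2),
  ([2, 3, 0, 1, 2], 3, [3, 0, 2, 3, 0, 1], 1),
  ([1, 0, 3, 2, 3], 3, [2, 1, 0, 3, 1, 2], 1),
  ([3, 2, 3, 0, 1], 2, [3, 0, 1, 2, 1, 2], 2),
  ([2, 1, 2, 1, 0], 1, [2, 1, 2, 1, 0, 2], 1),
  ([2, 1, 2, 1, 0], 3, [1, 0, 2, 3, 2, 3], 3),
  ([3, 1, 2, 3, 0], 2, [3, 0, 1, 2, 1, 3], 1),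
  ([3, 1, 0, 3, 2], 2, [3, 0, 1, 2, 1, 3], 1),
  ([3, 1, 2, 0, 2], 2, [1, 3, 0, 1, 2, 3], 0),
  ([0, 3, 2, 1, 3], 2, [2, 3, 2, 1, 0, 1], 0),
  ([2, 3, 2, 0, 1], 1, [3, 1, 3, 2, 3, 2], 0),
  ([1, 3, 0, 2, 3], 2, [2, 0, 1, 3, 0, 1], 1),
  ([1, 3, 1, 0, 1], 2, [1, 3, 1, 2, 1, 3], 0),
  ([2, 3, 0, 1, 3], 0, [2, 3, 0, 1, 3, 1], 0),
  ([1, 2, 0, 1, 3], 2, [2, 3, 1, 2, 0, 2], 0),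
  ([2, 0, 2, 1, 2], 0, [2, 1, 2, 0, 2, 0], 0),
  ([3, 2, 3, 0, 2], 0, [2, 0, 3, 1, 3, 0], 0),
  ([3, 2, 3], 2, [0, 2, 1, 2, 0, 2, 3, 2], 2),
  ([2, 3, 0, 2, 0], 0, [2, 3, 0, 2, 0, 3], 0),
  ([1, 3, 0, 2, 1], 2, [0, 3, 2, 0, 3, 2], 2),
  ([3, 1, 2, 3, 0], 0, [3, 1, 2, 3, 0, 2], 0),
  ([1, 2, 0, 2, 3], 2, [1, 2, 0, 2, 3, 2], 2),
  ([1, 2, 3, 2, 3], 2, [3, 0, 2, 1, 2, 1], 0),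
  ([2, 1, 3, 1, 3], 1, [2, 1, 3, 1, 3, 0], 0),
  ([2, 0, 3, 0, 3], 3, [3, 2, 0, 2, 3, 0], 1),
  ([3, 1, 3, 2, 0], 1, [3, 2, 3, 2, 1, 3], 2),
  ([0, 3, 1, 2, 1], 3, [1, 3, 0, 3, 0, 3], 2),
  ([3, 1, 2, 1, 3], 0, [3, 1, 2, 1, 3, 0], 0),
  ([3, 1, 2, 3, 2], 0, [3, 1, 2, 3, 2, 1], 0),
  ([3, 1, 3, 0, 3], 0, [3, 1, 3, 0, 3, 1], 0),
  ([3, 0, 3, 2, 3], 1, [3, 0, 3, 2, 3, 2], 1),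
  ([2, 1, 3, 1, 3], 3, [3, 1, 2, 3, 2, 1], 1),
  ([0, 1, 0, 1, 0, 2], 1, [0, 1, 2, 0, 1, 0], 1),
  ([1, 0, 1, 0, 1, 2], 0, [0, 1, 0, 3, 2, 0], 3),
  ([1, 0, 1, 0, 2, 0], 0, [2, 1, 0, 1, 2, 1], 0),
  ([1, 0, 1, 0, 2, 0], 0, [1, 0, 2, 1, 2, 1], 0),
  ([0, 1, 0, 2, 0], 1, [0, 2, 0, 1, 2, 0, 1], 1),
  ([0, 1, 0, 2, 0, 2], 1, [0, 1, 2, 0, 2, 0], 1),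
  ([0, 1, 0, 3, 1, 3], 1, [1, 0, 2, 3, 0, 1], 3),
  ([1, 0, 1, 2, 0, 1], 0, [0, 1, 0, 3, 0, 2], 3),
  ([2, 1, 0, 1, 0, 1], 1, [3, 1, 0, 3, 2, 0], 1),
  ([0, 3, 1, 3], 3, [0, 1, 0, 1, 0, 3, 2, 0], 2),
  ([0, 2, 0, 1, 0, 1], 1, [2, 0, 1, 0, 2, 0], 1),
  ([0, 1, 0, 1, 0, 2], 3, [0, 1, 2, 0, 1, 0], 3),
  ([1, 0, 2, 1, 2, 3], 0, [3, 1, 2, 3, 1, 0], 2),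
  ([0, 1, 3, 2, 0, 1], 1, [1, 3, 2, 0, 1, 0], 2),
  ([1, 0, 3, 0, 2, 1], 0, [1, 3, 2, 0, 3, 0], 2),
  ([1, 0, 3, 0, 3, 0], 0, [1, 0, 1, 0, 1, 3], 3),
  ([1, 2, 1, 0, 1, 0], 2, [1, 2, 1, 0, 2, 1], 2),
  ([2, 1, 0, 1], 0, [1, 2, 0, 2, 1, 0, 2, 0], 0),
  ([1, 0, 1, 2, 0, 2], 2, [1, 2, 0, 1, 0, 1], 2),
  ([3, 0, 2, 3, 0, 1], 1, [3, 2, 0, 2, 1, 0], 2),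
  ([2, 1, 0, 1, 0, 1], 1, [3, 1, 0, 3, 0, 2], 1),
  ([0, 2, 0, 3, 0, 2], 2, [2, 3, 0, 1, 0, 1], 3),
  ([2, 3, 1, 3, 1, 0], 1, [3, 0, 2, 1, 0, 1], 1),
  ([0, 1, 0, 1, 2, 0], 2, [1, 2, 0, 3, 2, 3], 2),
  ([1, 0, 1, 0, 2, 1], 2, [1, 2, 0, 1, 2, 0], 2),
  ([0, 1, 2, 1, 2, 1], 1, [2, 0, 1, 2, 1, 2], 1),
  ([2, 3, 2, 1, 0, 1], 0, [0, 3, 2, 1, 3, 0], 2),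
  ([2, 1, 0, 1, 0, 2], 3, [2, 1, 2, 0, 1, 0], 3),
  ([0, 1, 3, 0, 1, 0], 1, [1, 3, 2, 0, 1, 2], 2),
  ([3, 2, 0, 1, 0, 3], 0, [0, 3, 0, 1, 0, 1], 3),
  ([0, 1, 3, 0, 1, 2], 1, [1, 3, 0, 1, 2, 0], 2),
  ([3, 1, 0, 1, 0, 2], 0, [1, 3, 0, 1, 0, 3], 2),
  ([1, 2, 1, 3, 1, 3], 0, [0, 1, 3, 1, 3, 0], 1),
  ([3, 0, 1, 0, 2, 3], 0, [0, 3, 0, 1, 0, 1], 3),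
  ([0, 1, 3, 2, 0, 1], 1, [1, 3, 0, 1, 0, 2], 2),
  ([3, 1, 0, 1, 0, 2], 2, [3, 1, 2, 0, 1, 0], 2),
  ([0, 3, 0, 1, 0, 2], 1, [0, 3, 2, 0, 1, 0], 1),
  ([0, 3, 0, 1, 0, 2], 2, [0, 3, 2, 0, 1, 0], 2),
  ([0, 3, 0, 1, 0, 2], 3, [0, 3, 2, 0, 1, 0], 3),
  ([1, 3, 0, 1, 0, 2], 2, [1, 3, 2, 0, 1, 0], 2),
  ([2, 3, 0, 1, 0, 2], 1, [2, 3, 2, 0, 1, 0], 1),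
  ([0, 1, 0, 3, 0, 2], 2, [3, 0, 2, 1, 2, 1], 2),
  ([1, 2, 0, 1, 0, 2], 0, [2, 1, 0, 2, 1, 0], 0),
  ([1, 2, 1, 0, 2], 0, [1, 2, 0, 2, 0, 1, 0], 0),
  ([1, 2, 0, 2, 0, 1], 3, [1, 2, 1, 0, 2, 0], 3),
  ([0, 3, 0, 2, 0, 1], 2, [0, 3, 1, 0, 2, 0], 2),
  ([0, 2, 0, 1, 3], 1, [0, 3, 1, 3, 0, 3, 0], 3),
  ([1, 3, 0, 2, 0, 1], 0, [1, 3, 1, 0, 2, 0], 0),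
  ([0, 2, 0, 1, 3, 1], 1, [3, 1, 3, 0, 2, 3], 2),
  ([3, 1, 3, 0, 1, 0], 1, [3, 1, 3, 1, 0, 2], 2),
  ([2, 3, 0, 2, 0, 1], 0, [2, 3, 1, 0, 2, 0], 0),
  ([2, 3, 0, 2, 0, 1], 1, [2, 3, 1, 0, 2, 0], 1),
  ([2, 3, 0, 2, 0, 1], 3, [2, 3, 1, 0, 2, 0], 3),
  ([0, 3, 1, 3], 3, [0, 2, 0, 1, 0, 3, 2, 0], 2),
  ([0, 1, 0, 2, 0, 2], 3, [0, 1, 2, 0, 2, 0], 3),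
  ([3, 0, 1, 0, 2, 0], 2, [3, 0, 1, 2, 1, 2], 2),
  ([0, 1, 3, 1, 0, 3], 3, [0, 2, 0, 1, 0, 2], 3),
  ([1, 0, 3, 0, 1, 3], 3, [2, 0, 1, 0, 2, 0], 3),
  ([0, 2, 0, 3, 1, 2], 1, [3, 1, 2, 1, 3, 1], 1),
  ([2, 1, 0, 1, 2, 0], 1, [3, 1, 0, 3, 0, 1], 1),
  ([3, 1, 2, 0, 1, 0], 0, [3, 2, 1, 0, 1, 2], 1),
  ([3, 1, 0, 1, 2, 0], 0, [3, 2, 1, 2, 0, 1], 1),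
  ([1, 2, 1, 0, 1, 2], 0, [0, 2, 1, 0, 2, 1], 1),
  ([3, 1, 3, 2, 1, 0], 0, [0, 2, 1, 2, 1, 2], 1),
  ([3, 1, 2, 0, 1, 0], 0, [1, 3, 0, 1, 0, 3], 2),
  ([0, 2, 3, 0, 1, 0], 1, [0, 3, 0, 1, 0, 3], 1),
  ([1, 2, 0, 3, 0, 1], 0, [3, 1, 0, 3, 2, 0], 2),
  ([1, 2, 0, 3, 2, 0], 0, [3, 1, 0, 3, 0, 1], 2),
  ([0, 2, 3, 2, 1, 2], 1, [2, 3, 0, 1, 0, 3], 1),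
  ([3, 1, 2, 3, 0, 1], 0, [3, 1, 2, 3, 2, 0], 0),
  ([1, 2, 3, 1, 3, 1], 0, [3, 0, 1, 0, 3, 0], 0),
  ([0, 3, 0, 2, 0, 2], 1, [0, 3, 2, 0, 2, 0], 1),
  ([2, 0, 1, 2, 1, 3], 1, [3, 0, 3, 0, 1, 0], 1),
  ([0, 3, 1, 0, 1, 2], 1, [0, 3, 1, 2, 1, 0], 1),
  ([3, 2, 1, 0, 1, 2], 1, [1, 3, 0, 1, 0, 3], 2),
  ([0, 3, 1, 3, 2, 1], 1, [3, 0, 1, 0, 3, 2], 2),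
  ([3, 1, 0, 2, 3, 0], 0, [0, 3, 2, 3, 1, 2], 1),
  ([0, 3, 2, 3, 2, 1], 1, [3, 1, 3, 0, 1, 3], 1),
  ([2, 3, 2, 0, 1], 3, [3, 2, 0, 2, 1, 0, 2], 2),
  ([3, 0, 2, 3, 0, 1], 1, [3, 0, 2, 1, 0, 2], 2),
  ([3, 2, 3, 0, 2, 1], 2, [2, 3, 0, 1, 2, 0], 3),
  ([1, 0, 2, 1, 0, 3], 2, [1, 0, 3, 0, 2, 0], 3),
  ([1, 0, 2, 1, 0, 3], 2, [0, 1, 3, 1, 2, 0], 3),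
  ([2, 1, 0, 2, 1, 0], 1, [3, 1, 0, 3, 2, 1], 1),
  ([1, 3, 2, 0, 1, 2], 0, [1, 3, 1, 2, 1, 0], 3),
  ([2, 1, 2, 0, 3, 2], 1, [1, 0, 2, 1, 0, 1], 3),
  ([3, 0, 1, 2, 0, 2], 2, [3, 0, 1, 2, 1, 0], 2),
  ([2, 1, 2, 1, 0], 1, [2, 1, 0, 2, 0, 2, 1], 1),
  ([1, 0, 2, 0, 2, 1], 3, [1, 2, 1, 0, 2, 0], 3),
  ([1, 2, 0, 2], 0, [1, 2, 0, 2, 0, 2, 0, 1], 0),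
  ([3, 0, 1, 2, 0, 2], 1, [3, 2, 0, 1, 2, 0], 1),
  ([2, 0, 2, 0, 1, 2], 3, [2, 1, 2, 0, 2, 0], 3),
  ([3, 0, 2, 0, 1, 2], 2, [3, 1, 2, 0, 2, 0], 2),
  ([3, 1, 0, 2, 0, 1], 1, [3, 2, 0, 2, 0, 2], 1),
  ([3, 0, 2, 0, 2, 1], 0, [3, 2, 1, 0, 2, 0], 0),
  ([2, 1, 0, 1, 2, 3], 0, [3, 1, 2, 3, 1, 0], 2),
  ([3, 2, 0, 2, 1, 2], 2, [2, 3, 0, 1, 2, 0], 3),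
  ([1, 3, 0, 1, 2, 0], 0, [1, 3, 1, 2, 1, 2], 3),
  ([1, 3, 0, 3, 2, 0], 0, [2, 1, 2, 0, 1, 2], 3),
  ([3, 0, 2, 1, 0, 2], 0, [3, 2, 0, 2, 1, 0], 0),
  ([2, 3, 2, 0, 1, 2], 0, [3, 0, 2, 1, 0, 1], 0),
  ([1, 2, 3, 1, 0, 3], 0, [1, 3, 0, 2, 1, 0], 3),
  ([3, 1, 3, 1, 3, 0], 2, [1, 2, 3, 0, 1, 2], 3),
  ([1, 2, 0, 3, 2], 2, [0, 2, 0, 1, 2, 0, 3], 2),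
  ([2, 0, 2, 0, 1, 2], 1, [2, 1, 2, 1, 0, 1], 1),
  ([2, 3, 0, 1, 2, 1], 0, [3, 0, 2, 1, 2, 0], 0),
  ([3, 0, 2, 3, 2, 0], 1, [2, 3, 0, 1, 2, 1], 3),
  ([3, 0, 2, 3, 0, 1], 1, [2, 3, 2, 0, 1, 2], 3),
  ([3, 0, 3, 1, 3, 0], 1, [1, 0, 3, 2, 1, 3], 2),
  ([3, 0, 2, 3, 2, 3], 1, [1, 0, 3, 2, 3, 2], 2),
  ([2, 1, 0, 2, 3, 1], 1, [1, 0, 3, 2, 3, 2], 3),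
  ([1, 3, 2, 3, 0, 3], 0, [1, 2, 1, 0, 1, 2], 2),
  ([1, 2, 1, 2, 3, 1], 0, [1, 0, 2, 1, 2, 3], 3),
  ([2, 0, 1, 2, 1, 3], 1, [0, 3, 1, 3, 1, 0], 3),
  ([1, 2, 1, 3, 0, 2], 0, [1, 2, 1, 3, 1, 0], 0),
  ([2, 1, 2, 0, 3, 1], 1, [0, 3, 1, 0, 1, 2], 3),
  ([1, 2, 1, 0, 3, 2], 3, [2, 3, 1, 0, 2, 3], 3),
  ([1, 2, 0, 1, 2, 1], 3, [2, 3, 0, 3, 1, 3], 3),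
  ([2, 0, 3, 2, 1, 0], 0, [0, 3, 2, 1, 3, 1], 2),
  ([3, 0, 1, 2, 3, 0], 1, [3, 2, 3, 1, 0, 3], 1),
  ([3, 0, 3, 2, 1, 0], 2, [3, 1, 2, 3, 0, 3], 2),
  ([3, 0, 3, 2, 1, 0], 2, [3, 1, 0, 3, 2, 3], 2),
  ([2, 3, 2, 1, 0, 1], 0, [0, 1, 3, 2, 1, 3], 2),
  ([1, 3, 0, 2, 3, 2], 3, [2, 1, 3, 2, 0, 1], 3),
  ([2, 1, 0, 2, 0, 2], 3, [2, 1, 2, 0, 2, 0], 3),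
  ([0, 3, 1, 0, 1, 3], 3, [2, 1, 0, 3, 2, 0], 3),
  ([2, 1, 3, 2, 0, 1], 1, [1, 3, 1, 2, 3, 2], 2),
  ([3, 1, 0, 2, 0, 2], 0, [3, 1, 2, 0, 2, 0], 0),
  ([3, 1, 3, 0, 3, 0], 1, [2, 3, 0, 1, 3, 1], 3),
  ([3, 2, 1, 3, 1, 0], 1, [0, 1, 3, 2, 3, 2], 3),
  ([3, 2, 1, 3, 0, 3], 1, [3, 2, 1, 3, 1, 0], 1),
  ([2, 0, 1, 3, 1, 3], 0, [2, 1, 3, 1, 3, 0], 1),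
  ([3, 1, 0, 2, 0, 2], 1, [3, 1, 2, 0, 2, 0], 1),
  ([3, 0, 3, 1, 3, 2], 0, [3, 1, 0, 2, 3, 0], 1),
  ([2, 0, 3, 0, 1, 3], 0, [2, 3, 0, 1, 3, 1], 0),
  ([3, 1, 0, 3, 0, 2], 1, [3, 1, 0, 3, 2, 0], 1),
  ([2, 0, 2, 3, 0, 1], 0, [3, 0, 1, 3, 1, 3], 0),
  ([2, 3, 1, 3, 1, 0], 0, [3, 2, 3, 1, 0, 2], 0),
  ([2, 3, 1, 3, 0, 2], 3, [2, 3, 1, 3, 1, 0], 3),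
  ([2, 0, 2, 1, 3, 0], 1, [1, 3, 0, 2, 3, 1], 2),
  ([0, 1, 3, 2, 0, 3], 2, [1, 3, 0, 2, 1, 2], 2),
  ([2, 1, 3, 0, 2, 1], 0, [3, 2, 0, 1, 3, 2], 2),
  ([2, 0, 3, 2, 0, 3], 1, [3, 0, 1, 3, 2, 1], 1),
  ([0, 1, 3, 2, 1, 3], 2, [0, 3, 2, 1, 3, 0], 2),
  ([3, 2, 1, 2, 0, 1], 0, [1, 2, 3, 1, 2, 3], 2),
  ([3, 1, 2, 3, 1], 2, [2, 1, 2, 0, 2, 3, 0], 0),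
  ([3, 2, 1, 3, 0, 3], 1, [0, 1, 3, 2, 3, 2], 3),
  ([0, 3, 0, 2, 0, 2], 2, [0, 3, 2, 0, 2, 0], 2),
  ([1, 3, 0, 2, 0, 2], 2, [1, 3, 2, 0, 2, 0], 2),
  ([3, 1, 3, 2, 0], 1, [0, 2, 0, 2, 3, 1, 3], 2),
  ([2, 3, 0, 2, 0, 2], 0, [2, 3, 2, 0, 2, 0], 0),
  ([2, 3, 0, 2, 0, 2], 3, [2, 3, 2, 0, 2, 0], 3),
  ([0, 2, 0, 3, 0, 2], 2, [3, 0, 2, 1, 2, 1], 2),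
  ([3, 2, 0, 3, 1], 2, [0, 2, 0, 3, 2, 0, 3], 2),
  ([3, 0, 3, 2, 3], 1, [1, 2, 0, 2, 0, 2, 0], 2),
  ([3, 1, 3, 0, 2, 0], 1, [3, 1, 3, 2, 0, 2], 2),
  ([2, 0, 3, 0, 2, 0], 0, [2, 3, 0, 2, 0, 3], 0),
  ([1, 2, 0, 2], 2, [3, 2, 3, 2, 3, 1, 2, 0], 2),
  ([1, 3, 0, 3, 0, 2], 3, [1, 3, 0, 3, 2, 0], 3),
  ([2, 3, 1, 3, 2, 0], 0, [3, 2, 3, 2, 0, 2], 0),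
  ([0, 3, 0, 2, 3, 1], 2, [2, 3, 0, 2, 0, 3], 3),
  ([3, 1, 2, 3, 0, 2], 1, [2, 3, 1, 2, 3, 0], 3),
  ([2, 3, 1, 2, 0, 2], 0, [1, 2, 0, 2, 1, 3], 2),
  ([3, 2, 0, 2, 3, 0], 0, [1, 2, 0, 3, 1, 2], 2),
  ([3, 1, 2, 1, 2, 3], 2, [2, 1, 2, 1, 2, 0], 3),
  ([0, 3, 2, 3, 0, 2], 3, [2, 3, 0, 2, 3, 1], 3),
  ([2, 3, 0, 3, 2, 3], 0, [3, 1, 2, 1, 3, 2], 0),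
  ([2, 3, 0, 2, 3, 2], 1, [3, 0, 3, 2, 3, 1], 2),
  ([3, 1, 2, 3, 2, 3], 0, [3, 1, 3, 0, 3, 1], 2),
  ([3, 1, 2, 3, 2, 3], 0, [3, 1, 3, 2, 3, 1], 1),
  ([2, 1, 2, 1, 3, 1], 3, [2, 3, 1, 2, 1, 3], 3),
  ([2, 3, 2, 3, 2, 3], 1, [3, 2, 3, 2, 3, 2], 1),
  ([3, 1, 3, 1, 2, 0], 0, [1, 0, 1, 0, 1, 0, 1], 0),
  ([0, 1, 0, 1, 0, 1], 1, [3, 1, 3, 1, 2, 1, 0], 0),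
  ([0, 1, 0, 1, 0, 3], 1, [3, 2, 1, 0, 1, 0, 1], 0),
  ([3, 1, 3, 1, 0, 1], 0, [1, 0, 1, 0, 1, 2, 0], 0),
  ([0, 1, 0, 3, 2, 0], 3, [1, 0, 1, 0, 1, 2, 1], 0),
  ([1, 0, 1, 0, 1, 2], 0, [1, 0, 1, 0, 1, 2, 1], 0),
  ([1, 0, 1, 0, 2, 0], 0, [2, 0, 1, 2, 0, 2, 1], 0),
  ([1, 2, 0, 1, 0, 1], 0, [1, 0, 1, 0, 2, 1, 0], 0),
  ([0, 2, 1, 0, 1, 3], 3, [1, 0, 1, 0, 2, 3, 0], 0),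
  ([1, 0, 1, 2, 0, 3], 2, [1, 0, 1, 0, 2, 3, 2], 0),
  ([0, 1, 0, 2, 0], 1, [0, 2, 0, 1, 2, 0, 2, 1], 1),
  ([1, 2, 1, 0, 2], 0, [2, 0, 1, 0, 1, 0, 1, 0], 0),
  ([3, 1, 0, 2, 0, 1], 2, [2, 3, 0, 1, 0, 1, 0], 3),
  ([0, 1, 0, 2, 1, 2], 1, [2, 1, 2, 1, 0, 2, 1], 0),
  ([3, 1, 3, 1, 0, 3], 1, [0, 1, 0, 2, 3, 0, 1], 1),
  ([2, 3, 1, 0, 1, 3], 1, [0, 1, 0, 2, 3, 2, 0], 1),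
  ([0, 1, 3, 0, 1, 2], 3, [0, 1, 0, 3, 0, 1, 3], 1),
  ([0, 3, 0, 3, 2, 1], 3, [0, 1, 0, 3, 1, 2, 3], 1),
  ([0, 1, 0, 3, 0, 1], 3, [1, 0, 1, 2, 0, 1, 2], 0),
  ([3, 1, 0, 3, 0, 2], 1, [2, 1, 0, 1, 0, 1, 0], 1),
  ([0, 2, 0, 3, 2, 1], 1, [3, 1, 0, 1, 0, 1, 0], 0),
  ([1, 0, 1, 2, 3, 2], 0, [1, 0, 1, 2, 3, 2, 0], 0),
  ([1, 2, 3, 2, 3, 1], 3, [0, 1, 0, 1, 0, 1, 3], 2),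
  ([3, 2, 0, 2, 0, 2], 2, [2, 3, 0, 1, 0, 1, 0], 3),
  ([2, 1, 3, 1, 3, 0], 1, [1, 0, 2, 0, 3, 1, 3], 0),
  ([2, 1, 2, 1, 2, 1], 0, [1, 0, 2, 1, 0, 1, 2], 0),
  ([1, 2, 1, 2, 1, 2], 0, [1, 0, 2, 1, 2, 0, 1], 0),
  ([0, 3, 1, 3, 2, 1], 1, [1, 0, 2, 3, 0, 2, 3], 0),
  ([3, 0, 1, 0, 3, 2], 2, [1, 0, 2, 3, 0, 2, 3], 0),
  ([2, 1, 0, 3, 1, 2], 0, [1, 0, 2, 3, 1, 2, 3], 0),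
  ([1, 2, 1, 2, 3, 1], 2, [1, 0, 2, 3, 1, 3, 2], 0),
  ([0, 3, 2, 1, 3, 1], 3, [1, 0, 2, 3, 2, 1, 2], 0),
  ([1, 3, 2, 3, 1, 0], 2, [1, 0, 3, 0, 1, 3, 1], 0),
  ([1, 0, 3, 1, 2, 3], 3, [1, 0, 3, 0, 3, 0, 2], 0),
  ([0, 3, 0, 3, 0, 3], 2, [1, 3, 0, 1, 0, 1, 0], 0),
  ([3, 2, 0, 1, 2, 3], 1, [1, 0, 3, 2, 0, 3, 2], 0),
  ([3, 1, 0, 1, 3, 0], 2, [1, 0, 3, 2, 3, 1, 2], 0),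
  ([2, 1, 0, 2, 1, 0], 1, [3, 1, 0, 3, 2, 0, 1], 1),
  ([0, 1, 2, 0, 1, 2], 1, [1, 2, 3, 1, 3, 0, 3], 0),
  ([0, 1, 3, 0, 3, 2], 3, [0, 1, 2, 0, 1, 3, 1], 1),
  ([2, 1, 2, 1, 2, 1], 0, [2, 1, 0, 1, 0, 1, 2], 0),
  ([0, 1, 2, 0, 2, 1], 1, [1, 2, 1, 2, 0, 1, 2], 0),
  ([3, 0, 2, 3, 2, 0], 1, [3, 2, 0, 2, 1, 0, 1], 2),
  ([2, 3, 2, 0, 1], 3, [3, 2, 3, 2, 0, 2, 1, 0], 2),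
  ([0, 2, 0, 3, 0, 2], 2, [2, 3, 2, 0, 1, 0, 1], 3),
  ([1, 0, 1, 0, 1, 2], 2, [2, 1, 3, 2, 1, 3, 0], 0),
  ([0, 2, 3, 0, 3, 1], 3, [0, 1, 2, 0, 3, 2, 0], 1),
  ([0, 1, 2, 1, 0, 1], 1, [3, 1, 3, 2, 0, 2, 0], 0),
  ([1, 0, 1, 0, 2, 0], 2, [0, 2, 0, 1, 2, 0, 1], 2),
  ([1, 0, 1, 0, 2, 0], 2, [1, 2, 0, 3, 2, 3, 1], 2),
  ([1, 0, 1, 0, 2, 0], 2, [2, 3, 1, 2, 0, 2, 3], 0),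
  ([1, 0, 3, 1, 0, 2], 3, [1, 0, 1, 0, 3, 1, 0], 2),
  ([1, 0, 3, 2, 0, 2], 3, [1, 0, 1, 0, 3, 2, 0], 2),
  ([2, 0, 2, 1, 2, 1], 1, [0, 1, 2, 1, 0, 2, 0], 1),
  ([0, 2, 1, 2, 1, 0], 3, [1, 3, 2, 3, 2, 0, 1], 2),
  ([0, 1, 2, 1, 2, 1], 1, [3, 1, 3, 2, 1, 2, 0], 0),
  ([1, 2, 1, 0, 1, 0], 2, [1, 3, 2, 3, 0, 3, 2], 0),
  ([1, 3, 2, 1, 2, 1], 3, [1, 3, 0, 1, 0, 1, 2], 0),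
  ([3, 2, 0, 2, 0, 3], 1, [0, 3, 2, 1, 0, 1, 0], 1),
  ([3, 0, 2, 0, 2, 3], 1, [0, 3, 2, 1, 0, 1, 0], 1),
  ([2, 0, 3, 2, 1, 0], 0, [0, 3, 2, 1, 3, 0, 1], 2),
  ([0, 3, 2, 1, 0, 1], 2, [3, 1, 0, 2, 1, 3, 0], 1),
  ([0, 3, 2, 1, 0, 1], 3, [3, 0, 1, 2, 0, 2, 0], 0),
  ([2, 0, 3, 1, 3, 2], 3, [1, 2, 3, 0, 1, 0, 1], 2),
  ([3, 1, 0, 3, 2, 3], 1, [0, 1, 2, 3, 1, 3, 2], 1),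
  ([0, 1, 2, 3, 2, 0], 1, [1, 3, 0, 3, 0, 3, 2], 0),
  ([0, 1, 3, 2, 1, 3], 2, [2, 3, 2, 1, 0, 1, 0], 0),
  ([2, 1, 0, 1, 2, 3], 3, [0, 1, 2, 3, 2, 0, 2], 1),
  ([0, 2, 1, 2, 3, 1], 3, [2, 3, 2, 1, 0, 1, 0], 1),
  ([3, 1, 2, 3, 2, 1], 0, [3, 1, 2, 3, 0, 1, 0], 0),
  ([1, 0, 3, 1, 0, 1], 2, [3, 2, 1, 2, 0, 3, 0], 1),
  ([3, 2, 0, 3, 1, 0], 1, [2, 3, 1, 2, 3, 0, 1], 1),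
  ([1, 0, 3, 1, 2, 3], 3, [1, 0, 1, 0, 1, 3, 2], 3),
  ([0, 1, 3, 1, 0, 2], 1, [0, 1, 3, 1, 0, 2, 3], 1),
  ([1, 3, 1, 0, 1, 0], 3, [3, 1, 0, 1, 2, 3, 1], 2),
  ([1, 3, 1, 0, 1, 0], 3, [1, 3, 2, 1, 2, 1, 3], 2),
  ([3, 0, 2, 3, 0, 3], 2, [1, 2, 3, 1, 0, 1, 0], 0),
  ([3, 1, 0, 1, 0, 2], 2, [1, 3, 0, 1, 2, 1, 3], 2),
  ([2, 0, 1, 0, 2], 1, [0, 2, 0, 1, 0, 2, 1, 0], 1),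
  ([2, 0, 2, 0, 1], 1, [2, 0, 2, 0, 1, 0, 2, 0], 1),
  ([1, 2, 0, 3, 2], 2, [0, 1, 0, 2, 1, 2, 0, 3], 2),
  ([3, 0, 1, 0, 2, 0], 1, [0, 2, 0, 3, 2, 0, 1], 1),
  ([1, 0, 3, 0, 1, 0], 2, [3, 0, 3, 0, 1, 0, 2], 1),
  ([3, 2, 0, 2, 0, 2], 2, [0, 1, 0, 3, 0, 2, 0], 2),
  ([0, 1, 0, 3, 1, 2], 2, [1, 2, 0, 3, 0, 1, 3], 0),
  ([3, 2, 0, 3, 1], 2, [0, 1, 0, 3, 2, 3, 0, 3], 2),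
  ([2, 0, 1, 0, 2, 1], 0, [1, 2, 0, 1, 0, 2, 0], 0),
  ([0, 2, 0, 2, 1, 0], 1, [2, 0, 2, 0, 1, 0, 2], 1),
  ([2, 1, 2, 1, 0], 1, [0, 2, 0, 1, 2, 1, 2, 1], 1),
  ([3, 0, 1, 0, 2, 0], 2, [3, 2, 0, 3, 1, 3, 1], 2),
  ([0, 3, 1, 3, 1, 0], 3, [1, 0, 3, 0, 1, 0, 2], 2),
  ([3, 1, 0, 2, 0, 1], 1, [1, 0, 3, 2, 3, 2, 0], 2),
  ([3, 0, 2, 0, 2, 0], 2, [2, 3, 0, 1, 2, 0, 1], 3),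
  ([0, 2, 0, 2, 1, 0], 1, [0, 2, 0, 2, 1, 0, 2], 1),
  ([2, 3, 0, 1, 0, 2], 1, [3, 1, 3, 2, 3, 2, 0], 0),
  ([2, 1, 2, 1, 0, 3], 3, [0, 2, 0, 1, 0, 3, 2], 3),
  ([1, 0, 1, 2, 0, 3], 2, [1, 2, 0, 1, 0, 3, 2], 0),
  ([1, 2, 1, 2, 0, 1], 2, [1, 2, 1, 0, 1, 2, 0], 2),
  ([1, 3, 0, 1, 0, 2], 2, [0, 2, 1, 3, 2, 0, 1], 1),
  ([2, 1, 3, 2, 0, 1], 3, [2, 1, 3, 0, 1, 0, 2], 3),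
  ([1, 0, 2, 3, 0, 1], 3, [0, 2, 1, 0, 3, 1, 3], 1),
  ([2, 3, 1, 0, 1, 3], 1, [2, 0, 1, 0, 3, 2, 0], 1),
  ([1, 2, 0, 1, 0, 2], 2, [1, 0, 3, 0, 2, 0, 3], 3),
  ([0, 1, 3, 1, 2, 0], 3, [1, 2, 0, 1, 0, 2, 3], 2),
  ([0, 2, 1, 2, 1, 2], 3, [1, 3, 2, 3, 0, 1, 0], 2),
  ([3, 1, 0, 3, 2, 1], 1, [2, 1, 2, 0, 1, 0, 2], 1),
  ([1, 2, 1, 2, 0, 1], 2, [1, 3, 2, 3, 0, 3, 0], 0),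
  ([1, 3, 0, 1, 2, 0], 2, [0, 2, 1, 3, 0, 1, 2], 1),
  ([0, 2, 1, 3, 1, 3], 1, [1, 2, 1, 3, 1, 3, 0], 0),
  ([3, 1, 2, 0, 1, 0], 2, [1, 3, 0, 1, 2, 1, 3], 2),
  ([0, 2, 3, 0, 1, 0], 1, [0, 2, 3, 0, 1, 0, 3], 1),
  ([1, 0, 3, 2, 0, 1], 2, [2, 0, 1, 2, 1, 3, 0], 1),
  ([0, 3, 1, 0, 3, 0], 2, [2, 1, 0, 3, 2, 0, 1], 1),
  ([0, 3, 1, 0, 3, 2], 2, [2, 1, 0, 3, 0, 1, 0], 1),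
  ([0, 3, 2, 0, 2, 0], 1, [0, 2, 3, 0, 2, 0, 2], 1),
  ([0, 3, 1, 2, 1, 0], 1, [0, 2, 3, 1, 0, 1, 2], 1),
  ([1, 0, 3, 1, 0, 2], 2, [3, 0, 1, 0, 2, 3, 1], 1),
  ([1, 0, 3, 0, 1, 0], 2, [2, 0, 1, 2, 1, 3, 2], 1),
  ([2, 3, 1, 3, 0, 1], 3, [1, 3, 2, 1, 3, 2, 0], 3),
  ([2, 1, 3, 2, 0, 1], 3, [1, 3, 0, 2, 3, 2, 0], 3),
  ([1, 0, 3, 1, 0, 2], 2, [3, 2, 0, 1, 0, 3, 1], 1),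
  ([2, 3, 1, 3, 2, 0], 3, [1, 3, 2, 1, 3, 0, 1], 3),
  ([2, 0, 1, 0, 2, 3], 3, [3, 1, 3, 1, 0, 1, 2], 0),
  ([0, 2, 3, 2, 3, 1], 1, [3, 1, 0, 2, 3, 0, 2], 0),
  ([3, 1, 3, 0, 1, 3], 1, [0, 2, 3, 2, 3, 2, 1], 1),
  ([3, 0, 1, 2, 1, 3], 1, [1, 2, 0, 3, 0, 1, 0], 0),
  ([1, 3, 0, 1, 0, 3], 3, [0, 3, 0, 2, 3, 2, 0], 1),
  ([3, 2, 1, 0, 2, 3], 2, [0, 3, 0, 3, 1, 2, 0], 1),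
  ([3, 0, 3, 0, 1, 0], 1, [2, 0, 2, 1, 2, 1, 3], 1),
  ([1, 2, 3, 0, 1, 3], 2, [1, 2, 1, 3, 0, 1, 0], 0),
  ([0, 3, 1, 2, 3, 0], 1, [3, 1, 3, 1, 2, 1, 3], 0),
  ([0, 3, 0, 1, 2, 3], 2, [3, 2, 1, 3, 0, 1, 0], 1),
  ([1, 2, 1, 2, 3, 1], 2, [0, 3, 1, 3, 1, 0, 3], 1),
  ([0, 3, 2, 0, 2, 3], 1, [2, 3, 2, 3, 1, 3, 2], 0),
  ([0, 3, 2, 1, 2, 1], 1, [3, 2, 1, 2, 3, 0, 2], 0),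
  ([3, 2, 1, 3, 1, 0], 2, [0, 3, 2, 1, 3, 0, 2], 1),
  ([3, 2, 1, 3, 0, 2], 2, [0, 3, 2, 1, 3, 1, 0], 1),
  ([3, 0, 1, 0, 3, 2], 2, [2, 1, 0, 3, 0, 2, 3], 0),
  ([3, 0, 2, 1, 0, 2], 2, [3, 0, 2, 3, 2, 0, 1], 1),
  ([3, 2, 3, 0, 2, 1], 2, [2, 3, 2, 0, 1, 2, 0], 3),
  ([2, 0, 1, 2, 0, 1], 1, [1, 2, 1, 2, 0, 1, 2], 0),
  ([3, 1, 0, 3, 0, 2], 1, [2, 1, 0, 2, 1, 0, 1], 1),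
  ([1, 2, 1, 2, 1, 2], 0, [2, 1, 0, 1, 2, 0, 1], 0),
  ([3, 1, 2, 0, 3, 1], 2, [3, 0, 1, 2, 0, 1, 2], 0),
  ([2, 0, 3, 2, 3, 0], 3, [3, 1, 2, 1, 0, 2, 1], 2),
  ([2, 1, 0, 2, 1, 0], 3, [2, 0, 2, 1, 3, 0, 3], 3),
  ([3, 2, 0, 2, 0, 3], 1, [1, 2, 0, 1, 2, 3, 2], 0),
  ([3, 0, 2, 0, 2, 3], 1, [1, 2, 0, 1, 2, 3, 2], 0),
  ([1, 0, 2, 1, 0, 1], 3, [2, 1, 2, 0, 2, 3, 2], 1),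
  ([2, 0, 2, 1, 0, 3], 3, [1, 0, 2, 1, 0, 3, 2], 3),
  ([1, 0, 2, 1, 0, 3], 3, [0, 2, 1, 0, 2, 3, 2], 3),
  ([1, 3, 1, 3, 1, 0], 3, [3, 2, 0, 3, 0, 1, 2], 1),
  ([1, 0, 2, 1, 2, 1], 3, [2, 3, 1, 0, 2, 1, 0], 0),
  ([0, 2, 1, 0, 1, 2], 3, [2, 3, 0, 2, 3, 1, 0], 1),
  ([2, 3, 0, 1, 2, 0], 1, [3, 1, 3, 2, 3, 0, 2], 0),
  ([1, 0, 1, 2, 0, 2], 2, [1, 2, 0, 2, 1, 0, 1], 2),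
  ([1, 2, 1, 2, 3, 1], 2, [2, 1, 0, 3, 1, 3, 2], 0),
  ([0, 3, 2, 1, 3, 1], 3, [2, 1, 0, 3, 2, 1, 2], 0),
  ([3, 0, 2, 3, 0, 1], 1, [3, 0, 2, 1, 2, 0, 2], 2),
  ([3, 2, 3, 0, 2, 1], 2, [2, 3, 0, 1, 2, 0, 2], 3),
  ([3, 1, 0, 3, 1, 2], 1, [2, 1, 2, 0, 1, 2, 0], 1),
  ([2, 3, 1, 2, 0, 1], 1, [2, 3, 0, 3, 2, 0, 2], 1),
  ([3, 1, 2, 3, 2, 0], 0, [3, 1, 2, 3, 0, 1, 2], 0),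
  ([3, 2, 0, 2, 1], 2, [3, 0, 2, 1, 2, 0, 2, 0], 2),
  ([1, 2, 0, 3, 0, 1], 0, [3, 2, 3, 2, 1, 2, 3], 2),
  ([3, 0, 2, 1, 0, 1], 0, [2, 0, 3, 2, 0, 1, 2], 0),
  ([2, 1, 3, 1, 3, 0], 3, [3, 0, 2, 1, 0, 3, 1], 0),
  ([1, 2, 0, 1, 3, 0], 2, [2, 3, 0, 2, 0, 1, 2], 0),
  ([1, 3, 0, 1, 2, 1], 3, [1, 3, 0, 1, 2, 0, 3], 0),
  ([1, 2, 1, 2, 3, 0], 3, [1, 2, 0, 3, 1, 2, 1], 0),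
  ([1, 3, 2, 1, 0, 1], 2, [3, 2, 3, 1, 3, 0, 2], 0),
  ([1, 2, 1, 3, 0, 1], 3, [3, 2, 3, 1, 3, 0, 2], 1),
  ([3, 0, 2, 0, 1, 2], 2, [1, 3, 0, 1, 2, 3, 0], 0),
  ([3, 1, 2, 3, 2, 0], 0, [3, 1, 2, 3, 0, 2, 1], 0),
  ([3, 0, 2, 1, 0, 3], 2, [3, 1, 3, 0, 3, 0, 1], 1),
  ([3, 0, 1, 2, 0, 3], 2, [0, 3, 1, 3, 0, 3, 2], 2),
  ([2, 1, 2, 1, 2, 1], 0, [1, 2, 1, 0, 2, 0, 2], 0),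
  ([1, 0, 1, 2, 3, 1], 2, [2, 1, 3, 2, 3, 0, 3], 0),
  ([0, 1, 2, 1, 3, 1], 3, [1, 0, 1, 3, 1, 0, 3], 2),
  ([1, 2, 3, 1, 0, 1], 0, [1, 2, 3, 1, 0, 1, 2], 0),
  ([1, 2, 3, 2, 3, 0], 2, [1, 0, 1, 3, 2, 3, 2], 2),
  ([1, 2, 3, 2, 3, 1], 2, [2, 3, 0, 1, 2, 1, 0], 0),
  ([3, 0, 2, 1, 2, 0], 0, [2, 0, 3, 0, 1, 2, 1], 0),
  ([3, 0, 3, 2, 1, 2], 2, [3, 2, 0, 1, 2, 1, 0], 1),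
  ([1, 0, 2, 3, 2, 1], 2, [3, 0, 3, 1, 3, 0, 3], 1),
  ([1, 0, 2, 3, 2], 2, [2, 0, 2, 0, 2, 3, 0, 3], 1),
  ([0, 3, 1, 3, 2, 0], 3, [1, 0, 3, 0, 2, 0, 2], 2),
  ([1, 2, 1, 0, 3, 1], 2, [1, 0, 3, 1, 3, 0, 3], 2),
  ([3, 0, 3, 1, 2, 3], 1, [2, 3, 0, 1, 2, 1, 0], 1),
  ([3, 1, 2, 3, 0, 1], 0, [3, 1, 2, 3, 0, 1, 2], 0),
  ([3, 1, 3, 0, 2], 2, [1, 0, 3, 2, 3, 0, 1, 3], 2),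
  ([2, 1, 2, 1, 0, 2], 0, [2, 0, 2, 1, 2, 1, 0], 0),
  ([2, 0, 1, 2, 1, 2], 1, [3, 1, 3, 2, 1, 2, 0], 0),
  ([3, 2, 0, 2, 1, 2], 2, [3, 0, 2, 0, 2, 0, 1], 2),
  ([1, 0, 2, 3, 2, 0], 3, [1, 2, 1, 2, 0, 3, 2], 0),
  ([2, 0, 1, 2, 1, 2], 1, [3, 1, 3, 2, 1, 0, 1], 0),
  ([2, 1, 0, 1, 3, 0], 1, [2, 3, 0, 1, 3, 2, 1], 0),
  ([2, 1, 0, 1, 3, 0], 1, [3, 2, 3, 2, 1, 2, 3], 0),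
  ([0, 1, 3, 1, 0, 2], 3, [2, 1, 0, 3, 1, 2, 3], 1),
  ([2, 3, 2, 0, 3, 0], 1, [2, 1, 0, 3, 2, 1, 3], 1),
  ([1, 3, 0, 3, 1, 3], 2, [2, 1, 0, 3, 2, 3, 2], 1),
  ([2, 0, 3, 2, 1, 3], 3, [1, 2, 1, 0, 1, 3, 1], 2),
  ([0, 3, 1, 0, 2, 1], 3, [1, 2, 1, 0, 1, 3, 2], 2),
  ([1, 2, 1, 0, 2, 1], 2, [1, 3, 2, 3, 0, 3, 2], 0),
  ([0, 2, 3, 1, 2, 0], 3, [1, 2, 1, 0, 3, 1, 2], 2),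
  ([2, 0, 2, 1, 2, 1], 3, [0, 1, 2, 1, 2, 1, 2], 3),
  ([2, 0, 1, 2, 1, 2], 3, [0, 2, 1, 2, 1, 2, 1], 3),
  ([2, 1, 2, 1, 2, 1], 3, [0, 2, 0, 1, 2, 1, 2], 3),
  ([2, 0, 2, 0, 1, 2], 3, [1, 2, 1, 2, 1, 2, 1], 3),
  ([2, 1, 2, 1, 2, 1], 3, [1, 2, 0, 2, 0, 1, 2], 3),
  ([1, 2, 1, 2, 1, 2], 3, [2, 1, 2, 0, 2, 0, 1], 3),
  ([2, 1, 2, 1, 2, 1], 3, [1, 2, 1, 2, 0, 2, 0], 3),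
  ([1, 2, 1, 2, 1, 0], 3, [3, 1, 2, 1, 2, 3, 2], 2),
  ([3, 2, 0, 3, 1], 2, [3, 0, 1, 2, 1, 2, 1, 3], 2),
  ([1, 0, 2, 1, 2, 3], 3, [1, 2, 1, 2, 1, 3, 1], 0),
  ([2, 1, 2, 3, 0, 1], 3, [1, 0, 2, 3, 2, 1, 2], 3),
  ([2, 1, 2, 1, 0, 2], 3, [2, 3, 1, 3, 1, 3, 1], 0),
  ([1, 3, 1, 0, 3, 1], 2, [1, 3, 1, 2, 0, 1, 2], 0),
  ([0, 3, 1, 2, 1, 0], 2, [3, 1, 2, 1, 2, 3, 1], 1),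
  ([1, 0, 1, 2, 1, 3], 3, [0, 2, 3, 0, 2, 3, 0], 3),
  ([3, 1, 0, 1, 2, 1], 2, [2, 3, 1, 2, 3, 0, 3], 0),
  ([1, 2, 1, 0, 2, 3], 3, [3, 1, 2, 3, 0, 3, 1], 1),
  ([2, 3, 2, 1, 0, 2], 3, [1, 2, 1, 0, 3, 2, 3], 3),
  ([2, 0, 3, 1, 0, 3], 3, [1, 0, 1, 2, 1, 3, 1], 3),
  ([1, 2, 3, 2, 3, 0], 3, [0, 1, 2, 1, 3, 1, 3], 3),
  ([1, 3, 1, 3, 0, 3], 2, [3, 1, 2, 1, 0, 3, 2], 1),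
  ([1, 3, 1, 2, 1, 2], 3, [1, 3, 0, 1, 2, 1, 3], 3),
  ([2, 3, 1, 2, 1, 0], 1, [2, 3, 1, 2, 1, 0, 3], 1),
  ([3, 2, 3, 1, 2, 1], 0, [3, 0, 2, 1, 2, 3, 0], 0),
  ([1, 3, 0, 2, 1, 3], 3, [3, 1, 2, 1, 0, 3, 2], 2),
  ([2, 3, 1, 2, 1, 0], 3, [2, 1, 0, 2, 3, 2, 3], 3),
  ([3, 1, 0, 2, 0, 2], 2, [1, 3, 0, 1, 2, 3, 0], 0),
  ([0, 1, 3, 2, 1, 3], 2, [2, 0, 3, 2, 1, 0, 1], 0),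
  ([1, 2, 3, 1, 0, 3], 3, [0, 3, 2, 1, 0, 2, 0], 2),
  ([0, 3, 2, 1, 0, 2], 3, [1, 2, 3, 2, 3, 2, 1], 2),
  ([3, 0, 3, 0, 1, 3], 2, [3, 2, 1, 0, 3, 1, 0], 0),
  ([3, 0, 3, 2, 3, 0], 2, [1, 2, 3, 1, 0, 1, 3], 0),
  ([2, 1, 2, 0, 2, 1], 3, [1, 3, 2, 1, 0, 1, 3], 0),
  ([0, 2, 3, 1, 3, 2], 3, [1, 3, 2, 1, 0, 2, 3], 0),
  ([2, 3, 0, 2, 1, 2], 3, [0, 2, 1, 3, 2, 1, 0], 3),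
  ([1, 2, 3, 2, 1, 0], 3, [2, 1, 2, 1, 3, 2, 1], 0),
  ([1, 2, 1, 3, 2, 1], 3, [0, 2, 3, 2, 1, 2, 0], 3),
  ([3, 2, 1, 0, 2, 1], 1, [3, 2, 3, 1, 2, 3, 2], 0),
  ([2, 3, 2, 1, 0, 1], 0, [0, 2, 1, 3, 2, 1, 3], 2),
  ([0, 3, 2, 3, 0, 2], 2, [2, 1, 3, 0, 1, 2, 3], 1),
  ([2, 1, 0, 2, 0, 2], 3, [1, 2, 1, 2, 1, 2, 1], 3),
  ([2, 1, 0, 2, 3, 2], 3, [2, 3, 1, 2, 1, 3, 1], 0),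
  ([2, 1, 0, 3, 1, 0], 3, [2, 0, 3, 1, 3, 1, 2], 1),
  ([2, 0, 3, 1, 2, 1], 3, [3, 0, 1, 2, 3, 2, 3], 2),
  ([3, 2, 1, 0, 2, 3], 2, [3, 0, 2, 3, 2, 1, 2], 0),
  ([1, 0, 3, 0, 3, 1], 3, [0, 3, 2, 0, 1, 3, 0], 3),
  ([1, 0, 3, 1, 0, 3], 3, [1, 2, 3, 2, 0, 2, 1], 2),
  ([0, 3, 2, 0, 1, 3], 3, [0, 1, 3, 1, 3, 1, 0], 3),
  ([1, 0, 1, 3, 0, 1], 3, [0, 2, 3, 1, 0, 2, 3], 3),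
  ([1, 2, 3, 1, 0, 3], 3, [0, 3, 2, 0, 2, 0, 1], 2),
  ([1, 2, 0, 1, 3, 0], 2, [2, 3, 1, 0, 2, 0, 2], 0),
  ([2, 3, 1, 0, 2, 0], 0, [2, 3, 0, 2, 0, 3, 1], 0),
  ([0, 1, 3, 0, 2, 1], 3, [1, 3, 1, 0, 2, 3, 2], 2),
  ([1, 2, 3, 2, 3, 2], 2, [3, 0, 2, 0, 1, 3, 0], 0),
  ([2, 0, 3, 0, 3, 1], 1, [2, 1, 2, 3, 1, 3, 0], 0),
  ([2, 0, 3, 0, 3, 1], 3, [3, 2, 0, 2, 3, 2, 0], 1),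
  ([2, 3, 0, 2, 3, 2], 3, [2, 0, 1, 3, 0, 3, 0], 3),
  ([3, 2, 0, 3, 0, 3], 2, [2, 1, 3, 1, 2, 0, 1], 1),
  ([1, 0, 2, 3, 1, 2], 3, [3, 0, 3, 1, 0, 1, 3], 0),
  ([0, 3, 1, 0, 2, 1], 3, [3, 1, 0, 1, 3, 2, 3], 0),
  ([1, 2, 3, 2, 3, 2], 2, [3, 1, 0, 2, 0, 3, 0], 0),
  ([3, 2, 0, 3, 0, 3], 1, [3, 1, 0, 2, 3, 2, 1], 0),
  ([1, 0, 2, 3, 0, 2], 3, [3, 1, 0, 3, 0, 1, 3], 0),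
  ([2, 1, 2, 1, 3, 0], 1, [2, 3, 0, 2, 0, 1, 3], 0),
  ([3, 0, 3, 1, 0, 3], 1, [2, 3, 0, 3, 0, 3, 0], 0),
  ([3, 0, 3, 1, 3, 0], 1, [0, 3, 1, 3, 0, 1, 3], 3),
  ([3, 2, 3, 2, 1, 3], 1, [3, 0, 1, 3, 0, 3, 2], 1),
  ([3, 2, 3, 0, 3, 1], 1, [3, 2, 3, 1, 3, 2, 0], 0),
  ([2, 1, 3, 2, 3, 1], 3, [1, 3, 1, 0, 3, 1, 3], 0),
  ([1, 0, 1, 3, 1, 3], 3, [3, 1, 2, 3, 1, 3, 0], 1),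
  ([2, 1, 2, 1, 2, 1], 3, [1, 0, 2, 0, 2, 1, 2], 3),
  ([2, 0, 3, 2, 3, 0], 3, [1, 0, 2, 0, 3, 1, 3], 3),
  ([2, 0, 3, 2, 1, 3], 3, [1, 0, 2, 1, 2, 0, 2], 3),
  ([1, 0, 2, 1, 3, 2], 3, [1, 2, 3, 0, 2, 1, 3], 2),
  ([1, 3, 0, 3, 0, 1], 2, [3, 0, 3, 2, 0, 1, 3], 0),
  ([1, 0, 3, 0, 3, 0], 3, [3, 1, 3, 2, 3, 0, 3], 0),
  ([0, 3, 2, 3, 1, 3], 3, [2, 1, 3, 1, 0, 3, 0], 0),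
  ([0, 2, 1, 3, 1, 0], 3, [3, 2, 0, 1, 3, 1, 3], 2),
  ([0, 3, 2, 1, 3, 2], 3, [1, 2, 3, 0, 1, 3, 1], 2),
  ([3, 2, 3, 1, 0, 2], 0, [2, 0, 3, 1, 3, 1, 0], 0),
  ([0, 1, 3, 1, 3, 0], 3, [3, 1, 3, 2, 3, 0, 3], 0),
  ([2, 0, 3, 2, 3, 0], 3, [0, 2, 0, 1, 3, 1, 3], 3),
  ([2, 0, 3, 0, 1, 3], 0, [2, 0, 3, 0, 1, 3, 1], 0),
  ([3, 1, 0, 3, 0, 3], 1, [3, 1, 3, 0, 2, 3, 0], 2),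
  ([0, 3, 0, 3, 1, 2], 3, [1, 3, 1, 3, 1, 2, 0], 0),
  ([2, 1, 3, 2, 0, 1], 3, [2, 0, 3, 1, 3, 1, 3], 3),
  ([3, 2, 0, 2, 1, 2], 1, [3, 2, 0, 1, 3, 1, 3], 0),
  ([2, 1, 2, 1, 3, 0], 1, [2, 3, 1, 0, 2, 0, 3], 0),
  ([2, 0, 1, 3, 2, 3], 1, [2, 0, 1, 3, 2, 0, 2], 1),
  ([1, 3, 1, 2, 3, 2], 3, [3, 2, 0, 2, 3, 1, 0], 2),
  ([3, 2, 0, 3, 2, 3], 1, [1, 3, 2, 0, 3, 0, 2], 0),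
  ([1, 3, 0, 1, 3, 2], 2, [3, 1, 2, 3, 0, 3, 0], 0),
  ([2, 3, 0, 2, 3, 1], 3, [0, 3, 2, 3, 1, 3, 0], 2),
  ([1, 3, 2, 0, 3, 2], 3, [1, 2, 3, 1, 0, 3, 1], 2),
  ([2, 3, 1, 0, 3, 0], 1, [2, 3, 1, 0, 3, 0, 3], 1),
  ([3, 0, 1, 3, 2, 1], 1, [2, 0, 2, 3, 2, 0, 3], 1),
  ([3, 1, 2, 3, 1, 0], 0, [3, 1, 2, 3, 1, 0, 2], 0),
  ([1, 2, 3, 1, 0, 3], 3, [0, 3, 0, 2, 0, 2, 1], 2),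
  ([2, 1, 3, 2, 3, 1], 1, [2, 1, 3, 0, 1, 3, 2], 1),
  ([3, 1, 2, 3, 1], 2, [2, 0, 2, 1, 2, 0, 3, 0], 0),
  ([3, 1, 0, 3, 2, 0], 2, [3, 2, 3, 2, 1, 2, 3], 2),
  ([3, 0, 2, 3, 0, 1], 0, [2, 1, 2, 1, 3, 2, 3], 0),
  ([1, 3, 2, 3, 2, 0], 0, [1, 3, 2, 3, 2, 0, 3], 0),
  ([3, 0, 3, 0, 3, 0], 0, [2, 0, 2, 0, 3, 0, 3], 0),
  ([1, 2, 0, 3, 2], 2, [0, 2, 0, 2, 1, 2, 0, 3], 2),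
  ([3, 0, 3, 2, 3], 1, [1, 2, 0, 2, 0, 2, 0, 2], 2),
  ([3, 0, 2, 0, 2, 0], 2, [3, 2, 0, 3, 1, 3, 2], 2),
  ([3, 2, 0, 2, 0, 2], 1, [3, 0, 2, 3, 2, 3, 0], 1),
  ([2, 3, 1, 3, 0, 2], 0, [2, 0, 2, 3, 2, 3, 0], 0),
  ([2, 0, 3, 0, 3, 0], 3, [3, 0, 2, 0, 2, 0, 3], 1),
  ([3, 1, 2, 1, 3, 2], 0, [2, 0, 3, 0, 3, 2, 3], 0),
  ([1, 2, 0, 2, 1, 3], 2, [2, 0, 3, 1, 2, 0, 2], 0),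
  ([2, 3, 2, 0, 2, 0], 0, [2, 3, 0, 2, 0, 3, 2], 0),
  ([2, 3, 0, 2, 0, 2], 3, [0, 3, 0, 2, 3, 1, 3], 2),
  ([2, 0, 2, 0, 2, 3], 3, [0, 2, 0, 3, 2, 0, 2], 3),
  ([2, 3, 2, 0, 2, 0], 3, [0, 3, 0, 2, 3, 1, 3], 2),
  ([2, 1, 2, 1, 3, 0], 1, [3, 0, 2, 0, 3, 0, 2], 0),
  ([1, 3, 2, 0, 3, 2], 3, [0, 2, 0, 3, 1, 3, 0], 3),
  ([0, 3, 0, 2, 0, 3], 3, [3, 1, 3, 1, 3, 2, 1], 2),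
  ([1, 2, 1, 2, 0, 3], 2, [0, 3, 1, 3, 0, 3, 1], 2),
  ([1, 3, 0, 2, 0, 3], 3, [2, 3, 1, 3, 2, 3, 2], 1),
  ([0, 3, 2, 3, 0, 2], 3, [0, 3, 2, 3, 1, 3, 0], 2),
  ([2, 3, 2, 1, 2, 3], 3, [3, 1, 2, 3, 0, 2, 0], 1),
  ([0, 3, 2, 3, 2, 3], 2, [3, 1, 3, 2, 0, 2, 1], 0),
  ([2, 0, 3, 2, 1, 3], 3, [1, 2, 0, 2, 1, 2, 0], 3),
  ([1, 2, 0, 2, 1, 3], 3, [2, 0, 3, 0, 3, 0, 2], 1),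
  ([1, 2, 0, 2, 3, 1], 2, [3, 2, 0, 2, 3, 0, 2], 0),
  ([3, 1, 3, 0, 2, 1], 0, [3, 1, 3, 0, 2, 1, 2], 0),
  ([2, 3, 0, 2, 1, 2], 1, [3, 1, 3, 2, 1, 3, 1], 0),
  ([1, 3, 1, 2, 1, 2], 3, [3, 1, 2, 0, 2, 3, 0], 2),
  ([3, 2, 1, 3, 1, 3], 0, [2, 1, 2, 3, 0, 3, 0], 0),
  ([2, 3, 0, 3, 1, 2], 1, [3, 2, 0, 2, 1, 2, 3], 0),
  ([3, 1, 2, 0, 3, 2], 1, [2, 3, 2, 1, 2, 3, 1], 0),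
  ([2, 3, 2, 0, 2, 3], 3, [0, 3, 2, 3, 0, 2, 1], 3),
  ([0, 3, 2, 0, 2, 1], 3, [3, 0, 2, 3, 0, 2, 3], 1),
  ([1, 2, 3, 1, 2, 0], 2, [1, 2, 3, 1, 2, 0, 3], 2),
  ([3, 2, 3, 1, 2, 0], 0, [3, 2, 3, 1, 2, 0, 3], 0),
  ([3, 0, 2, 1, 3, 2], 2, [3, 0, 2, 1, 3, 2, 3], 2),
  ([1, 2, 3, 2, 1, 3], 3, [0, 2, 3, 1, 3, 0, 2], 3),
  ([1, 3, 2, 3, 1, 2], 3, [2, 3, 1, 3, 1, 2, 3], 0),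
  ([2, 3, 1, 3, 1, 3], 3, [3, 0, 3, 0, 3, 0, 2], 2),
  ([2, 0, 3, 1, 3, 1], 3, [1, 3, 0, 2, 3, 2, 3], 3),
  ([2, 0, 3, 1, 3, 2], 3, [3, 2, 3, 2, 3, 0, 3], 0),
  ([3, 2, 1, 3, 2, 1], 1, [2, 3, 2, 1, 2, 1, 3], 0),
  ([0, 3, 2, 1, 2, 3], 3, [3, 2, 3, 2, 0, 3, 1], 1),
  ([3, 2, 3, 2, 0, 3], 1, [3, 1, 3, 1, 3, 1, 2], 1),
  ([1, 3, 0, 3, 0, 3], 2, [3, 0, 3, 0, 3, 2, 1], 1),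
  ([1, 3, 0, 3, 2, 3], 2, [2, 3, 1, 2, 1, 3, 0], 1),
  ([3, 1, 3, 0, 3, 1], 2, [3, 1, 2, 3, 2, 1, 3], 0),
  ([3, 1, 3, 2, 3, 1], 1, [3, 1, 2, 3, 2, 1, 3], 0),
  ([1, 3, 2, 3, 2, 1], 3, [2, 1, 2, 3, 1, 2, 3], 1)]

/-- palindromes for the first generator `a` and for two involutions `s`, `s'` with `s s' = b ζ` -/
def palZ : List ℕ × ℕ := ([1, 2, 0, 3, 1, 2, 1, 0], 3)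
def palS : List ℕ × ℕ := ([3, 1, 2, 1], 2)
def palS' : List ℕ × ℕ := ([2, 1, 3, 2, 0, 2, 3], 0)

/-- the code of the central element, and an element of order three whose commutator with `b` it is -/
def czeta : ℕ := 2925860560365287562542665234589536642254243889152
def c12 : ℕ := 2925857772772135150066342066286272728737304805377

/-- words in the five generating involutions of `P0` with every letter an even number of times -/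
def evenW : List (List ℕ) := [[1, 3, 1, 0, 1, 4, 3, 4, 0, 4, 3, 1, 4, 3], [0, 3, 1, 0, 3, 1, 3, 4, 0, 4, 3, 4, 0, 4], [1, 3, 0, 3, 1, 3, 0, 1, 3, 1], [0, 1, 3, 1, 0, 1, 4, 0, 4, 3, 4, 0, 1, 4], [0, 1, 0, 4, 3, 1, 3, 4, 0, 1, 0, 4, 3, 1, 4, 3]]

end Cfsg.Agent.Lib.Helper5.J3Mult
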