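import Cfsg.Agent.Lib.Helper5.J3MultA
import Cfsg.Agent.Lib.Helper5.J3MultB
import Cfsg.Agent.Lib.Helper5.J3MultData
import Cfsg.Agent.Lib.Helper5.J3MultData2
import Cfsg.Agent.Lib.Helper6.J3Letters
import Cfsg.Agent.Lib.Helper6.F4Core

/-!
# The certificates for the Schur multiplier of `J₃`: definitions of the checks

Three coset certificates (`34`, `240` and `18468` rows) read from packed numerals, and the boolean checks on the codes
of the matrices: the words of the certificates are products of two palindromes with the same value.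
-/

set_option autoImplicit false

namespace Cfsg.Agent.Lib.Helper5.J3Mult

open Cfsg.Agent.Lib.Helper6.J3 Cfsg.Agent.Lib.Helper6.F4 Cfsg.Agent.Lib.Helper5.J3Fus

/-- a certificate read from packed entries -/
def mkCert (n g nsub : ℕ) (ent par : ℕ → ℕ) (W : ℕ → List ℕ) : FCert where
  n := n
  g := g
  nsub := nsub
  Tg a x := ent (a * g + x) % 32768
  tg a x := (ent (a * g + x) >>> 15) % 262144
  kd a x := (ent (a * g + x) >>> 33) % 4
  rs a x := (ent (a * g + x) >>> 35) % 32768
  rw a x := (ent (a * g + x) >>> 50) % 1024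
  rp a x := (ent (a * g + x) >>> 60) % 64
  pa b := par b / g
  px b := par b % g
  W := W

/-- the product of two palindromes -/
def longW (c : List ℕ × ℕ × List ℕ × ℕ) : List ℕ := palW c.1 c.2.1 ++ palW c.2.2.1 c.2.2.2

/-- the trivial coincidence -/
def c0 : List ℕ × ℕ × List ℕ × ℕ := ([], 0, [], 0)

/-- the word of the normalising triple -/
def tripW : List ℕ := palW tripA.1 tripA.2 ++ (palW tripC.1 tripC.2 ++ palW tripU.1 tripU.2)

def ent4 (i : ℕ) : ℕ := (chunk4 (i / 2048) >>> (66 * (i % 2048))) % 73786976294838206464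
def par4 (b : ℕ) : ℕ := (pchunk4 (b / 4096) >>> (17 * (b % 4096))) % 131072
def ent3 (i : ℕ) : ℕ := (c3_0 >>> (66 * i)) % 73786976294838206464
def par3 (b : ℕ) : ℕ := (q3_0 >>> (17 * b)) % 131072
def ent2 (i : ℕ) : ℕ := (c2_0 >>> (66 * i)) % 73786976294838206464
def par2 (b : ℕ) : ℕ := (q2_0 >>> (17 * b)) % 131072

/-- the words of the middle certificate: thirteen coincidences and the normalising triple -/
def W3 (k : ℕ) : List ℕ := bif Nat.beq k 13 then tripW else longW (rel3.getD k c0)

/-- the three certificates -/
def cert2 : FCert := mkCert 34 2 0 ent2 par2 fun k => longW (rel2.getD k c0)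
def cert3 : FCert := mkCert 240 3 2 ent3 par3 W3
def cert4 : FCert := mkCert 18468 4 3 ent4 par4 fun k => longW (rel4.getD k c0)

/-! ### the checks on the codes -/

/-- the code of a generator -/
def gc (i : ℕ) : ℕ := gcodes.getD i ca

/-- conjugate the code `v` successively by the generators with the indices in `h` -/
noncomputable def palC (h : List ℕ) : ℕ → ℕ :=
  List.rec (motive := fun _ => ℕ → ℕ) (fun v => v)
    (fun s _ ih v => strictN (gc s) fun g => strictN (lmul (lmul g v) g) ih) h

theorem palC_nil (v : ℕ) : palC [] v = v := rfl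

theorem palC_cons (s : ℕ) (h : List ℕ) (v : ℕ) :
    palC (s :: h) v = palC h (lmul (lmul (gc s) v) (gc s)) := by
  show strictN (gc s) (fun g => strictN (lmul (lmul g v) g) (palC h)) = _
  rw [strictN_eq, strictN_eq]

/-- the value of a palindrome -/
noncomputable def palV (p : List ℕ × ℕ) : ℕ := palC p.1 (gc p.2)

/-- the two palindromes of a coincidence have the same value -/
noncomputable def relOK (c : List ℕ × ℕ × List ℕ × ℕ) : Bool :=
  Nat.beq (palC c.1 (gc c.2.1)) (palC c.2.2.1 (gc c.2.2.2))

/-- the letters of a coincidence are below `g` -/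
def letOK (g : ℕ) (c : List ℕ × ℕ × List ℕ × ℕ) : Bool :=
  c.1.all (fun x => Nat.blt x g) && (Nat.blt c.2.1 g && (c.2.2.1.all (fun x => Nat.blt x g) && Nat.blt c.2.2.2 g))

/-- the conjugate of the first generator by a word in the letters `a`, `b`, `b⁻¹` -/
noncomputable def conjWord (w : List ℕ) : ℕ :=
  List.rec (motive := fun _ => ℕ) ca
    (fun l _ ih => strictN ih fun v =>
      lmul (lmul ([ca, cb, cbi].getD l ca) v) ([cai, cbi, cb].getD l cai)) w

theorem conjWord_nil : conjWord [] = ca := rfl

theorem conjWord_cons (l : ℕ) (w : List ℕ) : conjWord (l :: w) =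
    lmul (lmul ([ca, cb, cbi].getD l ca) (conjWord w)) ([cai, cbi, cb].getD l cai) := by
  show strictN (conjWord w) (fun v => lmul (lmul ([ca, cb, cbi].getD l ca) v) ([cai, cbi, cb].getD l cai)) = _
  rw [strictN_eq]

/-- the product of the codes with the indices in `w` in the list `cs` -/
noncomputable def wordC (cs : List ℕ) (w : List ℕ) : ℕ :=
  List.rec (motive := fun _ => ℕ) lone (fun i _ ih => strictN ih fun v => lmul (cs.getD i lone) v) w

theorem wordC_nil (cs : List ℕ) : wordC cs [] = lone := rfl

theorem wordC_cons (cs : List ℕ) (i : ℕ) (w : List ℕ) :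
    wordC cs (i :: w) = lmul (cs.getD i lone) (wordC cs w) := by
  show strictN (wordC cs w) (fun v => lmul (cs.getD i lone) v) = _
  rw [strictN_eq]

/-- every letter below `m` occurs an even number of times -/
def evenOK (m : ℕ) (w : List ℕ) : Bool := (List.range m).all fun i => Nat.beq (w.count i % 2) 0

end Cfsg.Agent.Lib.Helper5.J3Mult
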