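import Cfsg.Agent.Lib.Helper5.J3MultC
import Cfsg.Agent.Lib.Helper5.J3Fus

/-! The checks for the Schur multiplier of `J₃` that the kernel evaluates: codes of matrices, small certificates -/

set_option autoImplicit false
set_option maxRecDepth 100000

namespace Cfsg.Agent.Lib.Helper5.J3Mult

open Cfsg.Agent.Lib.Helper6.J3 Cfsg.Agent.Lib.Helper6.F4 Cfsg.Agent.Lib.Helper5.J3Fus

theorem chk_gw : gwords.map conjWord = gcodes := by decide +kernel

theorem chk_rel2 : rel2.all relOK = true := by decide +kernel

theorem chk_rel3 : rel3.all relOK = true := by decide +kernel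

theorem chk_rel4 : rel4.all relOK = true := by decide +kernel

theorem chk_let2 : rel2.all (letOK 2) = true := by decide +kernel

theorem chk_let3 : rel3.all (letOK 3) = true ∧ tripW.all (fun x => Nat.blt x 3) = true ∧
    rel3.length = 13 := by decide +kernel

theorem chk_let4 : rel4.all (letOK 4) = true := by decide +kernel

theorem chk_trip : Nat.beq (lmul (palV tripA) (palV tripC)) (palV tripU) = true ∧
    Nat.beq (lmul (palV tripC) (palV tripA)) (lmul (palV tripA) (palV tripC)) = true := by
  decide +kernel

theorem chk_gen : Nat.beq (palV palZ) ca = true ∧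
    Nat.beq (lmul (palV palS) (palV palS')) (lmul cb czeta) = true := by decide +kernel

theorem chk_zeta : czeta = codesX.getD 8 lone ∧ c12 = codesX.getD 12 lone ∧
    lmul c12 (lmul c12 c12) = lone ∧ lmul (lmul cb c12) (lmul cbi (lmul c12 c12)) = czeta := by
  decide +kernel

theorem chk_even : (List.range 5).all (fun k =>
    Nat.beq (wordC Hsc (evenW.getD k [])) (Hsc.getD k lone) && evenOK 5 (evenW.getD k [])) = true ∧
    Hsc.length = 5 := by
  decide +kernel

theorem chk_c2 : cert2.rowsOK 0 34 = true := by decide +kernel

theorem chk_c3 : cert3.rowsOK 0 240 = true := by decide +kernel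

end Cfsg.Agent.Lib.Helper5.J3Mult
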