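import Cfsg.Agent.Lib.Helper5.J3MultC

/-! The rows of the large coset certificate for the Schur multiplier of `J₃`, checked by the kernel (part 1) -/

set_option autoImplicit false
set_option maxRecDepth 100000

namespace Cfsg.Agent.Lib.Helper5.J3Mult

theorem chk_c4a : cert4.rowsOK 0 3078 = true := by decide +kernel

theorem chk_c4b : cert4.rowsOK 3078 3078 = true := by decide +kernel

theorem chk_c4c : cert4.rowsOK 6156 3078 = true := by decide +kernel

end Cfsg.Agent.Lib.Helper5.J3Mult
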