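import Cfsg.Agent.Lib.Helper5.J3MultC

/-! The rows of the large coset certificate for the Schur multiplier of `J₃`, checked by the kernel (part 2) -/

set_option autoImplicit false
set_option maxRecDepth 100000

namespace Cfsg.Agent.Lib.Helper5.J3Mult

theorem chk_c4d : cert4.rowsOK 9234 3078 = true := by decide +kernel

theorem chk_c4e : cert4.rowsOK 12312 3078 = true := by decide +kernel

theorem chk_c4f : cert4.rowsOK 15390 3078 = true := by decide +kernel

end Cfsg.Agent.Lib.Helper5.J3Mult
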