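import Cfsg.Agent.Lib.Helper5.J3MultChk1
import Cfsg.Agent.Lib.Helper5.J3MultChk2
import Cfsg.Agent.Lib.Helper5.J3MultChk3
import Cfsg.Agent.Lib.Helper5.J3Cent

/-!
# A finite stem extension of `J₃` has at most `3 |J₃|` elements

`J₃ = Γ / Z` with `Γ = G₂ hω h2`.  The centraliser of the involution `tJ` is perfect (it is isomorphic to `P0`, which is
generated by five involutions, each of which is a word with even exponents in them).  Four conjugates of `tJ` generate
`J₃`; in a stem extension their canonical lifts `γ 0, …, γ 3` generate the extension and satisfy every relation "two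
conjugates coincide" (checked on the codes of the matrices) and one relation "the product of two commuting conjugates is
a conjugate".  Three coset certificates give `|⟨γ 0, γ 1⟩| ≤ 34`, `|⟨γ 0, γ 1, γ 2⟩| ≤ 240 · 34` and
`|⟨γ 0, …, γ 3⟩| ≤ 18468 · 240 · 34 = 3 |J₃|`.
-/

set_option autoImplicit false

namespace Cfsg.Agent.Lib.Helper5.J3Mult

open Cfsg.Spor Cfsg.Agent.Lib.Helper6.J3 Cfsg.Agent.Lib.Helper6.F4 Cfsg.Agent.Lib.Helper5.J3Fus
  Cfsg.Agent.Lib.Helper8.CanonLift

/-! ### words with even exponents in involutions are products of commutators -/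

theorem mem_commutator_of_even {P : Type*} [Group P] (f : ℕ → P) (hf : ∀ i, f i * f i = 1) (m : ℕ)
    (w : List ℕ) (hw : evenOK m w = true) (hlt : ∀ i ∈ w, i < m) : (w.map f).prod ∈ commutator P := by
  rw [← Abelianization.ker_of P, MonoidHom.mem_ker, map_list_prod, List.map_map,
    Finset.prod_list_map_count]
  apply Finset.prod_eq_one
  intro i hi
  have him : i < m := hlt i (List.mem_toFinset.1 hi)
  unfold evenOK at hw
  rw [List.all_eq_true] at hw
  have h1 := Nat.eq_of_beq_eq_true (hw i (List.mem_range.2 him))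
  obtain ⟨k, hk⟩ : ∃ k, w.count i = 2 * k := ⟨w.count i / 2, by omega⟩
  rw [hk, pow_mul, Function.comp_apply, pow_two, ← map_mul, hf, map_one, one_pow]

section

variable {F : Type*} [Field F] [Finite F] {ω : F} (hω : ω ^ 2 + ω + 1 = 0) (h2 : (2 : F) = 0)

/-! ### `P0` is perfect -/

/-- the five generating involutions of `P0` -/
noncomputable def fP (i : ℕ) : ↥(cl hω h2 Hsc) :=
  ⟨elJ hω h2 (Hsc.getD i lone), (goodIn_getD (goodIn_of_mem_gens good_Hs) i).2⟩

theorem fP_sq (i : ℕ) : fP hω h2 i * fP hω h2 i = 1 := by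
  apply Subtype.ext
  show elJ hω h2 (Hsc.getD i lone) * elJ hω h2 (Hsc.getD i lone) = 1
  by_cases hi : i < Hsc.length
  · rw [List.getD_eq_getElem _ _ hi]
    exact (hs_sound good_Hs good_gQ good_ca gin_LQ chk_parts.2.2.1 (hω := hω) (h2 := h2) _
      (List.getElem_mem hi)).1
  · rw [List.getD_eq_default _ _ (by omega), elJ_lone, one_mul]

theorem good_wordC : ∀ w : List ℕ, Good hω h2 (wordC Hsc w)
  | [] => good_lone
  | i :: w => by
    rw [wordC_cons]
    exact (good_getD good_Hs i).mul (good_wordC w)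

theorem prod_fP : ∀ w : List ℕ, (((w.map (fP hω h2)).prod : ↥(cl hω h2 Hsc)) : ↥(G₂ hω h2)) =
    elJ hω h2 (wordC Hsc w)
  | [] => by
    rw [List.map_nil, List.prod_nil, wordC_nil, elJ_lone]
    rfl
  | i :: w => by
    rw [List.map_cons, List.prod_cons, Subgroup.coe_mul, prod_fP w, wordC_cons,
      elJ_lmul (good_getD good_Hs i) (good_wordC hω h2 w)]
    rfl

theorem fP_mem_commutator {k : ℕ} (hk : k < 5) : fP hω h2 k ∈ commutator ↥(cl hω h2 Hsc) := by
  have h := chk_even.1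
  rw [List.all_eq_true] at h
  have h1 := h k (List.mem_range.2 hk)
  rw [Bool.and_eq_true] at h1
  obtain ⟨h3, h4⟩ := h1
  have h5 : ∀ i ∈ evenW.getD k [], i < 5 := by
    have : ∀ w ∈ evenW, ∀ i ∈ w, i < 5 := by decide
    by_cases hk' : k < evenW.length
    · rw [List.getD_eq_getElem _ _ hk']
      exact this _ (List.getElem_mem hk')
    · rw [List.getD_eq_default _ _ (by omega)]
      intro i hi
      simp at hi
  have h6 := mem_commutator_of_even (fP hω h2) (fP_sq hω h2) 5 _ h4 h5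
  have h7 : ((evenW.getD k []).map (fP hω h2)).prod = fP hω h2 k := by
    apply Subtype.ext
    rw [prod_fP, Nat.eq_of_beq_eq_true h3]
    rfl
  rw [← h7]
  exact h6

/-- **`P0` is perfect** -/
theorem perfect_P0 : commutator ↥(cl hω h2 Hsc) = ⊤ := by
  have hle : cl hω h2 Hsc ≤ (commutator ↥(cl hω h2 Hsc)).map (cl hω h2 Hsc).subtype := by
    apply cl_le
    intro c hc
    obtain ⟨k, hk, rfl⟩ := List.getElem_of_mem hc
    have hk5 : k < 5 := by rw [← chk_even.2]; exact hk
    refine ⟨fP hω h2 k, fP_mem_commutator hω h2 hk5, ?_⟩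
    show elJ hω h2 (Hsc.getD k lone) = _
    rw [List.getD_eq_getElem _ _ hk]
  rw [Subgroup.eq_top_iff']
  rintro ⟨p, hp⟩
  obtain ⟨q, hq, hqp⟩ := hle hp
  have : q = ⟨p, hp⟩ := Subtype.ext hqp
  rw [← this]
  exact hq

theorem perfect_of_surjective {A B : Type*} [Group A] [Group B] (f : A →* B)
    (hf : Function.Surjective f) (hA : commutator A = ⊤) : commutator B = ⊤ := by
  have h1 : Subgroup.map f (commutator A) = commutator B := by
    rw [commutator_def, commutator_def, Subgroup.map_commutator, ← MonoidHom.range_eq_map,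
      MonoidHom.range_eq_top.2 hf]
  rw [← h1, hA, ← MonoidHom.range_eq_map, MonoidHom.range_eq_top.2 hf]

/-- **the centraliser of an involution of `J₃` is perfect** -/
theorem perfect_cent : commutator ↥(Cz (tJ hω h2)) = ⊤ :=
  perfect_of_surjective (toCent hω h2) (toCent_bijective hω h2).2 (perfect_P0 hω h2)

/-! ### the four involutions -/

theorem conjZ_conjWord : ∀ w : List ℕ, ConjZ hω h2 (conjWord w)
  | [] => conjZ_ca
  | l :: w => by
    rw [conjWord_cons]
    have ih := conjZ_conjWord w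
    rcases l with _ | _ | _ | l
    · exact conjZ_step good_ca good_cai chk_inv.1 ih
    · exact conjZ_step good_cb good_cbi chk_inv.2.2.1 ih
    · exact conjZ_step good_cbi good_cb chk_inv.2.2.2 ih
    · exact conjZ_step good_ca good_cai chk_inv.1 ih

theorem conjZ_gc (i : ℕ) : ConjZ hω h2 (gc i) := by
  unfold gc
  rw [← chk_gw]
  by_cases hi : i < (gwords.map conjWord).length
  · rw [List.getD_eq_getElem _ _ hi, List.getElem_map]
    exact conjZ_conjWord hω h2 _
  · rw [List.getD_eq_default _ _ (by omega)]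
    exact conjZ_ca

theorem good_gc (i : ℕ) : Good hω h2 (gc i) := (conjZ_gc hω h2 i).1

/-- the images of the involutions in `J₃` -/
noncomputable def tG (i : ℕ) : J3 F ω := toJ3 hω h2 (elJ hω h2 (gc i))

theorem tG_conj (i : ℕ) : ∃ g : J3 F ω, tG hω h2 i = g * tJ hω h2 * g⁻¹ := by
  obtain ⟨w, hw⟩ := (conjZ_gc hω h2 i).2
  refine ⟨toJ3 hω h2 w, ?_⟩
  unfold tG tJ
  rw [hw, map_mul, map_mul, map_inv]

/-- the cosets of the centraliser that belong to the involutions -/
noncomputable def xG (i : ℕ) : J3 F ω ⧸ Cz (tJ hω h2) :=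
  (((tG_conj hω h2 i).choose : J3 F ω) : J3 F ω ⧸ Cz (tJ hω h2))

theorem Tq_xG (i : ℕ) : Tq (tJ hω h2) (xG hω h2 i) = tG hω h2 i := by
  unfold xG
  rw [Tq_mk]
  exact ((tG_conj hω h2 i).choose_spec).symm

theorem Tq_xG' : (fun i => Tq (tJ hω h2) (xG hω h2 i)) = tG hω h2 := funext (Tq_xG hω h2)

theorem tG_sq (i : ℕ) : tG hω h2 i * tG hω h2 i = 1 := by
  rw [← Tq_xG]
  exact Tq_sq _ (tJ_sq hω h2) _

/-- the value of a palindrome, on the codes -/
theorem conjV_code : ∀ (h : List ℕ) (v : ℕ), Good hω h2 v →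
    Good hω h2 (palC h v) ∧
      conjV (tG hω h2) h (toJ3 hω h2 (elJ hω h2 v)) = toJ3 hω h2 (elJ hω h2 (palC h v))
  | [], v, hv => ⟨hv, rfl⟩
  | s :: h, v, hv => by
    rw [palC_cons, conjV]
    have hg := good_gc hω h2 s
    have h1 : tG hω h2 s * toJ3 hω h2 (elJ hω h2 v) * tG hω h2 s =
        toJ3 hω h2 (elJ hω h2 (lmul (lmul (gc s) v) (gc s))) := by
      unfold tG
      rw [elJ_lmul (hg.mul hv) hg, elJ_lmul hg hv, map_mul, map_mul]
    rw [h1]
    exact conjV_code h _ ((hg.mul hv).mul hg)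

theorem good_palV (p : List ℕ × ℕ) : Good hω h2 (palV p) :=
  (conjV_code hω h2 p.1 (gc p.2) (good_gc hω h2 p.2)).1

theorem conjV_palV (p : List ℕ × ℕ) :
    conjV (tG hω h2) p.1 (tG hω h2 p.2) = toJ3 hω h2 (elJ hω h2 (palV p)) :=
  (conjV_code hω h2 p.1 (gc p.2) (good_gc hω h2 p.2)).2

theorem Tq_palP_code (p : List ℕ × ℕ) :
    Tq (tJ hω h2) (palP (xG hω h2) p.1 p.2) = toJ3 hω h2 (elJ hω h2 (palV p)) := by
  rw [Tq_palP (xG hω h2) (fun i => by rw [Tq_xG]; exact tG_sq hω h2 i), Tq_xG', Tq_xG, conjV_palV]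

/-! ### the four involutions generate `J₃` -/

theorem conjV_mem {K : Subgroup (J3 F ω)} (hK : ∀ i, i < 4 → tG hω h2 i ∈ K) :
    ∀ (h : List ℕ) (v : J3 F ω), (∀ s ∈ h, s < 4) → v ∈ K → conjV (tG hω h2) h v ∈ K
  | [], v, _, hv => hv
  | s :: h, v, hh, hv => by
    rw [conjV]
    have hs := hK s (hh s (List.mem_cons_self ..))
    exact conjV_mem hK h _ (fun s' hs' => hh s' (List.mem_cons_of_mem _ hs')) (K.mul_mem (K.mul_mem hs hv) hs)

theorem elJ_zeta : elJ hω h2 czeta = zG hω h2 := by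
  symm
  apply eq_elJ
  · unfold Canon czeta; norm_num
  · rw [ι_z, ← chk_zeta.1]

theorem toJ3_zeta : toJ3 hω h2 (elJ hω h2 czeta) = 1 := by
  rw [elJ_zeta, toJ3_eq_one_iff]
  exact zpowers_le_center hω h2 (Subgroup.mem_zpowers _)

theorem good_czeta : Good hω h2 czeta :=
  ⟨by unfold Canon czeta; norm_num, zG hω h2, by rw [ι_z, ← chk_zeta.1]⟩

theorem elJ_ca_eq : elJ hω h2 ca = ⟨aΓ hω h2, aΓ_mem hω h2⟩ := by
  symm
  exact eq_elJ (good_ca (hω := hω) (h2 := h2)).1 rfl

theorem elJ_cb_eq : elJ hω h2 cb = ⟨bΓ hω h2, bΓ_mem hω h2⟩ := by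
  symm
  exact eq_elJ (good_cb (hω := hω) (h2 := h2)).1 rfl

/-- **the four involutions generate `J₃`** -/
theorem closure_tG : Subgroup.closure (tG hω h2 '' Set.Iio 4) = ⊤ := by
  set K := Subgroup.closure (tG hω h2 '' Set.Iio 4) with hKdef
  have hK : ∀ i, i < 4 → tG hω h2 i ∈ K := fun i hi => Subgroup.subset_closure ⟨i, hi, rfl⟩
  have hpal : ∀ p : List ℕ × ℕ, (∀ s ∈ p.1, s < 4) → p.2 < 4 →
      toJ3 hω h2 (elJ hω h2 (palV p)) ∈ K := by
    intro p h1 h2'
    rw [← conjV_palV]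
    exact conjV_mem hω h2 hK _ _ h1 (hK _ h2')
  have ha : toJ3 hω h2 (elJ hω h2 ca) ∈ K := by
    have := hpal palZ (by decide) (by decide)
    rwa [Nat.eq_of_beq_eq_true chk_gen.1] at this
  have hb : toJ3 hω h2 (elJ hω h2 cb) ∈ K := by
    have h1 := hpal palS (by decide) (by decide)
    have h3 := hpal palS' (by decide) (by decide)
    have h4 := K.mul_mem h1 h3
    rw [← map_mul, ← elJ_lmul (good_palV hω h2 _) (good_palV hω h2 _),
      Nat.eq_of_beq_eq_true chk_gen.2, elJ_lmul good_cb (good_czeta hω h2), map_mul, toJ3_zeta,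
      mul_one] at h4
    exact h4
  -- the preimage contains the two generators of `Γ`
  have hM : ∀ (g : GL F9 F) (hg : g ∈ G₂ hω h2), toJ3 hω h2 ⟨g, hg⟩ ∈ K := by
    intro g hg
    unfold G₂ at hg
    induction hg using Subgroup.closure_induction with
    | mem g hg =>
      rcases hg with rfl | hg
      · have := ha
        rwa [elJ_ca_eq] at this
      · rw [Set.mem_singleton_iff] at hg
        subst hg
        have := hb
        rwa [elJ_cb_eq] at this
    | one => exact K.one_mem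
    | mul a b ha' hb' iha ihb =>
      have : (⟨a * b, Subgroup.mul_mem _ ha' hb'⟩ : ↥(G₂ hω h2)) = ⟨a, ha'⟩ * ⟨b, hb'⟩ := rfl
      rw [this, map_mul]
      exact K.mul_mem iha ihb
    | inv a ha' iha =>
      have : (⟨a⁻¹, Subgroup.inv_mem _ ha'⟩ : ↥(G₂ hω h2)) = (⟨a, ha'⟩)⁻¹ := rfl
      rw [this, map_inv]
      exact K.inv_mem iha
  rw [Subgroup.eq_top_iff']
  intro y
  obtain ⟨g, rfl⟩ := toJ3_surjective hω h2 y
  exact hM g.1 g.2

/-! ### the words of the certificates are trivial on the lifts -/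

section lifts

variable {E : Type*} [Group E] {σ : E →* J3 F ω} (Λ : Lifts σ (Tq (tJ hω h2)))

/-- the lifts of the four involutions -/
noncomputable def γL (i : ℕ) : E := Λ.L (xG hω h2 i)

theorem γL_sq (i : ℕ) : γL hω h2 Λ i * γL hω h2 Λ i = 1 := Λ.sq _

theorem word_of_relOK {c : List ℕ × ℕ × List ℕ × ℕ} (h : relOK c = true) :
    ((longW c).map (γL hω h2 Λ)).prod = 1 := by
  unfold longW
  apply prod_coincide Λ (xG hω h2) (fun i => by rw [Tq_xG]; exact tG_sq hω h2 i)
  rw [Tq_xG', Tq_xG, Tq_xG]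
  have e1 := conjV_palV hω h2 (c.1, c.2.1)
  have e2 := conjV_palV hω h2 (c.2.2.1, c.2.2.2)
  rw [e1, e2]
  unfold relOK at h
  unfold palV
  rw [Nat.eq_of_beq_eq_true h]

theorem relOK_c0 : relOK c0 = true := by
  unfold relOK c0
  exact Nat.beq_refl _

theorem word_getD {l : List (List ℕ × ℕ × List ℕ × ℕ)} (hl : l.all relOK = true) (k : ℕ) :
    ((longW (l.getD k c0)).map (γL hω h2 Λ)).prod = 1 := by
  apply word_of_relOK
  by_cases hk : k < l.length
  · rw [List.getD_eq_getElem _ _ hk]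
    exact List.all_eq_true.1 hl _ (List.getElem_mem hk)
  · rw [List.getD_eq_default _ _ (by omega)]
    exact relOK_c0

theorem mem_palW {h : List ℕ} {c x : ℕ} (hx : x ∈ palW h c) : x ∈ h ∨ x = c := by
  unfold palW at hx
  rw [List.mem_append, List.mem_reverse, List.mem_cons] at hx
  tauto

theorem lt_of_letOK {g : ℕ} {c : List ℕ × ℕ × List ℕ × ℕ} (h : letOK g c = true) :
    ∀ x ∈ longW c, x < g := by
  unfold letOK at h
  simp only [Bool.and_eq_true, List.all_eq_true, Nat.blt_eq] at h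
  obtain ⟨h1, h2', h3, h4⟩ := h
  intro x hx
  unfold longW at hx
  rcases List.mem_append.1 hx with hx | hx
  · rcases mem_palW hx with hx | rfl
    · exact h1 x hx
    · exact h2'
  · rcases mem_palW hx with hx | rfl
    · exact h3 x hx
    · exact h4

theorem lt_getD {g : ℕ} (hg : 0 < g) {l : List (List ℕ × ℕ × List ℕ × ℕ)}
    (hl : l.all (letOK g) = true) (k : ℕ) : ∀ x ∈ longW (l.getD k c0), x < g := by
  by_cases hk : k < l.length
  · rw [List.getD_eq_getElem _ _ hk]
    exact lt_of_letOK (List.all_eq_true.1 hl _ (List.getElem_mem hk))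
  · rw [List.getD_eq_default _ _ (by omega)]
    intro x hx
    have : x = 0 := by
      unfold longW c0 palW at hx
      simpa using hx
    omega

/-- the points of the normalising triple -/
noncomputable def ptA : J3 F ω ⧸ Cz (tJ hω h2) := palP (xG hω h2) tripA.1 tripA.2
noncomputable def ptC : J3 F ω ⧸ Cz (tJ hω h2) := palP (xG hω h2) tripC.1 tripC.2
noncomputable def ptU : J3 F ω ⧸ Cz (tJ hω h2) := palP (xG hω h2) tripU.1 tripU.2

theorem trip_mul : Tq (tJ hω h2) (ptA hω h2) * Tq (tJ hω h2) (ptC hω h2) =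
    Tq (tJ hω h2) (ptU hω h2) := by
  unfold ptA ptC ptU
  rw [Tq_palP_code, Tq_palP_code, Tq_palP_code, ← map_mul,
    ← elJ_lmul (good_palV hω h2 _) (good_palV hω h2 _), Nat.eq_of_beq_eq_true chk_trip.1]

theorem trip_comm : Tq (tJ hω h2) (ptC hω h2) * Tq (tJ hω h2) (ptA hω h2) *
    (Tq (tJ hω h2) (ptC hω h2))⁻¹ = Tq (tJ hω h2) (ptA hω h2) := by
  have h : Tq (tJ hω h2) (ptC hω h2) * Tq (tJ hω h2) (ptA hω h2) =
      Tq (tJ hω h2) (ptA hω h2) * Tq (tJ hω h2) (ptC hω h2) := by
    unfold ptA ptC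
    rw [Tq_palP_code, Tq_palP_code, ← map_mul, ← map_mul,
      ← elJ_lmul (good_palV hω h2 _) (good_palV hω h2 _),
      ← elJ_lmul (good_palV hω h2 _) (good_palV hω h2 _), Nat.eq_of_beq_eq_true chk_trip.2]
  rw [h]
  group

theorem tripW_eq_one (hacu : Λ.L (ptA hω h2) * Λ.L (ptC hω h2) = Λ.L (ptU hω h2)) :
    (tripW.map (γL hω h2 Λ)).prod = 1 :=
  prod_triple Λ (xG hω h2) hacu

end lifts

/-! ### the bound -/

theorem hall4 : ∀ a, a < cert4.n → ∀ x, x < cert4.g → cert4.slotOK a x = true := by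
  intro a ha x hx
  have ha' : a < 18468 := ha
  rcases Nat.lt_or_ge a 3078 with h | h
  · exact cert4.slot_of_rows chk_c4a (Nat.zero_le _) (by omega) hx
  rcases Nat.lt_or_ge a 6156 with h' | h'
  · exact cert4.slot_of_rows chk_c4b h (by omega) hx
  rcases Nat.lt_or_ge a 9234 with h'' | h''
  · exact cert4.slot_of_rows chk_c4c h' (by omega) hx
  rcases Nat.lt_or_ge a 12312 with h3 | h3
  · exact cert4.slot_of_rows chk_c4d h'' (by omega) hx
  rcases Nat.lt_or_ge a 15390 with h4 | h4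
  · exact cert4.slot_of_rows chk_c4e h3 (by omega) hx
  · exact cert4.slot_of_rows chk_c4f h4 (by omega) hx

theorem hall3 : ∀ a, a < cert3.n → ∀ x, x < cert3.g → cert3.slotOK a x = true := by
  intro a ha x hx
  have ha' : a < 240 := ha
  exact cert3.slot_of_rows chk_c3 (Nat.zero_le _) (by omega) hx

theorem hall2 : ∀ a, a < cert2.n → ∀ x, x < cert2.g → cert2.slotOK a x = true := by
  intro a ha x hx
  have ha' : a < 34 := ha
  exact cert2.slot_of_rows chk_c2 (Nat.zero_le _) (by omega) hx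

include hω h2 in
/-- **a finite stem extension of `J₃` has at most `3 |J₃|` elements** -/
theorem card_stem_le {E : Type*} [Group E] [Finite E] (σ : E →* J3 F ω)
    (hsurj : Function.Surjective σ) (hcen : σ.ker ≤ Subgroup.center E) (hder : σ.ker ≤ commutator E) :
    Nat.card E ≤ 150698880 := by
  obtain ⟨Λ, hacu⟩ := exists_lifts_cent (tJ hω h2) hsurj hcen (tJ_sq hω h2) (perfect_cent hω h2)
    (ptA hω h2) (ptC hω h2) (ptU hω h2) (trip_mul hω h2) (trip_comm hω h2)
  set γ := γL hω h2 Λ with hγ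
  have hinv : ∀ x, γ x * γ x = 1 := γL_sq hω h2 Λ
  -- the lifts generate
  have htop : seg γ 4 = ⊤ := by
    have := Λ.closure_eq_top hcen hder (xG hω h2 '' Set.Iio 4) ⟨xG hω h2 0, 0, by norm_num, rfl⟩ (by
      rw [Set.image_image, Tq_xG']
      exact closure_tG hω h2)
    rw [Set.image_image] at this
    exact this
  -- the three certificates
  have hW2 : ∀ k, ((cert2.W k).map γ).prod = 1 := fun k => word_getD hω h2 Λ chk_rel2 k
  have hW4 : ∀ k, ((cert4.W k).map γ).prod = 1 := fun k => word_getD hω h2 Λ chk_rel4 k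
  have hW3 : ∀ k, ((cert3.W k).map γ).prod = 1 := by
    intro k
    show ((W3 k).map γ).prod = 1
    unfold W3
    cases hk : Nat.beq k 13 with
    | true => exact tripW_eq_one hω h2 Λ hacu
    | false => exact word_getD hω h2 Λ chk_rel3 k
  have hL2 : ∀ k, ∀ x ∈ cert2.W k, x < cert2.g := fun k => lt_getD (by norm_num) chk_let2 k
  have hL4 : ∀ k, ∀ x ∈ cert4.W k, x < cert4.g := fun k => lt_getD (by norm_num) chk_let4 k
  have hL3 : ∀ k, ∀ x ∈ cert3.W k, x < cert3.g := by
    intro k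
    show ∀ x ∈ W3 k, x < 3
    unfold W3
    cases hk : Nat.beq k 13 with
    | true =>
      intro x hx
      have := List.all_eq_true.1 chk_let3.2.1 x hx
      simpa using this
    | false => exact lt_getD (by norm_num) chk_let3.1 k
  have hfin0 : Finite ↥(seg γ cert2.nsub) := by
    show Finite ↥(seg γ 0)
    rw [seg_zero]
    infer_instance
  obtain ⟨hfin2, hc2⟩ := card_seg_le γ cert2 hinv hW2 hL2 (Nat.zero_le _) (show 0 < 34 by norm_num) hall2 hfin0
  have hc2' : Nat.card ↥(seg γ 2) ≤ 34 := by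
    have h0 : Nat.card ↥(seg γ cert2.nsub) = 1 := by
      show Nat.card ↥(seg γ 0) = 1
      rw [seg_zero]
      exact Subgroup.card_bot
    rw [h0] at hc2
    exact hc2
  obtain ⟨hfin3, hc3⟩ := card_seg_le γ cert3 hinv hW3 hL3 (show 2 ≤ 3 by norm_num) (show 0 < 240 by norm_num) hall3 hfin2
  have hc3' : Nat.card ↥(seg γ 3) ≤ 240 * 34 :=
    le_trans hc3 (Nat.mul_le_mul_left _ hc2')
  obtain ⟨_, hc4⟩ := card_seg_le γ cert4 hinv hW4 hL4 (show 3 ≤ 4 by norm_num) (show 0 < 18468 by norm_num) hall4 hfin3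
  have hc4' : Nat.card ↥(seg γ 4) ≤ 18468 * (240 * 34) :=
    le_trans hc4 (Nat.mul_le_mul_left _ hc3')
  rw [htop, Subgroup.card_top] at hc4'
  exact hc4'

end

end Cfsg.Agent.Lib.Helper5.J3Mult
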