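import Cfsg.Agent.Lib.Helper5.JointEigen
import Mathlib

namespace Cfsg.Agent.Lib.Helper5.JointEigen

open Module
open scoped Matrix

variable {F : Type*} [Field F]


/-- Counting sign vectors constant on the orbits of a fixed-point-free pairing. -/
theorem card_le_of_paired {α κ : Type*} [Finite α] [Fintype κ] [DecidableEq κ]
    (Φ : α → κ → F) (hinj : Function.Injective Φ) (hpm : ∀ a j, Φ a j = 1 ∨ Φ a j = -1)
    (π : κ → κ) (hπ : ∀ j, π j ≠ j) (hπc : ∀ a j, Φ a (π j) = Φ a j) (n : ℕ)
    (hn : Fintype.card κ ≤ 2 * n) : Nat.card α ≤ 2 ^ n := by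
  classical
  let col : κ → (α → F) := fun j a => Φ a j
  let X : Finset (α → F) := Finset.image col Finset.univ
  have hX : 2 * X.card ≤ Fintype.card κ := by
    have h1 := Finset.card_eq_sum_card_image col (Finset.univ : Finset κ)
    rw [Finset.card_univ] at h1
    rw [h1]
    have h2 : ∀ x ∈ X, 2 ≤ (Finset.univ.filter (fun j => col j = x)).card := by
      intro x hx
      obtain ⟨j, -, rfl⟩ := Finset.mem_image.1 hx
      have : 1 < (Finset.univ.filter (fun k => col k = col j)).card := by
        rw [Finset.one_lt_card]
        refine ⟨j, by simp, π j, ?_, (hπ j).symm⟩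
        simp only [Finset.mem_filter, Finset.mem_univ, true_and]
        funext a
        exact hπc a j
      exact this
    calc 2 * X.card = ∑ _x ∈ X, 2 := by rw [Finset.sum_const, smul_eq_mul, mul_comm]
      _ ≤ _ := Finset.sum_le_sum h2
  have hXn : X.card ≤ n := by omega
  let Ψ : α → (X → Bool) := fun a x => decide (x.1 a = 1)
  have hΨ : Function.Injective Ψ := by
    intro a a' h
    apply hinj
    funext j
    have hj : col j ∈ X := Finset.mem_image_of_mem _ (Finset.mem_univ j)
    have := congrFun h ⟨col j, hj⟩
    simp only [Ψ, decide_eq_decide, col] at this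
    rcases hpm a j with h1 | h1
    · rw [h1, (this.1 h1)]
    · rcases hpm a' j with h1' | h1'
      · rw [this.2 h1', h1']
      · rw [h1, h1']
  have := Nat.card_le_card_of_injective Ψ hΨ
  refine this.trans ?_
  rw [Nat.card_eq_fintype_card, Fintype.card_fun, Fintype.card_bool, Fintype.card_coe]
  exact Nat.pow_le_pow_right (by norm_num) hXn

end Cfsg.Agent.Lib.Helper5.JointEigen
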