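import Cfsg.Agent.S5422
import Cfsg.Agent.Lib.Lead.LargeES
import Cfsg.Agent.Lib.Lead.Extraspecial2Model

/-!
# S5428, piece (P5): `S5422` through the quotient by a normal subgroup of odd order
(helper5, for helper1's split)
-/

set_option autoImplicit false

namespace Cfsg.Agent.Lib.Helper5.LESAP5

open Cfsg.Agent.Lead.ES2 Cfsg.Agent.Lead.LargeES
open scoped commutatorElement

set_option maxHeartbeats 1600000 in
/-- (P5) `S5422` through the quotient by a normal subgroup of odd order. -/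
theorem large_of_quotient {M : Type*} [Group M] [Finite M] (A : Subgroup M) [A.Normal]
    (hA : Odd (Nat.card ↥A)) (R : Subgroup M) (z : M) (hzR : z ∈ R) (hz1 : z ≠ 1)
    (hzz : z * z = 1) (hzc : ∀ a ∈ R, a * z = z * a)
    (hcomm : ∀ a ∈ R, ∀ b ∈ R, a * b * a⁻¹ * b⁻¹ = 1 ∨ a * b * a⁻¹ * b⁻¹ = z)
    (hsq : ∀ a ∈ R, a * a = 1 ∨ a * a = z)
    (hcen : ∀ x ∈ R, (∀ r ∈ R, x * r = r * x) → x = 1 ∨ x = z)
    (hcard : 32 ≤ Nat.card ↥R)
    (h2 : ∀ m : M, (∀ r ∈ R, m * r * m⁻¹ * r⁻¹ ∈ A) → ∃ a ∈ A, m = a ∨ m = a * z)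
    (h3 : ∀ m : M, m * z * m⁻¹ * z⁻¹ ∈ A → ∀ r ∈ R, ∃ a ∈ A, ∃ r' ∈ R, m * r * m⁻¹ = a * r')
    (y : M) (hy : y * z * y⁻¹ ∈ R) (hy' : y * z * y⁻¹ ≠ z) :
    Cfsg.IsLargeExtraspecial (R.map (QuotientGroup.mk' A)) := by
  classical
  have hπ1 : ∀ m : M, (QuotientGroup.mk' A) m = 1 ↔ m ∈ A := fun m => QuotientGroup.eq_one_iff m
  set π := QuotientGroup.mk' A with hπ
  have hπsurj : Function.Surjective π := QuotientGroup.mk'_surjective A
  have hr4 : ∀ x ∈ R, x ^ 4 = 1 := by
    intro x hxR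
    rcases hsq x hxR with h | h
    · calc x ^ 4 = (x * x) * (x * x) := by rw [show (4 : ℕ) = 2 + 2 from rfl, pow_add, pow_two]
        _ = 1 := by rw [h, one_mul]
    · calc x ^ 4 = (x * x) * (x * x) := by rw [show (4 : ℕ) = 2 + 2 from rfl, pow_add, pow_two]
        _ = 1 := by rw [h, hzz]
  have hRA : ∀ x ∈ R, x ∈ A → x = 1 := by
    intro x hxR hxA
    have h1 : orderOf x ∣ 4 := orderOf_dvd_of_pow_eq_one (hr4 x hxR)
    have h2' : orderOf x ∣ Nat.card A := by
      have := orderOf_dvd_natCard (⟨x, hxA⟩ : A)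
      rwa [← Subgroup.orderOf_coe] at this
    have hodd : Odd (orderOf x) := Odd.of_dvd_nat hA h2'
    have hcop : (orderOf x).Coprime 4 := by
      have : (orderOf x).Coprime 2 := Nat.coprime_two_right.mpr hodd
      exact Nat.Coprime.pow_right 2 this
    exact orderOf_eq_one_iff.mp (Nat.Coprime.eq_one_of_dvd hcop h1)
  have hinj : ∀ r ∈ R, ∀ r' ∈ R, π r = π r' → r = r' := by
    intro r hr r' hr' h
    have h1 : π (r * r'⁻¹) = 1 := by rw [map_mul, map_inv, h, mul_inv_cancel]
    have h2' := hRA _ (R.mul_mem hr (R.inv_mem hr')) ((hπ1 _).1 h1)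
    exact mul_inv_eq_one.mp h2'
  set Rb := R.map π with hRb
  have hmemRb : ∀ x : M ⧸ A, x ∈ Rb ↔ ∃ r ∈ R, π r = x := fun x => Subgroup.mem_map
  have hzRb : π z ∈ Rb := (hmemRb _).2 ⟨z, hzR, rfl⟩
  have hπz1 : π z ≠ 1 := fun h => hz1 (hRA z hzR ((hπ1 z).1 h))
  -- the elementwise extraspecial structure of `Rb`
  have hcommπ : ∀ a b : M, π a * π b * (π a)⁻¹ * (π b)⁻¹ = π (a * b * a⁻¹ * b⁻¹) := by
    intro a b
    simp only [map_mul, map_inv]
  have hes : ES (⟨π z, hzRb⟩ : ↥Rb) := by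
    refine ⟨⟨?_, ?_, ?_, ?_, ?_⟩, ?_⟩
    · intro h
      exact hπz1 (congrArg Subtype.val h)
    · apply Subtype.ext
      show π z * π z = 1
      rw [← map_mul, hzz, map_one]
    · intro x
      obtain ⟨r, hr, hrx⟩ := (hmemRb _).1 x.2
      apply Subtype.ext
      show (x : M ⧸ A) * π z = π z * (x : M ⧸ A)
      rw [← hrx, ← map_mul, ← map_mul, hzc r hr]
    · intro x x'
      obtain ⟨a, ha, hax⟩ := (hmemRb _).1 x.2
      obtain ⟨b, hb, hbx⟩ := (hmemRb _).1 x'.2
      have hval : ((⁅x, x'⁆ : ↥Rb) : M ⧸ A) = π (a * b * a⁻¹ * b⁻¹) := by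
        rw [← hcommπ, hax, hbx, commutatorElement_def]
        rfl
      rcases hcomm a ha b hb with h | h
      · left
        apply Subtype.ext
        rw [hval, h, map_one]
        rfl
      · right
        apply Subtype.ext
        rw [hval, h]
    · intro x
      obtain ⟨a, ha, hax⟩ := (hmemRb _).1 x.2
      have hval : ((x * x : ↥Rb) : M ⧸ A) = π (a * a) := by
        rw [map_mul, hax]
        rfl
      rcases hsq a ha with h | h
      · left
        apply Subtype.ext
        rw [hval, h, map_one]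
        rfl
      · right
        apply Subtype.ext
        rw [hval, h]
    · intro w hw
      obtain ⟨c, hc, hcw⟩ := (hmemRb _).1 w.2
      have hcc : ∀ r ∈ R, c * r = r * c := by
        intro r hr
        have h1 := congrArg Subtype.val (hw ⟨π r, (hmemRb _).2 ⟨r, hr, rfl⟩⟩)
        have h1' : π r * (w : M ⧸ A) = (w : M ⧸ A) * π r := h1
        rw [← hcw, ← map_mul, ← map_mul] at h1'
        exact (hinj _ (R.mul_mem hr hc) _ (R.mul_mem hc hr) h1').symm
      rcases hcen c hc hcc with h | h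
      · left
        apply Subtype.ext
        rw [← hcw, h, map_one]
        rfl
      · right
        apply Subtype.ext
        rw [← hcw, h]
  -- nonabelian
  have hna0 : ∃ a ∈ R, ∃ b ∈ R, a * b * a⁻¹ * b⁻¹ = z := by
    by_contra hcon
    push Not at hcon
    have hall : ∀ x ∈ R, x = 1 ∨ x = z := by
      intro x hx
      apply hcen x hx
      intro r hr
      rcases hcomm x hx r hr with h | h
      · calc x * r = (x * r * x⁻¹ * r⁻¹) * r * x := by group
          _ = r * x := by rw [h, one_mul]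
      · exact absurd h (hcon x hx r hr)
    have hle : R ≤ Subgroup.zpowers z := by
      intro x hx
      rcases hall x hx with h | h
      · rw [h]; exact Subgroup.one_mem _
      · rw [h]; exact Subgroup.mem_zpowers z
    have h1 : Nat.card R ≤ Nat.card (Subgroup.zpowers z) := Subgroup.card_le_of_le hle
    rw [Nat.card_zpowers] at h1
    have h2' : orderOf z ∣ 2 := orderOf_dvd_of_pow_eq_one (by rw [pow_two, hzz])
    have := Nat.le_of_dvd (by norm_num) h2'
    omega
  have hna : ¬ ∀ x x' : ↥Rb, ⁅x, x'⁆ = 1 := by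
    intro hab
    obtain ⟨a, ha, b, hb, habz⟩ := hna0
    have h1 := congrArg Subtype.val
      (hab ⟨π a, (hmemRb _).2 ⟨a, ha, rfl⟩⟩ ⟨π b, (hmemRb _).2 ⟨b, hb, rfl⟩⟩)
    have h1' : π a * π b * (π a)⁻¹ * (π b)⁻¹ = 1 := by
      rw [commutatorElement_def] at h1
      exact h1
    rw [hcommπ, habz] at h1'
    exact hπz1 h1'
  have hL1 : Cfsg.IsExtraspecial 2 ↥Rb := extraspecial_of_ES hes hna
  -- cardinality
  have hcardRb : 32 ≤ Nat.card ↥Rb := by
    let f : ↥R → ↥Rb := fun r => ⟨π r, (hmemRb _).2 ⟨r, r.2, rfl⟩⟩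
    have hf : Function.Injective f := by
      intro r r' h
      have h1 : π r = π r' := congrArg Subtype.val h
      exact Subtype.ext (hinj _ r.2 _ r'.2 h1)
    exact le_trans hcard (Nat.card_le_card_of_injective f hf)
  obtain ⟨w, hw1, hwcard, -⟩ := type_of hL1
  have hw2 : 2 ≤ w := by
    by_contra hlt
    have hw : w = 1 := by omega
    rw [hw] at hwcard
    norm_num at hwcard
    omega
  -- the centre
  set Z := (Subgroup.center ↥Rb).map Rb.subtype with hZdef
  have hZmem : ∀ c : M ⧸ A, c ∈ Z ↔ c = 1 ∨ c = π z := by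
    intro c
    constructor
    · rintro ⟨c', hc', rfl⟩
      rcases hes.cent c' (fun x => Subgroup.mem_center_iff.mp hc' x) with h | h
      · left; rw [h]; rfl
      · right; rw [h]; rfl
    · rintro (rfl | rfl)
      · exact Subgroup.one_mem _
      · exact ⟨⟨π z, hzRb⟩, Subgroup.mem_center_iff.mpr (fun x => hes.ctx.cen x), rfl⟩
  have hL2 : Subgroup.centralizer (Rb : Set (M ⧸ A)) = Z := by
    apply le_antisymm
    · intro c hc
      obtain ⟨m, rfl⟩ := hπsurj c
      rw [hZmem]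
      have hmA : ∀ r ∈ R, m * r * m⁻¹ * r⁻¹ ∈ A := by
        intro r hr
        rw [← hπ1, ← hcommπ]
        have h1 := hc (π r) ((hmemRb _).2 ⟨r, hr, rfl⟩)
        -- h1 : π r * π m = π m * π r
        rw [← h1]
        group
      obtain ⟨a, ha, h | h⟩ := h2 m hmA
      · left
        rw [h]
        exact (hπ1 a).2 ha
      · right
        rw [h, map_mul, (hπ1 a).2 ha, one_mul]
    · intro c hc
      rw [hZmem] at hc
      rw [Subgroup.mem_centralizer_iff]
      intro x hx
      rcases hc with rfl | rfl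
      · rw [mul_one, one_mul]
      · have := congrArg Subtype.val (hes.ctx.cen ⟨x, hx⟩)
        exact this
  -- conjugation by an element centralizing `Z` maps `Rb` into itself
  have hconj : ∀ c : M ⧸ A, c * π z = π z * c → ∀ x ∈ Rb, c * x * c⁻¹ ∈ Rb := by
    intro c hc x hx
    obtain ⟨m, rfl⟩ := hπsurj c
    obtain ⟨r, hr, rfl⟩ := (hmemRb _).1 hx
    have hmA : m * z * m⁻¹ * z⁻¹ ∈ A := by
      rw [← hπ1, ← hcommπ, hc]
      group
    obtain ⟨a, ha, r', hr', hmr⟩ := h3 m hmA r hr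
    rw [hmemRb]
    refine ⟨r', hr', ?_⟩
    have h1 : π m * π r * (π m)⁻¹ = π (m * r * m⁻¹) := by simp only [map_mul, map_inv]
    rw [h1, hmr, map_mul, (hπ1 a).2 ha, one_mul]
  have hL3 : Subgroup.centralizer (Z : Set (M ⧸ A)) ≤ Subgroup.normalizer (Rb : Set (M ⧸ A)) := by
    intro c hc
    have hcz : c * π z = π z * c := by
      have := hc (π z) ((hZmem _).2 (Or.inr rfl))
      exact this.symm
    have hcz' : c⁻¹ * π z = π z * c⁻¹ := by
      calc c⁻¹ * π z = c⁻¹ * (π z * c) * c⁻¹ := by group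
        _ = c⁻¹ * (c * π z) * c⁻¹ := by rw [hcz]
        _ = π z * c⁻¹ := by group
    rw [Subgroup.mem_normalizer_iff]
    intro x
    constructor
    · intro hx
      exact hconj c hcz x hx
    · intro hx
      have := hconj c⁻¹ hcz' _ hx
      rw [inv_inv] at this
      have h1 : c⁻¹ * (c * x * c⁻¹) * c = x := by group
      rwa [h1] at this
  -- the conjugating element
  have hπt : π y * π z * (π y)⁻¹ = π (y * z * y⁻¹) := by simp only [map_mul, map_inv]
  have hg : π y ∉ Subgroup.normalizer (Z : Set (M ⧸ A)) := by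
    intro hn
    rw [Subgroup.mem_normalizer_iff] at hn
    have h1 := (hn (π z)).1 ((hZmem _).2 (Or.inr rfl))
    rw [hZmem, hπt] at h1
    rcases h1 with h1 | h1
    · have h2' := hRA _ hy ((hπ1 _).1 h1)
      apply hz1
      calc z = y⁻¹ * (y * z * y⁻¹) * y := by group
        _ = 1 := by rw [h2']; group
    · exact hy' (hinj _ hy _ hzR h1)
  have hZg : Z.map (MulAut.conj (π y)).toMonoidHom ≤ Rb := by
    rintro c ⟨c', hc', rfl⟩
    have hc'' := (hZmem c').1 hc'
    show π y * c' * (π y)⁻¹ ∈ Rb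
    rcases hc'' with rfl | rfl
    · rw [mul_one, mul_inv_cancel]
      exact Subgroup.one_mem _
    · rw [hπt]
      exact (hmemRb _).2 ⟨_, hy, rfl⟩
  exact (Cfsg.Agent.S5422.result Rb hL1 hL2 hL3 w hw2 hwcard (π y) hg hZg).2.2

end Cfsg.Agent.Lib.Helper5.LESAP5
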