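import Mathlib

/-!
# Arithmetic lemmas for the principal block with `|N_G(P) : C_G(P)| = 3` (S4721)
-/

set_option autoImplicit false

namespace Cfsg.Agent.Lib.Helper5.Leon

/-- The analysis of the relation `(d - δ)^2 + (r - 1) d^2 + Σ a^2 = 4`. -/
theorem rel_cases (d δ : ℤ) (hδ : δ = 1 ∨ δ = -1) (r : ℕ) (hr : 2 ≤ r) (S : ℤ) (hS : 1 ≤ S)
    (hR : (d - δ) ^ 2 + ((r : ℤ) - 1) * d ^ 2 + S = 4) :
    (d = 0 ∧ S = 3) ∨ (d = δ ∧ ((r = 2 ∧ S = 3) ∨ (r = 3 ∧ S = 2) ∨ (r = 4 ∧ S = 1))) := by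
  have hr' : (2 : ℤ) ≤ (r : ℤ) := by exact_mod_cast hr
  have hd2 : d ^ 2 ≤ 3 := by nlinarith [sq_nonneg (d - δ), sq_nonneg d]
  have hd1 : -1 ≤ d := by nlinarith
  have hd1' : d ≤ 1 := by nlinarith
  have hcases : d = -1 ∨ d = 0 ∨ d = 1 := by omega
  rcases hcases with rfl | rfl | rfl <;> rcases hδ with rfl | rfl
  · exfalso; nlinarith
  · right
    refine ⟨rfl, ?_⟩
    have : (r : ℤ) + S = 5 := by linarith
    omega
  · left; exact ⟨rfl, by linarith⟩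
  · left; exact ⟨rfl, by linarith⟩
  · right
    refine ⟨rfl, ?_⟩
    have : (r : ℤ) + S = 5 := by linarith
    omega
  · exfalso; nlinarith

/-- Ten is not a prime power. -/
theorem ten_ne_prime_pow (p k : ℕ) (hp : p.Prime) : p ^ k ≠ 10 := by
  intro h
  have hk : k ≠ 0 := by
    rintro rfl
    simp at h
  have h2 : 2 ∈ (p ^ k).primeFactors := by
    rw [h, Nat.mem_primeFactors]
    exact ⟨Nat.prime_two, by norm_num, by norm_num⟩
  have h5 : 5 ∈ (p ^ k).primeFactors := by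
    rw [h, Nat.mem_primeFactors]
    exact ⟨by norm_num, by norm_num, by norm_num⟩
  rw [Nat.primeFactors_prime_pow hk hp, Finset.mem_singleton] at h2 h5
  omega

/-- The "Vandermonde" argument for odd `p`. -/
theorem odd_core (a₂ a₃ δ : ℤ) (ha₂ : a₂ = 1 ∨ a₂ = -1) (ha₃ : a₃ = 1 ∨ a₃ = -1)
    (hδ : δ = 1 ∨ δ = -1) (x₂ x₃ f : ℕ) (hx₂ : 0 < x₂) (hx₃ : 0 < x₃) (hf : 0 < f)
    (c₂ c₃ e : ℤ)
    (h1 : 1 + a₂ * x₂ + a₃ * x₃ - δ * f = 0)
    (h2 : 1 + a₂ * c₂ + a₃ * c₃ - δ * e = 0)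
    (h3 : (1 : ℚ) + a₂ * c₂ ^ 2 / x₂ + a₃ * c₃ ^ 2 / x₃ - δ * e ^ 2 / f = 0)
    (hc₂ : c₂ ≠ x₂) (hc₃ : c₃ ≠ x₃) (he : e ≠ f) :
    ((if a₂ = -1 then 1 else 0) + (if a₃ = -1 then 1 else 0) + (if δ = 1 then 1 else 0) = 2)
      ∧ IsSquare (f * x₂ * x₃) := by
  have hx₂' : (0 : ℚ) < x₂ := by exact_mod_cast hx₂
  have hx₃' : (0 : ℚ) < x₃ := by exact_mod_cast hx₃
  have hf' : (0 : ℚ) < f := by exact_mod_cast hf
  obtain ⟨w₂, hw₂⟩ : ∃ w₂ : ℚ, w₂ = a₂ * x₂ := ⟨_, rfl⟩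
  obtain ⟨w₃, hw₃⟩ : ∃ w₃ : ℚ, w₃ = a₃ * x₃ := ⟨_, rfl⟩
  obtain ⟨w₄, hw₄⟩ : ∃ w₄ : ℚ, w₄ = -δ * f := ⟨_, rfl⟩
  obtain ⟨r₂, hr₂⟩ : ∃ r₂ : ℚ, r₂ = c₂ / x₂ := ⟨_, rfl⟩
  obtain ⟨r₃, hr₃⟩ : ∃ r₃ : ℚ, r₃ = c₃ / x₃ := ⟨_, rfl⟩
  obtain ⟨r₄, hr₄⟩ : ∃ r₄ : ℚ, r₄ = e / f := ⟨_, rfl⟩
  have hr₂1 : r₂ ≠ 1 := by
    rw [hr₂]
    intro h
    rw [div_eq_one_iff_eq hx₂'.ne'] at h
    apply hc₂
    exact_mod_cast h
  have hr₃1 : r₃ ≠ 1 := by
    rw [hr₃]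
    intro h
    rw [div_eq_one_iff_eq hx₃'.ne'] at h
    apply hc₃
    exact_mod_cast h
  have hr₄1 : r₄ ≠ 1 := by
    rw [hr₄]
    intro h
    rw [div_eq_one_iff_eq hf'.ne'] at h
    apply he
    exact_mod_cast h
  have S0 : 1 + w₂ + w₃ + w₄ = 0 := by
    rw [hw₂, hw₃, hw₄]
    have : ((1 + a₂ * x₂ + a₃ * x₃ - δ * f : ℤ) : ℚ) = 0 := by rw [h1]; simp
    push_cast at this
    linarith
  have S1 : 1 + w₂ * r₂ + w₃ * r₃ + w₄ * r₄ = 0 := by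
    rw [hw₂, hw₃, hw₄, hr₂, hr₃, hr₄]
    have : ((1 + a₂ * c₂ + a₃ * c₃ - δ * e : ℤ) : ℚ) = 0 := by rw [h2]; simp
    push_cast at this
    have e2 : (a₂ : ℚ) * x₂ * (c₂ / x₂) = a₂ * c₂ := by field_simp
    have e3 : (a₃ : ℚ) * x₃ * (c₃ / x₃) = a₃ * c₃ := by field_simp
    have e4 : (-δ : ℚ) * f * (e / f) = -δ * e := by field_simp
    linear_combination this + e2 + e3 + e4
  have S2 : 1 + w₂ * r₂ ^ 2 + w₃ * r₃ ^ 2 + w₄ * r₄ ^ 2 = 0 := by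
    rw [hw₂, hw₃, hw₄, hr₂, hr₃, hr₄]
    have e2 : (a₂ : ℚ) * x₂ * (c₂ / x₂) ^ 2 = a₂ * c₂ ^ 2 / x₂ := by field_simp
    have e3 : (a₃ : ℚ) * x₃ * (c₃ / x₃) ^ 2 = a₃ * c₃ ^ 2 / x₃ := by field_simp
    have e4 : (-δ : ℚ) * f * (e / f) ^ 2 = -(δ * e ^ 2 / f) := by field_simp
    linear_combination h3 + e2 + e3 + e4
  have hA : (1 - r₃) * (1 - r₄) + w₂ * (r₂ - r₃) * (r₂ - r₄) = 0 := by
    linear_combination S2 - (r₃ + r₄) * S1 + r₃ * r₄ * S0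
  have hB : w₃ * (r₃ - 1) * (r₃ - r₂) + w₄ * (r₄ - 1) * (r₄ - r₂) = 0 := by
    linear_combination S2 - (1 + r₂) * S1 + r₂ * S0
  have h13 : (1 - r₃) ≠ 0 := sub_ne_zero.mpr (Ne.symm hr₃1)
  have h14 : (1 - r₄) ≠ 0 := sub_ne_zero.mpr (Ne.symm hr₄1)
  have hne : (1 - r₃) * (1 - r₄) ≠ 0 := mul_ne_zero h13 h14
  have h23 : r₃ - r₂ ≠ 0 := by
    intro h
    apply hne
    have : r₂ - r₃ = 0 := by linarith
    rw [this, mul_zero, zero_mul, add_zero] at hA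
    exact hA
  have h24 : r₂ - r₄ ≠ 0 := by
    intro h
    apply hne
    rw [h, mul_zero, add_zero] at hA
    exact hA
  have key : w₃ * (1 - r₃) ^ 2 = w₂ * w₄ * (r₂ - r₄) ^ 2 := by
    have hc : (1 - r₄) * (r₃ - r₂) ≠ 0 := mul_ne_zero h14 h23
    apply mul_left_cancel₀ hc
    linear_combination (-(w₃ * (r₃ - 1) * (r₃ - r₂))) * hA
      + (w₂ * (r₂ - r₃) * (r₂ - r₄)) * hB
  have hw₂0 : w₂ ≠ 0 := by
    rw [hw₂]
    apply mul_ne_zero _ hx₂'.ne'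
    rcases ha₂ with h | h <;> rw [h] <;> norm_num
  have hw₄0 : w₄ ≠ 0 := by
    rw [hw₄]
    apply mul_ne_zero _ hf'.ne'
    rcases hδ with h | h <;> rw [h] <;> norm_num
  obtain ⟨q, hq⟩ : ∃ q : ℚ, q = w₂ * w₄ * (r₂ - r₄) / (1 - r₃) := ⟨_, rfl⟩
  have hq0 : q ≠ 0 := by
    rw [hq]
    exact div_ne_zero (mul_ne_zero (mul_ne_zero hw₂0 hw₄0) h24) h13
  have hprod : w₂ * w₃ * w₄ = q * q := by
    rw [hq, div_mul_div_comm, eq_div_iff (mul_ne_zero h13 h13)]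
    linear_combination w₂ * w₄ * key
  have hpos : 0 < w₂ * w₃ * w₄ := by
    rw [hprod]
    exact mul_self_pos.mpr hq0
  have hsq : ∀ n : ℕ, (n : ℚ) = w₂ * w₃ * w₄ → IsSquare n := by
    intro n hn
    rw [← Rat.isSquare_natCast_iff, hn]
    exact ⟨q, hprod⟩
  rcases ha₂ with rfl | rfl <;> rcases ha₃ with rfl | rfl <;> rcases hδ with rfl | rfl
  · exfalso
    rw [hw₂, hw₃, hw₄] at hpos
    push_cast at hpos
    have : (0 : ℚ) < x₂ * x₃ * f := by positivity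
    linarith
  · exfalso
    rw [hw₂, hw₃, hw₄] at S0
    push_cast at S0
    linarith
  · refine ⟨by norm_num, hsq _ ?_⟩
    rw [hw₂, hw₃, hw₄]
    push_cast
    ring
  · exfalso
    rw [hw₂, hw₃, hw₄] at hpos
    push_cast at hpos
    have : (0 : ℚ) < x₂ * x₃ * f := by positivity
    linarith
  · refine ⟨by norm_num, hsq _ ?_⟩
    rw [hw₂, hw₃, hw₄]
    push_cast
    ring
  · exfalso
    rw [hw₂, hw₃, hw₄] at hpos
    push_cast at hpos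
    have : (0 : ℚ) < x₂ * x₃ * f := by positivity
    linarith
  · exfalso
    rw [hw₂, hw₃, hw₄] at hpos
    push_cast at hpos
    have : (0 : ℚ) < x₂ * x₃ * f := by positivity
    linarith
  · refine ⟨by norm_num, hsq _ ?_⟩
    rw [hw₂, hw₃, hw₄]
    push_cast
    ring

/-- The main Diophantine case for `p = 2`. -/
theorem two_main (A B F : ℤ) (hA : 1 ≤ A) (hB : 1 ≤ B) (hF : 1 ≤ F)
    (h1 : 1 + A - B - F = 0) (H : A * B * F + B * F - A * F - 9 * A * B = 0) :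
    A = 15 ∧ B = 6 ∧ F = 10 := by
  have hAe : A = B + F - 1 := by linarith
  subst hAe
  have K : (F - 9) * (B ^ 2 + (F - 1) * B) = F * (F - 1) := by linear_combination H
  have hq : 1 ≤ B ^ 2 + (F - 1) * B := by nlinarith
  have hF10 : 10 ≤ F := by
    by_contra hlt
    have h9 : 0 ≤ 9 - F := by omega
    have hz : (9 - F) * (B ^ 2 + (F - 1) * B) + F * (F - 1) = 0 := by linear_combination -K
    have t1 : 0 ≤ (9 - F) * (B ^ 2 + (F - 1) * B) := mul_nonneg h9 (by linarith)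
    have t2 : 0 ≤ F * (F - 1) := mul_nonneg (by linarith) (by linarith)
    have t3 : F * (F - 1) = 0 := by linarith
    have hF1 : F = 1 := by
      rcases mul_eq_zero.mp t3 with h | h <;> omega
    subst hF1
    nlinarith
  have hB2 : 2 ≤ B := by
    by_contra hlt
    have hB1 : B = 1 := by omega
    subst hB1
    nlinarith
  have hq2 : 2 * F + 2 ≤ B ^ 2 + (F - 1) * B := by nlinarith
  have hF9 : 0 < F - 9 := by linarith
  have hm : (F - 9) * (2 * F + 2) ≤ (F - 9) * (B ^ 2 + (F - 1) * B) :=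
    mul_le_mul_of_nonneg_left hq2 hF9.le
  have hF16 : F ≤ 16 := by
    by_contra hgt
    have : 17 ≤ F := by omega
    nlinarith
  have hBsq : B ^ 2 ≤ 240 := by
    have h1' : 1 * B ^ 2 ≤ (F - 9) * B ^ 2 :=
      mul_le_mul_of_nonneg_right (by linarith) (sq_nonneg B)
    have h2' : (F - 9) * B ^ 2 ≤ (F - 9) * (B ^ 2 + (F - 1) * B) := by
      apply mul_le_mul_of_nonneg_left _ hF9.le
      nlinarith
    have h3' : F * (F - 1) ≤ 240 := by nlinarith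
    linarith
  have hB15 : B ≤ 15 := by
    by_contra hgt
    have : 16 ≤ B := by omega
    nlinarith
  interval_cases F <;> interval_cases B <;> omega

/-- The Diophantine analysis for `p = 2`. -/
theorem two_core (a₂ a₃ δ : ℤ) (ha₂ : a₂ = 1 ∨ a₂ = -1) (ha₃ : a₃ = 1 ∨ a₃ = -1)
    (hδ : δ = 1 ∨ δ = -1) (x₂ x₃ f : ℕ) (hx₂ : 0 < x₂) (hx₃ : 0 < x₃) (hf : 0 < f)
    (h1 : 1 + a₂ * x₂ + a₃ * x₃ - δ * f = 0)
    (h2 : (1 : ℚ) + a₂ / x₂ + a₃ / x₃ - 9 * δ / f = 0)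
    (hk₂ : ¬ (a₂ = 1 ∧ x₂ = 1)) (hk₃ : ¬ (a₃ = 1 ∧ x₃ = 1)) :
    ((if a₂ = -1 then 1 else 0) + (if a₃ = -1 then 1 else 0) + (if δ = 1 then 1 else 0) = 2)
      ∧ IsSquare (f * x₂ * x₃) := by
  have hx₂' : (0 : ℚ) < x₂ := by exact_mod_cast hx₂
  have hx₃' : (0 : ℚ) < x₃ := by exact_mod_cast hx₃
  have hf' : (0 : ℚ) < f := by exact_mod_cast hf
  obtain ⟨A, hA⟩ : ∃ A : ℤ, A = x₂ := ⟨_, rfl⟩
  obtain ⟨B, hB⟩ : ∃ B : ℤ, B = x₃ := ⟨_, rfl⟩
  obtain ⟨F, hF⟩ : ∃ F : ℤ, F = f := ⟨_, rfl⟩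
  have hA1 : 1 ≤ A := by rw [hA]; exact_mod_cast hx₂
  have hB1 : 1 ≤ B := by rw [hB]; exact_mod_cast hx₃
  have hF1 : 1 ≤ F := by rw [hF]; exact_mod_cast hf
  have H : A * B * F + a₂ * B * F + a₃ * A * F - 9 * δ * A * B = 0 := by
    have e : ((x₂ : ℚ) * x₃ * f) * (1 + a₂ / x₂ + a₃ / x₃ - 9 * δ / f)
        = (x₂ : ℚ) * x₃ * f + a₂ * x₃ * f + a₃ * x₂ * f - 9 * δ * x₂ * x₃ := by
      field_simp
    rw [h2, mul_zero] at e
    have e' : ((A * B * F + a₂ * B * F + a₃ * A * F - 9 * δ * A * B : ℤ) : ℚ) = 0 := by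
      rw [hA, hB, hF]
      push_cast
      linarith
    exact_mod_cast e'
  rw [← hA, ← hB, ← hF] at h1
  have hAx : A = 1 → x₂ = 1 := by
    intro h
    rw [hA] at h
    exact_mod_cast h
  have hBx : B = 1 → x₃ = 1 := by
    intro h
    rw [hB] at h
    exact_mod_cast h
  rcases ha₂ with rfl | rfl <;> rcases ha₃ with rfl | rfl <;> rcases hδ with rfl | rfl
  · exfalso
    have hFe : F = 1 + A + B := by linarith
    subst hFe
    have hz : B * (A - 1) ^ 2 + A * (B - 1) ^ 2 + (A - B) ^ 2 = 0 := by linear_combination H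
    have t1 : 0 ≤ B * (A - 1) ^ 2 := mul_nonneg (by linarith) (sq_nonneg _)
    have t2 : 0 ≤ A * (B - 1) ^ 2 := mul_nonneg (by linarith) (sq_nonneg _)
    have t3 : 0 ≤ (A - B) ^ 2 := sq_nonneg _
    have t4 : B * (A - 1) ^ 2 = 0 := by linarith
    have t5 : (A - 1) ^ 2 = 0 := by
      rcases mul_eq_zero.mp t4 with h | h
      · omega
      · exact h
    have t6 : A = 1 := by
      have := pow_eq_zero_iff (two_ne_zero) |>.mp t5
      linarith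
    exact hk₂ ⟨rfl, hAx t6⟩
  · exfalso
    linarith
  · obtain ⟨eA, eB, eF⟩ := two_main A B F hA1 hB1 hF1 (by linarith) (by linear_combination H)
    refine ⟨by norm_num, ?_⟩
    have e1 : x₂ = 15 := by rw [hA] at eA; exact_mod_cast eA
    have e2 : x₃ = 6 := by rw [hB] at eB; exact_mod_cast eB
    have e3 : f = 10 := by rw [hF] at eF; exact_mod_cast eF
    rw [e1, e2, e3]
    exact ⟨30, by norm_num⟩
  · exfalso
    have hBe : B = 1 + A + F := by linarith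
    subst hBe
    nlinarith [mul_pos (by linarith : (0 : ℤ) < A) (by linarith : (0 : ℤ) < F)]
  · obtain ⟨eB, eA, eF⟩ := two_main B A F hB1 hA1 hF1 (by linarith) (by linear_combination H)
    refine ⟨by norm_num, ?_⟩
    have e1 : x₂ = 6 := by rw [hA] at eA; exact_mod_cast eA
    have e2 : x₃ = 15 := by rw [hB] at eB; exact_mod_cast eB
    have e3 : f = 10 := by rw [hF] at eF; exact_mod_cast eF
    rw [e1, e2, e3]
    exact ⟨30, by norm_num⟩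
  · exfalso
    have hAe : A = 1 + B + F := by linarith
    subst hAe
    nlinarith [mul_pos (by linarith : (0 : ℤ) < B) (by linarith : (0 : ℤ) < F)]
  · exfalso
    linarith
  · exfalso
    have hFe : F = A + B - 1 := by linarith
    subst hFe
    have hcases : A = 1 ∨ B = 1 := by
      by_contra hne
      rw [not_or] at hne
      have hA2 : 2 ≤ A := by omega
      have hB2 : 2 ≤ B := by omega
      nlinarith [mul_nonneg (by linarith : (0 : ℤ) ≤ A - 2) (by linarith : (0 : ℤ) ≤ B - 2),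
        mul_pos (by linarith : (0 : ℤ) < A) (by linarith : (0 : ℤ) < B)]
    rcases hcases with h | h
    · subst h
      nlinarith
    · subst h
      nlinarith

end Cfsg.Agent.Lib.Helper5.Leon
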