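import Mathlib

/-!
# Group-theoretic lemmas for an abelian Sylow subgroup `P` with `|N_G(P) : C_G(P)| = 3`
acting freely (S4721)
-/

set_option autoImplicit false

namespace Cfsg.Agent.Lib.Helper5.Leon

variable {G : Type*} [Group G]

section basic

variable (P : Subgroup G)

theorem conj_mem_of_mem_normalizer {n s : G} (hn : n ∈ Subgroup.normalizer (P : Set G))
    (hs : s ∈ P) : n * s * n⁻¹ ∈ P :=
  (Subgroup.mem_normalizer_iff.mp hn s).mp hs

theorem conj_inv_mem_of_mem_normalizer {n s : G} (hn : n ∈ Subgroup.normalizer (P : Set G))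
    (hs : s ∈ P) : n⁻¹ * s * n ∈ P := by
  have := conj_mem_of_mem_normalizer P (Subgroup.inv_mem _ hn) hs
  rwa [inv_inv] at this

theorem conj_mem_centralizer {n c : G} (hn : n ∈ Subgroup.normalizer (P : Set G))
    (hc : c ∈ Subgroup.centralizer (P : Set G)) :
    n * c * n⁻¹ ∈ Subgroup.centralizer (P : Set G) := by
  rw [Subgroup.mem_centralizer_iff]
  intro x hx
  have hx' : n⁻¹ * x * n ∈ P := conj_inv_mem_of_mem_normalizer P hn hx
  have h := Subgroup.mem_centralizer_iff.mp hc (n⁻¹ * x * n) hx'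
  calc x * (n * c * n⁻¹) = n * ((n⁻¹ * x * n) * c) * n⁻¹ := by group
    _ = n * (c * (n⁻¹ * x * n)) * n⁻¹ := by rw [h]
    _ = n * c * n⁻¹ * x := by group

theorem normalizer_le_normalizer_centralizer :
    Subgroup.normalizer (P : Set G)
      ≤ Subgroup.normalizer ((Subgroup.centralizer (P : Set G) : Subgroup G) : Set G) := by
  intro n hn
  rw [Subgroup.mem_normalizer_iff]
  intro c
  constructor
  · intro hc
    exact conj_mem_centralizer P hn hc
  · intro hc
    have := conj_mem_centralizer P (Subgroup.inv_mem _ hn) hc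
    have e : n⁻¹ * (n * c * n⁻¹) * n⁻¹⁻¹ = c := by group
    rwa [e] at this

instance normal_centralizer_subgroupOf :
    ((Subgroup.centralizer (P : Set G)).subgroupOf (Subgroup.normalizer (P : Set G))).Normal :=
  Subgroup.normal_subgroupOf_of_le_normalizer (normalizer_le_normalizer_centralizer P)

variable (hCN : (Subgroup.centralizer (P : Set G)).relIndex (Subgroup.normalizer (P : Set G)) = 3)

include hCN in
theorem pow_three_mem {n : G} (hn : n ∈ Subgroup.normalizer (P : Set G)) :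
    n ^ 3 ∈ Subgroup.centralizer (P : Set G) := by
  have h := Subgroup.pow_index_mem
    ((Subgroup.centralizer (P : Set G)).subgroupOf (Subgroup.normalizer (P : Set G))) ⟨n, hn⟩
  rw [Subgroup.mem_subgroupOf] at h
  have e : (Subgroup.centralizer (P : Set G)).relIndex (Subgroup.normalizer (P : Set G))
      = ((Subgroup.centralizer (P : Set G)).subgroupOf (Subgroup.normalizer (P : Set G))).index :=
    rfl
  rw [← e, hCN] at h
  simpa using h

include hCN in
theorem mem_centralizer_of_sq {n : G} (hn : n ∈ Subgroup.normalizer (P : Set G))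
    (h2 : n * n ∈ Subgroup.centralizer (P : Set G)) : n ∈ Subgroup.centralizer (P : Set G) := by
  have h3 := pow_three_mem P hCN hn
  have e : n = n ^ 3 * (n * n)⁻¹ := by group
  rw [e]
  exact Subgroup.mul_mem _ h3 (Subgroup.inv_mem _ h2)

include hCN in
theorem exists_mem_normalizer_not_mem_centralizer :
    ∃ m : G, m ∈ Subgroup.normalizer (P : Set G) ∧ m ∉ Subgroup.centralizer (P : Set G) := by
  by_contra hne
  have hle : Subgroup.normalizer (P : Set G) ≤ Subgroup.centralizer (P : Set G) := by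
    intro m hm
    by_contra hmc
    exact hne ⟨m, hm, hmc⟩
  have := Subgroup.relIndex_eq_one.mpr hle
  rw [hCN] at this
  omega

end basic

section frob

variable (P : Subgroup G)
  (hab : ∀ a ∈ P, ∀ b ∈ P, a * b = b * a)
  (hCN : (Subgroup.centralizer (P : Set G)).relIndex (Subgroup.normalizer (P : Set G)) = 3)
  (hfrob : ∀ y : G, y ∈ P → y ≠ 1 → Subgroup.centralizer ({y} : Set G)
    ⊓ Subgroup.normalizer (P : Set G) = Subgroup.centralizer (P : Set G))

include hfrob in
theorem mem_centralizer_of_commute {n y : G} (hn : n ∈ Subgroup.normalizer (P : Set G))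
    (hy : y ∈ P) (hy1 : y ≠ 1) (h : n * y = y * n) : n ∈ Subgroup.centralizer (P : Set G) := by
  rw [← hfrob y hy hy1]
  refine Subgroup.mem_inf.mpr ⟨?_, hn⟩
  rw [Subgroup.mem_centralizer_singleton_iff]
  exact h

include hab hCN hfrob in
/-- The product over an orbit of the normalizer is trivial. -/
theorem orbit_prod {m s : G} (hm : m ∈ Subgroup.normalizer (P : Set G))
    (hmC : m ∉ Subgroup.centralizer (P : Set G)) (hs : s ∈ P) :
    s * (m * s * m⁻¹) * (m * (m * s * m⁻¹) * m⁻¹) = 1 := by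
  by_contra hne
  obtain ⟨s₁, hs₁⟩ : ∃ s₁ : G, s₁ = m * s * m⁻¹ := ⟨_, rfl⟩
  obtain ⟨s₂, hs₂⟩ : ∃ s₂ : G, s₂ = m * s₁ * m⁻¹ := ⟨_, rfl⟩
  have hs₁P : s₁ ∈ P := by rw [hs₁]; exact conj_mem_of_mem_normalizer P hm hs
  have hs₂P : s₂ ∈ P := by rw [hs₂]; exact conj_mem_of_mem_normalizer P hm hs₁P
  rw [← hs₁, ← hs₂] at hne
  have hvP : s * s₁ * s₂ ∈ P := P.mul_mem (P.mul_mem hs hs₁P) hs₂P
  have h3 := pow_three_mem P hCN hm
  have hs₃ : m * s₂ * m⁻¹ = s := by
    have e : m * s₂ * m⁻¹ = m ^ 3 * s * (m ^ 3)⁻¹ := by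
      rw [hs₂, hs₁, pow_succ, pow_two]
      group
    rw [e]
    have := Subgroup.mem_centralizer_iff.mp h3 s hs
    rw [← this]
    group
  apply hmC
  apply mem_centralizer_of_commute P hfrob hm hvP hne
  have e : m * (s * s₁ * s₂) * m⁻¹ = s * s₁ * s₂ := by
    calc m * (s * s₁ * s₂) * m⁻¹ = (m * s * m⁻¹) * (m * s₁ * m⁻¹) * (m * s₂ * m⁻¹) := by group
      _ = s₁ * s₂ * s := by rw [← hs₁, ← hs₂, hs₃]
      _ = s * s₁ * s₂ := by
        rw [hab _ (P.mul_mem hs₁P hs₂P) _ hs, mul_assoc]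
  calc m * (s * s₁ * s₂) = (m * (s * s₁ * s₂) * m⁻¹) * m := by group
    _ = s * s₁ * s₂ * m := by rw [e]

end frob

section enum

variable [Finite G] (P : Subgroup G)
  (hCN : (Subgroup.centralizer (P : Set G)).relIndex (Subgroup.normalizer (P : Set G)) = 3)

include hCN in
/-- The three cosets of the centralizer in the normalizer. -/
theorem coset_cases {m x : G} (hm : m ∈ Subgroup.normalizer (P : Set G))
    (hmC : m ∉ Subgroup.centralizer (P : Set G)) (hx : x ∈ Subgroup.normalizer (P : Set G)) :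
    ∃ b : ℕ, b < 3 ∧ (m ^ b)⁻¹ * x ∈ Subgroup.centralizer (P : Set G) := by
  classical
  obtain ⟨Cn, hCn⟩ : ∃ Cn : Subgroup (Subgroup.normalizer (P : Set G)),
      Cn = (Subgroup.centralizer (P : Set G)).subgroupOf (Subgroup.normalizer (P : Set G)) :=
    ⟨_, rfl⟩
  haveI : Cn.Normal := by rw [hCn]; infer_instance
  have hcard : Nat.card (Subgroup.normalizer (P : Set G) ⧸ Cn) = 3 := by
    rw [hCn]
    exact hCN
  haveI : Fact (Nat.Prime 3) := ⟨Nat.prime_three⟩
  obtain ⟨q, hq⟩ : ∃ q : Subgroup.normalizer (P : Set G) ⧸ Cn,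
      q = QuotientGroup.mk (⟨m, hm⟩ : Subgroup.normalizer (P : Set G)) := ⟨_, rfl⟩
  have hq1 : q ≠ 1 := by
    rw [hq]
    intro h
    rw [QuotientGroup.eq_one_iff, hCn, Subgroup.mem_subgroupOf] at h
    exact hmC h
  have htop := zpowers_eq_top_of_prime_card hcard hq1
  have hq3 : q ^ 3 = 1 := by
    rw [← hcard]
    exact pow_card_eq_one'
  have hord : orderOf q = 3 := orderOf_eq_prime hq3 hq1
  have hmem : (QuotientGroup.mk (⟨x, hx⟩ : Subgroup.normalizer (P : Set G)) :
      Subgroup.normalizer (P : Set G) ⧸ Cn) ∈ Subgroup.zpowers q := by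
    rw [htop]
    exact Subgroup.mem_top _
  rw [mem_zpowers_iff_mem_range_orderOf, hord, Finset.mem_image] at hmem
  obtain ⟨b, hb, hbe⟩ := hmem
  rw [Finset.mem_range] at hb
  refine ⟨b, hb, ?_⟩
  have hbe' : (QuotientGroup.mk ((⟨m, hm⟩ : Subgroup.normalizer (P : Set G)) ^ b) :
      Subgroup.normalizer (P : Set G) ⧸ Cn)
      = QuotientGroup.mk (⟨x, hx⟩ : Subgroup.normalizer (P : Set G)) := by
    rw [QuotientGroup.mk_pow, ← hq]
    exact hbe
  rw [QuotientGroup.eq, hCn, Subgroup.mem_subgroupOf] at hbe'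
  simpa using hbe'

include hCN in
/-- The conjugates of an element of `P` under the normalizer. -/
theorem conj_cases {m x s : G} (hm : m ∈ Subgroup.normalizer (P : Set G))
    (hmC : m ∉ Subgroup.centralizer (P : Set G)) (hx : x ∈ Subgroup.normalizer (P : Set G))
    (hs : s ∈ P) :
    x * s * x⁻¹ = s ∨ x * s * x⁻¹ = m * s * m⁻¹ ∨ x * s * x⁻¹ = m * (m * s * m⁻¹) * m⁻¹ := by
  obtain ⟨b, hb, hc⟩ := coset_cases P hCN hm hmC hx
  obtain ⟨c, hcdef⟩ : ∃ c : G, c = (m ^ b)⁻¹ * x := ⟨_, rfl⟩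
  rw [← hcdef] at hc
  have hxe : x = m ^ b * c := by rw [hcdef]; group
  have hcs : c * s * c⁻¹ = s := by
    have := Subgroup.mem_centralizer_iff.mp hc s hs
    rw [← this]
    group
  have hconj : x * s * x⁻¹ = m ^ b * s * (m ^ b)⁻¹ := by
    calc x * s * x⁻¹ = m ^ b * (c * s * c⁻¹) * (m ^ b)⁻¹ := by rw [hxe]; group
      _ = m ^ b * s * (m ^ b)⁻¹ := by rw [hcs]
  rw [hconj]
  interval_cases b
  · left
    simp
  · right; left
    simp
  · right; right
    rw [pow_two]
    group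

end enum

section invert

/-- An involution inverting the product of two involutions. -/
theorem inverts_ppart {u v y c : G} (hu : u * u = 1) (hv : v * v = 1) (huv : u * v = y * c)
    (hc : Commute y c) (a b : ℕ) (hya : y ^ a = 1) (hcb : c ^ b = 1) (hab : a.Coprime b) :
    u * y * u⁻¹ = y⁻¹ := by
  have hui : u⁻¹ = u := inv_eq_of_mul_eq_one_left hu
  have hvi : v⁻¹ = v := inv_eq_of_mul_eq_one_left hv
  have hinv : u * (u * v) * u⁻¹ = (u * v)⁻¹ := by
    rw [mul_inv_rev, hui, hvi]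
    calc u * (u * v) * u = (u * u) * v * u := by group
      _ = v * u := by rw [hu, one_mul]
  obtain ⟨e, he1, he0⟩ := Nat.chineseRemainder hab 1 0
  have hye : y ^ e = y := by
    have h1 : e % a = 1 % a := he1
    rw [pow_eq_pow_mod e hya, h1, ← pow_eq_pow_mod 1 hya, pow_one]
  have hce : c ^ e = 1 := by
    have h0 : e % b = 0 % b := he0
    rw [pow_eq_pow_mod e hcb, h0, ← pow_eq_pow_mod 0 hcb, pow_zero]
  have hge : (u * v) ^ e = y := by
    rw [huv, hc.mul_pow, hye, hce, mul_one]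
  calc u * y * u⁻¹ = u * (u * v) ^ e * u⁻¹ := by rw [hge]
    _ = (u * (u * v) * u⁻¹) ^ e := conj_pow.symm
    _ = ((u * v) ^ e)⁻¹ := by rw [hinv, inv_pow]
    _ = y⁻¹ := by rw [hge]

end invert

end Cfsg.Agent.Lib.Helper5.Leon
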