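import Mathlib
import Cfsg.Agent.Lib.Helper5.Leon1

/-!
# Fusion lemmas for an abelian Sylow subgroup `P` with `|N_G(P) : C_G(P)| = 3` acting freely
-/

set_option autoImplicit false
set_option linter.style.haveILetI false
set_option linter.unusedSectionVars false

namespace Cfsg.Agent.Lib.Helper5.Leon

variable {G : Type*} [Group G] [Finite G]

section fusion

variable {p : ℕ} [Fact p.Prime] (P : Sylow p G)
  (hab : ∀ a ∈ (P : Subgroup G), ∀ b ∈ (P : Subgroup G), a * b = b * a)
  (hCN : (Subgroup.centralizer ((P : Subgroup G) : Set G)).relIndex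
    (Subgroup.normalizer ((P : Subgroup G) : Set G)) = 3)
  (hfrob : ∀ y : G, y ∈ (P : Subgroup G) → y ≠ 1 → Subgroup.centralizer ({y} : Set G)
    ⊓ Subgroup.normalizer ((P : Subgroup G) : Set G)
      = Subgroup.centralizer ((P : Subgroup G) : Set G))

include hab in
/-- Burnside's fusion lemma in the form used here. -/
theorem fusion {s a : G} (hs : s ∈ (P : Subgroup G)) (hc : a * s * a⁻¹ ∈ (P : Subgroup G)) :
    ∃ n : G, n ∈ Subgroup.normalizer ((P : Subgroup G) : Set G) ∧ a * s * a⁻¹ = n * s * n⁻¹ := by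
  haveI : IsMulCommutative (P : Subgroup G) :=
    ⟨⟨fun x y => Subtype.ext (hab x x.2 y y.2)⟩⟩
  have h := Sylow.conj_eq_normalizer_conj_of_mem P s a⁻¹ hs (by rwa [inv_inv])
  obtain ⟨n, hn, he⟩ := h
  refine ⟨n⁻¹, Subgroup.inv_mem _ hn, ?_⟩
  rw [inv_inv] at he ⊢
  exact he

include hab hCN hfrob in
/-- No element of `G` inverts an element of `P` which is not an involution. -/
theorem no_invert {y u : G} (hy : y ∈ (P : Subgroup G)) (hyy : y * y ≠ 1)
    (hinv : u * y * u⁻¹ = y⁻¹) : False := by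
  have hy1 : y ≠ 1 := by
    rintro rfl
    exact hyy (one_mul 1)
  have hc : u * y * u⁻¹ ∈ (P : Subgroup G) := by
    rw [hinv]
    exact Subgroup.inv_mem _ hy
  obtain ⟨n, hn, he⟩ := fusion P hab hy hc
  rw [hinv] at he
  have h2 : (n * n) * y = y * (n * n) := by
    have e1 : n * y = y⁻¹ * n := by
      calc n * y = (n * y * n⁻¹) * n := by group
        _ = y⁻¹ * n := by rw [← he]
    have e2 : n * y⁻¹ = y * n := by
      have : n * y⁻¹ * n⁻¹ = y := by
        calc n * y⁻¹ * n⁻¹ = (n * y * n⁻¹)⁻¹ := by group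
          _ = y := by rw [← he, inv_inv]
      calc n * y⁻¹ = (n * y⁻¹ * n⁻¹) * n := by group
        _ = y * n := by rw [this]
    calc n * n * y = n * (n * y) := by group
      _ = n * (y⁻¹ * n) := by rw [e1]
      _ = (n * y⁻¹) * n := by group
      _ = y * n * n := by rw [e2]
      _ = y * (n * n) := by group
  have hnn : n * n ∈ Subgroup.centralizer ((P : Subgroup G) : Set G) :=
    mem_centralizer_of_commute (P : Subgroup G) hfrob (Subgroup.mul_mem _ hn hn) hy hy1 h2
  have hnC := mem_centralizer_of_sq (P : Subgroup G) hCN hn hnn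
  have hny : n * y * n⁻¹ = y := by
    have := Subgroup.mem_centralizer_iff.mp hnC y hy
    rw [← this]
    group
  apply hyy
  rw [hny] at he
  have h := inv_mul_cancel y
  rw [he] at h
  exact h

include hab hCN hfrob in
/-- The product of two conjugates (under the normalizer) of an involution of `P` is trivial or
a conjugate. -/
theorem prod_conj_cases {t x₁ x₂ : G} (ht : t ∈ (P : Subgroup G)) (htt : t * t = 1)
    (hx₁ : x₁ ∈ Subgroup.normalizer ((P : Subgroup G) : Set G))
    (hx₂ : x₂ ∈ Subgroup.normalizer ((P : Subgroup G) : Set G)) :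
    (x₁ * t * x₁⁻¹) * (x₂ * t * x₂⁻¹) = 1 ∨
      ∃ x : G, x ∈ Subgroup.normalizer ((P : Subgroup G) : Set G) ∧
        (x₁ * t * x₁⁻¹) * (x₂ * t * x₂⁻¹) = x * t * x⁻¹ := by
  obtain ⟨m, hm, hmC⟩ := exists_mem_normalizer_not_mem_centralizer (P : Subgroup G) hCN
  have hprod := orbit_prod (P : Subgroup G) hab hCN hfrob hm hmC ht
  obtain ⟨t₁, ht₁⟩ : ∃ t₁ : G, t₁ = m * t * m⁻¹ := ⟨_, rfl⟩
  obtain ⟨t₂, ht₂⟩ : ∃ t₂ : G, t₂ = m * t₁ * m⁻¹ := ⟨_, rfl⟩
  have ht₁P : t₁ ∈ (P : Subgroup G) := by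
    rw [ht₁]; exact conj_mem_of_mem_normalizer _ hm ht
  have ht₂P : t₂ ∈ (P : Subgroup G) := by
    rw [ht₂]; exact conj_mem_of_mem_normalizer _ hm ht₁P
  have h11 : t₁ * t₁ = 1 := by
    rw [ht₁]
    calc m * t * m⁻¹ * (m * t * m⁻¹) = m * (t * t) * m⁻¹ := by group
      _ = 1 := by rw [htt]; group
  have h22 : t₂ * t₂ = 1 := by
    rw [ht₂]
    calc m * t₁ * m⁻¹ * (m * t₁ * m⁻¹) = m * (t₁ * t₁) * m⁻¹ := by group
      _ = 1 := by rw [h11]; group
  have c1 := conj_cases (P : Subgroup G) hCN hm hmC hx₁ ht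
  have c2 := conj_cases (P : Subgroup G) hCN hm hmC hx₂ ht
  rw [← ht₁, ← ht₂] at hprod c1 c2
  have e2 : t₂ = (m * m) * t * (m * m)⁻¹ := by
    rw [ht₂, ht₁]; group
  have hmm : m * m ∈ Subgroup.normalizer ((P : Subgroup G) : Set G) := Subgroup.mul_mem _ hm hm
  have r0 : ∃ x : G, x ∈ Subgroup.normalizer ((P : Subgroup G) : Set G) ∧ t = x * t * x⁻¹ :=
    ⟨1, Subgroup.one_mem _, by group⟩
  have r1 : ∃ x : G, x ∈ Subgroup.normalizer ((P : Subgroup G) : Set G) ∧ t₁ = x * t * x⁻¹ :=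
    ⟨m, hm, ht₁⟩
  have r2 : ∃ x : G, x ∈ Subgroup.normalizer ((P : Subgroup G) : Set G) ∧ t₂ = x * t * x⁻¹ :=
    ⟨m * m, hmm, e2⟩
  have c01 : t * t₁ = t₁ * t := hab t ht t₁ ht₁P
  have c02 : t * t₂ = t₂ * t := hab t ht t₂ ht₂P
  have c12 : t₁ * t₂ = t₂ * t₁ := hab t₁ ht₁P t₂ ht₂P
  -- products of two distinct ones
  have p01 : t * t₁ = t₂ := by
    calc t * t₁ = t * t₁ * (t₂ * t₂) := by rw [h22, mul_one]
      _ = (t * t₁ * t₂) * t₂ := by group
      _ = t₂ := by rw [hprod, one_mul]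
  have p02 : t * t₂ = t₁ := by
    calc t * t₂ = t * t₂ * (t₁ * t₁) := by rw [h11, mul_one]
      _ = t * (t₂ * t₁) * t₁ := by group
      _ = t * (t₁ * t₂) * t₁ := by rw [c12]
      _ = (t * t₁ * t₂) * t₁ := by group
      _ = t₁ := by rw [hprod, one_mul]
  have p12 : t₁ * t₂ = t := by
    calc t₁ * t₂ = (t * t) * (t₁ * t₂) := by rw [htt, one_mul]
      _ = t * (t * t₁ * t₂) := by group
      _ = t := by rw [hprod, mul_one]
  rcases c1 with h1 | h1 | h1 <;> rcases c2 with h2 | h2 | h2 <;> rw [h1, h2]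
  · left; exact htt
  · right; rw [p01]; exact r2
  · right; rw [p02]; exact r1
  · right; rw [← c01, p01]; exact r2
  · left; exact h11
  · right; rw [p12]; exact r0
  · right; rw [← c02, p02]; exact r1
  · right; rw [← c12, p12]; exact r0
  · left; exact h22

include hCN in
/-- There is a non-identity element of `P` which is not conjugate (under the normalizer) to a
given element, when `P` has more than four elements. -/
theorem exists_good (t : G) (ht : t ∈ (P : Subgroup G)) (h4 : 4 < Nat.card (P : Subgroup G)) :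
    ∃ y : G, y ∈ (P : Subgroup G) ∧ y ≠ 1 ∧
      ∀ x : G, x ∈ Subgroup.normalizer ((P : Subgroup G) : Set G) → y ≠ x * t * x⁻¹ := by
  classical
  obtain ⟨m, hm, hmC⟩ := exists_mem_normalizer_not_mem_centralizer (P : Subgroup G) hCN
  by_contra hne
  have hsub : ((P : Subgroup G) : Set G)
      ⊆ (({1, t, m * t * m⁻¹, m * (m * t * m⁻¹) * m⁻¹} : Finset G) : Set G) := by
    intro y hy
    by_contra hyS
    apply hne
    refine ⟨y, hy, ?_, ?_⟩
    · rintro rfl
      apply hyS
      simp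
    · intro x hx hyx
      apply hyS
      rcases conj_cases (P : Subgroup G) hCN hm hmC hx ht with h | h | h <;> rw [hyx, h] <;> simp
  have h1 : Nat.card (P : Subgroup G)
      ≤ ({1, t, m * t * m⁻¹, m * (m * t * m⁻¹) * m⁻¹} : Finset G).card := by
    have := Set.ncard_le_ncard hsub (Finset.finite_toSet _)
    rw [Set.ncard_coe_finset] at this
    rw [← Set.ncard_coe_finset] at this ⊢
    have e : Nat.card (P : Subgroup G) = (((P : Subgroup G) : Set G)).ncard := rfl
    rw [e]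
    exact this
  have h2 := Finset.card_le_four (a := (1 : G)) (b := t) (c := m * t * m⁻¹)
    (d := m * (m * t * m⁻¹) * m⁻¹)
  omega

end fusion

end Cfsg.Agent.Lib.Helper5.Leon
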