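import Mathlib
import Cfsg.Agent.Lib.Helper5.Leon2

/-!
# Pairs of involutions with product in a coset of the normal complement of `C_G(y)`
-/

set_option autoImplicit false
set_option linter.style.haveILetI false
set_option linter.unusedSectionVars false

namespace Cfsg.Agent.Lib.Helper5.Leon

variable {G : Type*} [Group G] [Finite G]

section pairs

variable {p : ℕ} [Fact p.Prime] (P : Sylow p G)
  (hab : ∀ a ∈ (P : Subgroup G), ∀ b ∈ (P : Subgroup G), a * b = b * a)
  (hCN : (Subgroup.centralizer ((P : Subgroup G) : Set G)).relIndex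
    (Subgroup.normalizer ((P : Subgroup G) : Set G)) = 3)
  (hfrob : ∀ y : G, y ∈ (P : Subgroup G) → y ≠ 1 → Subgroup.centralizer ({y} : Set G)
    ⊓ Subgroup.normalizer ((P : Subgroup G) : Set G)
      = Subgroup.centralizer ((P : Subgroup G) : Set G))

theorem pow_card_eq_one_of_mem {H : Type*} [Group H] [Finite H] (K : Subgroup H) {h : H}
    (hh : h ∈ K) : h ^ Nat.card K = 1 := by
  have := pow_card_eq_one' (G := K) (x := ⟨h, hh⟩)
  have h2 := congrArg Subtype.val this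
  rw [Subgroup.coe_pow] at h2
  exact h2

include hab hCN hfrob in
/-- An involution inverts the `p`-part of its product with another involution. -/
theorem inverts_of_pair {y : G} (hy : y ∈ (P : Subgroup G))
    (K : Subgroup (Subgroup.centralizer ({y} : Set G))) (hKp : (Nat.card K).Coprime p)
    {u v : G} (hu : u * u = 1) (hv : v * v = 1) (h : Subgroup.centralizer ({y} : Set G))
    (hh : h ∈ K) (huv : u * v = y * (h : G)) : u * y * u⁻¹ = y⁻¹ := by
  obtain ⟨k, hk⟩ := P.isPGroup' ⟨y, hy⟩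
  have hyk : y ^ p ^ k = 1 := by
    have h2 := congrArg Subtype.val hk
    rw [Subgroup.coe_pow] at h2
    exact h2
  have hhK : (h : G) ^ Nat.card K = 1 := by
    have := pow_card_eq_one_of_mem K hh
    have h2 := congrArg Subtype.val this
    rw [Subgroup.coe_pow] at h2
    exact h2
  have hcomm : Commute y (h : G) := by
    have := Subgroup.mem_centralizer_singleton_iff.mp h.2
    exact this.symm
  exact inverts_ppart hu hv huv hcomm (p ^ k) (Nat.card K) hyk hhK
    (Nat.Coprime.pow_left k hKp.symm)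

include hab hCN hfrob in
/-- No pair of involutions has its product in `y K` when `y` is not an involution. -/
theorem no_pairs_of_sq_ne {y : G} (hy : y ∈ (P : Subgroup G)) (hyy : y * y ≠ 1)
    (K : Subgroup (Subgroup.centralizer ({y} : Set G))) (hKp : (Nat.card K).Coprime p)
    {u v : G} (hu : u * u = 1) (hv : v * v = 1) (h : Subgroup.centralizer ({y} : Set G))
    (hh : h ∈ K) (huv : u * v = y * (h : G)) : False :=
  no_invert P hab hCN hfrob hy hyy (inverts_of_pair P hab hCN hfrob hy K hKp hu hv h hh huv)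

end pairs

section two

variable (P : Sylow 2 G)
  (hab : ∀ a ∈ (P : Subgroup G), ∀ b ∈ (P : Subgroup G), a * b = b * a)
  (hCN : (Subgroup.centralizer ((P : Subgroup G) : Set G)).relIndex
    (Subgroup.normalizer ((P : Subgroup G) : Set G)) = 3)
  (hfrob : ∀ y : G, y ∈ (P : Subgroup G) → y ≠ 1 → Subgroup.centralizer ({y} : Set G)
    ⊓ Subgroup.normalizer ((P : Subgroup G) : Set G)
      = Subgroup.centralizer ((P : Subgroup G) : Set G))

include hab in
/-- Every involution of `C_G(y)` is conjugate under the normal complement to an element of `P`. -/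
theorem conj_into_sylow {y : G} (hyP : y ∈ (P : Subgroup G))
    (K : Subgroup (Subgroup.centralizer ({y} : Set G))) [K.Normal]
    (hKp : (Nat.card K).Coprime 2) (hidx : K.index = Nat.card (P : Subgroup G))
    (w : Subgroup.centralizer ({y} : Set G)) (hw : w * w = 1) :
    ∃ k : Subgroup.centralizer ({y} : Set G), k ∈ K ∧
      ∃ s : Subgroup.centralizer ({y} : Set G), (s : G) ∈ (P : Subgroup G) ∧
        w = k * s * k⁻¹ := by
  haveI : Fact (Nat.Prime 2) := ⟨Nat.prime_two⟩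
  have hPH : (P : Subgroup G) ≤ Subgroup.centralizer ({y} : Set G) := by
    intro x hx
    rw [Subgroup.mem_centralizer_singleton_iff]
    exact hab x hx y hyP
  obtain ⟨PH, hPHdef⟩ : ∃ PH : Sylow 2 (Subgroup.centralizer ({y} : Set G)),
      PH = P.subtype hPH := ⟨_, rfl⟩
  have hmemPH : ∀ x : Subgroup.centralizer ({y} : Set G),
      x ∈ (PH : Subgroup _) ↔ (x : G) ∈ (P : Subgroup G) := by
    intro x
    rw [hPHdef, Sylow.coe_subtype, Subgroup.mem_subgroupOf]
  have hcardPH : Nat.card (PH : Subgroup (Subgroup.centralizer ({y} : Set G)))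
      = Nat.card (P : Subgroup G) := by
    rw [hPHdef, Sylow.coe_subtype]
    exact Nat.card_congr (Subgroup.subgroupOfEquivOfLe hPH).toEquiv
  -- the 2-group generated by w
  have hPw : IsPGroup 2 (Subgroup.zpowers w) := by
    intro g
    obtain ⟨n, hn⟩ := Subgroup.mem_zpowers_iff.mp g.2
    refine ⟨1, ?_⟩
    apply Subtype.ext
    rw [Subgroup.coe_pow, ← hn, pow_one, ← zpow_natCast, ← zpow_mul, mul_comm, zpow_mul,
      zpow_natCast, pow_two, hw, one_zpow]
    rfl
  obtain ⟨Q, hQ⟩ := hPw.exists_le_sylow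
  obtain ⟨g, hg⟩ := MulAction.exists_smul_eq (Subgroup.centralizer ({y} : Set G)) PH Q
  have hwQ : w ∈ (Q : Subgroup _) := hQ (Subgroup.mem_zpowers w)
  have hs : g⁻¹ * w * g ∈ (PH : Subgroup _) := by
    rw [← hg, Sylow.coe_subgroup_smul, Subgroup.mem_pointwise_smul_iff_inv_smul_mem] at hwQ
    simpa [MulAut.smul_def] using hwQ
  -- complement decomposition of g
  have hcomp : K.IsComplement' (PH : Subgroup _) := by
    apply Subgroup.isComplement'_of_coprime
    · rw [hcardPH, ← hidx, mul_comm]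
      exact K.index_mul_card
    · obtain ⟨n, hn⟩ := IsPGroup.iff_card.mp PH.isPGroup'
      rw [hn]
      exact Nat.Coprime.pow_right n hKp
  obtain ⟨⟨k, s'⟩, hks, -⟩ := hcomp.existsUnique g
  simp only at hks
  refine ⟨k.1, k.2, g⁻¹ * w * g, (hmemPH _).mp hs, ?_⟩
  -- s' commutes with g⁻¹ w g
  have hcomm : (s'.1) * (g⁻¹ * w * g) = (g⁻¹ * w * g) * s'.1 := by
    apply Subtype.ext
    push_cast
    exact hab _ ((hmemPH _).mp s'.2) _ (by
      have := (hmemPH _).mp hs
      push_cast at this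
      exact this)
  have hge : g = k.1 * s'.1 := hks.symm
  obtain ⟨c, hc⟩ : ∃ c : Subgroup.centralizer ({y} : Set G), c = g⁻¹ * w * g := ⟨_, rfl⟩
  rw [← hc] at hcomm ⊢
  have hw' : w = g * c * g⁻¹ := by rw [hc]; group
  calc w = g * c * g⁻¹ := hw'
    _ = k.1 * (s'.1 * c) * s'.1⁻¹ * k.1⁻¹ := by
        rw [hge]
        group
    _ = k.1 * (c * s'.1) * s'.1⁻¹ * k.1⁻¹ := by rw [hcomm]
    _ = k.1 * c * k.1⁻¹ := by group

include hab hCN hfrob in
/-- For an involution `y` of `P`: if two conjugates of the involution `t ∈ P` have their product in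
`y K` then `y` is the product of two conjugates of `t` under the normalizer of `P`. -/
theorem two_pairs {t y : G} (htP : t ∈ (P : Subgroup G)) (htt : t * t = 1)
    (hyP : y ∈ (P : Subgroup G)) (hyy : y * y = 1)
    (K : Subgroup (Subgroup.centralizer ({y} : Set G))) [K.Normal]
    (hKp : (Nat.card K).Coprime 2) (hidx : K.index = Nat.card (P : Subgroup G))
    {u v : G} (hu : IsConj t u) (hv : IsConj t v) (h : Subgroup.centralizer ({y} : Set G))
    (hh : h ∈ K) (huv : u * v = y * (h : G)) :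
    ∃ x₁ : G, x₁ ∈ Subgroup.normalizer ((P : Subgroup G) : Set G) ∧
      ∃ x₂ : G, x₂ ∈ Subgroup.normalizer ((P : Subgroup G) : Set G) ∧
        y = (x₁ * t * x₁⁻¹) * (x₂ * t * x₂⁻¹) := by
  haveI : Fact (Nat.Prime 2) := ⟨Nat.prime_two⟩
  obtain ⟨g₁, hg₁⟩ := isConj_iff.mp hu
  obtain ⟨g₂, hg₂⟩ := isConj_iff.mp hv
  have huu : u * u = 1 := by
    rw [← hg₁]
    calc g₁ * t * g₁⁻¹ * (g₁ * t * g₁⁻¹) = g₁ * (t * t) * g₁⁻¹ := by group
      _ = 1 := by rw [htt]; group
  have hvv : v * v = 1 := by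
    rw [← hg₂]
    calc g₂ * t * g₂⁻¹ * (g₂ * t * g₂⁻¹) = g₂ * (t * t) * g₂⁻¹ := by group
      _ = 1 := by rw [htt]; group
  have hinv := inverts_of_pair P hab hCN hfrob hyP K hKp huu hvv h hh huv
  have hyi : y⁻¹ = y := inv_eq_of_mul_eq_one_left hyy
  have hui : u⁻¹ = u := inv_eq_of_mul_eq_one_left huu
  rw [hyi] at hinv
  have huH : u ∈ Subgroup.centralizer ({y} : Set G) := by
    rw [Subgroup.mem_centralizer_singleton_iff]
    calc u * y = (u * y * u⁻¹) * u := by group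
      _ = y * u := by rw [hinv]
  have hyH : y ∈ Subgroup.centralizer ({y} : Set G) :=
    Subgroup.mem_centralizer_singleton_iff.mpr rfl
  have hvH : v ∈ Subgroup.centralizer ({y} : Set G) := by
    have e : v = u * (y * (h : G)) := by
      rw [← huv]
      calc v = (u * u) * v := by rw [huu, one_mul]
        _ = u * (u * v) := by group
    rw [e]
    exact Subgroup.mul_mem _ huH (Subgroup.mul_mem _ hyH h.2)
  obtain ⟨k₁, hk₁, s₁, hs₁P, hu'⟩ := conj_into_sylow P hab hyP K hKp hidx ⟨u, huH⟩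
    (Subtype.ext huu)
  obtain ⟨k₂, hk₂, s₂, hs₂P, hv'⟩ := conj_into_sylow P hab hyP K hKp hidx ⟨v, hvH⟩
    (Subtype.ext hvv)
  -- computation in the quotient
  have hq1 : (QuotientGroup.mk (⟨u, huH⟩ : Subgroup.centralizer ({y} : Set G)) :
      Subgroup.centralizer ({y} : Set G) ⧸ K) = QuotientGroup.mk s₁ := by
    rw [hu', QuotientGroup.mk_mul, QuotientGroup.mk_mul, QuotientGroup.mk_inv,
      (QuotientGroup.eq_one_iff k₁).mpr hk₁]
    group
  have hq2 : (QuotientGroup.mk (⟨v, hvH⟩ : Subgroup.centralizer ({y} : Set G)) :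
      Subgroup.centralizer ({y} : Set G) ⧸ K) = QuotientGroup.mk s₂ := by
    rw [hv', QuotientGroup.mk_mul, QuotientGroup.mk_mul, QuotientGroup.mk_inv,
      (QuotientGroup.eq_one_iff k₂).mpr hk₂]
    group
  have hprod : (⟨u, huH⟩ : Subgroup.centralizer ({y} : Set G)) * ⟨v, hvH⟩ = ⟨y, hyH⟩ * h :=
    Subtype.ext huv
  have hq3 : (QuotientGroup.mk (s₁ * s₂) : Subgroup.centralizer ({y} : Set G) ⧸ K)
      = QuotientGroup.mk (⟨y, hyH⟩ : Subgroup.centralizer ({y} : Set G)) := by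
    rw [QuotientGroup.mk_mul, ← hq1, ← hq2, ← QuotientGroup.mk_mul, hprod, QuotientGroup.mk_mul,
      (QuotientGroup.eq_one_iff h).mpr hh, mul_one]
  have hzK : (⟨y, hyH⟩ : Subgroup.centralizer ({y} : Set G))⁻¹ * (s₁ * s₂) ∈ K :=
    QuotientGroup.eq.mp hq3.symm
  have hzK' := pow_card_eq_one_of_mem K hzK
  have hzc : (y⁻¹ * ((s₁ : G) * (s₂ : G))) ^ Nat.card K = 1 := by
    have h2 := congrArg Subtype.val hzK'
    rw [Subgroup.coe_pow] at h2
    exact h2
  -- the involutions s₁, s₂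
  have hs₁e : (s₁ : G) = (k₁ : G)⁻¹ * u * (k₁ : G) := by
    have h2 := congrArg Subtype.val hu'
    push_cast at h2
    rw [h2]
    group
  have hs₂e : (s₂ : G) = (k₂ : G)⁻¹ * v * (k₂ : G) := by
    have h2 := congrArg Subtype.val hv'
    push_cast at h2
    rw [h2]
    group
  have hs₁s₁ : (s₁ : G) * (s₁ : G) = 1 := by
    rw [hs₁e]
    calc (k₁ : G)⁻¹ * u * (k₁ : G) * ((k₁ : G)⁻¹ * u * (k₁ : G))
        = (k₁ : G)⁻¹ * (u * u) * (k₁ : G) := by group
      _ = 1 := by rw [huu]; group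
  have hs₂s₂ : (s₂ : G) * (s₂ : G) = 1 := by
    rw [hs₂e]
    calc (k₂ : G)⁻¹ * v * (k₂ : G) * ((k₂ : G)⁻¹ * v * (k₂ : G))
        = (k₂ : G)⁻¹ * (v * v) * (k₂ : G) := by group
      _ = 1 := by rw [hvv]; group
  have c12 : (s₁ : G) * (s₂ : G) = (s₂ : G) * (s₁ : G) := hab _ hs₁P _ hs₂P
  have cy1 : y * (s₁ : G) = (s₁ : G) * y := hab _ hyP _ hs₁P
  have cy2 : y * (s₂ : G) = (s₂ : G) * y := hab _ hyP _ hs₂P
  have hz2 : (y⁻¹ * ((s₁ : G) * (s₂ : G))) ^ 2 = 1 := by
    rw [hyi, pow_two]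
    calc y * ((s₁ : G) * (s₂ : G)) * (y * ((s₁ : G) * (s₂ : G)))
        = y * (s₁ : G) * ((s₂ : G) * y) * ((s₁ : G) * (s₂ : G)) := by group
      _ = y * (s₁ : G) * (y * (s₂ : G)) * ((s₁ : G) * (s₂ : G)) := by rw [cy2]
      _ = y * ((s₁ : G) * y) * (s₂ : G) * ((s₁ : G) * (s₂ : G)) := by group
      _ = y * (y * (s₁ : G)) * (s₂ : G) * ((s₁ : G) * (s₂ : G)) := by rw [cy1]
      _ = (y * y) * (s₁ : G) * ((s₂ : G) * (s₁ : G)) * (s₂ : G) := by group
      _ = (y * y) * (s₁ : G) * ((s₁ : G) * (s₂ : G)) * (s₂ : G) := by rw [c12]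
      _ = (y * y) * ((s₁ : G) * (s₁ : G)) * ((s₂ : G) * (s₂ : G)) := by group
      _ = 1 := by rw [hyy, hs₁s₁, hs₂s₂]; group
  have hz1 : y⁻¹ * ((s₁ : G) * (s₂ : G)) = 1 := by
    have := (pow_gcd_eq_one (a := y⁻¹ * ((s₁ : G) * (s₂ : G))) (m := 2)
      (n := Nat.card K)).mpr ⟨hz2, hzc⟩
    have hg : Nat.gcd 2 (Nat.card K) = 1 := hKp.symm
    rw [hg, pow_one] at this
    exact this
  have hy12 : y = (s₁ : G) * (s₂ : G) := by
    calc y = y * (y⁻¹ * ((s₁ : G) * (s₂ : G))) := by rw [hz1, mul_one]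
      _ = (s₁ : G) * (s₂ : G) := by group
  -- fusion
  have hs₁c : (s₁ : G) = ((k₁ : G)⁻¹ * g₁) * t * ((k₁ : G)⁻¹ * g₁)⁻¹ := by
    rw [hs₁e, ← hg₁]; group
  have hs₂c : (s₂ : G) = ((k₂ : G)⁻¹ * g₂) * t * ((k₂ : G)⁻¹ * g₂)⁻¹ := by
    rw [hs₂e, ← hg₂]; group
  obtain ⟨n₁, hn₁, he₁⟩ := fusion P hab htP (a := (k₁ : G)⁻¹ * g₁) (by rw [← hs₁c]; exact hs₁P)
  obtain ⟨n₂, hn₂, he₂⟩ := fusion P hab htP (a := (k₂ : G)⁻¹ * g₂) (by rw [← hs₂c]; exact hs₂P)
  refine ⟨n₁, hn₁, n₂, hn₂, ?_⟩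
  rw [← he₁, ← he₂, ← hs₁c, ← hs₂c]
  exact hy12

end two

end Cfsg.Agent.Lib.Helper5.Leon
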