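import Mathlib
import Cfsg.Prelude.Def_Blocks
import Cfsg.Agent.Lib.helper3.KleinOrd1
import Cfsg.Agent.Lib.helper3.ColFrob1
import Cfsg.Agent.Lib.helper3.ColFrob5
import Cfsg.Agent.Lib.Helper5.Leon3

/-!
# The class multiplication relation on the principal block (S4721)
-/

set_option autoImplicit false
set_option linter.style.haveILetI false
set_option linter.unusedSectionVars false

namespace Cfsg.Agent.Lib.Helper5.Leon

open Cfsg Cfsg.Agent.Lib.helper3.Irr Cfsg.Agent.Lib.helper3.CharBasic
open Cfsg.Agent.Lib.helper3.IndFun Cfsg.Agent.Lib.helper3.Lin Cfsg.Agent.Lib.helper3.LocalM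
open Cfsg.Agent.Lib.helper3.Central Cfsg.Agent.Lib.helper3.Block
open scoped ComplexConjugate

universe u

variable {G : Type u} [Group G] [Fintype G] {M : Ideal AlgInt}

/-- The normal `p`-complement of the centralizer of an element of `P` in explicit form. -/
theorem exists_complement {p : ℕ} [hpf : Fact p.Prime] (P : Sylow p G)
    (hab : ∀ a ∈ (P : Subgroup G), ∀ b ∈ (P : Subgroup G), a * b = b * a)
    (y : G) (hy : y ∈ (P : Subgroup G))
    (hfrob : Subgroup.centralizer ({y} : Set G) ⊓ Subgroup.normalizer ((P : Subgroup G) : Set G)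
      = Subgroup.centralizer ((P : Subgroup G) : Set G)) :
    ∃ K : Subgroup (Subgroup.centralizer ({y} : Set G)), K.Normal ∧ (Nat.card K).Coprime p ∧
      K.index = Nat.card (P : Subgroup G) ∧ ∃ j : ℕ, K.index = p ^ j := by
  obtain ⟨⟨S, N, hN, hc⟩, -, hpow⟩ := hasNormalPComplement_centralizer P hab y hy hfrob
  have h0 : N.index = Nat.card (S : Subgroup (Subgroup.centralizer ({y} : Set G))) :=
    hc.symm.index_eq_card
  have h1 : Nat.card (S : Subgroup (Subgroup.centralizer ({y} : Set G)))
      = p ^ (Nat.card ↥(Subgroup.centralizer ({y} : Set G))).factorization p :=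
    Sylow.card_eq_multiplicity S
  have hidx : N.index = Nat.card (P : Subgroup G) := h0.trans (h1.trans hpow)
  refine ⟨N, hN, ?_, hidx, ⟨_, h0.trans h1⟩⟩
  have h2 : (S : Subgroup (Subgroup.centralizer ({y} : Set G))).index = Nat.card N :=
    hc.index_eq_card
  rw [← h2]
  exact ((Nat.Prime.coprime_iff_not_dvd hpf.out).2 S.not_dvd_index).symm

open Classical in
/-- The class multiplication relation: if no pair of conjugates of `t` has its product in `y K`
then the weighted sum over the principal block vanishes. -/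
theorem star_zero {p : ℕ} [hpf : Fact p.Prime] (hM : IsPModular p M) (t y : G) (k : ℕ)
    (hy : orderOf y = p ^ k) (K : Subgroup (Subgroup.centralizer ({y} : Set G))) [hK : K.Normal]
    (hKp : (Nat.card K).Coprime p) (j : ℕ) (hidx : K.index = p ^ j)
    (hno : ∀ u v : G, IsConj t u → IsConj t v →
      ∀ h : Subgroup.centralizer ({y} : Set G), h ∈ K → u * v ≠ y * (h : G)) :
    ∑ χ : IrrCharacter G, (if χ ∈ principalBlock M G then (1 : ℂ) else 0)
      * (conj ((χ : G → ℂ) t * (χ : G → ℂ) t / (χ : G → ℂ) 1) * (χ : G → ℂ) y) = 0 := by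
  haveI : Fintype (Subgroup.centralizer ({y} : Set G)) := Fintype.ofFinite _
  haveI : Fintype K := Fintype.ofFinite _
  have h := principal_part_eq_avg hM y k hy K hKp j hidx (fun c => mulCount t t c)
    (mulCount_isClassFunction t t)
  have hz : ∀ h : K, mulCount t t (y * ((h : Subgroup.centralizer ({y} : Set G)) : G)) = 0 := by
    intro h
    unfold mulCount
    have : IsEmpty {q : G × G // IsConj t q.1 ∧ IsConj t q.2 ∧
        q.1 * q.2 = y * ((h : Subgroup.centralizer ({y} : Set G)) : G)} :=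
      ⟨fun q => hno q.1.1 q.1.2 q.2.1 q.2.2.1 h.1 h.2 q.2.2.2⟩
    rw [Nat.card_eq_zero.mpr (Or.inl this), Nat.cast_zero]
  rw [Finset.sum_congr rfl (fun h _ => hz h), Finset.sum_const_zero, mul_zero] at h
  obtain ⟨c, hc⟩ : ∃ c : ℂ, c = (Nat.card G : ℂ)⁻¹ * (((cls t).card : ℂ) * ((cls t).card : ℂ)) :=
    ⟨_, rfl⟩
  have hc0 : c ≠ 0 := by
    rw [hc]
    have h1 : (Nat.card G : ℂ) ≠ 0 := Nat.cast_ne_zero.mpr Nat.card_pos.ne'
    have h2 : ((cls t).card : ℂ) ≠ 0 := by
      apply Nat.cast_ne_zero.mpr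
      apply Finset.card_ne_zero.mpr
      exact ⟨t, mem_cls.mpr (IsConj.refl t)⟩
    exact mul_ne_zero (inv_ne_zero h1) (mul_ne_zero h2 h2)
  have hterm : ∀ χ : IrrCharacter G,
      (if χ ∈ principalBlock M G then (1 : ℂ) else 0)
        * (classInner (fun c => mulCount t t c) (χ : G → ℂ) * (χ : G → ℂ) y)
      = c * ((if χ ∈ principalBlock M G then (1 : ℂ) else 0)
        * (conj ((χ : G → ℂ) t * (χ : G → ℂ) t / (χ : G → ℂ) 1) * (χ : G → ℂ) y)) := by
    intro χ
    rw [classInner_mulCount t t χ.2, hc]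
    have e : conj (((cls t).card : ℂ) * ((cls t).card : ℂ) * (χ : G → ℂ) t * (χ : G → ℂ) t
        / (χ : G → ℂ) 1)
        = ((cls t).card : ℂ) * ((cls t).card : ℂ)
          * conj ((χ : G → ℂ) t * (χ : G → ℂ) t / (χ : G → ℂ) 1) := by
      rw [show ((cls t).card : ℂ) * ((cls t).card : ℂ) * (χ : G → ℂ) t * (χ : G → ℂ) t
          / (χ : G → ℂ) 1 = ((cls t).card : ℂ) * ((cls t).card : ℂ)
            * ((χ : G → ℂ) t * (χ : G → ℂ) t / (χ : G → ℂ) 1) by ring]
      rw [map_mul, map_mul, Complex.conj_natCast]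
    rw [e]
    ring
  rw [Finset.sum_congr rfl (fun χ _ => hterm χ), ← Finset.mul_sum] at h
  exact (mul_eq_zero.mp h).resolve_left hc0

open Classical in
/-- Block orthogonality between a non-identity `p`-element and the identity. -/
theorem block_orth_one {p : ℕ} [hpf : Fact p.Prime] (hM : IsPModular p M) (y : G) (k : ℕ)
    (hy : orderOf y = p ^ k) (hy1 : y ≠ 1) :
    ∑ χ : IrrCharacter G, (if χ ∈ principalBlock M G then (1 : ℂ) else 0)
      * ((χ : G → ℂ) y * (χ : G → ℂ) 1) = 0 := by
  have hp : p.Prime := hpf.out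
  have hBG : IsPBlock M (principalBlock M G) := ⟨Cfsg.Agent.Lib.helper3.PrincOnly.one G, rfl⟩
  have hreg1 : ¬ p ∣ orderOf (1 : G) := by
    rw [orderOf_one]
    exact hp.not_dvd_one
  have hpy : IsPPart p y y := ⟨1, mul_one _, Commute.one_right _, ⟨k, hy⟩, hreg1⟩
  have hp1 : IsPPart p (1 : G) 1 :=
    ⟨1, one_mul _, Commute.one_left _, ⟨0, by rw [orderOf_one, pow_zero]⟩, hreg1⟩
  have hnc : ¬ IsConj y 1 := by
    intro hc
    exact hy1 (isConj_one_left.1 hc)
  have h := block_orthogonality hM (principalBlock M G) hBG y 1 y 1 hpy hp1 hnc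
  rw [inv_one] at h
  exact h

/-- An involution lying in no proper normal subgroup is not in the kernel of a non-principal
irreducible character. -/
theorem apply_ne_of_ne_one (χ : IrrCharacter G) (hχ : (χ : G → ℂ) ≠ fun _ => 1) (t : G)
    (htn : ∀ K : Subgroup G, K.Normal → t ∈ K → K = ⊤) : (χ : G → ℂ) t ≠ (χ : G → ℂ) 1 := by
  intro h
  have hc := isCharacter_of_isIrrCharacter χ.2
  obtain ⟨K, hK⟩ : ∃ K : Subgroup G, ∀ g, g ∈ K ↔ (χ : G → ℂ) g = (χ : G → ℂ) 1 := by
    refine ⟨{ carrier := {g | (χ : G → ℂ) g = (χ : G → ℂ) 1}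
              one_mem' := rfl
              mul_mem' := fun {a b} ha hb => by
                show (χ : G → ℂ) (a * b) = (χ : G → ℂ) 1
                rw [apply_mul_of_apply_eq_one hc hb a]; exact ha
              inv_mem' := fun {a} ha => by
                show (χ : G → ℂ) a⁻¹ = (χ : G → ℂ) 1
                have := apply_mul_of_apply_eq_one hc ha a⁻¹
                rw [inv_mul_cancel] at this
                exact this.symm }, fun g => Iff.rfl⟩
  have hKn : K.Normal := ⟨fun n hn g => by
    rw [hK] at hn ⊢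
    rw [isClassFunction_of_isCharacter hc n g]; exact hn⟩
  have htop := htn K hKn ((hK t).mpr h)
  have hall : ∀ g : G, (χ : G → ℂ) g = (χ : G → ℂ) 1 := by
    intro g
    rw [← hK, htop]
    exact Subgroup.mem_top g
  -- then χ is a multiple of the principal character
  have hone : IsIrrCharacter G (fun _ : G => (1 : ℂ)) := isIrrCharacter_one
  obtain ⟨d, hdpos, hd⟩ := exists_pos_nat_apply_one χ.2
  have hinner : classInner (χ : G → ℂ) (fun _ : G => (1 : ℂ)) = (d : ℂ) := by
    rw [classInner_apply]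
    have : ∀ g : G, (χ : G → ℂ) g * conj ((fun _ : G => (1 : ℂ)) g) = (d : ℂ) := by
      intro g
      rw [hall g, hd]
      simp
    rw [Finset.sum_congr rfl (fun g _ => this g), Finset.sum_const, Finset.card_univ,
      nsmul_eq_mul, Nat.card_eq_fintype_card]
    have hG : (Fintype.card G : ℂ) ≠ 0 := Nat.cast_ne_zero.mpr Fintype.card_ne_zero
    field_simp
  by_cases heq : (χ : G → ℂ) = fun _ => 1
  · exact hχ heq
  · have := irr_classInner_eq_zero χ.2 hone heq
    rw [hinner] at this
    have : d = 0 := by exact_mod_cast this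
    omega

end Cfsg.Agent.Lib.Helper5.Leon
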