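import Mathlib
import Cfsg.Prelude.Def_Blocks
import Cfsg.Agent.Lib.helper3.ColFrob8
import Cfsg.Agent.Lib.Helper5.Leon1

/-!
# Orbit sums of linear characters of `P` under the normalizer, `|N : C| = 3` (S4721)
-/

set_option autoImplicit false
set_option linter.style.haveILetI false
set_option linter.unusedSectionVars false

namespace Cfsg.Agent.Lib.Helper5.Leon

open Cfsg Cfsg.Agent.Lib.helper3.Block

universe u

variable {G : Type u} [Group G] [Fintype G]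

section orbits

variable (P : Subgroup G)
  (hab : ∀ a ∈ P, ∀ b ∈ P, a * b = b * a)
  (hCN : (Subgroup.centralizer (P : Set G)).relIndex (Subgroup.normalizer (P : Set G)) = 3)
  (hfrob : ∀ y : G, y ∈ P → y ≠ 1 → Subgroup.centralizer ({y} : Set G)
    ⊓ Subgroup.normalizer (P : Set G) = Subgroup.centralizer (P : Set G))

theorem twHom_inv (x : Subgroup.normalizer (P : Set G)) (ψ : P →* ℂˣ) :
    twHom P x ψ⁻¹ = (twHom P x ψ)⁻¹ := by
  ext y
  rfl

theorem twRel_inv {ψ ψ' : P →* ℂˣ} (h : TwRel P ψ ψ') : TwRel P ψ⁻¹ ψ'⁻¹ := by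
  obtain ⟨x, hx⟩ := h
  exact ⟨x, by rw [twHom_inv, hx]⟩

theorem hom_apply_pow_card (ψ : P →* ℂˣ) (y : P) : (ψ y) ^ Nat.card P = 1 := by
  rw [← map_pow, pow_card_eq_one', map_one]

theorem inv_ne_one_of_ne_one {ψ : P →* ℂˣ} (hψ : ψ ≠ 1) : ψ⁻¹ ≠ 1 := by
  intro h
  apply hψ
  ext y
  have := DFunLike.congr_fun h y
  rw [MonoidHom.inv_apply, MonoidHom.one_apply, inv_eq_one] at this
  rw [this]
  rfl

include hab hCN hfrob in
/-- A nontrivial character is not in the orbit of its inverse when `|P|` is odd. -/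
theorem not_twRel_inv (hodd : Odd (Nat.card P)) (ψ : P →* ℂˣ) (hψ : ψ ≠ 1) :
    ¬ TwRel P ψ ψ⁻¹ := by
  rintro ⟨x, hx⟩
  have hpt : ∀ y : P, ψ (x • y) = (ψ y)⁻¹ := by
    intro y
    have := DFunLike.congr_fun hx y
    rw [twHom_apply, MonoidHom.inv_apply] at this
    rw [← this, inv_inv]
  have h2 : twHom P (x * x) ψ = ψ := by
    ext y
    rw [twHom_apply, mul_smul, hpt, hpt, inv_inv]
  have hxx := mem_centralizer_of_twHom_eq P hab hfrob (x * x) ψ hψ h2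
  have hxC : (x : G) ∈ Subgroup.centralizer (P : Set G) :=
    mem_centralizer_of_sq P hCN x.2 (by simpa using hxx)
  have h3 := twHom_of_mem_centralizer P x hxC ψ
  apply hψ
  ext y
  have h4 : (ψ y)⁻¹ = ψ y := by
    rw [← hpt]
    have := DFunLike.congr_fun h3 y
    rw [twHom_apply] at this
    exact this
  have h5 : (ψ y) ^ 2 = 1 := by
    rw [pow_two]
    nth_rewrite 1 [← h4]
    exact inv_mul_cancel _
  obtain ⟨k, hk⟩ := hodd
  have h6 := hom_apply_pow_card P ψ y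
  rw [hk, pow_succ, pow_mul, h5, one_pow, one_mul] at h6
  rw [h6]
  rfl

open Classical in
include hab hCN hfrob in
/-- For `|P| = 7` the nontrivial characters fall in the two orbits of `ψ` and `ψ⁻¹`. -/
theorem orbit_sum_inv (h7 : Nat.card P = 7) (ψ : P →* ℂˣ) (hψ : ψ ≠ 1) (y : P) (hy : y ≠ 1) :
    ∑ᶠ ψ' ∈ {ψ' : P →* ℂˣ | TwRel P ψ⁻¹ ψ'}, ((ψ' y : ℂˣ) : ℂ)
      = -1 - ∑ᶠ ψ' ∈ {ψ' : P →* ℂˣ | TwRel P ψ ψ'}, ((ψ' y : ℂˣ) : ℂ) := by
  haveI : Fintype (P →* ℂˣ) := Fintype.ofFinite _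
  have hψi : ψ⁻¹ ≠ 1 := inv_ne_one_of_ne_one P hψ
  obtain ⟨A, hA⟩ : ∃ A : Finset (P →* ℂˣ), A = Finset.univ.filter (fun ψ' => TwRel P ψ ψ') :=
    ⟨_, rfl⟩
  obtain ⟨B, hB⟩ : ∃ B : Finset (P →* ℂˣ), B = Finset.univ.filter (fun ψ' => TwRel P ψ⁻¹ ψ') :=
    ⟨_, rfl⟩
  have hAs : {ψ' : P →* ℂˣ | TwRel P ψ ψ'} = (A : Set (P →* ℂˣ)) := by
    ext ψ'
    rw [hA]
    simp
  have hBs : {ψ' : P →* ℂˣ | TwRel P ψ⁻¹ ψ'} = (B : Set (P →* ℂˣ)) := by
    ext ψ'
    rw [hB]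
    simp
  rw [hAs, hBs, finsum_mem_coe_finset, finsum_mem_coe_finset]
  have hcard : ∀ φ : P →* ℂˣ, φ ≠ 1 →
      (Finset.univ.filter (fun ψ' : P →* ℂˣ => TwRel P φ ψ')).card = 3 := by
    intro φ hφ
    have h := card_twRel_class P hab hfrob φ hφ
    rw [hCN, Nat.card_eq_fintype_card, Fintype.card_subtype] at h
    rw [← h]
    congr 1
    ext ψ'
    simp only [Finset.mem_filter, Finset.mem_univ, true_and]
    exact ⟨fun h => twRel_symm P h, fun h => twRel_symm P h⟩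
  have hAc : A.card = 3 := by rw [hA]; exact hcard ψ hψ
  have hBc : B.card = 3 := by rw [hB]; exact hcard ψ⁻¹ hψi
  have hdisj : Disjoint A B := by
    rw [Finset.disjoint_left]
    intro ψ' h1 h2
    rw [hA, Finset.mem_filter] at h1
    rw [hB, Finset.mem_filter] at h2
    have hodd : Odd (Nat.card P) := by rw [h7]; decide
    exact not_twRel_inv P hab hCN hfrob hodd ψ hψ (twRel_trans P h1.2 (twRel_symm P h2.2))
  obtain ⟨N1, hN1⟩ : ∃ N1 : Finset (P →* ℂˣ),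
      N1 = Finset.univ.filter (fun ψ' : P →* ℂˣ => ψ' ≠ 1) := ⟨_, rfl⟩
  have hN1c : N1.card = 6 := by
    have h := card_hom_ne_one P hab
    rw [h7, Nat.card_eq_fintype_card, Fintype.card_subtype] at h
    rw [hN1]
    exact h
  have hsub : A ∪ B ⊆ N1 := by
    intro ψ' h
    rw [hN1, Finset.mem_filter]
    refine ⟨Finset.mem_univ _, ?_⟩
    rintro rfl
    rcases Finset.mem_union.mp h with h | h
    · rw [hA, Finset.mem_filter] at h
      exact hψ ((twRel_one_right_iff P ψ).mp h.2)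
    · rw [hB, Finset.mem_filter] at h
      exact hψi ((twRel_one_right_iff P ψ⁻¹).mp h.2)
  have hunion : A ∪ B = N1 := by
    apply Finset.eq_of_subset_of_card_le hsub
    rw [Finset.card_union_of_disjoint hdisj, hAc, hBc, hN1c]
  have hsum := sum_hom_apply_eq_zero P hab y hy
  have hsplit : ∑ ψ' : P →* ℂˣ, ((ψ' y : ℂˣ) : ℂ)
      = 1 + ∑ ψ' ∈ N1, ((ψ' y : ℂˣ) : ℂ) := by
    rw [← Finset.sum_filter_add_sum_filter_not Finset.univ (fun ψ' : P →* ℂˣ => ψ' = 1)]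
    congr 1
    · rw [Finset.filter_eq' Finset.univ (1 : P →* ℂˣ), if_pos (Finset.mem_univ _),
        Finset.sum_singleton]
      simp
    · rw [hN1]
  rw [hsplit, ← hunion, Finset.sum_union hdisj] at hsum
  linear_combination hsum

end orbits

end Cfsg.Agent.Lib.Helper5.Leon
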