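import Mathlib
import Cfsg.Prelude.Def_Blocks
import Cfsg.Agent.S4709
import Cfsg.Agent.Lib.Helper5.Leon0
import Cfsg.Agent.Lib.Helper5.Leon5

/-!
# The structure of the principal block for `|N_G(P) : C_G(P)| = 3` (first part of S4721)
-/

set_option autoImplicit false
set_option linter.style.haveILetI false
set_option linter.unusedSectionVars false

namespace Cfsg.Agent.Lib.Helper5.Leon

open Cfsg Cfsg.Agent.Lib.helper3.Block Cfsg.Agent.Lib.helper3.Irr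

universe u

theorem sq_sum_three {ι : Type*} (Xf : Finset ι) (a : ι → ℤ) (hne : ∀ χ ∈ Xf, a χ ≠ 0)
    (hS : ∑ χ ∈ Xf, a χ ^ 2 = 3) : (∀ χ ∈ Xf, a χ = 1 ∨ a χ = -1) ∧ Xf.card = 3 := by
  have h1 : ∀ χ ∈ Xf, a χ = 1 ∨ a χ = -1 := by
    intro χ hχ
    have hle : a χ ^ 2 ≤ ∑ χ ∈ Xf, a χ ^ 2 :=
      Finset.single_le_sum (f := fun χ => a χ ^ 2) (fun i _ => sq_nonneg (a i)) hχ
    rw [hS] at hle
    have h0 := hne χ hχ
    have hlo : -1 ≤ a χ := by nlinarith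
    have hhi : a χ ≤ 1 := by nlinarith
    omega
  refine ⟨h1, ?_⟩
  have h2 : ∑ χ ∈ Xf, a χ ^ 2 = ∑ _χ ∈ Xf, (1 : ℤ) := by
    apply Finset.sum_congr rfl
    intro χ hχ
    rcases h1 χ hχ with h | h <;> rw [h] <;> norm_num
  rw [hS, Finset.sum_const, nsmul_eq_mul, mul_one] at h2
  exact_mod_cast h2.symm

theorem sq_sum_one {ι : Type*} (Xf : Finset ι) (a : ι → ℤ) (hne : ∀ χ ∈ Xf, a χ ≠ 0)
    (hS : ∑ χ ∈ Xf, a χ ^ 2 = 1) (χ₁ : ι) (hχ₁ : χ₁ ∈ Xf) : Xf = {χ₁} := by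
  have h1 : ∑ _χ ∈ Xf, (1 : ℤ) ≤ ∑ χ ∈ Xf, a χ ^ 2 := by
    apply Finset.sum_le_sum
    intro χ hχ
    have h0 := hne χ hχ
    have : 0 < a χ ^ 2 := by positivity
    omega
  rw [hS, Finset.sum_const, nsmul_eq_mul, mul_one] at h1
  have h2 : Xf.card ≤ 1 := by exact_mod_cast h1
  rw [Finset.eq_singleton_iff_unique_mem]
  refine ⟨hχ₁, ?_⟩
  intro χ hχ
  exact Finset.card_le_one.mp h2 χ hχ χ₁ hχ₁

set_option maxHeartbeats 1600000 in
open Classical in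
/-- The first part of S4721, with the relations on `p`-regular elements kept. -/
theorem part1 {G : Type u} [Group G] [Finite G] (p : ℕ) [hpf : Fact p.Prime]
    (M : Ideal Cfsg.AlgInt) (hM : Cfsg.IsPModular p M) (P : Sylow p G)
    (hab : IsMulCommutative P) (hP1 : Nat.card P ≠ 1)
    (hCN : (Subgroup.centralizer ((P : Subgroup G) : Set G)).relIndex
      (Subgroup.normalizer ((P : Subgroup G) : Set G)) = 3)
    (hcyc : ∃ g : G, g ∈ Subgroup.normalizer ((P : Subgroup G) : Set G) ∧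
      Subgroup.centralizer ((P : Subgroup G) : Set G) ⊔ Subgroup.zpowers g
        = Subgroup.normalizer ((P : Subgroup G) : Set G))
    (hm2 : 3 + 1 < Nat.card P)
    (hfrob : ∀ y : G, y ∈ (P : Subgroup G) → y ≠ 1 → Subgroup.centralizer ({y} : Set G)
      ⊓ Subgroup.normalizer ((P : Subgroup G) : Set G)
        = Subgroup.centralizer ((P : Subgroup G) : Set G)) :
    ∃ (X Y : Set (Cfsg.IrrCharacter G)), Cfsg.principalBlock M G = X ∪ Y ∧ Disjoint X Y ∧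
      Nat.card X = 3 ∧ Nat.card Y = (Nat.card P - 1) / 3 ∧
      (∃ χ₁ ∈ X, (χ₁ : G → ℂ) = fun _ => 1) ∧
      ∃ (a : Cfsg.IrrCharacter G → ℤ) (δ : ℤ)
        (ζ : (↥(P : Subgroup G) →* ℂˣ) → Cfsg.IrrCharacter G),
        (δ = 1 ∨ δ = -1) ∧
        (∀ χ ∈ X, (a χ = 1 ∨ a χ = -1) ∧ ∀ z y : G, Cfsg.IsPPart p z y → y ∈ (P : Subgroup G) →
          y ≠ 1 → (χ : G → ℂ) z = (a χ : ℂ)) ∧
        (∀ ψ : ↥(P : Subgroup G) →* ℂˣ, ψ ≠ 1 → ζ ψ ∈ Y) ∧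
        (∀ η ∈ Y, ∃ ψ : ↥(P : Subgroup G) →* ℂˣ, ψ ≠ 1 ∧ ζ ψ = η) ∧
        (∀ ψ ψ' : ↥(P : Subgroup G) →* ℂˣ, ψ ≠ 1 →
          (∃ n : G, n ∈ Subgroup.normalizer ((P : Subgroup G) : Set G) ∧
            ∀ w w' : ↥(P : Subgroup G), (w' : G) = n * w * n⁻¹ → ψ' w' = ψ w) → ζ ψ' = ζ ψ) ∧
        (∀ ψ : ↥(P : Subgroup G) →* ℂˣ, ψ ≠ 1 → ∀ (z : G) (y : ↥(P : Subgroup G)),
          Cfsg.IsPPart p z (y : G) → (y : G) ≠ 1 → (ζ ψ : G → ℂ) z = (δ : ℂ) *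
            ∑ᶠ ψ' ∈ {ψ' : ↥(P : Subgroup G) →* ℂˣ | ∃ n : G,
              n ∈ Subgroup.normalizer ((P : Subgroup G) : Set G) ∧
                ∀ w w' : ↥(P : Subgroup G), (w' : G) = n * w * n⁻¹ → ψ' w' = ψ w},
              ((ψ' y : ℂˣ) : ℂ)) ∧
        (∀ η ∈ Y, ∀ η' ∈ Y, ∀ g : G, ¬ p ∣ orderOf g → (η : G → ℂ) g = (η' : G → ℂ) g) ∧
        (∀ η ∈ Y, ∀ g : G, ¬ p ∣ orderOf g →
          -(δ : ℂ) * (η : G → ℂ) g + ∑ᶠ χ ∈ X, (a χ : ℂ) * (χ : G → ℂ) g = 0) := by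
  haveI : Fintype G := Fintype.ofFinite G
  have hp : p.Prime := hpf.out
  obtain ⟨s, X, Y, hs, hB, hdisj, hXc, hYc, ⟨χ₁, hχ₁X, hχ₁⟩, a, d, δ, ζ, hδ, hV, hζY, hζsurj,
    hζconst, hζval, hR, hE, hL⟩ :=
    Cfsg.Agent.S4709.result p M hM P hab hP1 3 (by norm_num) hm2 hCN hcyc hfrob
  have hab' : ∀ a ∈ (P : Subgroup G), ∀ b ∈ (P : Subgroup G), a * b = b * a :=
    fun a ha b hb => congrArg Subtype.val (hab.is_comm.comm ⟨a, ha⟩ ⟨b, hb⟩)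
  -- the number of orbits
  obtain ⟨r, hr⟩ : ∃ r : ℕ, r = (Nat.card (P : Subgroup G) - 1) / 3 := ⟨_, rfl⟩
  have h3r : 3 * r = Nat.card (P : Subgroup G) - 1 := by
    have h := card_quotient_mul (P : Subgroup G) hab' hfrob
    rw [hCN] at h
    omega
  have hm2' : 4 < Nat.card (P : Subgroup G) := hm2
  have hr2 : 2 ≤ r := by omega
  -- a non-identity element of P
  have hPne : (P : Subgroup G) ≠ ⊥ := by
    intro h
    apply hP1
    rw [h]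
    exact Subgroup.card_bot
  obtain ⟨y₀, hy₀P, hy₀1⟩ := (Subgroup.ne_bot_iff_exists_ne_one).mp hPne |>.imp
    (fun y h => h) |> fun ⟨y, hy⟩ => (⟨(y : G), y.2, fun e => hy (Subtype.ext e)⟩ :
      ∃ y₀ : G, y₀ ∈ (P : Subgroup G) ∧ y₀ ≠ 1)
  have hreg1 : ¬ p ∣ orderOf (1 : G) := by
    rw [orderOf_one]
    exact hp.not_dvd_one
  have hppart : Cfsg.IsPPart p y₀ y₀ := by
    obtain ⟨k, hk⟩ := (IsPGroup.iff_orderOf.1 P.isPGroup') ⟨y₀, hy₀P⟩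
    have hk' : orderOf y₀ = p ^ k := by rw [← hk, Subgroup.orderOf_mk]
    exact ⟨1, mul_one _, Commute.one_right _, ⟨k, hk'⟩, hreg1⟩
  have ha1 : a χ₁ = 1 := by
    have h := (hV χ₁ hχ₁X).2 y₀ y₀ hppart hy₀P hy₀1
    rw [hχ₁] at h
    have : ((1 : ℤ) : ℂ) = (a χ₁ : ℂ) := by rw [← h]; simp
    exact_mod_cast this.symm
  -- the finite set X
  obtain ⟨Xf, hXf⟩ : ∃ Xf : Finset (IrrCharacter G),
      Xf = Finset.univ.filter (fun χ : IrrCharacter G => χ ∈ X) := ⟨_, rfl⟩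
  have hXfmem : ∀ χ, χ ∈ Xf ↔ χ ∈ X := by
    intro χ
    rw [hXf, Finset.mem_filter]
    simp
  have hXfcard : Nat.card X = Xf.card := by
    rw [Nat.card_eq_fintype_card]
    exact Fintype.card_of_subtype Xf hXfmem
  have hsumZ : ∀ f : IrrCharacter G → ℤ, ∑ᶠ χ ∈ X, f χ = ∑ χ ∈ Xf, f χ := by
    intro f
    rw [finsum_mem_eq_sum_filter_irr, hXf]
  have hsumC : ∀ f : IrrCharacter G → ℂ, ∑ᶠ χ ∈ X, f χ = ∑ χ ∈ Xf, f χ := by
    intro f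
    rw [finsum_mem_eq_sum_filter_irr, hXf]
  have hne : ∀ χ ∈ Xf, a χ ≠ 0 := fun χ hχ => (hV χ ((hXfmem χ).mp hχ)).1
  obtain ⟨S, hS⟩ : ∃ S : ℤ, S = ∑ χ ∈ Xf, a χ ^ 2 := ⟨_, rfl⟩
  have hS1 : 1 ≤ S := by
    rw [hS]
    have hle : a χ₁ ^ 2 ≤ ∑ χ ∈ Xf, a χ ^ 2 :=
      Finset.single_le_sum (f := fun χ => a χ ^ 2) (fun i _ => sq_nonneg (a i))
        ((hXfmem χ₁).mpr hχ₁X)
    rw [ha1] at hle
    linarith
  have hR' : (d - δ) ^ 2 + ((r : ℤ) - 1) * d ^ 2 + S = 4 := by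
    rw [hsumZ, ← hS] at hR
    have e : ((Nat.card (P : Subgroup G) : ℤ) - 1) / ((3 : ℕ) : ℤ) = (r : ℤ) := by
      push_cast
      omega
    rw [e] at hR
    push_cast at hR
    linarith
  have hsetEq : ∀ φ : ↥(P : Subgroup G) →* ℂˣ,
      {ψ' : ↥(P : Subgroup G) →* ℂˣ | ∃ n : G,
        n ∈ Subgroup.normalizer ((P : Subgroup G) : Set G) ∧
          ∀ w w' : ↥(P : Subgroup G), (w' : G) = n * w * n⁻¹ → ψ' w' = φ w}
        = {ψ' : ↥(P : Subgroup G) →* ℂˣ | TwRel (P : Subgroup G) φ ψ'} := by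
    intro φ
    ext ψ'
    exact (twRel_iff (P : Subgroup G) φ ψ').symm
  have hS3 : S = 3 → (∀ χ ∈ X, a χ = 1 ∨ a χ = -1) ∧ Nat.card X = 3 := by
    intro h3
    rw [hS] at h3
    obtain ⟨h1, h2⟩ := sq_sum_three Xf a hne h3
    exact ⟨fun χ hχ => h1 χ ((hXfmem χ).mpr hχ), by rw [hXfcard, h2]⟩
  rcases rel_cases d δ hδ r hr2 S hS1 hR' with ⟨hd0, hS3'⟩ | ⟨hdδ, hcases⟩
  · -- d = 0
    obtain ⟨hpm, hcard⟩ := hS3 hS3'
    refine ⟨X, Y, hB, hdisj, hcard, hYc, ⟨χ₁, hχ₁X, hχ₁⟩, a, δ, ζ, hδ,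
      fun χ hχ => ⟨hpm χ hχ, (hV χ hχ).2⟩, hζY, hζsurj, hζconst, ?_, hE, ?_⟩
    · intro ψ hψ z y hz hy
      have h := hζval ψ hψ z y hz hy
      rw [hd0] at h
      rw [h]
      simp
    · intro η hη g hg
      have h := hL η hη g hg
      rw [hd0] at h
      simp only [Int.cast_zero, mul_zero, zero_sub] at h
      exact h
  · rcases hcases with ⟨hr2', hS3'⟩ | ⟨hr3, -⟩ | ⟨hr4, hS1'⟩
    · -- |P| = 7: relabel
      obtain ⟨hpm, hcard⟩ := hS3 hS3'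
      have h7 : Nat.card (P : Subgroup G) = 7 := by omega
      refine ⟨X, Y, hB, hdisj, hcard, hYc, ⟨χ₁, hχ₁X, hχ₁⟩, a, -δ, fun ψ => ζ ψ⁻¹, ?_,
        fun χ hχ => ⟨hpm χ hχ, (hV χ hχ).2⟩, ?_, ?_, ?_, ?_, hE, ?_⟩
      · rcases hδ with h | h <;> rw [h] <;> simp
      · intro ψ hψ
        exact hζY ψ⁻¹ (inv_ne_one_of_ne_one _ hψ)
      · intro η hη
        obtain ⟨ψ, hψ, hψe⟩ := hζsurj η hη
        refine ⟨ψ⁻¹, inv_ne_one_of_ne_one _ hψ, ?_⟩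
        show ζ ψ⁻¹⁻¹ = η
        rw [← hψe]
        exact congrArg ζ (inv_inv ψ)
      · intro ψ ψ' hψ hrel
        obtain ⟨n, hn, hnr⟩ := hrel
        apply hζconst ψ⁻¹ ψ'⁻¹ (inv_ne_one_of_ne_one _ hψ)
        refine ⟨n, hn, ?_⟩
        intro w w' hw
        rw [MonoidHom.inv_apply, MonoidHom.inv_apply, hnr w w' hw]
      · intro ψ hψ z y hz hy
        have h := hζval ψ⁻¹ (inv_ne_one_of_ne_one _ hψ) z y hz hy
        have hy' : y ≠ 1 := fun e => hy (by rw [e]; rfl)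
        have horb := orbit_sum_inv (P : Subgroup G) hab' hCN hfrob h7 ψ hψ y hy'
        rw [hsetEq] at h ⊢
        show (ζ ψ⁻¹ : G → ℂ) z = _
        rw [h, horb, hdδ]
        push_cast
        ring
      · intro η hη g hg
        have h := hL η hη g hg
        rw [← hr, hr2', hdδ] at h
        push_cast
        linear_combination h
    · -- |P| = 10
      exfalso
      have h10 : Nat.card (P : Subgroup G) = 10 := by omega
      obtain ⟨n, hn⟩ := IsPGroup.iff_card.mp P.isPGroup'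
      rw [h10] at hn
      exact ten_ne_prime_pow p n hp hn.symm
    · -- |P| = 13
      exfalso
      rw [hS] at hS1'
      have hXs := sq_sum_one Xf a hne hS1' χ₁ ((hXfmem χ₁).mpr hχ₁X)
      have hYne : Nat.card Y ≠ 0 := by
        rw [hYc, ← hr, hr4]
        norm_num
      have hYne' : Nonempty Y := by
        by_contra hemp
        rw [not_nonempty_iff] at hemp
        exact hYne Nat.card_of_isEmpty
      obtain ⟨⟨η, hη⟩⟩ := hYne'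
      have h := hL η hη 1 hreg1
      rw [hsumC, hXs, Finset.sum_singleton, ha1, hχ₁, ← hr, hr4, hdδ,
        apply_one_eq_charDegree η] at h
      obtain ⟨n, hn⟩ : ∃ n : ℕ, n = charDegree (η : G → ℂ) := ⟨_, rfl⟩
      rw [← hn] at h
      have hZ : ((4 : ℤ) * δ - δ) * (n : ℤ) + 1 = 0 := by
        have : ((((4 : ℤ) * δ - δ) * (n : ℤ) + 1 : ℤ) : ℂ) = 0 := by
          push_cast
          linear_combination h
        exact_mod_cast this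
      rcases hδ with h1 | h1 <;> rw [h1] at hZ <;> omega

end Cfsg.Agent.Lib.Helper5.Leon
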