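import Mathlib
import Cfsg.Prelude.Def_Blocks
import Cfsg.Agent.Lib.helper3.ColFrob8
import Cfsg.Agent.Lib.Helper5.Leon1

/-!
# Orbit sums: the averaging formula and the triple sum (S4721, `p = 2`)
-/

set_option autoImplicit false
set_option linter.style.haveILetI false
set_option linter.unusedSectionVars false

namespace Cfsg.Agent.Lib.Helper5.Leon

open Cfsg Cfsg.Agent.Lib.helper3.Block

universe u

variable {G : Type u} [Group G] [Fintype G]

section avg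

variable (P : Subgroup G)
  (hab : ∀ a ∈ P, ∀ b ∈ P, a * b = b * a)
  (hCN : (Subgroup.centralizer (P : Set G)).relIndex (Subgroup.normalizer (P : Set G)) = 3)
  (hfrob : ∀ y : G, y ∈ P → y ≠ 1 → Subgroup.centralizer ({y} : Set G)
    ⊓ Subgroup.normalizer (P : Set G) = Subgroup.centralizer (P : Set G))

open Classical in
include hab hfrob in
/-- The orbit sum as an average over the normalizer. -/
theorem orbit_sum_avg [Fintype (Subgroup.normalizer (P : Set G))] (ψ : P →* ℂˣ) (hψ : ψ ≠ 1)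
    (u : P) :
    (Nat.card ↥(Subgroup.centralizer (P : Set G)) : ℂ)
        * ∑ᶠ ψ' ∈ {ψ' : P →* ℂˣ | TwRel P ψ ψ'}, ((ψ' u : ℂˣ) : ℂ)
      = ∑ x : Subgroup.normalizer (P : Set G), ((ψ (x • u) : ℂˣ) : ℂ) := by
  haveI : Fintype (P →* ℂˣ) := Fintype.ofFinite _
  have h1 : ∑ x : Subgroup.normalizer (P : Set G), ((ψ (x • u) : ℂˣ) : ℂ)
      = ∑ x : Subgroup.normalizer (P : Set G),
        (fun ψ' : P →* ℂˣ => ((ψ' u : ℂˣ) : ℂ)) (twHom P x ψ) := by
    apply Finset.sum_congr rfl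
    intro x _
    show _ = ((twHom P x ψ u : ℂˣ) : ℂ)
    rw [twHom_apply]
  rw [h1, ← Fintype.sum_fiberwise' (fun x : Subgroup.normalizer (P : Set G) => twHom P x ψ)
    (fun ψ' : P →* ℂˣ => ((ψ' u : ℂˣ) : ℂ))]
  have h2 : ∀ ψ' : P →* ℂˣ,
      ∑ _i : {x : Subgroup.normalizer (P : Set G) // twHom P x ψ = ψ'}, ((ψ' u : ℂˣ) : ℂ)
      = (if TwRel P ψ ψ' then (Nat.card ↥(Subgroup.centralizer (P : Set G)) : ℂ) else 0)
        * ((ψ' u : ℂˣ) : ℂ) := by
    intro ψ'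
    rw [Finset.sum_const, Finset.card_univ, nsmul_eq_mul, ← Nat.card_eq_fintype_card]
    congr 1
    split_ifs with h
    · rw [card_twHom_fiber P hab hfrob ψ' ψ hψ (twRel_symm P h)]
    · rw [card_twHom_fiber_of_not P ψ' ψ (fun h' => h (twRel_symm P h')), Nat.cast_zero]
  rw [Finset.sum_congr rfl (fun ψ' _ => h2 ψ')]
  have hset : {ψ' : P →* ℂˣ | TwRel P ψ ψ'}
      = ((Finset.univ.filter (fun ψ' : P →* ℂˣ => TwRel P ψ ψ') : Finset (P →* ℂˣ)) :
        Set (P →* ℂˣ)) := by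
    ext ψ'
    simp
  rw [hset, finsum_mem_coe_finset, Finset.mul_sum, Finset.sum_filter]
  apply Finset.sum_congr rfl
  intro ψ' _
  split_ifs <;> ring

open Classical in
include hab hCN hfrob in
/-- The triple sum of orbit sums. -/
theorem triple_sum [Fintype (P →* ℂˣ)] (t y : P)
    (hgood : ∀ x₁ x₂ x₃ : Subgroup.normalizer (P : Set G), (x₁ • t) * (x₂ • t) * (x₃ • y) ≠ 1) :
    ∑ ψ ∈ Finset.univ.filter (fun ψ : P →* ℂˣ => ψ ≠ 1),
      (∑ᶠ ψ' ∈ {ψ' : P →* ℂˣ | TwRel P ψ ψ'}, ((ψ' t : ℂˣ) : ℂ)) ^ 2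
        * (∑ᶠ ψ' ∈ {ψ' : P →* ℂˣ | TwRel P ψ ψ'}, ((ψ' y : ℂˣ) : ℂ)) = -27 := by
  haveI : Fintype (Subgroup.normalizer (P : Set G)) := Fintype.ofFinite _
  obtain ⟨c, hc⟩ : ∃ c : ℂ, c = (Nat.card ↥(Subgroup.centralizer (P : Set G)) : ℂ) := ⟨_, rfl⟩
  have hc0 : c ≠ 0 := by
    rw [hc]
    exact Nat.cast_ne_zero.mpr Nat.card_pos.ne'
  have hN : (Fintype.card (Subgroup.normalizer (P : Set G)) : ℂ) = 3 * c := by
    rw [hc, ← Nat.card_eq_fintype_card, ← relIndex_centralizer_mul_card P, hCN]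
    push_cast
    ring
  -- the sums over the normalizer
  obtain ⟨A, hA⟩ : ∃ A : (P →* ℂˣ) → P → ℂ,
      A = fun ψ u => ∑ x : Subgroup.normalizer (P : Set G), ((ψ (x • u) : ℂˣ) : ℂ) := ⟨_, rfl⟩
  have hAone : ∀ u : P, A 1 u = 3 * c := by
    intro u
    rw [hA]
    simp only [MonoidHom.one_apply, Units.val_one, Finset.sum_const, Finset.card_univ,
      nsmul_eq_mul, mul_one]
    exact hN
  have hall : ∑ ψ : P →* ℂˣ, A ψ t ^ 2 * A ψ y = 0 := by
    have e : ∀ ψ : P →* ℂˣ, A ψ t ^ 2 * A ψ y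
        = ∑ x₁ : Subgroup.normalizer (P : Set G), ∑ x₂ : Subgroup.normalizer (P : Set G),
          ∑ x₃ : Subgroup.normalizer (P : Set G),
            ((ψ ((x₁ • t) * (x₂ • t) * (x₃ • y)) : ℂˣ) : ℂ) := by
      intro ψ
      rw [hA, pow_two, Finset.sum_mul_sum, Finset.sum_mul]
      apply Finset.sum_congr rfl
      intro x₁ _
      rw [Finset.sum_mul]
      apply Finset.sum_congr rfl
      intro x₂ _
      rw [Finset.mul_sum]
      apply Finset.sum_congr rfl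
      intro x₃ _
      rw [map_mul, map_mul]
      push_cast
      ring
    rw [Finset.sum_congr rfl (fun ψ _ => e ψ), Finset.sum_comm]
    apply Finset.sum_eq_zero
    intro x₁ _
    rw [Finset.sum_comm]
    apply Finset.sum_eq_zero
    intro x₂ _
    rw [Finset.sum_comm]
    apply Finset.sum_eq_zero
    intro x₃ _
    exact sum_hom_apply_eq_zero P hab _ (hgood x₁ x₂ x₃)
  have hsplit : ∑ ψ : P →* ℂˣ, A ψ t ^ 2 * A ψ y
      = A 1 t ^ 2 * A 1 y
        + ∑ ψ ∈ Finset.univ.filter (fun ψ : P →* ℂˣ => ψ ≠ 1), A ψ t ^ 2 * A ψ y := by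
    rw [← Finset.sum_filter_add_sum_filter_not Finset.univ (fun ψ : P →* ℂˣ => ψ = 1)]
    congr 1
    rw [Finset.filter_eq' Finset.univ (1 : P →* ℂˣ), if_pos (Finset.mem_univ _),
      Finset.sum_singleton]
  rw [hsplit, hAone, hAone] at hall
  have hterm : ∀ ψ ∈ Finset.univ.filter (fun ψ : P →* ℂˣ => ψ ≠ 1),
      A ψ t ^ 2 * A ψ y = c ^ 3 *
        ((∑ᶠ ψ' ∈ {ψ' : P →* ℂˣ | TwRel P ψ ψ'}, ((ψ' t : ℂˣ) : ℂ)) ^ 2
          * (∑ᶠ ψ' ∈ {ψ' : P →* ℂˣ | TwRel P ψ ψ'}, ((ψ' y : ℂˣ) : ℂ))) := by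
    intro ψ hψ
    rw [Finset.mem_filter] at hψ
    have h1 := orbit_sum_avg P hab hfrob ψ hψ.2 t
    have h2 := orbit_sum_avg P hab hfrob ψ hψ.2 y
    rw [← hc] at h1 h2
    rw [hA]
    simp only
    rw [← h1, ← h2]
    ring
  rw [Finset.sum_congr rfl hterm, ← Finset.mul_sum] at hall
  have hc3 : c ^ 3 ≠ 0 := pow_ne_zero 3 hc0
  apply mul_left_cancel₀ hc3
  linear_combination hall

end avg

end Cfsg.Agent.Lib.Helper5.Leon
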