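import Mathlib
import Cfsg.Prelude.Def_Blocks
import Cfsg.Agent.Lib.Helper5.Leon4
import Cfsg.Agent.Lib.Helper5.Leon6
import Cfsg.Agent.Lib.Helper5.Leon7
import Cfsg.Agent.Lib.helper3.GalFix3

/-!
# The block data of S4721 and the explicit form of the sums over the principal block
-/

set_option autoImplicit false
set_option linter.style.haveILetI false
set_option linter.unusedSectionVars false

namespace Cfsg.Agent.Lib.Helper5.Leon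

open Cfsg Cfsg.Agent.Lib.helper3.Irr Cfsg.Agent.Lib.helper3.CharBasic
open Cfsg.Agent.Lib.helper3.IndFun Cfsg.Agent.Lib.helper3.Lin Cfsg.Agent.Lib.helper3.LocalM
open Cfsg.Agent.Lib.helper3.Central Cfsg.Agent.Lib.helper3.Block
open scoped ComplexConjugate

universe u

/-- The data of the principal block in the situation of S4721. -/
structure BData {G : Type u} [Group G] (p : ℕ) (M : Ideal Cfsg.AlgInt) (P : Sylow p G)
    (X Y : Set (Cfsg.IrrCharacter G)) (a : Cfsg.IrrCharacter G → ℤ) (δ : ℤ)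
    (ζ : (↥(P : Subgroup G) →* ℂˣ) → Cfsg.IrrCharacter G) : Prop where
  hB : Cfsg.principalBlock M G = X ∪ Y
  hdisj : Disjoint X Y
  hXc : Nat.card X = 3
  hYc : Nat.card Y = (Nat.card P - 1) / 3
  hone : ∃ χ₁ ∈ X, (χ₁ : G → ℂ) = fun _ => 1
  hδ : δ = 1 ∨ δ = -1
  hV : ∀ χ ∈ X, (a χ = 1 ∨ a χ = -1) ∧ ∀ z y : G, Cfsg.IsPPart p z y → y ∈ (P : Subgroup G) →
    y ≠ 1 → (χ : G → ℂ) z = (a χ : ℂ)
  hζY : ∀ ψ : ↥(P : Subgroup G) →* ℂˣ, ψ ≠ 1 → ζ ψ ∈ Y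
  hζsurj : ∀ η ∈ Y, ∃ ψ : ↥(P : Subgroup G) →* ℂˣ, ψ ≠ 1 ∧ ζ ψ = η
  hζconst : ∀ ψ ψ' : ↥(P : Subgroup G) →* ℂˣ, ψ ≠ 1 →
    (∃ n : G, n ∈ Subgroup.normalizer ((P : Subgroup G) : Set G) ∧
      ∀ w w' : ↥(P : Subgroup G), (w' : G) = n * w * n⁻¹ → ψ' w' = ψ w) → ζ ψ' = ζ ψ
  hζval : ∀ ψ : ↥(P : Subgroup G) →* ℂˣ, ψ ≠ 1 → ∀ (z : G) (y : ↥(P : Subgroup G)),
    Cfsg.IsPPart p z (y : G) → (y : G) ≠ 1 → (ζ ψ : G → ℂ) z = (δ : ℂ) *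
      ∑ᶠ ψ' ∈ {ψ' : ↥(P : Subgroup G) →* ℂˣ | ∃ n : G,
        n ∈ Subgroup.normalizer ((P : Subgroup G) : Set G) ∧
          ∀ w w' : ↥(P : Subgroup G), (w' : G) = n * w * n⁻¹ → ψ' w' = ψ w},
        ((ψ' y : ℂˣ) : ℂ)
  hE : ∀ η ∈ Y, ∀ η' ∈ Y, ∀ g : G, ¬ p ∣ orderOf g → (η : G → ℂ) g = (η' : G → ℂ) g
  hL : ∀ η ∈ Y, ∀ g : G, ¬ p ∣ orderOf g →
    -(δ : ℂ) * (η : G → ℂ) g + ∑ᶠ χ ∈ X, (a χ : ℂ) * (χ : G → ℂ) g = 0

theorem exists_three {ι : Type*} (X : Set ι) (hXc : Nat.card X = 3) (χ₁ : ι) (h₁ : χ₁ ∈ X) :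
    ∃ χ₂ χ₃ : ι, χ₁ ≠ χ₂ ∧ χ₁ ≠ χ₃ ∧ χ₂ ≠ χ₃ ∧ X = {χ₁, χ₂, χ₃} := by
  rw [_root_.Nat.card_coe_set_eq, Set.ncard_eq_three] at hXc
  obtain ⟨x, y, z, hxy, hxz, hyz, rfl⟩ := hXc
  simp only [Set.mem_insert_iff, Set.mem_singleton_iff] at h₁
  rcases h₁ with rfl | rfl | rfl
  · exact ⟨y, z, hxy, hxz, hyz, rfl⟩
  · exact ⟨x, z, hxy.symm, hyz, hxz, Set.insert_comm _ _ _⟩
  · refine ⟨x, y, hxz.symm, hyz.symm, hxy, ?_⟩
    ext w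
    simp only [Set.mem_insert_iff, Set.mem_singleton_iff]
    tauto

section sums

variable {G : Type u} [Group G] [Fintype G]

theorem finsum_three {ι : Type*} {A : Type*} [AddCommMonoid A] (χ₁ χ₂ χ₃ : ι) (h12 : χ₁ ≠ χ₂)
    (h13 : χ₁ ≠ χ₃) (h23 : χ₂ ≠ χ₃) (F : ι → A) :
    ∑ᶠ χ ∈ ({χ₁, χ₂, χ₃} : Set ι), F χ = F χ₁ + (F χ₂ + F χ₃) := by
  rw [finsum_mem_insert F (by
    simp only [Set.mem_insert_iff, Set.mem_singleton_iff, not_or]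
    exact ⟨h12, h13⟩) (Set.toFinite _), finsum_mem_pair h23]

open Classical in
/-- Splitting a sum over the principal block. -/
theorem sum_block_split {M : Ideal AlgInt} (X Y : Set (IrrCharacter G))
    (hB : principalBlock M G = X ∪ Y) (hdisj : Disjoint X Y) (F : IrrCharacter G → ℂ) :
    ∑ χ : IrrCharacter G, (if χ ∈ principalBlock M G then (1 : ℂ) else 0) * F χ
      = ∑ᶠ χ ∈ X, F χ + ∑ᶠ χ ∈ Y, F χ := by
  rw [← finsum_mem_set_eq_sum_ite, hB, finsum_mem_union hdisj (Set.toFinite _) (Set.toFinite _)]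

theorem isPPart_self {p : ℕ} [hpf : Fact p.Prime] (P : Sylow p G) {y : G}
    (hy : y ∈ (P : Subgroup G)) : ∃ k : ℕ, orderOf y = p ^ k ∧ Cfsg.IsPPart p y y := by
  obtain ⟨k, hk⟩ := (IsPGroup.iff_orderOf.1 P.isPGroup') ⟨y, hy⟩
  have hk' : orderOf y = p ^ k := by rw [← hk, Subgroup.orderOf_mk]
  have hreg1 : ¬ p ∣ orderOf (1 : G) := by
    rw [orderOf_one]
    exact hpf.out.not_dvd_one
  exact ⟨k, hk', 1, mul_one _, Commute.one_right _, ⟨k, hk'⟩, hreg1⟩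

/-- The value of `a` at the principal character. -/
theorem BData.a_one {p : ℕ} [hpf : Fact p.Prime] {M : Ideal AlgInt} {P : Sylow p G}
    {X Y : Set (IrrCharacter G)} {a : IrrCharacter G → ℤ} {δ : ℤ}
    {ζ : (↥(P : Subgroup G) →* ℂˣ) → IrrCharacter G} (h : BData p M P X Y a δ ζ)
    (χ₁ : IrrCharacter G) (hχ₁X : χ₁ ∈ X) (hχ₁ : (χ₁ : G → ℂ) = fun _ => 1)
    {y₀ : G} (hy₀P : y₀ ∈ (P : Subgroup G)) (hy₀1 : y₀ ≠ 1) : a χ₁ = 1 := by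
  obtain ⟨k, -, hpp⟩ := isPPart_self P hy₀P
  have h1 := (h.hV χ₁ hχ₁X).2 y₀ y₀ hpp hy₀P hy₀1
  rw [hχ₁] at h1
  have : ((1 : ℤ) : ℂ) = (a χ₁ : ℂ) := by rw [← h1]; simp
  exact_mod_cast this.symm

/-- The value of a character at an involution is real, hence so is the weight in the class
multiplication relation. -/
theorem conj_term (χ : IrrCharacter G) (t : G) (ht : orderOf t = 2) :
    conj ((χ : G → ℂ) t * (χ : G → ℂ) t / (χ : G → ℂ) 1)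
      = (χ : G → ℂ) t * (χ : G → ℂ) t / (χ : G → ℂ) 1 := by
  obtain ⟨n, hn, -⟩ := Cfsg.Agent.Lib.helper3.GalFix.exists_int_apply_involution χ t ht
  rw [hn, apply_one_eq_charDegree χ, map_div₀, map_mul, map_intCast, map_natCast]

open Classical in
/-- The class multiplication relation in explicit form. -/
theorem star_split {p : ℕ} [hpf : Fact p.Prime] {M : Ideal AlgInt} (hM : IsPModular p M)
    {P : Sylow p G} {X Y : Set (IrrCharacter G)} {a : IrrCharacter G → ℤ} {δ : ℤ}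
    {ζ : (↥(P : Subgroup G) →* ℂˣ) → IrrCharacter G} (h : BData p M P X Y a δ ζ)
    (χ₁ χ₂ χ₃ : IrrCharacter G) (h12 : χ₁ ≠ χ₂) (h13 : χ₁ ≠ χ₃) (h23 : χ₂ ≠ χ₃)
    (hX : X = {χ₁, χ₂, χ₃}) (t : G) (ht : orderOf t = 2) (y : G) (k : ℕ)
    (hy : orderOf y = p ^ k) (K : Subgroup (Subgroup.centralizer ({y} : Set G))) [hK : K.Normal]
    (hKp : (Nat.card K).Coprime p) (j : ℕ) (hidx : K.index = p ^ j)
    (hno : ∀ u v : G, IsConj t u → IsConj t v →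
      ∀ h : Subgroup.centralizer ({y} : Set G), h ∈ K → u * v ≠ y * (h : G)) :
    ((χ₁ : G → ℂ) t * (χ₁ : G → ℂ) t / (χ₁ : G → ℂ) 1) * (χ₁ : G → ℂ) y
      + (((χ₂ : G → ℂ) t * (χ₂ : G → ℂ) t / (χ₂ : G → ℂ) 1) * (χ₂ : G → ℂ) y
        + ((χ₃ : G → ℂ) t * (χ₃ : G → ℂ) t / (χ₃ : G → ℂ) 1) * (χ₃ : G → ℂ) y)
      + ∑ᶠ η ∈ Y, ((η : G → ℂ) t * (η : G → ℂ) t / (η : G → ℂ) 1) * (η : G → ℂ) y = 0 := by
  have hstar := star_zero hM t y k hy K hKp j hidx hno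
  have e : ∀ χ : IrrCharacter G, (if χ ∈ principalBlock M G then (1 : ℂ) else 0)
      * (conj ((χ : G → ℂ) t * (χ : G → ℂ) t / (χ : G → ℂ) 1) * (χ : G → ℂ) y)
      = (if χ ∈ principalBlock M G then (1 : ℂ) else 0)
        * (((χ : G → ℂ) t * (χ : G → ℂ) t / (χ : G → ℂ) 1) * (χ : G → ℂ) y) := by
    intro χ
    rw [conj_term χ t ht]
  rw [Finset.sum_congr rfl (fun χ _ => e χ),
    sum_block_split X Y h.hB h.hdisj
      (fun χ => ((χ : G → ℂ) t * (χ : G → ℂ) t / (χ : G → ℂ) 1) * (χ : G → ℂ) y), hX,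
    finsum_three χ₁ χ₂ χ₃ h12 h13 h23] at hstar
  exact hstar

open Classical in
/-- Block orthogonality in explicit form. -/
theorem orth_split {p : ℕ} [hpf : Fact p.Prime] {M : Ideal AlgInt} (hM : IsPModular p M)
    {P : Sylow p G} {X Y : Set (IrrCharacter G)} {a : IrrCharacter G → ℤ} {δ : ℤ}
    {ζ : (↥(P : Subgroup G) →* ℂˣ) → IrrCharacter G} (h : BData p M P X Y a δ ζ)
    (χ₁ χ₂ χ₃ : IrrCharacter G) (h12 : χ₁ ≠ χ₂) (h13 : χ₁ ≠ χ₃) (h23 : χ₂ ≠ χ₃)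
    (hX : X = {χ₁, χ₂, χ₃}) (y : G) (k : ℕ) (hy : orderOf y = p ^ k) (hy1 : y ≠ 1) :
    (χ₁ : G → ℂ) y * (χ₁ : G → ℂ) 1
      + ((χ₂ : G → ℂ) y * (χ₂ : G → ℂ) 1 + (χ₃ : G → ℂ) y * (χ₃ : G → ℂ) 1)
      + ∑ᶠ η ∈ Y, (η : G → ℂ) y * (η : G → ℂ) 1 = 0 := by
  have horth := block_orth_one hM y k hy hy1
  rw [sum_block_split X Y h.hB h.hdisj (fun χ => (χ : G → ℂ) y * (χ : G → ℂ) 1), hX,
    finsum_three χ₁ χ₂ χ₃ h12 h13 h23] at horth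
  exact horth

/-- The relation on `p`-regular elements in explicit form. -/
theorem reg_split {p : ℕ} {M : Ideal AlgInt}
    {P : Sylow p G} {X Y : Set (IrrCharacter G)} {a : IrrCharacter G → ℤ} {δ : ℤ}
    {ζ : (↥(P : Subgroup G) →* ℂˣ) → IrrCharacter G} (h : BData p M P X Y a δ ζ)
    (χ₁ χ₂ χ₃ : IrrCharacter G) (h12 : χ₁ ≠ χ₂) (h13 : χ₁ ≠ χ₃) (h23 : χ₂ ≠ χ₃)
    (hX : X = {χ₁, χ₂, χ₃}) (hχ₁ : (χ₁ : G → ℂ) = fun _ => 1) (ha₁ : a χ₁ = 1)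
    (η : IrrCharacter G) (hη : η ∈ Y) (g : G) (hg : ¬ p ∣ orderOf g) :
    1 + (a χ₂ : ℂ) * (χ₂ : G → ℂ) g + (a χ₃ : ℂ) * (χ₃ : G → ℂ) g
      - (δ : ℂ) * (η : G → ℂ) g = 0 := by
  have hL := h.hL η hη g hg
  rw [hX, finsum_three χ₁ χ₂ χ₃ h12 h13 h23, ha₁, hχ₁] at hL
  push_cast at hL
  linear_combination hL

theorem charDegree_pos' (χ : IrrCharacter G) : 0 < charDegree (χ : G → ℂ) := by
  obtain ⟨d, hd, hd1⟩ := exists_pos_nat_apply_one χ.2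
  have := apply_one_eq_charDegree χ
  rw [hd1] at this
  have : d = charDegree (χ : G → ℂ) := by exact_mod_cast this
  omega

end sums

end Cfsg.Agent.Lib.Helper5.Leon
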