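import Mathlib
import Cfsg.Prelude.Def_Blocks
import Cfsg.Agent.Lib.Helper5.Leon8

/-!
# The involution clause of S4721 for odd `p`
-/

set_option autoImplicit false
set_option linter.style.haveILetI false
set_option linter.unusedSectionVars false

namespace Cfsg.Agent.Lib.Helper5.Leon

open Cfsg Cfsg.Agent.Lib.helper3.Irr Cfsg.Agent.Lib.helper3.CharBasic
open Cfsg.Agent.Lib.helper3.IndFun Cfsg.Agent.Lib.helper3.Lin Cfsg.Agent.Lib.helper3.LocalM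
open Cfsg.Agent.Lib.helper3.Central Cfsg.Agent.Lib.helper3.Block
open scoped ComplexConjugate

universe u

variable {G : Type u} [Group G] [Fintype G]

theorem conj_sq_eq_one {t u : G} (htt : t * t = 1) (hu : IsConj t u) : u * u = 1 := by
  obtain ⟨g, hg⟩ := isConj_iff.mp hu
  rw [← hg]
  calc g * t * g⁻¹ * (g * t * g⁻¹) = g * (t * t) * g⁻¹ := by group
    _ = 1 := by rw [htt]; group

set_option maxHeartbeats 1600000 in
open Classical in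
/-- The involution clause for odd `p`. -/
theorem part2_odd {p : ℕ} [hpf : Fact p.Prime] (hp2 : p ≠ 2) {M : Ideal AlgInt}
    (hM : IsPModular p M) {P : Sylow p G}
    (hab : ∀ a ∈ (P : Subgroup G), ∀ b ∈ (P : Subgroup G), a * b = b * a)
    (hCN : (Subgroup.centralizer ((P : Subgroup G) : Set G)).relIndex
      (Subgroup.normalizer ((P : Subgroup G) : Set G)) = 3)
    (hfrob : ∀ y : G, y ∈ (P : Subgroup G) → y ≠ 1 → Subgroup.centralizer ({y} : Set G)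
      ⊓ Subgroup.normalizer ((P : Subgroup G) : Set G)
        = Subgroup.centralizer ((P : Subgroup G) : Set G))
    {X Y : Set (IrrCharacter G)} {a : IrrCharacter G → ℤ} {δ : ℤ}
    {ζ : (↥(P : Subgroup G) →* ℂˣ) → IrrCharacter G} (h : BData p M P X Y a δ ζ)
    (χ₁ χ₂ χ₃ : IrrCharacter G) (h12 : χ₁ ≠ χ₂) (h13 : χ₁ ≠ χ₃) (h23 : χ₂ ≠ χ₃)
    (hX : X = {χ₁, χ₂, χ₃}) (hχ₁ : (χ₁ : G → ℂ) = fun _ => 1)
    {y₀ : G} (hy₀P : y₀ ∈ (P : Subgroup G)) (hy₀1 : y₀ ≠ 1)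
    (t : G) (ht : orderOf t = 2) (htn : ∀ K : Subgroup G, K.Normal → t ∈ K → K = ⊤)
    (η : IrrCharacter G) (hη : η ∈ Y) :
    ((if a χ₂ = -1 then 1 else 0) + (if a χ₃ = -1 then 1 else 0) + (if δ = 1 then 1 else 0) = 2)
      ∧ IsSquare (charDegree (η : G → ℂ) * charDegree (χ₂ : G → ℂ)
        * charDegree (χ₃ : G → ℂ)) := by
  have hp : p.Prime := hpf.out
  have hχ₁X : χ₁ ∈ X := by rw [hX]; simp
  have hχ₂X : χ₂ ∈ X := by rw [hX]; simp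
  have hχ₃X : χ₃ ∈ X := by rw [hX]; simp
  have ha₁ := h.a_one χ₁ hχ₁X hχ₁ hy₀P hy₀1
  have hreg1 : ¬ p ∣ orderOf (1 : G) := by
    rw [orderOf_one]
    exact hp.not_dvd_one
  have hregt : ¬ p ∣ orderOf t := by
    rw [ht]
    intro hd
    exact hp2 ((Nat.prime_dvd_prime_iff_eq hp Nat.prime_two).mp hd)
  have htt : t * t = 1 := by
    have := pow_orderOf_eq_one t
    rw [ht, pow_two] at this
    exact this
  -- degrees and values
  obtain ⟨x₂, hx₂⟩ : ∃ x₂ : ℕ, x₂ = charDegree (χ₂ : G → ℂ) := ⟨_, rfl⟩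
  obtain ⟨x₃, hx₃⟩ : ∃ x₃ : ℕ, x₃ = charDegree (χ₃ : G → ℂ) := ⟨_, rfl⟩
  obtain ⟨f, hf⟩ : ∃ f : ℕ, f = charDegree (η : G → ℂ) := ⟨_, rfl⟩
  have hx₂1 : (χ₂ : G → ℂ) 1 = (x₂ : ℂ) := by rw [hx₂]; exact apply_one_eq_charDegree χ₂
  have hx₃1 : (χ₃ : G → ℂ) 1 = (x₃ : ℂ) := by rw [hx₃]; exact apply_one_eq_charDegree χ₃
  have hf1 : (η : G → ℂ) 1 = (f : ℂ) := by rw [hf]; exact apply_one_eq_charDegree η
  have hx₂pos : 0 < x₂ := by rw [hx₂]; exact charDegree_pos' χ₂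
  have hx₃pos : 0 < x₃ := by rw [hx₃]; exact charDegree_pos' χ₃
  have hfpos : 0 < f := by rw [hf]; exact charDegree_pos' η
  obtain ⟨c₂, hc₂, -⟩ := Cfsg.Agent.Lib.helper3.GalFix.exists_int_apply_involution χ₂ t ht
  obtain ⟨c₃, hc₃, -⟩ := Cfsg.Agent.Lib.helper3.GalFix.exists_int_apply_involution χ₃ t ht
  obtain ⟨e, he, -⟩ := Cfsg.Agent.Lib.helper3.GalFix.exists_int_apply_involution η t ht
  -- the relations on regular elements
  have hL1 := reg_split h χ₁ χ₂ χ₃ h12 h13 h23 hX hχ₁ ha₁ η hη 1 hreg1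
  rw [hx₂1, hx₃1, hf1] at hL1
  have h1 : 1 + a χ₂ * x₂ + a χ₃ * x₃ - δ * f = 0 := by
    have : ((1 + a χ₂ * x₂ + a χ₃ * x₃ - δ * f : ℤ) : ℂ) = 0 := by
      push_cast
      exact hL1
    exact_mod_cast this
  have hL2 := reg_split h χ₁ χ₂ χ₃ h12 h13 h23 hX hχ₁ ha₁ η hη t hregt
  rw [hc₂, hc₃, he] at hL2
  have h2 : 1 + a χ₂ * c₂ + a χ₃ * c₃ - δ * e = 0 := by
    have : ((1 + a χ₂ * c₂ + a χ₃ * c₃ - δ * e : ℤ) : ℂ) = 0 := by
      push_cast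
      exact hL2
    exact_mod_cast this
  -- the class multiplication relation
  obtain ⟨k, hk, hpp⟩ := isPPart_self P hy₀P
  obtain ⟨K, hKn, hKp, hidx, j, hj⟩ := exists_complement P hab y₀ hy₀P (hfrob y₀ hy₀P hy₀1)
  have hyy : y₀ * y₀ ≠ 1 := by
    intro hyy
    have hdvd : orderOf y₀ ∣ 2 := orderOf_dvd_of_pow_eq_one (by rw [pow_two]; exact hyy)
    rw [hk] at hdvd
    have hk0 : k = 0 := by
      by_contra hk0
      have : p ∣ 2 := dvd_trans (dvd_pow_self p hk0) hdvd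
      exact hp2 ((Nat.prime_dvd_prime_iff_eq hp Nat.prime_two).mp this)
    rw [hk0, pow_zero, orderOf_eq_one_iff] at hk
    exact hy₀1 hk
  have hno : ∀ u v : G, IsConj t u → IsConj t v →
      ∀ h' : Subgroup.centralizer ({y₀} : Set G), h' ∈ K → u * v ≠ y₀ * (h' : G) := by
    intro u v hu hv h' hh' huv
    exact no_pairs_of_sq_ne P hab hCN hfrob hy₀P hyy K hKp (conj_sq_eq_one htt hu)
      (conj_sq_eq_one htt hv) h' hh' huv
  have hstar := star_split hM h χ₁ χ₂ χ₃ h12 h13 h23 hX t ht y₀ k hk K hKp j hj hno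
  have horth := orth_split hM h χ₁ χ₂ χ₃ h12 h13 h23 hX y₀ k hk hy₀1
  have hv₂ := (h.hV χ₂ hχ₂X).2 y₀ y₀ hpp hy₀P hy₀1
  have hv₃ := (h.hV χ₃ hχ₃X).2 y₀ y₀ hpp hy₀P hy₀1
  -- the sum over Y
  obtain ⟨σ, hσ⟩ : ∃ σ : ℂ, σ = ∑ᶠ η' ∈ Y, (η' : G → ℂ) y₀ := ⟨_, rfl⟩
  have hY1 : ∑ᶠ η' ∈ Y, (η' : G → ℂ) y₀ * (η' : G → ℂ) 1 = σ * (f : ℂ) := by
    rw [hσ, finsum_mem_mul' _ _ (Set.toFinite Y)]
    apply finsum_mem_congr rfl
    intro η' hη'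
    rw [h.hE η' hη' η hη 1 hreg1, hf1]
  have hY2 : ∑ᶠ η' ∈ Y, ((η' : G → ℂ) t * (η' : G → ℂ) t / (η' : G → ℂ) 1) * (η' : G → ℂ) y₀
      = ((e : ℂ) * e / f) * σ := by
    rw [hσ, mul_finsum_mem' _ _ (Set.toFinite Y)]
    apply finsum_mem_congr rfl
    intro η' hη'
    rw [h.hE η' hη' η hη 1 hreg1, h.hE η' hη' η hη t hregt, hf1, he]
  rw [hχ₁, hv₂, hv₃, hx₂1, hx₃1, hY1] at horth
  rw [hχ₁, hv₂, hv₃, hx₂1, hx₃1, hc₂, hc₃, hY2] at hstar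
  have hf0 : (f : ℂ) ≠ 0 := Nat.cast_ne_zero.mpr hfpos.ne'
  have hσv : σ = -(δ : ℂ) := by
    apply mul_right_cancel₀ hf0
    linear_combination horth - hL1
  rw [hσv] at hstar
  have h3 : (1 : ℚ) + a χ₂ * c₂ ^ 2 / x₂ + a χ₃ * c₃ ^ 2 / x₃ - δ * e ^ 2 / f = 0 := by
    have : (((1 : ℚ) + a χ₂ * c₂ ^ 2 / x₂ + a χ₃ * c₃ ^ 2 / x₃ - δ * e ^ 2 / f : ℚ) : ℂ) = 0 := by
      push_cast
      linear_combination hstar
    exact_mod_cast this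
  -- the kernel conditions
  have hne₂ : (χ₂ : G → ℂ) ≠ fun _ => 1 := by
    intro hh
    apply h12
    apply Subtype.ext
    rw [hχ₁, hh]
  have hne₃ : (χ₃ : G → ℂ) ≠ fun _ => 1 := by
    intro hh
    apply h13
    apply Subtype.ext
    rw [hχ₁, hh]
  have hneη : (η : G → ℂ) ≠ fun _ => 1 := by
    intro hh
    have : η = χ₁ := by
      apply Subtype.ext
      rw [hχ₁, hh]
    rw [this] at hη
    exact (Set.disjoint_left.mp h.hdisj hχ₁X) hη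
  have hk₂ : c₂ ≠ x₂ := by
    intro hh
    apply apply_ne_of_ne_one χ₂ hne₂ t htn
    rw [hc₂, hx₂1, hh]
    simp
  have hk₃ : c₃ ≠ x₃ := by
    intro hh
    apply apply_ne_of_ne_one χ₃ hne₃ t htn
    rw [hc₃, hx₃1, hh]
    simp
  have hkη : e ≠ f := by
    intro hh
    apply apply_ne_of_ne_one η hneη t htn
    rw [he, hf1, hh]
    simp
  have hcore := odd_core (a χ₂) (a χ₃) δ (h.hV χ₂ hχ₂X).1 (h.hV χ₃ hχ₃X).1 h.hδ x₂ x₃ f
    hx₂pos hx₃pos hfpos c₂ c₃ e h1 h2 h3 hk₂ hk₃ hkη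
  rw [← hf, ← hx₂, ← hx₃]
  exact hcore

end Cfsg.Agent.Lib.Helper5.Leon
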