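import Mathlib
import Cfsg.Prelude.Def_Blocks
import Cfsg.Agent.Lib.Helper5.Leon9

/-!
# The involution clause of S4721 for `p = 2`
-/

set_option autoImplicit false
set_option linter.style.haveILetI false
set_option linter.unusedSectionVars false

namespace Cfsg.Agent.Lib.Helper5.Leon

open Cfsg Cfsg.Agent.Lib.helper3.Irr Cfsg.Agent.Lib.helper3.CharBasic
open Cfsg.Agent.Lib.helper3.IndFun Cfsg.Agent.Lib.helper3.Lin Cfsg.Agent.Lib.helper3.LocalM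
open Cfsg.Agent.Lib.helper3.Central Cfsg.Agent.Lib.helper3.Block
open scoped ComplexConjugate

universe u

variable {G : Type u} [Group G] [Fintype G]

open Classical in
/-- The orbits of nontrivial characters have three elements. -/
theorem card_orbit (P : Subgroup G) (hab : ∀ a ∈ P, ∀ b ∈ P, a * b = b * a)
    (hCN : (Subgroup.centralizer (P : Set G)).relIndex (Subgroup.normalizer (P : Set G)) = 3)
    (hfrob : ∀ y : G, y ∈ P → y ≠ 1 → Subgroup.centralizer ({y} : Set G)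
      ⊓ Subgroup.normalizer (P : Set G) = Subgroup.centralizer (P : Set G))
    [Fintype (P →* ℂˣ)] (φ : P →* ℂˣ) (hφ : φ ≠ 1) :
    (Finset.univ.filter (fun ψ' : P →* ℂˣ => TwRel P φ ψ')).card = 3 := by
  have h := card_twRel_class P hab hfrob φ hφ
  rw [hCN, Nat.card_eq_fintype_card, Fintype.card_subtype] at h
  rw [← h]
  congr 1
  ext ψ'
  simp only [Finset.mem_filter, Finset.mem_univ, true_and]
  exact ⟨fun h => twRel_symm P h, fun h => twRel_symm P h⟩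

open Classical in
/-- Sums over `Y` as sums over the nontrivial characters of `P`. -/
theorem sum_fiber {p : ℕ} [hpf : Fact p.Prime] {M : Ideal AlgInt} {P : Sylow p G}
    (hab : ∀ a ∈ (P : Subgroup G), ∀ b ∈ (P : Subgroup G), a * b = b * a)
    (hCN : (Subgroup.centralizer ((P : Subgroup G) : Set G)).relIndex
      (Subgroup.normalizer ((P : Subgroup G) : Set G)) = 3)
    (hfrob : ∀ y : G, y ∈ (P : Subgroup G) → y ≠ 1 → Subgroup.centralizer ({y} : Set G)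
      ⊓ Subgroup.normalizer ((P : Subgroup G) : Set G)
        = Subgroup.centralizer ((P : Subgroup G) : Set G))
    {X Y : Set (IrrCharacter G)} {a : IrrCharacter G → ℤ} {δ : ℤ}
    {ζ : (↥(P : Subgroup G) →* ℂˣ) → IrrCharacter G} (h : BData p M P X Y a δ ζ)
    [Fintype (↥(P : Subgroup G) →* ℂˣ)] (F : IrrCharacter G → ℂ) :
    ∑ ψ ∈ Finset.univ.filter (fun ψ : ↥(P : Subgroup G) →* ℂˣ => ψ ≠ 1), F (ζ ψ)
      = 3 * ∑ᶠ η ∈ Y, F η := by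
  obtain ⟨S, hS⟩ : ∃ S : Finset (↥(P : Subgroup G) →* ℂˣ),
      S = Finset.univ.filter (fun ψ : ↥(P : Subgroup G) →* ℂˣ => ψ ≠ 1) := ⟨_, rfl⟩
  obtain ⟨Yf, hYf⟩ : ∃ Yf : Finset (IrrCharacter G),
      Yf = Finset.univ.filter (fun η : IrrCharacter G => η ∈ Y) := ⟨_, rfl⟩
  have hYfmem : ∀ η, η ∈ Yf ↔ η ∈ Y := by
    intro η
    rw [hYf, Finset.mem_filter]
    simp
  have hSmem : ∀ ψ, ψ ∈ S ↔ ψ ≠ 1 := by
    intro ψ
    rw [hS, Finset.mem_filter]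
    simp
  have hmaps : ∀ ψ ∈ S, ζ ψ ∈ Yf := fun ψ hψ => (hYfmem _).mpr (h.hζY ψ ((hSmem ψ).mp hψ))
  have hScard : S.card = Nat.card (P : Subgroup G) - 1 := by
    have h1 := card_hom_ne_one (P : Subgroup G) hab
    rw [Nat.card_eq_fintype_card, Fintype.card_subtype] at h1
    rw [hS]
    exact h1
  have hYfcard : Yf.card = (Nat.card (P : Subgroup G) - 1) / 3 := by
    rw [← h.hYc, Nat.card_eq_fintype_card]
    exact (Fintype.card_of_subtype Yf hYfmem).symm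
  have h3r : 3 * ((Nat.card (P : Subgroup G) - 1) / 3) = Nat.card (P : Subgroup G) - 1 := by
    have h1 := card_quotient_mul (P : Subgroup G) hab hfrob
    rw [hCN] at h1
    omega
  have hge : ∀ η ∈ Yf, 3 ≤ (S.filter (fun ψ => ζ ψ = η)).card := by
    intro η hη
    obtain ⟨ψ₀, hψ₀, hψ₀e⟩ := h.hζsurj η ((hYfmem η).mp hη)
    rw [← card_orbit (P : Subgroup G) hab hCN hfrob ψ₀ hψ₀]
    apply Finset.card_le_card
    intro ψ' hψ'
    rw [Finset.mem_filter] at hψ' ⊢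
    have hrel := hψ'.2
    refine ⟨(hSmem ψ').mpr ?_, ?_⟩
    · rintro rfl
      exact hψ₀ ((twRel_one_right_iff (P : Subgroup G) ψ₀).mp hrel)
    · rw [← hψ₀e]
      exact h.hζconst ψ₀ ψ' hψ₀ ((twRel_iff (P : Subgroup G) ψ₀ ψ').mp hrel)
  have hsum : S.card = ∑ η ∈ Yf, (S.filter (fun ψ => ζ ψ = η)).card :=
    Finset.card_eq_sum_card_fiberwise hmaps
  have heq : ∀ η ∈ Yf, 3 = (S.filter (fun ψ => ζ ψ = η)).card := by
    apply (Finset.sum_eq_sum_iff_of_le hge).mp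
    rw [← hsum, Finset.sum_const, smul_eq_mul, hScard, hYfcard, mul_comm]
    exact h3r
  rw [← hS, ← Finset.sum_fiberwise_of_maps_to' hmaps F, finsum_mem_eq_sum_filter_irr, ← hYf,
    Finset.mul_sum]
  apply Finset.sum_congr rfl
  intro η hη
  rw [Finset.sum_const, ← heq η hη]
  simp

set_option maxHeartbeats 1600000 in
open Classical in
/-- The weighted sum over `Y` for `p = 2`. -/
theorem y_sum_two {M : Ideal AlgInt} {P : Sylow 2 G}
    (hab : ∀ a ∈ (P : Subgroup G), ∀ b ∈ (P : Subgroup G), a * b = b * a)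
    (hCN : (Subgroup.centralizer ((P : Subgroup G) : Set G)).relIndex
      (Subgroup.normalizer ((P : Subgroup G) : Set G)) = 3)
    (hfrob : ∀ y : G, y ∈ (P : Subgroup G) → y ≠ 1 → Subgroup.centralizer ({y} : Set G)
      ⊓ Subgroup.normalizer ((P : Subgroup G) : Set G)
        = Subgroup.centralizer ((P : Subgroup G) : Set G))
    {X Y : Set (IrrCharacter G)} {a : IrrCharacter G → ℤ} {δ : ℤ}
    {ζ : (↥(P : Subgroup G) →* ℂˣ) → IrrCharacter G} (h : BData 2 M P X Y a δ ζ)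
    {t y : G} (htP : t ∈ (P : Subgroup G)) (ht : orderOf t = 2) (hyP : y ∈ (P : Subgroup G))
    (hy1 : y ≠ 1)
    (hyn : ∀ x : G, x ∈ Subgroup.normalizer ((P : Subgroup G) : Set G) → y ≠ x * t * x⁻¹) :
    ∑ᶠ η ∈ Y, ((η : G → ℂ) t) ^ 2 * (η : G → ℂ) y = -9 * (δ : ℂ) := by
  haveI : Fact (Nat.Prime 2) := ⟨Nat.prime_two⟩
  haveI : Fintype (↥(P : Subgroup G) →* ℂˣ) := Fintype.ofFinite _
  have htt : t * t = 1 := by
    have := pow_orderOf_eq_one t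
    rw [ht, pow_two] at this
    exact this
  have ht1 : t ≠ 1 := by
    rintro rfl
    rw [orderOf_one] at ht
    omega
  have hti : t⁻¹ = t := inv_eq_of_mul_eq_one_left htt
  obtain ⟨kt, -, hppt⟩ := isPPart_self P htP
  obtain ⟨ky, -, hppy⟩ := isPPart_self P hyP
  have hsetEq : ∀ φ : ↥(P : Subgroup G) →* ℂˣ,
      {ψ' : ↥(P : Subgroup G) →* ℂˣ | ∃ n : G,
        n ∈ Subgroup.normalizer ((P : Subgroup G) : Set G) ∧
          ∀ w w' : ↥(P : Subgroup G), (w' : G) = n * w * n⁻¹ → ψ' w' = φ w}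
        = {ψ' : ↥(P : Subgroup G) →* ℂˣ | TwRel (P : Subgroup G) φ ψ'} := by
    intro φ
    ext ψ'
    exact (twRel_iff (P : Subgroup G) φ ψ').symm
  have hfib := sum_fiber hab hCN hfrob h (fun η => ((η : G → ℂ) t) ^ 2 * (η : G → ℂ) y)
  have hδ3 : (δ : ℂ) ^ 3 = δ := by
    rcases h.hδ with h1 | h1 <;> rw [h1] <;> norm_num
  have hterm : ∀ ψ ∈ Finset.univ.filter (fun ψ : ↥(P : Subgroup G) →* ℂˣ => ψ ≠ 1),
      ((ζ ψ : G → ℂ) t) ^ 2 * (ζ ψ : G → ℂ) y = (δ : ℂ) *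
        ((∑ᶠ ψ' ∈ {ψ' : ↥(P : Subgroup G) →* ℂˣ | TwRel (P : Subgroup G) ψ ψ'},
          ((ψ' (⟨t, htP⟩ : ↥(P : Subgroup G)) : ℂˣ) : ℂ)) ^ 2
        * (∑ᶠ ψ' ∈ {ψ' : ↥(P : Subgroup G) →* ℂˣ | TwRel (P : Subgroup G) ψ ψ'},
          ((ψ' (⟨y, hyP⟩ : ↥(P : Subgroup G)) : ℂˣ) : ℂ))) := by
    intro ψ hψ
    rw [Finset.mem_filter] at hψ
    have h1 := h.hζval ψ hψ.2 t ⟨t, htP⟩ hppt ht1
    have h2 := h.hζval ψ hψ.2 y ⟨y, hyP⟩ hppy hy1
    rw [hsetEq] at h1 h2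
    rw [h1, h2]
    have : ∀ A B : ℂ, ((δ : ℂ) * A) ^ 2 * ((δ : ℂ) * B) = (δ : ℂ) ^ 3 * (A ^ 2 * B) := by
      intro A B
      ring
    rw [this, hδ3]
  have hgood : ∀ x₁ x₂ x₃ : Subgroup.normalizer ((P : Subgroup G) : Set G),
      (x₁ • (⟨t, htP⟩ : ↥(P : Subgroup G))) * (x₂ • (⟨t, htP⟩ : ↥(P : Subgroup G)))
        * (x₃ • (⟨y, hyP⟩ : ↥(P : Subgroup G))) ≠ 1 := by
    intro x₁ x₂ x₃ h1
    have h2 : ((x₁ : G) * t * (x₁ : G)⁻¹) * ((x₂ : G) * t * (x₂ : G)⁻¹)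
        * ((x₃ : G) * y * (x₃ : G)⁻¹) = 1 := by
      have := congrArg Subtype.val h1
      rw [Subgroup.coe_mul, Subgroup.coe_mul, coe_normalizer_smul, coe_normalizer_smul,
        coe_normalizer_smul] at this
      exact this
    rcases prod_conj_cases P hab hCN hfrob htP htt x₁.2 x₂.2 with h3 | ⟨x, hx, h3⟩
    · rw [h3, one_mul] at h2
      apply hy1
      calc y = (x₃ : G)⁻¹ * ((x₃ : G) * y * (x₃ : G)⁻¹) * (x₃ : G) := by group
        _ = 1 := by rw [h2]; group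
    · rw [h3] at h2
      apply hyn ((x₃ : G)⁻¹ * x) (Subgroup.mul_mem _ (Subgroup.inv_mem _ x₃.2) hx)
      have h4 : (x₃ : G) * y * (x₃ : G)⁻¹ = x * t * x⁻¹ := by
        calc (x₃ : G) * y * (x₃ : G)⁻¹
            = (x * t * x⁻¹)⁻¹ * ((x * t * x⁻¹) * ((x₃ : G) * y * (x₃ : G)⁻¹)) := by group
          _ = (x * t * x⁻¹)⁻¹ := by rw [h2, mul_one]
          _ = x * t⁻¹ * x⁻¹ := by group
          _ = x * t * x⁻¹ := by rw [hti]
      calc y = (x₃ : G)⁻¹ * ((x₃ : G) * y * (x₃ : G)⁻¹) * (x₃ : G) := by group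
        _ = (x₃ : G)⁻¹ * (x * t * x⁻¹) * (x₃ : G) := by rw [h4]
        _ = (x₃ : G)⁻¹ * x * t * ((x₃ : G)⁻¹ * x)⁻¹ := by group
  have htriple := triple_sum (P : Subgroup G) hab hCN hfrob ⟨t, htP⟩ ⟨y, hyP⟩ hgood
  rw [Finset.sum_congr rfl hterm, ← Finset.mul_sum, htriple] at hfib
  linear_combination (-1 / 3 : ℂ) * hfib

set_option maxHeartbeats 1600000 in
open Classical in
/-- The involution clause for `p = 2` (with the involution in `P`). -/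
theorem part2_two {M : Ideal AlgInt} (hM : IsPModular 2 M) {P : Sylow 2 G}
    (hab : ∀ a ∈ (P : Subgroup G), ∀ b ∈ (P : Subgroup G), a * b = b * a)
    (hCN : (Subgroup.centralizer ((P : Subgroup G) : Set G)).relIndex
      (Subgroup.normalizer ((P : Subgroup G) : Set G)) = 3)
    (hfrob : ∀ y : G, y ∈ (P : Subgroup G) → y ≠ 1 → Subgroup.centralizer ({y} : Set G)
      ⊓ Subgroup.normalizer ((P : Subgroup G) : Set G)
        = Subgroup.centralizer ((P : Subgroup G) : Set G))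
    (hm2 : 4 < Nat.card (P : Subgroup G))
    {X Y : Set (IrrCharacter G)} {a : IrrCharacter G → ℤ} {δ : ℤ}
    {ζ : (↥(P : Subgroup G) →* ℂˣ) → IrrCharacter G} (h : BData 2 M P X Y a δ ζ)
    (χ₁ χ₂ χ₃ : IrrCharacter G) (h12 : χ₁ ≠ χ₂) (h13 : χ₁ ≠ χ₃) (h23 : χ₂ ≠ χ₃)
    (hX : X = {χ₁, χ₂, χ₃}) (hχ₁ : (χ₁ : G → ℂ) = fun _ => 1)
    (t : G) (htP : t ∈ (P : Subgroup G)) (ht : orderOf t = 2)
    (htn : ∀ K : Subgroup G, K.Normal → t ∈ K → K = ⊤)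
    (η : IrrCharacter G) (hη : η ∈ Y) :
    ((if a χ₂ = -1 then 1 else 0) + (if a χ₃ = -1 then 1 else 0) + (if δ = 1 then 1 else 0) = 2)
      ∧ IsSquare (charDegree (η : G → ℂ) * charDegree (χ₂ : G → ℂ)
        * charDegree (χ₃ : G → ℂ)) := by
  haveI hpf : Fact (Nat.Prime 2) := ⟨Nat.prime_two⟩
  have hχ₁X : χ₁ ∈ X := by rw [hX]; simp
  have hχ₂X : χ₂ ∈ X := by rw [hX]; simp
  have hχ₃X : χ₃ ∈ X := by rw [hX]; simp
  have htt : t * t = 1 := by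
    have := pow_orderOf_eq_one t
    rw [ht, pow_two] at this
    exact this
  have ht1 : t ≠ 1 := by
    rintro rfl
    rw [orderOf_one] at ht
    omega
  have ha₁ := h.a_one χ₁ hχ₁X hχ₁ htP ht1
  have hreg1 : ¬ 2 ∣ orderOf (1 : G) := by
    rw [orderOf_one]
    norm_num
  -- degrees and values
  obtain ⟨x₂, hx₂⟩ : ∃ x₂ : ℕ, x₂ = charDegree (χ₂ : G → ℂ) := ⟨_, rfl⟩
  obtain ⟨x₃, hx₃⟩ : ∃ x₃ : ℕ, x₃ = charDegree (χ₃ : G → ℂ) := ⟨_, rfl⟩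
  obtain ⟨f, hf⟩ : ∃ f : ℕ, f = charDegree (η : G → ℂ) := ⟨_, rfl⟩
  have hx₂1 : (χ₂ : G → ℂ) 1 = (x₂ : ℂ) := by rw [hx₂]; exact apply_one_eq_charDegree χ₂
  have hx₃1 : (χ₃ : G → ℂ) 1 = (x₃ : ℂ) := by rw [hx₃]; exact apply_one_eq_charDegree χ₃
  have hf1 : (η : G → ℂ) 1 = (f : ℂ) := by rw [hf]; exact apply_one_eq_charDegree η
  have hx₂pos : 0 < x₂ := by rw [hx₂]; exact charDegree_pos' χ₂
  have hx₃pos : 0 < x₃ := by rw [hx₃]; exact charDegree_pos' χ₃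
  have hfpos : 0 < f := by rw [hf]; exact charDegree_pos' η
  have hL1 := reg_split h χ₁ χ₂ χ₃ h12 h13 h23 hX hχ₁ ha₁ η hη 1 hreg1
  rw [hx₂1, hx₃1, hf1] at hL1
  have h1 : 1 + a χ₂ * x₂ + a χ₃ * x₃ - δ * f = 0 := by
    have : ((1 + a χ₂ * x₂ + a χ₃ * x₃ - δ * f : ℤ) : ℂ) = 0 := by
      push_cast
      exact hL1
    exact_mod_cast this
  -- a good element
  obtain ⟨y, hyP, hy1, hyn⟩ := exists_good P hCN t htP hm2
  obtain ⟨k, hk, hppy⟩ := isPPart_self P hyP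
  obtain ⟨kt, -, hppt⟩ := isPPart_self P htP
  obtain ⟨K, hKn, hKp, hidx, j, hj⟩ := exists_complement P hab y hyP (hfrob y hyP hy1)
  have hno : ∀ u v : G, IsConj t u → IsConj t v →
      ∀ h' : Subgroup.centralizer ({y} : Set G), h' ∈ K → u * v ≠ y * (h' : G) := by
    intro u v hu hv h' hh' huv
    by_cases hyy : y * y = 1
    · obtain ⟨x₁, hx₁, x₂', hx₂', hy12⟩ :=
        two_pairs P hab hCN hfrob htP htt hyP hyy K hKp hidx hu hv h' hh' huv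
      rcases prod_conj_cases P hab hCN hfrob htP htt hx₁ hx₂' with h3 | ⟨x, hx, h3⟩
      · exact hy1 (hy12.trans h3)
      · exact hyn x hx (hy12.trans h3)
    · exact no_pairs_of_sq_ne P hab hCN hfrob hyP hyy K hKp (conj_sq_eq_one htt hu)
        (conj_sq_eq_one htt hv) h' hh' huv
  have hstar := star_split hM h χ₁ χ₂ χ₃ h12 h13 h23 hX t ht y k hk K hKp j hj hno
  have hv₂y := (h.hV χ₂ hχ₂X).2 y y hppy hyP hy1
  have hv₃y := (h.hV χ₃ hχ₃X).2 y y hppy hyP hy1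
  have hv₂t := (h.hV χ₂ hχ₂X).2 t t hppt htP ht1
  have hv₃t := (h.hV χ₃ hχ₃X).2 t t hppt htP ht1
  have hYsum := y_sum_two hab hCN hfrob h htP ht hyP hy1 hyn
  have hY2 : ∑ᶠ η' ∈ Y, ((η' : G → ℂ) t * (η' : G → ℂ) t / (η' : G → ℂ) 1) * (η' : G → ℂ) y
      = (1 / (f : ℂ)) * ∑ᶠ η' ∈ Y, ((η' : G → ℂ) t) ^ 2 * (η' : G → ℂ) y := by
    rw [mul_finsum_mem' _ _ (Set.toFinite Y)]
    apply finsum_mem_congr rfl
    intro η' hη'
    rw [h.hE η' hη' η hη 1 hreg1, hf1]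
    ring
  rw [hχ₁, hv₂y, hv₃y, hv₂t, hv₃t, hx₂1, hx₃1, hY2, hYsum] at hstar
  have ha₂sq : (a χ₂ : ℂ) * (a χ₂ : ℂ) = 1 := by
    rcases (h.hV χ₂ hχ₂X).1 with h' | h' <;> rw [h'] <;> norm_num
  have ha₃sq : (a χ₃ : ℂ) * (a χ₃ : ℂ) = 1 := by
    rcases (h.hV χ₃ hχ₃X).1 with h' | h' <;> rw [h'] <;> norm_num
  rw [ha₂sq, ha₃sq] at hstar
  have h2 : (1 : ℚ) + a χ₂ / x₂ + a χ₃ / x₃ - 9 * δ / f = 0 := by
    have : (((1 : ℚ) + a χ₂ / x₂ + a χ₃ / x₃ - 9 * δ / f : ℚ) : ℂ) = 0 := by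
      push_cast
      linear_combination hstar
    exact_mod_cast this
  -- the kernel conditions
  have hne₂ : (χ₂ : G → ℂ) ≠ fun _ => 1 := by
    intro hh
    apply h12
    apply Subtype.ext
    rw [hχ₁, hh]
  have hne₃ : (χ₃ : G → ℂ) ≠ fun _ => 1 := by
    intro hh
    apply h13
    apply Subtype.ext
    rw [hχ₁, hh]
  have hk₂ : ¬ (a χ₂ = 1 ∧ x₂ = 1) := by
    rintro ⟨e1, e2⟩
    apply apply_ne_of_ne_one χ₂ hne₂ t htn
    rw [hv₂t, hx₂1, e1, e2]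
    simp
  have hk₃ : ¬ (a χ₃ = 1 ∧ x₃ = 1) := by
    rintro ⟨e1, e2⟩
    apply apply_ne_of_ne_one χ₃ hne₃ t htn
    rw [hv₃t, hx₃1, e1, e2]
    simp
  have hcore := two_core (a χ₂) (a χ₃) δ (h.hV χ₂ hχ₂X).1 (h.hV χ₃ hχ₃X).1 h.hδ x₂ x₃ f
    hx₂pos hx₃pos hfpos h1 h2 hk₂ hk₃
  rw [← hf, ← hx₂, ← hx₃]
  exact hcore

end Cfsg.Agent.Lib.Helper5.Leon
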