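import Mathlib
import Cfsg.Prelude.Def_Blocks
import Cfsg.Agent.Lib.Helper5.Leon10

/-!
# Assembly of S4721
-/

set_option autoImplicit false
set_option linter.style.haveILetI false
set_option linter.unusedSectionVars false

namespace Cfsg.Agent.Lib.Helper5.Leon

open Cfsg Cfsg.Agent.Lib.helper3.Irr Cfsg.Agent.Lib.helper3.CharBasic
open Cfsg.Agent.Lib.helper3.Block

universe u

theorem set_sub {ι : Type*} (X : Set ι) (χ₁ χ₂ χ₃ : ι) (hX : X = {χ₁, χ₂, χ₃}) (Q : ι → Prop)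
    (hQ₁ : ¬ Q χ₁) (hQ₂ : Q χ₂) (hQ₃ : Q χ₃) : {χ | χ ∈ X ∧ Q χ} = {χ₂, χ₃} := by
  ext χ
  rw [hX]
  simp only [Set.mem_setOf_eq, Set.mem_insert_iff, Set.mem_singleton_iff]
  constructor
  · rintro ⟨h | h | h, hq⟩
    · rw [h] at hq; exact absurd hq hQ₁
    · left; exact h
    · right; exact h
  · rintro (h | h)
    · rw [h]; exact ⟨Or.inr (Or.inl rfl), hQ₂⟩
    · rw [h]; exact ⟨Or.inr (Or.inr rfl), hQ₃⟩

open Classical in
theorem card_sub {ι : Type*} (X : Set ι) (χ₁ χ₂ χ₃ : ι) (h23 : χ₂ ≠ χ₃)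
    (hX : X = {χ₁, χ₂, χ₃}) (Q R : ι → Prop)
    (hQ₁ : ¬ Q χ₁) (hQ₂ : Q χ₂) (hQ₃ : Q χ₃) :
    Nat.card {χ : ι // χ ∈ X ∧ Q χ ∧ R χ}
      = (if R χ₂ then 1 else 0) + (if R χ₃ then 1 else 0) := by
  have hset : {χ : ι | χ ∈ X ∧ Q χ ∧ R χ} = {χ | χ ∈ ({χ₂, χ₃} : Set ι) ∧ R χ} := by
    have h := set_sub X χ₁ χ₂ χ₃ hX Q hQ₁ hQ₂ hQ₃
    ext χ
    have h' : χ ∈ {χ | χ ∈ X ∧ Q χ} ↔ χ ∈ ({χ₂, χ₃} : Set ι) := by rw [h]
    simp only [Set.mem_setOf_eq] at h' ⊢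
    rw [← and_assoc, h']
  have hc : Nat.card {χ : ι // χ ∈ X ∧ Q χ ∧ R χ}
      = Set.ncard {χ : ι | χ ∈ X ∧ Q χ ∧ R χ} := rfl
  rw [hc, hset]
  by_cases h2 : R χ₂ <;> by_cases h3 : R χ₃
  · have : {χ | χ ∈ ({χ₂, χ₃} : Set ι) ∧ R χ} = {χ₂, χ₃} := by
      ext χ
      simp only [Set.mem_setOf_eq, Set.mem_insert_iff, Set.mem_singleton_iff]
      constructor
      · rintro ⟨h, -⟩; exact h
      · rintro (h | h) <;> rw [h]
        · exact ⟨Or.inl rfl, h2⟩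
        · exact ⟨Or.inr rfl, h3⟩
    rw [this, Set.ncard_pair h23, if_pos h2, if_pos h3]
  · have : {χ | χ ∈ ({χ₂, χ₃} : Set ι) ∧ R χ} = {χ₂} := by
      ext χ
      simp only [Set.mem_setOf_eq, Set.mem_insert_iff, Set.mem_singleton_iff]
      constructor
      · rintro ⟨h | h, hr⟩
        · exact h
        · rw [h] at hr; exact absurd hr h3
      · intro h; rw [h]; exact ⟨Or.inl rfl, h2⟩
    rw [this, Set.ncard_singleton, if_pos h2, if_neg h3]
  · have : {χ | χ ∈ ({χ₂, χ₃} : Set ι) ∧ R χ} = {χ₃} := by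
      ext χ
      simp only [Set.mem_setOf_eq, Set.mem_insert_iff, Set.mem_singleton_iff]
      constructor
      · rintro ⟨h | h, hr⟩
        · rw [h] at hr; exact absurd hr h2
        · exact h
      · intro h; rw [h]; exact ⟨Or.inr rfl, h3⟩
    rw [this, Set.ncard_singleton, if_neg h2, if_pos h3]
  · have : {χ | χ ∈ ({χ₂, χ₃} : Set ι) ∧ R χ} = ∅ := by
      ext χ
      simp only [Set.mem_setOf_eq, Set.mem_insert_iff, Set.mem_singleton_iff,
        Set.mem_empty_iff_false, iff_false]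
      rintro ⟨h | h, hr⟩
      · rw [h] at hr; exact h2 hr
      · rw [h] at hr; exact h3 hr
    rw [this, Set.ncard_empty, if_neg h2, if_neg h3]

/-- An involution is conjugate to an element of a given Sylow `2`-subgroup. -/
theorem exists_conj_mem_sylow {G : Type u} [Group G] [Finite G] (P : Sylow 2 G) (t : G)
    (ht : orderOf t = 2) : ∃ g : G, g * t * g⁻¹ ∈ (P : Subgroup G) := by
  haveI : Fact (Nat.Prime 2) := ⟨Nat.prime_two⟩
  have hPt : IsPGroup 2 (Subgroup.zpowers t) :=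
    IsPGroup.of_card (n := 1) (by rw [Nat.card_zpowers, ht, pow_one])
  obtain ⟨Q, hQ⟩ := hPt.exists_le_sylow
  obtain ⟨g, hg⟩ := MulAction.exists_smul_eq G Q P
  have htQ : t ∈ (Q : Subgroup G) := hQ (Subgroup.mem_zpowers t)
  refine ⟨g, ?_⟩
  rw [← hg, Sylow.coe_subgroup_smul, Subgroup.mem_pointwise_smul_iff_inv_smul_mem]
  have : (MulAut.conj g)⁻¹ • (g * t * g⁻¹) = t := by
    rw [MulAut.smul_def, MulAut.conj_inv_apply]
    group
  rw [this]
  exact htQ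

end Cfsg.Agent.Lib.Helper5.Leon
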