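import Mathlib

/-!
# S3905, piece P3: the centerless lemma, abelian minimal normal subgroup

`N ⊴ G`, `Z(N) = 1`, `C_G(x)` a coatom for every `1 ≠ x ∈ N`, `A ≤ N` an abelian minimal normal
subgroup of `G`.  Then `N = A ⋊ ⟨x₀⟩` with `A` elementary abelian, `x₀` of prime order acting
fixed-point-freely.
-/

set_option autoImplicit false
set_option linter.unusedSectionVars false
set_option linter.style.haveILetI false

namespace Cfsg.Agent.Lib.Helper5.MaxCent

universe u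
variable {G : Type u} [Group G]

/-- the centralizer of an element -/
def M (x : G) : Subgroup G := Subgroup.centralizer ({x} : Set G)

theorem mem_M {x g : G} : g ∈ M x ↔ g * x = x * g := by
  unfold M
  rw [Subgroup.mem_centralizer_iff]
  constructor
  · intro h; exact (h x rfl).symm
  · intro h y hy
    rw [Set.mem_singleton_iff] at hy
    subst hy
    exact h.symm

theorem M_le_M_pow (x : G) (k : ℕ) : M x ≤ M (x ^ k) := by
  intro g hg
  rw [mem_M] at hg ⊢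
  exact (Commute.pow_right (show Commute g x from hg) k).eq

theorem exists_pow_eq_left {a b : G} (hab : Commute a b)
    (hcop : (orderOf a).Coprime (orderOf b)) : ∃ k : ℕ, (a * b) ^ k = a := by
  obtain ⟨k, hk1, hk2⟩ := Nat.chineseRemainder hcop 1 0
  refine ⟨k, ?_⟩
  rw [hab.mul_pow]
  have h1 : a ^ k = a ^ 1 := pow_eq_pow_iff_modEq.mpr hk1
  have h2 : b ^ k = b ^ 0 := pow_eq_pow_iff_modEq.mpr hk2
  rw [h1, h2, pow_one, pow_zero, mul_one]

theorem M_eq_of_le {x y : G} (hx : IsCoatom (M x)) (hy : M y ≠ ⊤) (h : M x ≤ M y) :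
    M x = M y := by
  rcases eq_or_lt_of_le h with h | h
  · exact h
  · exact absurd (hx.2 _ h) hy

/-- **Step 1**: commuting nontrivial elements of coprime orders have the same centralizer. -/
theorem M_eq_of_coprime (N : Subgroup G) (hM : ∀ x ∈ N, x ≠ 1 → IsCoatom (M x)) {x y : G}
    (hx : x ∈ N) (hy : y ∈ N) (hx1 : x ≠ 1) (hy1 : y ≠ 1) (hxy : Commute x y)
    (hcop : (orderOf x).Coprime (orderOf y)) : M x = M y := by
  have hxy1 : x * y ≠ 1 := by
    intro h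
    have hxe : x = y⁻¹ := eq_inv_of_mul_eq_one_left h
    have ho : orderOf x = orderOf y := by rw [hxe, orderOf_inv]
    rw [ho] at hcop
    have h1 : orderOf y = 1 := (Nat.coprime_self _).mp hcop
    exact hy1 (orderOf_eq_one_iff.mp h1)
  have hc := hM (x * y) (N.mul_mem hx hy) hxy1
  obtain ⟨k, hk⟩ := exists_pow_eq_left hxy hcop
  obtain ⟨l, hl⟩ := exists_pow_eq_left hxy.symm hcop.symm
  have e1 : M (x * y) = M x := by
    apply M_eq_of_le hc (hM x hx hx1).1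
    have := M_le_M_pow (x * y) k
    rwa [hk] at this
  have e2 : M (x * y) = M y := by
    apply M_eq_of_le hc (hM y hy hy1).1
    have := M_le_M_pow (y * x) l
    rw [hl] at this
    rwa [hxy.eq]
  rw [← e1, e2]

/-- splitting off the `p'`-part -/
theorem exists_pow_split [Finite G] (p : ℕ) (hp : p.Prime) (d : G) :
    ∃ e m : ℕ, ¬ p ∣ m ∧ (d ^ (p ^ e)) ^ m = 1 := by
  obtain ⟨e, m, hm, he⟩ := Nat.exists_eq_pow_mul_and_not_dvd (orderOf_pos d).ne' p hp.ne_one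
  refine ⟨e, m, hm, ?_⟩
  rw [← pow_mul, ← he, pow_orderOf_eq_one]

theorem mem_of_pow_mem_of_coprime (K : Subgroup G) (w : G) {a b : ℕ} (hab : a.Coprime b)
    (ha : w ^ a ∈ K) (hb : w ^ b ∈ K) : w ∈ K := by
  have h1 : (w ^ a) ^ (Nat.gcdA a b) * (w ^ b) ^ (Nat.gcdB a b) ∈ K :=
    K.mul_mem (K.zpow_mem ha _) (K.zpow_mem hb _)
  have h2 : (w ^ a) ^ (Nat.gcdA a b) * (w ^ b) ^ (Nat.gcdB a b) = w := by
    rw [← zpow_natCast, ← zpow_natCast, ← zpow_mul, ← zpow_mul, ← zpow_add,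
      ← Nat.gcd_eq_gcd_ab, hab.gcd_eq_one]
    simp
  rwa [h2] at h1

/-- an element acting as a `p`-element on the elementary abelian `p`-group `A ≠ 1` has a
nontrivial fixed point -/
theorem exists_fixed [Finite G] (A : Subgroup G) [A.Normal] {p : ℕ} (hp : p.Prime)
    (hAp : ∀ a ∈ A, a ^ p = 1) (hA1 : A ≠ ⊥) (t : G) (j : ℕ)
    (ht : ∀ a ∈ A, t ^ (p ^ j) * a = a * t ^ (p ^ j)) :
    ∃ a ∈ A, a ≠ 1 ∧ t * a = a * t := by
  haveI := Fact.mk hp
  set φ : MulAut A := MulAut.conjNormal t with hφ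
  have hφp : φ ^ (p ^ j) = 1 := by
    rw [hφ, ← map_pow]
    ext a
    rw [MulAut.conjNormal_apply, MulAut.one_apply, ht a a.2, mul_assoc, mul_inv_cancel, mul_one]
  have hS : IsPGroup p (Subgroup.zpowers φ) := by
    obtain ⟨i, _, hi⟩ := (Nat.dvd_prime_pow hp).mp (orderOf_dvd_of_pow_eq_one hφp)
    exact IsPGroup.of_card (n := i) (by rw [Nat.card_zpowers, hi])
  have hApg : IsPGroup p A := by
    intro a
    refine ⟨1, ?_⟩
    ext
    rw [pow_one, Subgroup.coe_pow, hAp a a.2, Subgroup.coe_one]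
  have hdvd : p ∣ Nat.card A := by
    rcases hApg.card_eq_or_dvd with h | h
    · exact absurd (Subgroup.card_eq_one.mp h) hA1
    · exact h
  have h1 : (1 : A) ∈ MulAction.fixedPoints (Subgroup.zpowers φ) A := by
    intro s
    rw [Subgroup.smul_def, MulAut.smul_def, map_one]
  obtain ⟨b, hb, hb1⟩ := hS.exists_fixed_point_of_prime_dvd_card_of_fixed_point A hdvd h1
  refine ⟨b, b.2, ?_, ?_⟩
  · intro h
    exact hb1 (Subtype.ext h.symm)
  · have h2 := hb ⟨φ, Subgroup.mem_zpowers φ⟩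
    rw [Subgroup.smul_def, MulAut.smul_def] at h2
    have h3 : ((φ b : A) : G) = b := congrArg Subtype.val h2
    rw [hφ, MulAut.conjNormal_apply] at h3
    calc t * (b : G) = (t * b * t⁻¹) * t := by group
      _ = b * t := by rw [h3]

section main

variable [Finite G] (N : Subgroup G)
  (hZ : ∀ x ∈ N, (∀ y ∈ N, x * y = y * x) → x = 1)
  (hM : ∀ x ∈ N, x ≠ 1 → IsCoatom (M x))
  (A : Subgroup G) [A.Normal] (hAN : A ≤ N) (hA1 : A ≠ ⊥)
  (hAmin : ∀ B : Subgroup G, B.Normal → B ≤ A → B = ⊥ ∨ B = A)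
  (hAab : ∀ a ∈ A, ∀ b ∈ A, a * b = b * a)

include hA1 hAmin hAab in
theorem exists_prime_exp : ∃ p : ℕ, p.Prime ∧ ∀ a ∈ A, a ^ p = 1 := by
  have hcard : Nat.card A ≠ 1 := fun h => hA1 (Subgroup.card_eq_one.mp h)
  obtain ⟨p, hp, hpd⟩ := Nat.exists_prime_and_dvd hcard
  haveI := Fact.mk hp
  obtain ⟨x, hx⟩ := exists_prime_orderOf_dvd_card' p hpd
  let B : Subgroup G :=
    { carrier := {a | a ∈ A ∧ a ^ p = 1}
      one_mem' := ⟨A.one_mem, one_pow _⟩
      mul_mem' := by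
        rintro a b ⟨ha, hap⟩ ⟨hb, hbp⟩
        refine ⟨A.mul_mem ha hb, ?_⟩
        rw [(show Commute a b from hAab a ha b hb).mul_pow, hap, hbp, one_mul]
      inv_mem' := by
        rintro a ⟨ha, hap⟩
        exact ⟨A.inv_mem ha, by rw [inv_pow, hap, inv_one]⟩ }
  have hBn : B.Normal := by
    constructor
    rintro a ⟨ha, hap⟩ g
    refine ⟨‹A.Normal›.conj_mem a ha g, ?_⟩
    rw [conj_pow, hap, mul_one, mul_inv_cancel]
  have hBA : B ≤ A := fun a ha => ha.1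
  refine ⟨p, hp, ?_⟩
  rcases hAmin B hBn hBA with h | h
  · exfalso
    have hxB : (x : G) ∈ B := by
      refine ⟨x.2, ?_⟩
      rw [← Subgroup.coe_pow, ← hx, pow_orderOf_eq_one, Subgroup.coe_one]
    rw [h, Subgroup.mem_bot] at hxB
    have hx1 : x = 1 := Subtype.ext hxB
    rw [hx1, orderOf_one] at hx
    exact hp.one_lt.ne' hx.symm
  · intro a ha
    have : a ∈ B := h ▸ ha
    exact this.2

include hM hAmin hAab in
/-- (i) -/
theorem inf_M_eq_bot {x : G} (hx : x ∈ N) (hAx : ¬ A ≤ M x) :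
    A ⊓ M x = ⊥ ∧ A ⊔ M x = ⊤ := by
  have hx1 : x ≠ 1 := by
    rintro rfl
    apply hAx
    intro a _
    rw [mem_M, mul_one, one_mul]
  have hc := hM x hx hx1
  have htop : A ⊔ M x = ⊤ := by
    apply hc.2
    refine lt_of_le_of_ne le_sup_right ?_
    intro h
    apply hAx
    rw [h]
    exact le_sup_left
  refine ⟨?_, htop⟩
  have hBn : (A ⊓ M x).Normal := by
    constructor
    intro b hb g
    have hg : g ∈ A ⊔ M x := by rw [htop]; trivial
    rw [← SetLike.mem_coe, Subgroup.normal_mul] at hg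
    obtain ⟨a, ha, m, hm, rfl⟩ := hg
    have h1 : m * b * m⁻¹ ∈ A ⊓ M x :=
      ⟨‹A.Normal›.conj_mem b hb.1 m, (M x).mul_mem ((M x).mul_mem hm hb.2) ((M x).inv_mem hm)⟩
    have h2 : a * m * b * (a * m)⁻¹ = a * (m * b * m⁻¹) * a⁻¹ := by group
    have h3 : a * (m * b * m⁻¹) * a⁻¹ = m * b * m⁻¹ := by
      rw [hAab a ha _ h1.1, mul_assoc, mul_inv_cancel, mul_one]
    rw [h2, h3]
    exact h1
  rcases hAmin _ hBn inf_le_left with h | h
  · exact h
  · exfalso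
    apply hAx
    rw [← h]
    exact inf_le_right

omit [Finite G] in
theorem exists_decomp {x : G} (htop : A ⊔ M x = ⊤) {n : G} (hn : n ∈ N) (hAN : A ≤ N) :
    ∃ a ∈ A, ∃ m, m ∈ N ∧ m ∈ M x ∧ n = a * m := by
  have hg : n ∈ A ⊔ M x := by rw [htop]; trivial
  rw [← SetLike.mem_coe, Subgroup.normal_mul] at hg
  obtain ⟨a, ha, m, hm, rfl⟩ := hg
  refine ⟨a, ha, m, ?_, hm, rfl⟩
  have : m = a⁻¹ * (a * m) := by group
  rw [this]
  exact N.mul_mem (N.inv_mem (hAN ha)) hn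

include hZ hA1 hAN in
omit [Finite G] [A.Normal] in
/-- (ii) -/
theorem exists_not_le : ∃ x ∈ N, ¬ A ≤ M x := by
  by_contra hcon
  push Not at hcon
  apply hA1
  rw [Subgroup.eq_bot_iff_forall]
  intro a ha
  apply hZ a (hAN ha)
  intro y hy
  have := hcon y hy ha
  rw [mem_M] at this
  exact this

include hM hA1 hAN hAmin hAab in
/-- reduction to a `p'`-element not centralizing `A` -/
theorem exists_not_le_coprime {p : ℕ} (hp : p.Prime) (hAp : ∀ a ∈ A, a ^ p = 1)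
    {x : G} (hx : x ∈ N) (hAx : ¬ A ≤ M x) :
    ∃ z ∈ N, ¬ A ≤ M z ∧ (orderOf z).Coprime p := by
  obtain ⟨e, m, hm, hem⟩ := exists_pow_split p hp x
  refine ⟨x ^ (p ^ e), N.pow_mem hx _, ?_, ?_⟩
  · intro hz
    obtain ⟨a, ha, ha1, hta⟩ := exists_fixed A hp hAp hA1 x e (fun a ha => by
      have := hz ha
      rw [mem_M] at this
      exact this.symm)
    have hbot := (inf_M_eq_bot N hM A hAmin hAab hx hAx).1
    have : a ∈ A ⊓ M x := Subgroup.mem_inf.mpr ⟨ha, mem_M.mpr hta.symm⟩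
    rw [hbot, Subgroup.mem_bot] at this
    exact ha1 this
  · have h1 : orderOf (x ^ (p ^ e)) ∣ m := orderOf_dvd_of_pow_eq_one hem
    exact Nat.Coprime.coprime_dvd_left h1 ((Nat.Prime.coprime_iff_not_dvd hp).mpr hm).symm

include hZ hM hA1 hAN hAmin hAab in
/-- (iii): `C_N(A) ≤ A` -/
theorem cent_le {p : ℕ} (hp : p.Prime) (hAp : ∀ a ∈ A, a ^ p = 1) :
    ∀ c ∈ N, A ≤ M c → c ∈ A := by
  obtain ⟨x₁, hx₁, hAx₁⟩ := exists_not_le N hZ A hAN hA1
  obtain ⟨x, hx, hAx, hxp⟩ := exists_not_le_coprime N hM A hAN hA1 hAmin hAab hp hAp hx₁ hAx₁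
  obtain ⟨hbot, htop⟩ := inf_M_eq_bot N hM A hAmin hAab hx hAx
  have hx1 : x ≠ 1 := by
    rintro rfl
    apply hAx
    intro a _
    rw [mem_M, mul_one, one_mul]
  intro c hc hAc
  obtain ⟨a, ha, d, hdN, hdx, rfl⟩ := exists_decomp N A htop hc hAN
  have hAd : A ≤ M d := by
    intro b hb
    have h1 := hAc hb
    rw [mem_M] at h1 ⊢
    -- b (a d) = (a d) b, and b a = a b
    have h2 : b * a = a * b := hAab b hb a ha
    have h3 : a * (b * d) = a * (d * b) := by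
      rw [← mul_assoc, ← h2, mul_assoc, ← mul_assoc a d b, ← h1]
    exact mul_left_cancel h3
  suffices hd1 : d = 1 by rw [hd1, mul_one]; exact ha
  by_contra hd1
  obtain ⟨a₀, ha₀, ha₀1⟩ : ∃ a₀ ∈ A, a₀ ≠ 1 := by
    by_contra hcon
    push Not at hcon
    exact hA1 ((Subgroup.eq_bot_iff_forall _).mpr hcon)
  obtain ⟨e, m, hm, hem⟩ := exists_pow_split p hp d
  by_cases hz1 : d ^ (p ^ e) = 1
  · -- `d` is a `p`-element
    have hcop : (orderOf d).Coprime (orderOf x) :=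
      Nat.Coprime.coprime_dvd_left (orderOf_dvd_of_pow_eq_one hz1) (Nat.Coprime.pow_left _ hxp.symm)
    have hdx' : Commute d x := by rw [mem_M] at hdx; exact hdx
    have hMM := M_eq_of_coprime N hM hdN hx hd1 hx1 hdx' hcop
    exact hAx (hMM ▸ hAd)
  · -- nontrivial `p'`-power
    set z := d ^ (p ^ e) with hz
    have hzN : z ∈ N := N.pow_mem hdN _
    have hAz : A ≤ M z := hAd.trans (M_le_M_pow d _)
    have hcop : (orderOf a₀).Coprime (orderOf z) := by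
      have h1 : orderOf z ∣ m := orderOf_dvd_of_pow_eq_one hem
      have h2 : orderOf a₀ ∣ p := orderOf_dvd_of_pow_eq_one (hAp a₀ ha₀)
      exact Nat.Coprime.coprime_dvd_left h2
        (Nat.Coprime.coprime_dvd_right h1 ((Nat.Prime.coprime_iff_not_dvd hp).mpr hm))
    have hcomm : Commute a₀ z := by
      have := hAz ha₀
      rw [mem_M] at this
      exact this
    have hMM := M_eq_of_coprime N hM (hAN ha₀) hzN ha₀1 hz1 hcomm hcop
    have hxz : x ∈ M z := by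
      have h1 : x ∈ M d := by rw [mem_M] at hdx ⊢; exact hdx.symm
      exact M_le_M_pow d _ h1
    rw [← hMM] at hxz
    have : a₀ ∈ A ⊓ M x := Subgroup.mem_inf.mpr ⟨ha₀, by rw [mem_M] at hxz ⊢; exact hxz.symm⟩
    rw [hbot, Subgroup.mem_bot] at this
    exact ha₀1 this

include hZ hM hA1 hAN hAmin hAab in
/-- (iv), first half -/
theorem free_and_decomp {p : ℕ} (hp : p.Prime) (hAp : ∀ a ∈ A, a ^ p = 1) {x : G} (hx : x ∈ N)
    (hxA : x ∉ A) :
    (∀ a ∈ A, a * x = x * a → a = 1) ∧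
      (∀ n ∈ N, ∃ a ∈ A, ∃ m, m ∈ N ∧ m ∈ M x ∧ n = a * m) := by
  have hAx : ¬ A ≤ M x := fun h => hxA (cent_le N hZ hM A hAN hA1 hAmin hAab hp hAp x hx h)
  obtain ⟨hbot, htop⟩ := inf_M_eq_bot N hM A hAmin hAab hx hAx
  constructor
  · intro a ha hax
    have : a ∈ A ⊓ M x := Subgroup.mem_inf.mpr ⟨ha, mem_M.mpr hax⟩
    rw [hbot, Subgroup.mem_bot] at this
    exact this
  · intro n hn
    exact exists_decomp N A htop hn hAN

include hZ hM hA1 hAN hAmin hAab in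
/-- (iv): `p`-elements of `N` lie in `A` -/
theorem pElement_mem {p : ℕ} (hp : p.Prime) (hAp : ∀ a ∈ A, a ^ p = 1) {t : G} (ht : t ∈ N)
    (j : ℕ) (htp : t ^ (p ^ j) = 1) : t ∈ A := by
  by_contra htA
  obtain ⟨a, ha, ha1, hta⟩ := exists_fixed A hp hAp hA1 t j (fun a _ => by rw [htp, one_mul, mul_one])
  exact ha1 ((free_and_decomp N hZ hM A hAN hA1 hAmin hAab hp hAp ht htA).1 a ha hta.symm)

include hZ hM hA1 hAN hAmin hAab in
/-- (iv): an element of prime order `r ≠ p` outside `A` -/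
theorem exists_prime_order {p : ℕ} (hp : p.Prime) (hAp : ∀ a ∈ A, a ^ p = 1) :
    ∃ (r : ℕ) (x₀ : G), r.Prime ∧ p ≠ r ∧ x₀ ∈ N ∧ x₀ ∉ A ∧ orderOf x₀ = r := by
  obtain ⟨x₁, hx₁, hAx₁⟩ := exists_not_le N hZ A hAN hA1
  have hx₁A : x₁ ∉ A := by
    intro h
    apply hAx₁
    intro a ha
    rw [mem_M]
    exact hAab a ha x₁ h
  -- element of minimal order outside `A`
  have hex : ∃ k : ℕ, ∃ x ∈ N, x ∉ A ∧ orderOf x = k := ⟨_, x₁, hx₁, hx₁A, rfl⟩
  classical
  obtain ⟨x, hx, hxA, hxo⟩ := Nat.find_spec hex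
  have hmin : ∀ y ∈ N, y ∉ A → orderOf x ≤ orderOf y := by
    intro y hy hyA
    rw [hxo]
    exact Nat.find_min' hex ⟨y, hy, hyA, rfl⟩
  have hx1 : x ≠ 1 := by
    rintro rfl
    exact hxA A.one_mem
  have ho1 : orderOf x ≠ 1 := fun h => hx1 (orderOf_eq_one_iff.mp h)
  set r := (orderOf x).minFac with hr
  have hrp : r.Prime := Nat.minFac_prime ho1
  have hrd : r ∣ orderOf x := Nat.minFac_dvd _
  have hxr : x ^ r ∈ A := by
    by_contra hcon
    have h1 := hmin (x ^ r) (N.pow_mem hx r) hcon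
    have h2 : orderOf (x ^ r) = orderOf x / r := orderOf_pow_of_dvd hrp.ne_zero hrd
    rw [h2] at h1
    have h3 : orderOf x / r < orderOf x := Nat.div_lt_self (orderOf_pos x) hrp.one_lt
    omega
  have hxr1 : x ^ r = 1 := by
    apply (free_and_decomp N hZ hM A hAN hA1 hAmin hAab hp hAp hx hxA).1 _ hxr
    exact (Commute.pow_left (Commute.refl x) r).eq
  have hox : orderOf x = r := by
    rcases (Nat.dvd_prime hrp).mp (orderOf_dvd_of_pow_eq_one hxr1) with h | h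
    · exact absurd h ho1
    · exact h
  refine ⟨r, x, hrp, ?_, hx, hxA, hox⟩
  intro hpr
  apply hxA
  apply pElement_mem N hZ hM A hAN hA1 hAmin hAab hp hAp hx 1
  rw [pow_one, hpr]
  exact hxr1

include hZ hM hA1 hAN hAmin hAab in
/-- (d'): no normal subgroup of `G` strictly between `A` and `N` -/
theorem normal_between {p : ℕ} (hp : p.Prime) (hAp : ∀ a ∈ A, a ^ p = 1) (Y : Subgroup G)
    (hYn : Y.Normal) (hAY : A ≤ Y) (hYN : Y ≤ N) : Y = A ∨ Y = N := by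
  obtain ⟨a₀, ha₀, ha₀1⟩ : ∃ a₀ ∈ A, a₀ ≠ 1 := by
    by_contra hcon
    push Not at hcon
    exact hA1 ((Subgroup.eq_bot_iff_forall _).mpr hcon)
  have hc := hM a₀ (hAN ha₀) ha₀1
  have hNM : ∀ n ∈ N, n ∈ M a₀ → n ∈ A := by
    intro n hn hnM
    by_contra hnA
    apply ha₀1
    apply (free_and_decomp N hZ hM A hAN hA1 hAmin hAab hp hAp hn hnA).1 a₀ ha₀
    rw [mem_M] at hnM
    exact hnM.symm
  by_cases hYM : Y ≤ M a₀
  · left
    exact le_antisymm (fun y hy => hNM y (hYN hy) (hYM hy)) hAY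
  · right
    have htop : Y ⊔ M a₀ = ⊤ := by
      apply hc.2
      refine lt_of_le_of_ne le_sup_right ?_
      intro h
      apply hYM
      rw [h]
      exact le_sup_left
    apply le_antisymm hYN
    intro n hn
    have hg : n ∈ Y ⊔ M a₀ := by rw [htop]; trivial
    rw [← SetLike.mem_coe, Subgroup.normal_mul] at hg
    obtain ⟨y, hy, m, hm, rfl⟩ := hg
    have hmN : m ∈ N := by
      have : m = y⁻¹ * (y * m) := by group
      rw [this]
      exact N.mul_mem (N.inv_mem (hYN hy)) hn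
    exact Y.mul_mem hy (hAY (hNM m hmN hm))

end main

theorem pow_decomp (A : Subgroup G) [A.Normal] {a : G} (ha : a ∈ A) (h : G) (k : ℕ) :
    ∃ a' ∈ A, (a * h) ^ k = a' * h ^ k := by
  induction k with
  | zero => exact ⟨1, A.one_mem, by simp⟩
  | succ k ih =>
    obtain ⟨a', ha', he⟩ := ih
    refine ⟨a' * (h ^ k * a * (h ^ k)⁻¹), A.mul_mem ha' (‹A.Normal›.conj_mem a ha _), ?_⟩
    rw [pow_succ, he, pow_succ]
    group

theorem sup_normal_of_conj (A S : Subgroup G) [A.Normal]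
    (h : ∀ s ∈ S, ∀ g : G, g * s * g⁻¹ ∈ A ⊔ S) : (A ⊔ S).Normal := by
  constructor
  intro n hn g
  rw [← SetLike.mem_coe, Subgroup.normal_mul] at hn
  obtain ⟨a, ha, s, hs, rfl⟩ := hn
  have : g * (a * s) * g⁻¹ = (g * a * g⁻¹) * (g * s * g⁻¹) := by group
  rw [this]
  exact (A ⊔ S).mul_mem (Subgroup.mem_sup_left (‹A.Normal›.conj_mem a ha g)) (h s hs g)

/-- the commutative group structure on the abelian subgroup `A` -/
@[reducible] def commGroupOf (A : Subgroup G) (hAab : ∀ a ∈ A, ∀ b ∈ A, a * b = b * a) :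
    CommGroup A :=
  { (inferInstance : Group A) with mul_comm := fun a b => Subtype.ext (hAab a a.2 b b.2) }

theorem norm_fixed (A : Subgroup G) [A.Normal] (hAab : ∀ a ∈ A, ∀ b ∈ A, a * b = b * a) (r : ℕ)
    (e : G) (he : e ^ r = 1) (b : A) :
    letI := commGroupOf A hAab
    (MulAut.conjNormal e : MulAut A)
        (∏ j ∈ Finset.range r, (MulAut.conjNormal (e ^ j) : MulAut A) b) =
      ∏ j ∈ Finset.range r, (MulAut.conjNormal (e ^ j) : MulAut A) b := by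
  letI := commGroupOf A hAab
  rw [map_prod]
  have h1 : ∀ j, (MulAut.conjNormal e : MulAut A) ((MulAut.conjNormal (e ^ j) : MulAut A) b) =
      (MulAut.conjNormal (e ^ (j + 1)) : MulAut A) b := by
    intro j
    rw [pow_succ', map_mul, MulAut.mul_apply]
  simp_rw [h1]
  have h2 := Finset.prod_range_succ' (fun j => (MulAut.conjNormal (e ^ j) : MulAut A) b) r
  have h3 := Finset.prod_range_succ (fun j => (MulAut.conjNormal (e ^ j) : MulAut A) b) r
  rw [h2] at h3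
  simp only [he, pow_zero] at h3
  exact mul_right_cancel h3

section second

variable [Finite G] (N : Subgroup G) [N.Normal] (hM : ∀ x ∈ N, x ≠ 1 → IsCoatom (M x))
  (A : Subgroup G) [A.Normal] (hAN : A ≤ N) (hA1 : A ≠ ⊥)
  (hAab : ∀ a ∈ A, ∀ b ∈ A, a * b = b * a)
  (p r : ℕ) (hp : p.Prime) (hr : r.Prime) (hpr : p ≠ r) (hAp : ∀ a ∈ A, a ^ p = 1)
  (hfree : ∀ x ∈ N, x ∉ A → ∀ a ∈ A, a * x = x * a → a = 1)
  (hdec : ∀ x ∈ N, x ∉ A → ∀ n ∈ N, ∃ a ∈ A, ∃ m, m ∈ N ∧ m ∈ M x ∧ n = a * m)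
  (hbet : ∀ Y : Subgroup G, Y.Normal → A ≤ Y → Y ≤ N → Y = A ∨ Y = N)
  (x₀ : G) (hx₀ : x₀ ∈ N) (hx₀A : x₀ ∉ A) (hx₀r : orderOf x₀ = r)

include hfree hx₀ hx₀A in
theorem H_inter {h : G} (hH : h ∈ M x₀) (hA : h ∈ A) : h = 1 :=
  hfree x₀ hx₀ hx₀A h hA (mem_M.mp hH)

include hfree hdec hx₀ hx₀A in
theorem conj_decomp {s : G} (hsN : s ∈ N) (g : G) (k : ℕ) (hk : s ^ k = 1) :
    ∃ a' ∈ A, ∃ h', h' ∈ N ∧ h' ∈ M x₀ ∧ g * s * g⁻¹ = a' * h' ∧ h' ^ k = 1 := by
  have hgN : g * s * g⁻¹ ∈ N := ‹N.Normal›.conj_mem s hsN g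
  obtain ⟨a', ha', h', hh'N, hh'M, he⟩ := hdec x₀ hx₀ hx₀A _ hgN
  refine ⟨a', ha', h', hh'N, hh'M, he, ?_⟩
  obtain ⟨a'', ha'', he2⟩ := pow_decomp A ha' h' k
  have h1 : (a' * h') ^ k = 1 := by rw [← he, conj_pow, hk, mul_one, mul_inv_cancel]
  rw [h1] at he2
  have h2 : h' ^ k = a''⁻¹ := by
    have : a''⁻¹ * 1 = a''⁻¹ * (a'' * h' ^ k) := by rw [he2]
    rw [mul_one, ← mul_assoc, inv_mul_cancel, one_mul] at this
    exact this.symm
  apply H_inter N A hfree x₀ hx₀ hx₀A ((M x₀).pow_mem hh'M k)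
  rw [h2]
  exact A.inv_mem ha''

include hM hfree hdec hbet hx₀ hx₀A hx₀r hr hAN in
/-- (v), (vi): the `r'`-elements of `H = C_N(x₀)` are trivial -/
theorem coprime_part_trivial {h : G} (hhN : h ∈ N) (hhM : h ∈ M x₀)
    (hcop : (orderOf h).Coprime r) : h = 1 := by
  have hx₀1 : x₀ ≠ 1 := fun h => hx₀A (h ▸ A.one_mem)
  have hcomm : ∀ h h' : G, h ∈ N → h ∈ M x₀ → (orderOf h).Coprime r → h' ∈ M x₀ →
      Commute h h' := by
    intro h h' hN hMx hc hM'
    by_cases h1 : h = 1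
    · rw [h1]; exact Commute.one_left _
    · have hMM := M_eq_of_coprime N hM hN hx₀ h1 hx₀1 (mem_M.mp hMx) (by rw [hx₀r]; exact hc)
      rw [← hMM, mem_M] at hM'
      exact hM'.symm
  let B : Subgroup G :=
    { carrier := {h | h ∈ N ∧ h ∈ M x₀ ∧ (orderOf h).Coprime r}
      one_mem' := ⟨N.one_mem, (M x₀).one_mem, by rw [orderOf_one]; exact Nat.coprime_one_left _⟩
      mul_mem' := by
        rintro a b ⟨haN, haM, hac⟩ ⟨hbN, hbM, hbc⟩
        refine ⟨N.mul_mem haN hbN, (M x₀).mul_mem haM hbM, ?_⟩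
        have h1 := (hcomm a b haN haM hac hbM).orderOf_mul_dvd_lcm
        exact Nat.Coprime.coprime_dvd_left (h1.trans (Nat.lcm_dvd_mul _ _))
          (Nat.Coprime.mul_left hac hbc)
      inv_mem' := by
        rintro a ⟨haN, haM, hac⟩
        exact ⟨N.inv_mem haN, (M x₀).inv_mem haM, by rw [orderOf_inv]; exact hac⟩ }
  have hYn : (A ⊔ B).Normal := by
    apply sup_normal_of_conj
    rintro s ⟨hsN, hsM, hsc⟩ g
    obtain ⟨a', ha', h', hh'N, hh'M, he, hk⟩ :=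
      conj_decomp N A hfree hdec x₀ hx₀ hx₀A hsN g (orderOf s) (pow_orderOf_eq_one s)
    rw [he]
    refine (A ⊔ B).mul_mem (Subgroup.mem_sup_left ha') (Subgroup.mem_sup_right ?_)
    exact ⟨hh'N, hh'M, Nat.Coprime.coprime_dvd_left (orderOf_dvd_of_pow_eq_one hk) hsc⟩
  have hBN : B ≤ N := fun b hb => hb.1
  rcases hbet (A ⊔ B) hYn le_sup_left (sup_le hAN hBN) with hY | hY
  · have hb : h ∈ A ⊔ B := Subgroup.mem_sup_right ⟨hhN, hhM, hcop⟩
    rw [hY] at hb
    exact H_inter N A hfree x₀ hx₀ hx₀A hhM hb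
  · exfalso
    have hx : x₀ ∈ A ⊔ B := by rw [hY]; exact hx₀
    rw [← SetLike.mem_coe, Subgroup.normal_mul] at hx
    obtain ⟨a, ha, b, ⟨hbN, hbM, hbc⟩, he'⟩ := hx
    have he : a * b = x₀ := he'
    have hxM : x₀ ∈ M x₀ := mem_M.mpr rfl
    have ha2 : a = x₀ * b⁻¹ := by rw [← he]; group
    have ha1 : a = 1 := by
      apply H_inter N A hfree x₀ hx₀ hx₀A _ ha
      rw [ha2]
      exact (M x₀).mul_mem hxM ((M x₀).inv_mem hbM)
    rw [ha1, one_mul] at he
    rw [he, hx₀r, Nat.coprime_self] at hbc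
    exact hr.one_lt.ne' hbc

include hM hfree hdec hbet hx₀ hx₀A hx₀r hr hAN in
/-- `H` is an `r`-group -/
theorem H_rgroup {h : G} (hhN : h ∈ N) (hhM : h ∈ M x₀) : ∃ j : ℕ, h ^ (r ^ j) = 1 := by
  obtain ⟨e, m, hm, hem⟩ := exists_pow_split r hr h
  refine ⟨e, ?_⟩
  apply coprime_part_trivial N hM A hAN r hr hfree hdec hbet x₀ hx₀ hx₀A hx₀r (N.pow_mem hhN _)
    ((M x₀).pow_mem hhM _)
  exact Nat.Coprime.coprime_dvd_left (orderOf_dvd_of_pow_eq_one hem)
    ((Nat.Prime.coprime_iff_not_dvd hr).mpr hm).symm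

include hfree in
theorem norm_trivial {e : G} (heN : e ∈ N) (heA : e ∉ A) (her : e ^ r = 1) (b : A) :
    letI := commGroupOf A hAab
    ∏ j ∈ Finset.range r, (MulAut.conjNormal (e ^ j) : MulAut A) b = 1 := by
  letI := commGroupOf A hAab
  have h1 := norm_fixed A hAab r e her b
  set P : A := ∏ j ∈ Finset.range r, (MulAut.conjNormal (e ^ j) : MulAut A) b with hP
  have h2 : e * (P : G) * e⁻¹ = P := by
    have := congrArg Subtype.val h1
    rwa [MulAut.conjNormal_apply] at this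
  have h3 : (P : G) * e = e * P := by
    calc (P : G) * e = (e * P * e⁻¹) * e := by rw [h2]
      _ = e * P := by group
  exact Subtype.ext (hfree e heN heA P P.2 h3)

include hfree hx₀ hx₀A hA1 hAp hp hr hpr hAab in
/-- (vii): a commuting pair of elements of order `r` in `H` generates a cyclic group -/
theorem unique_order_r {z h : G} (hzN : z ∈ N) (hzM : z ∈ M x₀) (hhN : h ∈ N) (hhM : h ∈ M x₀)
    (hzh : Commute z h) (hz1 : z ≠ 1) (hzr : z ^ r = 1) (hhr : h ^ r = 1) :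
    h ∈ Subgroup.zpowers z := by
  by_contra hh
  have hoz : orderOf z = r := by
    rcases (Nat.dvd_prime hr).mp (orderOf_dvd_of_pow_eq_one hzr) with h1 | h1
    · exact absurd (orderOf_eq_one_iff.mp h1) hz1
    · exact h1
  have hzi : ∀ i, i ≠ 0 → i < r → z ^ i ∉ A := by
    intro i hi0 hir hA
    have h1 := H_inter N A hfree x₀ hx₀ hx₀A ((M x₀).pow_mem hzM i) hA
    have h2 := orderOf_dvd_of_pow_eq_one h1
    rw [hoz] at h2
    exact absurd (Nat.le_of_dvd (Nat.pos_of_ne_zero hi0) h2) (not_le.mpr hir)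
  have hzj : ∀ j : ℕ, z ^ j * h ∉ A := by
    intro j hA
    have h1 := H_inter N A hfree x₀ hx₀ hx₀A ((M x₀).mul_mem ((M x₀).pow_mem hzM j) hhM) hA
    apply hh
    have h2 : h = (z ^ j)⁻¹ := eq_inv_of_mul_eq_one_right h1
    rw [h2]
    exact (Subgroup.zpowers z).inv_mem ((Subgroup.zpowers z).pow_mem (Subgroup.mem_zpowers z) j)
  have hzjr : ∀ j : ℕ, (z ^ j * h) ^ r = 1 := by
    intro j
    rw [(hzh.pow_left j).mul_pow, hhr, mul_one, ← pow_mul, mul_comm, pow_mul, hzr, one_pow]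
  letI := commGroupOf A hAab
  have hbr : ∀ b : A, b ^ r = 1 := by
    intro b
    have key : ∏ j ∈ Finset.range r, ∏ i ∈ Finset.range r,
        (MulAut.conjNormal ((z ^ j * h) ^ i) : MulAut A) b = 1 :=
      Finset.prod_eq_one (fun j _ =>
        norm_trivial N A hAab r hfree (N.mul_mem (N.pow_mem hzN j) hhN) (hzj j) (hzjr j) b)
    rw [Finset.prod_comm] at key
    have h2 : ∀ i ∈ Finset.range r, ∏ j ∈ Finset.range r,
        (MulAut.conjNormal ((z ^ j * h) ^ i) : MulAut A) b = if i = 0 then b ^ r else 1 := by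
      intro i hi
      have h3 : ∀ j : ℕ, (MulAut.conjNormal ((z ^ j * h) ^ i) : MulAut A) b =
          (MulAut.conjNormal ((z ^ i) ^ j) : MulAut A) ((MulAut.conjNormal (h ^ i) : MulAut A) b) := by
        intro j
        rw [(hzh.pow_left j).mul_pow, ← pow_mul, mul_comm j i, pow_mul, map_mul, MulAut.mul_apply]
      simp_rw [h3]
      split_ifs with h0
      · subst h0
        simp [Finset.prod_const]
      · exact norm_trivial N A hAab r hfree (N.pow_mem hzN i) (hzi i h0 (Finset.mem_range.mp hi))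
          (by rw [← pow_mul, mul_comm, pow_mul, hzr, one_pow]) _
    rw [Finset.prod_congr rfl h2, Finset.prod_ite_eq' (Finset.range r) 0 (fun _ => b ^ r)] at key
    rw [if_pos (Finset.mem_range.mpr hr.pos)] at key
    exact key
  apply hA1
  rw [Subgroup.eq_bot_iff_forall]
  intro a ha
  have h1 : a ^ r = 1 := by
    have := congrArg Subtype.val (hbr ⟨a, ha⟩)
    simpa using this
  have h2 : a ∈ (⊥ : Subgroup G) := by
    apply mem_of_pow_mem_of_coprime ⊥ a ((Nat.coprime_primes hp hr).mpr hpr)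
    · rw [hAp a ha]; exact Subgroup.one_mem _
    · rw [h1]; exact Subgroup.one_mem _
  exact Subgroup.mem_bot.mp h2

include hM hfree hdec hbet hx₀ hx₀A hx₀r hA1 hAp hp hr hpr hAab hAN in
theorem final_structure :
    ∃ z : G, z ∈ N ∧ orderOf z = r ∧ (∀ n ∈ N, ∃ a ∈ A, ∃ k : ℕ, n = a * z ^ k) ∧
      (∀ a ∈ A, ∀ k : ℕ, z ^ k ≠ 1 → a * z ^ k = z ^ k * a → a = 1) := by
  haveI : Fact r.Prime := ⟨hr⟩
  have hx₀1 : x₀ ≠ 1 := fun h => hx₀A (h ▸ A.one_mem)
  set H : Subgroup G := N ⊓ M x₀ with hH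
  have hHmem : ∀ h : H, (h : G) ∈ N ∧ (h : G) ∈ M x₀ := fun h => Subgroup.mem_inf.mp h.2
  have hHp : IsPGroup r H := by
    intro h
    obtain ⟨j, hj⟩ := H_rgroup N hM A hAN r hr hfree hdec hbet x₀ hx₀ hx₀A hx₀r (hHmem h).1 (hHmem h).2
    exact ⟨j, Subtype.ext (by rw [Subgroup.coe_pow, hj, Subgroup.coe_one])⟩
  have hx₀H : x₀ ∈ H := Subgroup.mem_inf.mpr ⟨hx₀, mem_M.mpr rfl⟩
  haveI : Nontrivial H := ⟨⟨⟨x₀, hx₀H⟩, 1, fun h => hx₀1 (congrArg Subtype.val h)⟩⟩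
  have hc : Nontrivial (Subgroup.center H) := hHp.center_nontrivial
  have hZp : IsPGroup r (Subgroup.center H) := hHp.to_subgroup _
  have hdvd : r ∣ Nat.card (Subgroup.center H) := by
    rcases hZp.card_eq_or_dvd with h | h
    · exact absurd h (Finite.one_lt_card_iff_nontrivial.mpr hc).ne'
    · exact h
  obtain ⟨z'', hz''⟩ := exists_prime_orderOf_dvd_card' r hdvd
  set z : G := ((z'' : H) : G) with hz
  have hzN : z ∈ N := (hHmem z'').1
  have hzM : z ∈ M x₀ := (hHmem z'').2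
  have hoz : orderOf z = r := by
    rw [hz, Subgroup.orderOf_coe, Subgroup.orderOf_coe, hz'']
  have hz1 : z ≠ 1 := by
    intro h
    rw [h, orderOf_one] at hoz
    exact hr.one_lt.ne' hoz.symm
  have hzr : z ^ r = 1 := by rw [← hoz]; exact pow_orderOf_eq_one z
  have hzc : ∀ h : G, h ∈ N → h ∈ M x₀ → Commute z h := by
    intro h hN hMx
    have h1 := Subgroup.mem_center_iff.mp z''.2 ⟨h, Subgroup.mem_inf.mpr ⟨hN, hMx⟩⟩
    exact (congrArg Subtype.val h1).symm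
  have hconj : ∀ g : G, g * z * g⁻¹ ∈ A ⊔ Subgroup.zpowers z := by
    intro g
    obtain ⟨a', ha', h', hh'N, hh'M, he, hk⟩ :=
      conj_decomp N A hfree hdec x₀ hx₀ hx₀A hzN g r hzr
    rw [he]
    refine Subgroup.mul_mem _ (Subgroup.mem_sup_left ha') (Subgroup.mem_sup_right ?_)
    exact unique_order_r N A hA1 hAab p r hp hr hpr hAp hfree x₀ hx₀ hx₀A hzN hzM hh'N hh'M
      (hzc h' hh'N hh'M) hz1 hzr hk
  have hYn : (A ⊔ Subgroup.zpowers z).Normal := by
    apply sup_normal_of_conj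
    intro s hs g
    obtain ⟨i, rfl⟩ := Subgroup.mem_zpowers_iff.mp hs
    rw [← conj_zpow]
    exact Subgroup.zpow_mem _ (hconj g) i
  have hzpN : Subgroup.zpowers z ≤ N := by
    rw [Subgroup.zpowers_le]
    exact hzN
  have hY : A ⊔ Subgroup.zpowers z = N := by
    rcases hbet _ hYn le_sup_left (sup_le hAN hzpN) with h | h
    · exfalso
      have h1 : z ∈ A := by
        rw [← h]
        exact Subgroup.mem_sup_right (Subgroup.mem_zpowers z)
      exact hz1 (H_inter N A hfree x₀ hx₀ hx₀A hzM h1)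
    · exact h
  refine ⟨z, hzN, hoz, ?_, ?_⟩
  · intro n hn
    rw [← hY, ← SetLike.mem_coe, Subgroup.normal_mul] at hn
    obtain ⟨a, ha, s, hs, he⟩ := hn
    have hs' : s ∈ Submonoid.powers z := mem_powers_iff_mem_zpowers.mpr hs
    obtain ⟨k, hk⟩ := (Submonoid.mem_powers_iff _ _).mp hs'
    refine ⟨a, ha, k, ?_⟩
    rw [hk]
    exact he.symm
  · intro a ha k hk hcomm
    have hzkA : z ^ k ∉ A := fun hA =>
      hk (H_inter N A hfree x₀ hx₀ hx₀A ((M x₀).pow_mem hzM k) hA)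
    exact hfree (z ^ k) (N.pow_mem hzN k) hzkA a ha hcomm

end second

/-- **S3905, piece P3** (centerless lemma, abelian minimal normal subgroup). -/
theorem centerless_abelian [Finite G] (N : Subgroup G) [N.Normal]
    (hZ : ∀ x ∈ N, (∀ y ∈ N, x * y = y * x) → x = 1)
    (hM : ∀ x ∈ N, x ≠ 1 → IsCoatom (Subgroup.centralizer ({x} : Set G)))
    (A : Subgroup G) [A.Normal] (hAN : A ≤ N) (hA1 : A ≠ ⊥)
    (hAmin : ∀ B : Subgroup G, B.Normal → B ≤ A → B = ⊥ ∨ B = A)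
    (hAab : ∀ a ∈ A, ∀ b ∈ A, a * b = b * a) :
    ∃ (p r : ℕ) (x₀ : G), p.Prime ∧ r.Prime ∧ p ≠ r ∧ (∀ a ∈ A, a ^ p = 1) ∧ x₀ ∈ N ∧
      orderOf x₀ = r ∧ (∀ n ∈ N, ∃ a ∈ A, ∃ k : ℕ, n = a * x₀ ^ k) ∧
      (∀ a ∈ A, ∀ k : ℕ, x₀ ^ k ≠ 1 → a * x₀ ^ k = x₀ ^ k * a → a = 1) := by
  have hM' : ∀ x ∈ N, x ≠ 1 → IsCoatom (M x) := hM
  obtain ⟨p, hp, hAp⟩ := exists_prime_exp A hA1 hAmin hAab
  obtain ⟨r, x₁, hr, hpr, hx₁, hx₁A, hx₁r⟩ :=
    exists_prime_order N hZ hM' A hAN hA1 hAmin hAab hp hAp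
  have hfree : ∀ x ∈ N, x ∉ A → ∀ a ∈ A, a * x = x * a → a = 1 := fun x hx hxA =>
    (free_and_decomp N hZ hM' A hAN hA1 hAmin hAab hp hAp hx hxA).1
  have hdec : ∀ x ∈ N, x ∉ A → ∀ n ∈ N, ∃ a ∈ A, ∃ m, m ∈ N ∧ m ∈ M x ∧ n = a * m :=
    fun x hx hxA => (free_and_decomp N hZ hM' A hAN hA1 hAmin hAab hp hAp hx hxA).2
  have hbet : ∀ Y : Subgroup G, Y.Normal → A ≤ Y → Y ≤ N → Y = A ∨ Y = N :=
    normal_between N hZ hM' A hAN hA1 hAmin hAab hp hAp
  obtain ⟨z, hzN, hoz, h1, h2⟩ := final_structure N hM' A hAN hA1 hAab p r hp hr hpr hAp hfree hdec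
    hbet x₁ hx₁ hx₁A hx₁r
  exact ⟨p, r, z, hp, hr, hpr, hAp, hzN, hoz, h1, h2⟩

end Cfsg.Agent.Lib.Helper5.MaxCent
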