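import Cfsg.Agent.Lib.Helper5.McLCovA
import Cfsg.Agent.Lib.Helper5.McLCovData

/-! # The triple cover of `McL`: the code 3 is an involution of the rows commuting with the rotation (kernel checks by ranges of rows) -/

set_option autoImplicit false
set_option maxRecDepth 1000000

namespace Cfsg.Agent.Lib.Helper5.McLCov

open Cfsg.Agent.PG (allB allB_iff)

theorem mkr3_0 : allB 10000 (fun i => mokf mc3 (Nat.add 0 i)) = true := by decide +kernel
theorem mkr3_1 : allB 10000 (fun i => mokf mc3 (Nat.add 10000 i)) = true := by decide +kernel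
theorem mkr3_2 : allB 10000 (fun i => mokf mc3 (Nat.add 20000 i)) = true := by decide +kernel
theorem mkr3_3 : allB 10000 (fun i => mokf mc3 (Nat.add 30000 i)) = true := by decide +kernel
theorem mkr3_4 : allB 10000 (fun i => mokf mc3 (Nat.add 40000 i)) = true := by decide +kernel
theorem mkr3_5 : allB 10000 (fun i => mokf mc3 (Nat.add 50000 i)) = true := by decide +kernel
theorem mkr3_6 : allB 6825 (fun i => mokf mc3 (Nat.add 60000 i)) = true := by decide +kernel

theorem chk_mok3 : MOK mc3 = true := by
  show allB NR (mokf mc3) = true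
  apply allB_iff.2
  intro a ha
  have ha' : a < 66825 := ha
  rcases Nat.lt_or_ge a 10000 with h0 | h0
  · exact allB_range (f := (mokf mc3)) (lo := 0) (len := 10000) mkr3_0 (by omega) (by omega)
  rcases Nat.lt_or_ge a 20000 with h1 | h1
  · exact allB_range (f := (mokf mc3)) (lo := 10000) (len := 10000) mkr3_1 (by omega) (by omega)
  rcases Nat.lt_or_ge a 30000 with h2 | h2
  · exact allB_range (f := (mokf mc3)) (lo := 20000) (len := 10000) mkr3_2 (by omega) (by omega)
  rcases Nat.lt_or_ge a 40000 with h3 | h3
  · exact allB_range (f := (mokf mc3)) (lo := 30000) (len := 10000) mkr3_3 (by omega) (by omega)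
  rcases Nat.lt_or_ge a 50000 with h4 | h4
  · exact allB_range (f := (mokf mc3)) (lo := 40000) (len := 10000) mkr3_4 (by omega) (by omega)
  rcases Nat.lt_or_ge a 60000 with h5 | h5
  · exact allB_range (f := (mokf mc3)) (lo := 50000) (len := 10000) mkr3_5 (by omega) (by omega)
  exact allB_range (f := (mokf mc3)) (lo := 60000) (len := 6825) mkr3_6 (by omega) (by omega)

end Cfsg.Agent.Lib.Helper5.McLCov
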