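import Cfsg.Agent.Lib.Helper5.McLCovA
import Cfsg.Agent.Lib.Helper5.McLCovData

/-! # The triple cover of `McL`: relators traced on the first rows of the blocks (kernel checks by ranges of blocks, part 0) -/

set_option autoImplicit false
set_option maxRecDepth 1000000

namespace Cfsg.Agent.Lib.Helper5.McLCov

open Cfsg.Agent.PG (allB allB_iff)

/-- the check of a block -/
noncomputable def frl_0_0 (a : ℕ) : Bool := Nat.beq (mlk mc1 (mlk mc0 (mlk mc1 (mlk mc0 (mlk mc1 (mlk mc0 (mlk mc1 (mlk mc0 (mlk mc1 (mlk mc0 (Nat.mul 3 a))))))))))) (Nat.add (Nat.mul 3 a) 0)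

theorem trc_0_0_0 : allB 4000 (fun i => frl_0_0 (Nat.add 0 i)) = true := by decide +kernel
theorem trc_0_0_1 : allB 4000 (fun i => frl_0_0 (Nat.add 4000 i)) = true := by decide +kernel
theorem trc_0_0_2 : allB 4000 (fun i => frl_0_0 (Nat.add 8000 i)) = true := by decide +kernel
theorem trc_0_0_3 : allB 4000 (fun i => frl_0_0 (Nat.add 12000 i)) = true := by decide +kernel
theorem trc_0_0_4 : allB 4000 (fun i => frl_0_0 (Nat.add 16000 i)) = true := by decide +kernel
theorem trc_0_0_5 : allB 2275 (fun i => frl_0_0 (Nat.add 20000 i)) = true := by decide +kernel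

theorem trf_0_0 : allB NB frl_0_0 = true := by
  apply allB_iff.2
  intro a ha
  have ha' : a < 22275 := ha
  rcases Nat.lt_or_ge a 4000 with h0 | h0
  · exact allB_range (f := (frl_0_0)) (lo := 0) (len := 4000) trc_0_0_0 (by omega) (by omega)
  rcases Nat.lt_or_ge a 8000 with h1 | h1
  · exact allB_range (f := (frl_0_0)) (lo := 4000) (len := 4000) trc_0_0_1 (by omega) (by omega)
  rcases Nat.lt_or_ge a 12000 with h2 | h2
  · exact allB_range (f := (frl_0_0)) (lo := 8000) (len := 4000) trc_0_0_2 (by omega) (by omega)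
  rcases Nat.lt_or_ge a 16000 with h3 | h3
  · exact allB_range (f := (frl_0_0)) (lo := 12000) (len := 4000) trc_0_0_3 (by omega) (by omega)
  rcases Nat.lt_or_ge a 20000 with h4 | h4
  · exact allB_range (f := (frl_0_0)) (lo := 16000) (len := 4000) trc_0_0_4 (by omega) (by omega)
  exact allB_range (f := (frl_0_0)) (lo := 20000) (len := 2275) trc_0_0_5 (by omega) (by omega)

theorem rel_0_0 : relT cdM 0 (relB0.getD 0 []) = true := trf_0_0

/-- the check of a block -/
noncomputable def frl_1_0 (a : ℕ) : Bool := Nat.beq (mlk mc0 (mlk mc2 (mlk mc0 (mlk mc2 (mlk mc0 (mlk mc2 (Nat.mul 3 a))))))) (Nat.add (Nat.mul 3 a) 0)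

theorem trc_1_0_0 : allB 6666 (fun i => frl_1_0 (Nat.add 0 i)) = true := by decide +kernel
theorem trc_1_0_1 : allB 6666 (fun i => frl_1_0 (Nat.add 6666 i)) = true := by decide +kernel
theorem trc_1_0_2 : allB 6666 (fun i => frl_1_0 (Nat.add 13332 i)) = true := by decide +kernel
theorem trc_1_0_3 : allB 2277 (fun i => frl_1_0 (Nat.add 19998 i)) = true := by decide +kernel

theorem trf_1_0 : allB NB frl_1_0 = true := by
  apply allB_iff.2
  intro a ha
  have ha' : a < 22275 := ha
  rcases Nat.lt_or_ge a 6666 with h0 | h0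
  · exact allB_range (f := (frl_1_0)) (lo := 0) (len := 6666) trc_1_0_0 (by omega) (by omega)
  rcases Nat.lt_or_ge a 13332 with h1 | h1
  · exact allB_range (f := (frl_1_0)) (lo := 6666) (len := 6666) trc_1_0_1 (by omega) (by omega)
  rcases Nat.lt_or_ge a 19998 with h2 | h2
  · exact allB_range (f := (frl_1_0)) (lo := 13332) (len := 6666) trc_1_0_2 (by omega) (by omega)
  exact allB_range (f := (frl_1_0)) (lo := 19998) (len := 2277) trc_1_0_3 (by omega) (by omega)

theorem rel_1_0 : relT cdM 0 (relB1.getD 0 []) = true := trf_1_0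

/-- the check of a block -/
noncomputable def frl_1_1 (a : ℕ) : Bool := Nat.beq (mlk mc1 (mlk mc2 (mlk mc1 (mlk mc2 (mlk mc1 (mlk mc2 (Nat.mul 3 a))))))) (Nat.add (Nat.mul 3 a) 0)

theorem trc_1_1_0 : allB 6666 (fun i => frl_1_1 (Nat.add 0 i)) = true := by decide +kernel
theorem trc_1_1_1 : allB 6666 (fun i => frl_1_1 (Nat.add 6666 i)) = true := by decide +kernel
theorem trc_1_1_2 : allB 6666 (fun i => frl_1_1 (Nat.add 13332 i)) = true := by decide +kernel
theorem trc_1_1_3 : allB 2277 (fun i => frl_1_1 (Nat.add 19998 i)) = true := by decide +kernel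

theorem trf_1_1 : allB NB frl_1_1 = true := by
  apply allB_iff.2
  intro a ha
  have ha' : a < 22275 := ha
  rcases Nat.lt_or_ge a 6666 with h0 | h0
  · exact allB_range (f := (frl_1_1)) (lo := 0) (len := 6666) trc_1_1_0 (by omega) (by omega)
  rcases Nat.lt_or_ge a 13332 with h1 | h1
  · exact allB_range (f := (frl_1_1)) (lo := 6666) (len := 6666) trc_1_1_1 (by omega) (by omega)
  rcases Nat.lt_or_ge a 19998 with h2 | h2
  · exact allB_range (f := (frl_1_1)) (lo := 13332) (len := 6666) trc_1_1_2 (by omega) (by omega)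
  exact allB_range (f := (frl_1_1)) (lo := 19998) (len := 2277) trc_1_1_3 (by omega) (by omega)

theorem rel_1_1 : relT cdM 0 (relB1.getD 1 []) = true := trf_1_1

/-- the check of a block -/
noncomputable def frl_1_2 (a : ℕ) : Bool := Nat.beq (mlk mc0 (mlk mc1 (mlk mc2 (mlk mc0 (mlk mc1 (mlk mc2 (mlk mc0 (mlk mc1 (mlk mc2 (mlk mc0 (mlk mc1 (mlk mc2 (mlk mc0 (mlk mc1 (mlk mc2 (Nat.mul 3 a)))))))))))))))) (Nat.add (Nat.mul 3 a) 0)

theorem trc_1_2_0 : allB 2666 (fun i => frl_1_2 (Nat.add 0 i)) = true := by decide +kernel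
theorem trc_1_2_1 : allB 2666 (fun i => frl_1_2 (Nat.add 2666 i)) = true := by decide +kernel
theorem trc_1_2_2 : allB 2666 (fun i => frl_1_2 (Nat.add 5332 i)) = true := by decide +kernel
theorem trc_1_2_3 : allB 2666 (fun i => frl_1_2 (Nat.add 7998 i)) = true := by decide +kernel
theorem trc_1_2_4 : allB 2666 (fun i => frl_1_2 (Nat.add 10664 i)) = true := by decide +kernel
theorem trc_1_2_5 : allB 2666 (fun i => frl_1_2 (Nat.add 13330 i)) = true := by decide +kernel
theorem trc_1_2_6 : allB 2666 (fun i => frl_1_2 (Nat.add 15996 i)) = true := by decide +kernel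
theorem trc_1_2_7 : allB 2666 (fun i => frl_1_2 (Nat.add 18662 i)) = true := by decide +kernel
theorem trc_1_2_8 : allB 947 (fun i => frl_1_2 (Nat.add 21328 i)) = true := by decide +kernel

theorem trf_1_2 : allB NB frl_1_2 = true := by
  apply allB_iff.2
  intro a ha
  have ha' : a < 22275 := ha
  rcases Nat.lt_or_ge a 2666 with h0 | h0
  · exact allB_range (f := (frl_1_2)) (lo := 0) (len := 2666) trc_1_2_0 (by omega) (by omega)
  rcases Nat.lt_or_ge a 5332 with h1 | h1
  · exact allB_range (f := (frl_1_2)) (lo := 2666) (len := 2666) trc_1_2_1 (by omega) (by omega)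
  rcases Nat.lt_or_ge a 7998 with h2 | h2
  · exact allB_range (f := (frl_1_2)) (lo := 5332) (len := 2666) trc_1_2_2 (by omega) (by omega)
  rcases Nat.lt_or_ge a 10664 with h3 | h3
  · exact allB_range (f := (frl_1_2)) (lo := 7998) (len := 2666) trc_1_2_3 (by omega) (by omega)
  rcases Nat.lt_or_ge a 13330 with h4 | h4
  · exact allB_range (f := (frl_1_2)) (lo := 10664) (len := 2666) trc_1_2_4 (by omega) (by omega)
  rcases Nat.lt_or_ge a 15996 with h5 | h5
  · exact allB_range (f := (frl_1_2)) (lo := 13330) (len := 2666) trc_1_2_5 (by omega) (by omega)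
  rcases Nat.lt_or_ge a 18662 with h6 | h6
  · exact allB_range (f := (frl_1_2)) (lo := 15996) (len := 2666) trc_1_2_6 (by omega) (by omega)
  rcases Nat.lt_or_ge a 21328 with h7 | h7
  · exact allB_range (f := (frl_1_2)) (lo := 18662) (len := 2666) trc_1_2_7 (by omega) (by omega)
  exact allB_range (f := (frl_1_2)) (lo := 21328) (len := 947) trc_1_2_8 (by omega) (by omega)

theorem rel_1_2 : relT cdM 0 (relB1.getD 2 []) = true := trf_1_2


end Cfsg.Agent.Lib.Helper5.McLCov
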