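import Cfsg.Agent.Lib.Helper5.McLCovA
import Cfsg.Agent.Lib.Helper5.McLCovData

/-! # The triple cover of `McL`: relators traced on the first rows of the blocks (kernel checks by ranges of blocks, part 1) -/

set_option autoImplicit false
set_option maxRecDepth 1000000

namespace Cfsg.Agent.Lib.Helper5.McLCov

open Cfsg.Agent.PG (allB allB_iff)

/-- the check of a block -/
noncomputable def frl_1_3 (a : ℕ) : Bool := Nat.beq (mlk mc0 (mlk mc1 (mlk mc2 (mlk mc1 (mlk mc0 (mlk mc1 (mlk mc2 (mlk mc1 (mlk mc0 (mlk mc1 (mlk mc2 (mlk mc1 (mlk mc0 (mlk mc1 (mlk mc2 (mlk mc1 (Nat.mul 3 a))))))))))))))))) (Nat.add (Nat.mul 3 a) 0)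

theorem trc_1_3_0 : allB 2500 (fun i => frl_1_3 (Nat.add 0 i)) = true := by decide +kernel
theorem trc_1_3_1 : allB 2500 (fun i => frl_1_3 (Nat.add 2500 i)) = true := by decide +kernel
theorem trc_1_3_2 : allB 2500 (fun i => frl_1_3 (Nat.add 5000 i)) = true := by decide +kernel
theorem trc_1_3_3 : allB 2500 (fun i => frl_1_3 (Nat.add 7500 i)) = true := by decide +kernel
theorem trc_1_3_4 : allB 2500 (fun i => frl_1_3 (Nat.add 10000 i)) = true := by decide +kernel
theorem trc_1_3_5 : allB 2500 (fun i => frl_1_3 (Nat.add 12500 i)) = true := by decide +kernel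
theorem trc_1_3_6 : allB 2500 (fun i => frl_1_3 (Nat.add 15000 i)) = true := by decide +kernel
theorem trc_1_3_7 : allB 2500 (fun i => frl_1_3 (Nat.add 17500 i)) = true := by decide +kernel
theorem trc_1_3_8 : allB 2275 (fun i => frl_1_3 (Nat.add 20000 i)) = true := by decide +kernel

theorem trf_1_3 : allB NB frl_1_3 = true := by
  apply allB_iff.2
  intro a ha
  have ha' : a < 22275 := ha
  rcases Nat.lt_or_ge a 2500 with h0 | h0
  · exact allB_range (f := (frl_1_3)) (lo := 0) (len := 2500) trc_1_3_0 (by omega) (by omega)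
  rcases Nat.lt_or_ge a 5000 with h1 | h1
  · exact allB_range (f := (frl_1_3)) (lo := 2500) (len := 2500) trc_1_3_1 (by omega) (by omega)
  rcases Nat.lt_or_ge a 7500 with h2 | h2
  · exact allB_range (f := (frl_1_3)) (lo := 5000) (len := 2500) trc_1_3_2 (by omega) (by omega)
  rcases Nat.lt_or_ge a 10000 with h3 | h3
  · exact allB_range (f := (frl_1_3)) (lo := 7500) (len := 2500) trc_1_3_3 (by omega) (by omega)
  rcases Nat.lt_or_ge a 12500 with h4 | h4
  · exact allB_range (f := (frl_1_3)) (lo := 10000) (len := 2500) trc_1_3_4 (by omega) (by omega)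
  rcases Nat.lt_or_ge a 15000 with h5 | h5
  · exact allB_range (f := (frl_1_3)) (lo := 12500) (len := 2500) trc_1_3_5 (by omega) (by omega)
  rcases Nat.lt_or_ge a 17500 with h6 | h6
  · exact allB_range (f := (frl_1_3)) (lo := 15000) (len := 2500) trc_1_3_6 (by omega) (by omega)
  rcases Nat.lt_or_ge a 20000 with h7 | h7
  · exact allB_range (f := (frl_1_3)) (lo := 17500) (len := 2500) trc_1_3_7 (by omega) (by omega)
  exact allB_range (f := (frl_1_3)) (lo := 20000) (len := 2275) trc_1_3_8 (by omega) (by omega)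

theorem rel_1_3 : relT cdM 0 (relB1.getD 3 []) = true := trf_1_3

/-- the check of a block -/
noncomputable def frl_2_0 (a : ℕ) : Bool := Nat.beq (mlk mc1 (mlk mc3 (mlk mc1 (mlk mc3 (Nat.mul 3 a))))) (Nat.add (Nat.mul 3 a) 0)

theorem trc_2_0_0 : allB 10000 (fun i => frl_2_0 (Nat.add 0 i)) = true := by decide +kernel
theorem trc_2_0_1 : allB 10000 (fun i => frl_2_0 (Nat.add 10000 i)) = true := by decide +kernel
theorem trc_2_0_2 : allB 2275 (fun i => frl_2_0 (Nat.add 20000 i)) = true := by decide +kernel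

theorem trf_2_0 : allB NB frl_2_0 = true := by
  apply allB_iff.2
  intro a ha
  have ha' : a < 22275 := ha
  rcases Nat.lt_or_ge a 10000 with h0 | h0
  · exact allB_range (f := (frl_2_0)) (lo := 0) (len := 10000) trc_2_0_0 (by omega) (by omega)
  rcases Nat.lt_or_ge a 20000 with h1 | h1
  · exact allB_range (f := (frl_2_0)) (lo := 10000) (len := 10000) trc_2_0_1 (by omega) (by omega)
  exact allB_range (f := (frl_2_0)) (lo := 20000) (len := 2275) trc_2_0_2 (by omega) (by omega)

theorem rel_2_0 : relT cdM 0 (relB2.getD 0 []) = true := trf_2_0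

/-- the check of a block -/
noncomputable def frl_2_1 (a : ℕ) : Bool := Nat.beq (mlk mc0 (mlk mc2 (mlk mc0 (mlk mc2 (mlk mc0 (mlk mc2 (Nat.mul 3 a))))))) (Nat.add (Nat.mul 3 a) 0)

theorem trc_2_1_0 : allB 6666 (fun i => frl_2_1 (Nat.add 0 i)) = true := by decide +kernel
theorem trc_2_1_1 : allB 6666 (fun i => frl_2_1 (Nat.add 6666 i)) = true := by decide +kernel
theorem trc_2_1_2 : allB 6666 (fun i => frl_2_1 (Nat.add 13332 i)) = true := by decide +kernel
theorem trc_2_1_3 : allB 2277 (fun i => frl_2_1 (Nat.add 19998 i)) = true := by decide +kernel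

theorem trf_2_1 : allB NB frl_2_1 = true := by
  apply allB_iff.2
  intro a ha
  have ha' : a < 22275 := ha
  rcases Nat.lt_or_ge a 6666 with h0 | h0
  · exact allB_range (f := (frl_2_1)) (lo := 0) (len := 6666) trc_2_1_0 (by omega) (by omega)
  rcases Nat.lt_or_ge a 13332 with h1 | h1
  · exact allB_range (f := (frl_2_1)) (lo := 6666) (len := 6666) trc_2_1_1 (by omega) (by omega)
  rcases Nat.lt_or_ge a 19998 with h2 | h2
  · exact allB_range (f := (frl_2_1)) (lo := 13332) (len := 6666) trc_2_1_2 (by omega) (by omega)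
  exact allB_range (f := (frl_2_1)) (lo := 19998) (len := 2277) trc_2_1_3 (by omega) (by omega)

theorem rel_2_1 : relT cdM 0 (relB2.getD 1 []) = true := trf_2_1

/-- the check of a block -/
noncomputable def frl_2_2 (a : ℕ) : Bool := Nat.beq (mlk mc0 (mlk mc3 (mlk mc0 (mlk mc3 (mlk mc0 (mlk mc3 (Nat.mul 3 a))))))) (Nat.add (Nat.mul 3 a) 0)

theorem trc_2_2_0 : allB 6666 (fun i => frl_2_2 (Nat.add 0 i)) = true := by decide +kernel
theorem trc_2_2_1 : allB 6666 (fun i => frl_2_2 (Nat.add 6666 i)) = true := by decide +kernel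
theorem trc_2_2_2 : allB 6666 (fun i => frl_2_2 (Nat.add 13332 i)) = true := by decide +kernel
theorem trc_2_2_3 : allB 2277 (fun i => frl_2_2 (Nat.add 19998 i)) = true := by decide +kernel

theorem trf_2_2 : allB NB frl_2_2 = true := by
  apply allB_iff.2
  intro a ha
  have ha' : a < 22275 := ha
  rcases Nat.lt_or_ge a 6666 with h0 | h0
  · exact allB_range (f := (frl_2_2)) (lo := 0) (len := 6666) trc_2_2_0 (by omega) (by omega)
  rcases Nat.lt_or_ge a 13332 with h1 | h1
  · exact allB_range (f := (frl_2_2)) (lo := 6666) (len := 6666) trc_2_2_1 (by omega) (by omega)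
  rcases Nat.lt_or_ge a 19998 with h2 | h2
  · exact allB_range (f := (frl_2_2)) (lo := 13332) (len := 6666) trc_2_2_2 (by omega) (by omega)
  exact allB_range (f := (frl_2_2)) (lo := 19998) (len := 2277) trc_2_2_3 (by omega) (by omega)

theorem rel_2_2 : relT cdM 0 (relB2.getD 2 []) = true := trf_2_2


end Cfsg.Agent.Lib.Helper5.McLCov
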