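import Cfsg.Agent.Lib.Helper5.McLCovA
import Cfsg.Agent.Lib.Helper5.McLCovData

/-! # The triple cover of `McL`: relators traced on the first rows of the blocks (kernel checks by ranges of blocks, part 10) -/

set_option autoImplicit false
set_option maxRecDepth 1000000

namespace Cfsg.Agent.Lib.Helper5.McLCov

open Cfsg.Agent.PG (allB allB_iff)

/-- the check of a block -/
noncomputable def frl_4_12 (a : ℕ) : Bool := Nat.beq (mlk mc1 (mlk mc0 (mlk mc1 (mlk mc0 (mlk mc1 (mlk mc0 (mlk mc1 (mlk mc0 (mlk mc1 (mlk mc0 (Nat.mul 3 a))))))))))) (Nat.add (Nat.mul 3 a) 0)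

theorem trc_4_12_0 : allB 4000 (fun i => frl_4_12 (Nat.add 0 i)) = true := by decide +kernel
theorem trc_4_12_1 : allB 4000 (fun i => frl_4_12 (Nat.add 4000 i)) = true := by decide +kernel
theorem trc_4_12_2 : allB 4000 (fun i => frl_4_12 (Nat.add 8000 i)) = true := by decide +kernel
theorem trc_4_12_3 : allB 4000 (fun i => frl_4_12 (Nat.add 12000 i)) = true := by decide +kernel
theorem trc_4_12_4 : allB 4000 (fun i => frl_4_12 (Nat.add 16000 i)) = true := by decide +kernel
theorem trc_4_12_5 : allB 2275 (fun i => frl_4_12 (Nat.add 20000 i)) = true := by decide +kernel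

theorem trf_4_12 : allB NB frl_4_12 = true := by
  apply allB_iff.2
  intro a ha
  have ha' : a < 22275 := ha
  rcases Nat.lt_or_ge a 4000 with h0 | h0
  · exact allB_range (f := (frl_4_12)) (lo := 0) (len := 4000) trc_4_12_0 (by omega) (by omega)
  rcases Nat.lt_or_ge a 8000 with h1 | h1
  · exact allB_range (f := (frl_4_12)) (lo := 4000) (len := 4000) trc_4_12_1 (by omega) (by omega)
  rcases Nat.lt_or_ge a 12000 with h2 | h2
  · exact allB_range (f := (frl_4_12)) (lo := 8000) (len := 4000) trc_4_12_2 (by omega) (by omega)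
  rcases Nat.lt_or_ge a 16000 with h3 | h3
  · exact allB_range (f := (frl_4_12)) (lo := 12000) (len := 4000) trc_4_12_3 (by omega) (by omega)
  rcases Nat.lt_or_ge a 20000 with h4 | h4
  · exact allB_range (f := (frl_4_12)) (lo := 16000) (len := 4000) trc_4_12_4 (by omega) (by omega)
  exact allB_range (f := (frl_4_12)) (lo := 20000) (len := 2275) trc_4_12_5 (by omega) (by omega)

theorem rel_4_12 : relT cdM 0 (relB4.getD 12 []) = true := trf_4_12

/-- the check of a block -/
noncomputable def frl_4_13 (a : ℕ) : Bool := Nat.beq (mlk mc1 (mlk mc5 (mlk mc3 (mlk mc2 (mlk mc3 (mlk mc5 (mlk mc1 (mlk mc3 (mlk mc2 (mlk mc5 (mlk mc0 (mlk mc5 (mlk mc2 (mlk mc3 (Nat.mul 3 a))))))))))))))) (Nat.add (Nat.mul 3 a) 0)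

theorem trc_4_13_0 : allB 2857 (fun i => frl_4_13 (Nat.add 0 i)) = true := by decide +kernel
theorem trc_4_13_1 : allB 2857 (fun i => frl_4_13 (Nat.add 2857 i)) = true := by decide +kernel
theorem trc_4_13_2 : allB 2857 (fun i => frl_4_13 (Nat.add 5714 i)) = true := by decide +kernel
theorem trc_4_13_3 : allB 2857 (fun i => frl_4_13 (Nat.add 8571 i)) = true := by decide +kernel
theorem trc_4_13_4 : allB 2857 (fun i => frl_4_13 (Nat.add 11428 i)) = true := by decide +kernel
theorem trc_4_13_5 : allB 2857 (fun i => frl_4_13 (Nat.add 14285 i)) = true := by decide +kernel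
theorem trc_4_13_6 : allB 2857 (fun i => frl_4_13 (Nat.add 17142 i)) = true := by decide +kernel
theorem trc_4_13_7 : allB 2276 (fun i => frl_4_13 (Nat.add 19999 i)) = true := by decide +kernel

theorem trf_4_13 : allB NB frl_4_13 = true := by
  apply allB_iff.2
  intro a ha
  have ha' : a < 22275 := ha
  rcases Nat.lt_or_ge a 2857 with h0 | h0
  · exact allB_range (f := (frl_4_13)) (lo := 0) (len := 2857) trc_4_13_0 (by omega) (by omega)
  rcases Nat.lt_or_ge a 5714 with h1 | h1
  · exact allB_range (f := (frl_4_13)) (lo := 2857) (len := 2857) trc_4_13_1 (by omega) (by omega)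
  rcases Nat.lt_or_ge a 8571 with h2 | h2
  · exact allB_range (f := (frl_4_13)) (lo := 5714) (len := 2857) trc_4_13_2 (by omega) (by omega)
  rcases Nat.lt_or_ge a 11428 with h3 | h3
  · exact allB_range (f := (frl_4_13)) (lo := 8571) (len := 2857) trc_4_13_3 (by omega) (by omega)
  rcases Nat.lt_or_ge a 14285 with h4 | h4
  · exact allB_range (f := (frl_4_13)) (lo := 11428) (len := 2857) trc_4_13_4 (by omega) (by omega)
  rcases Nat.lt_or_ge a 17142 with h5 | h5
  · exact allB_range (f := (frl_4_13)) (lo := 14285) (len := 2857) trc_4_13_5 (by omega) (by omega)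
  rcases Nat.lt_or_ge a 19999 with h6 | h6
  · exact allB_range (f := (frl_4_13)) (lo := 17142) (len := 2857) trc_4_13_6 (by omega) (by omega)
  exact allB_range (f := (frl_4_13)) (lo := 19999) (len := 2276) trc_4_13_7 (by omega) (by omega)

theorem rel_4_13 : relT cdM 0 (relB4.getD 13 []) = true := trf_4_13

/-- the check of a block -/
noncomputable def frl_4_14 (a : ℕ) : Bool := Nat.beq (mlk mc3 (mlk mc5 (mlk mc0 (mlk mc1 (mlk mc0 (mlk mc5 (mlk mc3 (mlk mc2 (mlk mc5 (mlk mc3 (mlk mc0 (mlk mc3 (mlk mc5 (mlk mc2 (Nat.mul 3 a))))))))))))))) (Nat.add (Nat.mul 3 a) 0)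

theorem trc_4_14_0 : allB 2857 (fun i => frl_4_14 (Nat.add 0 i)) = true := by decide +kernel
theorem trc_4_14_1 : allB 2857 (fun i => frl_4_14 (Nat.add 2857 i)) = true := by decide +kernel
theorem trc_4_14_2 : allB 2857 (fun i => frl_4_14 (Nat.add 5714 i)) = true := by decide +kernel
theorem trc_4_14_3 : allB 2857 (fun i => frl_4_14 (Nat.add 8571 i)) = true := by decide +kernel
theorem trc_4_14_4 : allB 2857 (fun i => frl_4_14 (Nat.add 11428 i)) = true := by decide +kernel
theorem trc_4_14_5 : allB 2857 (fun i => frl_4_14 (Nat.add 14285 i)) = true := by decide +kernel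
theorem trc_4_14_6 : allB 2857 (fun i => frl_4_14 (Nat.add 17142 i)) = true := by decide +kernel
theorem trc_4_14_7 : allB 2276 (fun i => frl_4_14 (Nat.add 19999 i)) = true := by decide +kernel

theorem trf_4_14 : allB NB frl_4_14 = true := by
  apply allB_iff.2
  intro a ha
  have ha' : a < 22275 := ha
  rcases Nat.lt_or_ge a 2857 with h0 | h0
  · exact allB_range (f := (frl_4_14)) (lo := 0) (len := 2857) trc_4_14_0 (by omega) (by omega)
  rcases Nat.lt_or_ge a 5714 with h1 | h1
  · exact allB_range (f := (frl_4_14)) (lo := 2857) (len := 2857) trc_4_14_1 (by omega) (by omega)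
  rcases Nat.lt_or_ge a 8571 with h2 | h2
  · exact allB_range (f := (frl_4_14)) (lo := 5714) (len := 2857) trc_4_14_2 (by omega) (by omega)
  rcases Nat.lt_or_ge a 11428 with h3 | h3
  · exact allB_range (f := (frl_4_14)) (lo := 8571) (len := 2857) trc_4_14_3 (by omega) (by omega)
  rcases Nat.lt_or_ge a 14285 with h4 | h4
  · exact allB_range (f := (frl_4_14)) (lo := 11428) (len := 2857) trc_4_14_4 (by omega) (by omega)
  rcases Nat.lt_or_ge a 17142 with h5 | h5
  · exact allB_range (f := (frl_4_14)) (lo := 14285) (len := 2857) trc_4_14_5 (by omega) (by omega)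
  rcases Nat.lt_or_ge a 19999 with h6 | h6
  · exact allB_range (f := (frl_4_14)) (lo := 17142) (len := 2857) trc_4_14_6 (by omega) (by omega)
  exact allB_range (f := (frl_4_14)) (lo := 19999) (len := 2276) trc_4_14_7 (by omega) (by omega)

theorem rel_4_14 : relT cdM 0 (relB4.getD 14 []) = true := trf_4_14


end Cfsg.Agent.Lib.Helper5.McLCov
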