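import Cfsg.Agent.Lib.Helper5.McLCovA
import Cfsg.Agent.Lib.Helper5.McLCovData

/-! # The triple cover of `McL`: relators traced on the first rows of the blocks (kernel checks by ranges of blocks, part 11) -/

set_option autoImplicit false
set_option maxRecDepth 1000000

namespace Cfsg.Agent.Lib.Helper5.McLCov

open Cfsg.Agent.PG (allB allB_iff)

/-- the check of a block -/
noncomputable def frl_4_15 (a : ℕ) : Bool := Nat.beq (mlk mc4 (mlk mc0 (mlk mc5 (mlk mc3 (mlk mc5 (mlk mc0 (mlk mc4 (mlk mc0 (mlk mc3 (mlk mc5 (mlk mc0 (mlk mc5 (mlk mc3 (mlk mc0 (Nat.mul 3 a))))))))))))))) (Nat.add (Nat.mul 3 a) 0)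

theorem trc_4_15_0 : allB 2857 (fun i => frl_4_15 (Nat.add 0 i)) = true := by decide +kernel
theorem trc_4_15_1 : allB 2857 (fun i => frl_4_15 (Nat.add 2857 i)) = true := by decide +kernel
theorem trc_4_15_2 : allB 2857 (fun i => frl_4_15 (Nat.add 5714 i)) = true := by decide +kernel
theorem trc_4_15_3 : allB 2857 (fun i => frl_4_15 (Nat.add 8571 i)) = true := by decide +kernel
theorem trc_4_15_4 : allB 2857 (fun i => frl_4_15 (Nat.add 11428 i)) = true := by decide +kernel
theorem trc_4_15_5 : allB 2857 (fun i => frl_4_15 (Nat.add 14285 i)) = true := by decide +kernel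
theorem trc_4_15_6 : allB 2857 (fun i => frl_4_15 (Nat.add 17142 i)) = true := by decide +kernel
theorem trc_4_15_7 : allB 2276 (fun i => frl_4_15 (Nat.add 19999 i)) = true := by decide +kernel

theorem trf_4_15 : allB NB frl_4_15 = true := by
  apply allB_iff.2
  intro a ha
  have ha' : a < 22275 := ha
  rcases Nat.lt_or_ge a 2857 with h0 | h0
  · exact allB_range (f := (frl_4_15)) (lo := 0) (len := 2857) trc_4_15_0 (by omega) (by omega)
  rcases Nat.lt_or_ge a 5714 with h1 | h1
  · exact allB_range (f := (frl_4_15)) (lo := 2857) (len := 2857) trc_4_15_1 (by omega) (by omega)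
  rcases Nat.lt_or_ge a 8571 with h2 | h2
  · exact allB_range (f := (frl_4_15)) (lo := 5714) (len := 2857) trc_4_15_2 (by omega) (by omega)
  rcases Nat.lt_or_ge a 11428 with h3 | h3
  · exact allB_range (f := (frl_4_15)) (lo := 8571) (len := 2857) trc_4_15_3 (by omega) (by omega)
  rcases Nat.lt_or_ge a 14285 with h4 | h4
  · exact allB_range (f := (frl_4_15)) (lo := 11428) (len := 2857) trc_4_15_4 (by omega) (by omega)
  rcases Nat.lt_or_ge a 17142 with h5 | h5
  · exact allB_range (f := (frl_4_15)) (lo := 14285) (len := 2857) trc_4_15_5 (by omega) (by omega)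
  rcases Nat.lt_or_ge a 19999 with h6 | h6
  · exact allB_range (f := (frl_4_15)) (lo := 17142) (len := 2857) trc_4_15_6 (by omega) (by omega)
  exact allB_range (f := (frl_4_15)) (lo := 19999) (len := 2276) trc_4_15_7 (by omega) (by omega)

theorem rel_4_15 : relT cdM 0 (relB4.getD 15 []) = true := trf_4_15

/-- the check of a block -/
noncomputable def frl_4_16 (a : ℕ) : Bool := Nat.beq (mlk mc5 (mlk mc3 (mlk mc5 (mlk mc2 (mlk mc5 (mlk mc3 (mlk mc5 (mlk mc1 (mlk mc2 (mlk mc5 (mlk mc0 (mlk mc5 (mlk mc2 (mlk mc1 (Nat.mul 3 a))))))))))))))) (Nat.add (Nat.mul 3 a) 0)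

theorem trc_4_16_0 : allB 2857 (fun i => frl_4_16 (Nat.add 0 i)) = true := by decide +kernel
theorem trc_4_16_1 : allB 2857 (fun i => frl_4_16 (Nat.add 2857 i)) = true := by decide +kernel
theorem trc_4_16_2 : allB 2857 (fun i => frl_4_16 (Nat.add 5714 i)) = true := by decide +kernel
theorem trc_4_16_3 : allB 2857 (fun i => frl_4_16 (Nat.add 8571 i)) = true := by decide +kernel
theorem trc_4_16_4 : allB 2857 (fun i => frl_4_16 (Nat.add 11428 i)) = true := by decide +kernel
theorem trc_4_16_5 : allB 2857 (fun i => frl_4_16 (Nat.add 14285 i)) = true := by decide +kernel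
theorem trc_4_16_6 : allB 2857 (fun i => frl_4_16 (Nat.add 17142 i)) = true := by decide +kernel
theorem trc_4_16_7 : allB 2276 (fun i => frl_4_16 (Nat.add 19999 i)) = true := by decide +kernel

theorem trf_4_16 : allB NB frl_4_16 = true := by
  apply allB_iff.2
  intro a ha
  have ha' : a < 22275 := ha
  rcases Nat.lt_or_ge a 2857 with h0 | h0
  · exact allB_range (f := (frl_4_16)) (lo := 0) (len := 2857) trc_4_16_0 (by omega) (by omega)
  rcases Nat.lt_or_ge a 5714 with h1 | h1
  · exact allB_range (f := (frl_4_16)) (lo := 2857) (len := 2857) trc_4_16_1 (by omega) (by omega)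
  rcases Nat.lt_or_ge a 8571 with h2 | h2
  · exact allB_range (f := (frl_4_16)) (lo := 5714) (len := 2857) trc_4_16_2 (by omega) (by omega)
  rcases Nat.lt_or_ge a 11428 with h3 | h3
  · exact allB_range (f := (frl_4_16)) (lo := 8571) (len := 2857) trc_4_16_3 (by omega) (by omega)
  rcases Nat.lt_or_ge a 14285 with h4 | h4
  · exact allB_range (f := (frl_4_16)) (lo := 11428) (len := 2857) trc_4_16_4 (by omega) (by omega)
  rcases Nat.lt_or_ge a 17142 with h5 | h5
  · exact allB_range (f := (frl_4_16)) (lo := 14285) (len := 2857) trc_4_16_5 (by omega) (by omega)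
  rcases Nat.lt_or_ge a 19999 with h6 | h6
  · exact allB_range (f := (frl_4_16)) (lo := 17142) (len := 2857) trc_4_16_6 (by omega) (by omega)
  exact allB_range (f := (frl_4_16)) (lo := 19999) (len := 2276) trc_4_16_7 (by omega) (by omega)

theorem rel_4_16 : relT cdM 0 (relB4.getD 16 []) = true := trf_4_16

/-- the check of a block -/
noncomputable def frl_4_17 (a : ℕ) : Bool := Nat.beq (mlk mc2 (mlk mc0 (mlk mc5 (mlk mc0 (mlk mc1 (mlk mc0 (mlk mc5 (mlk mc0 (mlk mc2 (mlk mc1 (mlk mc2 (mlk mc5 (mlk mc3 (mlk mc5 (mlk mc2 (mlk mc1 (Nat.mul 3 a))))))))))))))))) (Nat.add (Nat.mul 3 a) 0)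

theorem trc_4_17_0 : allB 2500 (fun i => frl_4_17 (Nat.add 0 i)) = true := by decide +kernel
theorem trc_4_17_1 : allB 2500 (fun i => frl_4_17 (Nat.add 2500 i)) = true := by decide +kernel
theorem trc_4_17_2 : allB 2500 (fun i => frl_4_17 (Nat.add 5000 i)) = true := by decide +kernel
theorem trc_4_17_3 : allB 2500 (fun i => frl_4_17 (Nat.add 7500 i)) = true := by decide +kernel
theorem trc_4_17_4 : allB 2500 (fun i => frl_4_17 (Nat.add 10000 i)) = true := by decide +kernel
theorem trc_4_17_5 : allB 2500 (fun i => frl_4_17 (Nat.add 12500 i)) = true := by decide +kernel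
theorem trc_4_17_6 : allB 2500 (fun i => frl_4_17 (Nat.add 15000 i)) = true := by decide +kernel
theorem trc_4_17_7 : allB 2500 (fun i => frl_4_17 (Nat.add 17500 i)) = true := by decide +kernel
theorem trc_4_17_8 : allB 2275 (fun i => frl_4_17 (Nat.add 20000 i)) = true := by decide +kernel

theorem trf_4_17 : allB NB frl_4_17 = true := by
  apply allB_iff.2
  intro a ha
  have ha' : a < 22275 := ha
  rcases Nat.lt_or_ge a 2500 with h0 | h0
  · exact allB_range (f := (frl_4_17)) (lo := 0) (len := 2500) trc_4_17_0 (by omega) (by omega)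
  rcases Nat.lt_or_ge a 5000 with h1 | h1
  · exact allB_range (f := (frl_4_17)) (lo := 2500) (len := 2500) trc_4_17_1 (by omega) (by omega)
  rcases Nat.lt_or_ge a 7500 with h2 | h2
  · exact allB_range (f := (frl_4_17)) (lo := 5000) (len := 2500) trc_4_17_2 (by omega) (by omega)
  rcases Nat.lt_or_ge a 10000 with h3 | h3
  · exact allB_range (f := (frl_4_17)) (lo := 7500) (len := 2500) trc_4_17_3 (by omega) (by omega)
  rcases Nat.lt_or_ge a 12500 with h4 | h4
  · exact allB_range (f := (frl_4_17)) (lo := 10000) (len := 2500) trc_4_17_4 (by omega) (by omega)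
  rcases Nat.lt_or_ge a 15000 with h5 | h5
  · exact allB_range (f := (frl_4_17)) (lo := 12500) (len := 2500) trc_4_17_5 (by omega) (by omega)
  rcases Nat.lt_or_ge a 17500 with h6 | h6
  · exact allB_range (f := (frl_4_17)) (lo := 15000) (len := 2500) trc_4_17_6 (by omega) (by omega)
  rcases Nat.lt_or_ge a 20000 with h7 | h7
  · exact allB_range (f := (frl_4_17)) (lo := 17500) (len := 2500) trc_4_17_7 (by omega) (by omega)
  exact allB_range (f := (frl_4_17)) (lo := 20000) (len := 2275) trc_4_17_8 (by omega) (by omega)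

theorem rel_4_17 : relT cdM 0 (relB4.getD 17 []) = true := trf_4_17


end Cfsg.Agent.Lib.Helper5.McLCov
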