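import Cfsg.Agent.Lib.Helper5.McLCovA
import Cfsg.Agent.Lib.Helper5.McLCovData

/-! # The triple cover of `McL`: relators traced on the first rows of the blocks (kernel checks by ranges of blocks, part 12) -/

set_option autoImplicit false
set_option maxRecDepth 1000000

namespace Cfsg.Agent.Lib.Helper5.McLCov

open Cfsg.Agent.PG (allB allB_iff)

/-- the check of a block -/
noncomputable def frl_4_18 (a : ℕ) : Bool := Nat.beq (mlk mc4 (mlk mc0 (mlk mc2 (mlk mc5 (mlk mc3 (mlk mc5 (mlk mc2 (mlk mc0 (mlk mc4 (mlk mc0 (mlk mc2 (mlk mc5 (mlk mc3 (mlk mc5 (mlk mc2 (mlk mc0 (Nat.mul 3 a))))))))))))))))) (Nat.add (Nat.mul 3 a) 0)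

theorem trc_4_18_0 : allB 2500 (fun i => frl_4_18 (Nat.add 0 i)) = true := by decide +kernel
theorem trc_4_18_1 : allB 2500 (fun i => frl_4_18 (Nat.add 2500 i)) = true := by decide +kernel
theorem trc_4_18_2 : allB 2500 (fun i => frl_4_18 (Nat.add 5000 i)) = true := by decide +kernel
theorem trc_4_18_3 : allB 2500 (fun i => frl_4_18 (Nat.add 7500 i)) = true := by decide +kernel
theorem trc_4_18_4 : allB 2500 (fun i => frl_4_18 (Nat.add 10000 i)) = true := by decide +kernel
theorem trc_4_18_5 : allB 2500 (fun i => frl_4_18 (Nat.add 12500 i)) = true := by decide +kernel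
theorem trc_4_18_6 : allB 2500 (fun i => frl_4_18 (Nat.add 15000 i)) = true := by decide +kernel
theorem trc_4_18_7 : allB 2500 (fun i => frl_4_18 (Nat.add 17500 i)) = true := by decide +kernel
theorem trc_4_18_8 : allB 2275 (fun i => frl_4_18 (Nat.add 20000 i)) = true := by decide +kernel

theorem trf_4_18 : allB NB frl_4_18 = true := by
  apply allB_iff.2
  intro a ha
  have ha' : a < 22275 := ha
  rcases Nat.lt_or_ge a 2500 with h0 | h0
  · exact allB_range (f := (frl_4_18)) (lo := 0) (len := 2500) trc_4_18_0 (by omega) (by omega)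
  rcases Nat.lt_or_ge a 5000 with h1 | h1
  · exact allB_range (f := (frl_4_18)) (lo := 2500) (len := 2500) trc_4_18_1 (by omega) (by omega)
  rcases Nat.lt_or_ge a 7500 with h2 | h2
  · exact allB_range (f := (frl_4_18)) (lo := 5000) (len := 2500) trc_4_18_2 (by omega) (by omega)
  rcases Nat.lt_or_ge a 10000 with h3 | h3
  · exact allB_range (f := (frl_4_18)) (lo := 7500) (len := 2500) trc_4_18_3 (by omega) (by omega)
  rcases Nat.lt_or_ge a 12500 with h4 | h4
  · exact allB_range (f := (frl_4_18)) (lo := 10000) (len := 2500) trc_4_18_4 (by omega) (by omega)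
  rcases Nat.lt_or_ge a 15000 with h5 | h5
  · exact allB_range (f := (frl_4_18)) (lo := 12500) (len := 2500) trc_4_18_5 (by omega) (by omega)
  rcases Nat.lt_or_ge a 17500 with h6 | h6
  · exact allB_range (f := (frl_4_18)) (lo := 15000) (len := 2500) trc_4_18_6 (by omega) (by omega)
  rcases Nat.lt_or_ge a 20000 with h7 | h7
  · exact allB_range (f := (frl_4_18)) (lo := 17500) (len := 2500) trc_4_18_7 (by omega) (by omega)
  exact allB_range (f := (frl_4_18)) (lo := 20000) (len := 2275) trc_4_18_8 (by omega) (by omega)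

theorem rel_4_18 : relT cdM 0 (relB4.getD 18 []) = true := trf_4_18

/-- the check of a block -/
noncomputable def frl_4_19 (a : ℕ) : Bool := Nat.beq (mlk mc5 (mlk mc1 (mlk mc2 (mlk mc5 (mlk mc1 (mlk mc5 (mlk mc2 (mlk mc1 (mlk mc5 (mlk mc1 (mlk mc2 (mlk mc5 (mlk mc1 (mlk mc5 (mlk mc2 (mlk mc1 (Nat.mul 3 a))))))))))))))))) (Nat.add (Nat.mul 3 a) 0)

theorem trc_4_19_0 : allB 2500 (fun i => frl_4_19 (Nat.add 0 i)) = true := by decide +kernel
theorem trc_4_19_1 : allB 2500 (fun i => frl_4_19 (Nat.add 2500 i)) = true := by decide +kernel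
theorem trc_4_19_2 : allB 2500 (fun i => frl_4_19 (Nat.add 5000 i)) = true := by decide +kernel
theorem trc_4_19_3 : allB 2500 (fun i => frl_4_19 (Nat.add 7500 i)) = true := by decide +kernel
theorem trc_4_19_4 : allB 2500 (fun i => frl_4_19 (Nat.add 10000 i)) = true := by decide +kernel
theorem trc_4_19_5 : allB 2500 (fun i => frl_4_19 (Nat.add 12500 i)) = true := by decide +kernel
theorem trc_4_19_6 : allB 2500 (fun i => frl_4_19 (Nat.add 15000 i)) = true := by decide +kernel
theorem trc_4_19_7 : allB 2500 (fun i => frl_4_19 (Nat.add 17500 i)) = true := by decide +kernel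
theorem trc_4_19_8 : allB 2275 (fun i => frl_4_19 (Nat.add 20000 i)) = true := by decide +kernel

theorem trf_4_19 : allB NB frl_4_19 = true := by
  apply allB_iff.2
  intro a ha
  have ha' : a < 22275 := ha
  rcases Nat.lt_or_ge a 2500 with h0 | h0
  · exact allB_range (f := (frl_4_19)) (lo := 0) (len := 2500) trc_4_19_0 (by omega) (by omega)
  rcases Nat.lt_or_ge a 5000 with h1 | h1
  · exact allB_range (f := (frl_4_19)) (lo := 2500) (len := 2500) trc_4_19_1 (by omega) (by omega)
  rcases Nat.lt_or_ge a 7500 with h2 | h2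
  · exact allB_range (f := (frl_4_19)) (lo := 5000) (len := 2500) trc_4_19_2 (by omega) (by omega)
  rcases Nat.lt_or_ge a 10000 with h3 | h3
  · exact allB_range (f := (frl_4_19)) (lo := 7500) (len := 2500) trc_4_19_3 (by omega) (by omega)
  rcases Nat.lt_or_ge a 12500 with h4 | h4
  · exact allB_range (f := (frl_4_19)) (lo := 10000) (len := 2500) trc_4_19_4 (by omega) (by omega)
  rcases Nat.lt_or_ge a 15000 with h5 | h5
  · exact allB_range (f := (frl_4_19)) (lo := 12500) (len := 2500) trc_4_19_5 (by omega) (by omega)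
  rcases Nat.lt_or_ge a 17500 with h6 | h6
  · exact allB_range (f := (frl_4_19)) (lo := 15000) (len := 2500) trc_4_19_6 (by omega) (by omega)
  rcases Nat.lt_or_ge a 20000 with h7 | h7
  · exact allB_range (f := (frl_4_19)) (lo := 17500) (len := 2500) trc_4_19_7 (by omega) (by omega)
  exact allB_range (f := (frl_4_19)) (lo := 20000) (len := 2275) trc_4_19_8 (by omega) (by omega)

theorem rel_4_19 : relT cdM 0 (relB4.getD 19 []) = true := trf_4_19


end Cfsg.Agent.Lib.Helper5.McLCov
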