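import Cfsg.Agent.Lib.Helper5.McLCovA
import Cfsg.Agent.Lib.Helper5.McLCovData

/-! # The triple cover of `McL`: relators traced on the first rows of the blocks (kernel checks by ranges of blocks, part 13) -/

set_option autoImplicit false
set_option maxRecDepth 1000000

namespace Cfsg.Agent.Lib.Helper5.McLCov

open Cfsg.Agent.PG (allB allB_iff)

/-- the check of a block -/
noncomputable def frl_4_20 (a : ℕ) : Bool := Nat.beq (mlk mc5 (mlk mc3 (mlk mc0 (mlk mc5 (mlk mc2 (mlk mc5 (mlk mc0 (mlk mc3 (mlk mc5 (mlk mc1 (mlk mc0 (mlk mc5 (mlk mc3 (mlk mc5 (mlk mc0 (mlk mc1 (Nat.mul 3 a))))))))))))))))) (Nat.add (Nat.mul 3 a) 0)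

theorem trc_4_20_0 : allB 2500 (fun i => frl_4_20 (Nat.add 0 i)) = true := by decide +kernel
theorem trc_4_20_1 : allB 2500 (fun i => frl_4_20 (Nat.add 2500 i)) = true := by decide +kernel
theorem trc_4_20_2 : allB 2500 (fun i => frl_4_20 (Nat.add 5000 i)) = true := by decide +kernel
theorem trc_4_20_3 : allB 2500 (fun i => frl_4_20 (Nat.add 7500 i)) = true := by decide +kernel
theorem trc_4_20_4 : allB 2500 (fun i => frl_4_20 (Nat.add 10000 i)) = true := by decide +kernel
theorem trc_4_20_5 : allB 2500 (fun i => frl_4_20 (Nat.add 12500 i)) = true := by decide +kernel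
theorem trc_4_20_6 : allB 2500 (fun i => frl_4_20 (Nat.add 15000 i)) = true := by decide +kernel
theorem trc_4_20_7 : allB 2500 (fun i => frl_4_20 (Nat.add 17500 i)) = true := by decide +kernel
theorem trc_4_20_8 : allB 2275 (fun i => frl_4_20 (Nat.add 20000 i)) = true := by decide +kernel

theorem trf_4_20 : allB NB frl_4_20 = true := by
  apply allB_iff.2
  intro a ha
  have ha' : a < 22275 := ha
  rcases Nat.lt_or_ge a 2500 with h0 | h0
  · exact allB_range (f := (frl_4_20)) (lo := 0) (len := 2500) trc_4_20_0 (by omega) (by omega)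
  rcases Nat.lt_or_ge a 5000 with h1 | h1
  · exact allB_range (f := (frl_4_20)) (lo := 2500) (len := 2500) trc_4_20_1 (by omega) (by omega)
  rcases Nat.lt_or_ge a 7500 with h2 | h2
  · exact allB_range (f := (frl_4_20)) (lo := 5000) (len := 2500) trc_4_20_2 (by omega) (by omega)
  rcases Nat.lt_or_ge a 10000 with h3 | h3
  · exact allB_range (f := (frl_4_20)) (lo := 7500) (len := 2500) trc_4_20_3 (by omega) (by omega)
  rcases Nat.lt_or_ge a 12500 with h4 | h4
  · exact allB_range (f := (frl_4_20)) (lo := 10000) (len := 2500) trc_4_20_4 (by omega) (by omega)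
  rcases Nat.lt_or_ge a 15000 with h5 | h5
  · exact allB_range (f := (frl_4_20)) (lo := 12500) (len := 2500) trc_4_20_5 (by omega) (by omega)
  rcases Nat.lt_or_ge a 17500 with h6 | h6
  · exact allB_range (f := (frl_4_20)) (lo := 15000) (len := 2500) trc_4_20_6 (by omega) (by omega)
  rcases Nat.lt_or_ge a 20000 with h7 | h7
  · exact allB_range (f := (frl_4_20)) (lo := 17500) (len := 2500) trc_4_20_7 (by omega) (by omega)
  exact allB_range (f := (frl_4_20)) (lo := 20000) (len := 2275) trc_4_20_8 (by omega) (by omega)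

theorem rel_4_20 : relT cdM 0 (relB4.getD 20 []) = true := trf_4_20

/-- the check of a block -/
noncomputable def frl_4_21 (a : ℕ) : Bool := Nat.beq (mlk mc0 (mlk mc5 (mlk mc2 (mlk mc5 (mlk mc1 (mlk mc5 (mlk mc2 (mlk mc5 (mlk mc0 (mlk mc1 (mlk mc0 (mlk mc3 (mlk mc2 (mlk mc1 (mlk mc2 (mlk mc3 (mlk mc0 (mlk mc1 (Nat.mul 3 a))))))))))))))))))) (Nat.add (Nat.mul 3 a) 0)

theorem trc_4_21_0 : allB 2222 (fun i => frl_4_21 (Nat.add 0 i)) = true := by decide +kernel
theorem trc_4_21_1 : allB 2222 (fun i => frl_4_21 (Nat.add 2222 i)) = true := by decide +kernel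
theorem trc_4_21_2 : allB 2222 (fun i => frl_4_21 (Nat.add 4444 i)) = true := by decide +kernel
theorem trc_4_21_3 : allB 2222 (fun i => frl_4_21 (Nat.add 6666 i)) = true := by decide +kernel
theorem trc_4_21_4 : allB 2222 (fun i => frl_4_21 (Nat.add 8888 i)) = true := by decide +kernel
theorem trc_4_21_5 : allB 2222 (fun i => frl_4_21 (Nat.add 11110 i)) = true := by decide +kernel
theorem trc_4_21_6 : allB 2222 (fun i => frl_4_21 (Nat.add 13332 i)) = true := by decide +kernel
theorem trc_4_21_7 : allB 2222 (fun i => frl_4_21 (Nat.add 15554 i)) = true := by decide +kernel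
theorem trc_4_21_8 : allB 2222 (fun i => frl_4_21 (Nat.add 17776 i)) = true := by decide +kernel
theorem trc_4_21_9 : allB 2222 (fun i => frl_4_21 (Nat.add 19998 i)) = true := by decide +kernel
theorem trc_4_21_10 : allB 55 (fun i => frl_4_21 (Nat.add 22220 i)) = true := by decide +kernel

theorem trf_4_21 : allB NB frl_4_21 = true := by
  apply allB_iff.2
  intro a ha
  have ha' : a < 22275 := ha
  rcases Nat.lt_or_ge a 2222 with h0 | h0
  · exact allB_range (f := (frl_4_21)) (lo := 0) (len := 2222) trc_4_21_0 (by omega) (by omega)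
  rcases Nat.lt_or_ge a 4444 with h1 | h1
  · exact allB_range (f := (frl_4_21)) (lo := 2222) (len := 2222) trc_4_21_1 (by omega) (by omega)
  rcases Nat.lt_or_ge a 6666 with h2 | h2
  · exact allB_range (f := (frl_4_21)) (lo := 4444) (len := 2222) trc_4_21_2 (by omega) (by omega)
  rcases Nat.lt_or_ge a 8888 with h3 | h3
  · exact allB_range (f := (frl_4_21)) (lo := 6666) (len := 2222) trc_4_21_3 (by omega) (by omega)
  rcases Nat.lt_or_ge a 11110 with h4 | h4
  · exact allB_range (f := (frl_4_21)) (lo := 8888) (len := 2222) trc_4_21_4 (by omega) (by omega)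
  rcases Nat.lt_or_ge a 13332 with h5 | h5
  · exact allB_range (f := (frl_4_21)) (lo := 11110) (len := 2222) trc_4_21_5 (by omega) (by omega)
  rcases Nat.lt_or_ge a 15554 with h6 | h6
  · exact allB_range (f := (frl_4_21)) (lo := 13332) (len := 2222) trc_4_21_6 (by omega) (by omega)
  rcases Nat.lt_or_ge a 17776 with h7 | h7
  · exact allB_range (f := (frl_4_21)) (lo := 15554) (len := 2222) trc_4_21_7 (by omega) (by omega)
  rcases Nat.lt_or_ge a 19998 with h8 | h8
  · exact allB_range (f := (frl_4_21)) (lo := 17776) (len := 2222) trc_4_21_8 (by omega) (by omega)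
  rcases Nat.lt_or_ge a 22220 with h9 | h9
  · exact allB_range (f := (frl_4_21)) (lo := 19998) (len := 2222) trc_4_21_9 (by omega) (by omega)
  exact allB_range (f := (frl_4_21)) (lo := 22220) (len := 55) trc_4_21_10 (by omega) (by omega)

theorem rel_4_21 : relT cdM 0 (relB4.getD 21 []) = true := trf_4_21


end Cfsg.Agent.Lib.Helper5.McLCov
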