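import Cfsg.Agent.Lib.Helper5.McLCovA
import Cfsg.Agent.Lib.Helper5.McLCovData

/-! # The triple cover of `McL`: relators traced on the first rows of the blocks (kernel checks by ranges of blocks, part 14) -/

set_option autoImplicit false
set_option maxRecDepth 1000000

namespace Cfsg.Agent.Lib.Helper5.McLCov

open Cfsg.Agent.PG (allB allB_iff)

/-- the check of a block -/
noncomputable def frl_4_22 (a : ℕ) : Bool := Nat.beq (mlk mc1 (mlk mc0 (mlk mc1 (mlk mc2 (mlk mc5 (mlk mc2 (mlk mc1 (mlk mc0 (mlk mc1 (mlk mc5 (mlk mc1 (mlk mc4 (mlk mc2 (mlk mc0 (mlk mc2 (mlk mc4 (mlk mc1 (mlk mc5 (Nat.mul 3 a))))))))))))))))))) (Nat.add (Nat.mul 3 a) 0)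

theorem trc_4_22_0 : allB 2222 (fun i => frl_4_22 (Nat.add 0 i)) = true := by decide +kernel
theorem trc_4_22_1 : allB 2222 (fun i => frl_4_22 (Nat.add 2222 i)) = true := by decide +kernel
theorem trc_4_22_2 : allB 2222 (fun i => frl_4_22 (Nat.add 4444 i)) = true := by decide +kernel
theorem trc_4_22_3 : allB 2222 (fun i => frl_4_22 (Nat.add 6666 i)) = true := by decide +kernel
theorem trc_4_22_4 : allB 2222 (fun i => frl_4_22 (Nat.add 8888 i)) = true := by decide +kernel
theorem trc_4_22_5 : allB 2222 (fun i => frl_4_22 (Nat.add 11110 i)) = true := by decide +kernel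
theorem trc_4_22_6 : allB 2222 (fun i => frl_4_22 (Nat.add 13332 i)) = true := by decide +kernel
theorem trc_4_22_7 : allB 2222 (fun i => frl_4_22 (Nat.add 15554 i)) = true := by decide +kernel
theorem trc_4_22_8 : allB 2222 (fun i => frl_4_22 (Nat.add 17776 i)) = true := by decide +kernel
theorem trc_4_22_9 : allB 2222 (fun i => frl_4_22 (Nat.add 19998 i)) = true := by decide +kernel
theorem trc_4_22_10 : allB 55 (fun i => frl_4_22 (Nat.add 22220 i)) = true := by decide +kernel

theorem trf_4_22 : allB NB frl_4_22 = true := by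
  apply allB_iff.2
  intro a ha
  have ha' : a < 22275 := ha
  rcases Nat.lt_or_ge a 2222 with h0 | h0
  · exact allB_range (f := (frl_4_22)) (lo := 0) (len := 2222) trc_4_22_0 (by omega) (by omega)
  rcases Nat.lt_or_ge a 4444 with h1 | h1
  · exact allB_range (f := (frl_4_22)) (lo := 2222) (len := 2222) trc_4_22_1 (by omega) (by omega)
  rcases Nat.lt_or_ge a 6666 with h2 | h2
  · exact allB_range (f := (frl_4_22)) (lo := 4444) (len := 2222) trc_4_22_2 (by omega) (by omega)
  rcases Nat.lt_or_ge a 8888 with h3 | h3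
  · exact allB_range (f := (frl_4_22)) (lo := 6666) (len := 2222) trc_4_22_3 (by omega) (by omega)
  rcases Nat.lt_or_ge a 11110 with h4 | h4
  · exact allB_range (f := (frl_4_22)) (lo := 8888) (len := 2222) trc_4_22_4 (by omega) (by omega)
  rcases Nat.lt_or_ge a 13332 with h5 | h5
  · exact allB_range (f := (frl_4_22)) (lo := 11110) (len := 2222) trc_4_22_5 (by omega) (by omega)
  rcases Nat.lt_or_ge a 15554 with h6 | h6
  · exact allB_range (f := (frl_4_22)) (lo := 13332) (len := 2222) trc_4_22_6 (by omega) (by omega)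
  rcases Nat.lt_or_ge a 17776 with h7 | h7
  · exact allB_range (f := (frl_4_22)) (lo := 15554) (len := 2222) trc_4_22_7 (by omega) (by omega)
  rcases Nat.lt_or_ge a 19998 with h8 | h8
  · exact allB_range (f := (frl_4_22)) (lo := 17776) (len := 2222) trc_4_22_8 (by omega) (by omega)
  rcases Nat.lt_or_ge a 22220 with h9 | h9
  · exact allB_range (f := (frl_4_22)) (lo := 19998) (len := 2222) trc_4_22_9 (by omega) (by omega)
  exact allB_range (f := (frl_4_22)) (lo := 22220) (len := 55) trc_4_22_10 (by omega) (by omega)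

theorem rel_4_22 : relT cdM 0 (relB4.getD 22 []) = true := trf_4_22

/-- the check of a block -/
noncomputable def frl_4_23 (a : ℕ) : Bool := Nat.beq (mlk mc2 (mlk mc0 (mlk mc5 (mlk mc3 (mlk mc2 (mlk mc4 (mlk mc2 (mlk mc3 (mlk mc5 (mlk mc0 (mlk mc2 (mlk mc0 (mlk mc5 (mlk mc3 (mlk mc2 (mlk mc4 (mlk mc2 (mlk mc3 (mlk mc5 (mlk mc0 (Nat.mul 3 a))))))))))))))))))))) (Nat.add (Nat.mul 3 a) 0)

theorem trc_4_23_0 : allB 2000 (fun i => frl_4_23 (Nat.add 0 i)) = true := by decide +kernel
theorem trc_4_23_1 : allB 2000 (fun i => frl_4_23 (Nat.add 2000 i)) = true := by decide +kernel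
theorem trc_4_23_2 : allB 2000 (fun i => frl_4_23 (Nat.add 4000 i)) = true := by decide +kernel
theorem trc_4_23_3 : allB 2000 (fun i => frl_4_23 (Nat.add 6000 i)) = true := by decide +kernel
theorem trc_4_23_4 : allB 2000 (fun i => frl_4_23 (Nat.add 8000 i)) = true := by decide +kernel
theorem trc_4_23_5 : allB 2000 (fun i => frl_4_23 (Nat.add 10000 i)) = true := by decide +kernel
theorem trc_4_23_6 : allB 2000 (fun i => frl_4_23 (Nat.add 12000 i)) = true := by decide +kernel
theorem trc_4_23_7 : allB 2000 (fun i => frl_4_23 (Nat.add 14000 i)) = true := by decide +kernel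
theorem trc_4_23_8 : allB 2000 (fun i => frl_4_23 (Nat.add 16000 i)) = true := by decide +kernel
theorem trc_4_23_9 : allB 2000 (fun i => frl_4_23 (Nat.add 18000 i)) = true := by decide +kernel
theorem trc_4_23_10 : allB 2000 (fun i => frl_4_23 (Nat.add 20000 i)) = true := by decide +kernel
theorem trc_4_23_11 : allB 275 (fun i => frl_4_23 (Nat.add 22000 i)) = true := by decide +kernel

theorem trf_4_23 : allB NB frl_4_23 = true := by
  apply allB_iff.2
  intro a ha
  have ha' : a < 22275 := ha
  rcases Nat.lt_or_ge a 2000 with h0 | h0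
  · exact allB_range (f := (frl_4_23)) (lo := 0) (len := 2000) trc_4_23_0 (by omega) (by omega)
  rcases Nat.lt_or_ge a 4000 with h1 | h1
  · exact allB_range (f := (frl_4_23)) (lo := 2000) (len := 2000) trc_4_23_1 (by omega) (by omega)
  rcases Nat.lt_or_ge a 6000 with h2 | h2
  · exact allB_range (f := (frl_4_23)) (lo := 4000) (len := 2000) trc_4_23_2 (by omega) (by omega)
  rcases Nat.lt_or_ge a 8000 with h3 | h3
  · exact allB_range (f := (frl_4_23)) (lo := 6000) (len := 2000) trc_4_23_3 (by omega) (by omega)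
  rcases Nat.lt_or_ge a 10000 with h4 | h4
  · exact allB_range (f := (frl_4_23)) (lo := 8000) (len := 2000) trc_4_23_4 (by omega) (by omega)
  rcases Nat.lt_or_ge a 12000 with h5 | h5
  · exact allB_range (f := (frl_4_23)) (lo := 10000) (len := 2000) trc_4_23_5 (by omega) (by omega)
  rcases Nat.lt_or_ge a 14000 with h6 | h6
  · exact allB_range (f := (frl_4_23)) (lo := 12000) (len := 2000) trc_4_23_6 (by omega) (by omega)
  rcases Nat.lt_or_ge a 16000 with h7 | h7
  · exact allB_range (f := (frl_4_23)) (lo := 14000) (len := 2000) trc_4_23_7 (by omega) (by omega)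
  rcases Nat.lt_or_ge a 18000 with h8 | h8
  · exact allB_range (f := (frl_4_23)) (lo := 16000) (len := 2000) trc_4_23_8 (by omega) (by omega)
  rcases Nat.lt_or_ge a 20000 with h9 | h9
  · exact allB_range (f := (frl_4_23)) (lo := 18000) (len := 2000) trc_4_23_9 (by omega) (by omega)
  rcases Nat.lt_or_ge a 22000 with h10 | h10
  · exact allB_range (f := (frl_4_23)) (lo := 20000) (len := 2000) trc_4_23_10 (by omega) (by omega)
  exact allB_range (f := (frl_4_23)) (lo := 22000) (len := 275) trc_4_23_11 (by omega) (by omega)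

theorem rel_4_23 : relT cdM 0 (relB4.getD 23 []) = true := trf_4_23


end Cfsg.Agent.Lib.Helper5.McLCov
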