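import Cfsg.Agent.Lib.Helper5.McLCovA
import Cfsg.Agent.Lib.Helper5.McLCovData

/-! # The triple cover of `McL`: relators traced on the first rows of the blocks (kernel checks by ranges of blocks, part 15) -/

set_option autoImplicit false
set_option maxRecDepth 1000000

namespace Cfsg.Agent.Lib.Helper5.McLCov

open Cfsg.Agent.PG (allB allB_iff)

/-- the check of a block -/
noncomputable def frl_4_24 (a : ℕ) : Bool := Nat.beq (mlk mc3 (mlk mc5 (mlk mc1 (mlk mc2 (mlk mc0 (mlk mc1 (mlk mc0 (mlk mc2 (mlk mc1 (mlk mc5 (mlk mc3 (mlk mc2 (mlk mc5 (mlk mc2 (mlk mc5 (mlk mc3 (mlk mc5 (mlk mc2 (mlk mc5 (mlk mc2 (Nat.mul 3 a))))))))))))))))))))) (Nat.add (Nat.mul 3 a) 0)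

theorem trc_4_24_0 : allB 2000 (fun i => frl_4_24 (Nat.add 0 i)) = true := by decide +kernel
theorem trc_4_24_1 : allB 2000 (fun i => frl_4_24 (Nat.add 2000 i)) = true := by decide +kernel
theorem trc_4_24_2 : allB 2000 (fun i => frl_4_24 (Nat.add 4000 i)) = true := by decide +kernel
theorem trc_4_24_3 : allB 2000 (fun i => frl_4_24 (Nat.add 6000 i)) = true := by decide +kernel
theorem trc_4_24_4 : allB 2000 (fun i => frl_4_24 (Nat.add 8000 i)) = true := by decide +kernel
theorem trc_4_24_5 : allB 2000 (fun i => frl_4_24 (Nat.add 10000 i)) = true := by decide +kernel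
theorem trc_4_24_6 : allB 2000 (fun i => frl_4_24 (Nat.add 12000 i)) = true := by decide +kernel
theorem trc_4_24_7 : allB 2000 (fun i => frl_4_24 (Nat.add 14000 i)) = true := by decide +kernel
theorem trc_4_24_8 : allB 2000 (fun i => frl_4_24 (Nat.add 16000 i)) = true := by decide +kernel
theorem trc_4_24_9 : allB 2000 (fun i => frl_4_24 (Nat.add 18000 i)) = true := by decide +kernel
theorem trc_4_24_10 : allB 2000 (fun i => frl_4_24 (Nat.add 20000 i)) = true := by decide +kernel
theorem trc_4_24_11 : allB 275 (fun i => frl_4_24 (Nat.add 22000 i)) = true := by decide +kernel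

theorem trf_4_24 : allB NB frl_4_24 = true := by
  apply allB_iff.2
  intro a ha
  have ha' : a < 22275 := ha
  rcases Nat.lt_or_ge a 2000 with h0 | h0
  · exact allB_range (f := (frl_4_24)) (lo := 0) (len := 2000) trc_4_24_0 (by omega) (by omega)
  rcases Nat.lt_or_ge a 4000 with h1 | h1
  · exact allB_range (f := (frl_4_24)) (lo := 2000) (len := 2000) trc_4_24_1 (by omega) (by omega)
  rcases Nat.lt_or_ge a 6000 with h2 | h2
  · exact allB_range (f := (frl_4_24)) (lo := 4000) (len := 2000) trc_4_24_2 (by omega) (by omega)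
  rcases Nat.lt_or_ge a 8000 with h3 | h3
  · exact allB_range (f := (frl_4_24)) (lo := 6000) (len := 2000) trc_4_24_3 (by omega) (by omega)
  rcases Nat.lt_or_ge a 10000 with h4 | h4
  · exact allB_range (f := (frl_4_24)) (lo := 8000) (len := 2000) trc_4_24_4 (by omega) (by omega)
  rcases Nat.lt_or_ge a 12000 with h5 | h5
  · exact allB_range (f := (frl_4_24)) (lo := 10000) (len := 2000) trc_4_24_5 (by omega) (by omega)
  rcases Nat.lt_or_ge a 14000 with h6 | h6
  · exact allB_range (f := (frl_4_24)) (lo := 12000) (len := 2000) trc_4_24_6 (by omega) (by omega)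
  rcases Nat.lt_or_ge a 16000 with h7 | h7
  · exact allB_range (f := (frl_4_24)) (lo := 14000) (len := 2000) trc_4_24_7 (by omega) (by omega)
  rcases Nat.lt_or_ge a 18000 with h8 | h8
  · exact allB_range (f := (frl_4_24)) (lo := 16000) (len := 2000) trc_4_24_8 (by omega) (by omega)
  rcases Nat.lt_or_ge a 20000 with h9 | h9
  · exact allB_range (f := (frl_4_24)) (lo := 18000) (len := 2000) trc_4_24_9 (by omega) (by omega)
  rcases Nat.lt_or_ge a 22000 with h10 | h10
  · exact allB_range (f := (frl_4_24)) (lo := 20000) (len := 2000) trc_4_24_10 (by omega) (by omega)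
  exact allB_range (f := (frl_4_24)) (lo := 22000) (len := 275) trc_4_24_11 (by omega) (by omega)

theorem rel_4_24 : relT cdM 0 (relB4.getD 24 []) = true := trf_4_24

/-- the check of a block -/
noncomputable def frl_4_25 (a : ℕ) : Bool := Nat.beq (mlk mc3 (mlk mc2 (mlk mc5 (mlk mc0 (mlk mc1 (mlk mc4 (mlk mc1 (mlk mc0 (mlk mc5 (mlk mc2 (mlk mc3 (mlk mc0 (mlk mc1 (mlk mc0 (mlk mc1 (mlk mc4 (mlk mc2 (mlk mc4 (mlk mc1 (mlk mc0 (mlk mc1 (mlk mc0 (Nat.mul 3 a))))))))))))))))))))))) (Nat.add (Nat.mul 3 a) 0)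

theorem trc_4_25_0 : allB 1818 (fun i => frl_4_25 (Nat.add 0 i)) = true := by decide +kernel
theorem trc_4_25_1 : allB 1818 (fun i => frl_4_25 (Nat.add 1818 i)) = true := by decide +kernel
theorem trc_4_25_2 : allB 1818 (fun i => frl_4_25 (Nat.add 3636 i)) = true := by decide +kernel
theorem trc_4_25_3 : allB 1818 (fun i => frl_4_25 (Nat.add 5454 i)) = true := by decide +kernel
theorem trc_4_25_4 : allB 1818 (fun i => frl_4_25 (Nat.add 7272 i)) = true := by decide +kernel
theorem trc_4_25_5 : allB 1818 (fun i => frl_4_25 (Nat.add 9090 i)) = true := by decide +kernel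
theorem trc_4_25_6 : allB 1818 (fun i => frl_4_25 (Nat.add 10908 i)) = true := by decide +kernel
theorem trc_4_25_7 : allB 1818 (fun i => frl_4_25 (Nat.add 12726 i)) = true := by decide +kernel
theorem trc_4_25_8 : allB 1818 (fun i => frl_4_25 (Nat.add 14544 i)) = true := by decide +kernel
theorem trc_4_25_9 : allB 1818 (fun i => frl_4_25 (Nat.add 16362 i)) = true := by decide +kernel
theorem trc_4_25_10 : allB 1818 (fun i => frl_4_25 (Nat.add 18180 i)) = true := by decide +kernel
theorem trc_4_25_11 : allB 1818 (fun i => frl_4_25 (Nat.add 19998 i)) = true := by decide +kernel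
theorem trc_4_25_12 : allB 459 (fun i => frl_4_25 (Nat.add 21816 i)) = true := by decide +kernel

theorem trf_4_25 : allB NB frl_4_25 = true := by
  apply allB_iff.2
  intro a ha
  have ha' : a < 22275 := ha
  rcases Nat.lt_or_ge a 1818 with h0 | h0
  · exact allB_range (f := (frl_4_25)) (lo := 0) (len := 1818) trc_4_25_0 (by omega) (by omega)
  rcases Nat.lt_or_ge a 3636 with h1 | h1
  · exact allB_range (f := (frl_4_25)) (lo := 1818) (len := 1818) trc_4_25_1 (by omega) (by omega)
  rcases Nat.lt_or_ge a 5454 with h2 | h2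
  · exact allB_range (f := (frl_4_25)) (lo := 3636) (len := 1818) trc_4_25_2 (by omega) (by omega)
  rcases Nat.lt_or_ge a 7272 with h3 | h3
  · exact allB_range (f := (frl_4_25)) (lo := 5454) (len := 1818) trc_4_25_3 (by omega) (by omega)
  rcases Nat.lt_or_ge a 9090 with h4 | h4
  · exact allB_range (f := (frl_4_25)) (lo := 7272) (len := 1818) trc_4_25_4 (by omega) (by omega)
  rcases Nat.lt_or_ge a 10908 with h5 | h5
  · exact allB_range (f := (frl_4_25)) (lo := 9090) (len := 1818) trc_4_25_5 (by omega) (by omega)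
  rcases Nat.lt_or_ge a 12726 with h6 | h6
  · exact allB_range (f := (frl_4_25)) (lo := 10908) (len := 1818) trc_4_25_6 (by omega) (by omega)
  rcases Nat.lt_or_ge a 14544 with h7 | h7
  · exact allB_range (f := (frl_4_25)) (lo := 12726) (len := 1818) trc_4_25_7 (by omega) (by omega)
  rcases Nat.lt_or_ge a 16362 with h8 | h8
  · exact allB_range (f := (frl_4_25)) (lo := 14544) (len := 1818) trc_4_25_8 (by omega) (by omega)
  rcases Nat.lt_or_ge a 18180 with h9 | h9
  · exact allB_range (f := (frl_4_25)) (lo := 16362) (len := 1818) trc_4_25_9 (by omega) (by omega)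
  rcases Nat.lt_or_ge a 19998 with h10 | h10
  · exact allB_range (f := (frl_4_25)) (lo := 18180) (len := 1818) trc_4_25_10 (by omega) (by omega)
  rcases Nat.lt_or_ge a 21816 with h11 | h11
  · exact allB_range (f := (frl_4_25)) (lo := 19998) (len := 1818) trc_4_25_11 (by omega) (by omega)
  exact allB_range (f := (frl_4_25)) (lo := 21816) (len := 459) trc_4_25_12 (by omega) (by omega)

theorem rel_4_25 : relT cdM 0 (relB4.getD 25 []) = true := trf_4_25


end Cfsg.Agent.Lib.Helper5.McLCov
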