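import Cfsg.Agent.Lib.Helper5.McLCovA
import Cfsg.Agent.Lib.Helper5.McLCovData

/-! # The triple cover of `McL`: relators traced on the first rows of the blocks (kernel checks by ranges of blocks, part 17) -/

set_option autoImplicit false
set_option maxRecDepth 1000000

namespace Cfsg.Agent.Lib.Helper5.McLCov

open Cfsg.Agent.PG (allB allB_iff)

/-- the check of a block -/
noncomputable def frl_4_28 (a : ℕ) : Bool := Nat.beq (mlk mc1 (mlk mc4 (mlk mc1 (mlk mc2 (mlk mc3 (mlk mc1 (mlk mc5 (mlk mc0 (mlk mc5 (mlk mc1 (mlk mc3 (mlk mc2 (mlk mc1 (mlk mc4 (mlk mc1 (mlk mc4 (mlk mc2 (mlk mc4 (mlk mc1 (mlk mc4 (mlk mc5 (mlk mc0 (mlk mc5 (mlk mc4 (mlk mc1 (mlk mc4 (mlk mc2 (mlk mc4 (Nat.mul 3 a))))))))))))))))))))))))))))) (Nat.add (Nat.mul 3 a) 0)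

theorem trc_4_28_0 : allB 1428 (fun i => frl_4_28 (Nat.add 0 i)) = true := by decide +kernel
theorem trc_4_28_1 : allB 1428 (fun i => frl_4_28 (Nat.add 1428 i)) = true := by decide +kernel
theorem trc_4_28_2 : allB 1428 (fun i => frl_4_28 (Nat.add 2856 i)) = true := by decide +kernel
theorem trc_4_28_3 : allB 1428 (fun i => frl_4_28 (Nat.add 4284 i)) = true := by decide +kernel
theorem trc_4_28_4 : allB 1428 (fun i => frl_4_28 (Nat.add 5712 i)) = true := by decide +kernel
theorem trc_4_28_5 : allB 1428 (fun i => frl_4_28 (Nat.add 7140 i)) = true := by decide +kernel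
theorem trc_4_28_6 : allB 1428 (fun i => frl_4_28 (Nat.add 8568 i)) = true := by decide +kernel
theorem trc_4_28_7 : allB 1428 (fun i => frl_4_28 (Nat.add 9996 i)) = true := by decide +kernel
theorem trc_4_28_8 : allB 1428 (fun i => frl_4_28 (Nat.add 11424 i)) = true := by decide +kernel
theorem trc_4_28_9 : allB 1428 (fun i => frl_4_28 (Nat.add 12852 i)) = true := by decide +kernel
theorem trc_4_28_10 : allB 1428 (fun i => frl_4_28 (Nat.add 14280 i)) = true := by decide +kernel
theorem trc_4_28_11 : allB 1428 (fun i => frl_4_28 (Nat.add 15708 i)) = true := by decide +kernel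
theorem trc_4_28_12 : allB 1428 (fun i => frl_4_28 (Nat.add 17136 i)) = true := by decide +kernel
theorem trc_4_28_13 : allB 1428 (fun i => frl_4_28 (Nat.add 18564 i)) = true := by decide +kernel
theorem trc_4_28_14 : allB 1428 (fun i => frl_4_28 (Nat.add 19992 i)) = true := by decide +kernel
theorem trc_4_28_15 : allB 855 (fun i => frl_4_28 (Nat.add 21420 i)) = true := by decide +kernel

theorem trf_4_28 : allB NB frl_4_28 = true := by
  apply allB_iff.2
  intro a ha
  have ha' : a < 22275 := ha
  rcases Nat.lt_or_ge a 1428 with h0 | h0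
  · exact allB_range (f := (frl_4_28)) (lo := 0) (len := 1428) trc_4_28_0 (by omega) (by omega)
  rcases Nat.lt_or_ge a 2856 with h1 | h1
  · exact allB_range (f := (frl_4_28)) (lo := 1428) (len := 1428) trc_4_28_1 (by omega) (by omega)
  rcases Nat.lt_or_ge a 4284 with h2 | h2
  · exact allB_range (f := (frl_4_28)) (lo := 2856) (len := 1428) trc_4_28_2 (by omega) (by omega)
  rcases Nat.lt_or_ge a 5712 with h3 | h3
  · exact allB_range (f := (frl_4_28)) (lo := 4284) (len := 1428) trc_4_28_3 (by omega) (by omega)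
  rcases Nat.lt_or_ge a 7140 with h4 | h4
  · exact allB_range (f := (frl_4_28)) (lo := 5712) (len := 1428) trc_4_28_4 (by omega) (by omega)
  rcases Nat.lt_or_ge a 8568 with h5 | h5
  · exact allB_range (f := (frl_4_28)) (lo := 7140) (len := 1428) trc_4_28_5 (by omega) (by omega)
  rcases Nat.lt_or_ge a 9996 with h6 | h6
  · exact allB_range (f := (frl_4_28)) (lo := 8568) (len := 1428) trc_4_28_6 (by omega) (by omega)
  rcases Nat.lt_or_ge a 11424 with h7 | h7
  · exact allB_range (f := (frl_4_28)) (lo := 9996) (len := 1428) trc_4_28_7 (by omega) (by omega)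
  rcases Nat.lt_or_ge a 12852 with h8 | h8
  · exact allB_range (f := (frl_4_28)) (lo := 11424) (len := 1428) trc_4_28_8 (by omega) (by omega)
  rcases Nat.lt_or_ge a 14280 with h9 | h9
  · exact allB_range (f := (frl_4_28)) (lo := 12852) (len := 1428) trc_4_28_9 (by omega) (by omega)
  rcases Nat.lt_or_ge a 15708 with h10 | h10
  · exact allB_range (f := (frl_4_28)) (lo := 14280) (len := 1428) trc_4_28_10 (by omega) (by omega)
  rcases Nat.lt_or_ge a 17136 with h11 | h11
  · exact allB_range (f := (frl_4_28)) (lo := 15708) (len := 1428) trc_4_28_11 (by omega) (by omega)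
  rcases Nat.lt_or_ge a 18564 with h12 | h12
  · exact allB_range (f := (frl_4_28)) (lo := 17136) (len := 1428) trc_4_28_12 (by omega) (by omega)
  rcases Nat.lt_or_ge a 19992 with h13 | h13
  · exact allB_range (f := (frl_4_28)) (lo := 18564) (len := 1428) trc_4_28_13 (by omega) (by omega)
  rcases Nat.lt_or_ge a 21420 with h14 | h14
  · exact allB_range (f := (frl_4_28)) (lo := 19992) (len := 1428) trc_4_28_14 (by omega) (by omega)
  exact allB_range (f := (frl_4_28)) (lo := 21420) (len := 855) trc_4_28_15 (by omega) (by omega)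

theorem rel_4_28 : relT cdM 0 (relB4.getD 28 []) = true := trf_4_28

/-- the check of a block -/
noncomputable def frl_z (a : ℕ) : Bool := Nat.beq (mlk mc5 (mlk mc2 (mlk mc0 (mlk mc5 (mlk mc0 (mlk mc5 (mlk mc1 (mlk mc0 (mlk mc5 (mlk mc0 (mlk mc2 (mlk mc5 (mlk mc0 (mlk mc1 (mlk mc5 (mlk mc0 (Nat.mul 3 a))))))))))))))))) (Nat.add (Nat.mul 3 a) 1)

theorem trc_z_0 : allB 2500 (fun i => frl_z (Nat.add 0 i)) = true := by decide +kernel
theorem trc_z_1 : allB 2500 (fun i => frl_z (Nat.add 2500 i)) = true := by decide +kernel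
theorem trc_z_2 : allB 2500 (fun i => frl_z (Nat.add 5000 i)) = true := by decide +kernel
theorem trc_z_3 : allB 2500 (fun i => frl_z (Nat.add 7500 i)) = true := by decide +kernel
theorem trc_z_4 : allB 2500 (fun i => frl_z (Nat.add 10000 i)) = true := by decide +kernel
theorem trc_z_5 : allB 2500 (fun i => frl_z (Nat.add 12500 i)) = true := by decide +kernel
theorem trc_z_6 : allB 2500 (fun i => frl_z (Nat.add 15000 i)) = true := by decide +kernel
theorem trc_z_7 : allB 2500 (fun i => frl_z (Nat.add 17500 i)) = true := by decide +kernel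
theorem trc_z_8 : allB 2275 (fun i => frl_z (Nat.add 20000 i)) = true := by decide +kernel

theorem trf_z : allB NB frl_z = true := by
  apply allB_iff.2
  intro a ha
  have ha' : a < 22275 := ha
  rcases Nat.lt_or_ge a 2500 with h0 | h0
  · exact allB_range (f := (frl_z)) (lo := 0) (len := 2500) trc_z_0 (by omega) (by omega)
  rcases Nat.lt_or_ge a 5000 with h1 | h1
  · exact allB_range (f := (frl_z)) (lo := 2500) (len := 2500) trc_z_1 (by omega) (by omega)
  rcases Nat.lt_or_ge a 7500 with h2 | h2
  · exact allB_range (f := (frl_z)) (lo := 5000) (len := 2500) trc_z_2 (by omega) (by omega)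
  rcases Nat.lt_or_ge a 10000 with h3 | h3
  · exact allB_range (f := (frl_z)) (lo := 7500) (len := 2500) trc_z_3 (by omega) (by omega)
  rcases Nat.lt_or_ge a 12500 with h4 | h4
  · exact allB_range (f := (frl_z)) (lo := 10000) (len := 2500) trc_z_4 (by omega) (by omega)
  rcases Nat.lt_or_ge a 15000 with h5 | h5
  · exact allB_range (f := (frl_z)) (lo := 12500) (len := 2500) trc_z_5 (by omega) (by omega)
  rcases Nat.lt_or_ge a 17500 with h6 | h6
  · exact allB_range (f := (frl_z)) (lo := 15000) (len := 2500) trc_z_6 (by omega) (by omega)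
  rcases Nat.lt_or_ge a 20000 with h7 | h7
  · exact allB_range (f := (frl_z)) (lo := 17500) (len := 2500) trc_z_7 (by omega) (by omega)
  exact allB_range (f := (frl_z)) (lo := 20000) (len := 2275) trc_z_8 (by omega) (by omega)

theorem rel_z : relT cdM 1 (zU ++ (zV ++ (zU.reverse ++ zV.reverse))) = true := trf_z


end Cfsg.Agent.Lib.Helper5.McLCov
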