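import Cfsg.Agent.Lib.Helper5.McLCovA
import Cfsg.Agent.Lib.Helper5.McLCovData

/-! # The triple cover of `McL`: relators traced on the first rows of the blocks (kernel checks by ranges of blocks, part 2) -/

set_option autoImplicit false
set_option maxRecDepth 1000000

namespace Cfsg.Agent.Lib.Helper5.McLCov

open Cfsg.Agent.PG (allB allB_iff)

/-- the check of a block -/
noncomputable def frl_2_3 (a : ℕ) : Bool := Nat.beq (mlk mc1 (mlk mc2 (mlk mc1 (mlk mc2 (mlk mc1 (mlk mc2 (Nat.mul 3 a))))))) (Nat.add (Nat.mul 3 a) 0)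

theorem trc_2_3_0 : allB 6666 (fun i => frl_2_3 (Nat.add 0 i)) = true := by decide +kernel
theorem trc_2_3_1 : allB 6666 (fun i => frl_2_3 (Nat.add 6666 i)) = true := by decide +kernel
theorem trc_2_3_2 : allB 6666 (fun i => frl_2_3 (Nat.add 13332 i)) = true := by decide +kernel
theorem trc_2_3_3 : allB 2277 (fun i => frl_2_3 (Nat.add 19998 i)) = true := by decide +kernel

theorem trf_2_3 : allB NB frl_2_3 = true := by
  apply allB_iff.2
  intro a ha
  have ha' : a < 22275 := ha
  rcases Nat.lt_or_ge a 6666 with h0 | h0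
  · exact allB_range (f := (frl_2_3)) (lo := 0) (len := 6666) trc_2_3_0 (by omega) (by omega)
  rcases Nat.lt_or_ge a 13332 with h1 | h1
  · exact allB_range (f := (frl_2_3)) (lo := 6666) (len := 6666) trc_2_3_1 (by omega) (by omega)
  rcases Nat.lt_or_ge a 19998 with h2 | h2
  · exact allB_range (f := (frl_2_3)) (lo := 13332) (len := 6666) trc_2_3_2 (by omega) (by omega)
  exact allB_range (f := (frl_2_3)) (lo := 19998) (len := 2277) trc_2_3_3 (by omega) (by omega)

theorem rel_2_3 : relT cdM 0 (relB2.getD 3 []) = true := trf_2_3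

/-- the check of a block -/
noncomputable def frl_2_4 (a : ℕ) : Bool := Nat.beq (mlk mc0 (mlk mc2 (mlk mc0 (mlk mc3 (mlk mc0 (mlk mc2 (mlk mc0 (mlk mc3 (Nat.mul 3 a))))))))) (Nat.add (Nat.mul 3 a) 0)

theorem trc_2_4_0 : allB 5000 (fun i => frl_2_4 (Nat.add 0 i)) = true := by decide +kernel
theorem trc_2_4_1 : allB 5000 (fun i => frl_2_4 (Nat.add 5000 i)) = true := by decide +kernel
theorem trc_2_4_2 : allB 5000 (fun i => frl_2_4 (Nat.add 10000 i)) = true := by decide +kernel
theorem trc_2_4_3 : allB 5000 (fun i => frl_2_4 (Nat.add 15000 i)) = true := by decide +kernel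
theorem trc_2_4_4 : allB 2275 (fun i => frl_2_4 (Nat.add 20000 i)) = true := by decide +kernel

theorem trf_2_4 : allB NB frl_2_4 = true := by
  apply allB_iff.2
  intro a ha
  have ha' : a < 22275 := ha
  rcases Nat.lt_or_ge a 5000 with h0 | h0
  · exact allB_range (f := (frl_2_4)) (lo := 0) (len := 5000) trc_2_4_0 (by omega) (by omega)
  rcases Nat.lt_or_ge a 10000 with h1 | h1
  · exact allB_range (f := (frl_2_4)) (lo := 5000) (len := 5000) trc_2_4_1 (by omega) (by omega)
  rcases Nat.lt_or_ge a 15000 with h2 | h2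
  · exact allB_range (f := (frl_2_4)) (lo := 10000) (len := 5000) trc_2_4_2 (by omega) (by omega)
  rcases Nat.lt_or_ge a 20000 with h3 | h3
  · exact allB_range (f := (frl_2_4)) (lo := 15000) (len := 5000) trc_2_4_3 (by omega) (by omega)
  exact allB_range (f := (frl_2_4)) (lo := 20000) (len := 2275) trc_2_4_4 (by omega) (by omega)

theorem rel_2_4 : relT cdM 0 (relB2.getD 4 []) = true := trf_2_4

/-- the check of a block -/
noncomputable def frl_2_5 (a : ℕ) : Bool := Nat.beq (mlk mc0 (mlk mc1 (mlk mc0 (mlk mc1 (mlk mc3 (mlk mc0 (mlk mc1 (mlk mc0 (mlk mc1 (mlk mc3 (mlk mc0 (mlk mc1 (mlk mc0 (mlk mc1 (mlk mc3 (Nat.mul 3 a)))))))))))))))) (Nat.add (Nat.mul 3 a) 0)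

theorem trc_2_5_0 : allB 2666 (fun i => frl_2_5 (Nat.add 0 i)) = true := by decide +kernel
theorem trc_2_5_1 : allB 2666 (fun i => frl_2_5 (Nat.add 2666 i)) = true := by decide +kernel
theorem trc_2_5_2 : allB 2666 (fun i => frl_2_5 (Nat.add 5332 i)) = true := by decide +kernel
theorem trc_2_5_3 : allB 2666 (fun i => frl_2_5 (Nat.add 7998 i)) = true := by decide +kernel
theorem trc_2_5_4 : allB 2666 (fun i => frl_2_5 (Nat.add 10664 i)) = true := by decide +kernel
theorem trc_2_5_5 : allB 2666 (fun i => frl_2_5 (Nat.add 13330 i)) = true := by decide +kernel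
theorem trc_2_5_6 : allB 2666 (fun i => frl_2_5 (Nat.add 15996 i)) = true := by decide +kernel
theorem trc_2_5_7 : allB 2666 (fun i => frl_2_5 (Nat.add 18662 i)) = true := by decide +kernel
theorem trc_2_5_8 : allB 947 (fun i => frl_2_5 (Nat.add 21328 i)) = true := by decide +kernel

theorem trf_2_5 : allB NB frl_2_5 = true := by
  apply allB_iff.2
  intro a ha
  have ha' : a < 22275 := ha
  rcases Nat.lt_or_ge a 2666 with h0 | h0
  · exact allB_range (f := (frl_2_5)) (lo := 0) (len := 2666) trc_2_5_0 (by omega) (by omega)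
  rcases Nat.lt_or_ge a 5332 with h1 | h1
  · exact allB_range (f := (frl_2_5)) (lo := 2666) (len := 2666) trc_2_5_1 (by omega) (by omega)
  rcases Nat.lt_or_ge a 7998 with h2 | h2
  · exact allB_range (f := (frl_2_5)) (lo := 5332) (len := 2666) trc_2_5_2 (by omega) (by omega)
  rcases Nat.lt_or_ge a 10664 with h3 | h3
  · exact allB_range (f := (frl_2_5)) (lo := 7998) (len := 2666) trc_2_5_3 (by omega) (by omega)
  rcases Nat.lt_or_ge a 13330 with h4 | h4
  · exact allB_range (f := (frl_2_5)) (lo := 10664) (len := 2666) trc_2_5_4 (by omega) (by omega)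
  rcases Nat.lt_or_ge a 15996 with h5 | h5
  · exact allB_range (f := (frl_2_5)) (lo := 13330) (len := 2666) trc_2_5_5 (by omega) (by omega)
  rcases Nat.lt_or_ge a 18662 with h6 | h6
  · exact allB_range (f := (frl_2_5)) (lo := 15996) (len := 2666) trc_2_5_6 (by omega) (by omega)
  rcases Nat.lt_or_ge a 21328 with h7 | h7
  · exact allB_range (f := (frl_2_5)) (lo := 18662) (len := 2666) trc_2_5_7 (by omega) (by omega)
  exact allB_range (f := (frl_2_5)) (lo := 21328) (len := 947) trc_2_5_8 (by omega) (by omega)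

theorem rel_2_5 : relT cdM 0 (relB2.getD 5 []) = true := trf_2_5

/-- the check of a block -/
noncomputable def frl_2_6 (a : ℕ) : Bool := Nat.beq (mlk mc0 (mlk mc1 (mlk mc2 (mlk mc0 (mlk mc3 (mlk mc1 (mlk mc0 (mlk mc1 (mlk mc3 (mlk mc0 (mlk mc2 (mlk mc1 (mlk mc0 (mlk mc2 (mlk mc1 (mlk mc0 (mlk mc3 (mlk mc2 (mlk mc1 (mlk mc2 (mlk mc3 (mlk mc0 (mlk mc1 (mlk mc2 (Nat.mul 3 a))))))))))))))))))))))))) (Nat.add (Nat.mul 3 a) 0)

theorem trc_2_6_0 : allB 1666 (fun i => frl_2_6 (Nat.add 0 i)) = true := by decide +kernel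
theorem trc_2_6_1 : allB 1666 (fun i => frl_2_6 (Nat.add 1666 i)) = true := by decide +kernel
theorem trc_2_6_2 : allB 1666 (fun i => frl_2_6 (Nat.add 3332 i)) = true := by decide +kernel
theorem trc_2_6_3 : allB 1666 (fun i => frl_2_6 (Nat.add 4998 i)) = true := by decide +kernel
theorem trc_2_6_4 : allB 1666 (fun i => frl_2_6 (Nat.add 6664 i)) = true := by decide +kernel
theorem trc_2_6_5 : allB 1666 (fun i => frl_2_6 (Nat.add 8330 i)) = true := by decide +kernel
theorem trc_2_6_6 : allB 1666 (fun i => frl_2_6 (Nat.add 9996 i)) = true := by decide +kernel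
theorem trc_2_6_7 : allB 1666 (fun i => frl_2_6 (Nat.add 11662 i)) = true := by decide +kernel
theorem trc_2_6_8 : allB 1666 (fun i => frl_2_6 (Nat.add 13328 i)) = true := by decide +kernel
theorem trc_2_6_9 : allB 1666 (fun i => frl_2_6 (Nat.add 14994 i)) = true := by decide +kernel
theorem trc_2_6_10 : allB 1666 (fun i => frl_2_6 (Nat.add 16660 i)) = true := by decide +kernel
theorem trc_2_6_11 : allB 1666 (fun i => frl_2_6 (Nat.add 18326 i)) = true := by decide +kernel
theorem trc_2_6_12 : allB 1666 (fun i => frl_2_6 (Nat.add 19992 i)) = true := by decide +kernel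
theorem trc_2_6_13 : allB 617 (fun i => frl_2_6 (Nat.add 21658 i)) = true := by decide +kernel

theorem trf_2_6 : allB NB frl_2_6 = true := by
  apply allB_iff.2
  intro a ha
  have ha' : a < 22275 := ha
  rcases Nat.lt_or_ge a 1666 with h0 | h0
  · exact allB_range (f := (frl_2_6)) (lo := 0) (len := 1666) trc_2_6_0 (by omega) (by omega)
  rcases Nat.lt_or_ge a 3332 with h1 | h1
  · exact allB_range (f := (frl_2_6)) (lo := 1666) (len := 1666) trc_2_6_1 (by omega) (by omega)
  rcases Nat.lt_or_ge a 4998 with h2 | h2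
  · exact allB_range (f := (frl_2_6)) (lo := 3332) (len := 1666) trc_2_6_2 (by omega) (by omega)
  rcases Nat.lt_or_ge a 6664 with h3 | h3
  · exact allB_range (f := (frl_2_6)) (lo := 4998) (len := 1666) trc_2_6_3 (by omega) (by omega)
  rcases Nat.lt_or_ge a 8330 with h4 | h4
  · exact allB_range (f := (frl_2_6)) (lo := 6664) (len := 1666) trc_2_6_4 (by omega) (by omega)
  rcases Nat.lt_or_ge a 9996 with h5 | h5
  · exact allB_range (f := (frl_2_6)) (lo := 8330) (len := 1666) trc_2_6_5 (by omega) (by omega)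
  rcases Nat.lt_or_ge a 11662 with h6 | h6
  · exact allB_range (f := (frl_2_6)) (lo := 9996) (len := 1666) trc_2_6_6 (by omega) (by omega)
  rcases Nat.lt_or_ge a 13328 with h7 | h7
  · exact allB_range (f := (frl_2_6)) (lo := 11662) (len := 1666) trc_2_6_7 (by omega) (by omega)
  rcases Nat.lt_or_ge a 14994 with h8 | h8
  · exact allB_range (f := (frl_2_6)) (lo := 13328) (len := 1666) trc_2_6_8 (by omega) (by omega)
  rcases Nat.lt_or_ge a 16660 with h9 | h9
  · exact allB_range (f := (frl_2_6)) (lo := 14994) (len := 1666) trc_2_6_9 (by omega) (by omega)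
  rcases Nat.lt_or_ge a 18326 with h10 | h10
  · exact allB_range (f := (frl_2_6)) (lo := 16660) (len := 1666) trc_2_6_10 (by omega) (by omega)
  rcases Nat.lt_or_ge a 19992 with h11 | h11
  · exact allB_range (f := (frl_2_6)) (lo := 18326) (len := 1666) trc_2_6_11 (by omega) (by omega)
  rcases Nat.lt_or_ge a 21658 with h12 | h12
  · exact allB_range (f := (frl_2_6)) (lo := 19992) (len := 1666) trc_2_6_12 (by omega) (by omega)
  exact allB_range (f := (frl_2_6)) (lo := 21658) (len := 617) trc_2_6_13 (by omega) (by omega)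

theorem rel_2_6 : relT cdM 0 (relB2.getD 6 []) = true := trf_2_6


end Cfsg.Agent.Lib.Helper5.McLCov
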