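import Cfsg.Agent.Lib.Helper5.McLCovA
import Cfsg.Agent.Lib.Helper5.McLCovData

/-! # The triple cover of `McL`: relators traced on the first rows of the blocks (kernel checks by ranges of blocks, part 3) -/

set_option autoImplicit false
set_option maxRecDepth 1000000

namespace Cfsg.Agent.Lib.Helper5.McLCov

open Cfsg.Agent.PG (allB allB_iff)

/-- the check of a block -/
noncomputable def frl_2_7 (a : ℕ) : Bool := Nat.beq (mlk mc0 (mlk mc2 (mlk mc3 (mlk mc2 (mlk mc1 (mlk mc0 (mlk mc2 (mlk mc3 (mlk mc2 (mlk mc1 (mlk mc0 (mlk mc2 (mlk mc3 (mlk mc2 (mlk mc1 (mlk mc0 (mlk mc2 (mlk mc3 (mlk mc2 (mlk mc1 (mlk mc0 (mlk mc2 (mlk mc3 (mlk mc2 (mlk mc1 (Nat.mul 3 a)))))))))))))))))))))))))) (Nat.add (Nat.mul 3 a) 0)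

theorem trc_2_7_0 : allB 1600 (fun i => frl_2_7 (Nat.add 0 i)) = true := by decide +kernel
theorem trc_2_7_1 : allB 1600 (fun i => frl_2_7 (Nat.add 1600 i)) = true := by decide +kernel
theorem trc_2_7_2 : allB 1600 (fun i => frl_2_7 (Nat.add 3200 i)) = true := by decide +kernel
theorem trc_2_7_3 : allB 1600 (fun i => frl_2_7 (Nat.add 4800 i)) = true := by decide +kernel
theorem trc_2_7_4 : allB 1600 (fun i => frl_2_7 (Nat.add 6400 i)) = true := by decide +kernel
theorem trc_2_7_5 : allB 1600 (fun i => frl_2_7 (Nat.add 8000 i)) = true := by decide +kernel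
theorem trc_2_7_6 : allB 1600 (fun i => frl_2_7 (Nat.add 9600 i)) = true := by decide +kernel
theorem trc_2_7_7 : allB 1600 (fun i => frl_2_7 (Nat.add 11200 i)) = true := by decide +kernel
theorem trc_2_7_8 : allB 1600 (fun i => frl_2_7 (Nat.add 12800 i)) = true := by decide +kernel
theorem trc_2_7_9 : allB 1600 (fun i => frl_2_7 (Nat.add 14400 i)) = true := by decide +kernel
theorem trc_2_7_10 : allB 1600 (fun i => frl_2_7 (Nat.add 16000 i)) = true := by decide +kernel
theorem trc_2_7_11 : allB 1600 (fun i => frl_2_7 (Nat.add 17600 i)) = true := by decide +kernel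
theorem trc_2_7_12 : allB 1600 (fun i => frl_2_7 (Nat.add 19200 i)) = true := by decide +kernel
theorem trc_2_7_13 : allB 1475 (fun i => frl_2_7 (Nat.add 20800 i)) = true := by decide +kernel

theorem trf_2_7 : allB NB frl_2_7 = true := by
  apply allB_iff.2
  intro a ha
  have ha' : a < 22275 := ha
  rcases Nat.lt_or_ge a 1600 with h0 | h0
  · exact allB_range (f := (frl_2_7)) (lo := 0) (len := 1600) trc_2_7_0 (by omega) (by omega)
  rcases Nat.lt_or_ge a 3200 with h1 | h1
  · exact allB_range (f := (frl_2_7)) (lo := 1600) (len := 1600) trc_2_7_1 (by omega) (by omega)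
  rcases Nat.lt_or_ge a 4800 with h2 | h2
  · exact allB_range (f := (frl_2_7)) (lo := 3200) (len := 1600) trc_2_7_2 (by omega) (by omega)
  rcases Nat.lt_or_ge a 6400 with h3 | h3
  · exact allB_range (f := (frl_2_7)) (lo := 4800) (len := 1600) trc_2_7_3 (by omega) (by omega)
  rcases Nat.lt_or_ge a 8000 with h4 | h4
  · exact allB_range (f := (frl_2_7)) (lo := 6400) (len := 1600) trc_2_7_4 (by omega) (by omega)
  rcases Nat.lt_or_ge a 9600 with h5 | h5
  · exact allB_range (f := (frl_2_7)) (lo := 8000) (len := 1600) trc_2_7_5 (by omega) (by omega)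
  rcases Nat.lt_or_ge a 11200 with h6 | h6
  · exact allB_range (f := (frl_2_7)) (lo := 9600) (len := 1600) trc_2_7_6 (by omega) (by omega)
  rcases Nat.lt_or_ge a 12800 with h7 | h7
  · exact allB_range (f := (frl_2_7)) (lo := 11200) (len := 1600) trc_2_7_7 (by omega) (by omega)
  rcases Nat.lt_or_ge a 14400 with h8 | h8
  · exact allB_range (f := (frl_2_7)) (lo := 12800) (len := 1600) trc_2_7_8 (by omega) (by omega)
  rcases Nat.lt_or_ge a 16000 with h9 | h9
  · exact allB_range (f := (frl_2_7)) (lo := 14400) (len := 1600) trc_2_7_9 (by omega) (by omega)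
  rcases Nat.lt_or_ge a 17600 with h10 | h10
  · exact allB_range (f := (frl_2_7)) (lo := 16000) (len := 1600) trc_2_7_10 (by omega) (by omega)
  rcases Nat.lt_or_ge a 19200 with h11 | h11
  · exact allB_range (f := (frl_2_7)) (lo := 17600) (len := 1600) trc_2_7_11 (by omega) (by omega)
  rcases Nat.lt_or_ge a 20800 with h12 | h12
  · exact allB_range (f := (frl_2_7)) (lo := 19200) (len := 1600) trc_2_7_12 (by omega) (by omega)
  exact allB_range (f := (frl_2_7)) (lo := 20800) (len := 1475) trc_2_7_13 (by omega) (by omega)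

theorem rel_2_7 : relT cdM 0 (relB2.getD 7 []) = true := trf_2_7

/-- the check of a block -/
noncomputable def frl_3_0 (a : ℕ) : Bool := Nat.beq (mlk mc3 (mlk mc1 (mlk mc3 (mlk mc1 (Nat.mul 3 a))))) (Nat.add (Nat.mul 3 a) 0)

theorem trc_3_0_0 : allB 10000 (fun i => frl_3_0 (Nat.add 0 i)) = true := by decide +kernel
theorem trc_3_0_1 : allB 10000 (fun i => frl_3_0 (Nat.add 10000 i)) = true := by decide +kernel
theorem trc_3_0_2 : allB 2275 (fun i => frl_3_0 (Nat.add 20000 i)) = true := by decide +kernel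

theorem trf_3_0 : allB NB frl_3_0 = true := by
  apply allB_iff.2
  intro a ha
  have ha' : a < 22275 := ha
  rcases Nat.lt_or_ge a 10000 with h0 | h0
  · exact allB_range (f := (frl_3_0)) (lo := 0) (len := 10000) trc_3_0_0 (by omega) (by omega)
  rcases Nat.lt_or_ge a 20000 with h1 | h1
  · exact allB_range (f := (frl_3_0)) (lo := 10000) (len := 10000) trc_3_0_1 (by omega) (by omega)
  exact allB_range (f := (frl_3_0)) (lo := 20000) (len := 2275) trc_3_0_2 (by omega) (by omega)

theorem rel_3_0 : relT cdM 0 (relB3.getD 0 []) = true := trf_3_0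

/-- the check of a block -/
noncomputable def frl_3_1 (a : ℕ) : Bool := Nat.beq (mlk mc3 (mlk mc4 (mlk mc3 (mlk mc4 (Nat.mul 3 a))))) (Nat.add (Nat.mul 3 a) 0)

theorem trc_3_1_0 : allB 10000 (fun i => frl_3_1 (Nat.add 0 i)) = true := by decide +kernel
theorem trc_3_1_1 : allB 10000 (fun i => frl_3_1 (Nat.add 10000 i)) = true := by decide +kernel
theorem trc_3_1_2 : allB 2275 (fun i => frl_3_1 (Nat.add 20000 i)) = true := by decide +kernel

theorem trf_3_1 : allB NB frl_3_1 = true := by
  apply allB_iff.2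
  intro a ha
  have ha' : a < 22275 := ha
  rcases Nat.lt_or_ge a 10000 with h0 | h0
  · exact allB_range (f := (frl_3_1)) (lo := 0) (len := 10000) trc_3_1_0 (by omega) (by omega)
  rcases Nat.lt_or_ge a 20000 with h1 | h1
  · exact allB_range (f := (frl_3_1)) (lo := 10000) (len := 10000) trc_3_1_1 (by omega) (by omega)
  exact allB_range (f := (frl_3_1)) (lo := 20000) (len := 2275) trc_3_1_2 (by omega) (by omega)

theorem rel_3_1 : relT cdM 0 (relB3.getD 1 []) = true := trf_3_1


end Cfsg.Agent.Lib.Helper5.McLCov
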