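import Cfsg.Agent.Lib.Helper5.McLCovA
import Cfsg.Agent.Lib.Helper5.McLCovData

/-! # The triple cover of `McL`: relators traced on the first rows of the blocks (kernel checks by ranges of blocks, part 6) -/

set_option autoImplicit false
set_option maxRecDepth 1000000

namespace Cfsg.Agent.Lib.Helper5.McLCov

open Cfsg.Agent.PG (allB allB_iff)

/-- the check of a block -/
noncomputable def frl_3_11 (a : ℕ) : Bool := Nat.beq (mlk mc0 (mlk mc1 (mlk mc0 (mlk mc4 (mlk mc3 (mlk mc0 (mlk mc1 (mlk mc0 (mlk mc4 (mlk mc3 (mlk mc0 (mlk mc1 (mlk mc0 (mlk mc4 (mlk mc3 (Nat.mul 3 a)))))))))))))))) (Nat.add (Nat.mul 3 a) 0)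

theorem trc_3_11_0 : allB 2666 (fun i => frl_3_11 (Nat.add 0 i)) = true := by decide +kernel
theorem trc_3_11_1 : allB 2666 (fun i => frl_3_11 (Nat.add 2666 i)) = true := by decide +kernel
theorem trc_3_11_2 : allB 2666 (fun i => frl_3_11 (Nat.add 5332 i)) = true := by decide +kernel
theorem trc_3_11_3 : allB 2666 (fun i => frl_3_11 (Nat.add 7998 i)) = true := by decide +kernel
theorem trc_3_11_4 : allB 2666 (fun i => frl_3_11 (Nat.add 10664 i)) = true := by decide +kernel
theorem trc_3_11_5 : allB 2666 (fun i => frl_3_11 (Nat.add 13330 i)) = true := by decide +kernel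
theorem trc_3_11_6 : allB 2666 (fun i => frl_3_11 (Nat.add 15996 i)) = true := by decide +kernel
theorem trc_3_11_7 : allB 2666 (fun i => frl_3_11 (Nat.add 18662 i)) = true := by decide +kernel
theorem trc_3_11_8 : allB 947 (fun i => frl_3_11 (Nat.add 21328 i)) = true := by decide +kernel

theorem trf_3_11 : allB NB frl_3_11 = true := by
  apply allB_iff.2
  intro a ha
  have ha' : a < 22275 := ha
  rcases Nat.lt_or_ge a 2666 with h0 | h0
  · exact allB_range (f := (frl_3_11)) (lo := 0) (len := 2666) trc_3_11_0 (by omega) (by omega)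
  rcases Nat.lt_or_ge a 5332 with h1 | h1
  · exact allB_range (f := (frl_3_11)) (lo := 2666) (len := 2666) trc_3_11_1 (by omega) (by omega)
  rcases Nat.lt_or_ge a 7998 with h2 | h2
  · exact allB_range (f := (frl_3_11)) (lo := 5332) (len := 2666) trc_3_11_2 (by omega) (by omega)
  rcases Nat.lt_or_ge a 10664 with h3 | h3
  · exact allB_range (f := (frl_3_11)) (lo := 7998) (len := 2666) trc_3_11_3 (by omega) (by omega)
  rcases Nat.lt_or_ge a 13330 with h4 | h4
  · exact allB_range (f := (frl_3_11)) (lo := 10664) (len := 2666) trc_3_11_4 (by omega) (by omega)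
  rcases Nat.lt_or_ge a 15996 with h5 | h5
  · exact allB_range (f := (frl_3_11)) (lo := 13330) (len := 2666) trc_3_11_5 (by omega) (by omega)
  rcases Nat.lt_or_ge a 18662 with h6 | h6
  · exact allB_range (f := (frl_3_11)) (lo := 15996) (len := 2666) trc_3_11_6 (by omega) (by omega)
  rcases Nat.lt_or_ge a 21328 with h7 | h7
  · exact allB_range (f := (frl_3_11)) (lo := 18662) (len := 2666) trc_3_11_7 (by omega) (by omega)
  exact allB_range (f := (frl_3_11)) (lo := 21328) (len := 947) trc_3_11_8 (by omega) (by omega)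

theorem rel_3_11 : relT cdM 0 (relB3.getD 11 []) = true := trf_3_11

/-- the check of a block -/
noncomputable def frl_3_12 (a : ℕ) : Bool := Nat.beq (mlk mc1 (mlk mc4 (mlk mc0 (mlk mc1 (mlk mc2 (mlk mc0 (mlk mc2 (mlk mc1 (mlk mc0 (mlk mc4 (mlk mc1 (mlk mc2 (mlk mc0 (mlk mc1 (mlk mc2 (mlk mc4 (mlk mc2 (mlk mc1 (mlk mc0 (mlk mc2 (Nat.mul 3 a))))))))))))))))))))) (Nat.add (Nat.mul 3 a) 0)

theorem trc_3_12_0 : allB 2000 (fun i => frl_3_12 (Nat.add 0 i)) = true := by decide +kernel
theorem trc_3_12_1 : allB 2000 (fun i => frl_3_12 (Nat.add 2000 i)) = true := by decide +kernel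
theorem trc_3_12_2 : allB 2000 (fun i => frl_3_12 (Nat.add 4000 i)) = true := by decide +kernel
theorem trc_3_12_3 : allB 2000 (fun i => frl_3_12 (Nat.add 6000 i)) = true := by decide +kernel
theorem trc_3_12_4 : allB 2000 (fun i => frl_3_12 (Nat.add 8000 i)) = true := by decide +kernel
theorem trc_3_12_5 : allB 2000 (fun i => frl_3_12 (Nat.add 10000 i)) = true := by decide +kernel
theorem trc_3_12_6 : allB 2000 (fun i => frl_3_12 (Nat.add 12000 i)) = true := by decide +kernel
theorem trc_3_12_7 : allB 2000 (fun i => frl_3_12 (Nat.add 14000 i)) = true := by decide +kernel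
theorem trc_3_12_8 : allB 2000 (fun i => frl_3_12 (Nat.add 16000 i)) = true := by decide +kernel
theorem trc_3_12_9 : allB 2000 (fun i => frl_3_12 (Nat.add 18000 i)) = true := by decide +kernel
theorem trc_3_12_10 : allB 2000 (fun i => frl_3_12 (Nat.add 20000 i)) = true := by decide +kernel
theorem trc_3_12_11 : allB 275 (fun i => frl_3_12 (Nat.add 22000 i)) = true := by decide +kernel

theorem trf_3_12 : allB NB frl_3_12 = true := by
  apply allB_iff.2
  intro a ha
  have ha' : a < 22275 := ha
  rcases Nat.lt_or_ge a 2000 with h0 | h0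
  · exact allB_range (f := (frl_3_12)) (lo := 0) (len := 2000) trc_3_12_0 (by omega) (by omega)
  rcases Nat.lt_or_ge a 4000 with h1 | h1
  · exact allB_range (f := (frl_3_12)) (lo := 2000) (len := 2000) trc_3_12_1 (by omega) (by omega)
  rcases Nat.lt_or_ge a 6000 with h2 | h2
  · exact allB_range (f := (frl_3_12)) (lo := 4000) (len := 2000) trc_3_12_2 (by omega) (by omega)
  rcases Nat.lt_or_ge a 8000 with h3 | h3
  · exact allB_range (f := (frl_3_12)) (lo := 6000) (len := 2000) trc_3_12_3 (by omega) (by omega)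
  rcases Nat.lt_or_ge a 10000 with h4 | h4
  · exact allB_range (f := (frl_3_12)) (lo := 8000) (len := 2000) trc_3_12_4 (by omega) (by omega)
  rcases Nat.lt_or_ge a 12000 with h5 | h5
  · exact allB_range (f := (frl_3_12)) (lo := 10000) (len := 2000) trc_3_12_5 (by omega) (by omega)
  rcases Nat.lt_or_ge a 14000 with h6 | h6
  · exact allB_range (f := (frl_3_12)) (lo := 12000) (len := 2000) trc_3_12_6 (by omega) (by omega)
  rcases Nat.lt_or_ge a 16000 with h7 | h7
  · exact allB_range (f := (frl_3_12)) (lo := 14000) (len := 2000) trc_3_12_7 (by omega) (by omega)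
  rcases Nat.lt_or_ge a 18000 with h8 | h8
  · exact allB_range (f := (frl_3_12)) (lo := 16000) (len := 2000) trc_3_12_8 (by omega) (by omega)
  rcases Nat.lt_or_ge a 20000 with h9 | h9
  · exact allB_range (f := (frl_3_12)) (lo := 18000) (len := 2000) trc_3_12_9 (by omega) (by omega)
  rcases Nat.lt_or_ge a 22000 with h10 | h10
  · exact allB_range (f := (frl_3_12)) (lo := 20000) (len := 2000) trc_3_12_10 (by omega) (by omega)
  exact allB_range (f := (frl_3_12)) (lo := 22000) (len := 275) trc_3_12_11 (by omega) (by omega)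

theorem rel_3_12 : relT cdM 0 (relB3.getD 12 []) = true := trf_3_12


end Cfsg.Agent.Lib.Helper5.McLCov
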