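import Cfsg.Agent.Lib.Helper5.McLCovA
import Cfsg.Agent.Lib.Helper5.McLCovData

/-! # The triple cover of `McL`: relators traced on the first rows of the blocks (kernel checks by ranges of blocks, part 7) -/

set_option autoImplicit false
set_option maxRecDepth 1000000

namespace Cfsg.Agent.Lib.Helper5.McLCov

open Cfsg.Agent.PG (allB allB_iff)

/-- the check of a block -/
noncomputable def frl_3_13 (a : ℕ) : Bool := Nat.beq (mlk mc1 (mlk mc4 (mlk mc1 (mlk mc4 (mlk mc2 (mlk mc0 (mlk mc2 (mlk mc4 (mlk mc1 (mlk mc4 (mlk mc1 (mlk mc0 (mlk mc3 (mlk mc1 (mlk mc2 (mlk mc1 (mlk mc0 (mlk mc1 (mlk mc2 (mlk mc1 (mlk mc3 (mlk mc0 (Nat.mul 3 a))))))))))))))))))))))) (Nat.add (Nat.mul 3 a) 0)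

theorem trc_3_13_0 : allB 1818 (fun i => frl_3_13 (Nat.add 0 i)) = true := by decide +kernel
theorem trc_3_13_1 : allB 1818 (fun i => frl_3_13 (Nat.add 1818 i)) = true := by decide +kernel
theorem trc_3_13_2 : allB 1818 (fun i => frl_3_13 (Nat.add 3636 i)) = true := by decide +kernel
theorem trc_3_13_3 : allB 1818 (fun i => frl_3_13 (Nat.add 5454 i)) = true := by decide +kernel
theorem trc_3_13_4 : allB 1818 (fun i => frl_3_13 (Nat.add 7272 i)) = true := by decide +kernel
theorem trc_3_13_5 : allB 1818 (fun i => frl_3_13 (Nat.add 9090 i)) = true := by decide +kernel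
theorem trc_3_13_6 : allB 1818 (fun i => frl_3_13 (Nat.add 10908 i)) = true := by decide +kernel
theorem trc_3_13_7 : allB 1818 (fun i => frl_3_13 (Nat.add 12726 i)) = true := by decide +kernel
theorem trc_3_13_8 : allB 1818 (fun i => frl_3_13 (Nat.add 14544 i)) = true := by decide +kernel
theorem trc_3_13_9 : allB 1818 (fun i => frl_3_13 (Nat.add 16362 i)) = true := by decide +kernel
theorem trc_3_13_10 : allB 1818 (fun i => frl_3_13 (Nat.add 18180 i)) = true := by decide +kernel
theorem trc_3_13_11 : allB 1818 (fun i => frl_3_13 (Nat.add 19998 i)) = true := by decide +kernel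
theorem trc_3_13_12 : allB 459 (fun i => frl_3_13 (Nat.add 21816 i)) = true := by decide +kernel

theorem trf_3_13 : allB NB frl_3_13 = true := by
  apply allB_iff.2
  intro a ha
  have ha' : a < 22275 := ha
  rcases Nat.lt_or_ge a 1818 with h0 | h0
  · exact allB_range (f := (frl_3_13)) (lo := 0) (len := 1818) trc_3_13_0 (by omega) (by omega)
  rcases Nat.lt_or_ge a 3636 with h1 | h1
  · exact allB_range (f := (frl_3_13)) (lo := 1818) (len := 1818) trc_3_13_1 (by omega) (by omega)
  rcases Nat.lt_or_ge a 5454 with h2 | h2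
  · exact allB_range (f := (frl_3_13)) (lo := 3636) (len := 1818) trc_3_13_2 (by omega) (by omega)
  rcases Nat.lt_or_ge a 7272 with h3 | h3
  · exact allB_range (f := (frl_3_13)) (lo := 5454) (len := 1818) trc_3_13_3 (by omega) (by omega)
  rcases Nat.lt_or_ge a 9090 with h4 | h4
  · exact allB_range (f := (frl_3_13)) (lo := 7272) (len := 1818) trc_3_13_4 (by omega) (by omega)
  rcases Nat.lt_or_ge a 10908 with h5 | h5
  · exact allB_range (f := (frl_3_13)) (lo := 9090) (len := 1818) trc_3_13_5 (by omega) (by omega)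
  rcases Nat.lt_or_ge a 12726 with h6 | h6
  · exact allB_range (f := (frl_3_13)) (lo := 10908) (len := 1818) trc_3_13_6 (by omega) (by omega)
  rcases Nat.lt_or_ge a 14544 with h7 | h7
  · exact allB_range (f := (frl_3_13)) (lo := 12726) (len := 1818) trc_3_13_7 (by omega) (by omega)
  rcases Nat.lt_or_ge a 16362 with h8 | h8
  · exact allB_range (f := (frl_3_13)) (lo := 14544) (len := 1818) trc_3_13_8 (by omega) (by omega)
  rcases Nat.lt_or_ge a 18180 with h9 | h9
  · exact allB_range (f := (frl_3_13)) (lo := 16362) (len := 1818) trc_3_13_9 (by omega) (by omega)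
  rcases Nat.lt_or_ge a 19998 with h10 | h10
  · exact allB_range (f := (frl_3_13)) (lo := 18180) (len := 1818) trc_3_13_10 (by omega) (by omega)
  rcases Nat.lt_or_ge a 21816 with h11 | h11
  · exact allB_range (f := (frl_3_13)) (lo := 19998) (len := 1818) trc_3_13_11 (by omega) (by omega)
  exact allB_range (f := (frl_3_13)) (lo := 21816) (len := 459) trc_3_13_12 (by omega) (by omega)

theorem rel_3_13 : relT cdM 0 (relB3.getD 13 []) = true := trf_3_13

/-- the check of a block -/
noncomputable def frl_4_0 (a : ℕ) : Bool := Nat.beq (mlk mc3 (mlk mc1 (mlk mc3 (mlk mc1 (Nat.mul 3 a))))) (Nat.add (Nat.mul 3 a) 0)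

theorem trc_4_0_0 : allB 10000 (fun i => frl_4_0 (Nat.add 0 i)) = true := by decide +kernel
theorem trc_4_0_1 : allB 10000 (fun i => frl_4_0 (Nat.add 10000 i)) = true := by decide +kernel
theorem trc_4_0_2 : allB 2275 (fun i => frl_4_0 (Nat.add 20000 i)) = true := by decide +kernel

theorem trf_4_0 : allB NB frl_4_0 = true := by
  apply allB_iff.2
  intro a ha
  have ha' : a < 22275 := ha
  rcases Nat.lt_or_ge a 10000 with h0 | h0
  · exact allB_range (f := (frl_4_0)) (lo := 0) (len := 10000) trc_4_0_0 (by omega) (by omega)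
  rcases Nat.lt_or_ge a 20000 with h1 | h1
  · exact allB_range (f := (frl_4_0)) (lo := 10000) (len := 10000) trc_4_0_1 (by omega) (by omega)
  exact allB_range (f := (frl_4_0)) (lo := 20000) (len := 2275) trc_4_0_2 (by omega) (by omega)

theorem rel_4_0 : relT cdM 0 (relB4.getD 0 []) = true := trf_4_0

/-- the check of a block -/
noncomputable def frl_4_1 (a : ℕ) : Bool := Nat.beq (mlk mc0 (mlk mc2 (mlk mc0 (mlk mc2 (mlk mc0 (mlk mc2 (Nat.mul 3 a))))))) (Nat.add (Nat.mul 3 a) 0)

theorem trc_4_1_0 : allB 6666 (fun i => frl_4_1 (Nat.add 0 i)) = true := by decide +kernel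
theorem trc_4_1_1 : allB 6666 (fun i => frl_4_1 (Nat.add 6666 i)) = true := by decide +kernel
theorem trc_4_1_2 : allB 6666 (fun i => frl_4_1 (Nat.add 13332 i)) = true := by decide +kernel
theorem trc_4_1_3 : allB 2277 (fun i => frl_4_1 (Nat.add 19998 i)) = true := by decide +kernel

theorem trf_4_1 : allB NB frl_4_1 = true := by
  apply allB_iff.2
  intro a ha
  have ha' : a < 22275 := ha
  rcases Nat.lt_or_ge a 6666 with h0 | h0
  · exact allB_range (f := (frl_4_1)) (lo := 0) (len := 6666) trc_4_1_0 (by omega) (by omega)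
  rcases Nat.lt_or_ge a 13332 with h1 | h1
  · exact allB_range (f := (frl_4_1)) (lo := 6666) (len := 6666) trc_4_1_1 (by omega) (by omega)
  rcases Nat.lt_or_ge a 19998 with h2 | h2
  · exact allB_range (f := (frl_4_1)) (lo := 13332) (len := 6666) trc_4_1_2 (by omega) (by omega)
  exact allB_range (f := (frl_4_1)) (lo := 19998) (len := 2277) trc_4_1_3 (by omega) (by omega)

theorem rel_4_1 : relT cdM 0 (relB4.getD 1 []) = true := trf_4_1


end Cfsg.Agent.Lib.Helper5.McLCov
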