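import Cfsg.Agent.Lib.Helper5.McLCovA
import Cfsg.Agent.Lib.Helper5.McLCovData

/-! # The triple cover of `McL`: relators traced on the first rows of the blocks (kernel checks by ranges of blocks, part 9) -/

set_option autoImplicit false
set_option maxRecDepth 1000000

namespace Cfsg.Agent.Lib.Helper5.McLCov

open Cfsg.Agent.PG (allB allB_iff)

/-- the check of a block -/
noncomputable def frl_4_8 (a : ℕ) : Bool := Nat.beq (mlk mc3 (mlk mc5 (mlk mc3 (mlk mc5 (mlk mc3 (mlk mc5 (Nat.mul 3 a))))))) (Nat.add (Nat.mul 3 a) 0)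

theorem trc_4_8_0 : allB 6666 (fun i => frl_4_8 (Nat.add 0 i)) = true := by decide +kernel
theorem trc_4_8_1 : allB 6666 (fun i => frl_4_8 (Nat.add 6666 i)) = true := by decide +kernel
theorem trc_4_8_2 : allB 6666 (fun i => frl_4_8 (Nat.add 13332 i)) = true := by decide +kernel
theorem trc_4_8_3 : allB 2277 (fun i => frl_4_8 (Nat.add 19998 i)) = true := by decide +kernel

theorem trf_4_8 : allB NB frl_4_8 = true := by
  apply allB_iff.2
  intro a ha
  have ha' : a < 22275 := ha
  rcases Nat.lt_or_ge a 6666 with h0 | h0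
  · exact allB_range (f := (frl_4_8)) (lo := 0) (len := 6666) trc_4_8_0 (by omega) (by omega)
  rcases Nat.lt_or_ge a 13332 with h1 | h1
  · exact allB_range (f := (frl_4_8)) (lo := 6666) (len := 6666) trc_4_8_1 (by omega) (by omega)
  rcases Nat.lt_or_ge a 19998 with h2 | h2
  · exact allB_range (f := (frl_4_8)) (lo := 13332) (len := 6666) trc_4_8_2 (by omega) (by omega)
  exact allB_range (f := (frl_4_8)) (lo := 19998) (len := 2277) trc_4_8_3 (by omega) (by omega)

theorem rel_4_8 : relT cdM 0 (relB4.getD 8 []) = true := trf_4_8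

/-- the check of a block -/
noncomputable def frl_4_9 (a : ℕ) : Bool := Nat.beq (mlk mc1 (mlk mc4 (mlk mc1 (mlk mc4 (mlk mc1 (mlk mc4 (mlk mc1 (mlk mc4 (Nat.mul 3 a))))))))) (Nat.add (Nat.mul 3 a) 0)

theorem trc_4_9_0 : allB 5000 (fun i => frl_4_9 (Nat.add 0 i)) = true := by decide +kernel
theorem trc_4_9_1 : allB 5000 (fun i => frl_4_9 (Nat.add 5000 i)) = true := by decide +kernel
theorem trc_4_9_2 : allB 5000 (fun i => frl_4_9 (Nat.add 10000 i)) = true := by decide +kernel
theorem trc_4_9_3 : allB 5000 (fun i => frl_4_9 (Nat.add 15000 i)) = true := by decide +kernel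
theorem trc_4_9_4 : allB 2275 (fun i => frl_4_9 (Nat.add 20000 i)) = true := by decide +kernel

theorem trf_4_9 : allB NB frl_4_9 = true := by
  apply allB_iff.2
  intro a ha
  have ha' : a < 22275 := ha
  rcases Nat.lt_or_ge a 5000 with h0 | h0
  · exact allB_range (f := (frl_4_9)) (lo := 0) (len := 5000) trc_4_9_0 (by omega) (by omega)
  rcases Nat.lt_or_ge a 10000 with h1 | h1
  · exact allB_range (f := (frl_4_9)) (lo := 5000) (len := 5000) trc_4_9_1 (by omega) (by omega)
  rcases Nat.lt_or_ge a 15000 with h2 | h2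
  · exact allB_range (f := (frl_4_9)) (lo := 10000) (len := 5000) trc_4_9_2 (by omega) (by omega)
  rcases Nat.lt_or_ge a 20000 with h3 | h3
  · exact allB_range (f := (frl_4_9)) (lo := 15000) (len := 5000) trc_4_9_3 (by omega) (by omega)
  exact allB_range (f := (frl_4_9)) (lo := 20000) (len := 2275) trc_4_9_4 (by omega) (by omega)

theorem rel_4_9 : relT cdM 0 (relB4.getD 9 []) = true := trf_4_9

/-- the check of a block -/
noncomputable def frl_4_10 (a : ℕ) : Bool := Nat.beq (mlk mc2 (mlk mc3 (mlk mc0 (mlk mc3 (mlk mc2 (mlk mc3 (mlk mc0 (mlk mc3 (Nat.mul 3 a))))))))) (Nat.add (Nat.mul 3 a) 0)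

theorem trc_4_10_0 : allB 5000 (fun i => frl_4_10 (Nat.add 0 i)) = true := by decide +kernel
theorem trc_4_10_1 : allB 5000 (fun i => frl_4_10 (Nat.add 5000 i)) = true := by decide +kernel
theorem trc_4_10_2 : allB 5000 (fun i => frl_4_10 (Nat.add 10000 i)) = true := by decide +kernel
theorem trc_4_10_3 : allB 5000 (fun i => frl_4_10 (Nat.add 15000 i)) = true := by decide +kernel
theorem trc_4_10_4 : allB 2275 (fun i => frl_4_10 (Nat.add 20000 i)) = true := by decide +kernel

theorem trf_4_10 : allB NB frl_4_10 = true := by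
  apply allB_iff.2
  intro a ha
  have ha' : a < 22275 := ha
  rcases Nat.lt_or_ge a 5000 with h0 | h0
  · exact allB_range (f := (frl_4_10)) (lo := 0) (len := 5000) trc_4_10_0 (by omega) (by omega)
  rcases Nat.lt_or_ge a 10000 with h1 | h1
  · exact allB_range (f := (frl_4_10)) (lo := 5000) (len := 5000) trc_4_10_1 (by omega) (by omega)
  rcases Nat.lt_or_ge a 15000 with h2 | h2
  · exact allB_range (f := (frl_4_10)) (lo := 10000) (len := 5000) trc_4_10_2 (by omega) (by omega)
  rcases Nat.lt_or_ge a 20000 with h3 | h3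
  · exact allB_range (f := (frl_4_10)) (lo := 15000) (len := 5000) trc_4_10_3 (by omega) (by omega)
  exact allB_range (f := (frl_4_10)) (lo := 20000) (len := 2275) trc_4_10_4 (by omega) (by omega)

theorem rel_4_10 : relT cdM 0 (relB4.getD 10 []) = true := trf_4_10

/-- the check of a block -/
noncomputable def frl_4_11 (a : ℕ) : Bool := Nat.beq (mlk mc0 (mlk mc2 (mlk mc4 (mlk mc2 (mlk mc0 (mlk mc4 (mlk mc3 (mlk mc2 (mlk mc3 (mlk mc4 (Nat.mul 3 a))))))))))) (Nat.add (Nat.mul 3 a) 0)

theorem trc_4_11_0 : allB 4000 (fun i => frl_4_11 (Nat.add 0 i)) = true := by decide +kernel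
theorem trc_4_11_1 : allB 4000 (fun i => frl_4_11 (Nat.add 4000 i)) = true := by decide +kernel
theorem trc_4_11_2 : allB 4000 (fun i => frl_4_11 (Nat.add 8000 i)) = true := by decide +kernel
theorem trc_4_11_3 : allB 4000 (fun i => frl_4_11 (Nat.add 12000 i)) = true := by decide +kernel
theorem trc_4_11_4 : allB 4000 (fun i => frl_4_11 (Nat.add 16000 i)) = true := by decide +kernel
theorem trc_4_11_5 : allB 2275 (fun i => frl_4_11 (Nat.add 20000 i)) = true := by decide +kernel

theorem trf_4_11 : allB NB frl_4_11 = true := by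
  apply allB_iff.2
  intro a ha
  have ha' : a < 22275 := ha
  rcases Nat.lt_or_ge a 4000 with h0 | h0
  · exact allB_range (f := (frl_4_11)) (lo := 0) (len := 4000) trc_4_11_0 (by omega) (by omega)
  rcases Nat.lt_or_ge a 8000 with h1 | h1
  · exact allB_range (f := (frl_4_11)) (lo := 4000) (len := 4000) trc_4_11_1 (by omega) (by omega)
  rcases Nat.lt_or_ge a 12000 with h2 | h2
  · exact allB_range (f := (frl_4_11)) (lo := 8000) (len := 4000) trc_4_11_2 (by omega) (by omega)
  rcases Nat.lt_or_ge a 16000 with h3 | h3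
  · exact allB_range (f := (frl_4_11)) (lo := 12000) (len := 4000) trc_4_11_3 (by omega) (by omega)
  rcases Nat.lt_or_ge a 20000 with h4 | h4
  · exact allB_range (f := (frl_4_11)) (lo := 16000) (len := 4000) trc_4_11_4 (by omega) (by omega)
  exact allB_range (f := (frl_4_11)) (lo := 20000) (len := 2275) trc_4_11_5 (by omega) (by omega)

theorem rel_4_11 : relT cdM 0 (relB4.getD 11 []) = true := trf_4_11


end Cfsg.Agent.Lib.Helper5.McLCov
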