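import Cfsg.Agent.Lib.Helper5.McLCovChk0
import Cfsg.Agent.Lib.Helper5.McLCovChkM0
import Cfsg.Agent.Lib.Helper5.McLCovChkM1
import Cfsg.Agent.Lib.Helper5.McLCovChkM2
import Cfsg.Agent.Lib.Helper5.McLCovChkM3
import Cfsg.Agent.Lib.Helper5.McLCovChkM4
import Cfsg.Agent.Lib.Helper5.McLCovChkM5
import Cfsg.Agent.Lib.Helper5.McLCovChkR0
import Cfsg.Agent.Lib.Helper5.McLCovChkR1
import Cfsg.Agent.Lib.Helper5.McLCovChkR2
import Cfsg.Agent.Lib.Helper5.McLCovChkR3
import Cfsg.Agent.Lib.Helper5.McLCovChkR4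
import Cfsg.Agent.Lib.Helper5.McLCovChkR5
import Cfsg.Agent.Lib.Helper5.McLCovChkR6
import Cfsg.Agent.Lib.Helper5.McLCovChkR7
import Cfsg.Agent.Lib.Helper5.McLCovChkR8
import Cfsg.Agent.Lib.Helper5.McLCovChkR9
import Cfsg.Agent.Lib.Helper5.McLCovChkR10
import Cfsg.Agent.Lib.Helper5.McLCovChkR11
import Cfsg.Agent.Lib.Helper5.McLCovChkR12
import Cfsg.Agent.Lib.Helper5.McLCovChkR13
import Cfsg.Agent.Lib.Helper5.McLCovChkR14
import Cfsg.Agent.Lib.Helper5.McLCovChkR15
import Cfsg.Agent.Lib.Helper5.McLCovChkR16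
import Cfsg.Agent.Lib.Helper5.McLCovChkR17
import Cfsg.Agent.Lib.Helper5.J3MultE

/-!
# The triple cover of the McLaughlin group

The six pairs `(sig (cdM x), tG scodes x)` of a monomial permutation of `3 · 22275` rows and an involution of the 275
points generate a subgroup `D` of the product; five coset certificates whose relators are checked in both components
give `|D| ≤ 3 |McL|`.  The projection onto the second component is onto `P`, its kernel contains the rotation of the
blocks, which is a commutator; so the projection is a stem extension with kernel of order three.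
-/

set_option autoImplicit false

namespace Cfsg.Agent.Lib.Helper5.McLCov

open Cfsg Cfsg.Agent.PG Cfsg.Agent.McLP
open Cfsg.Agent.Lib.Helper5.J3Mult (FCert seg seg_zero seg_mono mem_seg card_seg_le)
open Cfsg.Agent.Lib.Helper5.McLMult (el tG gc wordC wordC_spec tG_sq closure_tG good_pone el_pone wordLt)
open scoped commutatorElement

theorem mok_cdM : ∀ x, MOK (cdM x) = true
  | 0 => chk_mok0
  | 1 => chk_mok1
  | 2 => chk_mok2
  | 3 => chk_mok3
  | 4 => chk_mok4
  | (_ + 5) => chk_mok5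

/-- the six involutions of the cover -/
noncomputable def γ (x : ℕ) : Equiv.Perm (Fin NR) × ↥P :=
  if x < 6 then (sig (cdM x), tG scodes x) else 1

theorem γ_lt {x : ℕ} (h : x < 6) : γ x = (sig (cdM x), tG scodes x) := if_pos h

theorem γ_sq (x : ℕ) : γ x * γ x = 1 := by
  by_cases h : x < 6
  · rw [γ_lt h]
    exact Prod.ext (sig_mul_self _) (tG_sq chk_gwS x)
  · rw [γ, if_neg h, one_mul]

theorem prod_γ : ∀ w : List ℕ, (∀ x ∈ w, x < 6) →
    (w.map γ).prod = ((w.map fun x => sig (cdM x)).prod, (w.map (tG scodes)).prod)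
  | [], _ => rfl
  | x :: w, h => by
    rw [List.map_cons, List.prod_cons, prod_γ w (fun y hy => h y (List.mem_cons_of_mem _ hy)),
      γ_lt (h x List.mem_cons_self)]
    rfl

theorem lt_of_wordLt {g : ℕ} {w : List ℕ} (h : wordLt g w = true) : ∀ x ∈ w, x < g := by
  intro x hx
  unfold wordLt at h
  have := List.all_eq_true.1 h x hx
  simpa using this

theorem getD_all {l : List (List ℕ)} {p : List ℕ → Bool} (h : l.all p = true) (h0 : p [] = true) (k : ℕ) :
    p (l.getD k []) = true := by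
  by_cases hk : k < l.length
  · rw [List.getD_eq_getElem _ _ hk]
    exact List.all_eq_true.1 h _ (List.getElem_mem hk)
  · rw [List.getD_eq_default _ _ (by omega)]
    exact h0

/-- a checked relator is trivial on the pairs -/
theorem prod_eq_one {g : ℕ} (hg : g ≤ 6) {w : List ℕ} (h1 : wordLt g w = true) (h2 : relT cdM 0 w = true)
    (h3 : Nat.beq (wordC scodes w) (pone 275) = true) : (w.map γ).prod = 1 := by
  rw [prod_γ w (fun x hx => lt_of_lt_of_le (lt_of_wordLt h1 x hx) hg), prod_eq_one_of_relT cdM mok_cdM h2,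
    (wordC_spec chk_gwS w).2, Nat.eq_of_beq_eq_true h3, el_pone]
  rfl

theorem relT_B0 : ∀ k : ℕ, relT cdM 0 (relB0.getD k []) = true
  | 0 => rel_0_0
  | (k + 1) => by
    have hl : relB0.length = 1 := by decide
    rw [List.getD_eq_default _ _ (by omega)]
    exact chk_nil

theorem relT_B1 : ∀ k : ℕ, relT cdM 0 (relB1.getD k []) = true
  | 0 => rel_1_0
  | 1 => rel_1_1
  | 2 => rel_1_2
  | 3 => rel_1_3
  | (k + 4) => by
    have hl : relB1.length = 4 := by decide
    rw [List.getD_eq_default _ _ (by omega)]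
    exact chk_nil

theorem relT_B2 : ∀ k : ℕ, relT cdM 0 (relB2.getD k []) = true
  | 0 => rel_2_0
  | 1 => rel_2_1
  | 2 => rel_2_2
  | 3 => rel_2_3
  | 4 => rel_2_4
  | 5 => rel_2_5
  | 6 => rel_2_6
  | 7 => rel_2_7
  | (k + 8) => by
    have hl : relB2.length = 8 := by decide
    rw [List.getD_eq_default _ _ (by omega)]
    exact chk_nil

theorem relT_B3 : ∀ k : ℕ, relT cdM 0 (relB3.getD k []) = true
  | 0 => rel_3_0
  | 1 => rel_3_1
  | 2 => rel_3_2
  | 3 => rel_3_3
  | 4 => rel_3_4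
  | 5 => rel_3_5
  | 6 => rel_3_6
  | 7 => rel_3_7
  | 8 => rel_3_8
  | 9 => rel_3_9
  | 10 => rel_3_10
  | 11 => rel_3_11
  | 12 => rel_3_12
  | 13 => rel_3_13
  | (k + 14) => by
    have hl : relB3.length = 14 := by decide
    rw [List.getD_eq_default _ _ (by omega)]
    exact chk_nil

theorem relT_B4 : ∀ k : ℕ, relT cdM 0 (relB4.getD k []) = true
  | 0 => rel_4_0
  | 1 => rel_4_1
  | 2 => rel_4_2
  | 3 => rel_4_3
  | 4 => rel_4_4
  | 5 => rel_4_5
  | 6 => rel_4_6
  | 7 => rel_4_7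
  | 8 => rel_4_8
  | 9 => rel_4_9
  | 10 => rel_4_10
  | 11 => rel_4_11
  | 12 => rel_4_12
  | 13 => rel_4_13
  | 14 => rel_4_14
  | 15 => rel_4_15
  | 16 => rel_4_16
  | 17 => rel_4_17
  | 18 => rel_4_18
  | 19 => rel_4_19
  | 20 => rel_4_20
  | 21 => rel_4_21
  | 22 => rel_4_22
  | 23 => rel_4_23
  | 24 => rel_4_24
  | 25 => rel_4_25
  | 26 => rel_4_26
  | 27 => rel_4_27
  | 28 => rel_4_28
  | (k + 29) => by
    have hl : relB4.length = 29 := by decide
    rw [List.getD_eq_default _ _ (by omega)]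
    exact chk_nil

theorem wordLt_nil (g : ℕ) : wordLt g [] = true := rfl

theorem wordC_nil_beq : Nat.beq (wordC scodes []) (pone 275) = true := by
  rw [Cfsg.Agent.Lib.Helper5.McLMult.wordC_nil]
  exact Nat.beq_refl _

theorem hW0 : ∀ k, ((certB0.W k).map γ).prod = 1 := fun k =>
  prod_eq_one (show 2 ≤ 6 by norm_num) (getD_all chk_letB.1 (wordLt_nil _) k) (relT_B0 k)
    (getD_all chk_relP0 wordC_nil_beq k)

theorem hL0 : ∀ k, ∀ x ∈ certB0.W k, x < certB0.g := fun k =>
  lt_of_wordLt (g := 2) (getD_all chk_letB.1 (wordLt_nil _) k)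

theorem hall0 : ∀ a, a < certB0.n → ∀ x, x < certB0.g → certB0.slotOK a x = true := by
  intro a ha x hx
  have ha' : a < 10 := ha
  exact certB0.slot_of_rows chk_cB0 (Nat.zero_le _) (by omega) hx

theorem hW1 : ∀ k, ((certB1.W k).map γ).prod = 1 := fun k =>
  prod_eq_one (show 3 ≤ 6 by norm_num) (getD_all chk_letB.2.1 (wordLt_nil _) k) (relT_B1 k)
    (getD_all chk_relP1 wordC_nil_beq k)

theorem hL1 : ∀ k, ∀ x ∈ certB1.W k, x < certB1.g := fun k =>
  lt_of_wordLt (g := 3) (getD_all chk_letB.2.1 (wordLt_nil _) k)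

theorem hall1 : ∀ a, a < certB1.n → ∀ x, x < certB1.g → certB1.slotOK a x = true := by
  intro a ha x hx
  have ha' : a < 36 := ha
  exact certB1.slot_of_rows chk_cB1 (Nat.zero_le _) (by omega) hx

theorem hW2 : ∀ k, ((certB2.W k).map γ).prod = 1 := fun k =>
  prod_eq_one (show 4 ≤ 6 by norm_num) (getD_all chk_letB.2.2.1 (wordLt_nil _) k) (relT_B2 k)
    (getD_all chk_relP2 wordC_nil_beq k)

theorem hL2 : ∀ k, ∀ x ∈ certB2.W k, x < certB2.g := fun k =>
  lt_of_wordLt (g := 4) (getD_all chk_letB.2.2.1 (wordLt_nil _) k)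

theorem hall2 : ∀ a, a < certB2.n → ∀ x, x < certB2.g → certB2.slotOK a x = true := by
  intro a ha x hx
  have ha' : a < 56 := ha
  exact certB2.slot_of_rows chk_cB2 (Nat.zero_le _) (by omega) hx

theorem hW3 : ∀ k, ((certB3.W k).map γ).prod = 1 := fun k =>
  prod_eq_one (show 5 ≤ 6 by norm_num) (getD_all chk_letB.2.2.2.1 (wordLt_nil _) k) (relT_B3 k)
    (getD_all chk_relP3 wordC_nil_beq k)

theorem hL3 : ∀ k, ∀ x ∈ certB3.W k, x < certB3.g := fun k =>
  lt_of_wordLt (g := 5) (getD_all chk_letB.2.2.2.1 (wordLt_nil _) k)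

theorem hall3 : ∀ a, a < certB3.n → ∀ x, x < certB3.g → certB3.slotOK a x = true := by
  intro a ha x hx
  have ha' : a < 486 := ha
  exact certB3.slot_of_rows chk_cB3 (Nat.zero_le _) (by omega) hx

theorem hW4 : ∀ k, ((certB4.W k).map γ).prod = 1 := fun k =>
  prod_eq_one (show 6 ≤ 6 by norm_num) (getD_all chk_letB.2.2.2.2.1 (wordLt_nil _) k) (relT_B4 k)
    (getD_all chk_relP4 wordC_nil_beq k)

theorem hL4 : ∀ k, ∀ x ∈ certB4.W k, x < certB4.g := fun k =>
  lt_of_wordLt (g := 6) (getD_all chk_letB.2.2.2.2.1 (wordLt_nil _) k)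

theorem hall4 : ∀ a, a < certB4.n → ∀ x, x < certB4.g → certB4.slotOK a x = true := by
  intro a ha x hx
  have ha' : a < 275 := ha
  exact certB4.slot_of_rows chk_cB4 (Nat.zero_le _) (by omega) hx

/-- **the six pairs generate a group of order at most `3 |McL|`** -/
theorem card_seg6 : Finite ↥(seg γ 6) ∧ Nat.card ↥(seg γ 6) ≤ 2694384000 := by
  have hfin0 : Finite ↥(seg γ certB0.nsub) := by
    show Finite ↥(seg γ 0)
    rw [seg_zero]
    infer_instance
  obtain ⟨hfin1, hc1⟩ := card_seg_le γ certB0 γ_sq hW0 hL0 (Nat.zero_le _) (show 0 < 10 by norm_num) hall0 hfin0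
  have hc1' : Nat.card ↥(seg γ 2) ≤ 10 := by
    have h0 : Nat.card ↥(seg γ certB0.nsub) = 1 := by
      show Nat.card ↥(seg γ 0) = 1
      rw [seg_zero]
      exact Subgroup.card_bot
    rw [h0] at hc1
    exact hc1
  obtain ⟨hfin2, hc2⟩ := card_seg_le γ certB1 γ_sq hW1 hL1 (show 2 ≤ 3 by norm_num) (show 0 < 36 by norm_num) hall1 hfin1
  have hc2' : Nat.card ↥(seg γ 3) ≤ 36 * 10 := le_trans hc2 (Nat.mul_le_mul_left _ hc1')
  obtain ⟨hfin3, hc3⟩ := card_seg_le γ certB2 γ_sq hW2 hL2 (show 3 ≤ 4 by norm_num) (show 0 < 56 by norm_num) hall2 hfin2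
  have hc3' : Nat.card ↥(seg γ 4) ≤ 56 * (36 * 10) := le_trans hc3 (Nat.mul_le_mul_left _ hc2')
  obtain ⟨hfin4, hc4⟩ := card_seg_le γ certB3 γ_sq hW3 hL3 (show 4 ≤ 5 by norm_num) (show 0 < 486 by norm_num) hall3 hfin3
  have hc4' : Nat.card ↥(seg γ 5) ≤ 486 * (56 * (36 * 10)) := le_trans hc4 (Nat.mul_le_mul_left _ hc3')
  obtain ⟨hfin5, hc5⟩ := card_seg_le γ certB4 γ_sq hW4 hL4 (show 5 ≤ 6 by norm_num) (show 0 < 275 by norm_num) hall4 hfin4
  have hc5' : Nat.card ↥(seg γ 6) ≤ 275 * (486 * (56 * (36 * 10))) := le_trans hc5 (Nat.mul_le_mul_left _ hc4')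
  exact ⟨hfin5, hc5'⟩

/-! ### the cover -/

/-- the cover -/
noncomputable def D : Subgroup (Equiv.Perm (Fin NR) × ↥P) := seg γ 6

theorem finite_D : Finite ↥D := card_seg6.1

theorem card_D_le : Nat.card ↥D ≤ 2694384000 := card_seg6.2

theorem γ_mem_D {x : ℕ} (h : x < 6) : γ x ∈ D := mem_seg γ h

theorem prod_mem_D {w : List ℕ} (h : ∀ x ∈ w, x < 6) : (w.map γ).prod ∈ D := by
  apply Subgroup.list_prod_mem
  intro y hy
  rw [List.mem_map] at hy
  obtain ⟨x, hx, rfl⟩ := hy
  exact γ_mem_D (h x hx)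

/-- the projection onto `P` -/
noncomputable def πD : ↥D →* ↥P := (MonoidHom.snd (Equiv.Perm (Fin NR)) ↥P).comp D.subtype

theorem πD_apply (d : ↥D) : πD d = d.1.2 := rfl

theorem closure_tGS : Subgroup.closure (tG scodes '' Set.Iio 6) = ⊤ :=
  closure_tG chk_gwS 6 slpS idxSA idxSB chk_slpS.1 chk_slpS.2

/-- **the projection is onto** -/
theorem πD_surjective : Function.Surjective πD := by
  intro y
  have hy : y ∈ Subgroup.closure (tG scodes '' Set.Iio 6) := by
    rw [closure_tGS]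
    exact Subgroup.mem_top _
  induction hy using Subgroup.closure_induction with
  | mem y hy =>
    obtain ⟨i, hi, rfl⟩ := hy
    have hi' : i < 6 := hi
    refine ⟨⟨γ i, γ_mem_D hi'⟩, ?_⟩
    show (γ i).2 = tG scodes i
    rw [γ_lt hi']
  | one => exact ⟨1, map_one _⟩
  | mul a b _ _ ha hb =>
    obtain ⟨da, rfl⟩ := ha
    obtain ⟨db, rfl⟩ := hb
    exact ⟨da * db, map_mul _ _ _⟩
  | inv a _ ha =>
    obtain ⟨da, rfl⟩ := ha
    exact ⟨da⁻¹, map_inv _ _⟩

theorem prod_reverse_γ : ∀ w : List ℕ, (w.reverse.map γ).prod = ((w.map γ).prod)⁻¹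
  | [] => by simp
  | x :: w => by
    rw [List.reverse_cons, List.map_append, List.prod_append, prod_reverse_γ w, List.map_cons, List.map_nil,
      List.prod_cons, List.prod_nil, mul_one, List.map_cons, List.prod_cons, mul_inv_rev,
      ← eq_inv_of_mul_eq_one_left (γ_sq x)]

theorem lt_zU : ∀ x ∈ zU, x < 6 := lt_of_wordLt chk_letB.2.2.2.2.2.1
theorem lt_zV : ∀ x ∈ zV, x < 6 := lt_of_wordLt chk_letB.2.2.2.2.2.2

theorem lt_zW : ∀ x ∈ zW, x < 6 := by
  intro x hx
  unfold zW at hx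
  simp only [List.mem_append, List.mem_reverse] at hx
  rcases hx with hx | hx | hx | hx
  · exact lt_zU x hx
  · exact lt_zV x hx
  · exact lt_zU x hx
  · exact lt_zV x hx

/-- the word of the commutator is the rotation of the blocks, over the identity of `P` -/
theorem prod_zW : (zW.map γ).prod = (zetP, 1) := by
  rw [prod_γ zW lt_zW, (wordC_spec chk_gwS zW).2, Nat.eq_of_beq_eq_true chk_zP, el_pone]
  have h : ((zW.map fun x => sig (cdM x)).prod) = zetP := prod_eq_zetP_of_relT cdM mok_cdM rel_z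
  rw [h]

/-- the central element of the cover -/
noncomputable def zD : ↥D := ⟨(zetP, 1), by rw [← prod_zW]; exact prod_mem_D lt_zW⟩

theorem zD_val : (zD : Equiv.Perm (Fin NR) × ↥P) = (zetP, 1) := rfl

theorem zD_mem_ker : zD ∈ πD.ker := by
  rw [MonoidHom.mem_ker, πD_apply, zD_val]

theorem zD_ne_one : zD ≠ 1 := by
  intro h
  have := congrArg (fun d : ↥D => d.1.1) h
  exact zetP_ne_one this

theorem zD_pow_three : zD ^ 3 = 1 := by
  apply Subtype.ext
  rw [Subgroup.coe_pow, zD_val, Subgroup.coe_one, Prod.pow_mk, zetP_pow_three, one_pow]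
  rfl

/-- the central element is a commutator -/
theorem zD_mem_commutator : zD ∈ commutator ↥D := by
  set X : ↥D := ⟨(zU.map γ).prod, prod_mem_D lt_zU⟩ with hX
  set Y : ↥D := ⟨(zV.map γ).prod, prod_mem_D lt_zV⟩ with hY
  have h : zD = ⁅X, Y⁆ := by
    apply Subtype.ext
    rw [commutatorElement_def, Subgroup.coe_mul, Subgroup.coe_mul, Subgroup.coe_mul, Subgroup.coe_inv,
      Subgroup.coe_inv, zD_val, ← prod_zW]
    unfold zW
    rw [List.map_append, List.prod_append, List.map_append, List.prod_append, List.map_append, List.prod_append,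
      prod_reverse_γ, prod_reverse_γ, ← mul_assoc, ← mul_assoc]
  rw [h]
  exact Subgroup.commutator_mem_commutator (Subgroup.mem_top _) (Subgroup.mem_top _)

/-- the central element is central -/
theorem zD_mem_center : zD ∈ Subgroup.center ↥D := by
  rw [Subgroup.mem_center_iff]
  -- it suffices to commute with the generators
  have key : ∀ q ∈ D, q * (zetP, 1) = (zetP, 1) * q := by
    intro q hq
    unfold D seg at hq
    induction hq using Subgroup.closure_induction with
    | mem q hq =>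
      obtain ⟨i, hi, rfl⟩ := hq
      have hi' : i < 6 := hi
      rw [γ_lt hi']
      exact Prod.ext (sig_comm_zetP _) (by simp)
    | one => simp
    | mul a b _ _ ha hb => rw [mul_assoc, hb, ← mul_assoc, ha, mul_assoc]
    | inv a _ ha =>
      rw [inv_mul_eq_iff_eq_mul, ← mul_assoc, ha, mul_assoc, mul_inv_cancel, mul_one]
  intro d
  apply Subtype.ext
  rw [Subgroup.coe_mul, Subgroup.coe_mul, zD_val]
  exact key d.1 d.2

theorem card_P_D : Nat.card ↥P = 898128000 := card_P

/-- **the kernel of the projection is generated by the central element and has three elements** -/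
theorem ker_πD : πD.ker = Subgroup.zpowers zD ∧ Nat.card ↥πD.ker = 3 := by
  have : Finite ↥D := finite_D
  have : Fact (Nat.Prime 3) := ⟨by norm_num⟩
  have hz : Nat.card ↥(Subgroup.zpowers zD) = 3 := by
    rw [Nat.card_zpowers]
    exact orderOf_eq_prime zD_pow_three zD_ne_one
  have hle : Subgroup.zpowers zD ≤ πD.ker := by
    rw [Subgroup.zpowers_le]
    exact zD_mem_ker
  have h1 : Nat.card ↥D = Nat.card (↥D ⧸ πD.ker) * Nat.card ↥πD.ker :=
    Subgroup.card_eq_card_quotient_mul_card_subgroup πD.ker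
  have h2 : Nat.card (↥D ⧸ πD.ker) = Nat.card ↥P :=
    Nat.card_congr (QuotientGroup.quotientKerEquivOfSurjective πD πD_surjective).toEquiv
  rw [h2, card_P_D] at h1
  have h3 : Nat.card ↥πD.ker ≤ 3 := by
    have := card_D_le
    rw [h1] at this
    by_contra hcon
    have : 4 ≤ Nat.card ↥πD.ker := by omega
    nlinarith
  have heq : Subgroup.zpowers zD = πD.ker :=
    Subgroup.eq_of_le_of_card_ge hle (by rw [hz]; exact h3)
  exact ⟨heq.symm, by rw [← heq, hz]⟩

/-- **the projection is a stem extension** -/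
theorem stem_πD : IsStemExtension πD := by
  refine ⟨πD_surjective, ?_, ?_⟩
  · rw [ker_πD.1, Subgroup.zpowers_le]
    exact zD_mem_center
  · rw [ker_πD.1, Subgroup.zpowers_le]
    exact zD_mem_commutator

theorem card_D : Nat.card ↥D = 2694384000 := by
  have h1 : Nat.card ↥D = Nat.card (↥D ⧸ πD.ker) * Nat.card ↥πD.ker :=
    Subgroup.card_eq_card_quotient_mul_card_subgroup πD.ker
  have h2 : Nat.card (↥D ⧸ πD.ker) = Nat.card ↥P :=
    Nat.card_congr (QuotientGroup.quotientKerEquivOfSurjective πD πD_surjective).toEquiv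
  rw [h1, h2, card_P_D, ker_πD.2]

end Cfsg.Agent.Lib.Helper5.McLCov
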