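import Mathlib
import Cfsg.Agent.Lib.Lead.PG.Pk

/-!
# Involutions of `3 · 22275` points packed in natural numbers

A code `c` gives chunks of 2048 entries of 17 bits: the entry of a row is its image.  The check `MOK` says that the
code is an involution of the rows which commutes with the rotation `zet` of the blocks of three rows; a word in the
permutations `sig c` of checked codes is trivial as soon as it fixes the first row of every block.
-/

set_option autoImplicit false

namespace Cfsg.Agent.Lib.Helper5.McLCov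

open Cfsg.Agent.PG (allB allB_iff)

/-- the number of rows -/
abbrev NR : ℕ := 66825
/-- the number of blocks -/
abbrev NB : ℕ := 22275

/-- the image of a row -/
def mlk (c : ℕ → ℕ) (p : ℕ) : ℕ :=
  Nat.land (Nat.shiftRight (c (Nat.shiftRight p 11)) (Nat.mul 17 (Nat.land p 2047))) 131071

/-- the rotation of the blocks -/
def zet (p : ℕ) : ℕ := Nat.add (Nat.mul 3 (Nat.div p 3)) (Nat.mod (Nat.add (Nat.mod p 3) 1) 3)

theorem zet_eq (p : ℕ) : zet p = 3 * (p / 3) + (p % 3 + 1) % 3 := rfl

theorem zet_lt {p : ℕ} (h : p < NR) : zet p < NR := by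
  rw [zet_eq]
  show _ < 66825
  have : p < 66825 := h
  omega

theorem zet_zet_zet (p : ℕ) : zet (zet (zet p)) = p := by
  simp only [zet_eq]
  omega

/-- the rotation of the blocks, as a permutation -/
def zetP : Equiv.Perm (Fin NR) where
  toFun p := ⟨zet p.1, zet_lt p.2⟩
  invFun p := ⟨zet (zet p.1), zet_lt (zet_lt p.2)⟩
  left_inv p := Fin.ext (zet_zet_zet p.1)
  right_inv p := Fin.ext (zet_zet_zet p.1)

theorem zetP_apply (p : Fin NR) : ((zetP p : Fin NR) : ℕ) = zet p.1 := rfl

theorem zetP_ne_one : zetP ≠ 1 := by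
  intro h
  have := congrArg (fun σ : Equiv.Perm (Fin NR) => ((σ ⟨0, by norm_num⟩ : Fin NR) : ℕ)) h
  simp only [zetP_apply, Equiv.Perm.one_apply, zet_eq] at this
  omega

theorem zetP_pow_three : zetP ^ 3 = 1 := by
  ext p
  rw [pow_succ, pow_succ, pow_one, Equiv.Perm.mul_apply, Equiv.Perm.mul_apply, Equiv.Perm.one_apply,
    zetP_apply, zetP_apply, zetP_apply, zet_zet_zet]

/-- the check of a row of a code: the image is a row, the code is an involution there and commutes with the rotation -/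
def mokf (c : ℕ → ℕ) (p : ℕ) : Bool :=
  Nat.blt (mlk c p) NR && (Nat.beq (mlk c (mlk c p)) p && Nat.beq (mlk c (zet p)) (zet (mlk c p)))

/-- the check of a code -/
def MOK (c : ℕ → ℕ) : Bool := allB NR (mokf c)

theorem mok_spec {c : ℕ → ℕ} (h : MOK c = true) (p : ℕ) (hp : p < NR) :
    mlk c p < NR ∧ mlk c (mlk c p) = p ∧ mlk c (zet p) = zet (mlk c p) := by
  have := allB_iff.1 h p hp
  rw [mokf, Bool.and_eq_true, Bool.and_eq_true, Nat.blt_eq] at this
  exact ⟨this.1, Nat.eq_of_beq_eq_true this.2.1, Nat.eq_of_beq_eq_true this.2.2⟩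

/-- the permutation of a code -/
noncomputable def sig (c : ℕ → ℕ) : Equiv.Perm (Fin NR) :=
  if h : MOK c = true then
    { toFun := fun p => ⟨mlk c p.1, (mok_spec h p.1 p.2).1⟩
      invFun := fun p => ⟨mlk c p.1, (mok_spec h p.1 p.2).1⟩
      left_inv := fun p => Fin.ext (mok_spec h p.1 p.2).2.1
      right_inv := fun p => Fin.ext (mok_spec h p.1 p.2).2.1 }
  else 1

theorem sig_apply {c : ℕ → ℕ} (h : MOK c = true) (p : Fin NR) : ((sig c p : Fin NR) : ℕ) = mlk c p.1 := by
  rw [sig, dif_pos h]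
  rfl

theorem sig_mul_self (c : ℕ → ℕ) : sig c * sig c = 1 := by
  by_cases h : MOK c = true
  · ext p
    rw [Equiv.Perm.mul_apply, Equiv.Perm.one_apply, sig_apply h, sig_apply h, (mok_spec h p.1 p.2).2.1]
  · rw [sig, dif_neg h, one_mul]

theorem sig_comm_zetP (c : ℕ → ℕ) : sig c * zetP = zetP * sig c := by
  by_cases h : MOK c = true
  · ext p
    rw [Equiv.Perm.mul_apply, Equiv.Perm.mul_apply, sig_apply h, zetP_apply, zetP_apply, sig_apply h,
      (mok_spec h p.1 p.2).2.2]
  · rw [sig, dif_neg h, one_mul, mul_one]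

/-! ### words -/

/-- the image of a row under a word (the last letter acts first) -/
def trW (cd : ℕ → ℕ → ℕ) (w : List ℕ) (p : ℕ) : ℕ := w.foldr (fun x q => mlk (cd x) q) p

theorem trW_nil (cd : ℕ → ℕ → ℕ) (p : ℕ) : trW cd [] p = p := rfl

theorem trW_cons (cd : ℕ → ℕ → ℕ) (x : ℕ) (w : List ℕ) (p : ℕ) : trW cd (x :: w) p = mlk (cd x) (trW cd w p) := rfl

theorem prod_apply (cd : ℕ → ℕ → ℕ) (hcd : ∀ x, MOK (cd x) = true) :
    ∀ (w : List ℕ) (p : Fin NR), ((((w.map fun x => sig (cd x)).prod) p : Fin NR) : ℕ) = trW cd w p.1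
  | [], p => rfl
  | x :: w, p => by
    rw [List.map_cons, List.prod_cons, Equiv.Perm.mul_apply, sig_apply (hcd x), prod_apply cd hcd w p, trW_cons]

theorem prod_comm_zetP (cd : ℕ → ℕ → ℕ) : ∀ w : List ℕ,
    ((w.map fun x => sig (cd x)).prod) * zetP = zetP * ((w.map fun x => sig (cd x)).prod)
  | [] => by simp
  | x :: w => by
    rw [List.map_cons, List.prod_cons, mul_assoc, prod_comm_zetP cd w, ← mul_assoc, sig_comm_zetP, mul_assoc]

/-- the check of a word: the first row of every block goes to the row `k` of the block -/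
def relT (cd : ℕ → ℕ → ℕ) (k : ℕ) (w : List ℕ) : Bool :=
  allB NB fun a => Nat.beq (trW cd w (Nat.mul 3 a)) (Nat.add (Nat.mul 3 a) k)

theorem eq_of_comm_of_first {τ ρ : Equiv.Perm (Fin NR)} (hτ : τ * zetP = zetP * τ) (hρ : ρ * zetP = zetP * ρ)
    (h : ∀ a : ℕ, ∀ ha : 3 * a < NR, τ ⟨3 * a, ha⟩ = ρ ⟨3 * a, ha⟩) : τ = ρ := by
  have step : ∀ p : Fin NR, τ p = ρ p → τ (zetP p) = ρ (zetP p) := by
    intro p hp
    have e1 : τ (zetP p) = zetP (τ p) := by
      have := congrArg (fun σ : Equiv.Perm (Fin NR) => σ p) hτ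
      simpa [Equiv.Perm.mul_apply] using this
    have e2 : ρ (zetP p) = zetP (ρ p) := by
      have := congrArg (fun σ : Equiv.Perm (Fin NR) => σ p) hρ
      simpa [Equiv.Perm.mul_apply] using this
    rw [e1, e2, hp]
  ext p
  have hp : p.1 < 66825 := p.2
  have ha : 3 * (p.1 / 3) < NR := by show _ < 66825; omega
  set q : Fin NR := ⟨3 * (p.1 / 3), ha⟩ with hq
  have h0 : τ q = ρ q := h _ ha
  have h1 := step q h0
  have h2 := step _ h1
  have hk : p.1 % 3 = 0 ∨ p.1 % 3 = 1 ∨ p.1 % 3 = 2 := by omega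
  have hq1 : q.1 = 3 * (p.1 / 3) := rfl
  rcases hk with hk | hk | hk
  · have : p = q := Fin.ext (by rw [hq1]; omega)
    rw [this, h0]
  · have : p = zetP q := Fin.ext (by rw [zetP_apply, hq1, zet_eq]; omega)
    rw [this, h1]
  · have : p = zetP (zetP q) := Fin.ext (by
      rw [zetP_apply, zetP_apply, hq1]; simp only [zet_eq]; omega)
    rw [this, h2]

/-- **a checked word is trivial** -/
theorem prod_eq_one_of_relT (cd : ℕ → ℕ → ℕ) (hcd : ∀ x, MOK (cd x) = true) {w : List ℕ}
    (h : relT cd 0 w = true) : ((w.map fun x => sig (cd x)).prod) = 1 := by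
  apply eq_of_comm_of_first (prod_comm_zetP cd w) (by rw [one_mul, mul_one])
  intro a ha
  apply Fin.ext
  rw [prod_apply cd hcd, Equiv.Perm.one_apply]
  have ha' : a < NB := by
    have : 3 * a < 66825 := ha
    show a < 22275
    omega
  have := Nat.eq_of_beq_eq_true (allB_iff.1 h a ha')
  exact this

/-- **a word that moves the first row of every block to the second is the rotation** -/
theorem prod_eq_zetP_of_relT (cd : ℕ → ℕ → ℕ) (hcd : ∀ x, MOK (cd x) = true) {w : List ℕ}
    (h : relT cd 1 w = true) : ((w.map fun x => sig (cd x)).prod) = zetP := by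
  apply eq_of_comm_of_first (prod_comm_zetP cd w) rfl
  intro a ha
  apply Fin.ext
  rw [prod_apply cd hcd, zetP_apply]
  have ha' : a < NB := by
    have : 3 * a < 66825 := ha
    show a < 22275
    omega
  have := Nat.eq_of_beq_eq_true (allB_iff.1 h a ha')
  rw [show trW cd w (3 * a) = Nat.add (Nat.mul 3 a) 1 from this]
  show 3 * a + 1 = zet (3 * a)
  rw [zet_eq]
  omega

/-- a check on a range of indices -/
theorem allB_range {f : ℕ → Bool} {lo len : ℕ} (h : allB len (fun i => f (Nat.add lo i)) = true) {a : ℕ}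
    (h1 : lo ≤ a) (h2 : a < lo + len) : f a = true := by
  have h3 : f (Nat.add lo (a - lo)) = true := allB_iff.1 h (a - lo) (by omega)
  have e : Nat.add lo (a - lo) = a := by
    show lo + (a - lo) = a
    omega
  rw [e] at h3
  exact h3

end Cfsg.Agent.Lib.Helper5.McLCov
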