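import Cfsg.Agent.Lib.Helper5.McLMultBase
import Cfsg.Agent.Lib.Helper5.McLCovA
import Cfsg.Agent.Lib.Helper5.McLCovData

/-!
# The triple cover of `McL`: the five coset certificates

The chain `D₁₀ < A₆ < L₃(4) < 3·U₄(3) < 3·McL` with `10`, `36`, `56`, `486` and `275` rows.
-/

set_option autoImplicit false

namespace Cfsg.Agent.Lib.Helper5.McLCov

open Cfsg.Agent.Lib.Helper5.J3Mult (FCert)
open Cfsg.Agent.Lib.Helper5.McLMult (mkCert)

def entB0 (i : ℕ) : ℕ := (cB0 >>> (74 * i)) % 18889465931478580854784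
def parB0 (b : ℕ) : ℕ := (qB0 >>> (19 * b)) % 524288
def entB1 (i : ℕ) : ℕ := (cB1 >>> (74 * i)) % 18889465931478580854784
def parB1 (b : ℕ) : ℕ := (qB1 >>> (19 * b)) % 524288
def entB2 (i : ℕ) : ℕ := (cB2 >>> (74 * i)) % 18889465931478580854784
def parB2 (b : ℕ) : ℕ := (qB2 >>> (19 * b)) % 524288
def entB3 (i : ℕ) : ℕ := (cB3 >>> (74 * i)) % 18889465931478580854784
def parB3 (b : ℕ) : ℕ := (qB3 >>> (19 * b)) % 524288
def entB4 (i : ℕ) : ℕ := (cB4 >>> (74 * i)) % 18889465931478580854784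
def parB4 (b : ℕ) : ℕ := (qB4 >>> (19 * b)) % 524288

/-- the five certificates -/
def certB0 : FCert := mkCert 10 2 0 entB0 parB0 fun k => relB0.getD k []
def certB1 : FCert := mkCert 36 3 2 entB1 parB1 fun k => relB1.getD k []
def certB2 : FCert := mkCert 56 4 3 entB2 parB2 fun k => relB2.getD k []
def certB3 : FCert := mkCert 486 5 4 entB3 parB3 fun k => relB3.getD k []
def certB4 : FCert := mkCert 275 6 5 entB4 parB4 fun k => relB4.getD k []

/-- the word of the commutator -/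
def zW : List ℕ := zU ++ (zV ++ (zU.reverse ++ zV.reverse))

end Cfsg.Agent.Lib.Helper5.McLCov
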