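import Cfsg.Agent.Lib.Helper5.McLCovC

/-! # The triple cover of `McL`: kernel checks on the 275 points and of the rows of the certificates -/

set_option autoImplicit false
set_option maxRecDepth 1000000

namespace Cfsg.Agent.Lib.Helper5.McLCov

open Cfsg.Agent.PG Cfsg.Agent.McLP
open Cfsg.Agent.Lib.Helper5.McLMult (conjWord gc wordC wordLt)

theorem chk_gwS : gwordsS.map conjWord = scodes := by decide +kernel

theorem chk_slpS : (run 275 slpS ((List.range 6).reverse.map (gc scodes))).getD idxSA (pone 275) = ca ∧
    (run 275 slpS ((List.range 6).reverse.map (gc scodes))).getD idxSB (pone 275) = cb := by decide +kernel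

theorem chk_relP0 : (relB0.all fun w => Nat.beq (wordC scodes w) (pone 275)) = true := by decide +kernel
theorem chk_relP1 : (relB1.all fun w => Nat.beq (wordC scodes w) (pone 275)) = true := by decide +kernel
theorem chk_relP2 : (relB2.all fun w => Nat.beq (wordC scodes w) (pone 275)) = true := by decide +kernel
theorem chk_relP3 : (relB3.all fun w => Nat.beq (wordC scodes w) (pone 275)) = true := by decide +kernel
theorem chk_relP4 : (relB4.all fun w => Nat.beq (wordC scodes w) (pone 275)) = true := by decide +kernel

theorem chk_letB : relB0.all (wordLt 2) = true ∧ relB1.all (wordLt 3) = true ∧ relB2.all (wordLt 4) = true ∧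
    relB3.all (wordLt 5) = true ∧ relB4.all (wordLt 6) = true ∧ wordLt 6 zU = true ∧ wordLt 6 zV = true := by
  decide +kernel

theorem chk_zP : Nat.beq (wordC scodes zW) (pone 275) = true := by decide +kernel

theorem chk_cB0 : certB0.rowsOK 0 10 = true := by decide +kernel
theorem chk_cB1 : certB1.rowsOK 0 36 = true := by decide +kernel
theorem chk_cB2 : certB2.rowsOK 0 56 = true := by decide +kernel
theorem chk_cB3 : certB3.rowsOK 0 486 = true := by decide +kernel
theorem chk_cB4 : certB4.rowsOK 0 275 = true := by decide +kernel

theorem chk_nil : relT cdM 0 [] = true := by decide +kernel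

end Cfsg.Agent.Lib.Helper5.McLCov
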