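import Cfsg.Agent.Lib.Helper5.McLCovA
import Cfsg.Agent.Lib.Helper5.McLCovData

/-! # The triple cover of `McL`: relators traced on the first rows of the blocks (kernel checks by ranges of blocks, part 16) -/

set_option autoImplicit false
set_option maxRecDepth 1000000

namespace Cfsg.Agent.Lib.Helper5.McLCov

open Cfsg.Agent.PG (allB allB_iff)

/-- the check of a block -/
noncomputable def frl_4_26 (a : ℕ) : Bool := Nat.beq (mlk mc5 (mlk mc2 (mlk mc3 (mlk mc2 (mlk mc5 (mlk mc2 (mlk mc5 (mlk mc2 (mlk mc3 (mlk mc2 (mlk mc5 (mlk mc2 (mlk mc5 (mlk mc1 (mlk mc2 (mlk mc1 (mlk mc0 (mlk mc1 (mlk mc2 (mlk mc1 (mlk mc5 (mlk mc2 (Nat.mul 3 a))))))))))))))))))))))) (Nat.add (Nat.mul 3 a) 0)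

theorem trc_4_26_0 : allB 1818 (fun i => frl_4_26 (Nat.add 0 i)) = true := by decide +kernel
theorem trc_4_26_1 : allB 1818 (fun i => frl_4_26 (Nat.add 1818 i)) = true := by decide +kernel
theorem trc_4_26_2 : allB 1818 (fun i => frl_4_26 (Nat.add 3636 i)) = true := by decide +kernel
theorem trc_4_26_3 : allB 1818 (fun i => frl_4_26 (Nat.add 5454 i)) = true := by decide +kernel
theorem trc_4_26_4 : allB 1818 (fun i => frl_4_26 (Nat.add 7272 i)) = true := by decide +kernel
theorem trc_4_26_5 : allB 1818 (fun i => frl_4_26 (Nat.add 9090 i)) = true := by decide +kernel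
theorem trc_4_26_6 : allB 1818 (fun i => frl_4_26 (Nat.add 10908 i)) = true := by decide +kernel
theorem trc_4_26_7 : allB 1818 (fun i => frl_4_26 (Nat.add 12726 i)) = true := by decide +kernel
theorem trc_4_26_8 : allB 1818 (fun i => frl_4_26 (Nat.add 14544 i)) = true := by decide +kernel
theorem trc_4_26_9 : allB 1818 (fun i => frl_4_26 (Nat.add 16362 i)) = true := by decide +kernel
theorem trc_4_26_10 : allB 1818 (fun i => frl_4_26 (Nat.add 18180 i)) = true := by decide +kernel
theorem trc_4_26_11 : allB 1818 (fun i => frl_4_26 (Nat.add 19998 i)) = true := by decide +kernel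
theorem trc_4_26_12 : allB 459 (fun i => frl_4_26 (Nat.add 21816 i)) = true := by decide +kernel

theorem trf_4_26 : allB NB frl_4_26 = true := by
  apply allB_iff.2
  intro a ha
  have ha' : a < 22275 := ha
  rcases Nat.lt_or_ge a 1818 with h0 | h0
  · exact allB_range (f := (frl_4_26)) (lo := 0) (len := 1818) trc_4_26_0 (by omega) (by omega)
  rcases Nat.lt_or_ge a 3636 with h1 | h1
  · exact allB_range (f := (frl_4_26)) (lo := 1818) (len := 1818) trc_4_26_1 (by omega) (by omega)
  rcases Nat.lt_or_ge a 5454 with h2 | h2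
  · exact allB_range (f := (frl_4_26)) (lo := 3636) (len := 1818) trc_4_26_2 (by omega) (by omega)
  rcases Nat.lt_or_ge a 7272 with h3 | h3
  · exact allB_range (f := (frl_4_26)) (lo := 5454) (len := 1818) trc_4_26_3 (by omega) (by omega)
  rcases Nat.lt_or_ge a 9090 with h4 | h4
  · exact allB_range (f := (frl_4_26)) (lo := 7272) (len := 1818) trc_4_26_4 (by omega) (by omega)
  rcases Nat.lt_or_ge a 10908 with h5 | h5
  · exact allB_range (f := (frl_4_26)) (lo := 9090) (len := 1818) trc_4_26_5 (by omega) (by omega)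
  rcases Nat.lt_or_ge a 12726 with h6 | h6
  · exact allB_range (f := (frl_4_26)) (lo := 10908) (len := 1818) trc_4_26_6 (by omega) (by omega)
  rcases Nat.lt_or_ge a 14544 with h7 | h7
  · exact allB_range (f := (frl_4_26)) (lo := 12726) (len := 1818) trc_4_26_7 (by omega) (by omega)
  rcases Nat.lt_or_ge a 16362 with h8 | h8
  · exact allB_range (f := (frl_4_26)) (lo := 14544) (len := 1818) trc_4_26_8 (by omega) (by omega)
  rcases Nat.lt_or_ge a 18180 with h9 | h9
  · exact allB_range (f := (frl_4_26)) (lo := 16362) (len := 1818) trc_4_26_9 (by omega) (by omega)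
  rcases Nat.lt_or_ge a 19998 with h10 | h10
  · exact allB_range (f := (frl_4_26)) (lo := 18180) (len := 1818) trc_4_26_10 (by omega) (by omega)
  rcases Nat.lt_or_ge a 21816 with h11 | h11
  · exact allB_range (f := (frl_4_26)) (lo := 19998) (len := 1818) trc_4_26_11 (by omega) (by omega)
  exact allB_range (f := (frl_4_26)) (lo := 21816) (len := 459) trc_4_26_12 (by omega) (by omega)

theorem rel_4_26 : relT cdM 0 (relB4.getD 26 []) = true := trf_4_26

/-- the check of a block -/
noncomputable def frl_4_27 (a : ℕ) : Bool := Nat.beq (mlk mc0 (mlk mc5 (mlk mc0 (mlk mc4 (mlk mc1 (mlk mc4 (mlk mc2 (mlk mc4 (mlk mc1 (mlk mc4 (mlk mc0 (mlk mc5 (mlk mc0 (mlk mc4 (mlk mc3 (mlk mc2 (mlk mc1 (mlk mc4 (mlk mc0 (mlk mc1 (mlk mc0 (mlk mc4 (mlk mc1 (mlk mc2 (mlk mc3 (mlk mc4 (Nat.mul 3 a))))))))))))))))))))))))))) (Nat.add (Nat.mul 3 a) 0)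

theorem trc_4_27_0 : allB 1538 (fun i => frl_4_27 (Nat.add 0 i)) = true := by decide +kernel
theorem trc_4_27_1 : allB 1538 (fun i => frl_4_27 (Nat.add 1538 i)) = true := by decide +kernel
theorem trc_4_27_2 : allB 1538 (fun i => frl_4_27 (Nat.add 3076 i)) = true := by decide +kernel
theorem trc_4_27_3 : allB 1538 (fun i => frl_4_27 (Nat.add 4614 i)) = true := by decide +kernel
theorem trc_4_27_4 : allB 1538 (fun i => frl_4_27 (Nat.add 6152 i)) = true := by decide +kernel
theorem trc_4_27_5 : allB 1538 (fun i => frl_4_27 (Nat.add 7690 i)) = true := by decide +kernel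
theorem trc_4_27_6 : allB 1538 (fun i => frl_4_27 (Nat.add 9228 i)) = true := by decide +kernel
theorem trc_4_27_7 : allB 1538 (fun i => frl_4_27 (Nat.add 10766 i)) = true := by decide +kernel
theorem trc_4_27_8 : allB 1538 (fun i => frl_4_27 (Nat.add 12304 i)) = true := by decide +kernel
theorem trc_4_27_9 : allB 1538 (fun i => frl_4_27 (Nat.add 13842 i)) = true := by decide +kernel
theorem trc_4_27_10 : allB 1538 (fun i => frl_4_27 (Nat.add 15380 i)) = true := by decide +kernel
theorem trc_4_27_11 : allB 1538 (fun i => frl_4_27 (Nat.add 16918 i)) = true := by decide +kernel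
theorem trc_4_27_12 : allB 1538 (fun i => frl_4_27 (Nat.add 18456 i)) = true := by decide +kernel
theorem trc_4_27_13 : allB 1538 (fun i => frl_4_27 (Nat.add 19994 i)) = true := by decide +kernel
theorem trc_4_27_14 : allB 743 (fun i => frl_4_27 (Nat.add 21532 i)) = true := by decide +kernel

theorem trf_4_27 : allB NB frl_4_27 = true := by
  apply allB_iff.2
  intro a ha
  have ha' : a < 22275 := ha
  rcases Nat.lt_or_ge a 1538 with h0 | h0
  · exact allB_range (f := (frl_4_27)) (lo := 0) (len := 1538) trc_4_27_0 (by omega) (by omega)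
  rcases Nat.lt_or_ge a 3076 with h1 | h1
  · exact allB_range (f := (frl_4_27)) (lo := 1538) (len := 1538) trc_4_27_1 (by omega) (by omega)
  rcases Nat.lt_or_ge a 4614 with h2 | h2
  · exact allB_range (f := (frl_4_27)) (lo := 3076) (len := 1538) trc_4_27_2 (by omega) (by omega)
  rcases Nat.lt_or_ge a 6152 with h3 | h3
  · exact allB_range (f := (frl_4_27)) (lo := 4614) (len := 1538) trc_4_27_3 (by omega) (by omega)
  rcases Nat.lt_or_ge a 7690 with h4 | h4
  · exact allB_range (f := (frl_4_27)) (lo := 6152) (len := 1538) trc_4_27_4 (by omega) (by omega)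
  rcases Nat.lt_or_ge a 9228 with h5 | h5
  · exact allB_range (f := (frl_4_27)) (lo := 7690) (len := 1538) trc_4_27_5 (by omega) (by omega)
  rcases Nat.lt_or_ge a 10766 with h6 | h6
  · exact allB_range (f := (frl_4_27)) (lo := 9228) (len := 1538) trc_4_27_6 (by omega) (by omega)
  rcases Nat.lt_or_ge a 12304 with h7 | h7
  · exact allB_range (f := (frl_4_27)) (lo := 10766) (len := 1538) trc_4_27_7 (by omega) (by omega)
  rcases Nat.lt_or_ge a 13842 with h8 | h8
  · exact allB_range (f := (frl_4_27)) (lo := 12304) (len := 1538) trc_4_27_8 (by omega) (by omega)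
  rcases Nat.lt_or_ge a 15380 with h9 | h9
  · exact allB_range (f := (frl_4_27)) (lo := 13842) (len := 1538) trc_4_27_9 (by omega) (by omega)
  rcases Nat.lt_or_ge a 16918 with h10 | h10
  · exact allB_range (f := (frl_4_27)) (lo := 15380) (len := 1538) trc_4_27_10 (by omega) (by omega)
  rcases Nat.lt_or_ge a 18456 with h11 | h11
  · exact allB_range (f := (frl_4_27)) (lo := 16918) (len := 1538) trc_4_27_11 (by omega) (by omega)
  rcases Nat.lt_or_ge a 19994 with h12 | h12
  · exact allB_range (f := (frl_4_27)) (lo := 18456) (len := 1538) trc_4_27_12 (by omega) (by omega)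
  rcases Nat.lt_or_ge a 21532 with h13 | h13
  · exact allB_range (f := (frl_4_27)) (lo := 19994) (len := 1538) trc_4_27_13 (by omega) (by omega)
  exact allB_range (f := (frl_4_27)) (lo := 21532) (len := 743) trc_4_27_14 (by omega) (by omega)

theorem rel_4_27 : relT cdM 0 (relB4.getD 27 []) = true := trf_4_27


end Cfsg.Agent.Lib.Helper5.McLCov
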