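import Cfsg.Agent.Lib.Helper5.McLCovA
import Cfsg.Agent.Lib.Helper5.McLCovData

/-! # The triple cover of `McL`: relators traced on the first rows of the blocks (kernel checks by ranges of blocks, part 4) -/

set_option autoImplicit false
set_option maxRecDepth 1000000

namespace Cfsg.Agent.Lib.Helper5.McLCov

open Cfsg.Agent.PG (allB allB_iff)

/-- the check of a block -/
noncomputable def frl_3_2 (a : ℕ) : Bool := Nat.beq (mlk mc0 (mlk mc2 (mlk mc0 (mlk mc2 (mlk mc0 (mlk mc2 (Nat.mul 3 a))))))) (Nat.add (Nat.mul 3 a) 0)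

theorem trc_3_2_0 : allB 6666 (fun i => frl_3_2 (Nat.add 0 i)) = true := by decide +kernel
theorem trc_3_2_1 : allB 6666 (fun i => frl_3_2 (Nat.add 6666 i)) = true := by decide +kernel
theorem trc_3_2_2 : allB 6666 (fun i => frl_3_2 (Nat.add 13332 i)) = true := by decide +kernel
theorem trc_3_2_3 : allB 2277 (fun i => frl_3_2 (Nat.add 19998 i)) = true := by decide +kernel

theorem trf_3_2 : allB NB frl_3_2 = true := by
  apply allB_iff.2
  intro a ha
  have ha' : a < 22275 := ha
  rcases Nat.lt_or_ge a 6666 with h0 | h0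
  · exact allB_range (f := (frl_3_2)) (lo := 0) (len := 6666) trc_3_2_0 (by omega) (by omega)
  rcases Nat.lt_or_ge a 13332 with h1 | h1
  · exact allB_range (f := (frl_3_2)) (lo := 6666) (len := 6666) trc_3_2_1 (by omega) (by omega)
  rcases Nat.lt_or_ge a 19998 with h2 | h2
  · exact allB_range (f := (frl_3_2)) (lo := 13332) (len := 6666) trc_3_2_2 (by omega) (by omega)
  exact allB_range (f := (frl_3_2)) (lo := 19998) (len := 2277) trc_3_2_3 (by omega) (by omega)

theorem rel_3_2 : relT cdM 0 (relB3.getD 2 []) = true := trf_3_2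

/-- the check of a block -/
noncomputable def frl_3_3 (a : ℕ) : Bool := Nat.beq (mlk mc0 (mlk mc3 (mlk mc0 (mlk mc3 (mlk mc0 (mlk mc3 (Nat.mul 3 a))))))) (Nat.add (Nat.mul 3 a) 0)

theorem trc_3_3_0 : allB 6666 (fun i => frl_3_3 (Nat.add 0 i)) = true := by decide +kernel
theorem trc_3_3_1 : allB 6666 (fun i => frl_3_3 (Nat.add 6666 i)) = true := by decide +kernel
theorem trc_3_3_2 : allB 6666 (fun i => frl_3_3 (Nat.add 13332 i)) = true := by decide +kernel
theorem trc_3_3_3 : allB 2277 (fun i => frl_3_3 (Nat.add 19998 i)) = true := by decide +kernel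

theorem trf_3_3 : allB NB frl_3_3 = true := by
  apply allB_iff.2
  intro a ha
  have ha' : a < 22275 := ha
  rcases Nat.lt_or_ge a 6666 with h0 | h0
  · exact allB_range (f := (frl_3_3)) (lo := 0) (len := 6666) trc_3_3_0 (by omega) (by omega)
  rcases Nat.lt_or_ge a 13332 with h1 | h1
  · exact allB_range (f := (frl_3_3)) (lo := 6666) (len := 6666) trc_3_3_1 (by omega) (by omega)
  rcases Nat.lt_or_ge a 19998 with h2 | h2
  · exact allB_range (f := (frl_3_3)) (lo := 13332) (len := 6666) trc_3_3_2 (by omega) (by omega)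
  exact allB_range (f := (frl_3_3)) (lo := 19998) (len := 2277) trc_3_3_3 (by omega) (by omega)

theorem rel_3_3 : relT cdM 0 (relB3.getD 3 []) = true := trf_3_3

/-- the check of a block -/
noncomputable def frl_3_4 (a : ℕ) : Bool := Nat.beq (mlk mc0 (mlk mc4 (mlk mc0 (mlk mc4 (mlk mc0 (mlk mc4 (Nat.mul 3 a))))))) (Nat.add (Nat.mul 3 a) 0)

theorem trc_3_4_0 : allB 6666 (fun i => frl_3_4 (Nat.add 0 i)) = true := by decide +kernel
theorem trc_3_4_1 : allB 6666 (fun i => frl_3_4 (Nat.add 6666 i)) = true := by decide +kernel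
theorem trc_3_4_2 : allB 6666 (fun i => frl_3_4 (Nat.add 13332 i)) = true := by decide +kernel
theorem trc_3_4_3 : allB 2277 (fun i => frl_3_4 (Nat.add 19998 i)) = true := by decide +kernel

theorem trf_3_4 : allB NB frl_3_4 = true := by
  apply allB_iff.2
  intro a ha
  have ha' : a < 22275 := ha
  rcases Nat.lt_or_ge a 6666 with h0 | h0
  · exact allB_range (f := (frl_3_4)) (lo := 0) (len := 6666) trc_3_4_0 (by omega) (by omega)
  rcases Nat.lt_or_ge a 13332 with h1 | h1
  · exact allB_range (f := (frl_3_4)) (lo := 6666) (len := 6666) trc_3_4_1 (by omega) (by omega)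
  rcases Nat.lt_or_ge a 19998 with h2 | h2
  · exact allB_range (f := (frl_3_4)) (lo := 13332) (len := 6666) trc_3_4_2 (by omega) (by omega)
  exact allB_range (f := (frl_3_4)) (lo := 19998) (len := 2277) trc_3_4_3 (by omega) (by omega)

theorem rel_3_4 : relT cdM 0 (relB3.getD 4 []) = true := trf_3_4

/-- the check of a block -/
noncomputable def frl_3_5 (a : ℕ) : Bool := Nat.beq (mlk mc1 (mlk mc2 (mlk mc1 (mlk mc2 (mlk mc1 (mlk mc2 (Nat.mul 3 a))))))) (Nat.add (Nat.mul 3 a) 0)

theorem trc_3_5_0 : allB 6666 (fun i => frl_3_5 (Nat.add 0 i)) = true := by decide +kernel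
theorem trc_3_5_1 : allB 6666 (fun i => frl_3_5 (Nat.add 6666 i)) = true := by decide +kernel
theorem trc_3_5_2 : allB 6666 (fun i => frl_3_5 (Nat.add 13332 i)) = true := by decide +kernel
theorem trc_3_5_3 : allB 2277 (fun i => frl_3_5 (Nat.add 19998 i)) = true := by decide +kernel

theorem trf_3_5 : allB NB frl_3_5 = true := by
  apply allB_iff.2
  intro a ha
  have ha' : a < 22275 := ha
  rcases Nat.lt_or_ge a 6666 with h0 | h0
  · exact allB_range (f := (frl_3_5)) (lo := 0) (len := 6666) trc_3_5_0 (by omega) (by omega)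
  rcases Nat.lt_or_ge a 13332 with h1 | h1
  · exact allB_range (f := (frl_3_5)) (lo := 6666) (len := 6666) trc_3_5_1 (by omega) (by omega)
  rcases Nat.lt_or_ge a 19998 with h2 | h2
  · exact allB_range (f := (frl_3_5)) (lo := 13332) (len := 6666) trc_3_5_2 (by omega) (by omega)
  exact allB_range (f := (frl_3_5)) (lo := 19998) (len := 2277) trc_3_5_3 (by omega) (by omega)

theorem rel_3_5 : relT cdM 0 (relB3.getD 5 []) = true := trf_3_5

/-- the check of a block -/
noncomputable def frl_3_6 (a : ℕ) : Bool := Nat.beq (mlk mc2 (mlk mc3 (mlk mc2 (mlk mc3 (mlk mc2 (mlk mc3 (Nat.mul 3 a))))))) (Nat.add (Nat.mul 3 a) 0)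

theorem trc_3_6_0 : allB 6666 (fun i => frl_3_6 (Nat.add 0 i)) = true := by decide +kernel
theorem trc_3_6_1 : allB 6666 (fun i => frl_3_6 (Nat.add 6666 i)) = true := by decide +kernel
theorem trc_3_6_2 : allB 6666 (fun i => frl_3_6 (Nat.add 13332 i)) = true := by decide +kernel
theorem trc_3_6_3 : allB 2277 (fun i => frl_3_6 (Nat.add 19998 i)) = true := by decide +kernel

theorem trf_3_6 : allB NB frl_3_6 = true := by
  apply allB_iff.2
  intro a ha
  have ha' : a < 22275 := ha
  rcases Nat.lt_or_ge a 6666 with h0 | h0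
  · exact allB_range (f := (frl_3_6)) (lo := 0) (len := 6666) trc_3_6_0 (by omega) (by omega)
  rcases Nat.lt_or_ge a 13332 with h1 | h1
  · exact allB_range (f := (frl_3_6)) (lo := 6666) (len := 6666) trc_3_6_1 (by omega) (by omega)
  rcases Nat.lt_or_ge a 19998 with h2 | h2
  · exact allB_range (f := (frl_3_6)) (lo := 13332) (len := 6666) trc_3_6_2 (by omega) (by omega)
  exact allB_range (f := (frl_3_6)) (lo := 19998) (len := 2277) trc_3_6_3 (by omega) (by omega)

theorem rel_3_6 : relT cdM 0 (relB3.getD 6 []) = true := trf_3_6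

/-- the check of a block -/
noncomputable def frl_3_7 (a : ℕ) : Bool := Nat.beq (mlk mc3 (mlk mc2 (mlk mc0 (mlk mc2 (mlk mc3 (mlk mc2 (mlk mc0 (mlk mc2 (Nat.mul 3 a))))))))) (Nat.add (Nat.mul 3 a) 0)

theorem trc_3_7_0 : allB 5000 (fun i => frl_3_7 (Nat.add 0 i)) = true := by decide +kernel
theorem trc_3_7_1 : allB 5000 (fun i => frl_3_7 (Nat.add 5000 i)) = true := by decide +kernel
theorem trc_3_7_2 : allB 5000 (fun i => frl_3_7 (Nat.add 10000 i)) = true := by decide +kernel
theorem trc_3_7_3 : allB 5000 (fun i => frl_3_7 (Nat.add 15000 i)) = true := by decide +kernel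
theorem trc_3_7_4 : allB 2275 (fun i => frl_3_7 (Nat.add 20000 i)) = true := by decide +kernel

theorem trf_3_7 : allB NB frl_3_7 = true := by
  apply allB_iff.2
  intro a ha
  have ha' : a < 22275 := ha
  rcases Nat.lt_or_ge a 5000 with h0 | h0
  · exact allB_range (f := (frl_3_7)) (lo := 0) (len := 5000) trc_3_7_0 (by omega) (by omega)
  rcases Nat.lt_or_ge a 10000 with h1 | h1
  · exact allB_range (f := (frl_3_7)) (lo := 5000) (len := 5000) trc_3_7_1 (by omega) (by omega)
  rcases Nat.lt_or_ge a 15000 with h2 | h2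
  · exact allB_range (f := (frl_3_7)) (lo := 10000) (len := 5000) trc_3_7_2 (by omega) (by omega)
  rcases Nat.lt_or_ge a 20000 with h3 | h3
  · exact allB_range (f := (frl_3_7)) (lo := 15000) (len := 5000) trc_3_7_3 (by omega) (by omega)
  exact allB_range (f := (frl_3_7)) (lo := 20000) (len := 2275) trc_3_7_4 (by omega) (by omega)

theorem rel_3_7 : relT cdM 0 (relB3.getD 7 []) = true := trf_3_7


end Cfsg.Agent.Lib.Helper5.McLCov
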