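import Cfsg.Agent.Lib.Helper5.McLFusData
import Cfsg.Agent.Lib.Lead.McL.OutChk
import Cfsg.Agent.Lib.Lead.PG.Inv

/-! # The 2-fusion system of the McLaughlin group: the kernel checks -/

set_option autoImplicit false
set_option maxRecDepth 100000

namespace Cfsg.Agent.Lib.Helper5.McLFus

open Cfsg.Agent.McLP Cfsg.Agent.J3O Cfsg.Agent.PG

/-- a code is the identity, or `z1`, or does not commute with some generator of the Sylow 2-subgroup -/
def cenB (d : ℕ) : Bool :=
  Nat.beq d (pone 275) || Nat.beq d cz || cS.any fun s => !(Nat.beq (pmul 275 d s) (pmul 275 s d))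

/-- a code commutes with `z1` -/
def comZ (t : ℕ) : Bool := Nat.beq (pmul 275 t cz) (pmul 275 cz t)

/-- the test on the elements of the Sylow 2-subgroup -/
def qF (D : List ℕ) (d : ℕ) : Bool := cenB d && comZ d && Nat.beq (lk d 60) 60 && D.contains d

/-- the element at a position is an involution -/
def invB (D : List ℕ) (i : ℕ) : Bool :=
  Nat.beq (pmul 275 (D.getD i (pone 275)) (D.getD i (pone 275))) (pone 275) &&
    !(Nat.beq (D.getD i (pone 275)) (pone 275))

/-- the product of the elements at the positions of a list -/
def prodI (D : List ℕ) (w : List ℕ) : ℕ := w.foldr (fun i acc => pmul 275 (D.getD i (pone 275)) acc) (pone 275)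

/-- the generators are products of involutions -/
def decompOK (D : List ℕ) : Bool :=
  (List.range 4).all fun k =>
    ((decompI.getD k []).all (invB D)) && Nat.beq (prodI D (decompI.getD k [])) (cS.getD k 0)

/-- the point 60 is the only point fixed by the generators of the Sylow 2-subgroup -/
def fixOK : Bool := allB 275 fun p => Nat.beq p 60 || cS.any fun s => !(Nat.beq (lk s p) p)

/-- the code of the `i`-th of the 35 elements -/
def tc (R : List ℕ) (i : ℕ) : ℕ := R.getD (idxT.getD i 0) (pone 275)

/-- the code of the `j`-th of the nine representatives -/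
def rc (R : List ℕ) (j : ℕ) : ℕ := R.getD (idxR.getD j 0) (pone 275)

/-- the 35 elements commute with `z1` and have different images of the point 60 -/
def trvT (R : List ℕ) : Bool :=
  ((List.range 35).all fun i => comZ (tc R i)) && nodupB ((List.range 35).map fun i => lk (tc R i) 60)

/-- the nine representatives commute with `z1`, fix the point 60, lie in different cosets, the first is the identity and
the others conjugate the first generator of the Sylow 2-subgroup out of it -/
def trvR (D R : List ℕ) : Bool :=
  ((List.range 9).all fun j => comZ (rc R j) && Nat.beq (lk (rc R j) 60) 60) &&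
    ((List.range 9).all fun j => (List.range 9).all fun k =>
      Nat.ble k j || !(D.contains (pmul 275 (pinv 275 (rc R j)) (rc R k)))) &&
    Nat.beq (rc R 0) (pone 275) &&
    ((List.range 9).all fun j =>
      Nat.beq j 0 || !(D.contains (pconj 275 (rc R j) (pinv 275 (rc R j)) (cS.getD 0 0))))

theorem chk_syl2 : runK 275 sylProg cS (fun D => sylOK 275 cS D (qF D) && decompOK D && fixOK && D.contains cz) =
    true := by
  decide +kernel

theorem chk_trv : runK 275 sylProg cS (fun D => runK 275 progF [cbi, cb, cai, ca] (fun R => trvT R && trvR D R)) =
    true := by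
  decide +kernel

end Cfsg.Agent.Lib.Helper5.McLFus
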