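import Cfsg.Agent.Lib.Helper5.McLFusA
import Cfsg.Agent.Lib.Helper5.McLFusChk
import Cfsg.Agent.Lib.Helper8.McLInv
import Cfsg.Agent.Lib.Lead.McL.Iso

/-!
# The 2-fusion system of the McLaughlin group is simple

On lead's permutation group `P` of 275 points: the Sylow 2-subgroup `S2` of lead (128 elements, listed by their codes)
has centre `{1, z1}`, fixes the point 60 and no other point, is generated by involutions, and all involutions of `P` are
conjugate (helper8).  The normaliser of `S2` centralises `z1` and fixes the point 60; the subgroup `K` of the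
centraliser of `z1` (order 40320, helper8) that fixes the point 60 has at most `40320 / 35 = 9 · 128` elements, nine
explicit elements of `K` lie in different cosets of `S2`, and the eight of them that are not in `S2` do not normalise
`S2`.  Hence `S2` is its own normaliser, and helper9's certificate applies with the centric subgroup `S2` itself.
-/

set_option autoImplicit false
set_option maxRecDepth 100000

namespace Cfsg.Agent.Lib.Helper5.McLFus

open Cfsg Cfsg.Agent.McLP Cfsg.Agent.J3O Cfsg.Agent.PG Cfsg.Agent.H9.GfsSimple3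
open Cfsg.Agent.Lib.Helper8.McLCent (isConj_z1 card_centralizer_z1)

/-- the codes of the elements of the Sylow 2-subgroup -/
noncomputable def DS : List ℕ := run 275 sylProg cS

/-- the codes of the registers of the program `progF` -/
noncomputable def RF : List ℕ := run 275 progF [cbi, cb, cai, ca]

theorem chk_parts : sylOK 275 cS DS (qF DS) = true ∧ decompOK DS = true ∧ fixOK = true ∧ DS.contains cz = true := by
  have h := chk_syl2
  rw [runK_eq] at h
  simp only [Bool.and_eq_true] at h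
  exact ⟨h.1.1.1, h.1.1.2, h.1.2, h.2⟩

theorem chk_parts2 : trvT RF = true ∧ trvR DS RF = true := by
  have h := chk_trv
  rw [runK_eq] at h
  rw [runK_eq] at h
  simp only [Bool.and_eq_true] at h
  exact ⟨h.1, h.2⟩

/-! ### the elements of the Sylow 2-subgroup -/

theorem gS_mem {g : ↥P} (hg : g ∈ gS) : g ∈ S2 := Subgroup.subset_closure hg

theorem regsDS : RegsOK P (runM sylProg gS) DS := gS_ok.run n_le

theorem runM_memS2 (i : ℕ) : (runM sylProg gS).getD i 1 ∈ S2 := by
  have h := runM_mem S2.toSubmonoid sylProg gS (fun g hg => gS_mem hg)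
  by_cases hi : i < (runM sylProg gS).length
  · rw [List.getD_eq_getElem _ _ hi]
    exact h _ (List.getElem_mem hi)
  · rw [List.getD_eq_default _ _ (by omega)]
    exact S2.one_mem

theorem enc_runM (i : ℕ) : enc 275 ((runM sylProg gS).getD i 1).1 = DS.getD i (pone 275) := regsDS.getD i

theorem sylF : Nat.card S2 = DS.length ∧ ∀ e ∈ S2, qF DS (enc 275 e.1) = true :=
  sylOK_sound n_le gS_ok sylProg (qF DS) chk_parts.1

theorem qF_parts {e : ↥P} (he : e ∈ S2) : cenB (enc 275 e.1) = true ∧ comZ (enc 275 e.1) = true ∧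
    lk (enc 275 e.1) 60 = 60 ∧ enc 275 e.1 ∈ DS := by
  have h := sylF.2 e he
  unfold qF at h
  simp only [Bool.and_eq_true] at h
  exact ⟨h.1.1.1, h.1.1.2, Nat.eq_of_beq_eq_true h.1.2, List.contains_iff_mem.1 h.2⟩

/-- an element whose code is in the list is in the Sylow 2-subgroup -/
theorem mem_S2_of_code {x : ↥P} (h : enc 275 x.1 ∈ DS) : x ∈ S2 := by
  obtain ⟨i, hi, hix⟩ := List.getElem_of_mem h
  have h1 := enc_runM i
  rw [List.getD_eq_getElem _ _ hi, hix] at h1
  have h2 : (runM sylProg gS).getD i 1 = x := Subtype.ext (enc_injective n_le h1)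
  rw [← h2]
  exact runM_memS2 i

theorem eq_of_enc {x y : ↥P} (h : enc 275 x.1 = enc 275 y.1) : x = y := Subtype.ext (enc_injective n_le h)

theorem enc_mul (x y : ↥P) : enc 275 (x * y).1 = pmul 275 (enc 275 x.1) (enc 275 y.1) := by
  rw [Subgroup.coe_mul, pmul_enc n_le]

theorem enc_inv (x : ↥P) : enc 275 (x⁻¹).1 = pinv 275 (enc 275 x.1) := by
  rw [Subgroup.coe_inv, pinv_enc n_le]

theorem enc_one : enc 275 (1 : ↥P).1 = pone 275 := (enc_eq_pone_iff n_le (1 : ↥P)).2 rfl

/-- a code of the list of the generators belongs to a generator -/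
theorem exists_of_mem_codes : ∀ {gs : List ↥P} {cs : List ℕ}, RegsOK P gs cs → ∀ {s : ℕ}, s ∈ cs →
    ∃ g ∈ gs, enc 275 g.1 = s := by
  intro gs cs h
  induction h with
  | nil => intro s hs; exact absurd hs List.not_mem_nil
  | cons hd _ ih =>
    intro s hs
    rcases List.mem_cons.1 hs with rfl | hs'
    · exact ⟨_, List.mem_cons_self, hd⟩
    · obtain ⟨g, hg, e⟩ := ih hs'
      exact ⟨g, List.mem_cons_of_mem _ hg, e⟩

theorem z1_mem : z1 ∈ S2 := by
  apply mem_S2_of_code
  rw [enc_zs.1]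
  exact List.contains_iff_mem.1 chk_parts.2.2.2

theorem comm_z1 {e : ↥P} (he : e ∈ S2) : e * z1 = z1 * e := by
  apply eq_of_enc
  rw [enc_mul, enc_mul, enc_zs.1]
  exact Nat.eq_of_beq_eq_true (qF_parts he).2.1

/-- the point 60 -/
def p60 : Fin 275 := ⟨60, by norm_num⟩

theorem fix_p60 {e : ↥P} (he : e ∈ S2) : e.1 p60 = p60 := by
  apply Fin.ext
  rw [← lk_enc_fin n_le]
  exact (qF_parts he).2.2.1

/-- the centre of the Sylow 2-subgroup -/
theorem center_S2 : ∀ x ∈ S2, (∀ s ∈ S2, x * s = s * x) → x = 1 ∨ x = z1 := by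
  intro x hx hcomm
  have h := (qF_parts hx).1
  unfold cenB at h
  simp only [Bool.or_eq_true] at h
  rcases h with (h | h) | h
  · left
    exact (enc_eq_pone_iff n_le x).1 (Nat.eq_of_beq_eq_true h)
  · right
    apply eq_of_enc
    rw [enc_zs.1]
    exact Nat.eq_of_beq_eq_true h
  · exfalso
    rw [List.any_eq_true] at h
    obtain ⟨s, hs, hne⟩ := h
    obtain ⟨g, hg, rfl⟩ := exists_of_mem_codes gS_ok hs
    have := hcomm g (gS_mem hg)
    rw [← enc_mul, ← enc_mul, this, Nat.beq_refl] at hne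
    exact Bool.noConfusion hne

/-- a point fixed by the generators is the point 60 -/
theorem uniq_fix (p : Fin 275) (h : ∀ g ∈ gS, g.1 p = p) : p = p60 := by
  have hf := allB_iff.1 chk_parts.2.2.1 p.1 p.2
  simp only [Bool.or_eq_true] at hf
  rcases hf with hf | hf
  · exact Fin.ext (Nat.eq_of_beq_eq_true hf)
  · exfalso
    rw [List.any_eq_true] at hf
    obtain ⟨s, hs, hne⟩ := hf
    obtain ⟨g, hg, rfl⟩ := exists_of_mem_codes gS_ok hs
    rw [lk_enc_fin n_le, h g hg, Nat.beq_refl] at hne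
    exact Bool.noConfusion hne

/-! ### the Sylow 2-subgroup is generated by involutions -/

theorem prodI_cons (D : List ℕ) (i : ℕ) (w : List ℕ) :
    prodI D (i :: w) = pmul 275 (D.getD i (pone 275)) (prodI D w) := by
  unfold prodI
  rw [List.foldr_cons]

theorem cS_length : cS.length = 4 := chk_sylz.1

theorem invgen (T : Subgroup ↥P) (hT : ∀ y ∈ S2, orderOf y = 2 → y ∈ T) : S2 ≤ T := by
  have key : ∀ w : List ℕ, w.all (invB DS) = true → ∃ e : ↥P, e ∈ T ∧ enc 275 e.1 = prodI DS w := by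
    intro w
    induction w with
    | nil => intro _; exact ⟨1, T.one_mem, enc_one⟩
    | cons i w ih =>
      intro h
      rw [List.all_cons, Bool.and_eq_true] at h
      obtain ⟨e, heT, he⟩ := ih h.2
      have hi := h.1
      unfold invB at hi
      rw [Bool.and_eq_true] at hi
      set x : ↥P := (runM sylProg gS).getD i 1 with hx
      have hxe : enc 275 x.1 = DS.getD i (pone 275) := enc_runM i
      have hxx : x * x = 1 := by
        apply (enc_eq_pone_iff n_le (x * x)).1
        rw [enc_mul, hxe]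
        exact Nat.eq_of_beq_eq_true hi.1
      have hx1 : x ≠ 1 := by
        intro h1
        have h2 := (enc_eq_pone_iff n_le x).2 h1
        rw [hxe] at h2
        have h3 := hi.2
        rw [h2, Nat.beq_refl] at h3
        exact Bool.noConfusion h3
      have hord : orderOf x = 2 := orderOf_eq_prime (by rw [pow_two]; exact hxx) hx1
      refine ⟨x * e, T.mul_mem (hT x (runM_memS2 i) hord) heT, ?_⟩
      rw [enc_mul, hxe, he, prodI_cons]
  unfold S2
  rw [Subgroup.closure_le]
  intro g hg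
  have hg' : g ∈ gS := hg
  have hc : enc 275 g.1 ∈ cS := regs_mem gS_ok hg'
  obtain ⟨k, hk, hkc⟩ := List.getElem_of_mem hc
  rw [cS_length] at hk
  have hd := List.all_eq_true.1 chk_parts.2.1 k (List.mem_range.2 hk)
  rw [Bool.and_eq_true] at hd
  obtain ⟨e, heT, he⟩ := key _ hd.1
  have e2 : prodI DS (decompI.getD k []) = enc 275 g.1 := by
    rw [Nat.eq_of_beq_eq_true hd.2, List.getD_eq_getElem _ _ (by rw [cS_length]; exact hk), hkc]
  rw [e2] at he
  rw [SetLike.mem_coe, ← eq_of_enc he]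
  exact heT

/-! ### the subgroup `K` -/

/-- the elements that commute with `z1` and fix the point 60 -/
def K : Subgroup ↥P where
  carrier := {g | g * z1 = z1 * g ∧ g.1 p60 = p60}
  mul_mem' := by
    rintro a b ⟨ha, ha'⟩ ⟨hb, hb'⟩
    refine ⟨?_, ?_⟩
    · rw [mul_assoc, hb, ← mul_assoc, ha, mul_assoc]
    · rw [Subgroup.coe_mul, Equiv.Perm.mul_apply, hb', ha']
  one_mem' := ⟨by rw [one_mul, mul_one], rfl⟩
  inv_mem' := by
    rintro a ⟨ha, ha'⟩
    refine ⟨?_, ?_⟩
    · calc a⁻¹ * z1 = a⁻¹ * (z1 * a) * a⁻¹ := by group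
        _ = a⁻¹ * (a * z1) * a⁻¹ := by rw [ha]
        _ = z1 * a⁻¹ := by group
    · rw [Subgroup.coe_inv, Equiv.Perm.inv_eq_iff_eq, ha']

theorem mem_K {g : ↥P} : g ∈ K ↔ g * z1 = z1 * g ∧ g.1 p60 = p60 := Iff.rfl

theorem S2_le_K : S2 ≤ K := fun _ he => ⟨comm_z1 he, fix_p60 he⟩

/-- the 35 elements -/
noncomputable def tE (i : ℕ) : ↥P := reg progF (idxT.getD i 0)

/-- the nine representatives -/
noncomputable def rE (j : ℕ) : ↥P := reg progF (idxR.getD j 0)

theorem enc_tE (i : ℕ) : enc 275 (tE i).1 = tc RF i := enc_reg progF _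

theorem enc_rE (j : ℕ) : enc 275 (rE j).1 = rc RF j := enc_reg progF _

theorem tE_comm {i : ℕ} (hi : i < 35) : tE i * z1 = z1 * tE i := by
  have h := chk_parts2.1
  unfold trvT at h
  rw [Bool.and_eq_true] at h
  have := List.all_eq_true.1 h.1 i (List.mem_range.2 hi)
  apply eq_of_enc
  rw [enc_mul, enc_mul, enc_zs.1, enc_tE]
  exact Nat.eq_of_beq_eq_true this

theorem tE_inj {i j : ℕ} (hi : i < 35) (hj : j < 35) (h : (tE i).1 p60 = (tE j).1 p60) : i = j := by
  have hc := chk_parts2.1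
  unfold trvT at hc
  rw [Bool.and_eq_true] at hc
  have hnd := nodupB_sound hc.2
  apply List.inj_on_of_nodup_map hnd (List.mem_range.2 hi) (List.mem_range.2 hj)
  show lk (tc RF i) 60 = lk (tc RF j) 60
  rw [← enc_tE, ← enc_tE]
  have e1 := lk_enc_fin n_le (tE i).1 p60
  have e2 := lk_enc_fin n_le (tE j).1 p60
  have e3 : ((p60 : Fin 275) : ℕ) = 60 := rfl
  rw [e3] at e1 e2
  rw [e1, e2, h]

/-- the centraliser of `z1` -/
noncomputable def CZ : Subgroup ↥P := Subgroup.centralizer ({z1} : Set ↥P)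

theorem mem_CZ {g : ↥P} : g ∈ CZ ↔ g * z1 = z1 * g := by
  unfold CZ
  rw [Subgroup.mem_centralizer_iff]
  constructor
  · intro h
    exact (h z1 rfl).symm
  · intro h x hx
    rw [Set.mem_singleton_iff] at hx
    subst hx
    exact h.symm

theorem card_K_le : Nat.card ↥K * 35 ≤ 40320 := by
  rw [← card_centralizer_z1]
  have hinj : Function.Injective (fun q : ↥K × Fin 35 => (⟨tE q.2.1 * q.1.1, by
      rw [mem_CZ, mul_assoc, q.1.2.1, ← mul_assoc, tE_comm q.2.2, mul_assoc]⟩ : ↥CZ)) := by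
    rintro ⟨⟨k, hk⟩, ⟨i, hi⟩⟩ ⟨⟨k', hk'⟩, ⟨j, hj⟩⟩ h
    have h1 : tE i * k = tE j * k' := congrArg Subtype.val h
    have h2 : (tE i).1 p60 = (tE j).1 p60 := by
      have := congrArg (fun x : ↥P => x.1 p60) h1
      simp only [Subgroup.coe_mul, Equiv.Perm.mul_apply] at this
      rw [hk.2, hk'.2] at this
      exact this
    have hij : i = j := tE_inj hi hj h2
    subst hij
    have h3 : k = k' := mul_left_cancel h1
    subst h3
    rfl
  have := Nat.card_le_card_of_injective _ hinj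
  rw [Nat.card_prod, Nat.card_fin] at this
  exact this

theorem rE_mem_K {j : ℕ} (hj : j < 9) : rE j ∈ K := by
  have h := chk_parts2.2
  unfold trvR at h
  simp only [Bool.and_eq_true] at h
  have h1 := List.all_eq_true.1 h.1.1.1 j (List.mem_range.2 hj)
  rw [Bool.and_eq_true] at h1
  refine ⟨?_, ?_⟩
  · apply eq_of_enc
    rw [enc_mul, enc_mul, enc_zs.1, enc_rE]
    exact Nat.eq_of_beq_eq_true h1.1
  · apply Fin.ext
    rw [← lk_enc_fin n_le, enc_rE]
    exact Nat.eq_of_beq_eq_true h1.2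

theorem rE_zero : rE 0 = 1 := by
  have h := chk_parts2.2
  unfold trvR at h
  simp only [Bool.and_eq_true] at h
  apply (enc_eq_pone_iff n_le (rE 0)).1
  rw [enc_rE]
  exact Nat.eq_of_beq_eq_true h.1.2

theorem rE_coset {j k : ℕ} (hj : j < 9) (hk : k < 9) (hjk : j < k) : (rE j)⁻¹ * rE k ∉ S2 := by
  intro hmem
  have h := chk_parts2.2
  unfold trvR at h
  simp only [Bool.and_eq_true] at h
  have h1 := List.all_eq_true.1 (List.all_eq_true.1 h.1.1.2 j (List.mem_range.2 hj)) k (List.mem_range.2 hk)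
  rw [Bool.or_eq_true] at h1
  rcases h1 with h1 | h1
  · have := Nat.le_of_ble_eq_true h1
    omega
  · have h2 := (qF_parts hmem).2.2.2
    rw [enc_mul, enc_inv, enc_rE, enc_rE] at h2
    rw [List.contains_iff_mem.2 h2] at h1
    exact Bool.noConfusion h1

theorem rE_not_norm {j : ℕ} (hj : j < 9) (hj0 : j ≠ 0) :
    rE j ∉ Subgroup.normalizer ((S2 : Subgroup ↥P) : Set ↥P) := by
  intro hn
  have h := chk_parts2.2
  unfold trvR at h
  simp only [Bool.and_eq_true] at h
  have h1 := List.all_eq_true.1 h.2 j (List.mem_range.2 hj)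
  rw [Bool.or_eq_true] at h1
  rcases h1 with h1 | h1
  · exact hj0 (Nat.eq_of_beq_eq_true h1)
  · have hlen : 0 < cS.length := by rw [cS_length]; norm_num
    have hc0 : cS.getD 0 0 ∈ cS := by
      rw [List.getD_eq_getElem _ _ hlen]
      exact List.getElem_mem hlen
    obtain ⟨g, hg, hge⟩ := exists_of_mem_codes gS_ok hc0
    have hconj : rE j * g * (rE j)⁻¹ ∈ S2 := (Subgroup.mem_normalizer_iff.1 hn g).1 (gS_mem hg)
    have h2 := (qF_parts hconj).2.2.2
    rw [Subgroup.coe_mul, Subgroup.coe_mul, Subgroup.coe_inv, ← pconj_enc n_le, hge, ← Subgroup.coe_inv,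
      enc_inv, enc_rE] at h2
    rw [List.contains_iff_mem.2 h2] at h1
    exact Bool.noConfusion h1

theorem card_S2 : Nat.card S2 = 2 ^ 7 := syl_facts.1

/-- every element of `K` lies in the coset of one of the nine representatives -/
theorem K_cosets (g : ↥P) (hg : g ∈ K) : ∃ j < 9, (rE j)⁻¹ * g ∈ S2 := by
  let S2K : Subgroup ↥K := S2.subgroupOf K
  have hcS : Nat.card ↥S2K = 128 := by
    rw [Nat.card_congr (Subgroup.subgroupOfEquivOfLe S2_le_K).toEquiv, card_S2]
    norm_num
  have hcard : Nat.card (↥K ⧸ S2K) * Nat.card ↥S2K = Nat.card ↥K :=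
    (Subgroup.card_eq_card_quotient_mul_card_subgroup S2K).symm
  have hle : Nat.card (↥K ⧸ S2K) ≤ 9 := by
    have h1 := card_K_le
    rw [← hcard, hcS] at h1
    omega
  let f : Fin 9 → ↥K ⧸ S2K := fun j => QuotientGroup.mk (⟨rE j.1, rE_mem_K j.2⟩ : ↥K)
  have hfinj : Function.Injective f := by
    intro j k hjk
    by_contra hne
    have hjk' : (⟨rE j.1, rE_mem_K j.2⟩ : ↥K)⁻¹ * ⟨rE k.1, rE_mem_K k.2⟩ ∈ S2K := QuotientGroup.eq.1 hjk
    have hkj' : (⟨rE k.1, rE_mem_K k.2⟩ : ↥K)⁻¹ * ⟨rE j.1, rE_mem_K j.2⟩ ∈ S2K := QuotientGroup.eq.1 hjk.symm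
    rw [Subgroup.mem_subgroupOf] at hjk' hkj'
    rcases lt_or_gt_of_ne (fun h => hne (Fin.ext h)) with hlt | hlt
    · exact rE_coset j.2 k.2 hlt hjk'
    · exact rE_coset k.2 j.2 hlt hkj'
  have hfin : Finite (↥K ⧸ S2K) := inferInstance
  have hbij : Function.Bijective f := hfinj.bijective_of_nat_card_le (by rw [Nat.card_fin]; exact hle)
  obtain ⟨j, hj⟩ := hbij.2 (QuotientGroup.mk (⟨g, hg⟩ : ↥K))
  have h2 : (⟨rE j.1, rE_mem_K j.2⟩ : ↥K)⁻¹ * ⟨g, hg⟩ ∈ S2K := QuotientGroup.eq.1 hj
  rw [Subgroup.mem_subgroupOf] at h2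
  exact ⟨j.1, j.2, h2⟩

/-! ### the Sylow 2-subgroup is its own normaliser -/

theorem norm_S2 : ∀ g ∈ Subgroup.normalizer ((S2 : Subgroup ↥P) : Set ↥P), g ∈ S2 := by
  intro g hg
  have hgi : g⁻¹ ∈ Subgroup.normalizer ((S2 : Subgroup ↥P) : Set ↥P) := inv_mem hg
  -- `g` centralises `z1`
  have hz : g * z1 * g⁻¹ = z1 := by
    have h1 : g * z1 * g⁻¹ ∈ S2 := (Subgroup.mem_normalizer_iff.1 hg z1).1 z1_mem
    have h2 : ∀ s ∈ S2, g * z1 * g⁻¹ * s = s * (g * z1 * g⁻¹) := by
      intro s hs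
      have hs' : g⁻¹ * s * g⁻¹⁻¹ ∈ S2 := (Subgroup.mem_normalizer_iff.1 hgi s).1 hs
      have hc := comm_z1 hs'
      rw [inv_inv] at hc
      calc g * z1 * g⁻¹ * s = g * (z1 * (g⁻¹ * s * g)) * g⁻¹ := by group
        _ = g * (g⁻¹ * s * g * z1) * g⁻¹ := by rw [hc]
        _ = s * (g * z1 * g⁻¹) := by group
    rcases center_S2 _ h1 h2 with h3 | h3
    · exfalso
      apply z1_ne
      have : z1 = g⁻¹ * (g * z1 * g⁻¹) * g := by group
      rw [this, h3]
      group
    · exact h3
  have hcz : g * z1 = z1 * g := by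
    calc g * z1 = g * z1 * g⁻¹ * g := by group
      _ = z1 * g := by rw [hz]
  -- `g` fixes the point 60
  have hfix : g.1 p60 = p60 := by
    apply uniq_fix
    intro s hs
    have hs' : g⁻¹ * s * g⁻¹⁻¹ ∈ S2 := (Subgroup.mem_normalizer_iff.1 hgi s).1 (gS_mem hs)
    have h1 := fix_p60 hs'
    rw [inv_inv] at h1
    simp only [Subgroup.coe_mul, Subgroup.coe_inv, Equiv.Perm.mul_apply] at h1
    rw [Equiv.Perm.inv_eq_iff_eq] at h1
    exact h1
  obtain ⟨j, hj, hjs⟩ := K_cosets g ⟨hcz, hfix⟩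
  by_cases hj0 : j = 0
  · subst hj0
    rw [rE_zero, inv_one, one_mul] at hjs
    exact hjs
  · exfalso
    apply rE_not_norm hj hj0
    have hs : ((rE j)⁻¹ * g)⁻¹ ∈ Subgroup.normalizer ((S2 : Subgroup ↥P) : Set ↥P) :=
      Subgroup.le_normalizer (S2.inv_mem hjs)
    have : rE j = g * ((rE j)⁻¹ * g)⁻¹ := by group
    rw [this]
    exact mul_mem hg hs

/-! ### the certificate -/

theorem fact2 : (Nat.card ↥P).factorization 2 = 7 := by
  rw [card_P', Nat.factorization_mul (by norm_num) (by norm_num), Nat.Prime.factorization_pow Nat.prime_two]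
  simp [Nat.factorization_eq_zero_of_not_dvd (show ¬ 2 ∣ 7016625 by norm_num)]

/-- **the certificate for `P`** -/
theorem cert : Cert2 2 S2 := by
  apply cert_of_selfnorm S2 z1 7 (by norm_num) card_S2 fact2 center_S2 invgen ?_ norm_S2
  intro y hy
  obtain ⟨c, hc⟩ := isConj_iff.1 (isConj_z1 y hy)
  refine ⟨c⁻¹, ?_⟩
  rw [← hc]
  group

/-- **the 2-fusion system of a group isomorphic to the McLaughlin group is simple** -/
theorem fusion_simple {G : Type*} [Group G] [Finite G] (hG : Cfsg.Spor.IsoMcL G) (S : Sylow 2 G) :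
    (Cfsg.groupFusionSystem (S : Subgroup G)).IsSimple 2 := by
  obtain ⟨e⟩ := hG
  have : Fact (Nat.Prime 2) := ⟨Nat.prime_two⟩
  have hinj : Function.Injective ((e.trans mclEquiv).symm.toMonoidHom) := (e.trans mclEquiv).symm.injective
  have hsurj : Function.Surjective ((e.trans mclEquiv).symm.toMonoidHom) := (e.trans mclEquiv).symm.surjective
  have hker : ((e.trans mclEquiv).symm.toMonoidHom).ker = ⊥ := (MonoidHom.ker_eq_bot_iff _).2 hinj
  have hc := Cert2.map 2 ((e.trans mclEquiv).symm.toMonoidHom) hsurj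
    (by rw [hker]; exact bot_le) (by rw [hker, Subgroup.card_bot]; exact Nat.coprime_one_left 2) S2 cert
  exact isSimple_of_cert2 2 _ hc S

end Cfsg.Agent.Lib.Helper5.McLFus
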