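import Mathlib
import Cfsg.Agent.H9.GfsSimple3
import Cfsg.Agent.Lib.S4139.N1

/-!
# A certificate for the simplicity of the `2`-fusion system, for a self-normalising Sylow `2`-subgroup

`cert_of_selfnorm`: helper9's certificate `Cert2 2 S0` for a Sylow `2`-subgroup `S0` of a finite group `G` such that
the centre of `S0` is `{1, z}`, every involution of `G` is conjugate to `z`, `S0` is generated by its involutions, and
`S0` is its own normaliser.
-/

set_option autoImplicit false

namespace Cfsg.Agent.Lib.Helper5.McLFus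

open Cfsg.Agent.H9.GfsSimple3

variable {G : Type*} [Group G]

/-- a finite subgroup is centric in itself -/
theorem centricIn_self [Finite G] (S0 : Subgroup G) : CentricIn S0 S0 := by
  refine ⟨le_rfl, ?_⟩
  intro g hg y hy _
  -- conjugation by `g` is an injective map of the finite set `S0` into itself
  let f : ↥S0 → ↥S0 := fun x => ⟨g * x.1 * g⁻¹, hg x.1 x.2⟩
  have hinj : Function.Injective f := by
    intro a b hab
    have h1 : g * a.1 * g⁻¹ = g * b.1 * g⁻¹ := congrArg Subtype.val hab
    apply Subtype.ext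
    have h2 := congrArg (fun t => g⁻¹ * t * g) h1
    simpa [mul_assoc] using h2
  have hsurj : Function.Surjective f := Finite.injective_iff_surjective.1 hinj
  obtain ⟨x, hx⟩ := hsurj ⟨y, hy⟩
  exact ⟨x.1, x.2, (congrArg Subtype.val hx).symm⟩

/-- **the certificate**, for a self-normalising Sylow 2-subgroup generated by involutions, all involutions of the group
being conjugate -/
theorem cert_of_selfnorm [Finite G] (S0 : Subgroup G) (z : G) (m : ℕ) (hm : 0 < m)
    (hcardS : Nat.card S0 = 2 ^ m) (hfact : (Nat.card G).factorization 2 = m)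
    (hcen : ∀ x ∈ S0, (∀ s ∈ S0, x * s = s * x) → x = 1 ∨ x = z)
    (hinvgen : ∀ T : Subgroup G, (∀ y ∈ S0, orderOf y = 2 → y ∈ T) → S0 ≤ T)
    (hconj : ∀ y : G, orderOf y = 2 → ∃ g : G, y = g * z * g⁻¹)
    (hnorm : ∀ g ∈ Subgroup.normalizer (S0 : Set G), g ∈ S0) :
    Cert2 2 S0 := by
  have : Fact (Nat.Prime 2) := ⟨Nat.prime_two⟩
  have hp : IsPGroup 2 ↥S0 := IsPGroup.of_card (n := m) hcardS
  refine ⟨?_, ?_, ?_, ?_⟩
  · rw [hfact, hcardS]
  · intro h
    rw [h, Subgroup.card_bot] at hcardS
    have : 2 ≤ 2 ^ m := by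
      calc 2 = 2 ^ 1 := by norm_num
        _ ≤ 2 ^ m := Nat.pow_le_pow_right (by norm_num) hm
    omega
  · -- strongly closed subgroups
    intro T hTS hT
    by_cases hbot : T = ⊥
    · exact Or.inl hbot
    right
    have hz : z ∈ T := by
      have hnil : Group.IsNilpotent ↥S0 := hp.isNilpotent
      have hTn : (T.subgroupOf S0).Normal := by
        constructor
        intro n hn g
        rw [Subgroup.mem_subgroupOf] at hn ⊢
        have e : ((g * n * g⁻¹ : ↥S0) : G) = (g : G) * (n : G) * (g : G)⁻¹ := by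
          simp
        rw [e]
        apply hT _ hn
        exact mul_mem (mul_mem g.2 n.2) (inv_mem g.2)
      have hT' : T.subgroupOf S0 ≠ ⊥ := by
        intro h
        apply hbot
        rw [eq_bot_iff]
        intro x hx
        have hmem : (⟨x, hTS hx⟩ : ↥S0) ∈ T.subgroupOf S0 := by
          rw [Subgroup.mem_subgroupOf]; exact hx
        rw [h, Subgroup.mem_bot] at hmem
        rw [Subgroup.mem_bot]
        exact congrArg Subtype.val hmem
      have hne := Cfsg.Agent.S4139L.N1_inf_center_ne_bot hnil (T.subgroupOf S0) hT'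
      obtain ⟨x, hx1⟩ := (Subgroup.ne_bot_iff_exists_ne_one).1 hne
      obtain ⟨hxT, hxZ⟩ := Subgroup.mem_inf.1 x.2
      rw [Subgroup.mem_subgroupOf] at hxT
      rw [Subgroup.mem_center_iff] at hxZ
      have hcomm : ∀ s ∈ S0, ((x : ↥S0) : G) * s = s * ((x : ↥S0) : G) := by
        intro s hs
        have := hxZ ⟨s, hs⟩
        exact (congrArg Subtype.val this).symm
      rcases hcen _ (x : ↥S0).2 hcomm with h1 | h1
      · exfalso
        apply hx1
        apply Subtype.ext
        apply Subtype.ext
        exact h1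
      · rw [← h1]; exact hxT
    apply le_antisymm hTS
    apply hinvgen
    intro y hy hy2
    obtain ⟨g, hg⟩ := hconj y hy2
    rw [hg]
    apply hT _ hz
    rw [← hg]
    exact hy
  · -- the normaliser of the Sylow subgroup
    intro g hg
    refine ⟨g, ?_, fun x _ => rfl⟩
    apply Subgroup.subset_closure
    refine ⟨hg, S0, centricIn_self S0, ?_⟩
    apply Subgroup.subset_closure
    refine ⟨hg, ?_⟩
    have hgS : g ∈ S0 := hnorm g hg
    obtain ⟨k, hk⟩ := (IsPGroup.iff_orderOf.1 hp) ⟨g, hgS⟩
    refine ⟨k, ?_⟩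
    rw [← hk]
    exact (Subgroup.orderOf_mk g hgS).symm

end Cfsg.Agent.Lib.Helper5.McLFus
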