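import Mathlib

/-! Data for the 2-fusion system of the McLaughlin group on 275 points (generated by a script): the generators of lead's
Sylow 2-subgroup as products of involutions of it, a transversal of the stabiliser of the point 60 in the centraliser of
the involution `z1`, and representatives of the nine cosets of the Sylow 2-subgroup in that stabiliser. -/

set_option autoImplicit false

namespace Cfsg.Agent.Lib.Helper5.McLFus

/-- the four generators of the Sylow 2-subgroup as products of involutions (positions in the list of its elements) -/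
def decompI : List (List ℕ) := [[104, 55], [46, 28], [104, 4, 3], [127]]

/-- the program from `[b⁻¹, b, a⁻¹, a]` (the registers are counted from the newest) -/
def progF : List (ℕ × ℕ) := [(3, 2), (2, 3), (3, 0), (0, 2), (4, 1), (1, 7), (6, 6), (1, 8), (9, 8), (4, 10), (5, 3), (5, 14), (0, 7), (2, 3), (17, 0), (11, 0), (6, 7), (20, 4), (14, 10), (9, 0), (15, 1), (5, 2), (5, 2), (7, 1), (0, 1), (5, 28), (1, 6), (0, 5), (8, 4), (2, 11), (0, 4), (10, 2), (4, 0), (0, 13), (0, 3), (8, 5), (5, 15), (2, 0), (11, 0), (4, 18), (2, 4), (0, 6), (3, 6), (1, 15), (1, 0), (3, 0), (11, 6), (50, 48), (48, 50), (50, 50), (51, 2), (2, 51), (55, 2), (46, 55), (55, 4), (48, 55), (59, 5), (5, 59), (59, 7), (7, 59), (61, 7), (7, 61), (63, 7), (7, 63), (67, 7), (7, 67), (69, 7), (7, 69), (71, 7), (7, 71), (73, 7), (7, 73), (75, 7), (7, 75), (75, 7), (7, 75), (79, 7), (7, 79), (79, 7), (7, 79), (81, 7), (7, 81), (85, 7), (7, 85), (85, 7), (7, 85), (87, 7), (7, 87), (91, 7), (7, 91),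 (93, 7), (7, 93), (95, 7), (7, 95), (97, 7), (7, 97), (99, 7), (7, 99), (101, 7), (7, 101), (101, 7), (7, 101), (105, 7), (7, 105), (107, 7), (7, 107), (109, 7), (7, 109), (109, 5), (5, 109), (113, 3), (3, 113), (115, 1), (1, 115), (4, 1), (1, 6), (119, 11), (11, 119), (16, 1), (1, 18), (5, 5), (5, 5), (3, 7), (7, 3), (9, 5), (5, 9), (7, 5), (5, 7), (9, 5), (5, 9), (11, 5), (5, 11), (17, 5), (5, 17), (15, 5), (5, 15), (17, 5), (5, 17), (19, 5), (5, 19), (25, 5), (5, 25), (23, 7), (7, 23), (29, 7), (7, 29), (27, 7), (7, 27), (29, 7), (7, 29), (31, 7), (7, 31), (37, 7), (7, 37), (39, 7), (7, 39), (37, 7), (7, 37), (39, 7), (7, 39), (41, 7), (7, 41), (47, 1), (1, 47), (6, 1), (1, 8), (51, 11), (11, 51), (8, 1), (1, 10), (1, 5), (5, 1), (7, 3), (3, 7), (9, 3), (3, 9), (7, 5), (5, 7), (13, 5), (5, 13), (11, 7), (7, 11), (17, 7), (7, 17), (15, 7), (7, 15), (17, 7), (7, 17), (19, 7), (7, 19), (25, 5), (5, 25), (23, 3), (3, 23), (10, 1), (1, 12), (27, 9), (9, 27), (6,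 1), (1, 8), (1, 5), (5, 1), (3, 3), (3, 3), (9, 3), (3, 9), (2, 10), (8, 4), (9, 3), (3, 9), (3, 14), (16, 3), (2, 16), (2, 17), (19, 2), (16, 6), (3, 0), (18, 2), (4, 0), (2, 0), (173, 180), (0, 0), (1, 0), (1, 1), (0, 0), (2, 0), (6, 0), (7, 6), (1, 0), (0, 0), (1, 0), (185, 184), (0, 0), (0, 0), (2, 0), (15, 0), (16, 4), (1, 0), (0, 0), (7, 0), (0, 0), (1, 0), (1, 1), (0, 0), (2, 0), (5, 14), (1, 15), (16, 7), (8, 8), (18, 4), (5, 5), (20, 5), (12, 6), (8, 6), (14, 6), (10, 7), (16, 7), (17, 7), (13, 8), (28, 8), (20, 8), (16, 9), (31, 9), (23, 10), (24, 9), (20, 9), (35, 8), (27, 9), (37, 9), (24, 10), (25, 10), (40, 10), (32, 5), (33, 5), (43, 0), (35, 0), (45, 45), (37, 37), (47, 0), (39, 0), (40, 0), (41, 0), (42, 0), (52, 43), (44, 0), (54, 0), (46, 0), (47, 0), (48, 0), (58, 0), (59, 3), (51, 0), (52, 0), (62, 0), (63, 6), (55, 0), (65, 0), (57, 66), (58, 0), (68, 0), (60, 0), (70, 0), (62, 0), (72, 0), (64, 0), (65, 0), (75, 14), (67, 0), (77, 0),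 (69, 24), (79, 0), (71, 0), (81, 0), (73, 0), (74, 0), (84, 0), (76, 0), (86, 0), (78, 0), (88, 21), (80, 0), (90, 0), (82, 0), (83, 0), (84, 0), (94, 0), (86, 0), (87, 0), (88, 0), (89, 0), (90, 0)]

/-- the registers of 35 elements of the centraliser of `z1` with different images of the point 60 -/
def idxT : List ℕ := [54, 100, 91, 86, 85, 84, 83, 82, 81, 80, 79, 78, 77, 76, 75, 74, 73, 72, 71, 70, 69, 68, 67, 66, 65, 64, 63, 62, 61, 60, 59, 58, 57, 56, 55]

/-- the registers of the representatives of the nine cosets (the first is the identity) -/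
def idxR : List ℕ := [54, 48, 41, 37, 34, 25, 22, 12, 0]

end Cfsg.Agent.Lib.Helper5.McLFus
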