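import Cfsg.Agent.Lib.Helper5.McLMultBase
import Cfsg.Agent.Lib.Helper8.McLCentChk

/-!
# The centraliser of the base involution of `McL` is perfect

`tz` is the involution of the group `P` of permutations of 275 points with the code `cz`.  Helper8's certificates
(`McLCentChk`) give two elements `c1, c2` of `P` commuting with `tz`, a chain of partial transversals showing that they
generate a group of order at least 40320 and a tight chain of `P` showing that the centraliser has order at most 40320;
so `c1, c2` generate the centraliser.  Each of them is the commutator of two explicit words in `c1, c2`.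
-/

set_option autoImplicit false
set_option maxRecDepth 100000

namespace Cfsg.Agent.Lib.Helper5.McLMult

open scoped commutatorElement

open Cfsg.Agent.PG Cfsg.Agent.McLP
open Cfsg.Agent.Lib.Helper8.McLCent (idxC cc1 cc2 cc1i cc2i chk_cs chk_comm chk_chainH chk_prodH chk_chainT
  chk_prodT chainHProg chainHBase chainHIdx chainTProg chainTBase chainTIdx)
open Cfsg.Agent.Lib.Helper5.J3Mult (Cz)
open Cfsg.Agent.Lib.Helper5.J3Fus (strictN strictN_eq)

/-- the element of a register of a program from the base registers -/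
noncomputable def regP (prog : List (ℕ × ℕ)) (i : ℕ) : ↥P := (runM prog baseR).getD i 1

theorem enc_regP (prog : List (ℕ × ℕ)) (i : ℕ) :
    enc 275 (regP prog i).1 = (run 275 prog [cbi, cb, cai, ca]).getD i (pone 275) :=
  (baseR_ok.run n_le (is := prog)).getD i

theorem good_cc : Good cc1 ∧ Good cc2 ∧ Good cc1i ∧ Good cc2i := by
  have h := chk_cs
  rw [runK_eq] at h
  have e : idxC = [idxC.getD 0 0, idxC.getD 1 0, idxC.getD 2 0, idxC.getD 3 0] := by decide
  rw [e] at h
  simp only [List.map_cons, List.map_nil, List.cons.injEq, and_true] at h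
  obtain ⟨h0, h1, h2, h3⟩ := h
  exact ⟨h0 ▸ good_run Cfsg.Agent.Lib.Helper8.McLCent.slpC _, h1 ▸ good_run Cfsg.Agent.Lib.Helper8.McLCent.slpC _,
    h2 ▸ good_run Cfsg.Agent.Lib.Helper8.McLCent.slpC _, h3 ▸ good_run Cfsg.Agent.Lib.Helper8.McLCent.slpC _⟩

/-- the two generators of the centraliser -/
noncomputable def c1 : ↥P := el cc1
noncomputable def c2 : ↥P := el cc2

theorem enc_c1 : enc 275 c1.1 = cc1 := enc_el good_cc.1
theorem enc_c2 : enc 275 c2.1 = cc2 := enc_el good_cc.2.1
theorem enc_tz : enc 275 tz.1 = cz := enc_el good_cz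

theorem el_cc1i : el cc1i = c1⁻¹ := by
  apply eq_inv_of_mul_eq_one_right
  unfold c1
  rw [← el_pmul good_cc.1 good_cc.2.2.1, chk_comm.2.2.1, el_pone]

theorem el_cc2i : el cc2i = c2⁻¹ := by
  apply eq_inv_of_mul_eq_one_right
  unfold c2
  rw [← el_pmul good_cc.2.1 good_cc.2.2.2, chk_comm.2.2.2, el_pone]

theorem enc_c1i : enc 275 (c1⁻¹).1 = cc1i := by rw [← el_cc1i]; exact enc_el good_cc.2.2.1
theorem enc_c2i : enc 275 (c2⁻¹).1 = cc2i := by rw [← el_cc2i]; exact enc_el good_cc.2.2.2

theorem c1_comm : c1 * tz = tz * c1 := by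
  unfold c1 tz
  rw [← el_pmul good_cc.1 good_cz, ← el_pmul good_cz good_cc.1, chk_comm.1]

theorem c2_comm : c2 * tz = tz * c2 := by
  unfold c2 tz
  rw [← el_pmul good_cc.2.1 good_cz, ← el_pmul good_cz good_cc.2.1, chk_comm.2.1]

/-! ### the centraliser -/

/-- the group generated by `c1` and `c2` -/
noncomputable def HC : Subgroup (Equiv.Perm (Fin 275)) := Subgroup.closure {c1.1, c2.1}

theorem HC_le : HC ≤ P := by
  rw [HC, Subgroup.closure_le]
  intro g hg
  rcases hg with rfl | rfl
  · exact c1.2
  · exact c2.2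

theorem HC_le_cent : HC ≤ Subgroup.centralizer {tz.1} := by
  rw [HC, Subgroup.closure_le]
  intro g hg
  rw [SetLike.mem_coe, Subgroup.mem_centralizer_iff]
  intro h hh
  rw [Set.mem_singleton_iff] at hh
  subst hh
  rcases hg with rfl | rfl
  · exact (congrArg Subtype.val c1_comm).symm
  · exact (congrArg Subtype.val c2_comm).symm

theorem c1_memH : c1.1 ∈ HC := Subgroup.subset_closure (Set.mem_insert _ _)
theorem c2_memH : c2.1 ∈ HC := Subgroup.subset_closure (Set.mem_insert_of_mem _ rfl)

/-- the generators, in the group `HC` -/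
noncomputable def c1H : ↥HC := ⟨c1.1, c1_memH⟩
noncomputable def c2H : ↥HC := ⟨c2.1, c2_memH⟩

/-- the base registers of `HC` -/
noncomputable def baseH : List ↥HC := [c2H⁻¹, c2H, c1H⁻¹, c1H]

theorem baseH_ok : RegsOK HC baseH [cc2i, cc2, cc1i, cc1] :=
  List.Forall₂.cons enc_c2i (List.Forall₂.cons enc_c2 (List.Forall₂.cons enc_c1i
    (List.Forall₂.cons enc_c1 List.Forall₂.nil)))

/-- the element of a register of a program from the base registers of `HC` -/
noncomputable def regH (prog : List (ℕ × ℕ)) (i : ℕ) : ↥HC := (runM prog baseH).getD i 1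

theorem enc_regH (prog : List (ℕ × ℕ)) (i : ℕ) :
    enc 275 (regH prog i).1 = (run 275 prog [cc2i, cc2, cc1i, cc1]).getD i (pone 275) :=
  (baseH_ok.run n_le (is := prog)).getD i

/-- the lower bound from the chain -/
theorem card_HC_ge : 40320 ≤ Nat.card HC := by
  have hchk := chk_chainH
  rw [runK_eq] at hchk
  have := chain_sound n_le HC chainHBase [] _ hchk (by
    intro U hU c hc
    rw [List.mem_map] at hU
    obtain ⟨l, -, rfl⟩ := hU
    rw [List.mem_map] at hc
    obtain ⟨i, -, rfl⟩ := hc
    exact ⟨(regH chainHProg i).1, (regH chainHProg i).2, enc_regH chainHProg i⟩)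
  rw [fixer_nil] at this
  refine le_trans (le_of_eq ?_) this
  rw [List.map_map]
  have e : (List.length ∘ fun l : List ℕ =>
      l.map fun i => (run 275 chainHProg [cc2i, cc2, cc1i, cc1]).getD i (pone 275)) = List.length := by
    funext l
    simp
  rw [e, chk_prodH]

/-- the upper bound from the tight chain -/
theorem card_cent_le : Nat.card ↥(P ⊓ Subgroup.centralizer {tz.1}) ≤ 40320 := by
  have hchk := chk_chainT
  rw [runK_eq] at hchk
  have hlen : ((chainTIdx.map fun l : List ℕ =>
      l.map fun i => (run 275 chainTProg [cbi, cb, cai, ca]).getD i (pone 275)).map List.length).prod =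
      898128000 := by
    rw [List.map_map]
    have e : (List.length ∘ fun l : List ℕ =>
        l.map fun i => (run 275 chainTProg [cbi, cb, cai, ca]).getD i (pone 275)) = List.length := by
      funext l
      simp
    rw [e, chk_prodT]
  have hmem : ∀ U ∈ (chainTIdx.map fun l : List ℕ =>
      l.map fun i => (run 275 chainTProg [cbi, cb, cai, ca]).getD i (pone 275)), ∀ c ∈ U,
      ∃ g ∈ P, enc 275 g = c := by
    intro U hU c hc
    rw [List.mem_map] at hU
    obtain ⟨l, -, rfl⟩ := hU
    rw [List.mem_map] at hc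
    obtain ⟨i, -, rfl⟩ := hc
    exact ⟨(regP chainTProg i).1, (regP chainTProg i).2, enc_regP chainTProg i⟩
  generalize (chainTIdx.map fun l : List ℕ =>
      l.map fun i => (run 275 chainTProg [cbi, cb, cai, ca]).getD i (pone 275)) = Us at hchk hlen hmem
  rw [Bool.and_eq_true] at hchk
  obtain ⟨h1, h2⟩ := hchk
  have h3 := card_centralizer_le n_le P tz.1 chainTBase [] Us h1 hmem (by rw [fixer_nil, hlen, card_P])
  rw [fixer_nil, enc_tz] at h3
  have h4 : centBound cz chainTBase Us ≤ 40320 := Nat.le_of_ble_eq_true h2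
  exact le_trans h3 h4

theorem HC_eq : HC = P ⊓ Subgroup.centralizer {tz.1} := by
  apply Subgroup.eq_of_le_of_card_ge (le_inf HC_le HC_le_cent)
  exact le_trans card_cent_le card_HC_ge

/-- an element of `P` commuting with `tz` lies in `HC` -/
theorem mem_HC_of_comm (y : ↥P) (hy : y * tz = tz * y) : y.1 ∈ HC := by
  rw [HC_eq]
  refine Subgroup.mem_inf.2 ⟨y.2, Subgroup.mem_centralizer_iff.2 ?_⟩
  intro h hh
  rw [Set.mem_singleton_iff] at hh
  subst hh
  exact (congrArg Subtype.val hy).symm

/-! ### the generators are commutators -/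

/-- the words whose commutators are `c1` and `c2` -/
def wV1 : List ℕ := [3, 0, 1, 0, 3, 0, 1]
def wW1 : List ℕ := [1, 0, 3, 0, 1, 0, 3]
def wV2 : List ℕ := [3, 3, 0, 1, 0, 3, 0, 1, 1, 0, 3, 0, 3]
def wW2 : List ℕ := [0, 3, 3, 0, 3, 0, 3, 0]

/-- the codes of the letters `c1, c2, c1⁻¹, c2⁻¹` -/
def letKc : ℕ → ℕ
  | 0 => cc1
  | 1 => cc2
  | 2 => cc1i
  | 3 => cc2i
  | _ => pone 275

/-- the product of the codes of the letters of a word -/
noncomputable def wordK (w : List ℕ) : ℕ :=
  List.rec (motive := fun _ => ℕ) (pone 275)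
    (fun l _ ih => strictN ih fun v => pmul 275 (letKc l) v) w

theorem wordK_nil : wordK [] = pone 275 := rfl

theorem wordK_cons (l : ℕ) (w : List ℕ) : wordK (l :: w) = pmul 275 (letKc l) (wordK w) := by
  show strictN (wordK w) (fun v => pmul 275 (letKc l) v) = _
  rw [strictN_eq]

/-- the commutator of two codes -/
noncomputable def commK (v w : ℕ) : ℕ := pmul 275 (pmul 275 (pmul 275 v w) (pinv 275 v)) (pinv 275 w)

theorem chk_perf : Nat.beq (commK (wordK wV1) (wordK wW1)) cc1 = true ∧
    Nat.beq (commK (wordK wV2) (wordK wW2)) cc2 = true := by decide +kernel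

/-- the letters -/
noncomputable def letK : ℕ → ↥P
  | 0 => c1
  | 1 => c2
  | 2 => c1⁻¹
  | 3 => c2⁻¹
  | _ => 1

theorem enc_one_P : enc 275 ((1 : ↥P) : Equiv.Perm (Fin 275)) = pone 275 := by
  rw [pone_eq]; rfl

theorem enc_letK : ∀ l : ℕ, enc 275 (letK l).1 = letKc l
  | 0 => by simp only [letK, letKc]; exact enc_c1
  | 1 => by simp only [letK, letKc]; exact enc_c2
  | 2 => by simp only [letK, letKc]; exact enc_c1i
  | 3 => by simp only [letK, letKc]; exact enc_c2i
  | (l + 4) => by simp only [letK, letKc]; exact enc_one_P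

theorem inv_comm {x : ↥P} (h : x * tz = tz * x) : x⁻¹ * tz = tz * x⁻¹ := by
  rw [inv_mul_eq_iff_eq_mul, ← mul_assoc, h, mul_assoc, mul_inv_cancel, mul_one]

theorem letK_comm : ∀ l : ℕ, letK l * tz = tz * letK l
  | 0 => by simp only [letK]; exact c1_comm
  | 1 => by simp only [letK]; exact c2_comm
  | 2 => by simp only [letK]; exact inv_comm c1_comm
  | 3 => by simp only [letK]; exact inv_comm c2_comm
  | (l + 4) => by simp only [letK]; rw [one_mul, mul_one]

theorem enc_evalK : ∀ w : List ℕ, enc 275 ((w.map letK).prod).1 = wordK w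
  | [] => by
    rw [List.map_nil, List.prod_nil, wordK_nil]; exact enc_one_P
  | l :: w => by
    rw [List.map_cons, List.prod_cons, Subgroup.coe_mul, ← pmul_enc n_le, enc_letK, enc_evalK w, wordK_cons]

/-- the letters in the centraliser -/
noncomputable def letC (l : ℕ) : ↥(Cz tz) :=
  ⟨letK l, Subgroup.mem_centralizer_singleton_iff.2 (letK_comm l)⟩

theorem coe_letC (l : ℕ) : ((letC l : ↥(Cz tz)) : ↥P) = letK l := rfl

theorem coe_prod_letC (w : List ℕ) : (((w.map letC).prod : ↥(Cz tz)) : ↥P) = (w.map letK).prod := by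
  induction w with
  | nil => rfl
  | cons l w ih => rw [List.map_cons, List.prod_cons, Subgroup.coe_mul, ih, List.map_cons, List.prod_cons, coe_letC]

theorem letK_zero : letK 0 = c1 := by simp only [letK]
theorem letK_one : letK 1 = c2 := by simp only [letK]

theorem enc_inv_P (x : ↥P) : enc 275 (x⁻¹).1 = pinv 275 (enc 275 x.1) := by
  rw [Subgroup.coe_inv]
  exact (pinv_enc n_le x.1).symm

/-- a letter is a commutator in the centraliser as soon as the codes say so -/
theorem letC_mem_commutator (l : ℕ) (v w : List ℕ)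
    (h : Nat.beq (commK (wordK v) (wordK w)) (letKc l) = true) : letC l ∈ commutator ↥(Cz tz) := by
  set x : ↥(Cz tz) := (v.map letC).prod with hx
  set y : ↥(Cz tz) := (w.map letC).prod with hy
  have hx' : enc 275 ((x : ↥P)).1 = wordK v := by rw [hx, coe_prod_letC, enc_evalK]
  have hy' : enc 275 ((y : ↥P)).1 = wordK w := by rw [hy, coe_prod_letC, enc_evalK]
  have e : letC l = ⁅x, y⁆ := by
    apply Subtype.ext
    rw [commutatorElement_def, Subgroup.coe_mul, Subgroup.coe_mul, Subgroup.coe_mul, Subgroup.coe_inv,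
      Subgroup.coe_inv, coe_letC]
    apply Subtype.ext
    apply enc_injective n_le
    rw [Subgroup.coe_mul, Subgroup.coe_mul, Subgroup.coe_mul, ← pmul_enc n_le, ← pmul_enc n_le,
      ← pmul_enc n_le, enc_inv_P (x : ↥P), enc_inv_P (y : ↥P), hx', hy', enc_letK]
    exact (Nat.eq_of_beq_eq_true h).symm
  rw [e]
  exact Subgroup.commutator_mem_commutator (Subgroup.mem_top _) (Subgroup.mem_top _)

theorem c1_mem_commutator : letC 0 ∈ commutator ↥(Cz tz) := letC_mem_commutator 0 wV1 wW1 chk_perf.1
theorem c2_mem_commutator : letC 1 ∈ commutator ↥(Cz tz) := letC_mem_commutator 1 wV2 wW2 chk_perf.2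

/-- **the centraliser of `tz` is perfect** -/
theorem perfect_Cz_tz : commutator ↥(Cz tz) = ⊤ := by
  rw [Subgroup.eq_top_iff']
  have key : ∀ p ∈ HC, ∀ (hp : p ∈ P) (hc : (⟨p, hp⟩ : ↥P) ∈ Cz tz),
      (⟨⟨p, hp⟩, hc⟩ : ↥(Cz tz)) ∈ commutator ↥(Cz tz) := by
    intro p hpH
    unfold HC at hpH
    induction hpH using Subgroup.closure_induction with
    | mem p hp' =>
      intro hp hc
      rcases hp' with rfl | hp'
      · have e : (⟨⟨c1.1, hp⟩, hc⟩ : ↥(Cz tz)) = letC 0 :=
          Subtype.ext (Subtype.ext (by rw [coe_letC, letK_zero]))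
        rw [e]
        exact c1_mem_commutator
      · rw [Set.mem_singleton_iff] at hp'
        subst hp'
        have e : (⟨⟨c2.1, hp⟩, hc⟩ : ↥(Cz tz)) = letC 1 :=
          Subtype.ext (Subtype.ext (by rw [coe_letC, letK_one]))
        rw [e]
        exact c2_mem_commutator
    | one =>
      intro hp hc
      exact Subgroup.one_mem _
    | mul a b ha hb iha ihb =>
      intro hp hc
      have haP : a ∈ P := HC_le ha
      have hbP : b ∈ P := HC_le hb
      have hac : (⟨a, haP⟩ : ↥P) ∈ Cz tz := by
        rw [Subgroup.mem_centralizer_singleton_iff]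
        apply Subtype.ext
        have := HC_le_cent ha
        rw [Subgroup.mem_centralizer_singleton_iff] at this
        exact this
      have hbc : (⟨b, hbP⟩ : ↥P) ∈ Cz tz := by
        rw [Subgroup.mem_centralizer_singleton_iff]
        apply Subtype.ext
        have := HC_le_cent hb
        rw [Subgroup.mem_centralizer_singleton_iff] at this
        exact this
      exact Subgroup.mul_mem _ (iha haP hac) (ihb hbP hbc)
    | inv a ha iha =>
      intro hp hc
      have haP : a ∈ P := HC_le ha
      have hac : (⟨a, haP⟩ : ↥P) ∈ Cz tz := by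
        rw [Subgroup.mem_centralizer_singleton_iff]
        apply Subtype.ext
        have := HC_le_cent ha
        rw [Subgroup.mem_centralizer_singleton_iff] at this
        exact this
      exact Subgroup.inv_mem _ (iha haP hac)
  rintro ⟨⟨p, hp⟩, hc⟩
  have hcomm : (⟨p, hp⟩ : ↥P) * tz = tz * ⟨p, hp⟩ := by
    rw [Subgroup.mem_centralizer_singleton_iff] at hc
    exact hc
  exact key p (mem_HC_of_comm ⟨p, hp⟩ hcomm) hp hc

end Cfsg.Agent.Lib.Helper5.McLMult
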