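import Cfsg.Agent.Lib.Helper5.McLMultD
import Cfsg.Agent.Lib.Helper5.McLMultP
import Cfsg.Agent.Lib.Helper5.McLCov
import Cfsg.Agent.Lib.Helper5.J3MultE

/-!
# The Schur multiplier of the McLaughlin group is cyclic of order three

The cover `D → P` of `McLCov` is a stem extension with kernel of order `3`, and every finite stem extension of the group
`P` of permutations of 275 points has at most `3 |P| = |D|` elements (`card_stem_le`, the centraliser of the base
involution being perfect by `McLMultP`); hence the kernel of every finite stem extension is a quotient of the kernel of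
`D → P`.  Everything is transported to `McL` along lead's isomorphism `mclEquiv`.
-/

set_option autoImplicit false

namespace Cfsg.Agent.Lib.Helper5.McLMult

open Cfsg Cfsg.Agent.PG Cfsg.Agent.McLP
open Cfsg.Agent.Lib.Helper5.J3Mult (exists_ker_surjective Cz)
open Cfsg.Agent.Lib.Helper5.McLCov (D πD stem_πD card_D ker_πD finite_D)

theorem perfect_of_surj {A B : Type*} [Group A] [Group B] (f : A →* B)
    (hf : Function.Surjective f) (hA : commutator A = ⊤) : commutator B = ⊤ := by
  have h1 : Subgroup.map f (commutator A) = commutator B := by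
    rw [commutator_def, commutator_def, Subgroup.map_commutator, ← MonoidHom.range_eq_map,
      MonoidHom.range_eq_top.2 hf]
  rw [← h1, hA, ← MonoidHom.range_eq_map, MonoidHom.range_eq_top.2 hf]

/-- **`P` is perfect**: the base involution lies in the commutator subgroup of its perfect centraliser, and its
conjugates generate `P` -/
theorem perfect_P : commutator ↥P = ⊤ := by
  have h1 : ⁅Cz tz, Cz tz⁆ ≤ commutator ↥P := by
    rw [commutator_def]
    exact Subgroup.commutator_mono le_top le_top
  rw [← Subgroup.map_subtype_commutator, perfect_Cz_tz, ← MonoidHom.range_eq_map, Subgroup.range_subtype] at h1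
  have htz : tz ∈ commutator ↥P := h1 (Subgroup.mem_centralizer_singleton_iff.2 rfl)
  rw [eq_top_iff, ← closure_tGU, Subgroup.closure_le]
  rintro _ ⟨i, -, rfl⟩
  obtain ⟨g, hg⟩ := tG_conj chk_gwU i
  rw [SetLike.mem_coe, hg]
  exact (inferInstance : (commutator ↥P).Normal).conj_mem _ htz g

theorem stem_comp_equiv {Γ G H : Type*} [Group Γ] [Group G] [Group H] (e : G ≃* H) {σ : Γ →* G}
    (hσ : IsStemExtension σ) : IsStemExtension (e.toMonoidHom.comp σ) ∧ (e.toMonoidHom.comp σ).ker = σ.ker := by
  have hk : (e.toMonoidHom.comp σ).ker = σ.ker := by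
    ext x
    rw [MonoidHom.mem_ker, MonoidHom.mem_ker, MonoidHom.comp_apply]
    exact e.map_eq_one_iff
  refine ⟨⟨e.surjective.comp hσ.1, ?_, ?_⟩, hk⟩
  · rw [hk]; exact hσ.2.1
  · rw [hk]; exact hσ.2.2

/-- **the Schur multiplier of `McL` is cyclic of order three** -/
theorem multiplier_McL : HasCyclicSchurMultiplier ↥Cfsg.Spor.McL 3 := by
  have hfinD : Finite ↥D := finite_D
  have : Fact (Nat.Prime 3) := ⟨by norm_num⟩
  obtain ⟨hπ, hk⟩ := stem_comp_equiv mclEquiv.symm stem_πD
  set π : ↥D →* ↥Cfsg.Spor.McL := mclEquiv.symm.toMonoidHom.comp πD with hπdef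
  have hk3 : Nat.card ↥π.ker = 3 := by rw [hk]; exact ker_πD.2
  have hz3 : Nat.card (Multiplicative (ZMod 3)) = 3 := by
    rw [Nat.card_eq_fintype_card, Fintype.card_multiplicative, ZMod.card]
  have e : Multiplicative (ZMod 3) ≃* ↥π.ker := mulEquivOfPrimeCardEq hz3 hk3
  have hperf : commutator ↥Cfsg.Spor.McL = ⊤ :=
    perfect_of_surj mclEquiv.symm.toMonoidHom mclEquiv.symm.surjective perfect_P
  refine ⟨⟨↥D, inferInstance, hfinD, π, hπ, ⟨e.symm⟩⟩, ?_⟩
  intro E _ _ σ hσ
  obtain ⟨f, hf⟩ := exists_ker_surjective π hπ σ hσ hperf (fun D' _ _ ρ hρ => by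
    rw [card_D]
    obtain ⟨hρ', -⟩ := stem_comp_equiv mclEquiv hρ
    exact card_stem_le perfect_Cz_tz _ hρ'.1 hρ'.2.1 hρ'.2.2)
  exact ⟨f.comp e.toMonoidHom, hf.comp e.surjective⟩

end Cfsg.Agent.Lib.Helper5.McLMult
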