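import Cfsg.Agent.Lib.Helper5.J3MultA
import Cfsg.Agent.Lib.Helper5.J3MultB
import Cfsg.Agent.Lib.Helper5.J3FusA
import Cfsg.Agent.Lib.Lead.McL.Iso
import Cfsg.Agent.Lib.Lead.McL.OutData
import Cfsg.Agent.Lib.Lead.PG.Slp

/-!
# The McLaughlin group on 275 points: codes of elements, an involution and families of its conjugates

`McL` is lead's group `P` of permutations of 275 points.  The involution `tz` has the code `cz`, computed by the
straight line program `slpZ`.  A family of conjugates of `tz` is given by words in the generators (`conjWord`); the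
lemmas here are shared by the bound for the stem extensions and by the construction of the triple cover.
-/

set_option autoImplicit false
set_option maxRecDepth 100000

namespace Cfsg.Agent.Lib.Helper5.McLMult

open Cfsg.Agent.PG Cfsg.Agent.McLP
open Cfsg.Agent.Lib.Helper5.J3Mult (FCert palW conjV conjV_eq palP Tq Tq_mk Tq_conj Tq_sq Tq_injective Tq_palP Cz)
open Cfsg.Agent.Lib.Helper5.J3Fus (strictN strictN_eq)

/-- a certificate read from packed entries: table (17 bits), time (20), kind (2), row (17), word (12), place (6) -/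
def mkCert (n g nsub : ℕ) (ent par : ℕ → ℕ) (W : ℕ → List ℕ) : FCert where
  n := n
  g := g
  nsub := nsub
  Tg a x := ent (a * g + x) % 131072
  tg a x := (ent (a * g + x) >>> 17) % 1048576
  kd a x := (ent (a * g + x) >>> 37) % 4
  rs a x := (ent (a * g + x) >>> 39) % 131072
  rw a x := (ent (a * g + x) >>> 56) % 4096
  rp a x := (ent (a * g + x) >>> 68) % 64
  pa b := par b / g
  px b := par b % g
  W := W

/-! ### codes of elements of `P` -/

/-- `c` is the code of an element of `P` -/
def Good (c : ℕ) : Prop := ∃ g : ↥P, enc 275 g.1 = c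

open Classical in
/-- the element with the code `c` -/
noncomputable def el (c : ℕ) : ↥P := if h : Good c then h.choose else 1

open Classical in
theorem enc_el {c : ℕ} (h : Good c) : enc 275 (el c).1 = c := by
  rw [el, dif_pos h]
  exact h.choose_spec

theorem el_eq {c : ℕ} {g : ↥P} (h : enc 275 g.1 = c) : el c = g := by
  have hg : Good c := ⟨g, h⟩
  apply Subtype.ext
  apply enc_injective n_le
  rw [enc_el hg, h]

theorem Good.mul {a b : ℕ} (ha : Good a) (hb : Good b) : Good (pmul 275 a b) := by
  obtain ⟨g, rfl⟩ := ha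
  obtain ⟨h, rfl⟩ := hb
  exact ⟨g * h, by rw [Subgroup.coe_mul, pmul_enc n_le]⟩

theorem el_pmul {a b : ℕ} (ha : Good a) (hb : Good b) : el (pmul 275 a b) = el a * el b := by
  apply el_eq
  rw [Subgroup.coe_mul, ← pmul_enc n_le, enc_el ha, enc_el hb]

theorem good_pone : Good (pone 275) := ⟨1, by rw [pone_eq]; rfl⟩

theorem el_pone : el (pone 275) = 1 := el_eq (by rw [pone_eq]; rfl)

/-- the two generators -/
noncomputable def aP : ↥P := ⟨gA, gA_mem⟩
noncomputable def bP : ↥P := ⟨gB, gB_mem⟩

theorem closure_ab : Subgroup.closure {aP, bP} = (⊤ : Subgroup ↥P) := by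
  have h := Subgroup.closure_closure_coe_preimage (k := ({gA, gB} : Set (Equiv.Perm (Fin 275))))
  have hset : ((↑) : ↥P → Equiv.Perm (Fin 275)) ⁻¹' ({gA, gB} : Set (Equiv.Perm (Fin 275))) = {aP, bP} := by
    ext x
    simp only [Set.mem_preimage, Set.mem_insert_iff, Set.mem_singleton_iff, Subtype.ext_iff]
    rfl
  rw [← hset]
  exact h

theorem good_ca : Good ca := ⟨aP, enc_gA⟩
theorem good_cb : Good cb := ⟨bP, enc_gB⟩
theorem good_cai : Good cai := ⟨aP⁻¹, enc_gAi⟩
theorem good_cbi : Good cbi := ⟨bP⁻¹, enc_gBi⟩
theorem el_ca : el ca = aP := el_eq enc_gA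
theorem el_cb : el cb = bP := el_eq enc_gB
theorem el_cai : el cai = aP⁻¹ := el_eq enc_gAi
theorem el_cbi : el cbi = bP⁻¹ := el_eq enc_gBi

/-- the base registers -/
noncomputable def baseR : List ↥P := [bP⁻¹, bP, aP⁻¹, aP]

theorem baseR_ok : RegsOK P baseR [cbi, cb, cai, ca] :=
  List.Forall₂.cons enc_gBi (List.Forall₂.cons enc_gB (List.Forall₂.cons enc_gAi
    (List.Forall₂.cons enc_gA List.Forall₂.nil)))

/-- every register of a program run from the base registers is the code of an element -/
theorem good_run (prog : List (ℕ × ℕ)) (i : ℕ) :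
    Good ((run 275 prog [cbi, cb, cai, ca]).getD i (pone 275)) :=
  ⟨(runM prog baseR).getD i 1, (baseR_ok.run n_le (is := prog)).getD i⟩

theorem chk_cz : runK 275 slpZ [cbi, cb, cai, ca] (fun R => Nat.beq (R.getD 6 (pone 275)) cz) = true ∧
    Nat.beq (pmul 275 cz cz) (pone 275) = true := by decide +kernel

theorem good_cz : Good cz := by
  have h := chk_cz.1
  rw [runK_eq] at h
  rw [← Nat.eq_of_beq_eq_true h]
  exact good_run slpZ 6

/-- the base involution -/
noncomputable def tz : ↥P := el cz

theorem tz_sq : tz * tz = 1 := by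
  unfold tz
  rw [← el_pmul good_cz good_cz, Nat.eq_of_beq_eq_true chk_cz.2, el_pone]

/-- the conjugate of the base involution by a word in the letters `a`, `b`, `a⁻¹`, `b⁻¹` -/
noncomputable def conjWord (w : List ℕ) : ℕ :=
  List.rec (motive := fun _ => ℕ) cz
    (fun l _ ih => strictN ih fun v =>
      pmul 275 (pmul 275 ([ca, cb, cai, cbi].getD l ca) v) ([cai, cbi, ca, cb].getD l cai)) w

theorem conjWord_nil : conjWord [] = cz := rfl

theorem conjWord_cons (l : ℕ) (w : List ℕ) : conjWord (l :: w) =
    pmul 275 (pmul 275 ([ca, cb, cai, cbi].getD l ca) (conjWord w)) ([cai, cbi, ca, cb].getD l cai) := by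
  show strictN (conjWord w) (fun v =>
    pmul 275 (pmul 275 ([ca, cb, cai, cbi].getD l ca) v) ([cai, cbi, ca, cb].getD l cai)) = _
  rw [strictN_eq]

/-- the code of a conjugate of the base involution -/
def ConjZ (c : ℕ) : Prop := Good c ∧ ∃ w : ↥P, el c = w * tz * w⁻¹

theorem conjZ_cz : ConjZ cz := ⟨good_cz, 1, by simp [tz]⟩

theorem conjZ_step {g gi c : ℕ} (hg : Good g) (hgi : Good gi) (hinv : el gi = (el g)⁻¹) (hc : ConjZ c) :
    ConjZ (pmul 275 (pmul 275 g c) gi) := by
  obtain ⟨hc1, w, hw⟩ := hc
  refine ⟨(hg.mul hc1).mul hgi, el g * w, ?_⟩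
  rw [el_pmul (hg.mul hc1) hgi, el_pmul hg hc1, hw, hinv]
  group

theorem conjZ_conjWord : ∀ w : List ℕ, ConjZ (conjWord w)
  | [] => conjZ_cz
  | l :: w => by
    rw [conjWord_cons]
    have ih := conjZ_conjWord w
    rcases l with _ | _ | _ | _ | l
    · exact conjZ_step (g := ca) (gi := cai) good_ca good_cai (by rw [el_cai, el_ca]) ih
    · exact conjZ_step (g := cb) (gi := cbi) good_cb good_cbi (by rw [el_cbi, el_cb]) ih
    · exact conjZ_step (g := cai) (gi := ca) good_cai good_ca (by rw [el_cai, el_ca, inv_inv]) ih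
    · exact conjZ_step (g := cbi) (gi := cb) good_cbi good_cb (by rw [el_cbi, el_cb, inv_inv]) ih
    · exact conjZ_step (g := ca) (gi := cai) good_ca good_cai (by rw [el_cai, el_ca]) ih

/-! ### a family of conjugates of the base involution -/

section family

variable (codes : List ℕ)

/-- the code of a member of the family -/
def gc (i : ℕ) : ℕ := codes.getD i cz

/-- conjugate the code `v` successively by the involutions with the indices in `h` -/
noncomputable def palC (h : List ℕ) : ℕ → ℕ :=
  List.rec (motive := fun _ => ℕ → ℕ) (fun v => v)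
    (fun s _ ih v => strictN (gc codes s) fun g => strictN (pmul 275 (pmul 275 g v) g) ih) h

theorem palC_nil (v : ℕ) : palC codes [] v = v := rfl

theorem palC_cons (s : ℕ) (h : List ℕ) (v : ℕ) :
    palC codes (s :: h) v = palC codes h (pmul 275 (pmul 275 (gc codes s) v) (gc codes s)) := by
  show strictN (gc codes s) (fun g => strictN (pmul 275 (pmul 275 g v) g) (palC codes h)) = _
  rw [strictN_eq, strictN_eq]

/-- the value of a palindrome -/
noncomputable def palV (p : List ℕ × ℕ) : ℕ := palC codes p.1 (gc codes p.2)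

/-- the two palindromes of a coincidence have the same value -/
noncomputable def relOK (c : List ℕ × ℕ × List ℕ × ℕ) : Bool :=
  Nat.beq (palC codes c.1 (gc codes c.2.1)) (palC codes c.2.2.1 (gc codes c.2.2.2))

/-- the code of the product of the members with the indices in `w` -/
noncomputable def wordC (w : List ℕ) : ℕ :=
  List.rec (motive := fun _ => ℕ) (pone 275)
    (fun x _ ih => strictN ih fun v => pmul 275 (gc codes x) v) w

theorem wordC_nil : wordC codes [] = pone 275 := rfl

theorem wordC_cons (x : ℕ) (w : List ℕ) : wordC codes (x :: w) = pmul 275 (gc codes x) (wordC codes w) := by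
  show strictN (wordC codes w) (fun v => pmul 275 (gc codes x) v) = _
  rw [strictN_eq]

variable {codes} {gw : List (List ℕ)} (hgw : gw.map conjWord = codes)

include hgw in
theorem conjZ_gc (i : ℕ) : ConjZ (gc codes i) := by
  unfold gc
  rw [← hgw]
  by_cases hi : i < (gw.map conjWord).length
  · rw [List.getD_eq_getElem _ _ hi, List.getElem_map]
    exact conjZ_conjWord _
  · rw [List.getD_eq_default _ _ (by omega)]
    exact conjZ_cz

include hgw in
theorem good_gc (i : ℕ) : Good (gc codes i) := (conjZ_gc hgw i).1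

variable (codes) in
/-- the members of the family -/
noncomputable def tG (i : ℕ) : ↥P := el (gc codes i)

include hgw in
theorem tG_conj (i : ℕ) : ∃ g : ↥P, tG codes i = g * tz * g⁻¹ := (conjZ_gc hgw i).2

include hgw in
theorem tG_sq (i : ℕ) : tG codes i * tG codes i = 1 := by
  obtain ⟨g, hg⟩ := tG_conj hgw i
  rw [hg]
  calc g * tz * g⁻¹ * (g * tz * g⁻¹) = g * (tz * tz) * g⁻¹ := by group
    _ = 1 := by rw [tz_sq]; group

/-- the cosets of the centraliser that belong to the members of the family -/
noncomputable def xG (i : ℕ) : ↥P ⧸ Cz tz := (((tG_conj hgw i).choose : ↥P) : ↥P ⧸ Cz tz)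

theorem Tq_xG (i : ℕ) : Tq tz (xG hgw i) = tG codes i := by
  unfold xG
  rw [Tq_mk]
  exact ((tG_conj hgw i).choose_spec).symm

theorem Tq_xG' : (fun i => Tq tz (xG hgw i)) = tG codes := funext (Tq_xG hgw)

include hgw in
/-- the value of a palindrome, on the codes -/
theorem conjV_code : ∀ (h : List ℕ) (v : ℕ), Good v →
    Good (palC codes h v) ∧ conjV (tG codes) h (el v) = el (palC codes h v)
  | [], v, hv => ⟨hv, rfl⟩
  | s :: h, v, hv => by
    rw [palC_cons, conjV]
    have hg := good_gc hgw s
    have h1 : tG codes s * el v * tG codes s = el (pmul 275 (pmul 275 (gc codes s) v) (gc codes s)) := by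
      unfold tG
      rw [el_pmul (hg.mul hv) hg, el_pmul hg hv]
    rw [h1]
    exact conjV_code h _ ((hg.mul hv).mul hg)

include hgw in
theorem good_palV (p : List ℕ × ℕ) : Good (palV codes p) :=
  (conjV_code hgw p.1 (gc codes p.2) (good_gc hgw p.2)).1

include hgw in
theorem conjV_palV (p : List ℕ × ℕ) : conjV (tG codes) p.1 (tG codes p.2) = el (palV codes p) :=
  (conjV_code hgw p.1 (gc codes p.2) (good_gc hgw p.2)).2

theorem Tq_palP_code (p : List ℕ × ℕ) : Tq tz (palP (xG hgw) p.1 p.2) = el (palV codes p) := by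
  rw [Tq_palP (xG hgw) (fun i => by rw [Tq_xG]; exact tG_sq hgw i), Tq_xG', Tq_xG, conjV_palV hgw]

include hgw in
/-- the product of members of the family, on the codes -/
theorem wordC_spec : ∀ w : List ℕ, Good (wordC codes w) ∧ (w.map (tG codes)).prod = el (wordC codes w)
  | [] => ⟨good_pone, by rw [List.map_nil, List.prod_nil, wordC_nil, el_pone]⟩
  | x :: w => by
    obtain ⟨h1, h2⟩ := wordC_spec w
    rw [wordC_cons, List.map_cons, List.prod_cons, h2]
    exact ⟨(good_gc hgw x).mul h1, by rw [el_pmul (good_gc hgw x) h1]; rfl⟩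

include hgw in
theorem regs_family : ∀ l : List ℕ, RegsOK P (l.map (tG codes)) (l.map (gc codes))
  | [] => List.Forall₂.nil
  | i :: l => List.Forall₂.cons (enc_el (good_gc hgw i)) (regs_family l)

include hgw in
/-- **the first `k` members of the family generate `P`**, when a straight line program computes the two generators
from them -/
theorem closure_tG (k : ℕ) (slp : List (ℕ × ℕ)) (iA iB : ℕ)
    (hA : (run 275 slp ((List.range k).reverse.map (gc codes))).getD iA (pone 275) = ca)
    (hB : (run 275 slp ((List.range k).reverse.map (gc codes))).getD iB (pone 275) = cb) :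
    Subgroup.closure (tG codes '' Set.Iio k) = ⊤ := by
  set K := Subgroup.closure (tG codes '' Set.Iio k) with hKdef
  have hK : ∀ i, i < k → tG codes i ∈ K := fun i hi => Subgroup.subset_closure ⟨i, hi, rfl⟩
  set gs : List ↥P := (List.range k).reverse.map (tG codes) with hgs
  have hregs : RegsOK P gs ((List.range k).reverse.map (gc codes)) := regs_family hgw _
  have hrun := hregs.run n_le (is := slp)
  have hmem : ∀ g ∈ runM slp gs, g ∈ K.toSubmonoid := by
    apply runM_mem
    intro g hg
    rw [hgs, List.mem_map] at hg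
    obtain ⟨i, hi, rfl⟩ := hg
    rw [List.mem_reverse, List.mem_range] at hi
    exact hK i hi
  have hget : ∀ i, (runM slp gs).getD i 1 ∈ K := by
    intro i
    by_cases hi : i < (runM slp gs).length
    · rw [List.getD_eq_getElem _ _ hi]
      exact hmem _ (List.getElem_mem hi)
    · rw [List.getD_eq_default _ _ (not_lt.1 hi)]
      exact K.one_mem
  have haK : aP ∈ K := by
    have h1 := hrun.getD iA
    rw [hA, ← enc_gA] at h1
    have : (runM slp gs).getD iA 1 = aP := Subtype.ext (enc_injective n_le h1)
    rw [← this]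
    exact hget iA
  have hbK : bP ∈ K := by
    have h1 := hrun.getD iB
    rw [hB, ← enc_gB] at h1
    have : (runM slp gs).getD iB 1 = bP := Subtype.ext (enc_injective n_le h1)
    rw [← this]
    exact hget iB
  rw [eq_top_iff, ← closure_ab, Subgroup.closure_le]
  intro g hg
  rcases hg with rfl | hg
  · exact haK
  · rw [Set.mem_singleton_iff] at hg
    subst hg
    exact hbK

end family

/-- the letters of a word are below `g` -/
def wordLt (g : ℕ) (w : List ℕ) : Bool := w.all fun x => Nat.blt x g

/-- the letters of a coincidence are below `g` -/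
def letOK (g : ℕ) (c : List ℕ × ℕ × List ℕ × ℕ) : Bool :=
  c.1.all (fun x => Nat.blt x g) && (Nat.blt c.2.1 g && (c.2.2.1.all (fun x => Nat.blt x g) && Nat.blt c.2.2.2 g))

/-- the product of two palindromes -/
def longW (c : List ℕ × ℕ × List ℕ × ℕ) : List ℕ := palW c.1 c.2.1 ++ palW c.2.2.1 c.2.2.2

/-- the trivial coincidence -/
def c0 : List ℕ × ℕ × List ℕ × ℕ := ([], 0, [], 0)

theorem mem_palW {h : List ℕ} {c x : ℕ} (hx : x ∈ palW h c) : x ∈ h ∨ x = c := by
  unfold palW at hx
  rw [List.mem_append, List.mem_reverse, List.mem_cons] at hx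
  tauto

theorem lt_of_letOK {g : ℕ} {c : List ℕ × ℕ × List ℕ × ℕ} (h : letOK g c = true) :
    ∀ x ∈ longW c, x < g := by
  unfold letOK at h
  simp only [Bool.and_eq_true, List.all_eq_true, Nat.blt_eq] at h
  obtain ⟨h1, h2', h3, h4⟩ := h
  intro x hx
  unfold longW at hx
  rcases List.mem_append.1 hx with hx | hx
  · rcases mem_palW hx with hx | rfl
    · exact h1 x hx
    · exact h2'
  · rcases mem_palW hx with hx | rfl
    · exact h3 x hx
    · exact h4

theorem lt_getD {g : ℕ} (hg : 0 < g) {l : List (List ℕ × ℕ × List ℕ × ℕ)}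
    (hl : l.all (letOK g) = true) (k : ℕ) : ∀ x ∈ longW (l.getD k c0), x < g := by
  by_cases hk : k < l.length
  · rw [List.getD_eq_getElem _ _ hk]
    exact lt_of_letOK (List.all_eq_true.1 hl _ (List.getElem_mem hk))
  · rw [List.getD_eq_default _ _ (by omega)]
    intro x hx
    have : x = 0 := by
      unfold longW c0 palW at hx
      simpa using hx
    omega

end Cfsg.Agent.Lib.Helper5.McLMult
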