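import Cfsg.Agent.Lib.Helper5.McLMultBase
import Cfsg.Agent.Lib.Helper5.McLMultData
import Cfsg.Agent.Lib.Helper5.McLMultRel4_0
import Cfsg.Agent.Lib.Helper5.McLMultRel4_1
import Cfsg.Agent.Lib.Helper5.McLMultRel4_2
import Cfsg.Agent.Lib.Helper5.McLMultRel4_3
import Cfsg.Agent.Lib.Helper5.McLMultRel4_4
import Cfsg.Agent.Lib.Helper5.McLMultRel4_5
import Cfsg.Agent.Lib.Helper5.McLMultTab0
import Cfsg.Agent.Lib.Helper5.McLMultTab1
import Cfsg.Agent.Lib.Helper5.McLMultTab2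
import Cfsg.Agent.Lib.Helper5.McLMultTab3
import Cfsg.Agent.Lib.Helper5.McLMultTab4
import Cfsg.Agent.Lib.Helper5.McLMultTab5
import Cfsg.Agent.Lib.Helper5.McLMultTab6
import Cfsg.Agent.Lib.Helper5.McLMultTab7

/-!
# The certificates for the bound on the stem extensions of `McL`: definitions

Four coset certificates (`12`, `28`, `120` and `66825` rows: the chain `D₁₂ < 2 × L₃(2) < 2·A₈ < 3·McL`) read from packed
numerals.  The words of the certificates are products of two palindromes in five conjugates of the base involution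
with the same value in the group of permutations of 275 points, and one triple.
-/

set_option autoImplicit false

namespace Cfsg.Agent.Lib.Helper5.McLMult

open Cfsg.Agent.PG Cfsg.Agent.McLP
open Cfsg.Agent.Lib.Helper5.J3Mult (FCert palW)

/-- the word of the triple -/
def tripW : List ℕ := palW tripA.1 tripA.2 ++ (palW tripC.1 tripC.2 ++ palW tripU.1 tripU.2)

/-- the coincidences of the large certificate -/
def relA4 : List (List ℕ × ℕ × List ℕ × ℕ) := relA4_0 ++ (relA4_1 ++ (relA4_2 ++ (relA4_3 ++ (relA4_4 ++ relA4_5))))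

/-! the chunks of the table of the large certificate, selected by a tree of definitions with eight branches each -/

noncomputable def chA4_n0_0 (j : ℕ) : ℕ := (Bool.rec (motive := fun _ => ℕ) (Bool.rec (motive := fun _ => ℕ) (Bool.rec (motive := fun _ => ℕ) cA4_0 cA4_1 (Nat.ble 1 j)) (Bool.rec (motive := fun _ => ℕ) cA4_2 cA4_3 (Nat.ble 3 j)) (Nat.ble 2 j)) (Bool.rec (motive := fun _ => ℕ) (Bool.rec (motive := fun _ => ℕ) cA4_4 cA4_5 (Nat.ble 5 j)) (Bool.rec (motive := fun _ => ℕ) cA4_6 cA4_7 (Nat.ble 7 j)) (Nat.ble 6 j)) (Nat.ble 4 j))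
noncomputable def chA4_n0_1 (j : ℕ) : ℕ := (Bool.rec (motive := fun _ => ℕ) (Bool.rec (motive := fun _ => ℕ) (Bool.rec (motive := fun _ => ℕ) cA4_8 cA4_9 (Nat.ble 9 j)) (Bool.rec (motive := fun _ => ℕ) cA4_10 cA4_11 (Nat.ble 11 j)) (Nat.ble 10 j)) (Bool.rec (motive := fun _ => ℕ) (Bool.rec (motive := fun _ => ℕ) cA4_12 cA4_13 (Nat.ble 13 j)) (Bool.rec (motive := fun _ => ℕ) cA4_14 cA4_15 (Nat.ble 15 j)) (Nat.ble 14 j)) (Nat.ble 12 j))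
noncomputable def chA4_n0_2 (j : ℕ) : ℕ := (Bool.rec (motive := fun _ => ℕ) (Bool.rec (motive := fun _ => ℕ) (Bool.rec (motive := fun _ => ℕ) cA4_16 cA4_17 (Nat.ble 17 j)) (Bool.rec (motive := fun _ => ℕ) cA4_18 cA4_19 (Nat.ble 19 j)) (Nat.ble 18 j)) (Bool.rec (motive := fun _ => ℕ) (Bool.rec (motive := fun _ => ℕ) cA4_20 cA4_21 (Nat.ble 21 j)) (Bool.rec (motive := fun _ => ℕ) cA4_22 cA4_23 (Nat.ble 23 j)) (Nat.ble 22 j)) (Nat.ble 20 j))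
noncomputable def chA4_n0_3 (j : ℕ) : ℕ := (Bool.rec (motive := fun _ => ℕ) (Bool.rec (motive := fun _ => ℕ) (Bool.rec (motive := fun _ => ℕ) cA4_24 cA4_25 (Nat.ble 25 j)) (Bool.rec (motive := fun _ => ℕ) cA4_26 cA4_27 (Nat.ble 27 j)) (Nat.ble 26 j)) (Bool.rec (motive := fun _ => ℕ) (Bool.rec (motive := fun _ => ℕ) cA4_28 cA4_29 (Nat.ble 29 j)) (Bool.rec (motive := fun _ => ℕ) cA4_30 cA4_31 (Nat.ble 31 j)) (Nat.ble 30 j)) (Nat.ble 28 j))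
noncomputable def chA4_n0_4 (j : ℕ) : ℕ := (Bool.rec (motive := fun _ => ℕ) (Bool.rec (motive := fun _ => ℕ) (Bool.rec (motive := fun _ => ℕ) cA4_32 cA4_33 (Nat.ble 33 j)) (Bool.rec (motive := fun _ => ℕ) cA4_34 cA4_35 (Nat.ble 35 j)) (Nat.ble 34 j)) (Bool.rec (motive := fun _ => ℕ) (Bool.rec (motive := fun _ => ℕ) cA4_36 cA4_37 (Nat.ble 37 j)) (Bool.rec (motive := fun _ => ℕ) cA4_38 cA4_39 (Nat.ble 39 j)) (Nat.ble 38 j)) (Nat.ble 36 j))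
noncomputable def chA4_n0_5 (j : ℕ) : ℕ := (Bool.rec (motive := fun _ => ℕ) (Bool.rec (motive := fun _ => ℕ) (Bool.rec (motive := fun _ => ℕ) cA4_40 cA4_41 (Nat.ble 41 j)) (Bool.rec (motive := fun _ => ℕ) cA4_42 cA4_43 (Nat.ble 43 j)) (Nat.ble 42 j)) (Bool.rec (motive := fun _ => ℕ) (Bool.rec (motive := fun _ => ℕ) cA4_44 cA4_45 (Nat.ble 45 j)) (Bool.rec (motive := fun _ => ℕ) cA4_46 cA4_47 (Nat.ble 47 j)) (Nat.ble 46 j)) (Nat.ble 44 j))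
noncomputable def chA4_n0_6 (j : ℕ) : ℕ := (Bool.rec (motive := fun _ => ℕ) (Bool.rec (motive := fun _ => ℕ) (Bool.rec (motive := fun _ => ℕ) cA4_48 cA4_49 (Nat.ble 49 j)) (Bool.rec (motive := fun _ => ℕ) cA4_50 cA4_51 (Nat.ble 51 j)) (Nat.ble 50 j)) (Bool.rec (motive := fun _ => ℕ) (Bool.rec (motive := fun _ => ℕ) cA4_52 cA4_53 (Nat.ble 53 j)) (Bool.rec (motive := fun _ => ℕ) cA4_54 cA4_55 (Nat.ble 55 j)) (Nat.ble 54 j)) (Nat.ble 52 j))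
noncomputable def chA4_n0_7 (j : ℕ) : ℕ := (Bool.rec (motive := fun _ => ℕ) (Bool.rec (motive := fun _ => ℕ) (Bool.rec (motive := fun _ => ℕ) cA4_56 cA4_57 (Nat.ble 57 j)) (Bool.rec (motive := fun _ => ℕ) cA4_58 cA4_59 (Nat.ble 59 j)) (Nat.ble 58 j)) (Bool.rec (motive := fun _ => ℕ) (Bool.rec (motive := fun _ => ℕ) cA4_60 cA4_61 (Nat.ble 61 j)) (Bool.rec (motive := fun _ => ℕ) cA4_62 cA4_63 (Nat.ble 63 j)) (Nat.ble 62 j)) (Nat.ble 60 j))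
noncomputable def chA4_n0_8 (j : ℕ) : ℕ := (Bool.rec (motive := fun _ => ℕ) (Bool.rec (motive := fun _ => ℕ) (Bool.rec (motive := fun _ => ℕ) cA4_64 cA4_65 (Nat.ble 65 j)) (Bool.rec (motive := fun _ => ℕ) cA4_66 cA4_67 (Nat.ble 67 j)) (Nat.ble 66 j)) (Bool.rec (motive := fun _ => ℕ) (Bool.rec (motive := fun _ => ℕ) cA4_68 cA4_69 (Nat.ble 69 j)) (Bool.rec (motive := fun _ => ℕ) cA4_70 cA4_71 (Nat.ble 71 j)) (Nat.ble 70 j)) (Nat.ble 68 j))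
noncomputable def chA4_n0_9 (j : ℕ) : ℕ := (Bool.rec (motive := fun _ => ℕ) (Bool.rec (motive := fun _ => ℕ) (Bool.rec (motive := fun _ => ℕ) cA4_72 cA4_73 (Nat.ble 73 j)) (Bool.rec (motive := fun _ => ℕ) cA4_74 cA4_75 (Nat.ble 75 j)) (Nat.ble 74 j)) (Bool.rec (motive := fun _ => ℕ) (Bool.rec (motive := fun _ => ℕ) cA4_76 cA4_77 (Nat.ble 77 j)) (Bool.rec (motive := fun _ => ℕ) cA4_78 cA4_79 (Nat.ble 79 j)) (Nat.ble 78 j)) (Nat.ble 76 j))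
noncomputable def chA4_n0_10 (j : ℕ) : ℕ := (Bool.rec (motive := fun _ => ℕ) (Bool.rec (motive := fun _ => ℕ) (Bool.rec (motive := fun _ => ℕ) cA4_80 cA4_81 (Nat.ble 81 j)) (Bool.rec (motive := fun _ => ℕ) cA4_82 cA4_83 (Nat.ble 83 j)) (Nat.ble 82 j)) (Bool.rec (motive := fun _ => ℕ) (Bool.rec (motive := fun _ => ℕ) cA4_84 cA4_85 (Nat.ble 85 j)) (Bool.rec (motive := fun _ => ℕ) cA4_86 cA4_87 (Nat.ble 87 j)) (Nat.ble 86 j)) (Nat.ble 84 j))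
noncomputable def chA4_n0_11 (j : ℕ) : ℕ := (Bool.rec (motive := fun _ => ℕ) (Bool.rec (motive := fun _ => ℕ) (Bool.rec (motive := fun _ => ℕ) cA4_88 cA4_89 (Nat.ble 89 j)) (Bool.rec (motive := fun _ => ℕ) cA4_90 cA4_91 (Nat.ble 91 j)) (Nat.ble 90 j)) (Bool.rec (motive := fun _ => ℕ) (Bool.rec (motive := fun _ => ℕ) cA4_92 cA4_93 (Nat.ble 93 j)) (Bool.rec (motive := fun _ => ℕ) cA4_94 cA4_95 (Nat.ble 95 j)) (Nat.ble 94 j)) (Nat.ble 92 j))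
noncomputable def chA4_n0_12 (j : ℕ) : ℕ := (Bool.rec (motive := fun _ => ℕ) (Bool.rec (motive := fun _ => ℕ) (Bool.rec (motive := fun _ => ℕ) cA4_96 cA4_97 (Nat.ble 97 j)) (Bool.rec (motive := fun _ => ℕ) cA4_98 cA4_99 (Nat.ble 99 j)) (Nat.ble 98 j)) (Bool.rec (motive := fun _ => ℕ) (Bool.rec (motive := fun _ => ℕ) cA4_100 cA4_101 (Nat.ble 101 j)) (Bool.rec (motive := fun _ => ℕ) cA4_102 cA4_103 (Nat.ble 103 j)) (Nat.ble 102 j)) (Nat.ble 100 j))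
noncomputable def chA4_n0_13 (j : ℕ) : ℕ := (Bool.rec (motive := fun _ => ℕ) (Bool.rec (motive := fun _ => ℕ) (Bool.rec (motive := fun _ => ℕ) cA4_104 cA4_105 (Nat.ble 105 j)) (Bool.rec (motive := fun _ => ℕ) cA4_106 cA4_107 (Nat.ble 107 j)) (Nat.ble 106 j)) (Bool.rec (motive := fun _ => ℕ) (Bool.rec (motive := fun _ => ℕ) cA4_108 cA4_109 (Nat.ble 109 j)) (Bool.rec (motive := fun _ => ℕ) cA4_110 cA4_111 (Nat.ble 111 j)) (Nat.ble 110 j)) (Nat.ble 108 j))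
noncomputable def chA4_n0_14 (j : ℕ) : ℕ := (Bool.rec (motive := fun _ => ℕ) (Bool.rec (motive := fun _ => ℕ) (Bool.rec (motive := fun _ => ℕ) cA4_112 cA4_113 (Nat.ble 113 j)) (Bool.rec (motive := fun _ => ℕ) cA4_114 cA4_115 (Nat.ble 115 j)) (Nat.ble 114 j)) (Bool.rec (motive := fun _ => ℕ) (Bool.rec (motive := fun _ => ℕ) cA4_116 cA4_117 (Nat.ble 117 j)) (Bool.rec (motive := fun _ => ℕ) cA4_118 cA4_119 (Nat.ble 119 j)) (Nat.ble 118 j)) (Nat.ble 116 j))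
noncomputable def chA4_n0_15 (j : ℕ) : ℕ := (Bool.rec (motive := fun _ => ℕ) (Bool.rec (motive := fun _ => ℕ) (Bool.rec (motive := fun _ => ℕ) cA4_120 cA4_121 (Nat.ble 121 j)) (Bool.rec (motive := fun _ => ℕ) cA4_122 cA4_123 (Nat.ble 123 j)) (Nat.ble 122 j)) (Bool.rec (motive := fun _ => ℕ) (Bool.rec (motive := fun _ => ℕ) cA4_124 cA4_125 (Nat.ble 125 j)) (Bool.rec (motive := fun _ => ℕ) cA4_126 cA4_127 (Nat.ble 127 j)) (Nat.ble 126 j)) (Nat.ble 124 j))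
noncomputable def chA4_n0_16 (j : ℕ) : ℕ := (Bool.rec (motive := fun _ => ℕ) (Bool.rec (motive := fun _ => ℕ) (Bool.rec (motive := fun _ => ℕ) cA4_128 cA4_129 (Nat.ble 129 j)) (Bool.rec (motive := fun _ => ℕ) cA4_130 cA4_131 (Nat.ble 131 j)) (Nat.ble 130 j)) (Bool.rec (motive := fun _ => ℕ) (Bool.rec (motive := fun _ => ℕ) cA4_132 cA4_133 (Nat.ble 133 j)) (Bool.rec (motive := fun _ => ℕ) cA4_134 cA4_135 (Nat.ble 135 j)) (Nat.ble 134 j)) (Nat.ble 132 j))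
noncomputable def chA4_n0_17 (j : ℕ) : ℕ := (Bool.rec (motive := fun _ => ℕ) (Bool.rec (motive := fun _ => ℕ) (Bool.rec (motive := fun _ => ℕ) cA4_136 cA4_137 (Nat.ble 137 j)) (Bool.rec (motive := fun _ => ℕ) cA4_138 cA4_139 (Nat.ble 139 j)) (Nat.ble 138 j)) (Bool.rec (motive := fun _ => ℕ) (Bool.rec (motive := fun _ => ℕ) cA4_140 cA4_141 (Nat.ble 141 j)) (Bool.rec (motive := fun _ => ℕ) cA4_142 cA4_143 (Nat.ble 143 j)) (Nat.ble 142 j)) (Nat.ble 140 j))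
noncomputable def chA4_n0_18 (j : ℕ) : ℕ := (Bool.rec (motive := fun _ => ℕ) (Bool.rec (motive := fun _ => ℕ) (Bool.rec (motive := fun _ => ℕ) cA4_144 cA4_145 (Nat.ble 145 j)) (Bool.rec (motive := fun _ => ℕ) cA4_146 cA4_147 (Nat.ble 147 j)) (Nat.ble 146 j)) (Bool.rec (motive := fun _ => ℕ) (Bool.rec (motive := fun _ => ℕ) cA4_148 cA4_149 (Nat.ble 149 j)) (Bool.rec (motive := fun _ => ℕ) cA4_150 cA4_151 (Nat.ble 151 j)) (Nat.ble 150 j)) (Nat.ble 148 j))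
noncomputable def chA4_n0_19 (j : ℕ) : ℕ := (Bool.rec (motive := fun _ => ℕ) (Bool.rec (motive := fun _ => ℕ) (Bool.rec (motive := fun _ => ℕ) cA4_152 cA4_153 (Nat.ble 153 j)) (Bool.rec (motive := fun _ => ℕ) cA4_154 cA4_155 (Nat.ble 155 j)) (Nat.ble 154 j)) (Bool.rec (motive := fun _ => ℕ) (Bool.rec (motive := fun _ => ℕ) cA4_156 cA4_157 (Nat.ble 157 j)) (Bool.rec (motive := fun _ => ℕ) cA4_158 cA4_159 (Nat.ble 159 j)) (Nat.ble 158 j)) (Nat.ble 156 j))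
noncomputable def chA4_n0_20 (j : ℕ) : ℕ := (Bool.rec (motive := fun _ => ℕ) (Bool.rec (motive := fun _ => ℕ) (Bool.rec (motive := fun _ => ℕ) cA4_160 cA4_161 (Nat.ble 161 j)) (Bool.rec (motive := fun _ => ℕ) cA4_162 cA4_163 (Nat.ble 163 j)) (Nat.ble 162 j)) (Bool.rec (motive := fun _ => ℕ) (Bool.rec (motive := fun _ => ℕ) cA4_164 cA4_165 (Nat.ble 165 j)) (Bool.rec (motive := fun _ => ℕ) cA4_166 cA4_167 (Nat.ble 167 j)) (Nat.ble 166 j)) (Nat.ble 164 j))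
noncomputable def chA4_n0_21 (j : ℕ) : ℕ := (Bool.rec (motive := fun _ => ℕ) (Bool.rec (motive := fun _ => ℕ) (Bool.rec (motive := fun _ => ℕ) cA4_168 cA4_169 (Nat.ble 169 j)) (Bool.rec (motive := fun _ => ℕ) cA4_170 cA4_171 (Nat.ble 171 j)) (Nat.ble 170 j)) (Bool.rec (motive := fun _ => ℕ) (Bool.rec (motive := fun _ => ℕ) cA4_172 cA4_173 (Nat.ble 173 j)) (Bool.rec (motive := fun _ => ℕ) cA4_174 cA4_175 (Nat.ble 175 j)) (Nat.ble 174 j)) (Nat.ble 172 j))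
noncomputable def chA4_n0_22 (j : ℕ) : ℕ := (Bool.rec (motive := fun _ => ℕ) (Bool.rec (motive := fun _ => ℕ) (Bool.rec (motive := fun _ => ℕ) cA4_176 cA4_177 (Nat.ble 177 j)) (Bool.rec (motive := fun _ => ℕ) cA4_178 cA4_179 (Nat.ble 179 j)) (Nat.ble 178 j)) (Bool.rec (motive := fun _ => ℕ) (Bool.rec (motive := fun _ => ℕ) cA4_180 cA4_181 (Nat.ble 181 j)) (Bool.rec (motive := fun _ => ℕ) cA4_182 cA4_183 (Nat.ble 183 j)) (Nat.ble 182 j)) (Nat.ble 180 j))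
noncomputable def chA4_n0_23 (j : ℕ) : ℕ := (Bool.rec (motive := fun _ => ℕ) (Bool.rec (motive := fun _ => ℕ) (Bool.rec (motive := fun _ => ℕ) cA4_184 cA4_185 (Nat.ble 185 j)) (Bool.rec (motive := fun _ => ℕ) cA4_186 cA4_187 (Nat.ble 187 j)) (Nat.ble 186 j)) (Bool.rec (motive := fun _ => ℕ) (Bool.rec (motive := fun _ => ℕ) cA4_188 cA4_189 (Nat.ble 189 j)) (Bool.rec (motive := fun _ => ℕ) cA4_190 cA4_191 (Nat.ble 191 j)) (Nat.ble 190 j)) (Nat.ble 188 j))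
noncomputable def chA4_n0_24 (j : ℕ) : ℕ := (Bool.rec (motive := fun _ => ℕ) (Bool.rec (motive := fun _ => ℕ) (Bool.rec (motive := fun _ => ℕ) cA4_192 cA4_193 (Nat.ble 193 j)) (Bool.rec (motive := fun _ => ℕ) cA4_194 cA4_195 (Nat.ble 195 j)) (Nat.ble 194 j)) (Bool.rec (motive := fun _ => ℕ) (Bool.rec (motive := fun _ => ℕ) cA4_196 cA4_197 (Nat.ble 197 j)) (Bool.rec (motive := fun _ => ℕ) cA4_198 cA4_199 (Nat.ble 199 j)) (Nat.ble 198 j)) (Nat.ble 196 j))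
noncomputable def chA4_n0_25 (j : ℕ) : ℕ := (Bool.rec (motive := fun _ => ℕ) (Bool.rec (motive := fun _ => ℕ) (Bool.rec (motive := fun _ => ℕ) cA4_200 cA4_201 (Nat.ble 201 j)) (Bool.rec (motive := fun _ => ℕ) cA4_202 cA4_203 (Nat.ble 203 j)) (Nat.ble 202 j)) (Bool.rec (motive := fun _ => ℕ) (Bool.rec (motive := fun _ => ℕ) cA4_204 cA4_205 (Nat.ble 205 j)) (Bool.rec (motive := fun _ => ℕ) cA4_206 cA4_207 (Nat.ble 207 j)) (Nat.ble 206 j)) (Nat.ble 204 j))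
noncomputable def chA4_n0_26 (j : ℕ) : ℕ := (Bool.rec (motive := fun _ => ℕ) (Bool.rec (motive := fun _ => ℕ) (Bool.rec (motive := fun _ => ℕ) cA4_208 cA4_209 (Nat.ble 209 j)) (Bool.rec (motive := fun _ => ℕ) cA4_210 cA4_211 (Nat.ble 211 j)) (Nat.ble 210 j)) (Bool.rec (motive := fun _ => ℕ) (Bool.rec (motive := fun _ => ℕ) cA4_212 cA4_213 (Nat.ble 213 j)) (Bool.rec (motive := fun _ => ℕ) cA4_214 cA4_215 (Nat.ble 215 j)) (Nat.ble 214 j)) (Nat.ble 212 j))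
noncomputable def chA4_n0_27 (j : ℕ) : ℕ := (Bool.rec (motive := fun _ => ℕ) (Bool.rec (motive := fun _ => ℕ) (Bool.rec (motive := fun _ => ℕ) cA4_216 cA4_217 (Nat.ble 217 j)) (Bool.rec (motive := fun _ => ℕ) cA4_218 cA4_219 (Nat.ble 219 j)) (Nat.ble 218 j)) (Bool.rec (motive := fun _ => ℕ) (Bool.rec (motive := fun _ => ℕ) cA4_220 cA4_221 (Nat.ble 221 j)) (Bool.rec (motive := fun _ => ℕ) cA4_222 cA4_223 (Nat.ble 223 j)) (Nat.ble 222 j)) (Nat.ble 220 j))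
noncomputable def chA4_n0_28 (j : ℕ) : ℕ := (Bool.rec (motive := fun _ => ℕ) (Bool.rec (motive := fun _ => ℕ) (Bool.rec (motive := fun _ => ℕ) cA4_224 cA4_225 (Nat.ble 225 j)) (Bool.rec (motive := fun _ => ℕ) cA4_226 cA4_227 (Nat.ble 227 j)) (Nat.ble 226 j)) (Bool.rec (motive := fun _ => ℕ) (Bool.rec (motive := fun _ => ℕ) cA4_228 cA4_229 (Nat.ble 229 j)) (Bool.rec (motive := fun _ => ℕ) cA4_230 cA4_231 (Nat.ble 231 j)) (Nat.ble 230 j)) (Nat.ble 228 j))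
noncomputable def chA4_n0_29 (j : ℕ) : ℕ := (Bool.rec (motive := fun _ => ℕ) (Bool.rec (motive := fun _ => ℕ) (Bool.rec (motive := fun _ => ℕ) cA4_232 cA4_233 (Nat.ble 233 j)) (Bool.rec (motive := fun _ => ℕ) cA4_234 cA4_235 (Nat.ble 235 j)) (Nat.ble 234 j)) (Bool.rec (motive := fun _ => ℕ) (Bool.rec (motive := fun _ => ℕ) cA4_236 cA4_237 (Nat.ble 237 j)) (Bool.rec (motive := fun _ => ℕ) cA4_238 cA4_239 (Nat.ble 239 j)) (Nat.ble 238 j)) (Nat.ble 236 j))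
noncomputable def chA4_n0_30 (j : ℕ) : ℕ := (Bool.rec (motive := fun _ => ℕ) (Bool.rec (motive := fun _ => ℕ) (Bool.rec (motive := fun _ => ℕ) cA4_240 cA4_241 (Nat.ble 241 j)) (Bool.rec (motive := fun _ => ℕ) cA4_242 cA4_243 (Nat.ble 243 j)) (Nat.ble 242 j)) (Bool.rec (motive := fun _ => ℕ) (Bool.rec (motive := fun _ => ℕ) cA4_244 cA4_245 (Nat.ble 245 j)) (Bool.rec (motive := fun _ => ℕ) cA4_246 cA4_247 (Nat.ble 247 j)) (Nat.ble 246 j)) (Nat.ble 244 j))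
noncomputable def chA4_n0_31 (j : ℕ) : ℕ := (Bool.rec (motive := fun _ => ℕ) (Bool.rec (motive := fun _ => ℕ) (Bool.rec (motive := fun _ => ℕ) cA4_248 cA4_249 (Nat.ble 249 j)) (Bool.rec (motive := fun _ => ℕ) cA4_250 cA4_251 (Nat.ble 251 j)) (Nat.ble 250 j)) (Bool.rec (motive := fun _ => ℕ) (Bool.rec (motive := fun _ => ℕ) cA4_252 cA4_253 (Nat.ble 253 j)) (Bool.rec (motive := fun _ => ℕ) cA4_254 cA4_255 (Nat.ble 255 j)) (Nat.ble 254 j)) (Nat.ble 252 j))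
noncomputable def chA4_n0_32 (j : ℕ) : ℕ := (Bool.rec (motive := fun _ => ℕ) (Bool.rec (motive := fun _ => ℕ) (Bool.rec (motive := fun _ => ℕ) cA4_256 cA4_257 (Nat.ble 257 j)) (Bool.rec (motive := fun _ => ℕ) cA4_258 cA4_259 (Nat.ble 259 j)) (Nat.ble 258 j)) (Bool.rec (motive := fun _ => ℕ) (Bool.rec (motive := fun _ => ℕ) cA4_260 cA4_261 (Nat.ble 261 j)) (Bool.rec (motive := fun _ => ℕ) cA4_262 cA4_263 (Nat.ble 263 j)) (Nat.ble 262 j)) (Nat.ble 260 j))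
noncomputable def chA4_n0_33 (j : ℕ) : ℕ := (Bool.rec (motive := fun _ => ℕ) (Bool.rec (motive := fun _ => ℕ) (Bool.rec (motive := fun _ => ℕ) cA4_264 cA4_265 (Nat.ble 265 j)) (Bool.rec (motive := fun _ => ℕ) cA4_266 cA4_267 (Nat.ble 267 j)) (Nat.ble 266 j)) (Bool.rec (motive := fun _ => ℕ) (Bool.rec (motive := fun _ => ℕ) cA4_268 cA4_269 (Nat.ble 269 j)) (Bool.rec (motive := fun _ => ℕ) cA4_270 cA4_271 (Nat.ble 271 j)) (Nat.ble 270 j)) (Nat.ble 268 j))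
noncomputable def chA4_n0_34 (j : ℕ) : ℕ := (Bool.rec (motive := fun _ => ℕ) (Bool.rec (motive := fun _ => ℕ) (Bool.rec (motive := fun _ => ℕ) cA4_272 cA4_273 (Nat.ble 273 j)) (Bool.rec (motive := fun _ => ℕ) cA4_274 cA4_275 (Nat.ble 275 j)) (Nat.ble 274 j)) (Bool.rec (motive := fun _ => ℕ) (Bool.rec (motive := fun _ => ℕ) cA4_276 cA4_277 (Nat.ble 277 j)) (Bool.rec (motive := fun _ => ℕ) cA4_278 cA4_279 (Nat.ble 279 j)) (Nat.ble 278 j)) (Nat.ble 276 j))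
noncomputable def chA4_n0_35 (j : ℕ) : ℕ := (Bool.rec (motive := fun _ => ℕ) (Bool.rec (motive := fun _ => ℕ) (Bool.rec (motive := fun _ => ℕ) cA4_280 cA4_281 (Nat.ble 281 j)) (Bool.rec (motive := fun _ => ℕ) cA4_282 cA4_283 (Nat.ble 283 j)) (Nat.ble 282 j)) (Bool.rec (motive := fun _ => ℕ) (Bool.rec (motive := fun _ => ℕ) cA4_284 cA4_285 (Nat.ble 285 j)) (Bool.rec (motive := fun _ => ℕ) cA4_286 cA4_287 (Nat.ble 287 j)) (Nat.ble 286 j)) (Nat.ble 284 j))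
noncomputable def chA4_n0_36 (j : ℕ) : ℕ := (Bool.rec (motive := fun _ => ℕ) (Bool.rec (motive := fun _ => ℕ) (Bool.rec (motive := fun _ => ℕ) cA4_288 cA4_289 (Nat.ble 289 j)) (Bool.rec (motive := fun _ => ℕ) cA4_290 cA4_291 (Nat.ble 291 j)) (Nat.ble 290 j)) (Bool.rec (motive := fun _ => ℕ) (Bool.rec (motive := fun _ => ℕ) cA4_292 cA4_293 (Nat.ble 293 j)) (Bool.rec (motive := fun _ => ℕ) cA4_294 cA4_295 (Nat.ble 295 j)) (Nat.ble 294 j)) (Nat.ble 292 j))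
noncomputable def chA4_n0_37 (j : ℕ) : ℕ := (Bool.rec (motive := fun _ => ℕ) (Bool.rec (motive := fun _ => ℕ) (Bool.rec (motive := fun _ => ℕ) cA4_296 cA4_297 (Nat.ble 297 j)) (Bool.rec (motive := fun _ => ℕ) cA4_298 cA4_299 (Nat.ble 299 j)) (Nat.ble 298 j)) (Bool.rec (motive := fun _ => ℕ) (Bool.rec (motive := fun _ => ℕ) cA4_300 cA4_301 (Nat.ble 301 j)) (Bool.rec (motive := fun _ => ℕ) cA4_302 cA4_303 (Nat.ble 303 j)) (Nat.ble 302 j)) (Nat.ble 300 j))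
noncomputable def chA4_n0_38 (j : ℕ) : ℕ := (Bool.rec (motive := fun _ => ℕ) (Bool.rec (motive := fun _ => ℕ) (Bool.rec (motive := fun _ => ℕ) cA4_304 cA4_305 (Nat.ble 305 j)) (Bool.rec (motive := fun _ => ℕ) cA4_306 cA4_307 (Nat.ble 307 j)) (Nat.ble 306 j)) (Bool.rec (motive := fun _ => ℕ) (Bool.rec (motive := fun _ => ℕ) cA4_308 cA4_309 (Nat.ble 309 j)) (Bool.rec (motive := fun _ => ℕ) cA4_310 cA4_311 (Nat.ble 311 j)) (Nat.ble 310 j)) (Nat.ble 308 j))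
noncomputable def chA4_n0_39 (j : ℕ) : ℕ := (Bool.rec (motive := fun _ => ℕ) (Bool.rec (motive := fun _ => ℕ) (Bool.rec (motive := fun _ => ℕ) cA4_312 cA4_313 (Nat.ble 313 j)) (Bool.rec (motive := fun _ => ℕ) cA4_314 cA4_315 (Nat.ble 315 j)) (Nat.ble 314 j)) (Bool.rec (motive := fun _ => ℕ) (Bool.rec (motive := fun _ => ℕ) cA4_316 cA4_317 (Nat.ble 317 j)) (Bool.rec (motive := fun _ => ℕ) cA4_318 cA4_319 (Nat.ble 319 j)) (Nat.ble 318 j)) (Nat.ble 316 j))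
noncomputable def chA4_n0_40 (j : ℕ) : ℕ := (Bool.rec (motive := fun _ => ℕ) (Bool.rec (motive := fun _ => ℕ) (Bool.rec (motive := fun _ => ℕ) cA4_320 cA4_321 (Nat.ble 321 j)) (Bool.rec (motive := fun _ => ℕ) cA4_322 cA4_323 (Nat.ble 323 j)) (Nat.ble 322 j)) (Bool.rec (motive := fun _ => ℕ) (Bool.rec (motive := fun _ => ℕ) cA4_324 cA4_325 (Nat.ble 325 j)) (Bool.rec (motive := fun _ => ℕ) cA4_326 cA4_327 (Nat.ble 327 j)) (Nat.ble 326 j)) (Nat.ble 324 j))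
noncomputable def chA4_n0_41 (j : ℕ) : ℕ := (Bool.rec (motive := fun _ => ℕ) (Bool.rec (motive := fun _ => ℕ) (Bool.rec (motive := fun _ => ℕ) cA4_328 cA4_329 (Nat.ble 329 j)) (Bool.rec (motive := fun _ => ℕ) cA4_330 cA4_331 (Nat.ble 331 j)) (Nat.ble 330 j)) (Bool.rec (motive := fun _ => ℕ) (Bool.rec (motive := fun _ => ℕ) cA4_332 cA4_333 (Nat.ble 333 j)) (Bool.rec (motive := fun _ => ℕ) cA4_334 cA4_335 (Nat.ble 335 j)) (Nat.ble 334 j)) (Nat.ble 332 j))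
noncomputable def chA4_n0_42 (j : ℕ) : ℕ := (Bool.rec (motive := fun _ => ℕ) (Bool.rec (motive := fun _ => ℕ) (Bool.rec (motive := fun _ => ℕ) cA4_336 cA4_337 (Nat.ble 337 j)) (Bool.rec (motive := fun _ => ℕ) cA4_338 cA4_339 (Nat.ble 339 j)) (Nat.ble 338 j)) (Bool.rec (motive := fun _ => ℕ) (Bool.rec (motive := fun _ => ℕ) cA4_340 cA4_341 (Nat.ble 341 j)) (Bool.rec (motive := fun _ => ℕ) cA4_342 cA4_343 (Nat.ble 343 j)) (Nat.ble 342 j)) (Nat.ble 340 j))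
noncomputable def chA4_n0_43 (j : ℕ) : ℕ := (Bool.rec (motive := fun _ => ℕ) (Bool.rec (motive := fun _ => ℕ) (Bool.rec (motive := fun _ => ℕ) cA4_344 cA4_345 (Nat.ble 345 j)) (Bool.rec (motive := fun _ => ℕ) cA4_346 cA4_347 (Nat.ble 347 j)) (Nat.ble 346 j)) (Bool.rec (motive := fun _ => ℕ) (Bool.rec (motive := fun _ => ℕ) cA4_348 cA4_349 (Nat.ble 349 j)) (Bool.rec (motive := fun _ => ℕ) cA4_350 cA4_351 (Nat.ble 351 j)) (Nat.ble 350 j)) (Nat.ble 348 j))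
noncomputable def chA4_n0_44 (j : ℕ) : ℕ := (Bool.rec (motive := fun _ => ℕ) (Bool.rec (motive := fun _ => ℕ) (Bool.rec (motive := fun _ => ℕ) cA4_352 cA4_353 (Nat.ble 353 j)) (Bool.rec (motive := fun _ => ℕ) cA4_354 cA4_355 (Nat.ble 355 j)) (Nat.ble 354 j)) (Bool.rec (motive := fun _ => ℕ) (Bool.rec (motive := fun _ => ℕ) cA4_356 cA4_357 (Nat.ble 357 j)) (Bool.rec (motive := fun _ => ℕ) cA4_358 cA4_359 (Nat.ble 359 j)) (Nat.ble 358 j)) (Nat.ble 356 j))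
noncomputable def chA4_n0_45 (j : ℕ) : ℕ := (Bool.rec (motive := fun _ => ℕ) (Bool.rec (motive := fun _ => ℕ) (Bool.rec (motive := fun _ => ℕ) cA4_360 cA4_361 (Nat.ble 361 j)) (Bool.rec (motive := fun _ => ℕ) cA4_362 cA4_363 (Nat.ble 363 j)) (Nat.ble 362 j)) (Bool.rec (motive := fun _ => ℕ) (Bool.rec (motive := fun _ => ℕ) cA4_364 cA4_365 (Nat.ble 365 j)) (Bool.rec (motive := fun _ => ℕ) cA4_366 cA4_367 (Nat.ble 367 j)) (Nat.ble 366 j)) (Nat.ble 364 j))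
noncomputable def chA4_n0_46 (j : ℕ) : ℕ := (Bool.rec (motive := fun _ => ℕ) (Bool.rec (motive := fun _ => ℕ) (Bool.rec (motive := fun _ => ℕ) cA4_368 cA4_369 (Nat.ble 369 j)) (Bool.rec (motive := fun _ => ℕ) cA4_370 cA4_371 (Nat.ble 371 j)) (Nat.ble 370 j)) (Bool.rec (motive := fun _ => ℕ) (Bool.rec (motive := fun _ => ℕ) cA4_372 cA4_373 (Nat.ble 373 j)) (Bool.rec (motive := fun _ => ℕ) cA4_374 cA4_375 (Nat.ble 375 j)) (Nat.ble 374 j)) (Nat.ble 372 j))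
noncomputable def chA4_n0_47 (j : ℕ) : ℕ := (Bool.rec (motive := fun _ => ℕ) (Bool.rec (motive := fun _ => ℕ) (Bool.rec (motive := fun _ => ℕ) cA4_376 cA4_377 (Nat.ble 377 j)) (Bool.rec (motive := fun _ => ℕ) cA4_378 cA4_379 (Nat.ble 379 j)) (Nat.ble 378 j)) (Bool.rec (motive := fun _ => ℕ) (Bool.rec (motive := fun _ => ℕ) cA4_380 cA4_381 (Nat.ble 381 j)) (Bool.rec (motive := fun _ => ℕ) cA4_382 cA4_383 (Nat.ble 383 j)) (Nat.ble 382 j)) (Nat.ble 380 j))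
noncomputable def chA4_n0_48 (j : ℕ) : ℕ := (Bool.rec (motive := fun _ => ℕ) (Bool.rec (motive := fun _ => ℕ) (Bool.rec (motive := fun _ => ℕ) cA4_384 cA4_385 (Nat.ble 385 j)) (Bool.rec (motive := fun _ => ℕ) cA4_386 cA4_387 (Nat.ble 387 j)) (Nat.ble 386 j)) (Bool.rec (motive := fun _ => ℕ) (Bool.rec (motive := fun _ => ℕ) cA4_388 cA4_389 (Nat.ble 389 j)) (Bool.rec (motive := fun _ => ℕ) cA4_390 cA4_391 (Nat.ble 391 j)) (Nat.ble 390 j)) (Nat.ble 388 j))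
noncomputable def chA4_n0_49 (j : ℕ) : ℕ := (Bool.rec (motive := fun _ => ℕ) (Bool.rec (motive := fun _ => ℕ) (Bool.rec (motive := fun _ => ℕ) cA4_392 cA4_393 (Nat.ble 393 j)) (Bool.rec (motive := fun _ => ℕ) cA4_394 cA4_395 (Nat.ble 395 j)) (Nat.ble 394 j)) (Bool.rec (motive := fun _ => ℕ) (Bool.rec (motive := fun _ => ℕ) cA4_396 cA4_397 (Nat.ble 397 j)) (Bool.rec (motive := fun _ => ℕ) cA4_398 cA4_399 (Nat.ble 399 j)) (Nat.ble 398 j)) (Nat.ble 396 j))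
noncomputable def chA4_n0_50 (j : ℕ) : ℕ := (Bool.rec (motive := fun _ => ℕ) (Bool.rec (motive := fun _ => ℕ) (Bool.rec (motive := fun _ => ℕ) cA4_400 cA4_401 (Nat.ble 401 j)) (Bool.rec (motive := fun _ => ℕ) cA4_402 cA4_403 (Nat.ble 403 j)) (Nat.ble 402 j)) (Bool.rec (motive := fun _ => ℕ) (Bool.rec (motive := fun _ => ℕ) cA4_404 cA4_405 (Nat.ble 405 j)) (Bool.rec (motive := fun _ => ℕ) cA4_406 cA4_407 (Nat.ble 407 j)) (Nat.ble 406 j)) (Nat.ble 404 j))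
noncomputable def chA4_n0_51 (j : ℕ) : ℕ := (Bool.rec (motive := fun _ => ℕ) (Bool.rec (motive := fun _ => ℕ) (Bool.rec (motive := fun _ => ℕ) cA4_408 cA4_409 (Nat.ble 409 j)) (Bool.rec (motive := fun _ => ℕ) cA4_410 cA4_411 (Nat.ble 411 j)) (Nat.ble 410 j)) (Bool.rec (motive := fun _ => ℕ) (Bool.rec (motive := fun _ => ℕ) cA4_412 cA4_413 (Nat.ble 413 j)) (Bool.rec (motive := fun _ => ℕ) cA4_414 cA4_415 (Nat.ble 415 j)) (Nat.ble 414 j)) (Nat.ble 412 j))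
noncomputable def chA4_n0_52 (j : ℕ) : ℕ := (Bool.rec (motive := fun _ => ℕ) (Bool.rec (motive := fun _ => ℕ) (Bool.rec (motive := fun _ => ℕ) cA4_416 cA4_417 (Nat.ble 417 j)) (Bool.rec (motive := fun _ => ℕ) cA4_418 cA4_419 (Nat.ble 419 j)) (Nat.ble 418 j)) (Bool.rec (motive := fun _ => ℕ) (Bool.rec (motive := fun _ => ℕ) cA4_420 cA4_421 (Nat.ble 421 j)) (Bool.rec (motive := fun _ => ℕ) cA4_422 cA4_423 (Nat.ble 423 j)) (Nat.ble 422 j)) (Nat.ble 420 j))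
noncomputable def chA4_n0_53 (j : ℕ) : ℕ := (Bool.rec (motive := fun _ => ℕ) (Bool.rec (motive := fun _ => ℕ) (Bool.rec (motive := fun _ => ℕ) cA4_424 cA4_425 (Nat.ble 425 j)) (Bool.rec (motive := fun _ => ℕ) cA4_426 cA4_427 (Nat.ble 427 j)) (Nat.ble 426 j)) (Bool.rec (motive := fun _ => ℕ) (Bool.rec (motive := fun _ => ℕ) cA4_428 cA4_429 (Nat.ble 429 j)) (Bool.rec (motive := fun _ => ℕ) cA4_430 cA4_431 (Nat.ble 431 j)) (Nat.ble 430 j)) (Nat.ble 428 j))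
noncomputable def chA4_n0_54 (j : ℕ) : ℕ := (Bool.rec (motive := fun _ => ℕ) (Bool.rec (motive := fun _ => ℕ) (Bool.rec (motive := fun _ => ℕ) cA4_432 cA4_433 (Nat.ble 433 j)) (Bool.rec (motive := fun _ => ℕ) cA4_434 cA4_435 (Nat.ble 435 j)) (Nat.ble 434 j)) (Bool.rec (motive := fun _ => ℕ) (Bool.rec (motive := fun _ => ℕ) cA4_436 cA4_437 (Nat.ble 437 j)) (Bool.rec (motive := fun _ => ℕ) cA4_438 cA4_439 (Nat.ble 439 j)) (Nat.ble 438 j)) (Nat.ble 436 j))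
noncomputable def chA4_n0_55 (j : ℕ) : ℕ := (Bool.rec (motive := fun _ => ℕ) (Bool.rec (motive := fun _ => ℕ) (Bool.rec (motive := fun _ => ℕ) cA4_440 cA4_441 (Nat.ble 441 j)) (Bool.rec (motive := fun _ => ℕ) cA4_442 cA4_443 (Nat.ble 443 j)) (Nat.ble 442 j)) (Bool.rec (motive := fun _ => ℕ) (Bool.rec (motive := fun _ => ℕ) cA4_444 cA4_445 (Nat.ble 445 j)) (Bool.rec (motive := fun _ => ℕ) cA4_446 cA4_447 (Nat.ble 447 j)) (Nat.ble 446 j)) (Nat.ble 444 j))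
noncomputable def chA4_n0_56 (j : ℕ) : ℕ := (Bool.rec (motive := fun _ => ℕ) (Bool.rec (motive := fun _ => ℕ) (Bool.rec (motive := fun _ => ℕ) cA4_448 cA4_449 (Nat.ble 449 j)) (Bool.rec (motive := fun _ => ℕ) cA4_450 cA4_451 (Nat.ble 451 j)) (Nat.ble 450 j)) (Bool.rec (motive := fun _ => ℕ) (Bool.rec (motive := fun _ => ℕ) cA4_452 cA4_453 (Nat.ble 453 j)) (Bool.rec (motive := fun _ => ℕ) cA4_454 cA4_455 (Nat.ble 455 j)) (Nat.ble 454 j)) (Nat.ble 452 j))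
noncomputable def chA4_n0_57 (j : ℕ) : ℕ := (Bool.rec (motive := fun _ => ℕ) (Bool.rec (motive := fun _ => ℕ) (Bool.rec (motive := fun _ => ℕ) cA4_456 cA4_457 (Nat.ble 457 j)) (Bool.rec (motive := fun _ => ℕ) cA4_458 cA4_459 (Nat.ble 459 j)) (Nat.ble 458 j)) (Bool.rec (motive := fun _ => ℕ) (Bool.rec (motive := fun _ => ℕ) cA4_460 cA4_461 (Nat.ble 461 j)) (Bool.rec (motive := fun _ => ℕ) cA4_462 cA4_463 (Nat.ble 463 j)) (Nat.ble 462 j)) (Nat.ble 460 j))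
noncomputable def chA4_n0_58 (j : ℕ) : ℕ := (Bool.rec (motive := fun _ => ℕ) (Bool.rec (motive := fun _ => ℕ) (Bool.rec (motive := fun _ => ℕ) cA4_464 cA4_465 (Nat.ble 465 j)) (Bool.rec (motive := fun _ => ℕ) cA4_466 cA4_467 (Nat.ble 467 j)) (Nat.ble 466 j)) (Bool.rec (motive := fun _ => ℕ) (Bool.rec (motive := fun _ => ℕ) cA4_468 cA4_469 (Nat.ble 469 j)) (Bool.rec (motive := fun _ => ℕ) cA4_470 cA4_471 (Nat.ble 471 j)) (Nat.ble 470 j)) (Nat.ble 468 j))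
noncomputable def chA4_n0_59 (j : ℕ) : ℕ := (Bool.rec (motive := fun _ => ℕ) (Bool.rec (motive := fun _ => ℕ) (Bool.rec (motive := fun _ => ℕ) cA4_472 cA4_473 (Nat.ble 473 j)) (Bool.rec (motive := fun _ => ℕ) cA4_474 cA4_475 (Nat.ble 475 j)) (Nat.ble 474 j)) (Bool.rec (motive := fun _ => ℕ) (Bool.rec (motive := fun _ => ℕ) cA4_476 cA4_477 (Nat.ble 477 j)) (Bool.rec (motive := fun _ => ℕ) cA4_478 cA4_479 (Nat.ble 479 j)) (Nat.ble 478 j)) (Nat.ble 476 j))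
noncomputable def chA4_n0_60 (j : ℕ) : ℕ := (Bool.rec (motive := fun _ => ℕ) (Bool.rec (motive := fun _ => ℕ) (Bool.rec (motive := fun _ => ℕ) cA4_480 cA4_481 (Nat.ble 481 j)) (Bool.rec (motive := fun _ => ℕ) cA4_482 cA4_483 (Nat.ble 483 j)) (Nat.ble 482 j)) (Bool.rec (motive := fun _ => ℕ) (Bool.rec (motive := fun _ => ℕ) cA4_484 cA4_485 (Nat.ble 485 j)) (Bool.rec (motive := fun _ => ℕ) cA4_486 cA4_487 (Nat.ble 487 j)) (Nat.ble 486 j)) (Nat.ble 484 j))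
noncomputable def chA4_n0_61 (j : ℕ) : ℕ := (Bool.rec (motive := fun _ => ℕ) (Bool.rec (motive := fun _ => ℕ) (Bool.rec (motive := fun _ => ℕ) cA4_488 cA4_489 (Nat.ble 489 j)) (Bool.rec (motive := fun _ => ℕ) cA4_490 cA4_491 (Nat.ble 491 j)) (Nat.ble 490 j)) (Bool.rec (motive := fun _ => ℕ) (Bool.rec (motive := fun _ => ℕ) cA4_492 cA4_493 (Nat.ble 493 j)) (Bool.rec (motive := fun _ => ℕ) cA4_494 cA4_495 (Nat.ble 495 j)) (Nat.ble 494 j)) (Nat.ble 492 j))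
noncomputable def chA4_n0_62 (j : ℕ) : ℕ := (Bool.rec (motive := fun _ => ℕ) (Bool.rec (motive := fun _ => ℕ) (Bool.rec (motive := fun _ => ℕ) cA4_496 cA4_497 (Nat.ble 497 j)) (Bool.rec (motive := fun _ => ℕ) cA4_498 cA4_499 (Nat.ble 499 j)) (Nat.ble 498 j)) (Bool.rec (motive := fun _ => ℕ) (Bool.rec (motive := fun _ => ℕ) cA4_500 cA4_501 (Nat.ble 501 j)) (Bool.rec (motive := fun _ => ℕ) cA4_502 cA4_503 (Nat.ble 503 j)) (Nat.ble 502 j)) (Nat.ble 500 j))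
noncomputable def chA4_n0_63 (j : ℕ) : ℕ := (Bool.rec (motive := fun _ => ℕ) (Bool.rec (motive := fun _ => ℕ) (Bool.rec (motive := fun _ => ℕ) cA4_504 cA4_505 (Nat.ble 505 j)) (Bool.rec (motive := fun _ => ℕ) cA4_506 cA4_507 (Nat.ble 507 j)) (Nat.ble 506 j)) (Bool.rec (motive := fun _ => ℕ) (Bool.rec (motive := fun _ => ℕ) cA4_508 cA4_509 (Nat.ble 509 j)) (Bool.rec (motive := fun _ => ℕ) cA4_510 cA4_511 (Nat.ble 511 j)) (Nat.ble 510 j)) (Nat.ble 508 j))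
noncomputable def chA4_n0_64 (j : ℕ) : ℕ := (Bool.rec (motive := fun _ => ℕ) (Bool.rec (motive := fun _ => ℕ) (Bool.rec (motive := fun _ => ℕ) cA4_512 cA4_513 (Nat.ble 513 j)) (Bool.rec (motive := fun _ => ℕ) cA4_514 cA4_515 (Nat.ble 515 j)) (Nat.ble 514 j)) (Bool.rec (motive := fun _ => ℕ) (Bool.rec (motive := fun _ => ℕ) cA4_516 cA4_517 (Nat.ble 517 j)) (Bool.rec (motive := fun _ => ℕ) cA4_518 cA4_519 (Nat.ble 519 j)) (Nat.ble 518 j)) (Nat.ble 516 j))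
noncomputable def chA4_n0_65 (j : ℕ) : ℕ := (Bool.rec (motive := fun _ => ℕ) (Bool.rec (motive := fun _ => ℕ) (Bool.rec (motive := fun _ => ℕ) cA4_520 cA4_521 (Nat.ble 521 j)) (Bool.rec (motive := fun _ => ℕ) cA4_522 cA4_523 (Nat.ble 523 j)) (Nat.ble 522 j)) (Bool.rec (motive := fun _ => ℕ) (Bool.rec (motive := fun _ => ℕ) cA4_524 cA4_525 (Nat.ble 525 j)) (Bool.rec (motive := fun _ => ℕ) cA4_526 cA4_527 (Nat.ble 527 j)) (Nat.ble 526 j)) (Nat.ble 524 j))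
noncomputable def chA4_n0_66 (j : ℕ) : ℕ := (Bool.rec (motive := fun _ => ℕ) (Bool.rec (motive := fun _ => ℕ) (Bool.rec (motive := fun _ => ℕ) cA4_528 cA4_529 (Nat.ble 529 j)) (Bool.rec (motive := fun _ => ℕ) cA4_530 cA4_531 (Nat.ble 531 j)) (Nat.ble 530 j)) (Bool.rec (motive := fun _ => ℕ) (Bool.rec (motive := fun _ => ℕ) cA4_532 cA4_533 (Nat.ble 533 j)) (Bool.rec (motive := fun _ => ℕ) cA4_534 cA4_535 (Nat.ble 535 j)) (Nat.ble 534 j)) (Nat.ble 532 j))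
noncomputable def chA4_n0_67 (j : ℕ) : ℕ := (Bool.rec (motive := fun _ => ℕ) (Bool.rec (motive := fun _ => ℕ) (Bool.rec (motive := fun _ => ℕ) cA4_536 cA4_537 (Nat.ble 537 j)) (Bool.rec (motive := fun _ => ℕ) cA4_538 cA4_539 (Nat.ble 539 j)) (Nat.ble 538 j)) (Bool.rec (motive := fun _ => ℕ) (Bool.rec (motive := fun _ => ℕ) cA4_540 cA4_541 (Nat.ble 541 j)) (Bool.rec (motive := fun _ => ℕ) cA4_542 cA4_543 (Nat.ble 543 j)) (Nat.ble 542 j)) (Nat.ble 540 j))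
noncomputable def chA4_n0_68 (j : ℕ) : ℕ := (Bool.rec (motive := fun _ => ℕ) (Bool.rec (motive := fun _ => ℕ) (Bool.rec (motive := fun _ => ℕ) cA4_544 cA4_545 (Nat.ble 545 j)) (Bool.rec (motive := fun _ => ℕ) cA4_546 cA4_547 (Nat.ble 547 j)) (Nat.ble 546 j)) (Bool.rec (motive := fun _ => ℕ) (Bool.rec (motive := fun _ => ℕ) cA4_548 cA4_549 (Nat.ble 549 j)) (Bool.rec (motive := fun _ => ℕ) cA4_550 cA4_551 (Nat.ble 551 j)) (Nat.ble 550 j)) (Nat.ble 548 j))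
noncomputable def chA4_n0_69 (j : ℕ) : ℕ := (Bool.rec (motive := fun _ => ℕ) (Bool.rec (motive := fun _ => ℕ) (Bool.rec (motive := fun _ => ℕ) cA4_552 cA4_553 (Nat.ble 553 j)) (Bool.rec (motive := fun _ => ℕ) cA4_554 cA4_555 (Nat.ble 555 j)) (Nat.ble 554 j)) (Bool.rec (motive := fun _ => ℕ) (Bool.rec (motive := fun _ => ℕ) cA4_556 cA4_557 (Nat.ble 557 j)) (Bool.rec (motive := fun _ => ℕ) cA4_558 cA4_559 (Nat.ble 559 j)) (Nat.ble 558 j)) (Nat.ble 556 j))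
noncomputable def chA4_n0_70 (j : ℕ) : ℕ := (Bool.rec (motive := fun _ => ℕ) (Bool.rec (motive := fun _ => ℕ) (Bool.rec (motive := fun _ => ℕ) cA4_560 cA4_561 (Nat.ble 561 j)) (Bool.rec (motive := fun _ => ℕ) cA4_562 cA4_563 (Nat.ble 563 j)) (Nat.ble 562 j)) (Bool.rec (motive := fun _ => ℕ) (Bool.rec (motive := fun _ => ℕ) cA4_564 cA4_565 (Nat.ble 565 j)) (Bool.rec (motive := fun _ => ℕ) cA4_566 cA4_567 (Nat.ble 567 j)) (Nat.ble 566 j)) (Nat.ble 564 j))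
noncomputable def chA4_n0_71 (j : ℕ) : ℕ := (Bool.rec (motive := fun _ => ℕ) (Bool.rec (motive := fun _ => ℕ) (Bool.rec (motive := fun _ => ℕ) cA4_568 cA4_569 (Nat.ble 569 j)) (Bool.rec (motive := fun _ => ℕ) cA4_570 cA4_571 (Nat.ble 571 j)) (Nat.ble 570 j)) (Bool.rec (motive := fun _ => ℕ) (Bool.rec (motive := fun _ => ℕ) cA4_572 cA4_573 (Nat.ble 573 j)) (Bool.rec (motive := fun _ => ℕ) cA4_574 cA4_575 (Nat.ble 575 j)) (Nat.ble 574 j)) (Nat.ble 572 j))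
noncomputable def chA4_n0_72 (j : ℕ) : ℕ := (Bool.rec (motive := fun _ => ℕ) (Bool.rec (motive := fun _ => ℕ) (Bool.rec (motive := fun _ => ℕ) cA4_576 cA4_577 (Nat.ble 577 j)) (Bool.rec (motive := fun _ => ℕ) cA4_578 cA4_579 (Nat.ble 579 j)) (Nat.ble 578 j)) (Bool.rec (motive := fun _ => ℕ) (Bool.rec (motive := fun _ => ℕ) cA4_580 cA4_581 (Nat.ble 581 j)) (Bool.rec (motive := fun _ => ℕ) cA4_582 cA4_583 (Nat.ble 583 j)) (Nat.ble 582 j)) (Nat.ble 580 j))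
noncomputable def chA4_n0_73 (j : ℕ) : ℕ := (Bool.rec (motive := fun _ => ℕ) (Bool.rec (motive := fun _ => ℕ) (Bool.rec (motive := fun _ => ℕ) cA4_584 cA4_585 (Nat.ble 585 j)) (Bool.rec (motive := fun _ => ℕ) cA4_586 cA4_587 (Nat.ble 587 j)) (Nat.ble 586 j)) (Bool.rec (motive := fun _ => ℕ) (Bool.rec (motive := fun _ => ℕ) cA4_588 cA4_589 (Nat.ble 589 j)) (Bool.rec (motive := fun _ => ℕ) cA4_590 cA4_591 (Nat.ble 591 j)) (Nat.ble 590 j)) (Nat.ble 588 j))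
noncomputable def chA4_n0_74 (j : ℕ) : ℕ := (Bool.rec (motive := fun _ => ℕ) (Bool.rec (motive := fun _ => ℕ) (Bool.rec (motive := fun _ => ℕ) cA4_592 cA4_593 (Nat.ble 593 j)) (Bool.rec (motive := fun _ => ℕ) cA4_594 cA4_595 (Nat.ble 595 j)) (Nat.ble 594 j)) (Bool.rec (motive := fun _ => ℕ) (Bool.rec (motive := fun _ => ℕ) cA4_596 cA4_597 (Nat.ble 597 j)) (Bool.rec (motive := fun _ => ℕ) cA4_598 cA4_599 (Nat.ble 599 j)) (Nat.ble 598 j)) (Nat.ble 596 j))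
noncomputable def chA4_n0_75 (j : ℕ) : ℕ := (Bool.rec (motive := fun _ => ℕ) (Bool.rec (motive := fun _ => ℕ) (Bool.rec (motive := fun _ => ℕ) cA4_600 cA4_601 (Nat.ble 601 j)) (Bool.rec (motive := fun _ => ℕ) cA4_602 cA4_603 (Nat.ble 603 j)) (Nat.ble 602 j)) (Bool.rec (motive := fun _ => ℕ) (Bool.rec (motive := fun _ => ℕ) cA4_604 cA4_605 (Nat.ble 605 j)) (Bool.rec (motive := fun _ => ℕ) cA4_606 cA4_607 (Nat.ble 607 j)) (Nat.ble 606 j)) (Nat.ble 604 j))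
noncomputable def chA4_n0_76 (j : ℕ) : ℕ := (Bool.rec (motive := fun _ => ℕ) (Bool.rec (motive := fun _ => ℕ) (Bool.rec (motive := fun _ => ℕ) cA4_608 cA4_609 (Nat.ble 609 j)) (Bool.rec (motive := fun _ => ℕ) cA4_610 cA4_611 (Nat.ble 611 j)) (Nat.ble 610 j)) (Bool.rec (motive := fun _ => ℕ) (Bool.rec (motive := fun _ => ℕ) cA4_612 cA4_613 (Nat.ble 613 j)) (Bool.rec (motive := fun _ => ℕ) cA4_614 cA4_615 (Nat.ble 615 j)) (Nat.ble 614 j)) (Nat.ble 612 j))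
noncomputable def chA4_n0_77 (j : ℕ) : ℕ := (Bool.rec (motive := fun _ => ℕ) (Bool.rec (motive := fun _ => ℕ) (Bool.rec (motive := fun _ => ℕ) cA4_616 cA4_617 (Nat.ble 617 j)) (Bool.rec (motive := fun _ => ℕ) cA4_618 cA4_619 (Nat.ble 619 j)) (Nat.ble 618 j)) (Bool.rec (motive := fun _ => ℕ) (Bool.rec (motive := fun _ => ℕ) cA4_620 cA4_621 (Nat.ble 621 j)) (Bool.rec (motive := fun _ => ℕ) cA4_622 cA4_623 (Nat.ble 623 j)) (Nat.ble 622 j)) (Nat.ble 620 j))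
noncomputable def chA4_n0_78 (j : ℕ) : ℕ := (Bool.rec (motive := fun _ => ℕ) (Bool.rec (motive := fun _ => ℕ) (Bool.rec (motive := fun _ => ℕ) cA4_624 cA4_625 (Nat.ble 625 j)) (Bool.rec (motive := fun _ => ℕ) cA4_626 cA4_627 (Nat.ble 627 j)) (Nat.ble 626 j)) (Bool.rec (motive := fun _ => ℕ) (Bool.rec (motive := fun _ => ℕ) cA4_628 cA4_629 (Nat.ble 629 j)) (Bool.rec (motive := fun _ => ℕ) cA4_630 cA4_631 (Nat.ble 631 j)) (Nat.ble 630 j)) (Nat.ble 628 j))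
noncomputable def chA4_n0_79 (j : ℕ) : ℕ := (Bool.rec (motive := fun _ => ℕ) (Bool.rec (motive := fun _ => ℕ) (Bool.rec (motive := fun _ => ℕ) cA4_632 cA4_633 (Nat.ble 633 j)) (Bool.rec (motive := fun _ => ℕ) cA4_634 cA4_635 (Nat.ble 635 j)) (Nat.ble 634 j)) (Bool.rec (motive := fun _ => ℕ) (Bool.rec (motive := fun _ => ℕ) cA4_636 cA4_637 (Nat.ble 637 j)) (Bool.rec (motive := fun _ => ℕ) cA4_638 cA4_639 (Nat.ble 639 j)) (Nat.ble 638 j)) (Nat.ble 636 j))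
noncomputable def chA4_n0_80 (j : ℕ) : ℕ := (Bool.rec (motive := fun _ => ℕ) (Bool.rec (motive := fun _ => ℕ) (Bool.rec (motive := fun _ => ℕ) cA4_640 cA4_641 (Nat.ble 641 j)) (Bool.rec (motive := fun _ => ℕ) cA4_642 cA4_643 (Nat.ble 643 j)) (Nat.ble 642 j)) (Bool.rec (motive := fun _ => ℕ) (Bool.rec (motive := fun _ => ℕ) cA4_644 cA4_645 (Nat.ble 645 j)) (Bool.rec (motive := fun _ => ℕ) cA4_646 cA4_647 (Nat.ble 647 j)) (Nat.ble 646 j)) (Nat.ble 644 j))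
noncomputable def chA4_n0_81 (j : ℕ) : ℕ := (Bool.rec (motive := fun _ => ℕ) (Bool.rec (motive := fun _ => ℕ) (Bool.rec (motive := fun _ => ℕ) cA4_648 cA4_649 (Nat.ble 649 j)) (Bool.rec (motive := fun _ => ℕ) cA4_650 cA4_651 (Nat.ble 651 j)) (Nat.ble 650 j)) (Bool.rec (motive := fun _ => ℕ) (Bool.rec (motive := fun _ => ℕ) cA4_652 cA4_653 (Nat.ble 653 j)) (Bool.rec (motive := fun _ => ℕ) cA4_654 cA4_655 (Nat.ble 655 j)) (Nat.ble 654 j)) (Nat.ble 652 j))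
noncomputable def chA4_n0_82 (j : ℕ) : ℕ := (Bool.rec (motive := fun _ => ℕ) (Bool.rec (motive := fun _ => ℕ) (Bool.rec (motive := fun _ => ℕ) cA4_656 cA4_657 (Nat.ble 657 j)) (Bool.rec (motive := fun _ => ℕ) cA4_658 cA4_659 (Nat.ble 659 j)) (Nat.ble 658 j)) (Bool.rec (motive := fun _ => ℕ) (Bool.rec (motive := fun _ => ℕ) cA4_660 cA4_661 (Nat.ble 661 j)) (Bool.rec (motive := fun _ => ℕ) cA4_662 cA4_663 (Nat.ble 663 j)) (Nat.ble 662 j)) (Nat.ble 660 j))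
noncomputable def chA4_n0_83 (j : ℕ) : ℕ := (Bool.rec (motive := fun _ => ℕ) (Bool.rec (motive := fun _ => ℕ) (Bool.rec (motive := fun _ => ℕ) cA4_664 cA4_665 (Nat.ble 665 j)) (Bool.rec (motive := fun _ => ℕ) cA4_666 cA4_667 (Nat.ble 667 j)) (Nat.ble 666 j)) (Bool.rec (motive := fun _ => ℕ) (Bool.rec (motive := fun _ => ℕ) cA4_668 cA4_669 (Nat.ble 669 j)) (Bool.rec (motive := fun _ => ℕ) cA4_670 cA4_671 (Nat.ble 671 j)) (Nat.ble 670 j)) (Nat.ble 668 j))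
noncomputable def chA4_n0_84 (j : ℕ) : ℕ := (Bool.rec (motive := fun _ => ℕ) (Bool.rec (motive := fun _ => ℕ) (Bool.rec (motive := fun _ => ℕ) cA4_672 cA4_673 (Nat.ble 673 j)) (Bool.rec (motive := fun _ => ℕ) cA4_674 cA4_675 (Nat.ble 675 j)) (Nat.ble 674 j)) (Bool.rec (motive := fun _ => ℕ) (Bool.rec (motive := fun _ => ℕ) cA4_676 cA4_677 (Nat.ble 677 j)) (Bool.rec (motive := fun _ => ℕ) cA4_678 cA4_679 (Nat.ble 679 j)) (Nat.ble 678 j)) (Nat.ble 676 j))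
noncomputable def chA4_n0_85 (j : ℕ) : ℕ := (Bool.rec (motive := fun _ => ℕ) (Bool.rec (motive := fun _ => ℕ) (Bool.rec (motive := fun _ => ℕ) cA4_680 cA4_681 (Nat.ble 681 j)) (Bool.rec (motive := fun _ => ℕ) cA4_682 cA4_683 (Nat.ble 683 j)) (Nat.ble 682 j)) (Bool.rec (motive := fun _ => ℕ) (Bool.rec (motive := fun _ => ℕ) cA4_684 cA4_685 (Nat.ble 685 j)) (Bool.rec (motive := fun _ => ℕ) cA4_686 cA4_687 (Nat.ble 687 j)) (Nat.ble 686 j)) (Nat.ble 684 j))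
noncomputable def chA4_n0_86 (j : ℕ) : ℕ := (Bool.rec (motive := fun _ => ℕ) (Bool.rec (motive := fun _ => ℕ) (Bool.rec (motive := fun _ => ℕ) cA4_688 cA4_689 (Nat.ble 689 j)) (Bool.rec (motive := fun _ => ℕ) cA4_690 cA4_691 (Nat.ble 691 j)) (Nat.ble 690 j)) (Bool.rec (motive := fun _ => ℕ) (Bool.rec (motive := fun _ => ℕ) cA4_692 cA4_693 (Nat.ble 693 j)) (Bool.rec (motive := fun _ => ℕ) cA4_694 cA4_695 (Nat.ble 695 j)) (Nat.ble 694 j)) (Nat.ble 692 j))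
noncomputable def chA4_n0_87 (j : ℕ) : ℕ := (Bool.rec (motive := fun _ => ℕ) (Bool.rec (motive := fun _ => ℕ) (Bool.rec (motive := fun _ => ℕ) cA4_696 cA4_697 (Nat.ble 697 j)) (Bool.rec (motive := fun _ => ℕ) cA4_698 cA4_699 (Nat.ble 699 j)) (Nat.ble 698 j)) (Bool.rec (motive := fun _ => ℕ) (Bool.rec (motive := fun _ => ℕ) cA4_700 cA4_701 (Nat.ble 701 j)) (Bool.rec (motive := fun _ => ℕ) cA4_702 cA4_703 (Nat.ble 703 j)) (Nat.ble 702 j)) (Nat.ble 700 j))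
noncomputable def chA4_n0_88 (j : ℕ) : ℕ := (Bool.rec (motive := fun _ => ℕ) (Bool.rec (motive := fun _ => ℕ) (Bool.rec (motive := fun _ => ℕ) cA4_704 cA4_705 (Nat.ble 705 j)) (Bool.rec (motive := fun _ => ℕ) cA4_706 cA4_707 (Nat.ble 707 j)) (Nat.ble 706 j)) (Bool.rec (motive := fun _ => ℕ) (Bool.rec (motive := fun _ => ℕ) cA4_708 cA4_709 (Nat.ble 709 j)) (Bool.rec (motive := fun _ => ℕ) cA4_710 cA4_711 (Nat.ble 711 j)) (Nat.ble 710 j)) (Nat.ble 708 j))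
noncomputable def chA4_n0_89 (j : ℕ) : ℕ := (Bool.rec (motive := fun _ => ℕ) (Bool.rec (motive := fun _ => ℕ) (Bool.rec (motive := fun _ => ℕ) cA4_712 cA4_713 (Nat.ble 713 j)) (Bool.rec (motive := fun _ => ℕ) cA4_714 cA4_715 (Nat.ble 715 j)) (Nat.ble 714 j)) (Bool.rec (motive := fun _ => ℕ) (Bool.rec (motive := fun _ => ℕ) cA4_716 cA4_717 (Nat.ble 717 j)) (Bool.rec (motive := fun _ => ℕ) cA4_718 cA4_719 (Nat.ble 719 j)) (Nat.ble 718 j)) (Nat.ble 716 j))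
noncomputable def chA4_n0_90 (j : ℕ) : ℕ := (Bool.rec (motive := fun _ => ℕ) (Bool.rec (motive := fun _ => ℕ) (Bool.rec (motive := fun _ => ℕ) cA4_720 cA4_721 (Nat.ble 721 j)) (Bool.rec (motive := fun _ => ℕ) cA4_722 cA4_723 (Nat.ble 723 j)) (Nat.ble 722 j)) (Bool.rec (motive := fun _ => ℕ) (Bool.rec (motive := fun _ => ℕ) cA4_724 cA4_725 (Nat.ble 725 j)) (Bool.rec (motive := fun _ => ℕ) cA4_726 cA4_727 (Nat.ble 727 j)) (Nat.ble 726 j)) (Nat.ble 724 j))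
noncomputable def chA4_n0_91 (j : ℕ) : ℕ := (Bool.rec (motive := fun _ => ℕ) (Bool.rec (motive := fun _ => ℕ) (Bool.rec (motive := fun _ => ℕ) cA4_728 cA4_729 (Nat.ble 729 j)) (Bool.rec (motive := fun _ => ℕ) cA4_730 cA4_731 (Nat.ble 731 j)) (Nat.ble 730 j)) (Bool.rec (motive := fun _ => ℕ) (Bool.rec (motive := fun _ => ℕ) cA4_732 cA4_733 (Nat.ble 733 j)) (Bool.rec (motive := fun _ => ℕ) cA4_734 cA4_735 (Nat.ble 735 j)) (Nat.ble 734 j)) (Nat.ble 732 j))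
noncomputable def chA4_n0_92 (j : ℕ) : ℕ := (Bool.rec (motive := fun _ => ℕ) (Bool.rec (motive := fun _ => ℕ) (Bool.rec (motive := fun _ => ℕ) cA4_736 cA4_737 (Nat.ble 737 j)) (Bool.rec (motive := fun _ => ℕ) cA4_738 cA4_739 (Nat.ble 739 j)) (Nat.ble 738 j)) (Bool.rec (motive := fun _ => ℕ) (Bool.rec (motive := fun _ => ℕ) cA4_740 cA4_741 (Nat.ble 741 j)) (Bool.rec (motive := fun _ => ℕ) cA4_742 cA4_743 (Nat.ble 743 j)) (Nat.ble 742 j)) (Nat.ble 740 j))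
noncomputable def chA4_n0_93 (j : ℕ) : ℕ := (Bool.rec (motive := fun _ => ℕ) (Bool.rec (motive := fun _ => ℕ) (Bool.rec (motive := fun _ => ℕ) cA4_744 cA4_745 (Nat.ble 745 j)) (Bool.rec (motive := fun _ => ℕ) cA4_746 cA4_747 (Nat.ble 747 j)) (Nat.ble 746 j)) (Bool.rec (motive := fun _ => ℕ) (Bool.rec (motive := fun _ => ℕ) cA4_748 cA4_749 (Nat.ble 749 j)) (Bool.rec (motive := fun _ => ℕ) cA4_750 cA4_751 (Nat.ble 751 j)) (Nat.ble 750 j)) (Nat.ble 748 j))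
noncomputable def chA4_n0_94 (j : ℕ) : ℕ := (Bool.rec (motive := fun _ => ℕ) (Bool.rec (motive := fun _ => ℕ) (Bool.rec (motive := fun _ => ℕ) cA4_752 cA4_753 (Nat.ble 753 j)) (Bool.rec (motive := fun _ => ℕ) cA4_754 cA4_755 (Nat.ble 755 j)) (Nat.ble 754 j)) (Bool.rec (motive := fun _ => ℕ) (Bool.rec (motive := fun _ => ℕ) cA4_756 cA4_757 (Nat.ble 757 j)) (Bool.rec (motive := fun _ => ℕ) cA4_758 cA4_759 (Nat.ble 759 j)) (Nat.ble 758 j)) (Nat.ble 756 j))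
noncomputable def chA4_n0_95 (j : ℕ) : ℕ := (Bool.rec (motive := fun _ => ℕ) (Bool.rec (motive := fun _ => ℕ) (Bool.rec (motive := fun _ => ℕ) cA4_760 cA4_761 (Nat.ble 761 j)) (Bool.rec (motive := fun _ => ℕ) cA4_762 cA4_763 (Nat.ble 763 j)) (Nat.ble 762 j)) (Bool.rec (motive := fun _ => ℕ) (Bool.rec (motive := fun _ => ℕ) cA4_764 cA4_765 (Nat.ble 765 j)) (Bool.rec (motive := fun _ => ℕ) cA4_766 cA4_767 (Nat.ble 767 j)) (Nat.ble 766 j)) (Nat.ble 764 j))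
noncomputable def chA4_n0_96 (j : ℕ) : ℕ := (Bool.rec (motive := fun _ => ℕ) (Bool.rec (motive := fun _ => ℕ) (Bool.rec (motive := fun _ => ℕ) cA4_768 cA4_769 (Nat.ble 769 j)) (Bool.rec (motive := fun _ => ℕ) cA4_770 cA4_771 (Nat.ble 771 j)) (Nat.ble 770 j)) (Bool.rec (motive := fun _ => ℕ) (Bool.rec (motive := fun _ => ℕ) cA4_772 cA4_773 (Nat.ble 773 j)) (Bool.rec (motive := fun _ => ℕ) cA4_774 cA4_775 (Nat.ble 775 j)) (Nat.ble 774 j)) (Nat.ble 772 j))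
noncomputable def chA4_n0_97 (j : ℕ) : ℕ := (Bool.rec (motive := fun _ => ℕ) (Bool.rec (motive := fun _ => ℕ) (Bool.rec (motive := fun _ => ℕ) cA4_776 cA4_777 (Nat.ble 777 j)) (Bool.rec (motive := fun _ => ℕ) cA4_778 cA4_779 (Nat.ble 779 j)) (Nat.ble 778 j)) (Bool.rec (motive := fun _ => ℕ) (Bool.rec (motive := fun _ => ℕ) cA4_780 cA4_781 (Nat.ble 781 j)) (Bool.rec (motive := fun _ => ℕ) cA4_782 cA4_783 (Nat.ble 783 j)) (Nat.ble 782 j)) (Nat.ble 780 j))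
noncomputable def chA4_n0_98 (j : ℕ) : ℕ := (Bool.rec (motive := fun _ => ℕ) (Bool.rec (motive := fun _ => ℕ) (Bool.rec (motive := fun _ => ℕ) cA4_784 cA4_785 (Nat.ble 785 j)) (Bool.rec (motive := fun _ => ℕ) cA4_786 cA4_787 (Nat.ble 787 j)) (Nat.ble 786 j)) (Bool.rec (motive := fun _ => ℕ) (Bool.rec (motive := fun _ => ℕ) cA4_788 cA4_789 (Nat.ble 789 j)) (Bool.rec (motive := fun _ => ℕ) cA4_790 cA4_791 (Nat.ble 791 j)) (Nat.ble 790 j)) (Nat.ble 788 j))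
noncomputable def chA4_n0_99 (j : ℕ) : ℕ := (Bool.rec (motive := fun _ => ℕ) (Bool.rec (motive := fun _ => ℕ) (Bool.rec (motive := fun _ => ℕ) cA4_792 cA4_793 (Nat.ble 793 j)) (Bool.rec (motive := fun _ => ℕ) cA4_794 cA4_795 (Nat.ble 795 j)) (Nat.ble 794 j)) (Bool.rec (motive := fun _ => ℕ) (Bool.rec (motive := fun _ => ℕ) cA4_796 cA4_797 (Nat.ble 797 j)) (Bool.rec (motive := fun _ => ℕ) cA4_798 cA4_799 (Nat.ble 799 j)) (Nat.ble 798 j)) (Nat.ble 796 j))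
noncomputable def chA4_n0_100 (j : ℕ) : ℕ := (Bool.rec (motive := fun _ => ℕ) (Bool.rec (motive := fun _ => ℕ) (Bool.rec (motive := fun _ => ℕ) cA4_800 cA4_801 (Nat.ble 801 j)) (Bool.rec (motive := fun _ => ℕ) cA4_802 cA4_803 (Nat.ble 803 j)) (Nat.ble 802 j)) (Bool.rec (motive := fun _ => ℕ) (Bool.rec (motive := fun _ => ℕ) cA4_804 cA4_805 (Nat.ble 805 j)) (Bool.rec (motive := fun _ => ℕ) cA4_806 cA4_807 (Nat.ble 807 j)) (Nat.ble 806 j)) (Nat.ble 804 j))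
noncomputable def chA4_n0_101 (j : ℕ) : ℕ := (Bool.rec (motive := fun _ => ℕ) (Bool.rec (motive := fun _ => ℕ) (Bool.rec (motive := fun _ => ℕ) cA4_808 cA4_809 (Nat.ble 809 j)) (Bool.rec (motive := fun _ => ℕ) cA4_810 cA4_811 (Nat.ble 811 j)) (Nat.ble 810 j)) (Bool.rec (motive := fun _ => ℕ) (Bool.rec (motive := fun _ => ℕ) cA4_812 cA4_813 (Nat.ble 813 j)) (Bool.rec (motive := fun _ => ℕ) cA4_814 cA4_815 (Nat.ble 815 j)) (Nat.ble 814 j)) (Nat.ble 812 j))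
noncomputable def chA4_n0_102 (j : ℕ) : ℕ := (Bool.rec (motive := fun _ => ℕ) (Bool.rec (motive := fun _ => ℕ) (Bool.rec (motive := fun _ => ℕ) cA4_816 cA4_817 (Nat.ble 817 j)) (Bool.rec (motive := fun _ => ℕ) cA4_818 cA4_819 (Nat.ble 819 j)) (Nat.ble 818 j)) (Bool.rec (motive := fun _ => ℕ) (Bool.rec (motive := fun _ => ℕ) cA4_820 cA4_821 (Nat.ble 821 j)) (Bool.rec (motive := fun _ => ℕ) cA4_822 cA4_823 (Nat.ble 823 j)) (Nat.ble 822 j)) (Nat.ble 820 j))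
noncomputable def chA4_n0_103 (j : ℕ) : ℕ := (Bool.rec (motive := fun _ => ℕ) (Bool.rec (motive := fun _ => ℕ) (Bool.rec (motive := fun _ => ℕ) cA4_824 cA4_825 (Nat.ble 825 j)) (Bool.rec (motive := fun _ => ℕ) cA4_826 cA4_827 (Nat.ble 827 j)) (Nat.ble 826 j)) (Bool.rec (motive := fun _ => ℕ) (Bool.rec (motive := fun _ => ℕ) cA4_828 cA4_829 (Nat.ble 829 j)) (Bool.rec (motive := fun _ => ℕ) cA4_830 cA4_831 (Nat.ble 831 j)) (Nat.ble 830 j)) (Nat.ble 828 j))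
noncomputable def chA4_n0_104 (j : ℕ) : ℕ := (Bool.rec (motive := fun _ => ℕ) (Bool.rec (motive := fun _ => ℕ) (Bool.rec (motive := fun _ => ℕ) cA4_832 cA4_833 (Nat.ble 833 j)) (Bool.rec (motive := fun _ => ℕ) cA4_834 cA4_835 (Nat.ble 835 j)) (Nat.ble 834 j)) (Bool.rec (motive := fun _ => ℕ) (Bool.rec (motive := fun _ => ℕ) cA4_836 cA4_837 (Nat.ble 837 j)) (Bool.rec (motive := fun _ => ℕ) cA4_838 cA4_839 (Nat.ble 839 j)) (Nat.ble 838 j)) (Nat.ble 836 j))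
noncomputable def chA4_n0_105 (j : ℕ) : ℕ := (Bool.rec (motive := fun _ => ℕ) (Bool.rec (motive := fun _ => ℕ) (Bool.rec (motive := fun _ => ℕ) cA4_840 cA4_841 (Nat.ble 841 j)) (Bool.rec (motive := fun _ => ℕ) cA4_842 cA4_843 (Nat.ble 843 j)) (Nat.ble 842 j)) (Bool.rec (motive := fun _ => ℕ) (Bool.rec (motive := fun _ => ℕ) cA4_844 cA4_845 (Nat.ble 845 j)) (Bool.rec (motive := fun _ => ℕ) cA4_846 cA4_847 (Nat.ble 847 j)) (Nat.ble 846 j)) (Nat.ble 844 j))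
noncomputable def chA4_n0_106 (j : ℕ) : ℕ := (Bool.rec (motive := fun _ => ℕ) (Bool.rec (motive := fun _ => ℕ) (Bool.rec (motive := fun _ => ℕ) cA4_848 cA4_849 (Nat.ble 849 j)) (Bool.rec (motive := fun _ => ℕ) cA4_850 cA4_851 (Nat.ble 851 j)) (Nat.ble 850 j)) (Bool.rec (motive := fun _ => ℕ) (Bool.rec (motive := fun _ => ℕ) cA4_852 cA4_853 (Nat.ble 853 j)) (Bool.rec (motive := fun _ => ℕ) cA4_854 cA4_855 (Nat.ble 855 j)) (Nat.ble 854 j)) (Nat.ble 852 j))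
noncomputable def chA4_n0_107 (j : ℕ) : ℕ := (Bool.rec (motive := fun _ => ℕ) (Bool.rec (motive := fun _ => ℕ) (Bool.rec (motive := fun _ => ℕ) cA4_856 cA4_857 (Nat.ble 857 j)) (Bool.rec (motive := fun _ => ℕ) cA4_858 cA4_859 (Nat.ble 859 j)) (Nat.ble 858 j)) (Bool.rec (motive := fun _ => ℕ) (Bool.rec (motive := fun _ => ℕ) cA4_860 cA4_861 (Nat.ble 861 j)) (Bool.rec (motive := fun _ => ℕ) cA4_862 cA4_863 (Nat.ble 863 j)) (Nat.ble 862 j)) (Nat.ble 860 j))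
noncomputable def chA4_n0_108 (j : ℕ) : ℕ := (Bool.rec (motive := fun _ => ℕ) (Bool.rec (motive := fun _ => ℕ) (Bool.rec (motive := fun _ => ℕ) cA4_864 cA4_865 (Nat.ble 865 j)) (Bool.rec (motive := fun _ => ℕ) cA4_866 cA4_867 (Nat.ble 867 j)) (Nat.ble 866 j)) (Bool.rec (motive := fun _ => ℕ) (Bool.rec (motive := fun _ => ℕ) cA4_868 cA4_869 (Nat.ble 869 j)) (Bool.rec (motive := fun _ => ℕ) cA4_870 cA4_871 (Nat.ble 871 j)) (Nat.ble 870 j)) (Nat.ble 868 j))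
noncomputable def chA4_n0_109 (j : ℕ) : ℕ := (Bool.rec (motive := fun _ => ℕ) (Bool.rec (motive := fun _ => ℕ) (Bool.rec (motive := fun _ => ℕ) cA4_872 cA4_873 (Nat.ble 873 j)) (Bool.rec (motive := fun _ => ℕ) cA4_874 cA4_875 (Nat.ble 875 j)) (Nat.ble 874 j)) (Bool.rec (motive := fun _ => ℕ) (Bool.rec (motive := fun _ => ℕ) cA4_876 cA4_877 (Nat.ble 877 j)) (Bool.rec (motive := fun _ => ℕ) cA4_878 cA4_879 (Nat.ble 879 j)) (Nat.ble 878 j)) (Nat.ble 876 j))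
noncomputable def chA4_n0_110 (j : ℕ) : ℕ := (Bool.rec (motive := fun _ => ℕ) (Bool.rec (motive := fun _ => ℕ) (Bool.rec (motive := fun _ => ℕ) cA4_880 cA4_881 (Nat.ble 881 j)) (Bool.rec (motive := fun _ => ℕ) cA4_882 cA4_883 (Nat.ble 883 j)) (Nat.ble 882 j)) (Bool.rec (motive := fun _ => ℕ) (Bool.rec (motive := fun _ => ℕ) cA4_884 cA4_885 (Nat.ble 885 j)) (Bool.rec (motive := fun _ => ℕ) cA4_886 cA4_887 (Nat.ble 887 j)) (Nat.ble 886 j)) (Nat.ble 884 j))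
noncomputable def chA4_n0_111 (j : ℕ) : ℕ := (Bool.rec (motive := fun _ => ℕ) (Bool.rec (motive := fun _ => ℕ) (Bool.rec (motive := fun _ => ℕ) cA4_888 cA4_889 (Nat.ble 889 j)) (Bool.rec (motive := fun _ => ℕ) cA4_890 cA4_891 (Nat.ble 891 j)) (Nat.ble 890 j)) (Bool.rec (motive := fun _ => ℕ) (Bool.rec (motive := fun _ => ℕ) cA4_892 cA4_893 (Nat.ble 893 j)) (Bool.rec (motive := fun _ => ℕ) cA4_894 cA4_895 (Nat.ble 895 j)) (Nat.ble 894 j)) (Nat.ble 892 j))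
noncomputable def chA4_n0_112 (j : ℕ) : ℕ := (Bool.rec (motive := fun _ => ℕ) (Bool.rec (motive := fun _ => ℕ) (Bool.rec (motive := fun _ => ℕ) cA4_896 cA4_897 (Nat.ble 897 j)) (Bool.rec (motive := fun _ => ℕ) cA4_898 cA4_899 (Nat.ble 899 j)) (Nat.ble 898 j)) (Bool.rec (motive := fun _ => ℕ) (Bool.rec (motive := fun _ => ℕ) cA4_900 cA4_901 (Nat.ble 901 j)) (Bool.rec (motive := fun _ => ℕ) cA4_902 cA4_903 (Nat.ble 903 j)) (Nat.ble 902 j)) (Nat.ble 900 j))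
noncomputable def chA4_n0_113 (j : ℕ) : ℕ := (Bool.rec (motive := fun _ => ℕ) (Bool.rec (motive := fun _ => ℕ) (Bool.rec (motive := fun _ => ℕ) cA4_904 cA4_905 (Nat.ble 905 j)) (Bool.rec (motive := fun _ => ℕ) cA4_906 cA4_907 (Nat.ble 907 j)) (Nat.ble 906 j)) (Bool.rec (motive := fun _ => ℕ) (Bool.rec (motive := fun _ => ℕ) cA4_908 cA4_909 (Nat.ble 909 j)) (Bool.rec (motive := fun _ => ℕ) cA4_910 cA4_911 (Nat.ble 911 j)) (Nat.ble 910 j)) (Nat.ble 908 j))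
noncomputable def chA4_n0_114 (j : ℕ) : ℕ := (Bool.rec (motive := fun _ => ℕ) (Bool.rec (motive := fun _ => ℕ) (Bool.rec (motive := fun _ => ℕ) cA4_912 cA4_913 (Nat.ble 913 j)) (Bool.rec (motive := fun _ => ℕ) cA4_914 cA4_915 (Nat.ble 915 j)) (Nat.ble 914 j)) (Bool.rec (motive := fun _ => ℕ) (Bool.rec (motive := fun _ => ℕ) cA4_916 cA4_917 (Nat.ble 917 j)) (Bool.rec (motive := fun _ => ℕ) cA4_918 cA4_919 (Nat.ble 919 j)) (Nat.ble 918 j)) (Nat.ble 916 j))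
noncomputable def chA4_n0_115 (j : ℕ) : ℕ := (Bool.rec (motive := fun _ => ℕ) (Bool.rec (motive := fun _ => ℕ) (Bool.rec (motive := fun _ => ℕ) cA4_920 cA4_921 (Nat.ble 921 j)) (Bool.rec (motive := fun _ => ℕ) cA4_922 cA4_923 (Nat.ble 923 j)) (Nat.ble 922 j)) (Bool.rec (motive := fun _ => ℕ) (Bool.rec (motive := fun _ => ℕ) cA4_924 cA4_925 (Nat.ble 925 j)) (Bool.rec (motive := fun _ => ℕ) cA4_926 cA4_927 (Nat.ble 927 j)) (Nat.ble 926 j)) (Nat.ble 924 j))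
noncomputable def chA4_n0_116 (j : ℕ) : ℕ := (Bool.rec (motive := fun _ => ℕ) (Bool.rec (motive := fun _ => ℕ) (Bool.rec (motive := fun _ => ℕ) cA4_928 cA4_929 (Nat.ble 929 j)) (Bool.rec (motive := fun _ => ℕ) cA4_930 cA4_931 (Nat.ble 931 j)) (Nat.ble 930 j)) (Bool.rec (motive := fun _ => ℕ) (Bool.rec (motive := fun _ => ℕ) cA4_932 cA4_933 (Nat.ble 933 j)) (Bool.rec (motive := fun _ => ℕ) cA4_934 cA4_935 (Nat.ble 935 j)) (Nat.ble 934 j)) (Nat.ble 932 j))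
noncomputable def chA4_n0_117 (j : ℕ) : ℕ := (Bool.rec (motive := fun _ => ℕ) (Bool.rec (motive := fun _ => ℕ) (Bool.rec (motive := fun _ => ℕ) cA4_936 cA4_937 (Nat.ble 937 j)) (Bool.rec (motive := fun _ => ℕ) cA4_938 cA4_939 (Nat.ble 939 j)) (Nat.ble 938 j)) (Bool.rec (motive := fun _ => ℕ) (Bool.rec (motive := fun _ => ℕ) cA4_940 cA4_941 (Nat.ble 941 j)) (Bool.rec (motive := fun _ => ℕ) cA4_942 cA4_943 (Nat.ble 943 j)) (Nat.ble 942 j)) (Nat.ble 940 j))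
noncomputable def chA4_n0_118 (j : ℕ) : ℕ := (Bool.rec (motive := fun _ => ℕ) (Bool.rec (motive := fun _ => ℕ) (Bool.rec (motive := fun _ => ℕ) cA4_944 cA4_945 (Nat.ble 945 j)) (Bool.rec (motive := fun _ => ℕ) cA4_946 cA4_947 (Nat.ble 947 j)) (Nat.ble 946 j)) (Bool.rec (motive := fun _ => ℕ) (Bool.rec (motive := fun _ => ℕ) cA4_948 cA4_949 (Nat.ble 949 j)) (Bool.rec (motive := fun _ => ℕ) cA4_950 cA4_951 (Nat.ble 951 j)) (Nat.ble 950 j)) (Nat.ble 948 j))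
noncomputable def chA4_n0_119 (j : ℕ) : ℕ := (Bool.rec (motive := fun _ => ℕ) (Bool.rec (motive := fun _ => ℕ) (Bool.rec (motive := fun _ => ℕ) cA4_952 cA4_953 (Nat.ble 953 j)) (Bool.rec (motive := fun _ => ℕ) cA4_954 cA4_955 (Nat.ble 955 j)) (Nat.ble 954 j)) (Bool.rec (motive := fun _ => ℕ) (Bool.rec (motive := fun _ => ℕ) cA4_956 cA4_957 (Nat.ble 957 j)) (Bool.rec (motive := fun _ => ℕ) cA4_958 cA4_959 (Nat.ble 959 j)) (Nat.ble 958 j)) (Nat.ble 956 j))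
noncomputable def chA4_n0_120 (j : ℕ) : ℕ := (Bool.rec (motive := fun _ => ℕ) (Bool.rec (motive := fun _ => ℕ) (Bool.rec (motive := fun _ => ℕ) cA4_960 cA4_961 (Nat.ble 961 j)) (Bool.rec (motive := fun _ => ℕ) cA4_962 cA4_963 (Nat.ble 963 j)) (Nat.ble 962 j)) (Bool.rec (motive := fun _ => ℕ) (Bool.rec (motive := fun _ => ℕ) cA4_964 cA4_965 (Nat.ble 965 j)) (Bool.rec (motive := fun _ => ℕ) cA4_966 cA4_967 (Nat.ble 967 j)) (Nat.ble 966 j)) (Nat.ble 964 j))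
noncomputable def chA4_n0_121 (j : ℕ) : ℕ := (Bool.rec (motive := fun _ => ℕ) (Bool.rec (motive := fun _ => ℕ) (Bool.rec (motive := fun _ => ℕ) cA4_968 cA4_969 (Nat.ble 969 j)) (Bool.rec (motive := fun _ => ℕ) cA4_970 cA4_971 (Nat.ble 971 j)) (Nat.ble 970 j)) (Bool.rec (motive := fun _ => ℕ) (Bool.rec (motive := fun _ => ℕ) cA4_972 cA4_973 (Nat.ble 973 j)) (Bool.rec (motive := fun _ => ℕ) cA4_974 cA4_975 (Nat.ble 975 j)) (Nat.ble 974 j)) (Nat.ble 972 j))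
noncomputable def chA4_n0_122 (j : ℕ) : ℕ := (Bool.rec (motive := fun _ => ℕ) (Bool.rec (motive := fun _ => ℕ) (Bool.rec (motive := fun _ => ℕ) cA4_976 cA4_977 (Nat.ble 977 j)) (Bool.rec (motive := fun _ => ℕ) cA4_978 cA4_979 (Nat.ble 979 j)) (Nat.ble 978 j)) (Bool.rec (motive := fun _ => ℕ) (Bool.rec (motive := fun _ => ℕ) cA4_980 cA4_981 (Nat.ble 981 j)) (Bool.rec (motive := fun _ => ℕ) cA4_982 cA4_983 (Nat.ble 983 j)) (Nat.ble 982 j)) (Nat.ble 980 j))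
noncomputable def chA4_n0_123 (j : ℕ) : ℕ := (Bool.rec (motive := fun _ => ℕ) (Bool.rec (motive := fun _ => ℕ) (Bool.rec (motive := fun _ => ℕ) cA4_984 cA4_985 (Nat.ble 985 j)) (Bool.rec (motive := fun _ => ℕ) cA4_986 cA4_987 (Nat.ble 987 j)) (Nat.ble 986 j)) (Bool.rec (motive := fun _ => ℕ) (Bool.rec (motive := fun _ => ℕ) cA4_988 cA4_989 (Nat.ble 989 j)) (Bool.rec (motive := fun _ => ℕ) cA4_990 cA4_991 (Nat.ble 991 j)) (Nat.ble 990 j)) (Nat.ble 988 j))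
noncomputable def chA4_n0_124 (j : ℕ) : ℕ := (Bool.rec (motive := fun _ => ℕ) (Bool.rec (motive := fun _ => ℕ) (Bool.rec (motive := fun _ => ℕ) cA4_992 cA4_993 (Nat.ble 993 j)) (Bool.rec (motive := fun _ => ℕ) cA4_994 cA4_995 (Nat.ble 995 j)) (Nat.ble 994 j)) (Bool.rec (motive := fun _ => ℕ) (Bool.rec (motive := fun _ => ℕ) cA4_996 cA4_997 (Nat.ble 997 j)) (Bool.rec (motive := fun _ => ℕ) cA4_998 cA4_999 (Nat.ble 999 j)) (Nat.ble 998 j)) (Nat.ble 996 j))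
noncomputable def chA4_n0_125 (j : ℕ) : ℕ := (Bool.rec (motive := fun _ => ℕ) (Bool.rec (motive := fun _ => ℕ) (Bool.rec (motive := fun _ => ℕ) cA4_1000 cA4_1001 (Nat.ble 1001 j)) (Bool.rec (motive := fun _ => ℕ) cA4_1002 cA4_1003 (Nat.ble 1003 j)) (Nat.ble 1002 j)) (Bool.rec (motive := fun _ => ℕ) (Bool.rec (motive := fun _ => ℕ) cA4_1004 cA4_1005 (Nat.ble 1005 j)) (Bool.rec (motive := fun _ => ℕ) cA4_1006 cA4_1007 (Nat.ble 1007 j)) (Nat.ble 1006 j)) (Nat.ble 1004 j))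
noncomputable def chA4_n0_126 (j : ℕ) : ℕ := (Bool.rec (motive := fun _ => ℕ) (Bool.rec (motive := fun _ => ℕ) (Bool.rec (motive := fun _ => ℕ) cA4_1008 cA4_1009 (Nat.ble 1009 j)) (Bool.rec (motive := fun _ => ℕ) cA4_1010 cA4_1011 (Nat.ble 1011 j)) (Nat.ble 1010 j)) (Bool.rec (motive := fun _ => ℕ) (Bool.rec (motive := fun _ => ℕ) cA4_1012 cA4_1013 (Nat.ble 1013 j)) (Bool.rec (motive := fun _ => ℕ) cA4_1014 cA4_1015 (Nat.ble 1015 j)) (Nat.ble 1014 j)) (Nat.ble 1012 j))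
noncomputable def chA4_n0_127 (j : ℕ) : ℕ := (Bool.rec (motive := fun _ => ℕ) (Bool.rec (motive := fun _ => ℕ) (Bool.rec (motive := fun _ => ℕ) cA4_1016 cA4_1017 (Nat.ble 1017 j)) (Bool.rec (motive := fun _ => ℕ) cA4_1018 cA4_1019 (Nat.ble 1019 j)) (Nat.ble 1018 j)) (Bool.rec (motive := fun _ => ℕ) (Bool.rec (motive := fun _ => ℕ) cA4_1020 cA4_1021 (Nat.ble 1021 j)) (Bool.rec (motive := fun _ => ℕ) cA4_1022 cA4_1023 (Nat.ble 1023 j)) (Nat.ble 1022 j)) (Nat.ble 1020 j))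
noncomputable def chA4_n0_128 (j : ℕ) : ℕ := (Bool.rec (motive := fun _ => ℕ) (Bool.rec (motive := fun _ => ℕ) (Bool.rec (motive := fun _ => ℕ) cA4_1024 cA4_1025 (Nat.ble 1025 j)) (Bool.rec (motive := fun _ => ℕ) cA4_1026 cA4_1027 (Nat.ble 1027 j)) (Nat.ble 1026 j)) (Bool.rec (motive := fun _ => ℕ) (Bool.rec (motive := fun _ => ℕ) cA4_1028 cA4_1029 (Nat.ble 1029 j)) (Bool.rec (motive := fun _ => ℕ) cA4_1030 cA4_1031 (Nat.ble 1031 j)) (Nat.ble 1030 j)) (Nat.ble 1028 j))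
noncomputable def chA4_n0_129 (j : ℕ) : ℕ := (Bool.rec (motive := fun _ => ℕ) (Bool.rec (motive := fun _ => ℕ) (Bool.rec (motive := fun _ => ℕ) cA4_1032 cA4_1033 (Nat.ble 1033 j)) (Bool.rec (motive := fun _ => ℕ) cA4_1034 cA4_1035 (Nat.ble 1035 j)) (Nat.ble 1034 j)) (Bool.rec (motive := fun _ => ℕ) (Bool.rec (motive := fun _ => ℕ) cA4_1036 cA4_1037 (Nat.ble 1037 j)) (Bool.rec (motive := fun _ => ℕ) cA4_1038 cA4_1039 (Nat.ble 1039 j)) (Nat.ble 1038 j)) (Nat.ble 1036 j))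
noncomputable def chA4_n0_130 (j : ℕ) : ℕ := (Bool.rec (motive := fun _ => ℕ) (Bool.rec (motive := fun _ => ℕ) (Bool.rec (motive := fun _ => ℕ) cA4_1040 cA4_1041 (Nat.ble 1041 j)) (Bool.rec (motive := fun _ => ℕ) cA4_1042 cA4_1043 (Nat.ble 1043 j)) (Nat.ble 1042 j)) (Bool.rec (motive := fun _ => ℕ) (Bool.rec (motive := fun _ => ℕ) cA4_1044 cA4_1045 (Nat.ble 1045 j)) (Bool.rec (motive := fun _ => ℕ) cA4_1046 cA4_1047 (Nat.ble 1047 j)) (Nat.ble 1046 j)) (Nat.ble 1044 j))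
noncomputable def chA4_n0_131 (j : ℕ) : ℕ := (Bool.rec (motive := fun _ => ℕ) (Bool.rec (motive := fun _ => ℕ) (Bool.rec (motive := fun _ => ℕ) cA4_1048 cA4_1049 (Nat.ble 1049 j)) (Bool.rec (motive := fun _ => ℕ) cA4_1050 cA4_1051 (Nat.ble 1051 j)) (Nat.ble 1050 j)) (Bool.rec (motive := fun _ => ℕ) (Bool.rec (motive := fun _ => ℕ) cA4_1052 cA4_1053 (Nat.ble 1053 j)) (Bool.rec (motive := fun _ => ℕ) cA4_1054 cA4_1055 (Nat.ble 1055 j)) (Nat.ble 1054 j)) (Nat.ble 1052 j))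
noncomputable def chA4_n0_132 (j : ℕ) : ℕ := (Bool.rec (motive := fun _ => ℕ) (Bool.rec (motive := fun _ => ℕ) (Bool.rec (motive := fun _ => ℕ) cA4_1056 cA4_1057 (Nat.ble 1057 j)) (Bool.rec (motive := fun _ => ℕ) cA4_1058 cA4_1059 (Nat.ble 1059 j)) (Nat.ble 1058 j)) (Bool.rec (motive := fun _ => ℕ) (Bool.rec (motive := fun _ => ℕ) cA4_1060 cA4_1061 (Nat.ble 1061 j)) (Bool.rec (motive := fun _ => ℕ) cA4_1062 cA4_1063 (Nat.ble 1063 j)) (Nat.ble 1062 j)) (Nat.ble 1060 j))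
noncomputable def chA4_n0_133 (j : ℕ) : ℕ := (Bool.rec (motive := fun _ => ℕ) (Bool.rec (motive := fun _ => ℕ) (Bool.rec (motive := fun _ => ℕ) cA4_1064 cA4_1065 (Nat.ble 1065 j)) (Bool.rec (motive := fun _ => ℕ) cA4_1066 cA4_1067 (Nat.ble 1067 j)) (Nat.ble 1066 j)) (Bool.rec (motive := fun _ => ℕ) (Bool.rec (motive := fun _ => ℕ) cA4_1068 cA4_1069 (Nat.ble 1069 j)) (Bool.rec (motive := fun _ => ℕ) cA4_1070 cA4_1071 (Nat.ble 1071 j)) (Nat.ble 1070 j)) (Nat.ble 1068 j))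
noncomputable def chA4_n0_134 (j : ℕ) : ℕ := (Bool.rec (motive := fun _ => ℕ) (Bool.rec (motive := fun _ => ℕ) (Bool.rec (motive := fun _ => ℕ) cA4_1072 cA4_1073 (Nat.ble 1073 j)) (Bool.rec (motive := fun _ => ℕ) cA4_1074 cA4_1075 (Nat.ble 1075 j)) (Nat.ble 1074 j)) (Bool.rec (motive := fun _ => ℕ) (Bool.rec (motive := fun _ => ℕ) cA4_1076 cA4_1077 (Nat.ble 1077 j)) (Bool.rec (motive := fun _ => ℕ) cA4_1078 cA4_1079 (Nat.ble 1079 j)) (Nat.ble 1078 j)) (Nat.ble 1076 j))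
noncomputable def chA4_n0_135 (j : ℕ) : ℕ := (Bool.rec (motive := fun _ => ℕ) (Bool.rec (motive := fun _ => ℕ) (Bool.rec (motive := fun _ => ℕ) cA4_1080 cA4_1081 (Nat.ble 1081 j)) (Bool.rec (motive := fun _ => ℕ) cA4_1082 cA4_1083 (Nat.ble 1083 j)) (Nat.ble 1082 j)) (Bool.rec (motive := fun _ => ℕ) (Bool.rec (motive := fun _ => ℕ) cA4_1084 cA4_1085 (Nat.ble 1085 j)) (Bool.rec (motive := fun _ => ℕ) cA4_1086 cA4_1087 (Nat.ble 1087 j)) (Nat.ble 1086 j)) (Nat.ble 1084 j))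
noncomputable def chA4_n0_136 (j : ℕ) : ℕ := (Bool.rec (motive := fun _ => ℕ) (Bool.rec (motive := fun _ => ℕ) (Bool.rec (motive := fun _ => ℕ) cA4_1088 cA4_1089 (Nat.ble 1089 j)) (Bool.rec (motive := fun _ => ℕ) cA4_1090 cA4_1091 (Nat.ble 1091 j)) (Nat.ble 1090 j)) (Bool.rec (motive := fun _ => ℕ) (Bool.rec (motive := fun _ => ℕ) cA4_1092 cA4_1093 (Nat.ble 1093 j)) (Bool.rec (motive := fun _ => ℕ) cA4_1094 cA4_1095 (Nat.ble 1095 j)) (Nat.ble 1094 j)) (Nat.ble 1092 j))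
noncomputable def chA4_n0_137 (j : ℕ) : ℕ := (Bool.rec (motive := fun _ => ℕ) (Bool.rec (motive := fun _ => ℕ) (Bool.rec (motive := fun _ => ℕ) cA4_1096 cA4_1097 (Nat.ble 1097 j)) (Bool.rec (motive := fun _ => ℕ) cA4_1098 cA4_1099 (Nat.ble 1099 j)) (Nat.ble 1098 j)) (Bool.rec (motive := fun _ => ℕ) (Bool.rec (motive := fun _ => ℕ) cA4_1100 cA4_1101 (Nat.ble 1101 j)) (Bool.rec (motive := fun _ => ℕ) cA4_1102 cA4_1103 (Nat.ble 1103 j)) (Nat.ble 1102 j)) (Nat.ble 1100 j))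
noncomputable def chA4_n0_138 (j : ℕ) : ℕ := (Bool.rec (motive := fun _ => ℕ) (Bool.rec (motive := fun _ => ℕ) (Bool.rec (motive := fun _ => ℕ) cA4_1104 cA4_1105 (Nat.ble 1105 j)) (Bool.rec (motive := fun _ => ℕ) cA4_1106 cA4_1107 (Nat.ble 1107 j)) (Nat.ble 1106 j)) (Bool.rec (motive := fun _ => ℕ) (Bool.rec (motive := fun _ => ℕ) cA4_1108 cA4_1109 (Nat.ble 1109 j)) (Bool.rec (motive := fun _ => ℕ) cA4_1110 cA4_1111 (Nat.ble 1111 j)) (Nat.ble 1110 j)) (Nat.ble 1108 j))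
noncomputable def chA4_n0_139 (j : ℕ) : ℕ := (Bool.rec (motive := fun _ => ℕ) (Bool.rec (motive := fun _ => ℕ) (Bool.rec (motive := fun _ => ℕ) cA4_1112 cA4_1113 (Nat.ble 1113 j)) (Bool.rec (motive := fun _ => ℕ) cA4_1114 cA4_1115 (Nat.ble 1115 j)) (Nat.ble 1114 j)) (Bool.rec (motive := fun _ => ℕ) (Bool.rec (motive := fun _ => ℕ) cA4_1116 cA4_1117 (Nat.ble 1117 j)) (Bool.rec (motive := fun _ => ℕ) cA4_1118 cA4_1119 (Nat.ble 1119 j)) (Nat.ble 1118 j)) (Nat.ble 1116 j))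
noncomputable def chA4_n0_140 (j : ℕ) : ℕ := (Bool.rec (motive := fun _ => ℕ) (Bool.rec (motive := fun _ => ℕ) (Bool.rec (motive := fun _ => ℕ) cA4_1120 cA4_1121 (Nat.ble 1121 j)) (Bool.rec (motive := fun _ => ℕ) cA4_1122 cA4_1123 (Nat.ble 1123 j)) (Nat.ble 1122 j)) (Bool.rec (motive := fun _ => ℕ) (Bool.rec (motive := fun _ => ℕ) cA4_1124 cA4_1125 (Nat.ble 1125 j)) (Bool.rec (motive := fun _ => ℕ) cA4_1126 cA4_1127 (Nat.ble 1127 j)) (Nat.ble 1126 j)) (Nat.ble 1124 j))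
noncomputable def chA4_n0_141 (j : ℕ) : ℕ := (Bool.rec (motive := fun _ => ℕ) (Bool.rec (motive := fun _ => ℕ) (Bool.rec (motive := fun _ => ℕ) cA4_1128 cA4_1129 (Nat.ble 1129 j)) (Bool.rec (motive := fun _ => ℕ) cA4_1130 cA4_1131 (Nat.ble 1131 j)) (Nat.ble 1130 j)) (Bool.rec (motive := fun _ => ℕ) (Bool.rec (motive := fun _ => ℕ) cA4_1132 cA4_1133 (Nat.ble 1133 j)) (Bool.rec (motive := fun _ => ℕ) cA4_1134 cA4_1135 (Nat.ble 1135 j)) (Nat.ble 1134 j)) (Nat.ble 1132 j))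
noncomputable def chA4_n0_142 (j : ℕ) : ℕ := (Bool.rec (motive := fun _ => ℕ) (Bool.rec (motive := fun _ => ℕ) (Bool.rec (motive := fun _ => ℕ) cA4_1136 cA4_1137 (Nat.ble 1137 j)) (Bool.rec (motive := fun _ => ℕ) cA4_1138 cA4_1139 (Nat.ble 1139 j)) (Nat.ble 1138 j)) (Bool.rec (motive := fun _ => ℕ) (Bool.rec (motive := fun _ => ℕ) cA4_1140 cA4_1141 (Nat.ble 1141 j)) (Bool.rec (motive := fun _ => ℕ) cA4_1142 cA4_1143 (Nat.ble 1143 j)) (Nat.ble 1142 j)) (Nat.ble 1140 j))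
noncomputable def chA4_n0_143 (j : ℕ) : ℕ := (Bool.rec (motive := fun _ => ℕ) (Bool.rec (motive := fun _ => ℕ) (Bool.rec (motive := fun _ => ℕ) cA4_1144 cA4_1145 (Nat.ble 1145 j)) (Bool.rec (motive := fun _ => ℕ) cA4_1146 cA4_1147 (Nat.ble 1147 j)) (Nat.ble 1146 j)) (Bool.rec (motive := fun _ => ℕ) (Bool.rec (motive := fun _ => ℕ) cA4_1148 cA4_1149 (Nat.ble 1149 j)) (Bool.rec (motive := fun _ => ℕ) cA4_1150 cA4_1151 (Nat.ble 1151 j)) (Nat.ble 1150 j)) (Nat.ble 1148 j))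
noncomputable def chA4_n0_144 (j : ℕ) : ℕ := (Bool.rec (motive := fun _ => ℕ) (Bool.rec (motive := fun _ => ℕ) (Bool.rec (motive := fun _ => ℕ) cA4_1152 cA4_1153 (Nat.ble 1153 j)) (Bool.rec (motive := fun _ => ℕ) cA4_1154 cA4_1155 (Nat.ble 1155 j)) (Nat.ble 1154 j)) (Bool.rec (motive := fun _ => ℕ) (Bool.rec (motive := fun _ => ℕ) cA4_1156 cA4_1157 (Nat.ble 1157 j)) (Bool.rec (motive := fun _ => ℕ) cA4_1158 cA4_1159 (Nat.ble 1159 j)) (Nat.ble 1158 j)) (Nat.ble 1156 j))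
noncomputable def chA4_n0_145 (j : ℕ) : ℕ := (Bool.rec (motive := fun _ => ℕ) (Bool.rec (motive := fun _ => ℕ) (Bool.rec (motive := fun _ => ℕ) cA4_1160 cA4_1161 (Nat.ble 1161 j)) (Bool.rec (motive := fun _ => ℕ) cA4_1162 cA4_1163 (Nat.ble 1163 j)) (Nat.ble 1162 j)) (Bool.rec (motive := fun _ => ℕ) (Bool.rec (motive := fun _ => ℕ) cA4_1164 cA4_1165 (Nat.ble 1165 j)) (Bool.rec (motive := fun _ => ℕ) cA4_1166 cA4_1167 (Nat.ble 1167 j)) (Nat.ble 1166 j)) (Nat.ble 1164 j))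
noncomputable def chA4_n0_146 (j : ℕ) : ℕ := (Bool.rec (motive := fun _ => ℕ) (Bool.rec (motive := fun _ => ℕ) (Bool.rec (motive := fun _ => ℕ) cA4_1168 cA4_1169 (Nat.ble 1169 j)) (Bool.rec (motive := fun _ => ℕ) cA4_1170 cA4_1171 (Nat.ble 1171 j)) (Nat.ble 1170 j)) (Bool.rec (motive := fun _ => ℕ) (Bool.rec (motive := fun _ => ℕ) cA4_1172 cA4_1173 (Nat.ble 1173 j)) (Bool.rec (motive := fun _ => ℕ) cA4_1174 cA4_1175 (Nat.ble 1175 j)) (Nat.ble 1174 j)) (Nat.ble 1172 j))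
noncomputable def chA4_n0_147 (j : ℕ) : ℕ := (Bool.rec (motive := fun _ => ℕ) (Bool.rec (motive := fun _ => ℕ) (Bool.rec (motive := fun _ => ℕ) cA4_1176 cA4_1177 (Nat.ble 1177 j)) (Bool.rec (motive := fun _ => ℕ) cA4_1178 cA4_1179 (Nat.ble 1179 j)) (Nat.ble 1178 j)) (Bool.rec (motive := fun _ => ℕ) (Bool.rec (motive := fun _ => ℕ) cA4_1180 cA4_1181 (Nat.ble 1181 j)) (Bool.rec (motive := fun _ => ℕ) cA4_1182 cA4_1183 (Nat.ble 1183 j)) (Nat.ble 1182 j)) (Nat.ble 1180 j))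
noncomputable def chA4_n0_148 (j : ℕ) : ℕ := (Bool.rec (motive := fun _ => ℕ) (Bool.rec (motive := fun _ => ℕ) (Bool.rec (motive := fun _ => ℕ) cA4_1184 cA4_1185 (Nat.ble 1185 j)) (Bool.rec (motive := fun _ => ℕ) cA4_1186 cA4_1187 (Nat.ble 1187 j)) (Nat.ble 1186 j)) (Bool.rec (motive := fun _ => ℕ) (Bool.rec (motive := fun _ => ℕ) cA4_1188 cA4_1189 (Nat.ble 1189 j)) (Bool.rec (motive := fun _ => ℕ) cA4_1190 cA4_1191 (Nat.ble 1191 j)) (Nat.ble 1190 j)) (Nat.ble 1188 j))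
noncomputable def chA4_n0_149 (j : ℕ) : ℕ := (Bool.rec (motive := fun _ => ℕ) (Bool.rec (motive := fun _ => ℕ) (Bool.rec (motive := fun _ => ℕ) cA4_1192 cA4_1193 (Nat.ble 1193 j)) (Bool.rec (motive := fun _ => ℕ) cA4_1194 cA4_1195 (Nat.ble 1195 j)) (Nat.ble 1194 j)) (Bool.rec (motive := fun _ => ℕ) (Bool.rec (motive := fun _ => ℕ) cA4_1196 cA4_1197 (Nat.ble 1197 j)) (Bool.rec (motive := fun _ => ℕ) cA4_1198 cA4_1199 (Nat.ble 1199 j)) (Nat.ble 1198 j)) (Nat.ble 1196 j))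
noncomputable def chA4_n0_150 (j : ℕ) : ℕ := (Bool.rec (motive := fun _ => ℕ) (Bool.rec (motive := fun _ => ℕ) (Bool.rec (motive := fun _ => ℕ) cA4_1200 cA4_1201 (Nat.ble 1201 j)) (Bool.rec (motive := fun _ => ℕ) cA4_1202 cA4_1203 (Nat.ble 1203 j)) (Nat.ble 1202 j)) (Bool.rec (motive := fun _ => ℕ) (Bool.rec (motive := fun _ => ℕ) cA4_1204 cA4_1205 (Nat.ble 1205 j)) (Bool.rec (motive := fun _ => ℕ) cA4_1206 cA4_1207 (Nat.ble 1207 j)) (Nat.ble 1206 j)) (Nat.ble 1204 j))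
noncomputable def chA4_n0_151 (j : ℕ) : ℕ := (Bool.rec (motive := fun _ => ℕ) (Bool.rec (motive := fun _ => ℕ) (Bool.rec (motive := fun _ => ℕ) cA4_1208 cA4_1209 (Nat.ble 1209 j)) (Bool.rec (motive := fun _ => ℕ) cA4_1210 cA4_1211 (Nat.ble 1211 j)) (Nat.ble 1210 j)) (Bool.rec (motive := fun _ => ℕ) (Bool.rec (motive := fun _ => ℕ) cA4_1212 cA4_1213 (Nat.ble 1213 j)) (Bool.rec (motive := fun _ => ℕ) cA4_1214 cA4_1215 (Nat.ble 1215 j)) (Nat.ble 1214 j)) (Nat.ble 1212 j))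
noncomputable def chA4_n0_152 (j : ℕ) : ℕ := (Bool.rec (motive := fun _ => ℕ) (Bool.rec (motive := fun _ => ℕ) (Bool.rec (motive := fun _ => ℕ) cA4_1216 cA4_1217 (Nat.ble 1217 j)) (Bool.rec (motive := fun _ => ℕ) cA4_1218 cA4_1219 (Nat.ble 1219 j)) (Nat.ble 1218 j)) (Bool.rec (motive := fun _ => ℕ) (Bool.rec (motive := fun _ => ℕ) cA4_1220 cA4_1221 (Nat.ble 1221 j)) (Bool.rec (motive := fun _ => ℕ) cA4_1222 cA4_1223 (Nat.ble 1223 j)) (Nat.ble 1222 j)) (Nat.ble 1220 j))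
noncomputable def chA4_n0_153 (j : ℕ) : ℕ := (Bool.rec (motive := fun _ => ℕ) (Bool.rec (motive := fun _ => ℕ) (Bool.rec (motive := fun _ => ℕ) cA4_1224 cA4_1225 (Nat.ble 1225 j)) (Bool.rec (motive := fun _ => ℕ) cA4_1226 cA4_1227 (Nat.ble 1227 j)) (Nat.ble 1226 j)) (Bool.rec (motive := fun _ => ℕ) (Bool.rec (motive := fun _ => ℕ) cA4_1228 cA4_1229 (Nat.ble 1229 j)) (Bool.rec (motive := fun _ => ℕ) cA4_1230 cA4_1231 (Nat.ble 1231 j)) (Nat.ble 1230 j)) (Nat.ble 1228 j))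
noncomputable def chA4_n0_154 (j : ℕ) : ℕ := (Bool.rec (motive := fun _ => ℕ) (Bool.rec (motive := fun _ => ℕ) (Bool.rec (motive := fun _ => ℕ) cA4_1232 cA4_1233 (Nat.ble 1233 j)) (Bool.rec (motive := fun _ => ℕ) cA4_1234 cA4_1235 (Nat.ble 1235 j)) (Nat.ble 1234 j)) (Bool.rec (motive := fun _ => ℕ) (Bool.rec (motive := fun _ => ℕ) cA4_1236 cA4_1237 (Nat.ble 1237 j)) (Bool.rec (motive := fun _ => ℕ) cA4_1238 cA4_1239 (Nat.ble 1239 j)) (Nat.ble 1238 j)) (Nat.ble 1236 j))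
noncomputable def chA4_n0_155 (j : ℕ) : ℕ := (Bool.rec (motive := fun _ => ℕ) (Bool.rec (motive := fun _ => ℕ) (Bool.rec (motive := fun _ => ℕ) cA4_1240 cA4_1241 (Nat.ble 1241 j)) (Bool.rec (motive := fun _ => ℕ) cA4_1242 cA4_1243 (Nat.ble 1243 j)) (Nat.ble 1242 j)) (Bool.rec (motive := fun _ => ℕ) (Bool.rec (motive := fun _ => ℕ) cA4_1244 cA4_1245 (Nat.ble 1245 j)) (Bool.rec (motive := fun _ => ℕ) cA4_1246 cA4_1247 (Nat.ble 1247 j)) (Nat.ble 1246 j)) (Nat.ble 1244 j))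
noncomputable def chA4_n0_156 (j : ℕ) : ℕ := (Bool.rec (motive := fun _ => ℕ) (Bool.rec (motive := fun _ => ℕ) (Bool.rec (motive := fun _ => ℕ) cA4_1248 cA4_1249 (Nat.ble 1249 j)) (Bool.rec (motive := fun _ => ℕ) cA4_1250 cA4_1251 (Nat.ble 1251 j)) (Nat.ble 1250 j)) (Bool.rec (motive := fun _ => ℕ) (Bool.rec (motive := fun _ => ℕ) cA4_1252 cA4_1253 (Nat.ble 1253 j)) (Bool.rec (motive := fun _ => ℕ) cA4_1254 cA4_1255 (Nat.ble 1255 j)) (Nat.ble 1254 j)) (Nat.ble 1252 j))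
noncomputable def chA4_n0_157 (j : ℕ) : ℕ := (Bool.rec (motive := fun _ => ℕ) (Bool.rec (motive := fun _ => ℕ) (Bool.rec (motive := fun _ => ℕ) cA4_1256 cA4_1257 (Nat.ble 1257 j)) (Bool.rec (motive := fun _ => ℕ) cA4_1258 cA4_1259 (Nat.ble 1259 j)) (Nat.ble 1258 j)) (Bool.rec (motive := fun _ => ℕ) (Bool.rec (motive := fun _ => ℕ) cA4_1260 cA4_1261 (Nat.ble 1261 j)) (Bool.rec (motive := fun _ => ℕ) cA4_1262 cA4_1263 (Nat.ble 1263 j)) (Nat.ble 1262 j)) (Nat.ble 1260 j))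
noncomputable def chA4_n0_158 (j : ℕ) : ℕ := (Bool.rec (motive := fun _ => ℕ) (Bool.rec (motive := fun _ => ℕ) (Bool.rec (motive := fun _ => ℕ) cA4_1264 cA4_1265 (Nat.ble 1265 j)) (Bool.rec (motive := fun _ => ℕ) cA4_1266 cA4_1267 (Nat.ble 1267 j)) (Nat.ble 1266 j)) (Bool.rec (motive := fun _ => ℕ) (Bool.rec (motive := fun _ => ℕ) cA4_1268 cA4_1269 (Nat.ble 1269 j)) (Bool.rec (motive := fun _ => ℕ) cA4_1270 cA4_1271 (Nat.ble 1271 j)) (Nat.ble 1270 j)) (Nat.ble 1268 j))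
noncomputable def chA4_n0_159 (j : ℕ) : ℕ := (Bool.rec (motive := fun _ => ℕ) (Bool.rec (motive := fun _ => ℕ) (Bool.rec (motive := fun _ => ℕ) cA4_1272 cA4_1273 (Nat.ble 1273 j)) (Bool.rec (motive := fun _ => ℕ) cA4_1274 cA4_1275 (Nat.ble 1275 j)) (Nat.ble 1274 j)) (Bool.rec (motive := fun _ => ℕ) (Bool.rec (motive := fun _ => ℕ) cA4_1276 cA4_1277 (Nat.ble 1277 j)) (Bool.rec (motive := fun _ => ℕ) cA4_1278 cA4_1279 (Nat.ble 1279 j)) (Nat.ble 1278 j)) (Nat.ble 1276 j))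
noncomputable def chA4_n0_160 (j : ℕ) : ℕ := (Bool.rec (motive := fun _ => ℕ) (Bool.rec (motive := fun _ => ℕ) (Bool.rec (motive := fun _ => ℕ) cA4_1280 cA4_1281 (Nat.ble 1281 j)) (Bool.rec (motive := fun _ => ℕ) cA4_1282 cA4_1283 (Nat.ble 1283 j)) (Nat.ble 1282 j)) (Bool.rec (motive := fun _ => ℕ) (Bool.rec (motive := fun _ => ℕ) cA4_1284 cA4_1285 (Nat.ble 1285 j)) (Bool.rec (motive := fun _ => ℕ) cA4_1286 cA4_1287 (Nat.ble 1287 j)) (Nat.ble 1286 j)) (Nat.ble 1284 j))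
noncomputable def chA4_n0_161 (j : ℕ) : ℕ := (Bool.rec (motive := fun _ => ℕ) (Bool.rec (motive := fun _ => ℕ) (Bool.rec (motive := fun _ => ℕ) cA4_1288 cA4_1289 (Nat.ble 1289 j)) (Bool.rec (motive := fun _ => ℕ) cA4_1290 cA4_1291 (Nat.ble 1291 j)) (Nat.ble 1290 j)) (Bool.rec (motive := fun _ => ℕ) (Bool.rec (motive := fun _ => ℕ) cA4_1292 cA4_1293 (Nat.ble 1293 j)) (Bool.rec (motive := fun _ => ℕ) cA4_1294 cA4_1295 (Nat.ble 1295 j)) (Nat.ble 1294 j)) (Nat.ble 1292 j))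
noncomputable def chA4_n0_162 (j : ℕ) : ℕ := (Bool.rec (motive := fun _ => ℕ) (Bool.rec (motive := fun _ => ℕ) (Bool.rec (motive := fun _ => ℕ) cA4_1296 cA4_1297 (Nat.ble 1297 j)) (Bool.rec (motive := fun _ => ℕ) cA4_1298 cA4_1299 (Nat.ble 1299 j)) (Nat.ble 1298 j)) (Bool.rec (motive := fun _ => ℕ) (Bool.rec (motive := fun _ => ℕ) cA4_1300 cA4_1301 (Nat.ble 1301 j)) (Bool.rec (motive := fun _ => ℕ) cA4_1302 cA4_1303 (Nat.ble 1303 j)) (Nat.ble 1302 j)) (Nat.ble 1300 j))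
noncomputable def chA4_n0_163 (j : ℕ) : ℕ := (Bool.rec (motive := fun _ => ℕ) cA4_1304 cA4_1305 (Nat.ble 1305 j))
noncomputable def chA4_n1_0 (j : ℕ) : ℕ := (Bool.rec (motive := fun _ => ℕ) (Bool.rec (motive := fun _ => ℕ) (Bool.rec (motive := fun _ => ℕ) (chA4_n0_0 j) (chA4_n0_1 j) (Nat.ble 8 j)) (Bool.rec (motive := fun _ => ℕ) (chA4_n0_2 j) (chA4_n0_3 j) (Nat.ble 24 j)) (Nat.ble 16 j)) (Bool.rec (motive := fun _ => ℕ) (Bool.rec (motive := fun _ => ℕ) (chA4_n0_4 j) (chA4_n0_5 j) (Nat.ble 40 j)) (Bool.rec (motive := fun _ => ℕ) (chA4_n0_6 j) (chA4_n0_7 j) (Nat.ble 56 j)) (Nat.ble 48 j)) (Nat.ble 32 j))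
noncomputable def chA4_n1_1 (j : ℕ) : ℕ := (Bool.rec (motive := fun _ => ℕ) (Bool.rec (motive := fun _ => ℕ) (Bool.rec (motive := fun _ => ℕ) (chA4_n0_8 j) (chA4_n0_9 j) (Nat.ble 72 j)) (Bool.rec (motive := fun _ => ℕ) (chA4_n0_10 j) (chA4_n0_11 j) (Nat.ble 88 j)) (Nat.ble 80 j)) (Bool.rec (motive := fun _ => ℕ) (Bool.rec (motive := fun _ => ℕ) (chA4_n0_12 j) (chA4_n0_13 j) (Nat.ble 104 j)) (Bool.rec (motive := fun _ => ℕ) (chA4_n0_14 j) (chA4_n0_15 j) (Nat.ble 120 j)) (Nat.ble 112 j)) (Nat.ble 96 j))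
noncomputable def chA4_n1_2 (j : ℕ) : ℕ := (Bool.rec (motive := fun _ => ℕ) (Bool.rec (motive := fun _ => ℕ) (Bool.rec (motive := fun _ => ℕ) (chA4_n0_16 j) (chA4_n0_17 j) (Nat.ble 136 j)) (Bool.rec (motive := fun _ => ℕ) (chA4_n0_18 j) (chA4_n0_19 j) (Nat.ble 152 j)) (Nat.ble 144 j)) (Bool.rec (motive := fun _ => ℕ) (Bool.rec (motive := fun _ => ℕ) (chA4_n0_20 j) (chA4_n0_21 j) (Nat.ble 168 j)) (Bool.rec (motive := fun _ => ℕ) (chA4_n0_22 j) (chA4_n0_23 j) (Nat.ble 184 j)) (Nat.ble 176 j)) (Nat.ble 160 j))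
noncomputable def chA4_n1_3 (j : ℕ) : ℕ := (Bool.rec (motive := fun _ => ℕ) (Bool.rec (motive := fun _ => ℕ) (Bool.rec (motive := fun _ => ℕ) (chA4_n0_24 j) (chA4_n0_25 j) (Nat.ble 200 j)) (Bool.rec (motive := fun _ => ℕ) (chA4_n0_26 j) (chA4_n0_27 j) (Nat.ble 216 j)) (Nat.ble 208 j)) (Bool.rec (motive := fun _ => ℕ) (Bool.rec (motive := fun _ => ℕ) (chA4_n0_28 j) (chA4_n0_29 j) (Nat.ble 232 j)) (Bool.rec (motive := fun _ => ℕ) (chA4_n0_30 j) (chA4_n0_31 j) (Nat.ble 248 j)) (Nat.ble 240 j)) (Nat.ble 224 j))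
noncomputable def chA4_n1_4 (j : ℕ) : ℕ := (Bool.rec (motive := fun _ => ℕ) (Bool.rec (motive := fun _ => ℕ) (Bool.rec (motive := fun _ => ℕ) (chA4_n0_32 j) (chA4_n0_33 j) (Nat.ble 264 j)) (Bool.rec (motive := fun _ => ℕ) (chA4_n0_34 j) (chA4_n0_35 j) (Nat.ble 280 j)) (Nat.ble 272 j)) (Bool.rec (motive := fun _ => ℕ) (Bool.rec (motive := fun _ => ℕ) (chA4_n0_36 j) (chA4_n0_37 j) (Nat.ble 296 j)) (Bool.rec (motive := fun _ => ℕ) (chA4_n0_38 j) (chA4_n0_39 j) (Nat.ble 312 j)) (Nat.ble 304 j)) (Nat.ble 288 j))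
noncomputable def chA4_n1_5 (j : ℕ) : ℕ := (Bool.rec (motive := fun _ => ℕ) (Bool.rec (motive := fun _ => ℕ) (Bool.rec (motive := fun _ => ℕ) (chA4_n0_40 j) (chA4_n0_41 j) (Nat.ble 328 j)) (Bool.rec (motive := fun _ => ℕ) (chA4_n0_42 j) (chA4_n0_43 j) (Nat.ble 344 j)) (Nat.ble 336 j)) (Bool.rec (motive := fun _ => ℕ) (Bool.rec (motive := fun _ => ℕ) (chA4_n0_44 j) (chA4_n0_45 j) (Nat.ble 360 j)) (Bool.rec (motive := fun _ => ℕ) (chA4_n0_46 j) (chA4_n0_47 j) (Nat.ble 376 j)) (Nat.ble 368 j)) (Nat.ble 352 j))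
noncomputable def chA4_n1_6 (j : ℕ) : ℕ := (Bool.rec (motive := fun _ => ℕ) (Bool.rec (motive := fun _ => ℕ) (Bool.rec (motive := fun _ => ℕ) (chA4_n0_48 j) (chA4_n0_49 j) (Nat.ble 392 j)) (Bool.rec (motive := fun _ => ℕ) (chA4_n0_50 j) (chA4_n0_51 j) (Nat.ble 408 j)) (Nat.ble 400 j)) (Bool.rec (motive := fun _ => ℕ) (Bool.rec (motive := fun _ => ℕ) (chA4_n0_52 j) (chA4_n0_53 j) (Nat.ble 424 j)) (Bool.rec (motive := fun _ => ℕ) (chA4_n0_54 j) (chA4_n0_55 j) (Nat.ble 440 j)) (Nat.ble 432 j)) (Nat.ble 416 j))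
noncomputable def chA4_n1_7 (j : ℕ) : ℕ := (Bool.rec (motive := fun _ => ℕ) (Bool.rec (motive := fun _ => ℕ) (Bool.rec (motive := fun _ => ℕ) (chA4_n0_56 j) (chA4_n0_57 j) (Nat.ble 456 j)) (Bool.rec (motive := fun _ => ℕ) (chA4_n0_58 j) (chA4_n0_59 j) (Nat.ble 472 j)) (Nat.ble 464 j)) (Bool.rec (motive := fun _ => ℕ) (Bool.rec (motive := fun _ => ℕ) (chA4_n0_60 j) (chA4_n0_61 j) (Nat.ble 488 j)) (Bool.rec (motive := fun _ => ℕ) (chA4_n0_62 j) (chA4_n0_63 j) (Nat.ble 504 j)) (Nat.ble 496 j)) (Nat.ble 480 j))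
noncomputable def chA4_n1_8 (j : ℕ) : ℕ := (Bool.rec (motive := fun _ => ℕ) (Bool.rec (motive := fun _ => ℕ) (Bool.rec (motive := fun _ => ℕ) (chA4_n0_64 j) (chA4_n0_65 j) (Nat.ble 520 j)) (Bool.rec (motive := fun _ => ℕ) (chA4_n0_66 j) (chA4_n0_67 j) (Nat.ble 536 j)) (Nat.ble 528 j)) (Bool.rec (motive := fun _ => ℕ) (Bool.rec (motive := fun _ => ℕ) (chA4_n0_68 j) (chA4_n0_69 j) (Nat.ble 552 j)) (Bool.rec (motive := fun _ => ℕ) (chA4_n0_70 j) (chA4_n0_71 j) (Nat.ble 568 j)) (Nat.ble 560 j)) (Nat.ble 544 j))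
noncomputable def chA4_n1_9 (j : ℕ) : ℕ := (Bool.rec (motive := fun _ => ℕ) (Bool.rec (motive := fun _ => ℕ) (Bool.rec (motive := fun _ => ℕ) (chA4_n0_72 j) (chA4_n0_73 j) (Nat.ble 584 j)) (Bool.rec (motive := fun _ => ℕ) (chA4_n0_74 j) (chA4_n0_75 j) (Nat.ble 600 j)) (Nat.ble 592 j)) (Bool.rec (motive := fun _ => ℕ) (Bool.rec (motive := fun _ => ℕ) (chA4_n0_76 j) (chA4_n0_77 j) (Nat.ble 616 j)) (Bool.rec (motive := fun _ => ℕ) (chA4_n0_78 j) (chA4_n0_79 j) (Nat.ble 632 j)) (Nat.ble 624 j)) (Nat.ble 608 j))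
noncomputable def chA4_n1_10 (j : ℕ) : ℕ := (Bool.rec (motive := fun _ => ℕ) (Bool.rec (motive := fun _ => ℕ) (Bool.rec (motive := fun _ => ℕ) (chA4_n0_80 j) (chA4_n0_81 j) (Nat.ble 648 j)) (Bool.rec (motive := fun _ => ℕ) (chA4_n0_82 j) (chA4_n0_83 j) (Nat.ble 664 j)) (Nat.ble 656 j)) (Bool.rec (motive := fun _ => ℕ) (Bool.rec (motive := fun _ => ℕ) (chA4_n0_84 j) (chA4_n0_85 j) (Nat.ble 680 j)) (Bool.rec (motive := fun _ => ℕ) (chA4_n0_86 j) (chA4_n0_87 j) (Nat.ble 696 j)) (Nat.ble 688 j)) (Nat.ble 672 j))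
noncomputable def chA4_n1_11 (j : ℕ) : ℕ := (Bool.rec (motive := fun _ => ℕ) (Bool.rec (motive := fun _ => ℕ) (Bool.rec (motive := fun _ => ℕ) (chA4_n0_88 j) (chA4_n0_89 j) (Nat.ble 712 j)) (Bool.rec (motive := fun _ => ℕ) (chA4_n0_90 j) (chA4_n0_91 j) (Nat.ble 728 j)) (Nat.ble 720 j)) (Bool.rec (motive := fun _ => ℕ) (Bool.rec (motive := fun _ => ℕ) (chA4_n0_92 j) (chA4_n0_93 j) (Nat.ble 744 j)) (Bool.rec (motive := fun _ => ℕ) (chA4_n0_94 j) (chA4_n0_95 j) (Nat.ble 760 j)) (Nat.ble 752 j)) (Nat.ble 736 j))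
noncomputable def chA4_n1_12 (j : ℕ) : ℕ := (Bool.rec (motive := fun _ => ℕ) (Bool.rec (motive := fun _ => ℕ) (Bool.rec (motive := fun _ => ℕ) (chA4_n0_96 j) (chA4_n0_97 j) (Nat.ble 776 j)) (Bool.rec (motive := fun _ => ℕ) (chA4_n0_98 j) (chA4_n0_99 j) (Nat.ble 792 j)) (Nat.ble 784 j)) (Bool.rec (motive := fun _ => ℕ) (Bool.rec (motive := fun _ => ℕ) (chA4_n0_100 j) (chA4_n0_101 j) (Nat.ble 808 j)) (Bool.rec (motive := fun _ => ℕ) (chA4_n0_102 j) (chA4_n0_103 j) (Nat.ble 824 j)) (Nat.ble 816 j)) (Nat.ble 800 j))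
noncomputable def chA4_n1_13 (j : ℕ) : ℕ := (Bool.rec (motive := fun _ => ℕ) (Bool.rec (motive := fun _ => ℕ) (Bool.rec (motive := fun _ => ℕ) (chA4_n0_104 j) (chA4_n0_105 j) (Nat.ble 840 j)) (Bool.rec (motive := fun _ => ℕ) (chA4_n0_106 j) (chA4_n0_107 j) (Nat.ble 856 j)) (Nat.ble 848 j)) (Bool.rec (motive := fun _ => ℕ) (Bool.rec (motive := fun _ => ℕ) (chA4_n0_108 j) (chA4_n0_109 j) (Nat.ble 872 j)) (Bool.rec (motive := fun _ => ℕ) (chA4_n0_110 j) (chA4_n0_111 j) (Nat.ble 888 j)) (Nat.ble 880 j)) (Nat.ble 864 j))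
noncomputable def chA4_n1_14 (j : ℕ) : ℕ := (Bool.rec (motive := fun _ => ℕ) (Bool.rec (motive := fun _ => ℕ) (Bool.rec (motive := fun _ => ℕ) (chA4_n0_112 j) (chA4_n0_113 j) (Nat.ble 904 j)) (Bool.rec (motive := fun _ => ℕ) (chA4_n0_114 j) (chA4_n0_115 j) (Nat.ble 920 j)) (Nat.ble 912 j)) (Bool.rec (motive := fun _ => ℕ) (Bool.rec (motive := fun _ => ℕ) (chA4_n0_116 j) (chA4_n0_117 j) (Nat.ble 936 j)) (Bool.rec (motive := fun _ => ℕ) (chA4_n0_118 j) (chA4_n0_119 j) (Nat.ble 952 j)) (Nat.ble 944 j)) (Nat.ble 928 j))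
noncomputable def chA4_n1_15 (j : ℕ) : ℕ := (Bool.rec (motive := fun _ => ℕ) (Bool.rec (motive := fun _ => ℕ) (Bool.rec (motive := fun _ => ℕ) (chA4_n0_120 j) (chA4_n0_121 j) (Nat.ble 968 j)) (Bool.rec (motive := fun _ => ℕ) (chA4_n0_122 j) (chA4_n0_123 j) (Nat.ble 984 j)) (Nat.ble 976 j)) (Bool.rec (motive := fun _ => ℕ) (Bool.rec (motive := fun _ => ℕ) (chA4_n0_124 j) (chA4_n0_125 j) (Nat.ble 1000 j)) (Bool.rec (motive := fun _ => ℕ) (chA4_n0_126 j) (chA4_n0_127 j) (Nat.ble 1016 j)) (Nat.ble 1008 j)) (Nat.ble 992 j))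
noncomputable def chA4_n1_16 (j : ℕ) : ℕ := (Bool.rec (motive := fun _ => ℕ) (Bool.rec (motive := fun _ => ℕ) (Bool.rec (motive := fun _ => ℕ) (chA4_n0_128 j) (chA4_n0_129 j) (Nat.ble 1032 j)) (Bool.rec (motive := fun _ => ℕ) (chA4_n0_130 j) (chA4_n0_131 j) (Nat.ble 1048 j)) (Nat.ble 1040 j)) (Bool.rec (motive := fun _ => ℕ) (Bool.rec (motive := fun _ => ℕ) (chA4_n0_132 j) (chA4_n0_133 j) (Nat.ble 1064 j)) (Bool.rec (motive := fun _ => ℕ) (chA4_n0_134 j) (chA4_n0_135 j) (Nat.ble 1080 j)) (Nat.ble 1072 j)) (Nat.ble 1056 j))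
noncomputable def chA4_n1_17 (j : ℕ) : ℕ := (Bool.rec (motive := fun _ => ℕ) (Bool.rec (motive := fun _ => ℕ) (Bool.rec (motive := fun _ => ℕ) (chA4_n0_136 j) (chA4_n0_137 j) (Nat.ble 1096 j)) (Bool.rec (motive := fun _ => ℕ) (chA4_n0_138 j) (chA4_n0_139 j) (Nat.ble 1112 j)) (Nat.ble 1104 j)) (Bool.rec (motive := fun _ => ℕ) (Bool.rec (motive := fun _ => ℕ) (chA4_n0_140 j) (chA4_n0_141 j) (Nat.ble 1128 j)) (Bool.rec (motive := fun _ => ℕ) (chA4_n0_142 j) (chA4_n0_143 j) (Nat.ble 1144 j)) (Nat.ble 1136 j)) (Nat.ble 1120 j))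
noncomputable def chA4_n1_18 (j : ℕ) : ℕ := (Bool.rec (motive := fun _ => ℕ) (Bool.rec (motive := fun _ => ℕ) (Bool.rec (motive := fun _ => ℕ) (chA4_n0_144 j) (chA4_n0_145 j) (Nat.ble 1160 j)) (Bool.rec (motive := fun _ => ℕ) (chA4_n0_146 j) (chA4_n0_147 j) (Nat.ble 1176 j)) (Nat.ble 1168 j)) (Bool.rec (motive := fun _ => ℕ) (Bool.rec (motive := fun _ => ℕ) (chA4_n0_148 j) (chA4_n0_149 j) (Nat.ble 1192 j)) (Bool.rec (motive := fun _ => ℕ) (chA4_n0_150 j) (chA4_n0_151 j) (Nat.ble 1208 j)) (Nat.ble 1200 j)) (Nat.ble 1184 j))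
noncomputable def chA4_n1_19 (j : ℕ) : ℕ := (Bool.rec (motive := fun _ => ℕ) (Bool.rec (motive := fun _ => ℕ) (Bool.rec (motive := fun _ => ℕ) (chA4_n0_152 j) (chA4_n0_153 j) (Nat.ble 1224 j)) (Bool.rec (motive := fun _ => ℕ) (chA4_n0_154 j) (chA4_n0_155 j) (Nat.ble 1240 j)) (Nat.ble 1232 j)) (Bool.rec (motive := fun _ => ℕ) (Bool.rec (motive := fun _ => ℕ) (chA4_n0_156 j) (chA4_n0_157 j) (Nat.ble 1256 j)) (Bool.rec (motive := fun _ => ℕ) (chA4_n0_158 j) (chA4_n0_159 j) (Nat.ble 1272 j)) (Nat.ble 1264 j)) (Nat.ble 1248 j))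
noncomputable def chA4_n1_20 (j : ℕ) : ℕ := (Bool.rec (motive := fun _ => ℕ) (Bool.rec (motive := fun _ => ℕ) (chA4_n0_160 j) (chA4_n0_161 j) (Nat.ble 1288 j)) (Bool.rec (motive := fun _ => ℕ) (chA4_n0_162 j) (chA4_n0_163 j) (Nat.ble 1304 j)) (Nat.ble 1296 j))
noncomputable def chA4_n2_0 (j : ℕ) : ℕ := (Bool.rec (motive := fun _ => ℕ) (Bool.rec (motive := fun _ => ℕ) (Bool.rec (motive := fun _ => ℕ) (chA4_n1_0 j) (chA4_n1_1 j) (Nat.ble 64 j)) (Bool.rec (motive := fun _ => ℕ) (chA4_n1_2 j) (chA4_n1_3 j) (Nat.ble 192 j)) (Nat.ble 128 j)) (Bool.rec (motive := fun _ => ℕ) (Bool.rec (motive := fun _ => ℕ) (chA4_n1_4 j) (chA4_n1_5 j) (Nat.ble 320 j)) (Bool.rec (motive := fun _ => ℕ) (chA4_n1_6 j) (chA4_n1_7 j) (Nat.ble 448 j)) (Nat.ble 384 j)) (Nat.ble 256 j))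
noncomputable def chA4_n2_1 (j : ℕ) : ℕ := (Bool.rec (motive := fun _ => ℕ) (Bool.rec (motive := fun _ => ℕ) (Bool.rec (motive := fun _ => ℕ) (chA4_n1_8 j) (chA4_n1_9 j) (Nat.ble 576 j)) (Bool.rec (motive := fun _ => ℕ) (chA4_n1_10 j) (chA4_n1_11 j) (Nat.ble 704 j)) (Nat.ble 640 j)) (Bool.rec (motive := fun _ => ℕ) (Bool.rec (motive := fun _ => ℕ) (chA4_n1_12 j) (chA4_n1_13 j) (Nat.ble 832 j)) (Bool.rec (motive := fun _ => ℕ) (chA4_n1_14 j) (chA4_n1_15 j) (Nat.ble 960 j)) (Nat.ble 896 j)) (Nat.ble 768 j))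
noncomputable def chA4_n2_2 (j : ℕ) : ℕ := (Bool.rec (motive := fun _ => ℕ) (Bool.rec (motive := fun _ => ℕ) (chA4_n1_16 j) (chA4_n1_17 j) (Nat.ble 1088 j)) (Bool.rec (motive := fun _ => ℕ) (chA4_n1_18 j) (Bool.rec (motive := fun _ => ℕ) (chA4_n1_19 j) (chA4_n1_20 j) (Nat.ble 1280 j)) (Nat.ble 1216 j)) (Nat.ble 1152 j))
noncomputable def chA4_n3_0 (j : ℕ) : ℕ := (Bool.rec (motive := fun _ => ℕ) (chA4_n2_0 j) (Bool.rec (motive := fun _ => ℕ) (chA4_n2_1 j) (chA4_n2_2 j) (Nat.ble 1024 j)) (Nat.ble 512 j))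

/-- the chunks of the table of the large certificate -/
noncomputable def chunkA4 (j : ℕ) : ℕ := chA4_n3_0 j

noncomputable def pchA4_n0_0 (j : ℕ) : ℕ := (Bool.rec (motive := fun _ => ℕ) (Bool.rec (motive := fun _ => ℕ) (Bool.rec (motive := fun _ => ℕ) qA4_0 qA4_1 (Nat.ble 1 j)) (Bool.rec (motive := fun _ => ℕ) qA4_2 qA4_3 (Nat.ble 3 j)) (Nat.ble 2 j)) (Bool.rec (motive := fun _ => ℕ) (Bool.rec (motive := fun _ => ℕ) qA4_4 qA4_5 (Nat.ble 5 j)) (Bool.rec (motive := fun _ => ℕ) qA4_6 qA4_7 (Nat.ble 7 j)) (Nat.ble 6 j)) (Nat.ble 4 j))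
noncomputable def pchA4_n0_1 (j : ℕ) : ℕ := (Bool.rec (motive := fun _ => ℕ) (Bool.rec (motive := fun _ => ℕ) (Bool.rec (motive := fun _ => ℕ) qA4_8 qA4_9 (Nat.ble 9 j)) (Bool.rec (motive := fun _ => ℕ) qA4_10 qA4_11 (Nat.ble 11 j)) (Nat.ble 10 j)) (Bool.rec (motive := fun _ => ℕ) (Bool.rec (motive := fun _ => ℕ) qA4_12 qA4_13 (Nat.ble 13 j)) (Bool.rec (motive := fun _ => ℕ) qA4_14 qA4_15 (Nat.ble 15 j)) (Nat.ble 14 j)) (Nat.ble 12 j))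
noncomputable def pchA4_n0_2 (j : ℕ) : ℕ := (Bool.rec (motive := fun _ => ℕ) (Bool.rec (motive := fun _ => ℕ) (Bool.rec (motive := fun _ => ℕ) qA4_16 qA4_17 (Nat.ble 17 j)) (Bool.rec (motive := fun _ => ℕ) qA4_18 qA4_19 (Nat.ble 19 j)) (Nat.ble 18 j)) (Bool.rec (motive := fun _ => ℕ) (Bool.rec (motive := fun _ => ℕ) qA4_20 qA4_21 (Nat.ble 21 j)) (Bool.rec (motive := fun _ => ℕ) qA4_22 qA4_23 (Nat.ble 23 j)) (Nat.ble 22 j)) (Nat.ble 20 j))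
noncomputable def pchA4_n0_3 (j : ℕ) : ℕ := (Bool.rec (motive := fun _ => ℕ) (Bool.rec (motive := fun _ => ℕ) (Bool.rec (motive := fun _ => ℕ) qA4_24 qA4_25 (Nat.ble 25 j)) (Bool.rec (motive := fun _ => ℕ) qA4_26 qA4_27 (Nat.ble 27 j)) (Nat.ble 26 j)) (Bool.rec (motive := fun _ => ℕ) (Bool.rec (motive := fun _ => ℕ) qA4_28 qA4_29 (Nat.ble 29 j)) (Bool.rec (motive := fun _ => ℕ) qA4_30 qA4_31 (Nat.ble 31 j)) (Nat.ble 30 j)) (Nat.ble 28 j))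
noncomputable def pchA4_n1_0 (j : ℕ) : ℕ := (Bool.rec (motive := fun _ => ℕ) (Bool.rec (motive := fun _ => ℕ) (pchA4_n0_0 j) (pchA4_n0_1 j) (Nat.ble 8 j)) (Bool.rec (motive := fun _ => ℕ) (pchA4_n0_2 j) (Bool.rec (motive := fun _ => ℕ) (pchA4_n0_3 j) qA4_32 (Nat.ble 32 j)) (Nat.ble 24 j)) (Nat.ble 16 j))

/-- the chunks of the definitions of the rows of the large certificate -/
noncomputable def pchunkA4 (j : ℕ) : ℕ := pchA4_n1_0 j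

noncomputable def entA4 (i : ℕ) : ℕ := (chunkA4 (i / 256) >>> (74 * (i % 256))) % 18889465931478580854784
noncomputable def parA4 (b : ℕ) : ℕ := (pchunkA4 (b / 2048) >>> (19 * (b % 2048))) % 524288
def entA3 (i : ℕ) : ℕ := (cA3 >>> (74 * i)) % 18889465931478580854784
def parA3 (b : ℕ) : ℕ := (qA3 >>> (19 * b)) % 524288
def entA2 (i : ℕ) : ℕ := (cA2 >>> (74 * i)) % 18889465931478580854784
def parA2 (b : ℕ) : ℕ := (qA2 >>> (19 * b)) % 524288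
def entA1 (i : ℕ) : ℕ := (cA1 >>> (74 * i)) % 18889465931478580854784
def parA1 (b : ℕ) : ℕ := (qA1 >>> (19 * b)) % 524288

/-- the words of the second certificate: the coincidences and the triple -/
def WA2 (k : ℕ) : List ℕ := bif Nat.beq k 2 then tripW else longW (relA2.getD k c0)

/-- the four certificates -/
def certA1 : FCert := mkCert 12 2 0 entA1 parA1 fun k => longW (relA1.getD k c0)
def certA2 : FCert := mkCert 28 3 2 entA2 parA2 WA2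
def certA3 : FCert := mkCert 120 4 3 entA3 parA3 fun k => longW (relA3.getD k c0)
noncomputable def certA4 : FCert := mkCert 66825 5 4 entA4 parA4 fun k => longW (relA4.getD k c0)

/-- the rows of a range are checked as soon as each of them is -/
theorem rowsOK_of_forall (C : FCert) {lo len : ℕ} (h : ∀ a, lo ≤ a → a < lo + len → C.rowOK a = true) :
    C.rowsOK lo len = true := by
  rw [FCert.rowsOK, List.all_eq_true]
  intro i hi
  have hi' := List.mem_range.1 hi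
  exact h _ (Nat.le_add_right _ _) (by omega)

/-- a row of a checked range -/
theorem row_of_rows (C : FCert) {lo len : ℕ} (h : C.rowsOK lo len = true) {a : ℕ} (h1 : lo ≤ a) (h2 : a < lo + len) :
    C.rowOK a = true := by
  rw [FCert.rowsOK, List.all_eq_true] at h
  have h3 := h (a - lo) (List.mem_range.2 (by omega))
  rwa [show lo + (a - lo) = a by omega] at h3

/-- a check of a list in two parts -/
theorem all_split {α : Type*} (p : α → Bool) (n : ℕ) (l : List α) (h1 : (l.take n).all p = true)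
    (h2 : (l.drop n).all p = true) : l.all p = true := by
  rw [← List.take_append_drop n l, List.all_append, h1, h2]
  rfl

end Cfsg.Agent.Lib.Helper5.McLMult
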