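import Cfsg.Agent.Lib.Helper5.McLMultC

/-! The checks for the stem extensions of `McL` that the kernel evaluates: codes of permutations, small certificates -/

set_option autoImplicit false
set_option maxRecDepth 100000

namespace Cfsg.Agent.Lib.Helper5.McLMult

open Cfsg.Agent.PG Cfsg.Agent.McLP

theorem chk_gwU : gwordsU.map conjWord = ucodes := by decide +kernel

theorem chk_slpU : (run 275 slpU ((List.range 5).reverse.map (gc ucodes))).getD idxUA (pone 275) = ca ∧
    (run 275 slpU ((List.range 5).reverse.map (gc ucodes))).getD idxUB (pone 275) = cb := by decide +kernel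

theorem chk_relA1 : relA1.all (relOK ucodes) = true := by decide +kernel

theorem chk_relA2 : relA2.all (relOK ucodes) = true := by decide +kernel

theorem chk_relA3 : relA3.all (relOK ucodes) = true := by decide +kernel

theorem chk_letA : relA1.all (letOK 2) = true ∧ relA2.all (letOK 3) = true ∧ relA3.all (letOK 4) = true ∧
    relA4.all (letOK 5) = true ∧ tripW.all (fun x => Nat.blt x 3) = true ∧ relA2.length = 2 := by decide +kernel

theorem chk_tripA : Nat.beq (pmul 275 (palV ucodes tripA) (palV ucodes tripC)) (palV ucodes tripU) = true ∧
    Nat.beq (pmul 275 (palV ucodes tripC) (palV ucodes tripA))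
      (pmul 275 (palV ucodes tripA) (palV ucodes tripC)) = true := by
  decide +kernel

theorem chk_cA1 : certA1.rowsOK 0 12 = true := by decide +kernel

theorem chk_cA2 : certA2.rowsOK 0 28 = true := by decide +kernel

theorem chk_cA3 : certA3.rowsOK 0 120 = true := by decide +kernel

end Cfsg.Agent.Lib.Helper5.McLMult
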