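import Cfsg.Agent.Lib.Helper5.McLMultC

/-! The coincidences of the large coset certificate for the stem extensions of `McL`, checked by the kernel (part 3, in
eight pieces to keep the memory of one check small) -/

set_option autoImplicit false
set_option maxRecDepth 100000

namespace Cfsg.Agent.Lib.Helper5.McLMult

open Cfsg.Agent.PG Cfsg.Agent.McLP

theorem chk_relA4_3_0 : (relA4_3.take 28).all (relOK ucodes) = true := by decide +kernel
theorem chk_relA4_3_1 : ((relA4_3.drop 28).take 28).all (relOK ucodes) = true := by decide +kernel
theorem chk_relA4_3_2 : (((relA4_3.drop 28).drop 28).take 28).all (relOK ucodes) = true := by decide +kernel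
theorem chk_relA4_3_3 : ((((relA4_3.drop 28).drop 28).drop 28).take 28).all (relOK ucodes) = true := by decide +kernel
theorem chk_relA4_3_4 : (((((relA4_3.drop 28).drop 28).drop 28).drop 28).take 28).all (relOK ucodes) = true := by decide +kernel
theorem chk_relA4_3_5 : ((((((relA4_3.drop 28).drop 28).drop 28).drop 28).drop 28).take 28).all (relOK ucodes) = true := by decide +kernel
theorem chk_relA4_3_6 : (((((((relA4_3.drop 28).drop 28).drop 28).drop 28).drop 28).drop 28).take 28).all (relOK ucodes) = true := by decide +kernel
theorem chk_relA4_3_7 : (((((((relA4_3.drop 28).drop 28).drop 28).drop 28).drop 28).drop 28).drop 28).all (relOK ucodes) = true := by decide +kernel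

theorem chk_relA4_3 : relA4_3.all (relOK ucodes) = true :=
  all_split (relOK ucodes) 28 _ chk_relA4_3_0
    (all_split (relOK ucodes) 28 _ chk_relA4_3_1
    (all_split (relOK ucodes) 28 _ chk_relA4_3_2
    (all_split (relOK ucodes) 28 _ chk_relA4_3_3
    (all_split (relOK ucodes) 28 _ chk_relA4_3_4
    (all_split (relOK ucodes) 28 _ chk_relA4_3_5
    (all_split (relOK ucodes) 28 _ chk_relA4_3_6
    (chk_relA4_3_7)))))))

end Cfsg.Agent.Lib.Helper5.McLMult
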