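import Cfsg.Agent.Lib.Helper5.McLMultC

/-! The rows of the large coset certificate for the stem extensions of `McL`, checked by the kernel (part 16, in five
ranges of 405 rows to keep the memory of one check small) -/

set_option autoImplicit false
set_option maxRecDepth 100000

namespace Cfsg.Agent.Lib.Helper5.McLMult

open Cfsg.Agent.PG Cfsg.Agent.McLP

theorem chk_cA4_16_0 : certA4.rowsOK 32400 405 = true := by decide +kernel
theorem chk_cA4_16_1 : certA4.rowsOK 32805 405 = true := by decide +kernel
theorem chk_cA4_16_2 : certA4.rowsOK 33210 405 = true := by decide +kernel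
theorem chk_cA4_16_3 : certA4.rowsOK 33615 405 = true := by decide +kernel
theorem chk_cA4_16_4 : certA4.rowsOK 34020 405 = true := by decide +kernel

theorem chk_cA4_16 : certA4.rowsOK 32400 2025 = true := by
  apply rowsOK_of_forall
  intro a hlo hhi
  rcases Nat.lt_or_ge a 32805 with h | h0
  · exact row_of_rows certA4 chk_cA4_16_0 (by omega) (by omega)
  rcases Nat.lt_or_ge a 33210 with h | h1
  · exact row_of_rows certA4 chk_cA4_16_1 (by omega) (by omega)
  rcases Nat.lt_or_ge a 33615 with h | h2
  · exact row_of_rows certA4 chk_cA4_16_2 (by omega) (by omega)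
  rcases Nat.lt_or_ge a 34020 with h | h3
  · exact row_of_rows certA4 chk_cA4_16_3 (by omega) (by omega)
  exact row_of_rows certA4 chk_cA4_16_4 (by omega) (by omega)

end Cfsg.Agent.Lib.Helper5.McLMult
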