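import Cfsg.Agent.Lib.Helper5.McLMultC

/-! The rows of the large coset certificate for the stem extensions of `McL`, checked by the kernel (part 26, in five
ranges of 405 rows to keep the memory of one check small) -/

set_option autoImplicit false
set_option maxRecDepth 100000

namespace Cfsg.Agent.Lib.Helper5.McLMult

open Cfsg.Agent.PG Cfsg.Agent.McLP

theorem chk_cA4_26_0 : certA4.rowsOK 52650 405 = true := by decide +kernel
theorem chk_cA4_26_1 : certA4.rowsOK 53055 405 = true := by decide +kernel
theorem chk_cA4_26_2 : certA4.rowsOK 53460 405 = true := by decide +kernel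
theorem chk_cA4_26_3 : certA4.rowsOK 53865 405 = true := by decide +kernel
theorem chk_cA4_26_4 : certA4.rowsOK 54270 405 = true := by decide +kernel

theorem chk_cA4_26 : certA4.rowsOK 52650 2025 = true := by
  apply rowsOK_of_forall
  intro a hlo hhi
  rcases Nat.lt_or_ge a 53055 with h | h0
  · exact row_of_rows certA4 chk_cA4_26_0 (by omega) (by omega)
  rcases Nat.lt_or_ge a 53460 with h | h1
  · exact row_of_rows certA4 chk_cA4_26_1 (by omega) (by omega)
  rcases Nat.lt_or_ge a 53865 with h | h2
  · exact row_of_rows certA4 chk_cA4_26_2 (by omega) (by omega)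
  rcases Nat.lt_or_ge a 54270 with h | h3
  · exact row_of_rows certA4 chk_cA4_26_3 (by omega) (by omega)
  exact row_of_rows certA4 chk_cA4_26_4 (by omega) (by omega)

end Cfsg.Agent.Lib.Helper5.McLMult
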