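import Cfsg.Agent.Lib.Helper5.McLMultC

/-! The rows of the large coset certificate for the stem extensions of `McL`, checked by the kernel (part 31, in five
ranges of 405 rows to keep the memory of one check small) -/

set_option autoImplicit false
set_option maxRecDepth 100000

namespace Cfsg.Agent.Lib.Helper5.McLMult

open Cfsg.Agent.PG Cfsg.Agent.McLP

theorem chk_cA4_31_0 : certA4.rowsOK 62775 405 = true := by decide +kernel
theorem chk_cA4_31_1 : certA4.rowsOK 63180 405 = true := by decide +kernel
theorem chk_cA4_31_2 : certA4.rowsOK 63585 405 = true := by decide +kernel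
theorem chk_cA4_31_3 : certA4.rowsOK 63990 405 = true := by decide +kernel
theorem chk_cA4_31_4 : certA4.rowsOK 64395 405 = true := by decide +kernel

theorem chk_cA4_31 : certA4.rowsOK 62775 2025 = true := by
  apply rowsOK_of_forall
  intro a hlo hhi
  rcases Nat.lt_or_ge a 63180 with h | h0
  · exact row_of_rows certA4 chk_cA4_31_0 (by omega) (by omega)
  rcases Nat.lt_or_ge a 63585 with h | h1
  · exact row_of_rows certA4 chk_cA4_31_1 (by omega) (by omega)
  rcases Nat.lt_or_ge a 63990 with h | h2
  · exact row_of_rows certA4 chk_cA4_31_2 (by omega) (by omega)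
  rcases Nat.lt_or_ge a 64395 with h | h3
  · exact row_of_rows certA4 chk_cA4_31_3 (by omega) (by omega)
  exact row_of_rows certA4 chk_cA4_31_4 (by omega) (by omega)

end Cfsg.Agent.Lib.Helper5.McLMult
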