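import Cfsg.Agent.Lib.Helper5.McLMultC

/-! The rows of the large coset certificate for the stem extensions of `McL`, checked by the kernel (part 8, in five
ranges of 405 rows to keep the memory of one check small) -/

set_option autoImplicit false
set_option maxRecDepth 100000

namespace Cfsg.Agent.Lib.Helper5.McLMult

open Cfsg.Agent.PG Cfsg.Agent.McLP

theorem chk_cA4_8_0 : certA4.rowsOK 16200 405 = true := by decide +kernel
theorem chk_cA4_8_1 : certA4.rowsOK 16605 405 = true := by decide +kernel
theorem chk_cA4_8_2 : certA4.rowsOK 17010 405 = true := by decide +kernel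
theorem chk_cA4_8_3 : certA4.rowsOK 17415 405 = true := by decide +kernel
theorem chk_cA4_8_4 : certA4.rowsOK 17820 405 = true := by decide +kernel

theorem chk_cA4_8 : certA4.rowsOK 16200 2025 = true := by
  apply rowsOK_of_forall
  intro a hlo hhi
  rcases Nat.lt_or_ge a 16605 with h | h0
  · exact row_of_rows certA4 chk_cA4_8_0 (by omega) (by omega)
  rcases Nat.lt_or_ge a 17010 with h | h1
  · exact row_of_rows certA4 chk_cA4_8_1 (by omega) (by omega)
  rcases Nat.lt_or_ge a 17415 with h | h2
  · exact row_of_rows certA4 chk_cA4_8_2 (by omega) (by omega)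
  rcases Nat.lt_or_ge a 17820 with h | h3
  · exact row_of_rows certA4 chk_cA4_8_3 (by omega) (by omega)
  exact row_of_rows certA4 chk_cA4_8_4 (by omega) (by omega)

end Cfsg.Agent.Lib.Helper5.McLMult
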