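import Cfsg.Agent.Lib.Helper5.McLMultChk0
import Cfsg.Agent.Lib.Helper5.McLMultChkR0
import Cfsg.Agent.Lib.Helper5.McLMultChkR1
import Cfsg.Agent.Lib.Helper5.McLMultChkR2
import Cfsg.Agent.Lib.Helper5.McLMultChkR3
import Cfsg.Agent.Lib.Helper5.McLMultChkR4
import Cfsg.Agent.Lib.Helper5.McLMultChkR5
import Cfsg.Agent.Lib.Helper5.McLMultChkT0
import Cfsg.Agent.Lib.Helper5.McLMultChkT1
import Cfsg.Agent.Lib.Helper5.McLMultChkT2
import Cfsg.Agent.Lib.Helper5.McLMultChkT3
import Cfsg.Agent.Lib.Helper5.McLMultChkT4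
import Cfsg.Agent.Lib.Helper5.McLMultChkT5
import Cfsg.Agent.Lib.Helper5.McLMultChkT6
import Cfsg.Agent.Lib.Helper5.McLMultChkT7
import Cfsg.Agent.Lib.Helper5.McLMultChkT8
import Cfsg.Agent.Lib.Helper5.McLMultChkT9
import Cfsg.Agent.Lib.Helper5.McLMultChkT10
import Cfsg.Agent.Lib.Helper5.McLMultChkT11
import Cfsg.Agent.Lib.Helper5.McLMultChkT12
import Cfsg.Agent.Lib.Helper5.McLMultChkT13
import Cfsg.Agent.Lib.Helper5.McLMultChkT14
import Cfsg.Agent.Lib.Helper5.McLMultChkT15
import Cfsg.Agent.Lib.Helper5.McLMultChkT16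
import Cfsg.Agent.Lib.Helper5.McLMultChkT17
import Cfsg.Agent.Lib.Helper5.McLMultChkT18
import Cfsg.Agent.Lib.Helper5.McLMultChkT19
import Cfsg.Agent.Lib.Helper5.McLMultChkT20
import Cfsg.Agent.Lib.Helper5.McLMultChkT21
import Cfsg.Agent.Lib.Helper5.McLMultChkT22
import Cfsg.Agent.Lib.Helper5.McLMultChkT23
import Cfsg.Agent.Lib.Helper5.McLMultChkT24
import Cfsg.Agent.Lib.Helper5.McLMultChkT25
import Cfsg.Agent.Lib.Helper5.McLMultChkT26
import Cfsg.Agent.Lib.Helper5.McLMultChkT27
import Cfsg.Agent.Lib.Helper5.McLMultChkT28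
import Cfsg.Agent.Lib.Helper5.McLMultChkT29
import Cfsg.Agent.Lib.Helper5.McLMultChkT30
import Cfsg.Agent.Lib.Helper5.McLMultChkT31
import Cfsg.Agent.Lib.Helper5.McLMultChkT32

/-!
# A finite stem extension of `McL` has at most `3 |McL|` elements

`McL` is the group `P` of permutations of 275 points and `tz` an involution of it whose centraliser is assumed perfect.
Five conjugates of `tz` generate `P`; in a stem extension their canonical lifts `γ 0, …, γ 4` generate the extension and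
satisfy every relation "two conjugates coincide" (checked on the codes of the permutations) and one relation "the
product of two commuting conjugates is a conjugate".  Four coset certificates give `|⟨γ 0, γ 1⟩| ≤ 12`,
`|⟨γ 0, γ 1, γ 2⟩| ≤ 28 · 12`, `|⟨γ 0, …, γ 3⟩| ≤ 120 · 28 · 12` and `|⟨γ 0, …, γ 4⟩| ≤ 66825 · 120 · 28 · 12 = 3 |McL|`.
-/

set_option autoImplicit false

namespace Cfsg.Agent.Lib.Helper5.McLMult

open Cfsg.Agent.PG Cfsg.Agent.McLP Cfsg.Agent.Lib.Helper8.CanonLift
open Cfsg.Agent.Lib.Helper5.J3Mult (FCert palW conjV conjV_eq palP Tq Tq_mk Tq_conj Tq_sq Tq_injective Tq_palP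
  prod_palW prod_coincide prod_triple Cz exists_lifts_cent seg seg_zero card_seg_le)

/-- **the five involutions generate `P`** -/
theorem closure_tGU : Subgroup.closure (tG ucodes '' Set.Iio 5) = ⊤ :=
  closure_tG chk_gwU 5 slpU idxUA idxUB chk_slpU.1 chk_slpU.2

/-! ### the words of the certificates are trivial on the lifts -/

section lifts

variable {E : Type*} [Group E] {σ : E →* ↥P} (Λ : Lifts σ (Tq tz))

/-- the lifts of the five involutions -/
noncomputable def γL (i : ℕ) : E := Λ.L (xG chk_gwU i)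

theorem γL_sq (i : ℕ) : γL Λ i * γL Λ i = 1 := Λ.sq _

theorem word_of_relOK {c : List ℕ × ℕ × List ℕ × ℕ} (h : relOK ucodes c = true) :
    ((longW c).map (γL Λ)).prod = 1 := by
  unfold longW
  apply prod_coincide Λ (xG chk_gwU) (fun i => by rw [Tq_xG]; exact tG_sq chk_gwU i)
  rw [Tq_xG', Tq_xG, Tq_xG]
  have e1 := conjV_palV chk_gwU (c.1, c.2.1)
  have e2 := conjV_palV chk_gwU (c.2.2.1, c.2.2.2)
  rw [e1, e2]
  unfold relOK at h
  unfold palV
  rw [Nat.eq_of_beq_eq_true h]

theorem relOK_c0 : relOK ucodes c0 = true := by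
  unfold relOK c0
  exact Nat.beq_refl _

theorem word_getD {l : List (List ℕ × ℕ × List ℕ × ℕ)} (hl : l.all (relOK ucodes) = true) (k : ℕ) :
    ((longW (l.getD k c0)).map (γL Λ)).prod = 1 := by
  apply word_of_relOK
  by_cases hk : k < l.length
  · rw [List.getD_eq_getElem _ _ hk]
    exact List.all_eq_true.1 hl _ (List.getElem_mem hk)
  · rw [List.getD_eq_default _ _ (by omega)]
    exact relOK_c0

theorem chk_relA4 : relA4.all (relOK ucodes) = true := by
  unfold relA4
  rw [List.all_append, List.all_append, List.all_append, List.all_append, List.all_append, chk_relA4_0, chk_relA4_1, chk_relA4_2, chk_relA4_3, chk_relA4_4, chk_relA4_5]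
  rfl

/-- the points of the triple -/
noncomputable def ptA : ↥P ⧸ Cz tz := palP (xG chk_gwU) tripA.1 tripA.2
noncomputable def ptC : ↥P ⧸ Cz tz := palP (xG chk_gwU) tripC.1 tripC.2
noncomputable def ptU : ↥P ⧸ Cz tz := palP (xG chk_gwU) tripU.1 tripU.2

theorem trip_mul : Tq tz ptA * Tq tz ptC = Tq tz ptU := by
  unfold ptA ptC ptU
  rw [Tq_palP_code, Tq_palP_code, Tq_palP_code, ← el_pmul (good_palV chk_gwU _) (good_palV chk_gwU _),
    Nat.eq_of_beq_eq_true chk_tripA.1]

theorem trip_comm : Tq tz ptC * Tq tz ptA * (Tq tz ptC)⁻¹ = Tq tz ptA := by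
  have h : Tq tz ptC * Tq tz ptA = Tq tz ptA * Tq tz ptC := by
    unfold ptA ptC
    rw [Tq_palP_code, Tq_palP_code, ← el_pmul (good_palV chk_gwU _) (good_palV chk_gwU _),
      ← el_pmul (good_palV chk_gwU _) (good_palV chk_gwU _), Nat.eq_of_beq_eq_true chk_tripA.2]
  rw [h]
  group

theorem tripW_eq_one (hacu : Λ.L ptA * Λ.L ptC = Λ.L ptU) : (tripW.map (γL Λ)).prod = 1 :=
  prod_triple Λ (xG chk_gwU) hacu

end lifts

/-! ### the bound -/

theorem hallA4 : ∀ a, a < certA4.n → ∀ x, x < certA4.g → certA4.slotOK a x = true := by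
  intro a ha x hx
  have ha' : a < 66825 := ha
  rcases Nat.lt_or_ge a 2025 with h0 | h0
  · exact certA4.slot_of_rows chk_cA4_0 (Nat.zero_le _) (by omega) hx
  rcases Nat.lt_or_ge a 4050 with h1 | h1
  · exact certA4.slot_of_rows chk_cA4_1 h0 (by omega) hx
  rcases Nat.lt_or_ge a 6075 with h2 | h2
  · exact certA4.slot_of_rows chk_cA4_2 h1 (by omega) hx
  rcases Nat.lt_or_ge a 8100 with h3 | h3
  · exact certA4.slot_of_rows chk_cA4_3 h2 (by omega) hx
  rcases Nat.lt_or_ge a 10125 with h4 | h4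
  · exact certA4.slot_of_rows chk_cA4_4 h3 (by omega) hx
  rcases Nat.lt_or_ge a 12150 with h5 | h5
  · exact certA4.slot_of_rows chk_cA4_5 h4 (by omega) hx
  rcases Nat.lt_or_ge a 14175 with h6 | h6
  · exact certA4.slot_of_rows chk_cA4_6 h5 (by omega) hx
  rcases Nat.lt_or_ge a 16200 with h7 | h7
  · exact certA4.slot_of_rows chk_cA4_7 h6 (by omega) hx
  rcases Nat.lt_or_ge a 18225 with h8 | h8
  · exact certA4.slot_of_rows chk_cA4_8 h7 (by omega) hx
  rcases Nat.lt_or_ge a 20250 with h9 | h9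
  · exact certA4.slot_of_rows chk_cA4_9 h8 (by omega) hx
  rcases Nat.lt_or_ge a 22275 with h10 | h10
  · exact certA4.slot_of_rows chk_cA4_10 h9 (by omega) hx
  rcases Nat.lt_or_ge a 24300 with h11 | h11
  · exact certA4.slot_of_rows chk_cA4_11 h10 (by omega) hx
  rcases Nat.lt_or_ge a 26325 with h12 | h12
  · exact certA4.slot_of_rows chk_cA4_12 h11 (by omega) hx
  rcases Nat.lt_or_ge a 28350 with h13 | h13
  · exact certA4.slot_of_rows chk_cA4_13 h12 (by omega) hx
  rcases Nat.lt_or_ge a 30375 with h14 | h14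
  · exact certA4.slot_of_rows chk_cA4_14 h13 (by omega) hx
  rcases Nat.lt_or_ge a 32400 with h15 | h15
  · exact certA4.slot_of_rows chk_cA4_15 h14 (by omega) hx
  rcases Nat.lt_or_ge a 34425 with h16 | h16
  · exact certA4.slot_of_rows chk_cA4_16 h15 (by omega) hx
  rcases Nat.lt_or_ge a 36450 with h17 | h17
  · exact certA4.slot_of_rows chk_cA4_17 h16 (by omega) hx
  rcases Nat.lt_or_ge a 38475 with h18 | h18
  · exact certA4.slot_of_rows chk_cA4_18 h17 (by omega) hx
  rcases Nat.lt_or_ge a 40500 with h19 | h19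
  · exact certA4.slot_of_rows chk_cA4_19 h18 (by omega) hx
  rcases Nat.lt_or_ge a 42525 with h20 | h20
  · exact certA4.slot_of_rows chk_cA4_20 h19 (by omega) hx
  rcases Nat.lt_or_ge a 44550 with h21 | h21
  · exact certA4.slot_of_rows chk_cA4_21 h20 (by omega) hx
  rcases Nat.lt_or_ge a 46575 with h22 | h22
  · exact certA4.slot_of_rows chk_cA4_22 h21 (by omega) hx
  rcases Nat.lt_or_ge a 48600 with h23 | h23
  · exact certA4.slot_of_rows chk_cA4_23 h22 (by omega) hx
  rcases Nat.lt_or_ge a 50625 with h24 | h24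
  · exact certA4.slot_of_rows chk_cA4_24 h23 (by omega) hx
  rcases Nat.lt_or_ge a 52650 with h25 | h25
  · exact certA4.slot_of_rows chk_cA4_25 h24 (by omega) hx
  rcases Nat.lt_or_ge a 54675 with h26 | h26
  · exact certA4.slot_of_rows chk_cA4_26 h25 (by omega) hx
  rcases Nat.lt_or_ge a 56700 with h27 | h27
  · exact certA4.slot_of_rows chk_cA4_27 h26 (by omega) hx
  rcases Nat.lt_or_ge a 58725 with h28 | h28
  · exact certA4.slot_of_rows chk_cA4_28 h27 (by omega) hx
  rcases Nat.lt_or_ge a 60750 with h29 | h29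
  · exact certA4.slot_of_rows chk_cA4_29 h28 (by omega) hx
  rcases Nat.lt_or_ge a 62775 with h30 | h30
  · exact certA4.slot_of_rows chk_cA4_30 h29 (by omega) hx
  rcases Nat.lt_or_ge a 64800 with h31 | h31
  · exact certA4.slot_of_rows chk_cA4_31 h30 (by omega) hx
  exact certA4.slot_of_rows chk_cA4_32 h31 (by omega) hx

theorem hallA3 : ∀ a, a < certA3.n → ∀ x, x < certA3.g → certA3.slotOK a x = true := by
  intro a ha x hx
  have ha' : a < 120 := ha
  exact certA3.slot_of_rows chk_cA3 (Nat.zero_le _) (by omega) hx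

theorem hallA2 : ∀ a, a < certA2.n → ∀ x, x < certA2.g → certA2.slotOK a x = true := by
  intro a ha x hx
  have ha' : a < 28 := ha
  exact certA2.slot_of_rows chk_cA2 (Nat.zero_le _) (by omega) hx

theorem hallA1 : ∀ a, a < certA1.n → ∀ x, x < certA1.g → certA1.slotOK a x = true := by
  intro a ha x hx
  have ha' : a < 12 := ha
  exact certA1.slot_of_rows chk_cA1 (Nat.zero_le _) (by omega) hx

/-- **a finite stem extension of `P` has at most `3 |P|` elements**, if the centraliser of `tz` is perfect -/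
theorem card_stem_le (hperf : commutator ↥(Cz tz) = ⊤) {E : Type*} [Group E] [Finite E] (σ : E →* ↥P)
    (hsurj : Function.Surjective σ) (hcen : σ.ker ≤ Subgroup.center E) (hder : σ.ker ≤ commutator E) :
    Nat.card E ≤ 2694384000 := by
  obtain ⟨Λ, hacu⟩ := exists_lifts_cent tz hsurj hcen tz_sq hperf ptA ptC ptU trip_mul trip_comm
  set γ := γL Λ with hγ
  have hinv : ∀ x, γ x * γ x = 1 := γL_sq Λ
  -- the lifts generate
  have htop : seg γ 5 = ⊤ := by
    have := Λ.closure_eq_top hcen hder (xG chk_gwU '' Set.Iio 5) ⟨xG chk_gwU 0, 0, by norm_num, rfl⟩ (by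
      rw [Set.image_image, Tq_xG']
      exact closure_tGU)
    rw [Set.image_image] at this
    exact this
  -- the four certificates
  have hW1 : ∀ k, ((certA1.W k).map γ).prod = 1 := fun k => word_getD Λ chk_relA1 k
  have hW3 : ∀ k, ((certA3.W k).map γ).prod = 1 := fun k => word_getD Λ chk_relA3 k
  have hW4 : ∀ k, ((certA4.W k).map γ).prod = 1 := fun k => word_getD Λ chk_relA4 k
  have hW2 : ∀ k, ((certA2.W k).map γ).prod = 1 := by
    intro k
    show ((WA2 k).map γ).prod = 1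
    unfold WA2
    cases hk : Nat.beq k 2 with
    | true => exact tripW_eq_one Λ hacu
    | false => exact word_getD Λ chk_relA2 k
  have hL1 : ∀ k, ∀ x ∈ certA1.W k, x < certA1.g := fun k => lt_getD (by norm_num) chk_letA.1 k
  have hL3 : ∀ k, ∀ x ∈ certA3.W k, x < certA3.g := fun k => lt_getD (by norm_num) chk_letA.2.2.1 k
  have hL4 : ∀ k, ∀ x ∈ certA4.W k, x < certA4.g := fun k => lt_getD (by norm_num) chk_letA.2.2.2.1 k
  have hL2 : ∀ k, ∀ x ∈ certA2.W k, x < certA2.g := by
    intro k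
    show ∀ x ∈ WA2 k, x < 3
    unfold WA2
    cases hk : Nat.beq k 2 with
    | true =>
      intro x hx
      have := List.all_eq_true.1 chk_letA.2.2.2.2.1 x hx
      simpa using this
    | false => exact lt_getD (by norm_num) chk_letA.2.1 k
  have hfin0 : Finite ↥(seg γ certA1.nsub) := by
    show Finite ↥(seg γ 0)
    rw [seg_zero]
    infer_instance
  obtain ⟨hfin1, hc1⟩ := card_seg_le γ certA1 hinv hW1 hL1 (Nat.zero_le _) (show 0 < 12 by norm_num) hallA1 hfin0
  have hc1' : Nat.card ↥(seg γ 2) ≤ 12 := by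
    have h0 : Nat.card ↥(seg γ certA1.nsub) = 1 := by
      show Nat.card ↥(seg γ 0) = 1
      rw [seg_zero]
      exact Subgroup.card_bot
    rw [h0] at hc1
    exact hc1
  obtain ⟨hfin2, hc2⟩ := card_seg_le γ certA2 hinv hW2 hL2 (show 2 ≤ 3 by norm_num) (show 0 < 28 by norm_num) hallA2 hfin1
  have hc2' : Nat.card ↥(seg γ 3) ≤ 28 * 12 := le_trans hc2 (Nat.mul_le_mul_left _ hc1')
  obtain ⟨hfin3, hc3⟩ := card_seg_le γ certA3 hinv hW3 hL3 (show 3 ≤ 4 by norm_num) (show 0 < 120 by norm_num) hallA3 hfin2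
  have hc3' : Nat.card ↥(seg γ 4) ≤ 120 * (28 * 12) := le_trans hc3 (Nat.mul_le_mul_left _ hc2')
  obtain ⟨_, hc4⟩ := card_seg_le γ certA4 hinv hW4 hL4 (show 4 ≤ 5 by norm_num) (show 0 < 66825 by norm_num) hallA4 hfin3
  have hc4' : Nat.card ↥(seg γ 5) ≤ 66825 * (120 * (28 * 12)) := le_trans hc4 (Nat.mul_le_mul_left _ hc3')
  rw [htop, Subgroup.card_top] at hc4'
  exact hc4'

end Cfsg.Agent.Lib.Helper5.McLMult
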