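import Cfsg.Agent.Lib.Helper5.SuzukiStab
import Cfsg.Prelude.Def_Sz
import Mathlib

open Cfsg
open scoped Matrix Pointwise
open Cfsg.Agent.S0335
open Cfsg.Agent.Lib.Helper5.Suzuki

namespace Cfsg.Agent.Lib.Helper5.SuzukiBridge

section general
variable {F : Type*} [Field F]

/-- the `(k,l)` entry of `M J Mᵀ` -/
def formRow (M : Matrix (Fin 4) (Fin 4) F) (k l : Fin 4) : F :=
  M k 0 * M l 3 + M k 1 * M l 2 + M k 2 * M l 1 + M k 3 * M l 0

/-- the `(i,j)` entry of `Mᵀ J M` -/
def formCol (M : Matrix (Fin 4) (Fin 4) F) (i j : Fin 4) : F :=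
  M 0 i * M 3 j + M 1 i * M 2 j + M 2 i * M 1 j + M 3 i * M 0 j

theorem formRow_eq (M : Matrix (Fin 4) (Fin 4) F) (k l : Fin 4) :
    (M * suzukiForm F * M.transpose) k l = formRow M k l := by
  simp only [Matrix.mul_apply, Fin.sum_univ_four, suzukiForm, Matrix.transpose_apply, formRow]
  simp
  ring

theorem formCol_eq (M : Matrix (Fin 4) (Fin 4) F) (i j : Fin 4) :
    (M.transpose * suzukiForm F * M) i j = formCol M i j := by
  simp only [Matrix.mul_apply, Fin.sum_univ_four, suzukiForm, Matrix.transpose_apply, formCol]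
  simp
  ring

theorem form_sq : suzukiForm F * suzukiForm F = 1 := by
  ext i j
  fin_cases i <;> fin_cases j <;> simp [suzukiForm, Matrix.mul_apply, Fin.sum_univ_four]

theorem form_flip {M : Matrix (Fin 4) (Fin 4) F}
    (h : M.transpose * suzukiForm F * M = suzukiForm F) :
    M * suzukiForm F * M.transpose = suzukiForm F := by
  have h1 : (suzukiForm F * M.transpose * suzukiForm F) * M = 1 := by
    rw [Matrix.mul_assoc, Matrix.mul_assoc, ← Matrix.mul_assoc M.transpose, h, form_sq]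
  have h2 := mul_eq_one_comm.1 h1
  calc M * suzukiForm F * M.transpose
      = M * suzukiForm F * M.transpose * (suzukiForm F * suzukiForm F) := by
        rw [form_sq, Matrix.mul_one]
    _ = (M * (suzukiForm F * M.transpose * suzukiForm F)) * suzukiForm F := by
        simp only [Matrix.mul_assoc]
    _ = suzukiForm F := by rw [h2, Matrix.one_mul]

theorem minor_mul (M N : Matrix (Fin 4) (Fin 4) F) (k l i j : Fin 4) :
    (M * N) k i * (M * N) l j - (M * N) l i * (M * N) k j =
      (M k 0 * M l 1 - M l 0 * M k 1) * (N 0 i * N 1 j - N 1 i * N 0 j) +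
      (M k 0 * M l 2 - M l 0 * M k 2) * (N 0 i * N 2 j - N 2 i * N 0 j) +
      (M k 1 * M l 3 - M l 1 * M k 3) * (N 1 i * N 3 j - N 3 i * N 1 j) +
      (M k 2 * M l 3 - M l 2 * M k 3) * (N 2 i * N 3 j - N 3 i * N 2 j) +
      (M k 0 * M l 3 - M l 0 * M k 3) * (N 0 i * N 3 j - N 3 i * N 0 j) +
      (M k 1 * M l 2 - M l 1 * M k 2) * (N 1 i * N 2 j - N 2 i * N 1 j) := by
  simp only [Matrix.mul_apply, Fin.sum_univ_four]
  ring

theorem star4_apply (M : Matrix (Fin 4) (Fin 4) F) (p r : Fin 4) :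
    Lie.star4 M p r = M (Lie.pairOf p).1 (Lie.pairOf r).1 * M (Lie.pairOf p).2 (Lie.pairOf r).2 -
      M (Lie.pairOf p).2 (Lie.pairOf r).1 * M (Lie.pairOf p).1 (Lie.pairOf r).2 := rfl

theorem star4_mul [CharP F 2] (M N : Matrix (Fin 4) (Fin 4) F)
    (hM : M * suzukiForm F * M.transpose = suzukiForm F)
    (hN : N.transpose * suzukiForm F * N = suzukiForm F) :
    Lie.star4 (M * N) = Lie.star4 M * Lie.star4 N := by
  have h2 : (2 : F) = 0 := CharTwo.two_eq_zero
  have hM' : ∀ p : Fin 4, formRow M (Lie.pairOf p).1 (Lie.pairOf p).2 = 0 := by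
    intro p
    rw [← formRow_eq, hM]
    fin_cases p <;> simp [Lie.pairOf, suzukiForm]
  have hN' : ∀ r : Fin 4, formCol N (Lie.pairOf r).1 (Lie.pairOf r).2 = 0 := by
    intro r
    rw [← formCol_eq, hN]
    fin_cases r <;> simp [Lie.pairOf, suzukiForm]
  ext p r
  rw [Matrix.mul_apply, Fin.sum_univ_four]
  simp only [star4_apply]
  rw [minor_mul]
  have e1 := hM' p
  have e2 := hN' r
  unfold formRow at e1
  unfold formCol at e2
  generalize (Lie.pairOf p).1 = k at *
  generalize (Lie.pairOf p).2 = l at *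
  generalize (Lie.pairOf r).1 = i at *
  generalize (Lie.pairOf r).2 = j at *
  simp only [Lie.pairOf, Matrix.cons_val_zero, Matrix.cons_val_one, Matrix.cons_val]
  linear_combination (N 0 i * N 3 j - N 3 i * N 0 j) * e1 + (M k 1 * M l 2 - M l 1 * M k 2) * e2 -
    ((M l 0 * M k 3 + M l 1 * M k 2) * (N 0 i * N 3 j - N 3 i * N 0 j) +
      (M k 1 * M l 2 - M l 1 * M k 2) * (N 3 i * N 0 j + N 2 i * N 1 j) +
      (M k 1 * M l 2 - M l 1 * M k 2) * (N 0 i * N 3 j - N 3 i * N 0 j)) * h2

end general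

section sz
variable {F : Type*} [Field F] [Fintype F] [CharP F 2] (m : ℕ)
set_option linter.unusedSectionVars false

/-- the defining condition of the matrix Suzuki group -/
def IsSz (M : Matrix (Fin 4) (Fin 4) F) : Prop :=
  M.transpose * suzukiForm F * M = suzukiForm F ∧
    Lie.star4 M = M.map (fun x => x ^ 2 ^ (m + 1))

theorem map_sg_mul (M N : Matrix (Fin 4) (Fin 4) F) :
    (M * N).map (fun x => x ^ 2 ^ (m + 1)) =
      M.map (fun x => x ^ 2 ^ (m + 1)) * N.map (fun x => x ^ 2 ^ (m + 1)) := by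
  have h : (fun x : F => x ^ 2 ^ (m + 1)) = ⇑(iterateFrobenius F 2 (m + 1)) := by
    funext x
    rw [iterateFrobenius_def]
  rw [h, Matrix.map_mul]

theorem IsSz.mul {M N : Matrix (Fin 4) (Fin 4) F} (hM : IsSz m M) (hN : IsSz m N) :
    IsSz m (M * N) := by
  refine ⟨Cfsg.Agent.Lib.Helper5.Suzuki.form_mul hM.1 hN.1, ?_⟩
  rw [star4_mul M N (form_flip hM.1) hN.1, hM.2, hN.2, map_sg_mul]

theorem isSz_Wm : IsSz m (Wm : Matrix (Fin 4) (Fin 4) F) := by
  refine ⟨Wm_form, ?_⟩
  ext p r
  rw [star4_apply]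
  fin_cases p <;> fin_cases r <;> simp [Lie.pairOf, Wm]
  all_goals exact CharTwo.neg_eq _

variable (hF : Fintype.card F = 2 ^ (2 * m + 1))
include hF

theorem isSz_Dm (α : Fˣ) : IsSz m (Dm m α) := by
  refine ⟨Dm_form m α, ?_⟩
  have hα : (α : F) ≠ 0 := α.ne_zero
  have hA0 : (α : F) ^ 2 ^ m ≠ 0 := pow_ne_zero _ hα
  have hA : ((α : F) ^ 2 ^ m) ^ 2 ^ (m + 1) = α := by
    rw [← pow_mul, ← pow_add, show m + (m + 1) = 2 * m + 1 by ring, ← hF, FiniteField.pow_card]
  have hs : (α : F) ^ 2 ^ (m + 1) = ((α : F) ^ 2 ^ m) ^ 2 := by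
    rw [← pow_mul, pow_succ]
  ext p r
  rw [star4_apply]
  fin_cases p <;> fin_cases r <;> simp [Lie.pairOf, Dm]
  all_goals
    simp only [pow_succ (α : F) (2 ^ m), mul_pow, hA, hs]
    generalize (α : F) ^ 2 ^ m = A at hA0 ⊢
    field_simp

theorem isSz_Tm (a b : F) : IsSz m (Tm m a b) := by
  refine ⟨Tm_form m a b, ?_⟩
  have h2 := two_eq_zero' (F := F)
  have hθ : ∀ x : F, x ^ 2 ^ (m + 1) = sg m x := fun x => rfl
  ext p r
  rw [star4_apply]
  fin_cases p <;> fin_cases r <;>
    simp [Lie.pairOf, Tm, hθ, sg_add, sg_mul, sg_sg m hF, ff, sg_zero, sg_one, sg_pow]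
  · linear_combination (-(sg m a * a ^ 2 + sg m b)) * h2
  · linear_combination (-(sg m a ^ 2 * a ^ 2 + sg m a * sg m b)) * h2
  · ring
  · linear_combination (-(sg m b)) * h2

omit hF in
/-- the first column of a matrix satisfying the Suzuki condition is an "absolute point" -/
theorem smul_pinf_mem (g : Matrix.SpecialLinearGroup (Fin 4) F) (hg : IsSz m g.1) :
    g • (pinf : Projectivization F (Fin 4 → F)) ∈ suzukiOvoid F m := by
  have h2 := two_eq_zero' (F := F)
  have hθ : ∀ x : F, x ^ 2 ^ (m + 1) = sg m x := fun x => rfl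
  have E0 : formCol g.1 0 1 = 0 := by
    rw [← formCol_eq, hg.1]
    simp [suzukiForm]
  have E : ∀ p : Fin 4, Lie.star4 g.1 p 0 = sg m (g.1 p 0) := by
    intro p
    rw [hg.2, Matrix.map_apply, hθ]
  have E1 := E 0
  have E2 := E 1
  have E3 := E 2
  have E4 := E 3
  simp only [star4_apply, Lie.pairOf, Matrix.cons_val_zero, Matrix.cons_val_one, Matrix.cons_val]
    at E1 E2 E3 E4
  unfold formCol at E0
  generalize hv0 : g.1 0 0 = v0 at *
  generalize hv1 : g.1 1 0 = v1 at *
  generalize hv2 : g.1 2 0 = v2 at *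
  generalize hv3 : g.1 3 0 = v3 at *
  generalize hu0 : g.1 0 1 = u0 at *
  generalize hu1 : g.1 1 1 = u1 at *
  generalize hu2 : g.1 2 1 = u2 at *
  generalize hu3 : g.1 3 1 = u3 at *
  have hcol : g.1 *ᵥ e0 = ![v0, v1, v2, v3] := by
    funext i
    rw [mulVec_e0]
    fin_cases i <;> simp [hv0, hv1, hv2, hv3]
  by_cases h3 : v3 = 0
  · subst h3
    rw [sg_zero] at E4
    have hv2' : v2 = 0 := by
      by_contra hne
      have hu3' : u3 = 0 := by
        rcases mul_eq_zero.1 (by linear_combination E4 : v2 * u3 = 0) with h | h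
        · exact absurd h hne
        · exact h
      rw [hu3'] at E3
      exact hne (sg_eq_zero m v2 (by linear_combination -E3))
    subst hv2'
    rw [sg_zero] at E3
    have hv1' : v1 = 0 := by
      by_contra hne
      have hu3' : u3 = 0 := by
        rcases mul_eq_zero.1 (by linear_combination E3 : v1 * u3 = 0) with h | h
        · exact absurd h hne
        · exact h
      rw [hu3'] at E0
      have hu2' : u2 = 0 := by
        rcases mul_eq_zero.1 (by linear_combination E0 : v1 * u2 = 0) with h | h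
        · exact absurd h hne
        · exact h
      rw [hu2'] at E2
      exact hne (sg_eq_zero m v1 (by linear_combination -E2))
    subst hv1'
    have : g • (pinf : Projectivization F (Fin 4 → F)) = pinf := by
      apply smul_mk_of_eq g e0 e0 e0_ne_zero e0_ne_zero v0
      rw [hcol]
      funext i
      fin_cases i <;> simp [e0]
    rw [this]
    exact pinf_mem m
  · have hs3 : sg m v3 ≠ 0 := fun h => h3 (sg_eq_zero m v3 h)
    have P : v3 * v0 * sg m v3 + v2 ^ 2 * sg m v2 + v2 * v1 * sg m v3 + v3 ^ 2 * sg m v1 = 0 := by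
      linear_combination (-(v3 * v0 + v2 * v1)) * E4 - v3 * v2 * E0 - v2 ^ 2 * E3 - v3 ^ 2 * E2 +
        (v3 * v0 * v2 * u3 + v2 ^ 2 * v1 * u3) * h2
    have : g • (pinf : Projectivization F (Fin 4 → F)) = pt m (v2 / v3) (v1 / v3) := by
      apply smul_mk_of_eq g e0 _ e0_ne_zero (vec_ne_zero m _ _) v3
      rw [hcol]
      funext i
      fin_cases i
      · simp only [S0335.vec, ff, sg_div, Pi.smul_apply, smul_eq_mul]
        simp
        field_simp
        linear_combination P - (v2 ^ 2 * sg m v2 + v2 * v1 * sg m v3 + v3 ^ 2 * sg m v1) * h2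
      · simp [S0335.vec]; field_simp
      · simp [S0335.vec]; field_simp
      · simp [S0335.vec]
    rw [this]
    exact pt_mem m _ _

theorem isSz_of_mem (hm : 1 ≤ m) (g : Matrix.SpecialLinearGroup (Fin 4) F) (hg : g ∈ Sz F m) :
    IsSz m g.1 := by
  have hT : ∀ a b : F, IsSz m (tT m hF a b).1.1 := fun a b => isSz_Tm m hF a b
  have hD : ∀ α : Fˣ, IsSz m (dD m hF α).1.1 := fun α => isSz_Dm m hF α
  have hW : IsSz m (wW m hF).1.1 := isSz_Wm m
  rcases Cfsg.Agent.Lib.Helper5.Suzuki.cases m hF hm ⟨g, hg⟩ with ⟨a, b, α, h⟩ | ⟨a, b, a', b', α, h⟩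
  · have h' : g.1 = (tT m hF a b).1.1 * (dD m hF α).1.1 := by
      have := congrArg (fun x : Sz F m => x.1.1) h
      simpa using this
    rw [h']
    exact (hT a b).mul m (hD α)
  · have h' : g.1 = (tT m hF a b).1.1 * (wW m hF).1.1 * (tT m hF a' b').1.1 * (dD m hF α).1.1 := by
      have := congrArg (fun x : Sz F m => x.1.1) h
      simpa using this
    rw [h']
    exact (((hT a b).mul m hW).mul m (hT a' b')).mul m (hD α)

theorem mem_Sz_of_isSz (g : Matrix.SpecialLinearGroup (Fin 4) F) (hg : IsSz m g.1) :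
    g ∈ Sz F m := by
  apply mem_Sz_of m g (smul_pinf_mem m g hg)
  intro x y
  have hx : pt m x y = (tS m x y * wS) • (pinf : Projectivization F (Fin 4 → F)) := by
    rw [mul_smul, wS_pinf m, tS_pt m hF]
    simp
  rw [hx, ← mul_smul]
  apply smul_pinf_mem m
  have : (g * (tS m x y * wS)).1 = g.1 * (Tm m x y * Wm) := rfl
  rw [this]
  exact hg.mul m ((isSz_Tm m hF x y).mul m (isSz_Wm m))

end sz

section sp4
variable {F : Type*} [Field F]

theorem altForm4_eq (u v : Fin 4 → F) : Lie.altForm4 u v = u ⬝ᵥ (suzukiForm F *ᵥ v) := by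
  simp [Lie.altForm4, dotProduct, Matrix.mulVec, Fin.sum_univ_four, suzukiForm]

theorem altForm4_mulVec (M : Matrix (Fin 4) (Fin 4) F) (u v : Fin 4 → F) :
    Lie.altForm4 (M *ᵥ u) (M *ᵥ v) = u ⬝ᵥ ((M.transpose * suzukiForm F * M) *ᵥ v) := by
  rw [altForm4_eq, ← Matrix.vecMul_transpose, ← Matrix.dotProduct_mulVec, Matrix.mulVec_mulVec,
    Matrix.mulVec_mulVec, Matrix.mul_assoc]

theorem mem_Sp4_iff (g : GL (Fin 4) F) :
    g ∈ Lie.Sp4 F ↔ (g : Matrix (Fin 4) (Fin 4) F).transpose * suzukiForm F * g = suzukiForm F := by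
  constructor
  · intro h
    ext i j
    have := h (Pi.single i 1) (Pi.single j 1)
    rw [Units.coeHom_apply, altForm4_mulVec, altForm4_eq, Matrix.mulVec_single_one,
      Matrix.mulVec_single_one, single_one_dotProduct, single_one_dotProduct] at this
    exact this
  · intro h u v
    rw [Units.coeHom_apply, altForm4_mulVec, h, altForm4_eq]

theorem det_eq_one_of_form [Fintype F] [CharP F 2] (M : Matrix (Fin 4) (Fin 4) F)
    (h : M.transpose * suzukiForm F * M = suzukiForm F) : M.det = 1 := by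
  have hJ : (suzukiForm F).det ≠ 0 := by
    intro h0
    have := congrArg Matrix.det (form_sq (F := F))
    rw [Matrix.det_mul, h0, Matrix.det_one, mul_zero] at this
    exact zero_ne_one this
  have h1 := congrArg Matrix.det h
  rw [Matrix.det_mul, Matrix.det_mul, Matrix.det_transpose] at h1
  have h2 : M.det ^ 2 = 1 ^ 2 := by
    rw [one_pow]
    apply mul_right_cancel₀ hJ
    linear_combination h1
  exact sq_inj_char2 h2

end sp4

section main
variable {F : Type*} [Field F] [Fintype F] {m : ℕ}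

/-- the matrix Suzuki group is the image of the ovoid stabiliser in `GL₄` -/
theorem lieSz_eq (hm : 1 ≤ m) (hF : Fintype.card F = 2 ^ (2 * m + 1)) :
    Lie.Sz F (2 ^ (m + 1)) = (Sz F m).map Matrix.SpecialLinearGroup.toGL := by
  have := charP_of_card hF
  apply le_antisymm
  · rw [Lie.Sz, Subgroup.closure_le]
    rintro g ⟨hg1, hg2⟩
    have hform := (mem_Sp4_iff g).1 hg1
    have hdet := det_eq_one_of_form _ hform
    refine ⟨⟨g.1, hdet⟩, mem_Sz_of_isSz m hF _ ⟨hform, hg2⟩, ?_⟩
    apply Units.ext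
    rfl
  · rintro _ ⟨g, hg, rfl⟩
    apply Subgroup.subset_closure
    have := isSz_of_mem m hF hm g hg
    exact ⟨(mem_Sp4_iff _).2 this.1, this.2⟩

/-- the isomorphism between the matrix Suzuki group and the ovoid stabiliser -/
noncomputable def lieSzEquiv (hm : 1 ≤ m) (hF : Fintype.card F = 2 ^ (2 * m + 1)) :
    ↥(Lie.Sz F (2 ^ (m + 1))) ≃* ↥(Sz F m) :=
  (MulEquiv.subgroupCongr (lieSz_eq hm hF)).trans
    ((Sz F m).equivMapOfInjective _ Matrix.SpecialLinearGroup.toGL_injective).symm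

end main

end Cfsg.Agent.Lib.Helper5.SuzukiBridge
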