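import Cfsg.Agent.Lib.Helper5.SuzukiToriC
import Mathlib

set_option autoImplicit false
open Cfsg
open scoped Matrix Pointwise commutatorElement
open Cfsg.Agent.S0335
open Cfsg.Agent.Lib.Helper5.FixCount

namespace Cfsg.Agent.Lib.Helper5.Suzuki

section partArith

theorem eq_one_of_pow_coprime {G : Type*} [Group G] {x : G} {a b : ℕ} (ha : x ^ a = 1)
    (hb : x ^ b = 1) (h : Nat.Coprime a b) : x = 1 := by
  have := pow_gcd_eq_one.2 ⟨ha, hb⟩
  rw [h, pow_one] at this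
  exact this

theorem r_le_q (m : ℕ) : 2 ^ (m + 1) ≤ 2 ^ (2 * m + 1) :=
  Nat.pow_le_pow_right (by norm_num) (by omega)

theorem q_even (m : ℕ) : 2 ^ (2 * m + 1) % 2 = 0 := by
  rw [pow_succ]; omega

theorem r_even (m : ℕ) : 2 ^ (m + 1) % 2 = 0 := by
  rw [pow_succ]; omega

theorem k1_odd (m : ℕ) : (2 ^ (2 * m + 1) - 1) % 2 = 1 := by
  have h1 := q_even m
  have h2 : 1 ≤ 2 ^ (2 * m + 1) := Nat.one_le_two_pow
  omega

theorem k2_odd (m : ℕ) : (2 ^ (2 * m + 1) + 2 ^ (m + 1) + 1) % 2 = 1 := by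
  have h1 := q_even m
  have h2 := r_even m
  omega

theorem k3_odd (m : ℕ) : (2 ^ (2 * m + 1) - 2 ^ (m + 1) + 1) % 2 = 1 := by
  have h1 := q_even m
  have h2 := r_even m
  have h3 := r_le_q m
  omega

theorem k2_mul_k3 (m : ℕ) :
    (2 ^ (2 * m + 1) + 2 ^ (m + 1) + 1) * (2 ^ (2 * m + 1) - 2 ^ (m + 1) + 1) =
      (2 ^ (2 * m + 1)) ^ 2 + 1 := by
  have h3 := r_le_q m
  obtain ⟨d, hd⟩ := Nat.exists_eq_add_of_le h3
  have hr : 2 ^ (m + 1) * 2 ^ (m + 1) = 2 * 2 ^ (2 * m + 1) := by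
    rw [← pow_add, ← pow_succ']
    congr 1
    omega
  rw [hd, Nat.add_sub_cancel_left]
  rw [hd] at hr
  nlinarith

theorem cop_k2_k3 (m : ℕ) :
    Nat.Coprime (2 ^ (2 * m + 1) + 2 ^ (m + 1) + 1) (2 ^ (2 * m + 1) - 2 ^ (m + 1) + 1) := by
  have h3 := r_le_q m
  have e : 2 ^ (2 * m + 1) + 2 ^ (m + 1) + 1 =
      2 ^ (m + 2) + (2 ^ (2 * m + 1) - 2 ^ (m + 1) + 1) := by
    have : 2 ^ (m + 2) = 2 * 2 ^ (m + 1) := by rw [pow_succ']
    omega
  rw [e, Nat.coprime_add_self_left]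
  exact Nat.Coprime.pow_left _ (Nat.coprime_two_left.2 (Nat.odd_iff.2 (k3_odd m)))

theorem cop_k1_N (m : ℕ) : Nat.Coprime (2 ^ (2 * m + 1) - 1) ((2 ^ (2 * m + 1)) ^ 2 + 1) := by
  have h2 : 1 ≤ 2 ^ (2 * m + 1) := Nat.one_le_two_pow
  have e : (2 ^ (2 * m + 1)) ^ 2 + 1 = (2 ^ (2 * m + 1) + 1) * (2 ^ (2 * m + 1) - 1) + 2 := by
    obtain ⟨d, hd⟩ := Nat.exists_eq_add_of_le h2
    rw [hd, Nat.add_sub_cancel_left]
    ring
  rw [e, Nat.coprime_mul_right_add_right]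
  exact (Nat.coprime_two_right.2 (Nat.odd_iff.2 (k1_odd m)))

theorem cop_k1_k2 (m : ℕ) :
    Nat.Coprime (2 ^ (2 * m + 1) - 1) (2 ^ (2 * m + 1) + 2 ^ (m + 1) + 1) :=
  Nat.Coprime.coprime_dvd_right (Dvd.intro _ (k2_mul_k3 m)) (cop_k1_N m)

theorem cop_k1_k3 (m : ℕ) :
    Nat.Coprime (2 ^ (2 * m + 1) - 1) (2 ^ (2 * m + 1) - 2 ^ (m + 1) + 1) :=
  Nat.Coprime.coprime_dvd_right (Dvd.intro_left _ (k2_mul_k3 m)) (cop_k1_N m)

theorem cop_four {k : ℕ} (hk : k % 2 = 1) : Nat.Coprime 4 k := by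
  have : (4 : ℕ) = 2 ^ 2 := by norm_num
  rw [this]
  exact Nat.Coprime.pow_left _ (Nat.coprime_two_left.2 (Nat.odd_iff.2 hk))

/-- the four "types" of subgroups in the partition have pairwise coprime exponents -/
theorem types_coprime (m : ℕ) {a b : ℕ}
    (ha : a = 4 ∨ a = 2 ^ (2 * m + 1) - 1 ∨ a = 2 ^ (2 * m + 1) + 2 ^ (m + 1) + 1 ∨
      a = 2 ^ (2 * m + 1) - 2 ^ (m + 1) + 1)
    (hb : b = 4 ∨ b = 2 ^ (2 * m + 1) - 1 ∨ b = 2 ^ (2 * m + 1) + 2 ^ (m + 1) + 1 ∨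
      b = 2 ^ (2 * m + 1) - 2 ^ (m + 1) + 1) (hab : a ≠ b) : Nat.Coprime a b := by
  rcases ha with rfl | rfl | rfl | rfl <;> rcases hb with rfl | rfl | rfl | rfl
  · exact (hab rfl).elim
  · exact cop_four (k1_odd m)
  · exact cop_four (k2_odd m)
  · exact cop_four (k3_odd m)
  · exact (cop_four (k1_odd m)).symm
  · exact (hab rfl).elim
  · exact cop_k1_k2 m
  · exact cop_k1_k3 m
  · exact (cop_four (k2_odd m)).symm
  · exact (cop_k1_k2 m).symm
  · exact (hab rfl).elim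
  · exact cop_k2_k3 m
  · exact (cop_four (k3_odd m)).symm
  · exact (cop_k1_k3 m).symm
  · exact (cop_k2_k3 m).symm
  · exact (hab rfl).elim

end partArith

section partition
variable {F : Type*} [Field F] [Fintype F] [CharP F 2] (m : ℕ)
set_option linter.unusedSectionVars false
variable (hF : Fintype.card F = 2 ^ (2 * m + 1))
include hF

/-- the diagonal subgroup -/
def dSub : Subgroup (Sz F m) where
  carrier := {g | ∃ α : Fˣ, g = dD m hF α}
  mul_mem' := by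
    rintro _ _ ⟨α, rfl⟩ ⟨β, rfl⟩
    exact ⟨α * β, dD_mul m hF α β⟩
  one_mem' := ⟨1, (dD_one m hF).symm⟩
  inv_mem' := by
    rintro _ ⟨α, rfl⟩
    exact ⟨α⁻¹, dD_inv m hF α⟩

theorem mem_dSub (g : Sz F m) : g ∈ dSub m hF ↔ ∃ α : Fˣ, g = dD m hF α := Iff.rfl

/-- the parametrisation of the diagonal subgroup -/
def dMon : Fˣ →* dSub m hF where
  toFun α := ⟨dD m hF α, α, rfl⟩
  map_one' := Subtype.ext (dD_one m hF)
  map_mul' α β := Subtype.ext (dD_mul m hF α β).symm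

theorem dMon_bijective : Function.Bijective (dMon m hF) := by
  constructor
  · intro α β h
    exact dD_inj m hF (congrArg Subtype.val h)
  · rintro ⟨_, α, rfl⟩
    exact ⟨α, rfl⟩

theorem isCyclic_dSub : IsCyclic (dSub m hF) :=
  isCyclic_of_surjective (dMon m hF) (dMon_bijective m hF).2

theorem card_dSub : Nat.card (dSub m hF) = 2 ^ (2 * m + 1) - 1 := by
  rw [← Nat.card_congr (Equiv.ofBijective _ (dMon_bijective m hF)), Nat.card_units,
    Nat.card_eq_fintype_card, hF]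

/-- the stabiliser of the point at infinity normalises the unipotent subgroup -/
theorem conjSub_uSub_of_fix (hm : 1 ≤ m) (e : Sz F m)
    (he : e • (oinf m : suzukiOvoid F m) = oinf m) : conjSub e (uSub m hF) = uSub m hF := by
  obtain ⟨a₀, b₀, α, rfl⟩ := stab_inf m hF hm e (congrArg Subtype.val he)
  apply Subgroup.eq_of_le_of_card_ge
  · intro x hx
    rw [mem_conjSub] at hx
    obtain ⟨u, v, huv⟩ := hx
    have e1 : x = tT m hF a₀ b₀ * (dD m hF α * tT m hF u v * (dD m hF α)⁻¹) * (tT m hF a₀ b₀)⁻¹ := by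
      rw [← huv]
      group
    rw [e1, dD_conj, tT_conj]
    exact ⟨_, _, rfl⟩
  · rw [card_conjSub]

theorem tT_ne_one_iff {a b : F} : tT m hF a b ≠ 1 ↔ ¬ (a = 0 ∧ b = 0) := by
  constructor
  · rintro h ⟨rfl, rfl⟩
    exact h (tT_zero m hF)
  · intro h h1
    rw [← tT_zero m hF] at h1
    exact h (tT_inj m hF h1)

/-- Sylow `2`-subgroups have trivial intersection -/
theorem uSub_conj_unique (hm : 1 ≤ m) {g c d : Sz F m} (hg : g ≠ 1)
    (hc : g ∈ conjSub c (uSub m hF)) (hd : g ∈ conjSub d (uSub m hF)) :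
    conjSub c (uSub m hF) = conjSub d (uSub m hF) := by
  rw [mem_conjSub] at hc hd
  obtain ⟨a, b, hab⟩ := hc
  obtain ⟨a', b', hab'⟩ := hd
  have hne : ¬ (a' = 0 ∧ b' = 0) := by
    rw [← tT_ne_one_iff m hF, ← hab']
    intro h
    apply hg
    have e : g = d * (d⁻¹ * g * d) * d⁻¹ := by group
    rw [e, h]
    group
  have hfix : (d⁻¹ * c) • (oinf m : suzukiOvoid F m) = oinf m := by
    apply tT_fix_only m hF hne
    have e : tT m hF a' b' * (d⁻¹ * c) = (d⁻¹ * c) * tT m hF a b := by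
      rw [← hab, ← hab']
      group
    rw [← mul_smul, e, mul_smul, tT_oinf]
  have h1 := conjSub_uSub_of_fix m hF hm _ hfix
  have e : c = d * (d⁻¹ * c) := by group
  rw [e, ← conjSub_conjSub, h1]

theorem sylow_eq_conjSub (hm : 1 ≤ m) (P : Sylow 2 (Sz F m)) :
    ∃ c : Sz F m, (P : Subgroup (Sz F m)) = conjSub c (uSub m hF) := by
  obtain ⟨c, hc⟩ := sylow_conj m hF hm P
  refine ⟨c, ?_⟩
  ext x
  rw [hc, mem_conjSub, mem_uSub]
  constructor
  · rintro ⟨a, b, rfl⟩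
    refine ⟨a, b, ?_⟩
    group
  · rintro ⟨a, b, h⟩
    refine ⟨a, b, ?_⟩
    rw [← h]
    group

theorem exists_sylow_conjSub (hm : 1 ≤ m) (c : Sz F m) :
    ∃ P : Sylow 2 (Sz F m), (P : Subgroup (Sz F m)) = conjSub c (uSub m hF) := by
  have : Fact (Nat.Prime 2) := ⟨Nat.prime_two⟩
  obtain ⟨Q, hQ⟩ := sylow_eq_uSub m hF hm
  refine ⟨c • Q, ?_⟩
  ext x
  rw [Sylow.coe_subgroup_smul, hQ, Subgroup.mem_pointwise_smul_iff_inv_smul_mem, mem_conjSub,
    MulAut.smul_def, MulAut.conj_inv_apply]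

theorem sylow_pow_four (hm : 1 ≤ m) (P : Sylow 2 (Sz F m)) {x : Sz F m}
    (hx : x ∈ (P : Subgroup (Sz F m))) : x ^ 4 = 1 := by
  obtain ⟨c, hc⟩ := sylow_conj m hF hm P
  obtain ⟨a, b, rfl⟩ := (hc x).1 hx
  rw [conj_pow, tT_pow_four, mul_one, mul_inv_cancel]

omit hF in
theorem pow_card_of_mem {U : Subgroup (Sz F m)} {x : Sz F m} (hx : x ∈ U) : x ^ Nat.card U = 1 := by
  have := pow_card_eq_one' (G := U) (x := ⟨x, hx⟩)
  exact congrArg Subtype.val this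


/-- the exponent "type" of a member of the partition -/
theorem good_exp (hm : 1 ≤ m) {U : Subgroup (Sz F m)}
    (hU : (∃ P : Sylow 2 (Sz F m), U = (P : Subgroup (Sz F m))) ∨
      (IsCyclic U ∧ Nat.card U ∈ ({2 ^ (2 * m + 1) - 1, 2 ^ (2 * m + 1) + 2 ^ (m + 1) + 1,
        2 ^ (2 * m + 1) - 2 ^ (m + 1) + 1} : Set ℕ))) :
    ∃ t : ℕ, (t = 4 ∨ t = 2 ^ (2 * m + 1) - 1 ∨ t = 2 ^ (2 * m + 1) + 2 ^ (m + 1) + 1 ∨
        t = 2 ^ (2 * m + 1) - 2 ^ (m + 1) + 1) ∧ (∀ x ∈ U, x ^ t = 1) ∧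
      (t = 4 → ∃ P : Sylow 2 (Sz F m), U = (P : Subgroup (Sz F m))) ∧
      (t ≠ 4 → IsCyclic U ∧ Nat.card U = t) := by
  rcases hU with ⟨P, rfl⟩ | ⟨hc, hcard⟩
  · refine ⟨4, Or.inl rfl, fun x hx => sylow_pow_four m hF hm P hx, fun _ => ⟨P, rfl⟩, ?_⟩
    intro h
    exact (h rfl).elim
  · refine ⟨Nat.card U, Or.inr ?_, fun x hx => pow_card_of_mem m hx, ?_, fun _ => ⟨hc, rfl⟩⟩
    · simpa [Set.mem_insert_iff] using hcard
    · intro h4
      exfalso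
      rw [Set.mem_insert_iff, Set.mem_insert_iff, Set.mem_singleton_iff] at hcard
      have h1 := k1_odd m
      have h2 := k2_odd m
      have h3 := k3_odd m
      rcases hcard with h | h | h <;> omega

/-- uniqueness when the constructed member is a Sylow `2`-subgroup -/
theorem unique_sylow (hm : 1 ≤ m) {g : Sz F m} (hg : g ≠ 1) (P : Sylow 2 (Sz F m))
    (hgP : g ∈ (P : Subgroup (Sz F m))) {U : Subgroup (Sz F m)}
    (hU : (∃ P : Sylow 2 (Sz F m), U = (P : Subgroup (Sz F m))) ∨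
      (IsCyclic U ∧ Nat.card U ∈ ({2 ^ (2 * m + 1) - 1, 2 ^ (2 * m + 1) + 2 ^ (m + 1) + 1,
        2 ^ (2 * m + 1) - 2 ^ (m + 1) + 1} : Set ℕ))) (hgU : g ∈ U) :
    U = (P : Subgroup (Sz F m)) := by
  obtain ⟨t, ht, hpow, h4, -⟩ := good_exp m hF hm hU
  by_cases ht4 : t = 4
  · obtain ⟨P', rfl⟩ := h4 ht4
    obtain ⟨c, hc⟩ := sylow_eq_conjSub m hF hm P
    obtain ⟨d, hd⟩ := sylow_eq_conjSub m hF hm P'
    rw [hc, hd]
    rw [hc] at hgP
    rw [hd] at hgU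
    exact uSub_conj_unique m hF hm hg hgU hgP
  · exfalso
    apply hg
    exact eq_one_of_pow_coprime (hpow g hgU) (sylow_pow_four m hF hm P hgP)
      (types_coprime m ht (Or.inl rfl) ht4)

/-- uniqueness when the constructed member is a cyclic centraliser -/
theorem unique_cyclic (hm : 1 ≤ m) {g : Sz F m} (hg : g ≠ 1) {V : Subgroup (Sz F m)}
    (hgV : g ∈ V)
    (hV : Nat.card V = 2 ^ (2 * m + 1) - 1 ∨ Nat.card V = 2 ^ (2 * m + 1) + 2 ^ (m + 1) + 1 ∨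
        Nat.card V = 2 ^ (2 * m + 1) - 2 ^ (m + 1) + 1)
    (hcent : ∀ x : Sz F m, x * g = g * x → x ∈ V) {U : Subgroup (Sz F m)}
    (hU : (∃ P : Sylow 2 (Sz F m), U = (P : Subgroup (Sz F m))) ∨
      (IsCyclic U ∧ Nat.card U ∈ ({2 ^ (2 * m + 1) - 1, 2 ^ (2 * m + 1) + 2 ^ (m + 1) + 1,
        2 ^ (2 * m + 1) - 2 ^ (m + 1) + 1} : Set ℕ))) (hgU : g ∈ U) :
    U = V := by
  obtain ⟨t, ht, hpow, -, hcyc⟩ := good_exp m hF hm hU
  by_cases htV : t = Nat.card V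
  · have ht4 : t ≠ 4 := by
      have h1 := k1_odd m
      have h2 := k2_odd m
      have h3 := k3_odd m
      rcases hV with h | h | h <;> omega
    obtain ⟨hc, hcard⟩ := hcyc ht4
    apply Subgroup.eq_of_le_of_card_ge
    · intro x hx
      exact hcent x (comm_of_cyclic hc hx hgU)
    · rw [hcard, htV]
  · exfalso
    apply hg
    exact eq_one_of_pow_coprime (hpow g hgU) (pow_card_of_mem m hgV)
      (types_coprime m ht (Or.inr hV) htV)

/-- the partition of the Suzuki group -/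
theorem partition (hm : 1 ≤ m) (g : Sz F m) (hg : g ≠ 1) :
    ∃! U : Subgroup (Sz F m), ((∃ P : Sylow 2 (Sz F m), U = (P : Subgroup (Sz F m))) ∨
      (IsCyclic U ∧ Nat.card U ∈ ({2 ^ (2 * m + 1) - 1, 2 ^ (2 * m + 1) + 2 ^ (m + 1) + 1,
        2 ^ (2 * m + 1) - 2 ^ (m + 1) + 1} : Set ℕ))) ∧ g ∈ U := by
  rcases trichotomy m hF hm g hg with ⟨h, a, b, hab, he⟩ | ⟨h, α, hα, he⟩ | hff
  · -- unipotent
    obtain ⟨P, hP⟩ := exists_sylow_conjSub m hF hm h⁻¹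
    have hgP : g ∈ (P : Subgroup (Sz F m)) := by
      rw [hP, mem_conjSub, inv_inv, he]
      exact ⟨a, b, rfl⟩
    refine ⟨P, ⟨Or.inl ⟨P, rfl⟩, hgP⟩, ?_⟩
    rintro U ⟨hU, hgU⟩
    exact unique_sylow m hF hm hg P hgP hU hgU
  · -- diagonalisable
    have hgV : g ∈ conjSub h⁻¹ (dSub m hF) := by
      rw [mem_conjSub, inv_inv, he]
      exact ⟨α, rfl⟩
    have hcard : Nat.card (conjSub h⁻¹ (dSub m hF)) = 2 ^ (2 * m + 1) - 1 := by
      rw [card_conjSub, card_dSub]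
    have hcyc : IsCyclic (conjSub h⁻¹ (dSub m hF)) := by
      have := isCyclic_dSub m hF
      exact isCyclic_conjSub _ _
    refine ⟨conjSub h⁻¹ (dSub m hF), ⟨Or.inr ⟨hcyc, ?_⟩, hgV⟩, ?_⟩
    · rw [hcard]
      exact Set.mem_insert _ _
    rintro U ⟨hU, hgU⟩
    refine unique_cyclic m hF hm hg hgV (Or.inl hcard) ?_ hU hgU
    intro x hx
    rw [mem_conjSub, inv_inv]
    apply cent_dD m hF hm hα
    rw [← he]
    have e1 : h * x * h⁻¹ * (h * g * h⁻¹) = h * (x * g) * h⁻¹ := by group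
    have e2 : h * g * h⁻¹ * (h * x * h⁻¹) = h * (g * x) * h⁻¹ := by group
    rw [e1, e2, hx]
  · -- fixed-point-free
    have hT : IsTorus m (Subgroup.centralizer ({g} : Set (Sz F m))) := ⟨g, hff, rfl⟩
    have hgV : g ∈ Subgroup.centralizer ({g} : Set (Sz F m)) := by
      rw [Subgroup.mem_centralizer_singleton_iff]
    obtain ⟨A₁, A₂, h₁, h₂, c₁, c₂, -, -, hconj⟩ := tori_main m hF hm
    have hcard : Nat.card (Subgroup.centralizer ({g} : Set (Sz F m))) =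
          2 ^ (2 * m + 1) + 2 ^ (m + 1) + 1 ∨
        Nat.card (Subgroup.centralizer ({g} : Set (Sz F m))) =
          2 ^ (2 * m + 1) - 2 ^ (m + 1) + 1 := by
      rcases hconj _ hT with ⟨c, hc⟩ | ⟨c, hc⟩
      · left
        rw [hc, card_conjSub, c₁]
      · right
        rw [hc, card_conjSub, c₂]
    refine ⟨Subgroup.centralizer ({g} : Set (Sz F m)),
      ⟨Or.inr ⟨hT.isCyclic m hF hm, ?_⟩, hgV⟩, ?_⟩
    · rw [Set.mem_insert_iff, Set.mem_insert_iff, Set.mem_singleton_iff]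
      exact Or.inr hcard
    rintro U ⟨hU, hgU⟩
    refine unique_cyclic m hF hm hg hgV (Or.inr hcard) ?_ hU hgU
    intro x hx
    rw [Subgroup.mem_centralizer_singleton_iff]
    exact hx

end partition

end Cfsg.Agent.Lib.Helper5.Suzuki
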