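import Cfsg.Agent.Lib.Helper5.SuzukiGroup
import Cfsg.Agent.S0326
import Mathlib

set_option autoImplicit false
open Cfsg
open scoped Matrix Pointwise
open Cfsg.Agent.S0335

namespace Cfsg.Agent.Lib.Helper5.Suzuki

section count
variable {F : Type*} [Field F] [Fintype F] [CharP F 2] (m : ℕ)
set_option linter.unusedSectionVars false
variable (hF : Fintype.card F = 2 ^ (2 * m + 1))
include hF

/-- the parametrisation of the point stabiliser -/
noncomputable def stabEquiv (hm : 1 ≤ m) :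
    (F × F) × Fˣ ≃ MulAction.stabilizer (Sz F m) (pinf : Projectivization F (Fin 4 → F)) :=
  Equiv.ofBijective
    (fun p => ⟨tT m hF p.1.1 p.1.2 * dD m hF p.2, by
      rw [MulAction.mem_stabilizer_iff, mul_smul, dD_pinf, tT_pinf]⟩)
    ⟨by
      rintro ⟨⟨a, b⟩, α⟩ ⟨⟨a', b'⟩, α'⟩ h
      obtain ⟨rfl, rfl, rfl⟩ := decomp_unique m hF (congrArg Subtype.val h)
      rfl, by
      rintro ⟨g, hg⟩
      obtain ⟨a, b, α, h⟩ := stab_inf m hF hm g (MulAction.mem_stabilizer_iff.1 hg)
      exact ⟨⟨⟨a, b⟩, α⟩, Subtype.ext h.symm⟩⟩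

theorem card_stab_inf (hm : 1 ≤ m) :
    Nat.card (MulAction.stabilizer (Sz F m) (pinf : Projectivization F (Fin 4 → F))) =
      (2 ^ (2 * m + 1)) ^ 2 * (2 ^ (2 * m + 1) - 1) := by
  rw [← Nat.card_congr (stabEquiv m hF hm), Nat.card_prod, Nat.card_prod, Nat.card_units,
    Nat.card_eq_fintype_card, hF]
  ring

theorem orbit_pinf : MulAction.orbit (Sz F m) (pinf : Projectivization F (Fin 4 → F)) =
    suzukiOvoid F m := by
  ext p
  constructor
  · rintro ⟨g, rfl⟩
    exact smul_mem_ovoid m g (pinf_mem m)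
  · intro hp
    rcases (mem_ovoid_iff m p).1 hp with rfl | ⟨x, y, rfl⟩
    · exact MulAction.mem_orbit_self _
    · refine ⟨tT m hF x y * wW m hF, ?_⟩
      change (tT m hF x y * wW m hF) • pinf = pt m x y
      rw [mul_smul, wW_pinf, tT_pt]
      simp

theorem card_Sz (hm : 1 ≤ m) :
    Nat.card (Sz F m) =
      (2 ^ (2 * m + 1)) ^ 2 * ((2 ^ (2 * m + 1)) ^ 2 + 1) * (2 ^ (2 * m + 1) - 1) := by
  have h1 := Subgroup.card_mul_index
    (MulAction.stabilizer (Sz F m) (pinf : Projectivization F (Fin 4 → F)))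
  rw [MulAction.index_stabilizer, orbit_pinf m hF, ← Nat.card_coe_set_eq,
    Cfsg.Agent.S0326.result, hF, card_stab_inf m hF hm] at h1
  rw [← h1]
  ring


/-- the two-point stabiliser -/
noncomputable def twoPointEquiv (hm : 1 ≤ m) :
    Fˣ ≃* ↥(MulAction.stabilizer (Sz F m) (suzukiPointInfinity F) ⊓
        MulAction.stabilizer (Sz F m) (suzukiPointZero F)) :=
  MulEquiv.ofBijective
    ((dHom m hF).codRestrict _ (fun α => by
      rw [Subgroup.mem_inf, MulAction.mem_stabilizer_iff, MulAction.mem_stabilizer_iff,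
        ← pinf_eq, ← pt_zero_eq m]
      change dD m hF α • pinf = pinf ∧ dD m hF α • pt m 0 0 = pt m 0 0
      rw [dD_pinf, dD_pt]
      simp))
    ⟨by
      intro α β h
      have := congrArg Subtype.val h
      exact dD_inj m hF this, by
      rintro ⟨g, hg⟩
      rw [Subgroup.mem_inf, MulAction.mem_stabilizer_iff, MulAction.mem_stabilizer_iff,
        ← pinf_eq, ← pt_zero_eq m] at hg
      obtain ⟨α, hα⟩ := two_point' m hF hm g hg.1 hg.2
      exact ⟨α, Subtype.ext hα.symm⟩⟩

end count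

end Cfsg.Agent.Lib.Helper5.Suzuki
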