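import Mathlib

set_option autoImplicit false

/-!
# The arithmetic squeeze for two `p`-groups acted on semiregularly by the same group
-/

namespace Cfsg.Agent.Lib.Helper5.NClassArith

variable {G : Type*} [Group G]

/-- `card W = card (Z ⊓ W) * Z.relIndex W` -/
theorem card_eq_inf_mul_relIndex (Z W : Subgroup G) :
    Nat.card W = Nat.card (Z ⊓ W : Subgroup G) * Z.relIndex W := by
  have h1 := (Z.subgroupOf W).card_mul_index
  have h2 : Nat.card (Z.subgroupOf W) = Nat.card (Z ⊓ W : Subgroup G) := by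
    rw [← Subgroup.inf_subgroupOf_right]
    exact Nat.card_congr (Subgroup.subgroupOfEquivOfLe inf_le_right).toEquiv
  rw [h2] at h1
  exact h1.symm

/-- one half of the squeeze -/
theorem half [Finite G] (Z Wq Wr : Subgroup G) (q r : ℕ) (hq : q.Prime) (hr : r.Prime)
    (hqr : r ≠ q) (hWq : IsPGroup q Wq) (hWr : IsPGroup r Wr) (hq' : ¬ Wq ≤ Z)
    (e : ℕ) (he2 : Z.relIndex Wr ∣ e)
    (he3 : e ∣ Nat.card Wq - Nat.card (Z ⊓ Wq : Subgroup G)) :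
    Z.relIndex Wr + 1 ≤ Z.relIndex Wq := by
  have : Fact q.Prime := ⟨hq⟩
  have : Fact r.Prime := ⟨hr⟩
  obtain ⟨n, hn⟩ := IsPGroup.iff_card.mp hWq
  obtain ⟨n', hn'⟩ := IsPGroup.iff_card.mp hWr
  have hA := card_eq_inf_mul_relIndex Z Wq
  have hA' := card_eq_inf_mul_relIndex Z Wr
  have hκ : Z.relIndex Wq ∣ q ^ n := hn ▸ Dvd.intro_left _ hA.symm
  have hB : Nat.card (Z ⊓ Wq : Subgroup G) ∣ q ^ n := hn ▸ Dvd.intro _ hA.symm
  have hρ : Z.relIndex Wr ∣ r ^ n' := hn' ▸ Dvd.intro_left _ hA'.symm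
  obtain ⟨j, -, hj⟩ := (Nat.dvd_prime_pow hq).mp hB
  obtain ⟨i', -, hi'⟩ := (Nat.dvd_prime_pow hr).mp hρ
  have hκ1 : Z.relIndex Wq ≠ 1 := fun h => hq' (Subgroup.relIndex_eq_one.mp h)
  have hκ0 : Z.relIndex Wq ≠ 0 := by
    intro h
    rw [h] at hκ
    have := Nat.eq_zero_of_zero_dvd hκ
    exact (pow_ne_zero n hq.ne_zero) this
  have hsub : Nat.card Wq - Nat.card (Z ⊓ Wq : Subgroup G) =
      Nat.card (Z ⊓ Wq : Subgroup G) * (Z.relIndex Wq - 1) := by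
    rw [Nat.mul_sub_one, ← hA]
  have hdvd : Z.relIndex Wr ∣ Nat.card (Z ⊓ Wq : Subgroup G) * (Z.relIndex Wq - 1) :=
    hsub ▸ he2.trans he3
  have hcop : Nat.Coprime (Z.relIndex Wr) (Nat.card (Z ⊓ Wq : Subgroup G)) := by
    rw [hi', hj]
    exact Nat.Coprime.pow _ _ ((Nat.coprime_primes hr hq).mpr hqr)
  have hdvd' : Z.relIndex Wr ∣ Z.relIndex Wq - 1 := hcop.dvd_of_dvd_mul_left hdvd
  have hpos : 0 < Z.relIndex Wq - 1 := by omega
  have := Nat.le_of_dvd hpos hdvd'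
  omega

theorem squeeze [Finite G] (Z Wq Wr : Subgroup G) (q r : ℕ) (hq : q.Prime) (hr : r.Prime)
    (hqr : r ≠ q) (hWq : IsPGroup q Wq) (hWr : IsPGroup r Wr) (hq' : ¬ Wq ≤ Z) (hr' : ¬ Wr ≤ Z)
    (e : ℕ) (he1 : Z.relIndex Wq ∣ e) (he2 : Z.relIndex Wr ∣ e)
    (he3 : e ∣ Nat.card Wq - Nat.card (Z ⊓ Wq : Subgroup G))
    (he4 : e ∣ Nat.card Wr - Nat.card (Z ⊓ Wr : Subgroup G)) : False := by
  have h1 := half Z Wq Wr q r hq hr hqr hWq hWr hq' e he2 he3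
  have h2 := half Z Wr Wq r q hr hq (Ne.symm hqr) hWr hWq hr' e he1 he4
  omega

end Cfsg.Agent.Lib.Helper5.NClassArith
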