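import Mathlib
import Cfsg.Agent.H2.ItoTwo

set_option autoImplicit false

/-!
# Finishing step for normal subgroups with two `G`-class sizes containing a Sylow subgroup

Given the "Lemma K" (two commuting noncentral elements of `N` of coprime prime power orders
force `N` to be abelian), a normal subgroup `N` with `G`-class sizes `1, m` that contains a
noncentral Sylow `r`-subgroup of `G` is nilpotent.
-/

namespace Cfsg.Agent.Lib.Helper5.NClass

open Cfsg.Agent.H2.ItoTwo

variable {G : Type*} [Group G]

/-- index one means central -/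
theorem mem_center_of_index_one {x : G} (h : (Cx x).index = 1) : x ∈ Subgroup.center G :=
  Cx_eq_top_iff.mp (Subgroup.index_eq_one.mp h)

theorem index_ne_one_of_not_mem {x : G} (h : x ∉ Subgroup.center G) : (Cx x).index ≠ 1 :=
  fun hc => h (mem_center_of_index_one hc)

/-- two noncentral elements of `N` have centralizers of the same order -/
theorem card_Cx_eq_of_two [Finite G] {N : Subgroup G} {m : ℕ}
    (h : ∀ x ∈ N, (Cx x).index = 1 ∨ (Cx x).index = m) {x y : G} (hx : x ∈ N) (hy : y ∈ N)
    (hxZ : x ∉ Subgroup.center G) (hyZ : y ∉ Subgroup.center G) :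
    Nat.card (Cx x) = Nat.card (Cx y) := by
  have h1 : (Cx x).index = m := (h x hx).resolve_left (index_ne_one_of_not_mem hxZ)
  have h2 : (Cx y).index = m := (h y hy).resolve_left (index_ne_one_of_not_mem hyZ)
  have e1 := (Cx x).card_mul_index
  have e2 := (Cx y).card_mul_index
  rw [h1] at e1
  rw [h2] at e2
  have hm : 0 < m := by
    rw [← h1]
    exact Nat.pos_of_ne_zero Subgroup.index_ne_zero_of_finite
  exact Nat.eq_of_mul_eq_mul_right hm (e1.trans e2.symm)

/-- all `r`-elements of `G` lie in a normal subgroup containing a Sylow `r`-subgroup -/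
theorem mem_of_pow_eq_one [Finite G] {r : ℕ} [Fact r.Prime] (R : Sylow r G) (N : Subgroup G)
    [N.Normal] (hRN : (R : Subgroup G) ≤ N) {x : G} {a : ℕ} (hx : x ^ (r ^ a) = 1) : x ∈ N := by
  obtain ⟨g, hg⟩ := exists_conj_mem_sylow' R x a hx
  have h1 : g * x * g⁻¹ ∈ N := hRN hg
  have h2 := ‹N.Normal›.conj_mem _ h1 g⁻¹
  simpa [mul_assoc] using h2

/-- the centralizer of a noncentral `q`-element `y` of `N` contains a noncentral `r`-element -/
theorem exists_r_element [Finite G] {r : ℕ} [Fact r.Prime] {u y : G} {a : ℕ}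
    (huZ : u ∉ Subgroup.center G) (hur : u ^ (r ^ a) = 1)
    (hcard : Nat.card (Cx y) = Nat.card (Cx u)) :
    ∃ (x : G) (b : ℕ), x ∈ Cx y ∧ x ∉ Subgroup.center G ∧ x ^ (r ^ b) = 1 := by
  have hr : r.Prime := Fact.out
  obtain ⟨P⟩ : Nonempty (Sylow r (Cx y)) := inferInstance
  obtain ⟨P', hP'def⟩ : ∃ P' : Subgroup G, P' = (P : Subgroup (Cx y)).map (Cx y).subtype :=
    ⟨_, rfl⟩
  have hP'p : IsPGroup r P' := hP'def ▸ P.isPGroup'.map _
  have hP'le : P' ≤ Cx y := by
    rw [hP'def]
    rintro _ ⟨b, -, rfl⟩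
    exact b.2
  have hP'card : Nat.card P' = r ^ (Nat.card (Cx y)).factorization r := by
    rw [hP'def, Subgroup.card_subtype, P.card_eq_multiplicity]
  by_contra hcon
  push Not at hcon
  -- every element of `P'` is central
  have hcent : P' ≤ Subgroup.center G := by
    intro x hx
    by_contra hxZ
    obtain ⟨b, hb⟩ := hP'p ⟨x, hx⟩
    have hb' : x ^ (r ^ b) = 1 := congrArg Subtype.val hb
    exact hcon x b (hP'le hx) hxZ hb'
  have hnorm : P'.Normal := by
    refine ⟨fun n hn g => ?_⟩
    have h1 : g * n = n * g := (Subgroup.mem_center_iff.mp (hcent hn) g)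
    have h2 : g * n * g⁻¹ = n := by rw [h1, mul_assoc, mul_inv_cancel, mul_one]
    rw [h2]
    exact hn
  have hzp : IsPGroup r (Subgroup.zpowers u) := by
    apply IsPGroup.of_card_dvd_pow (n := a)
    rw [Nat.card_zpowers]
    exact orderOf_dvd_of_pow_eq_one hur
  have hDp : IsPGroup r (Subgroup.zpowers u ⊔ P' : Subgroup G) :=
    IsPGroup.to_sup_of_normal_right hzp hP'p
  have hDle : (Subgroup.zpowers u ⊔ P' : Subgroup G) ≤ Cx u := by
    apply sup_le
    · rw [Subgroup.zpowers_le]
      exact self_mem_Cx u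
    · exact hcent.trans (center_le_Cx u)
  obtain ⟨k, hk⟩ := (IsPGroup.iff_card.mp hDp)
  have h1 : r ^ k ∣ Nat.card (Cx u) := hk ▸ Subgroup.card_dvd_of_le hDle
  have h2 : k ≤ (Nat.card (Cx u)).factorization r :=
    (hr.pow_dvd_iff_le_factorization (Nat.card_pos (α := Cx u)).ne').mp h1
  have hP'D : P' ≤ (Subgroup.zpowers u ⊔ P' : Subgroup G) := le_sup_right
  have h3 : Nat.card (Subgroup.zpowers u ⊔ P' : Subgroup G) ≤ Nat.card P' := by
    rw [hk, hP'card, hcard]
    exact Nat.pow_le_pow_right hr.pos h2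
  have h4 : P' = (Subgroup.zpowers u ⊔ P' : Subgroup G) :=
    Subgroup.eq_of_le_of_card_ge hP'D h3
  apply huZ
  apply hcent
  rw [h4]
  exact (le_sup_left : Subgroup.zpowers u ≤ _) (Subgroup.mem_zpowers u)

/-- **Finishing step.**  -/
theorem finish [Finite G] (r : ℕ) [Fact r.Prime] (R : Sylow r G)
    (hR : ¬ (R : Subgroup G) ≤ Subgroup.center G) (N : Subgroup G) [N.Normal]
    (hRN : (R : Subgroup G) ≤ N) (m : ℕ)
    (h : ∀ x ∈ N, (Subgroup.centralizer ({x} : Set G)).index = 1 ∨
      (Subgroup.centralizer ({x} : Set G)).index = m)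
    (K : ∀ (q : ℕ), q.Prime → q ≠ r → ∀ (x y : G) (a b : ℕ), x ∈ N → y ∈ N →
      x ∉ Subgroup.center G → y ∉ Subgroup.center G → x * y = y * x →
      x ^ (r ^ a) = 1 → y ^ (q ^ b) = 1 → ∀ s ∈ N, ∀ t ∈ N, s * t = t * s) :
    Group.IsNilpotent N := by
  have hr : r.Prime := Fact.out
  by_cases hab : ∀ s ∈ N, ∀ t ∈ N, s * t = t * s
  · -- abelian case
    have hle : (1 : ↥N →* PUnit.{1}).ker ≤ Subgroup.center ↥N := by
      intro s _
      rw [Subgroup.mem_center_iff]
      intro t
      apply Subtype.ext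
      exact hab t t.2 s s.2
    exact Subgroup.isNilpotent_of_ker_le_center (1 : ↥N →* PUnit.{1}) hle
  · -- every `q`-element of `N`, `q ≠ r`, is central
    have hq : ∀ (q : ℕ), q.Prime → q ≠ r → ∀ (y : G) (b : ℕ), y ∈ N → y ^ (q ^ b) = 1 →
        y ∈ Subgroup.center G := by
      intro q hqp hqr y b hyN hyq
      by_contra hyZ
      obtain ⟨u, huR, huZ⟩ : ∃ u ∈ (R : Subgroup G), u ∉ Subgroup.center G := by
        by_contra hc
        push Not at hc
        exact hR hc
      obtain ⟨a, ha⟩ := R.isPGroup' ⟨u, huR⟩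
      have hur : u ^ (r ^ a) = 1 := congrArg Subtype.val ha
      have hcard : Nat.card (Cx y) = Nat.card (Cx u) :=
        card_Cx_eq_of_two h hyN (hRN huR) hyZ huZ
      obtain ⟨x, c, hxC, hxZ, hxr⟩ := exists_r_element huZ hur hcard
      have hxN : x ∈ N := mem_of_pow_eq_one R N hRN hxr
      have hcomm : x * y = y * x := mem_Cx.mp hxC
      exact hab (K q hqp hqr x y c b hxN hyN hxZ hyZ hcomm hxr hyq)
    -- the quotient by the central part is an `r`-group
    obtain ⟨Zs, hZs⟩ : ∃ Zs : Subgroup ↥N, Zs = (Subgroup.center G).subgroupOf N := ⟨_, rfl⟩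
    have hZn : Zs.Normal := by
      rw [hZs]
      infer_instance
    have hZle : Zs ≤ Subgroup.center ↥N := by
      intro z hz
      rw [hZs, Subgroup.mem_subgroupOf] at hz
      rw [Subgroup.mem_center_iff]
      intro t
      apply Subtype.ext
      exact Subgroup.mem_center_iff.mp hz (t : G)
    have hpg : IsPGroup r (↥N ⧸ Zs) := by
      intro g
      induction g using QuotientGroup.induction_on with
      | H n =>
        have hpos : 0 < orderOf (n : G) := orderOf_pos (n : G)
        obtain ⟨a, s, hs, hos⟩ := Nat.exists_eq_pow_mul_and_not_dvd hpos.ne' r hr.ne_one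
        have hspos : 0 < s := by
          rcases Nat.eq_zero_or_pos s with h0 | h0
          · rw [h0, mul_zero] at hos; omega
          · exact h0
        have hcop : Nat.Coprime r s := (Nat.Prime.coprime_iff_not_dvd hr).mpr hs
        have hpow : ((n : G) ^ (r ^ a)) ^ s = 1 := by
          rw [← pow_mul, ← hos, pow_orderOf_eq_one]
        have hmem : (n : G) ^ (r ^ a) ∈ Subgroup.center G := by
          by_contra hnot
          obtain ⟨q, hqp, j, k, hk1, hk2⟩ :=
            exists_prime_pow_power (Subgroup.center G) s hspos _ hpow hnot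
          have hwN : ((n : G) ^ (r ^ a)) ^ k ∈ N := N.pow_mem (N.pow_mem n.2 _) _
          by_cases hqr : q = r
          · -- then the element is trivial
            apply hk1
            have hws : (((n : G) ^ (r ^ a)) ^ k) ^ s = 1 := by
              rw [← pow_mul, mul_comm, pow_mul, hpow, one_pow]
            have hk2' : (((n : G) ^ (r ^ a)) ^ k) ^ (r ^ j) = 1 := by
              have h0 := hk2
              rwa [hqr] at h0
            have hd1 : orderOf (((n : G) ^ (r ^ a)) ^ k) ∣ r ^ j :=
              orderOf_dvd_of_pow_eq_one hk2'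
            have hd2 : orderOf (((n : G) ^ (r ^ a)) ^ k) ∣ s := orderOf_dvd_of_pow_eq_one hws
            have hd3 : orderOf (((n : G) ^ (r ^ a)) ^ k) ∣ 1 := by
              have hc : Nat.Coprime (r ^ j) s := Nat.Coprime.pow_left j hcop
              rw [← hc]
              exact Nat.dvd_gcd hd1 hd2
            have h1 : ((n : G) ^ (r ^ a)) ^ k = 1 :=
              orderOf_eq_one_iff.mp (Nat.dvd_one.mp hd3)
            rw [h1]
            exact Subgroup.one_mem _
          · exact hk1 (hq q hqp hqr _ j hwN hk2)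
        refine ⟨a, ?_⟩
        rw [← QuotientGroup.mk_pow, QuotientGroup.eq_one_iff, hZs, Subgroup.mem_subgroupOf]
        simpa using hmem
    have hnil : Group.IsNilpotent (↥N ⧸ Zs) := hpg.isNilpotent
    have hker : (QuotientGroup.mk' Zs).ker ≤ Subgroup.center ↥N := by
      rw [QuotientGroup.ker_mk']
      exact hZle
    have := hnil
    exact Subgroup.isNilpotent_of_ker_le_center (QuotientGroup.mk' Zs) hker

end Cfsg.Agent.Lib.Helper5.NClass
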