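import Mathlib

set_option autoImplicit false

/-!
# Two generic orbit counting lemmas

* `index_dvd_card_of_stabilizer`: if all point stabilizers of an action on a finite set are equal to
  `K`, then the index of `K` divides the cardinality of the set.
* `card_eq_add_of_stabilizer`: if the points of `S` are fixed by everything and all the other
  points have stabilizer `K`, then `card α = card S + K.index * t`.
-/

namespace Cfsg.Agent.Lib.Helper5.NClassOrbit

/-- the orbit of a point has `index (stabilizer)` elements -/
theorem card_orbit_eq_index {H α : Type*} [Group H] [MulAction H α] (a : α) :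
    Nat.card (MulAction.orbit H a) = (MulAction.stabilizer H a).index := by
  rw [Subgroup.index, Nat.card_congr (MulAction.orbitEquivQuotientStabilizer H a)]

theorem index_dvd_card_of_stabilizer {H α : Type*} [Group H] [MulAction H α] [Finite α]
    (K : Subgroup H) (h : ∀ a : α, MulAction.stabilizer H a = K) : K.index ∣ Nat.card α := by
  classical
  have : Fintype (Quotient (MulAction.orbitRel H α)) := Fintype.ofFinite _
  have e := MulAction.selfEquivSigmaOrbits H α
  rw [Nat.card_congr e, Nat.card_sigma]
  apply Finset.dvd_sum
  intro ω _
  rw [card_orbit_eq_index, h]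

theorem card_eq_add_of_stabilizer {H α : Type*} [Group H] [MulAction H α] [Finite α]
    (K : Subgroup H) (S : Set α) (hS : ∀ a ∈ S, ∀ h : H, h • a = a)
    (hK : ∀ a ∉ S, MulAction.stabilizer H a = K) :
    ∃ t : ℕ, Nat.card α = Nat.card S + K.index * t := by
  classical
  -- the complement of `S` is invariant
  have hinv : ∀ (h : H) (a : α), a ∉ S → h • a ∉ S := by
    intro h a ha hc
    apply ha
    have h1 : h⁻¹ • (h • a) = h • a := hS _ hc h⁻¹
    rw [inv_smul_smul] at h1
    rw [h1]
    exact hc
  let T : SubMulAction H α :=
    { carrier := Sᶜ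
      smul_mem' := fun h a ha => hinv h a ha }
  have hstab : ∀ b : T, MulAction.stabilizer H b = K := by
    intro b
    rw [SubMulAction.stabilizer_of_subMul]
    exact hK b.1 b.2
  obtain ⟨t, ht⟩ := index_dvd_card_of_stabilizer (α := T) K hstab
  refine ⟨t, ?_⟩
  have h1 : Nat.card α = Nat.card S + Nat.card (Sᶜ : Set α) := by
    rw [← Nat.card_sum]
    exact Nat.card_congr (Equiv.Set.sumCompl S).symm
  rw [h1]
  congr 1

end Cfsg.Agent.Lib.Helper5.NClassOrbit
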