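import Mathlib
import Cfsg.Agent.Lib.Helper4.Simple
import Cfsg.Agent.Lib.Helper4.SylowPrime
import Cfsg.Agent.Lib.Helper5.Ord360.Regular

/-!
# Order 5040: fixed-point toolkit

(author: helper5)  General lemmas on fixed points of elements in coset actions of a finite simple
group: parity of involutions, the "invariant fixed point set" congruence, elements acting trivially.
-/

set_option autoImplicit false

namespace Cfsg.Agent.Lib.Helper5.O5040

open MulAction

/-- Parity: in a simple group with more than two elements, an involution `t` acting on a finite set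
moves a multiple of four points. -/
theorem card_mod_four_eq {G X : Type*} [Group G] [Finite G] [IsSimpleGroup G] [MulAction G X]
    [Finite X] (hG : 2 < Nat.card G) (t : G) (ht : t * t = 1) :
    Nat.card X % 4 = Nat.card (fixedBy X t) % 4 := by
  classical
  have : Fintype X := Fintype.ofFinite X
  set σ : Equiv.Perm X := MulAction.toPerm t with hσ
  have hσσ : σ * σ = 1 := by
    ext a
    simp only [hσ, Equiv.Perm.coe_mul, Function.comp_apply, MulAction.toPerm_apply,
      Equiv.Perm.coe_one, id_eq]
    rw [smul_smul, ht, one_smul]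
  have hset : (fixedBy X t) = Function.fixedPoints σ := by
    ext a
    simp [hσ, Function.IsFixedPt]
  by_cases h1 : σ = 1
  · have hall : fixedBy X t = Set.univ := by
      ext a
      simp only [mem_fixedBy, Set.mem_univ, iff_true]
      have := congrArg (fun τ : Equiv.Perm X => τ a) h1
      simpa [hσ] using this
    rw [hall, Nat.card_coe_set_eq, Set.ncard_univ]
  · have hs : Equiv.Perm.sign σ = 1 :=
      Cfsg.Agent.Lib.Helper5.Ord360.sign_eq_one_of_simple (Ω := X) hG t
    obtain ⟨m, -, hm⟩ := Cfsg.Agent.Lib.Helper5.Ord360.invol_fixed_card σ hσσ h1 hs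
    rw [hset, Nat.card_eq_fintype_card, Nat.card_eq_fintype_card, hm]
    omega

/-- The fixed points of an element of order dividing `p` are congruent to the degree mod `p`. -/
theorem card_fixedBy_modEq_card {G X : Type*} [Group G] [MulAction G X] [Finite X] (p : ℕ)
    [hp : Fact p.Prime] (c : G) (hc : c ^ p = 1) :
    Nat.card (fixedBy X c) ≡ Nat.card X [MOD p] := by
  have hPG : IsPGroup p (Subgroup.zpowers c) := by
    rintro ⟨g, hg⟩
    refine ⟨1, ?_⟩
    obtain ⟨k, rfl⟩ := Subgroup.mem_zpowers_iff.1 hg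
    apply Subtype.ext
    simp only [pow_one, Subgroup.coe_pow, Subgroup.coe_one]
    rw [← zpow_natCast, ← zpow_mul, mul_comm, zpow_mul, zpow_natCast, hc, one_zpow]
  have h := hPG.card_modEq_card_fixedPoints X
  have hset : (fixedPoints (Subgroup.zpowers c) X) = fixedBy X c := by
    ext a
    simp only [mem_fixedPoints, mem_fixedBy]
    constructor
    · intro h
      exact h ⟨c, Subgroup.mem_zpowers c⟩
    · rintro h ⟨g, hg⟩
      have hle : Subgroup.zpowers c ≤ stabilizer G a :=
        Subgroup.zpowers_le.2 (mem_stabilizer_iff.2 h)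
      exact mem_stabilizer_iff.1 (hle hg)
  rw [hset] at h
  exact h.symm

/-- The invariant fixed point set trick: if `x` (of order dividing the prime `p`) has exactly one
fixed point and `c` commutes with `x`, then the number of fixed points of `c` is `≡ 1 mod p`. -/
theorem card_fixedBy_modEq_one {G X : Type*} [Group G] [MulAction G X] [Finite X] (p : ℕ)
    [hp : Fact p.Prime] (x c : G) (hx : x ^ p = 1) (hcomm : c * x = x * c)
    (h1 : Nat.card (fixedBy X x) = 1) :
    Nat.card (fixedBy X c) ≡ 1 [MOD p] := by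
  classical
  obtain ⟨hsub, ⟨⟨x₀, hx₀⟩⟩⟩ := Nat.card_eq_one_iff_unique.1 h1
  rw [mem_fixedBy] at hx₀
  have huniq : ∀ a : X, x • a = a → a = x₀ := by
    intro a ha
    have := hsub.elim ⟨a, ha⟩ ⟨x₀, hx₀⟩
    exact congrArg Subtype.val this
  -- every power of `x` commutes with `c`
  have hcommZ : ∀ g ∈ Subgroup.zpowers x, c * g = g * c := by
    intro g hg
    obtain ⟨k, rfl⟩ := Subgroup.mem_zpowers_iff.1 hg
    exact ((Commute.zpow_right (show Commute c x from hcomm) k)).eq
  let S : SubMulAction (Subgroup.zpowers x) X :=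
    { carrier := fixedBy X c
      smul_mem' := by
        rintro ⟨g, hg⟩ a ha
        rw [mem_fixedBy] at ha ⊢
        show c • (g • a) = g • a
        rw [smul_smul, hcommZ g hg, ← smul_smul, ha] }
  have hSmem : ∀ a : X, a ∈ S ↔ c • a = a := fun a => Iff.rfl
  have hPG : IsPGroup p (Subgroup.zpowers x) := by
    rintro ⟨g, hg⟩
    refine ⟨1, ?_⟩
    obtain ⟨k, rfl⟩ := Subgroup.mem_zpowers_iff.1 hg
    apply Subtype.ext
    simp only [pow_one, Subgroup.coe_pow, Subgroup.coe_one]
    rw [← zpow_natCast, ← zpow_mul, mul_comm, zpow_mul, zpow_natCast, hx, one_zpow]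
  have hfinS : Finite S := Finite.of_injective (fun s : S => (s : X)) Subtype.val_injective
  have h := hPG.card_modEq_card_fixedPoints S
  have hcardS : Nat.card S = Nat.card (fixedBy X c) := by
    apply Nat.card_congr
    exact Equiv.subtypeEquivRight (fun a => by rw [hSmem, mem_fixedBy])
  have hcx₀ : c • x₀ = x₀ := by
    apply huniq
    rw [smul_smul, ← hcomm, ← smul_smul, hx₀]
  have hfix : Nat.card (fixedPoints (Subgroup.zpowers x) S) = 1 := by
    rw [Nat.card_eq_one_iff_unique]
    constructor
    · constructor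
      rintro ⟨⟨a, ha⟩, ha'⟩ ⟨⟨b, hb⟩, hb'⟩
      rw [mem_fixedPoints] at ha' hb'
      have h3 := ha' ⟨x, Subgroup.mem_zpowers x⟩
      have h4 := hb' ⟨x, Subgroup.mem_zpowers x⟩
      have h5 : x • a = a := congrArg Subtype.val h3
      have h6 : x • b = b := congrArg Subtype.val h4
      have h7 : a = b := by rw [huniq a h5, huniq b h6]
      subst h7
      rfl
    · refine ⟨⟨⟨x₀, (hSmem x₀).2 hcx₀⟩, ?_⟩⟩
      rw [mem_fixedPoints]
      rintro ⟨g, hg⟩
      apply Subtype.ext
      show g • x₀ = x₀
      have hle : Subgroup.zpowers x ≤ stabilizer G x₀ :=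
        Subgroup.zpowers_le.2 (mem_stabilizer_iff.2 hx₀)
      exact mem_stabilizer_iff.1 (hle hg)
  rw [hfix, hcardS] at h
  exact h

/-- In a simple group, an element fixing every coset of a proper subgroup is trivial. -/
theorem eq_one_of_forall_smul_eq {G : Type*} [Group G] [IsSimpleGroup G] (H : Subgroup G)
    (hH : H ≠ ⊤) (c : G) (h : ∀ a : G ⧸ H, c • a = a) : c = 1 := by
  have hmem : c ∈ H.normalCore := by
    rw [Subgroup.normalCore_eq_ker, MonoidHom.mem_ker]
    ext a
    exact h a
  rcases (Subgroup.normalCore_normal H).eq_bot_or_eq_top with hb | ht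
  · rw [hb, Subgroup.mem_bot] at hmem
    exact hmem
  · exfalso
    apply hH
    rw [eq_top_iff, ← ht]
    exact Subgroup.normalCore_le H

/-- cardinality version -/
theorem eq_one_of_card_fixedBy_eq {G : Type*} [Group G] [Finite G] [IsSimpleGroup G]
    (H : Subgroup G) (hH : H ≠ ⊤) (c : G)
    (h : Nat.card (fixedBy (G ⧸ H) c) = Nat.card (G ⧸ H)) : c = 1 := by
  apply eq_one_of_forall_smul_eq H hH
  intro a
  have huniv : fixedBy (G ⧸ H) c = Set.univ := by
    apply Set.eq_of_subset_of_ncard_le (Set.subset_univ _)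
    · rw [Set.ncard_univ, ← h, Nat.card_coe_set_eq]
  have : a ∈ fixedBy (G ⧸ H) c := by rw [huniv]; trivial
  exact this

/-- `x ∈ P` (a Sylow subgroup of prime order) fixes exactly one coset of any subgroup containing
`N(P)`. -/
theorem card_fixedBy_eq_one_of_le {G : Type*} [Group G] [Finite G] (p : ℕ) [hp : Fact p.Prime]
    (P : Sylow p G) (hP : Nat.card (P : Subgroup G) = p) (H : Subgroup G)
    (hN : Subgroup.normalizer ((P : Subgroup G) : Set G) ≤ H) (y : G)
    (hyP : y ∈ (P : Subgroup G)) (hy : y ≠ 1) :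
    Nat.card (fixedBy (G ⧸ H) y) = 1 := by
  have hPH : (P : Subgroup G) ≤ H := le_trans Subgroup.le_normalizer hN
  rw [Nat.card_eq_one_iff_unique]
  have key : ∀ g : G, g⁻¹ * y * g ∈ H → g ∈ H := by
    intro g hg
    set Q : Sylow p G := g⁻¹ • P with hQ
    have hyQ : g⁻¹ * y * g ∈ (Q : Subgroup G) := by
      have h0 : g⁻¹⁻¹ * (g⁻¹ * y * g) * g⁻¹ = y := by group
      have := (Cfsg.Agent.Lib.Helper4.SylowPrime.mem_smul_sylow_iff P g⁻¹ (g⁻¹ * y * g)).2
        (by rw [h0]; exact hyP)
      exact this
    have hne : g⁻¹ * y * g ≠ 1 := by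
      intro h
      apply hy
      have : y = g * (g⁻¹ * y * g) * g⁻¹ := by group
      rw [this, h]; group
    have hQcard : Nat.card (Q : Subgroup G) = p :=
      (Q.card_eq_multiplicity).trans (P.card_eq_multiplicity.symm.trans hP)
    have hQH : (Q : Subgroup G) ≤ H := by
      rw [Cfsg.Agent.Lib.Helper4.SylowPrime.sylow_eq_zpowers Q hQcard _ hne hyQ,
        Subgroup.zpowers_le]
      exact hg
    obtain ⟨h, hh⟩ := MulAction.exists_smul_eq H (Q.subtype hQH) (P.subtype hPH)
    rw [Sylow.smul_subtype] at hh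
    have hh' : h • Q = P := Sylow.subtype_injective hh
    have hh'' : ((h : G) * g⁻¹) • P = P := by
      rw [mul_smul]; exact hh'
    rw [Sylow.smul_eq_iff_mem_normalizer] at hh''
    have h1 : (h : G) * g⁻¹ ∈ H := hN hh''
    have h2 : g⁻¹ ∈ H := by
      have := H.mul_mem (H.inv_mem h.2) h1
      simpa using this
    simpa using H.inv_mem h2
  constructor
  · constructor
    rintro ⟨a, ha⟩ ⟨b, hb⟩
    rw [mem_fixedBy] at ha hb
    induction a using QuotientGroup.induction_on with
    | H g =>
    induction b using QuotientGroup.induction_on with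
    | H g' =>
    rw [Cfsg.Agent.Lib.Helper4.SylowPrime.smul_mk_eq_iff] at ha hb
    apply Subtype.ext
    show (g : G ⧸ H) = (g' : G ⧸ H)
    rw [QuotientGroup.eq]
    exact H.mul_mem (H.inv_mem (key g ha)) (key g' hb)
  · refine ⟨⟨((1 : G) : G ⧸ H), ?_⟩⟩
    rw [mem_fixedBy, Cfsg.Agent.Lib.Helper4.SylowPrime.smul_mk_eq_iff]
    simpa using hPH hyP

end Cfsg.Agent.Lib.Helper5.O5040
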