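import Mathlib
import Cfsg.Agent.Lib.Helper5.O5040A

/-!
# Order 5040: basic facts and the cases `n₇ = 8, 15`

(author: helper5)
-/

set_option autoImplicit false

namespace Cfsg.Agent.Lib.Helper5.O5040

open MulAction

variable {G : Type*} [Group G] [Finite G] [IsSimpleGroup G]

theorem two_lt (hn : Nat.card G = 5040) : 2 < Nat.card G := by rw [hn]; norm_num

/-- a central element of a simple group of order `5040` is trivial -/
theorem eq_one_of_central (hn : Nat.card G = 5040) (k : G) (hk : ∀ g : G, g * k = k * g) :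
    k = 1 := by
  have hmem : k ∈ Subgroup.center G := Subgroup.mem_center_iff.2 hk
  rcases (Subgroup.normal_of_characteristic (Subgroup.center G)).eq_bot_or_eq_top with hb | ht
  · rw [hb, Subgroup.mem_bot] at hmem
    exact hmem
  · exfalso
    have hcomm : ∀ a b : G, a * b = b * a := by
      intro a b
      have : b ∈ Subgroup.center G := by rw [ht]; trivial
      exact (Subgroup.mem_center_iff.1 this a)
    let _ : CommGroup G := { (inferInstance : Group G) with mul_comm := hcomm }
    have hp := IsSimpleGroup.prime_card (α := G)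
    rw [hn] at hp
    norm_num at hp

theorem card_sylow7 (hn : Nat.card G = 5040) [Fact (Nat.Prime 7)] (P : Sylow 7 G) :
    Nat.card (P : Subgroup G) = 7 := by
  have h : Nat.card G = 7 ^ 1 * 720 := by rw [hn]; norm_num
  simpa using Cfsg.Agent.Lib.Helper4.Sylow.card_sylow_of_card_eq h (by norm_num) P

theorem card_sylow5 (hn : Nat.card G = 5040) [Fact (Nat.Prime 5)] (P : Sylow 5 G) :
    Nat.card (P : Subgroup G) = 5 := by
  have h : Nat.card G = 5 ^ 1 * 1008 := by rw [hn]; norm_num
  simpa using Cfsg.Agent.Lib.Helper4.Sylow.card_sylow_of_card_eq h (by norm_num) P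

theorem card_sylow3 (hn : Nat.card G = 5040) [Fact (Nat.Prime 3)] (P : Sylow 3 G) :
    Nat.card (P : Subgroup G) = 9 := by
  have h : Nat.card G = 3 ^ 2 * 560 := by rw [hn]; norm_num
  simpa using Cfsg.Agent.Lib.Helper4.Sylow.card_sylow_of_card_eq h (by norm_num) P

theorem card_sylow2 (hn : Nat.card G = 5040) [Fact (Nat.Prime 2)] (P : Sylow 2 G) :
    Nat.card (P : Subgroup G) = 16 := by
  have h : Nat.card G = 2 ^ 4 * 315 := by rw [hn]; norm_num
  simpa using Cfsg.Agent.Lib.Helper4.Sylow.card_sylow_of_card_eq h (by norm_num) P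

/-- arithmetic: divisors of `720` that are `≡ 1 mod 7` -/
theorem sylow7_arith (n : ℕ) (hdvd : n ∣ 720) (hmod : n % 7 = 1) :
    n = 1 ∨ n = 8 ∨ n = 15 ∨ n = 36 ∨ n = 120 := by
  have hle : n ≤ 720 := Nat.le_of_dvd (by norm_num) hdvd
  obtain ⟨j, rfl⟩ : ∃ j, n = 7 * j + 1 := ⟨n / 7, by omega⟩
  have hj : j ≤ 102 := by omega
  interval_cases j <;> first | omega | (exfalso; revert hdvd; decide)

theorem card_normalizer_sylow7 (hn : Nat.card G = 5040) [Fact (Nat.Prime 7)] (P : Sylow 7 G) :
    Nat.card (Subgroup.normalizer ((P : Subgroup G) : Set G)) = 630 ∨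
    Nat.card (Subgroup.normalizer ((P : Subgroup G) : Set G)) = 336 ∨
    Nat.card (Subgroup.normalizer ((P : Subgroup G) : Set G)) = 140 ∨
    Nat.card (Subgroup.normalizer ((P : Subgroup G) : Set G)) = 42 := by
  have hP := card_sylow7 hn P
  have h3 := Cfsg.Agent.Lib.Helper4.Sylow.card_sylow_mul_card_normalizer P
  rw [hn] at h3
  have h4 : Nat.card (Sylow 7 G) ≡ 1 [MOD 7] := card_sylow_modEq_one 7 G
  unfold Nat.ModEq at h4
  have hne1 : Nat.card (Sylow 7 G) ≠ 1 :=
    Cfsg.Agent.Lib.Helper4.Sylow.card_sylow_ne_one_of_simple P (by rw [hP]; norm_num)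
      (by rw [hP, hn]; norm_num)
  have hG7 : Nat.card G = 7 ^ 1 * 720 := by rw [hn]; norm_num
  have hdvd : Nat.card (Sylow 7 G) ∣ 720 :=
    Cfsg.Agent.Lib.Helper4.Sylow.card_sylow_dvd_of_card_eq hG7 (by norm_num)
  have := sylow7_arith _ hdvd (by simpa using h4)
  rcases this with h | h | h | h | h
  · exact absurd h hne1
  · rw [h] at h3; left; omega
  · rw [h] at h3; right; left; omega
  · rw [h] at h3; right; right; left; omega
  · rw [h] at h3; right; right; right; omega

/-- `|N(P)| = |C(P)| * d` with `d ∣ 6`. -/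
theorem card_normalizer_eq (hn : Nat.card G = 5040) [Fact (Nat.Prime 7)] (P : Sylow 7 G) :
    ∃ d, d ∣ 6 ∧ Nat.card (Subgroup.normalizer ((P : Subgroup G) : Set G)) =
      Nat.card (Subgroup.centralizer ((P : Subgroup G) : Set G)) * d := by
  have hP := card_sylow7 hn P
  have hcyc : IsCyclic (P : Subgroup G) := isCyclic_of_prime_card hP
  have h1 := Cfsg.Agent.Lib.Helper4.Simple.relIndex_centralizer_normalizer_dvd (P : Subgroup G)
  rw [hcyc.card_mulAut, hP, Nat.totient_prime (by norm_num)] at h1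
  refine ⟨_, h1, ?_⟩
  have hle : Subgroup.centralizer ((P : Subgroup G) : Set G) ≤
      Subgroup.normalizer ((P : Subgroup G) : Set G) := Subgroup.centralizer_le_normalizer _
  have := Subgroup.relIndex_mul_relIndex ⊥ _ _ bot_le hle
  rw [Subgroup.relIndex_bot_left, Subgroup.relIndex_bot_left] at this
  exact this.symm

/-- a generator of a Sylow `7`-subgroup -/
theorem exists_gen7 (hn : Nat.card G = 5040) [Fact (Nat.Prime 7)] (P : Sylow 7 G) :
    ∃ x : G, x ∈ (P : Subgroup G) ∧ x ≠ 1 ∧ x ^ 7 = 1 := by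
  have hP := card_sylow7 hn P
  have hnt : (P : Subgroup G) ≠ ⊥ := by
    intro h
    rw [h, Subgroup.card_bot] at hP
    norm_num at hP
  obtain ⟨⟨x, hx⟩, hx1⟩ := (Subgroup.ne_bot_iff_exists_ne_one).1 hnt
  refine ⟨x, hx, fun h1 => hx1 (Subtype.ext h1), ?_⟩
  have := orderOf_dvd_natCard (⟨x, hx⟩ : (P : Subgroup G))
  rw [hP] at this
  have h7 : (⟨x, hx⟩ : (P : Subgroup G)) ^ 7 = 1 := orderOf_dvd_iff_pow_eq_one.1 this
  exact congrArg Subtype.val h7

/-- an element of prime order `q` in a subgroup whose order is divisible by `q` -/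
theorem exists_orderOf_of_dvd {H : Type*} [Group H] [Finite H] (K : Subgroup H) (q : ℕ)
    [hq : Fact q.Prime] (h : q ∣ Nat.card K) : ∃ c : H, c ∈ K ∧ orderOf c = q := by
  obtain ⟨c, hc⟩ := exists_prime_orderOf_dvd_card' (G := K) q h
  exact ⟨(c : H), c.2, by rw [Subgroup.orderOf_coe]; exact hc⟩

end Cfsg.Agent.Lib.Helper5.O5040
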