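import Mathlib
import Cfsg.Agent.Lib.Helper5.O5040B

/-!
# Order 5040: the centralizer of a Sylow 7-subgroup (group-theoretic lemmas)

(author: helper5)
-/

set_option autoImplicit false

namespace Cfsg.Agent.Lib.Helper5.O5040

open MulAction

/-- conjugating by an element of the normalizer preserves the centralizer -/
theorem conj_mem_centralizer {G : Type*} [Group G] (P : Subgroup G) (n c : G)
    (hn : n ∈ Subgroup.normalizer (P : Set G)) (hc : c ∈ Subgroup.centralizer (P : Set G)) :
    n * c * n⁻¹ ∈ Subgroup.centralizer (P : Set G) := by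
  rw [Subgroup.mem_centralizer_iff] at hc ⊢
  intro a ha
  have h1 : n⁻¹ * a * n ∈ P := by
    have := (Subgroup.mem_normalizer_iff'' (H := P)).1 hn a |>.1 ha
    exact this
  have h2 := hc _ h1
  calc a * (n * c * n⁻¹) = n * ((n⁻¹ * a * n) * c) * n⁻¹ := by group
    _ = n * (c * (n⁻¹ * a * n)) * n⁻¹ := by rw [h2]
    _ = n * c * n⁻¹ * a := by group

/-- A group of order `r * q` (`q` prime) with a central subgroup of order `r` is abelian. -/
theorem comm_of_central_index_prime {C : Type*} [Group C] [Finite C] (A : Subgroup C) (r q : ℕ)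
    [hq : Fact q.Prime] (hA : Nat.card A = r) (hr : 0 < r) (hC : Nat.card C = r * q)
    (hcent : ∀ a ∈ A, ∀ c : C, c * a = a * c) (a b : C) : a * b = b * a := by
  have hAZ : A ≤ Subgroup.center C := by
    intro a ha
    rw [Subgroup.mem_center_iff]
    exact fun c => hcent a ha c
  have h1 : Nat.card A ∣ Nat.card (Subgroup.center C) := Subgroup.card_dvd_of_le hAZ
  have h2 := (Subgroup.center C).card_mul_index
  rw [hC] at h2
  rw [hA] at h1
  obtain ⟨m, hm⟩ := h1
  rw [hm] at h2
  have h3 : m * (Subgroup.center C).index = q := by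
    have : r * (m * (Subgroup.center C).index) = r * q := by rw [← h2]; ring
    exact Nat.eq_of_mul_eq_mul_left hr this
  have h4 : (Subgroup.center C).index ∣ q := ⟨m, by rw [← h3]; ring⟩
  have hcard : Nat.card (C ⧸ Subgroup.center C) = (Subgroup.center C).index := rfl
  have hcyc : IsCyclic (C ⧸ Subgroup.center C) := by
    rcases (Nat.dvd_prime hq.out).1 h4 with h | h
    · have : Subsingleton (C ⧸ Subgroup.center C) := by
        rw [← Finite.card_le_one_iff_subsingleton, hcard, h]
      exact isCyclic_of_subsingleton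
    · exact isCyclic_of_prime_card (p := q) (by rw [hcard, h])
  exact commutative_of_cyclic_center_quotient (QuotientGroup.mk' (Subgroup.center C))
    (by rw [QuotientGroup.ker_mk']) a b

/-- In a subgroup `C` of order `r * q` (`q` prime not dividing `r`) with a central subgroup of
order `r`, the elements with `c ^ q = 1` are the powers of any element of order `q`. -/
theorem mem_zpowers_of_pow_eq_one {G : Type*} [Group G] [Finite G] (P C : Subgroup G)
    (hPC : P ≤ C) (hcent : ∀ c ∈ C, ∀ a ∈ P, c * a = a * c) (r q : ℕ) [hq : Fact q.Prime]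
    (hqr : ¬ q ∣ r) (hP : Nat.card P = r) (hC : Nat.card C = r * q) (c : G) (hc : c ∈ C)
    (hcq : orderOf c = q) (c' : G) (hc' : c' ∈ C) (hc'q : c' ^ q = 1) :
    c' ∈ Subgroup.zpowers c := by
  have hr : 0 < r := by
    rcases Nat.eq_zero_or_pos r with h | h
    · exact absurd (h ▸ dvd_zero q) hqr
    · exact h
  -- `C` is abelian
  have hab : ∀ a b : C, a * b = b * a := by
    apply comm_of_central_index_prime (P.subgroupOf C) r q _ hr hC
    · rintro ⟨a, haC⟩ ha ⟨c, hcC⟩
      apply Subtype.ext
      exact hcent c hcC a (Subgroup.mem_subgroupOf.1 ha)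
    · rw [Nat.card_congr (Subgroup.subgroupOfEquivOfLe hPC).toEquiv, hP]
  have hcomm : c * c' = c' * c := congrArg Subtype.val (hab ⟨c, hc⟩ ⟨c', hc'⟩)
  -- the join of the two cyclic groups is a `q`-group
  have hH : IsPGroup q (Subgroup.zpowers c') := by
    rintro ⟨g, hg⟩
    refine ⟨1, ?_⟩
    obtain ⟨k, rfl⟩ := Subgroup.mem_zpowers_iff.1 hg
    apply Subtype.ext
    simp only [pow_one, Subgroup.coe_pow, Subgroup.coe_one]
    rw [← zpow_natCast, ← zpow_mul, mul_comm, zpow_mul, zpow_natCast, hc'q, one_zpow]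
  have hK : IsPGroup q (Subgroup.zpowers c) := by
    apply IsPGroup.of_card (n := 1)
    rw [Nat.card_zpowers, hcq, pow_one]
  have hnorm : Subgroup.zpowers c' ≤ Subgroup.normalizer ((Subgroup.zpowers c : Subgroup G) : Set G) := by
    rw [Subgroup.zpowers_le]
    have hcen : c' ∈ Subgroup.centralizer ((Subgroup.zpowers c : Subgroup G) : Set G) := by
      rw [Subgroup.mem_centralizer_iff]
      intro g hg
      obtain ⟨k, rfl⟩ := Subgroup.mem_zpowers_iff.1 hg
      exact ((Commute.zpow_left (show Commute c c' from hcomm) k)).eq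
    exact Subgroup.centralizer_le_normalizer _ hcen
  have hsup := IsPGroup.to_sup_of_normal_right' hH hK hnorm
  obtain ⟨k, hk⟩ := IsPGroup.iff_card.1 hsup
  have hle : Subgroup.zpowers c' ⊔ Subgroup.zpowers c ≤ C := by
    rw [sup_le_iff, Subgroup.zpowers_le, Subgroup.zpowers_le]
    exact ⟨hc', hc⟩
  have hdvd := Subgroup.card_dvd_of_le hle
  rw [hk, hC] at hdvd
  have hk1 : k ≤ 1 := by
    by_contra hcon
    push Not at hcon
    have h2 : q ^ 2 ∣ r * q := dvd_trans (pow_dvd_pow q hcon) hdvd
    have h3 : q ∣ r := by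
      rw [pow_two] at h2
      exact Nat.dvd_of_mul_dvd_mul_right hq.out.pos h2
    exact hqr h3
  have hcard_le : Nat.card (Subgroup.zpowers c' ⊔ Subgroup.zpowers c : Subgroup G) ≤
      Nat.card (Subgroup.zpowers c) := by
    rw [hk, Nat.card_zpowers, hcq]
    calc q ^ k ≤ q ^ 1 := Nat.pow_le_pow_right hq.out.pos hk1
      _ = q := pow_one q
  have heq : Subgroup.zpowers c = Subgroup.zpowers c' ⊔ Subgroup.zpowers c :=
    Subgroup.eq_of_le_of_card_ge le_sup_right hcard_le
  rw [heq]
  exact Subgroup.mem_sup_left (Subgroup.mem_zpowers c')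

end Cfsg.Agent.Lib.Helper5.O5040
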