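import Mathlib
import Cfsg.Agent.Lib.Helper5.O5040C

/-!
# Order 5040: `n₇ ≠ 8, 15`

(author: helper5)
-/

set_option autoImplicit false

namespace Cfsg.Agent.Lib.Helper5.O5040

open MulAction

theorem card_fixedBy_le {G X : Type*} [Group G] [MulAction G X] [Finite X] (c : G) :
    Nat.card (fixedBy X c) ≤ Nat.card X :=
  Nat.card_le_card_of_injective (fun a : fixedBy X c => (a : X)) Subtype.val_injective

variable {G : Type*} [Group G] [Finite G] [IsSimpleGroup G]

theorem ne_top_of_card_lt (hn : Nat.card G = 5040) (K : Subgroup G) (hK : Nat.card K < 5040) :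
    K ≠ ⊤ := by
  intro h
  rw [h, Subgroup.card_top, hn] at hK
  exact lt_irrefl _ hK

theorem card_quotient_eq (hn : Nat.card G = 5040) (K : Subgroup G) (m j : ℕ)
    (hK : Nat.card K = m) (hmj : m * j = 5040) (hm : 0 < m) : Nat.card (G ⧸ K) = j := by
  have h := K.card_mul_index
  rw [hK, hn, ← hmj] at h
  have : K.index = j := Nat.eq_of_mul_eq_mul_left hm h
  exact this

/-- `n₇ ≠ 8` -/
theorem not_card_normalizer_630 (hn : Nat.card G = 5040) [Fact (Nat.Prime 7)] (P : Sylow 7 G)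
    (hN : Nat.card (Subgroup.normalizer ((P : Subgroup G) : Set G)) = 630) : False := by
  have hp5 : Fact (Nat.Prime 5) := ⟨by norm_num⟩
  have hP := card_sylow7 hn P
  obtain ⟨x, hxP, hx1, hx7⟩ := exists_gen7 hn P
  obtain ⟨d, hd6, hNC⟩ := card_normalizer_eq hn P
  rw [hN] at hNC
  set N := Subgroup.normalizer ((P : Subgroup G) : Set G) with hNdef
  have hfix1 : Nat.card (fixedBy (G ⧸ N) x) = 1 :=
    card_fixedBy_eq_one_of_le 7 P hP N le_rfl x hxP hx1
  have hNtop : N ≠ ⊤ := ne_top_of_card_lt hn N (by rw [hN]; norm_num)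
  have hX : Nat.card (G ⧸ N) = 8 := card_quotient_eq hn N 630 8 hN (by norm_num) (by norm_num)
  have h5 : 5 ∣ Nat.card (Subgroup.centralizer ((P : Subgroup G) : Set G)) := by
    have : d ≤ 6 := Nat.le_of_dvd (by norm_num) hd6
    interval_cases d <;> omega
  obtain ⟨c, hcC, hc5⟩ := exists_orderOf_of_dvd _ 5 h5
  have hcomm : c * x = x * c := (Subgroup.mem_centralizer_iff.1 hcC x hxP).symm
  have ha := card_fixedBy_modEq_one (X := G ⧸ N) 7 x c hx7 hcomm hfix1
  have hb := card_fixedBy_modEq_card (X := G ⧸ N) 5 c (by rw [← hc5]; exact pow_orderOf_eq_one c)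
  have hc := card_fixedBy_le (X := G ⧸ N) c
  have hd : Nat.card (fixedBy (G ⧸ N) c) ≠ Nat.card (G ⧸ N) := by
    intro h
    have := eq_one_of_card_fixedBy_eq N hNtop c h
    rw [this, orderOf_one] at hc5
    norm_num at hc5
  unfold Nat.ModEq at ha hb
  rw [hX] at hb hc hd
  omega

/-- `n₇ ≠ 15` -/
theorem not_card_normalizer_336 (hn : Nat.card G = 5040) [Fact (Nat.Prime 7)] (P : Sylow 7 G)
    (hN : Nat.card (Subgroup.normalizer ((P : Subgroup G) : Set G)) = 336) : False := by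
  have hp2 : Fact (Nat.Prime 2) := ⟨by norm_num⟩
  have hP := card_sylow7 hn P
  obtain ⟨x, hxP, hx1, hx7⟩ := exists_gen7 hn P
  obtain ⟨d, hd6, hNC⟩ := card_normalizer_eq hn P
  rw [hN] at hNC
  set N := Subgroup.normalizer ((P : Subgroup G) : Set G) with hNdef
  have hfix1 : Nat.card (fixedBy (G ⧸ N) x) = 1 :=
    card_fixedBy_eq_one_of_le 7 P hP N le_rfl x hxP hx1
  have hNtop : N ≠ ⊤ := ne_top_of_card_lt hn N (by rw [hN]; norm_num)
  have hX : Nat.card (G ⧸ N) = 15 := card_quotient_eq hn N 336 15 hN (by norm_num) (by norm_num)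
  have h2 : 2 ∣ Nat.card (Subgroup.centralizer ((P : Subgroup G) : Set G)) := by
    have : d ≤ 6 := Nat.le_of_dvd (by norm_num) hd6
    interval_cases d <;> omega
  obtain ⟨c, hcC, hc2⟩ := exists_orderOf_of_dvd _ 2 h2
  have hcomm : c * x = x * c := (Subgroup.mem_centralizer_iff.1 hcC x hxP).symm
  have hcc : c * c = 1 := by rw [← pow_two, ← hc2]; exact pow_orderOf_eq_one c
  have ha := card_fixedBy_modEq_one (X := G ⧸ N) 7 x c hx7 hcomm hfix1
  have hb := card_mod_four_eq (X := G ⧸ N) (two_lt hn) c hcc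
  have hc := card_fixedBy_le (X := G ⧸ N) c
  have hd : Nat.card (fixedBy (G ⧸ N) c) ≠ Nat.card (G ⧸ N) := by
    intro h
    have := eq_one_of_card_fixedBy_eq N hNtop c h
    rw [this, orderOf_one] at hc2
    norm_num at hc2
  unfold Nat.ModEq at ha
  rw [hX] at hb hc hd
  omega

end Cfsg.Agent.Lib.Helper5.O5040
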