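import Mathlib
import Cfsg.Agent.Lib.Helper5.O5040D
import Cfsg.Agent.S0220

/-!
# Order 5040: if `|N(P₇)| = 42` then `|C(P₇)| = 7`

(author: helper5)
-/

set_option autoImplicit false

namespace Cfsg.Agent.Lib.Helper5.O5040

open MulAction

/-- divisors of `120` that are `≡ 1 mod 7` -/
theorem arith_120 (n : ℕ) (hdvd : n ∣ 120) (hmod : n % 7 = 1) :
    n = 1 ∨ n = 8 ∨ n = 15 ∨ n = 120 := by
  have hle : n ≤ 120 := Nat.le_of_dvd (by norm_num) hdvd
  obtain ⟨j, rfl⟩ : ∃ j, n = 7 * j + 1 := ⟨n / 7, by omega⟩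
  have hj : j ≤ 17 := by omega
  interval_cases j <;> first | omega | (exfalso; revert hdvd; decide)

/-- divisors of `40` that are `≡ 1 mod 7` -/
theorem arith_40 (n : ℕ) (hdvd : n ∣ 40) (hmod : n % 7 = 1) : n = 1 ∨ n = 8 := by
  have hle : n ≤ 40 := Nat.le_of_dvd (by norm_num) hdvd
  obtain ⟨j, rfl⟩ : ∃ j, n = 7 * j + 1 := ⟨n / 7, by omega⟩
  have hj : j ≤ 5 := by omega
  interval_cases j <;> first | omega | (exfalso; revert hdvd; decide)

variable {G : Type*} [Group G] [Finite G] [IsSimpleGroup G]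

/-- a simple group of order `5040` has no subgroup of index `2` -/
theorem no_index_two (hn : Nat.card G = 5040) (K : Subgroup G) (hK : K.index = 2) : False := by
  have hnorm : K.Normal := Subgroup.normal_of_index_eq_two hK
  rcases hnorm.eq_bot_or_eq_top with h | h
  · rw [h, Subgroup.index_bot, hn] at hK
    norm_num at hK
  · rw [h, Subgroup.index_top] at hK
    norm_num at hK

/-- `|C(P₇)| ≠ 14` when `|N(P₇)| = 42` -/
theorem not_card_centralizer_14 (hn : Nat.card G = 5040) [Fact (Nat.Prime 7)] (P : Sylow 7 G)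
    (hN : Nat.card (Subgroup.normalizer ((P : Subgroup G) : Set G)) = 42)
    (hC : Nat.card (Subgroup.centralizer ((P : Subgroup G) : Set G)) = 14) : False := by
  have hp2 : Fact (Nat.Prime 2) := ⟨by norm_num⟩
  have hP := card_sylow7 hn P
  obtain ⟨x, hxP, hx1, hx7⟩ := exists_gen7 hn P
  set N := Subgroup.normalizer ((P : Subgroup G) : Set G) with hNdef
  set C := Subgroup.centralizer ((P : Subgroup G) : Set G) with hCdef
  have hPC : (P : Subgroup G) ≤ C := by
    have hcyc : IsCyclic (P : Subgroup G) := isCyclic_of_prime_card hP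
    have : IsMulCommutative (P : Subgroup G) := IsCyclic.isMulCommutative
    exact Subgroup.le_centralizer (P : Subgroup G)
  obtain ⟨k, hkC, hk2⟩ := exists_orderOf_of_dvd C 2 (by rw [hC]; norm_num)
  have hkk : k * k = 1 := by rw [← pow_two, ← hk2]; exact pow_orderOf_eq_one k
  have hk1 : k ≠ 1 := by
    intro h; rw [h, orderOf_one] at hk2; norm_num at hk2
  have hcent : ∀ c ∈ C, ∀ a ∈ (P : Subgroup G), c * a = a * c := by
    intro c hc a ha
    exact (Subgroup.mem_centralizer_iff.1 hc a ha).symm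
  -- `k` is central in `N`
  have hkN : ∀ n ∈ N, n * k = k * n := by
    intro n hnN
    have h1 : n * k * n⁻¹ ∈ C := conj_mem_centralizer (P : Subgroup G) n k hnN hkC
    have h2 : (n * k * n⁻¹) ^ 2 = 1 := by
      rw [conj_pow, pow_two, hkk]; group
    have h3 := mem_zpowers_of_pow_eq_one (P : Subgroup G) C hPC hcent 7 2 (by norm_num) hP
      (by rw [hC]) k hkC hk2 _ h1 h2
    obtain ⟨j, hj⟩ := Subgroup.mem_zpowers_iff.1 h3
    have h4 : n * k * n⁻¹ = k := by
      rcases Int.even_or_odd j with ⟨m, hm⟩ | ⟨m, hm⟩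
      · exfalso
        have : k ^ j = 1 := by
          rw [hm, ← two_mul, zpow_mul, zpow_ofNat, pow_two, hkk, one_zpow]
        rw [this] at hj
        apply hk1
        have h5 : k = n⁻¹ * (n * k * n⁻¹) * n := by group
        rw [h5, ← hj]; group
      · have : k ^ j = k := by
          rw [hm, zpow_add, zpow_mul, zpow_ofNat, pow_two, hkk, one_zpow, one_mul, zpow_one]
        rw [← hj, this]
    calc n * k = (n * k * n⁻¹) * n := by group
      _ = k * n := by rw [h4]
  set H := Subgroup.centralizer ({k} : Set G) with hHdef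
  have hNH : N ≤ H := by
    intro n hnN
    rw [hHdef, Subgroup.mem_centralizer_singleton_iff]
    exact hkN n hnN
  have hHtop : H ≠ ⊤ := by
    intro h
    apply hk1
    apply eq_one_of_central hn
    intro g
    have : g ∈ H := by rw [h]; trivial
    rw [hHdef, Subgroup.mem_centralizer_singleton_iff] at this
    exact this
  have hfix1 : Nat.card (fixedBy (G ⧸ H) x) = 1 :=
    card_fixedBy_eq_one_of_le 7 P hP H hNH x hxP hx1
  have hmod7 := card_fixedBy_modEq_card (X := G ⧸ H) 7 x hx7
  rw [hfix1] at hmod7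
  have hNidx : N.index = 120 := card_quotient_eq hn N 42 120 hN (by norm_num) (by norm_num)
  have hdvd : H.index ∣ 120 := hNidx ▸ Subgroup.index_dvd_of_le hNH
  have hXH : Nat.card (G ⧸ H) = H.index := rfl
  have hkx : k * x = x * k := hcent k hkC x hxP
  have ha := card_fixedBy_modEq_one (X := G ⧸ H) 7 x k hx7 hkx hfix1
  have hb := card_mod_four_eq (X := G ⧸ H) (two_lt hn) k hkk
  have hc := card_fixedBy_le (X := G ⧸ H) k
  have hd : Nat.card (fixedBy (G ⧸ H) k) ≠ Nat.card (G ⧸ H) := by
    intro h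
    exact hk1 (eq_one_of_card_fixedBy_eq H hHtop k h)
  unfold Nat.ModEq at ha hmod7
  rw [hXH] at hmod7 hb hc hd
  rcases arith_120 _ hdvd (by omega) with h | h | h | h
  · exact hHtop (Subgroup.index_eq_one.1 h)
  · rw [h] at hb hc hd; omega
  · rw [h] at hb hc hd; omega
  · -- `H = N` has order `42`
    have hHcard : Nat.card H = 42 := by
      have := H.card_mul_index
      rw [h, hn] at this
      omega
    have hH2 : Nat.card H = 2 ^ 1 * 21 := by rw [hHcard]; norm_num
    obtain ⟨S⟩ : Nonempty (Sylow 2 H) := inferInstance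
    have hS : Nat.card (S : Subgroup H) = 2 := by
      simpa using Cfsg.Agent.Lib.Helper4.Sylow.card_sylow_of_card_eq hH2 (by norm_num) S
    have hScyc : IsCyclic (S : Subgroup H) := isCyclic_of_prime_card (p := 2) hS
    obtain ⟨K, hK⟩ := Cfsg.Agent.S0220.result k hk2 S hScyc
    exact no_index_two hn K hK

end Cfsg.Agent.Lib.Helper5.O5040
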