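import Mathlib
import Cfsg.Agent.Lib.Helper5.O5040E

/-!
# Order 5040: if `|N(P₇)| = 42` then `|C(P₇)| ≠ 21, 42`, so `C(P₇) = P₇`

(author: helper5)
-/

set_option autoImplicit false

namespace Cfsg.Agent.Lib.Helper5.O5040

open MulAction

variable {G : Type*} [Group G] [Finite G] [IsSimpleGroup G]

/-- `|C(P₇)| ≠ 21` when `|N(P₇)| = 42` -/
theorem not_card_centralizer_21 (hn : Nat.card G = 5040) [Fact (Nat.Prime 7)] (P : Sylow 7 G)
    (hN : Nat.card (Subgroup.normalizer ((P : Subgroup G) : Set G)) = 42)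
    (hC : Nat.card (Subgroup.centralizer ((P : Subgroup G) : Set G)) = 21) : False := by
  have hp3 : Fact (Nat.Prime 3) := ⟨by norm_num⟩
  have hP := card_sylow7 hn P
  obtain ⟨x, hxP, hx1, hx7⟩ := exists_gen7 hn P
  set N := Subgroup.normalizer ((P : Subgroup G) : Set G) with hNdef
  set C := Subgroup.centralizer ((P : Subgroup G) : Set G) with hCdef
  have hPC : (P : Subgroup G) ≤ C := by
    have hcyc : IsCyclic (P : Subgroup G) := isCyclic_of_prime_card hP
    have : IsMulCommutative (P : Subgroup G) := IsCyclic.isMulCommutative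
    exact Subgroup.le_centralizer (P : Subgroup G)
  obtain ⟨z, hzC, hz3⟩ := exists_orderOf_of_dvd C 3 (by rw [hC]; norm_num)
  have hzzz : z ^ 3 = 1 := by rw [← hz3]; exact pow_orderOf_eq_one z
  have hz1 : z ≠ 1 := by
    intro h; rw [h, orderOf_one] at hz3; norm_num at hz3
  have hcent : ∀ c ∈ C, ∀ a ∈ (P : Subgroup G), c * a = a * c := by
    intro c hc a ha
    exact (Subgroup.mem_centralizer_iff.1 hc a ha).symm
  -- `N` normalizes `⟨z⟩`
  have hconj : ∀ n ∈ N, ∀ g ∈ Subgroup.zpowers z, n * g * n⁻¹ ∈ Subgroup.zpowers z := by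
    intro n hnN g hg
    obtain ⟨j, rfl⟩ := Subgroup.mem_zpowers_iff.1 hg
    have h1 : n * z * n⁻¹ ∈ C := conj_mem_centralizer (P : Subgroup G) n z hnN hzC
    have h2 : (n * z * n⁻¹) ^ 3 = 1 := by
      rw [conj_pow, hzzz]; group
    have h3 := mem_zpowers_of_pow_eq_one (P : Subgroup G) C hPC hcent 7 3 (by norm_num) hP
      (by rw [hC]) z hzC hz3 _ h1 h2
    have h4 : n * z ^ j * n⁻¹ = (n * z * n⁻¹) ^ j := by
      rw [conj_zpow]
    rw [h4]
    exact Subgroup.zpow_mem _ h3 j
  set L := Subgroup.normalizer ((Subgroup.zpowers z : Subgroup G) : Set G) with hLdef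
  have hNL : N ≤ L := by
    intro n hnN
    rw [hLdef, Subgroup.mem_normalizer_iff]
    intro g
    constructor
    · intro hg
      exact hconj n hnN g hg
    · intro hg
      have := hconj n⁻¹ (N.inv_mem hnN) _ hg
      have h5 : n⁻¹ * (n * g * n⁻¹) * n⁻¹⁻¹ = g := by group
      rwa [h5] at this
  -- a Sylow `3`-subgroup containing `z` lies in `L`
  have hZ3 : IsPGroup 3 (Subgroup.zpowers z) := by
    apply IsPGroup.of_card (n := 1)
    rw [Nat.card_zpowers, hz3, pow_one]
  obtain ⟨R, hR⟩ := hZ3.exists_le_sylow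
  have hRcard : Nat.card (R : Subgroup G) = 9 := card_sylow3 hn R
  have hRcomm : IsMulCommutative (R : Subgroup G) :=
    IsPGroup.isMulCommutative_of_card_eq_prime_sq (p := 3) (by rw [hRcard]; norm_num)
  have hRL : (R : Subgroup G) ≤ L := by
    intro r hr
    apply Subgroup.centralizer_le_normalizer
    rw [Subgroup.mem_centralizer_iff]
    intro g hg
    have hgR : g ∈ (R : Subgroup G) := hR hg
    have := hRcomm.is_comm.comm (⟨g, hgR⟩ : (R : Subgroup G)) ⟨r, hr⟩
    exact congrArg Subtype.val this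
  have h9 : 9 ∣ Nat.card L := hRcard ▸ Subgroup.card_dvd_of_le hRL
  have h42 : 42 ∣ Nat.card L := hN ▸ Subgroup.card_dvd_of_le hNL
  have h126 : 126 ∣ Nat.card L := by omega
  have hLidx : L.index ∣ 40 := by
    obtain ⟨m, hm⟩ := h126
    have := L.card_mul_index
    rw [hm, hn] at this
    exact ⟨m, by nlinarith⟩
  have hfix1 : Nat.card (fixedBy (G ⧸ L) x) = 1 :=
    card_fixedBy_eq_one_of_le 7 P hP L hNL x hxP hx1
  have hmod7 := card_fixedBy_modEq_card (X := G ⧸ L) 7 x hx7
  rw [hfix1] at hmod7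
  have hXL : Nat.card (G ⧸ L) = L.index := rfl
  have hzx : z * x = x * z := hcent z hzC x hxP
  have ha := card_fixedBy_modEq_one (X := G ⧸ L) 7 x z hx7 hzx hfix1
  have hb := card_fixedBy_modEq_card (X := G ⧸ L) 3 z hzzz
  have hc := card_fixedBy_le (X := G ⧸ L) z
  unfold Nat.ModEq at ha hb hmod7
  rw [hXL] at hmod7 hb hc
  rcases arith_40 _ hLidx (by omega) with h | h
  · -- `⟨z⟩` would be normal
    have hLtop : L = ⊤ := Subgroup.index_eq_one.1 h
    have hnorm : (Subgroup.zpowers z).Normal := Subgroup.normalizer_eq_top_iff.1 hLtop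
    have hcz : Nat.card (Subgroup.zpowers z) = 3 := by rw [Nat.card_zpowers, hz3]
    rcases hnorm.eq_bot_or_eq_top with h' | h'
    · rw [h', Subgroup.card_bot] at hcz; norm_num at hcz
    · rw [h', Subgroup.card_top, hn] at hcz; norm_num at hcz
  · have hLtop : L ≠ ⊤ := by
      intro h'
      rw [h', Subgroup.index_top] at h
      norm_num at h
    have hd : Nat.card (fixedBy (G ⧸ L) z) ≠ Nat.card (G ⧸ L) := by
      intro h'
      exact hz1 (eq_one_of_card_fixedBy_eq L hLtop z h')
    rw [hXL] at hd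
    rw [h] at hb hc hd
    omega

/-- If `|N(P₇)| = 42` then `|C(P₇)| = 7`. -/
theorem card_centralizer_of_42 (hn : Nat.card G = 5040) [Fact (Nat.Prime 7)] (P : Sylow 7 G)
    (hN : Nat.card (Subgroup.normalizer ((P : Subgroup G) : Set G)) = 42) :
    Nat.card (Subgroup.centralizer ((P : Subgroup G) : Set G)) = 7 := by
  have hP := card_sylow7 hn P
  obtain ⟨d, hd6, hNC⟩ := card_normalizer_eq hn P
  rw [hN] at hNC
  have hd : d ≤ 6 := Nat.le_of_dvd (by norm_num) hd6
  have hcases : Nat.card (Subgroup.centralizer ((P : Subgroup G) : Set G)) = 42 ∨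
      Nat.card (Subgroup.centralizer ((P : Subgroup G) : Set G)) = 21 ∨
      Nat.card (Subgroup.centralizer ((P : Subgroup G) : Set G)) = 14 ∨
      Nat.card (Subgroup.centralizer ((P : Subgroup G) : Set G)) = 7 := by
    interval_cases d <;> omega
  rcases hcases with h | h | h | h
  · exfalso
    have hle : Subgroup.centralizer ((P : Subgroup G) : Set G) ≤
        Subgroup.normalizer ((P : Subgroup G) : Set G) := Subgroup.centralizer_le_normalizer _
    have heq : Subgroup.centralizer ((P : Subgroup G) : Set G) =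
        Subgroup.normalizer ((P : Subgroup G) : Set G) :=
      Subgroup.eq_of_le_of_card_ge hle (by rw [h, hN])
    exact Cfsg.Agent.Lib.Helper4.Simple.false_of_simple_of_normalizer_le_centralizer P
      (by rw [heq]) (by rw [show Nat.card P = Nat.card (P : Subgroup G) from rfl, hP]; norm_num)
      (by rw [show Nat.card P = Nat.card (P : Subgroup G) from rfl, hP, hn]; norm_num)
  · exact absurd h (fun h => not_card_centralizer_21 hn P hN h)
  · exact absurd h (fun h => not_card_centralizer_14 hn P hN h)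
  · exact h

end Cfsg.Agent.Lib.Helper5.O5040
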