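import Mathlib
import Cfsg.Agent.Lib.Helper5.O5040F

/-!
# Order 5040: reduction to the Frobenius case `N(P₇) = 7:6`

(author: helper5)
-/

set_option autoImplicit false

namespace Cfsg.Agent.Lib.Helper5.O5040

open MulAction

variable {G : Type*} [Group G] [Finite G] [IsSimpleGroup G]

/-- Reduction, modulo the case `n₇ = 36`: the normalizer of a Sylow `7`-subgroup has order `42` and
the Sylow `7`-subgroup is self-centralizing. -/
theorem reduction_of (hn : Nat.card G = 5040) [Fact (Nat.Prime 7)]
    (h36 : Nat.card (Sylow 7 G) ≠ 36) (P : Sylow 7 G) :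
    Nat.card (Subgroup.normalizer ((P : Subgroup G) : Set G)) = 42 ∧
      ∀ x ∈ (P : Subgroup G), x ≠ 1 → ∀ g : G, g * x = x * g → g ∈ (P : Subgroup G) := by
  have hP := card_sylow7 hn P
  have hN42 : Nat.card (Subgroup.normalizer ((P : Subgroup G) : Set G)) = 42 := by
    rcases card_normalizer_sylow7 hn P with h | h | h | h
    · exact absurd h (fun h => not_card_normalizer_630 hn P h)
    · exact absurd h (fun h => not_card_normalizer_336 hn P h)
    · exfalso
      apply h36
      have h3 := Cfsg.Agent.Lib.Helper4.Sylow.card_sylow_mul_card_normalizer P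
      rw [hn, h] at h3
      omega
    · exact h
  refine ⟨hN42, ?_⟩
  have hC := card_centralizer_of_42 hn P hN42
  have hPC : (P : Subgroup G) ≤ Subgroup.centralizer ((P : Subgroup G) : Set G) := by
    have hcyc : IsCyclic (P : Subgroup G) := isCyclic_of_prime_card hP
    have : IsMulCommutative (P : Subgroup G) := IsCyclic.isMulCommutative
    exact Subgroup.le_centralizer (P : Subgroup G)
  have heq : (P : Subgroup G) = Subgroup.centralizer ((P : Subgroup G) : Set G) :=
    Subgroup.eq_of_le_of_card_ge hPC (by rw [hC, hP])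
  intro x hxP hx1 g hg
  rw [heq, Subgroup.mem_centralizer_iff]
  intro a ha
  have hzp := Cfsg.Agent.Lib.Helper4.SylowPrime.sylow_eq_zpowers P hP x hx1 hxP
  rw [hzp] at ha
  obtain ⟨j, rfl⟩ := Subgroup.mem_zpowers_iff.1 ha
  exact ((Commute.zpow_left (show Commute x g from hg.symm) j)).eq

end Cfsg.Agent.Lib.Helper5.O5040
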