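import Mathlib
import Cfsg.Agent.Lib.Helper5.O5040G
import Cfsg.Agent.S0215

/-!
# Order 5040: Sylow `5` basics, and no involution centralizer of order `240` containing `N(P₅)`

(author: helper5)
-/

set_option autoImplicit false

namespace Cfsg.Agent.Lib.Helper5.O5040

open MulAction

/-- a `p`-subgroup of a subgroup `K` lies in a subgroup of `K` of the full `p`-power order -/
theorem exists_le_card_pow {G : Type*} [Group G] [Finite G] (p : ℕ) [hp : Fact p.Prime]
    (K : Subgroup G) (a m : ℕ) (hK : Nat.card K = p ^ a * m) (hm : ¬ p ∣ m) (Z : Subgroup G)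
    (hZK : Z ≤ K) (hZ : IsPGroup p Z) :
    ∃ T : Subgroup G, Z ≤ T ∧ T ≤ K ∧ Nat.card T = p ^ a := by
  have hZ' : IsPGroup p (Z.subgroupOf K) := hZ.comap_subtype
  obtain ⟨T', hT'⟩ := hZ'.exists_le_sylow
  refine ⟨(T' : Subgroup K).map K.subtype, ?_, Subgroup.map_subtype_le _, ?_⟩
  · intro z hz
    exact ⟨⟨z, hZK hz⟩, hT' (Subgroup.mem_subgroupOf.2 hz), rfl⟩
  · rw [Subgroup.card_map_of_injective K.subtype_injective]
    exact Cfsg.Agent.Lib.Helper4.Sylow.card_sylow_of_card_eq hK hm T'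

variable {G : Type*} [Group G] [Finite G] [IsSimpleGroup G]

/-- a subgroup of order `16` is a Sylow `2`-subgroup -/
theorem exists_sylow2_eq (hn : Nat.card G = 5040) [Fact (Nat.Prime 2)] (S' : Subgroup G)
    (h : Nat.card S' = 16) : ∃ S : Sylow 2 G, (S : Subgroup G) = S' := by
  obtain ⟨Q⟩ : Nonempty (Sylow 2 G) := inferInstance
  have hc : Nat.card S' = 2 ^ (Nat.card G).factorization 2 := by
    rw [← Q.card_eq_multiplicity, card_sylow2 hn Q, h]
  exact ⟨Sylow.ofCard S' hc, Sylow.coe_ofCard S' hc⟩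

theorem le_centralizer_sylow5 (hn : Nat.card G = 5040) [Fact (Nat.Prime 5)] (P : Sylow 5 G) :
    (P : Subgroup G) ≤ Subgroup.centralizer ((P : Subgroup G) : Set G) := by
  have hP := card_sylow5 hn P
  have hcyc : IsCyclic (P : Subgroup G) := isCyclic_of_prime_card hP
  have : IsMulCommutative (P : Subgroup G) := IsCyclic.isMulCommutative
  exact Subgroup.le_centralizer (P : Subgroup G)

/-- `|N(P₅)| = |C(P₅)| * d` with `d ∣ 4`. -/
theorem card_normalizer_eq5 (hn : Nat.card G = 5040) [Fact (Nat.Prime 5)] (P : Sylow 5 G) :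
    ∃ d, d ∣ 4 ∧ Nat.card (Subgroup.normalizer ((P : Subgroup G) : Set G)) =
      Nat.card (Subgroup.centralizer ((P : Subgroup G) : Set G)) * d := by
  have hP := card_sylow5 hn P
  have hcyc : IsCyclic (P : Subgroup G) := isCyclic_of_prime_card hP
  have h1 := Cfsg.Agent.Lib.Helper4.Simple.relIndex_centralizer_normalizer_dvd (P : Subgroup G)
  rw [hcyc.card_mulAut, hP, Nat.totient_prime (by norm_num)] at h1
  refine ⟨_, h1, ?_⟩
  have hle : Subgroup.centralizer ((P : Subgroup G) : Set G) ≤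
      Subgroup.normalizer ((P : Subgroup G) : Set G) := Subgroup.centralizer_le_normalizer _
  have := Subgroup.relIndex_mul_relIndex ⊥ _ _ bot_le hle
  rw [Subgroup.relIndex_bot_left, Subgroup.relIndex_bot_left] at this
  exact this.symm

/-- a generator of a Sylow `5`-subgroup -/
theorem exists_gen5 (hn : Nat.card G = 5040) [Fact (Nat.Prime 5)] (P : Sylow 5 G) :
    ∃ x : G, x ∈ (P : Subgroup G) ∧ x ≠ 1 ∧ x ^ 5 = 1 := by
  have hP := card_sylow5 hn P
  have hnt : (P : Subgroup G) ≠ ⊥ := by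
    intro h
    rw [h, Subgroup.card_bot] at hP
    norm_num at hP
  obtain ⟨⟨x, hx⟩, hx1⟩ := (Subgroup.ne_bot_iff_exists_ne_one).1 hnt
  refine ⟨x, hx, fun h1 => hx1 (Subtype.ext h1), ?_⟩
  have := orderOf_dvd_natCard (⟨x, hx⟩ : (P : Subgroup G))
  rw [hP] at this
  have h5 : (⟨x, hx⟩ : (P : Subgroup G)) ^ 5 = 1 := orderOf_dvd_iff_pow_eq_one.1 this
  exact congrArg Subtype.val h5

/-- **Z\* in a simple group of order 5040**: an involution is never isolated in a Sylow
`2`-subgroup. -/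
theorem not_isolated (hn : Nat.card G = 5040) [Fact (Nat.Prime 2)] (S : Sylow 2 G) (u : G)
    (hu : orderOf u = 2) (huS : u ∈ S) (hiso : ∀ g : G, g * u * g⁻¹ ∈ S → g * u * g⁻¹ = u) :
    False := by
  obtain ⟨N, hNn, hNodd, hNc⟩ := Cfsg.Agent.S0215.result S u hu huS hiso
  have hu1 : u ≠ 1 := by
    intro h; rw [h, orderOf_one] at hu; norm_num at hu
  rcases hNn.eq_bot_or_eq_top with h | h
  · apply hu1
    apply eq_one_of_central hn
    intro g
    have := hNc g
    rw [h, Subgroup.mem_bot] at this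
    have h2 : u * g = g * u := by
      calc u * g = (u * g * u⁻¹ * g⁻¹) * g * u := by group
        _ = g * u := by rw [this, one_mul]
    exact h2.symm
  · rw [h, Subgroup.card_top, hn] at hNodd
    exact absurd hNodd (by decide)

/-- Lemma K: no involution `u` with `N(P₅) ≤ C(u)` and `|C(u)| = 240`. -/
theorem not_card_centralizer_240 (hn : Nat.card G = 5040) [Fact (Nat.Prime 5)] (P : Sylow 5 G)
    (u : G) (hu : orderOf u = 2)
    (hNu : Subgroup.normalizer ((P : Subgroup G) : Set G) ≤ Subgroup.centralizer ({u} : Set G))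
    (h240 : Nat.card (Subgroup.centralizer ({u} : Set G)) = 240) : False := by
  have hp2 : Fact (Nat.Prime 2) := ⟨by norm_num⟩
  have hP := card_sylow5 hn P
  obtain ⟨x, hxP, hx1, hx5⟩ := exists_gen5 hn P
  set H := Subgroup.centralizer ({u} : Set G) with hHdef
  have hHtop : H ≠ ⊤ := ne_top_of_card_lt hn H (by rw [h240]; norm_num)
  have hX : Nat.card (G ⧸ H) = 21 := card_quotient_eq hn H 240 21 h240 (by norm_num) (by norm_num)
  have hfix1 : Nat.card (fixedBy (G ⧸ H) x) = 1 :=
    card_fixedBy_eq_one_of_le 5 P hP H hNu x hxP hx1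
  have hxH : x ∈ H := hNu (Subgroup.le_normalizer hxP)
  have hux : u * x = x * u := by
    rw [hHdef, Subgroup.mem_centralizer_singleton_iff] at hxH
    exact hxH.symm
  have huu : u * u = 1 := by rw [← pow_two, ← hu]; exact pow_orderOf_eq_one u
  have hu1 : u ≠ 1 := by
    intro h; rw [h, orderOf_one] at hu; norm_num at hu
  have ha := card_fixedBy_modEq_one (X := G ⧸ H) 5 x u hx5 hux hfix1
  have hb := card_mod_four_eq (X := G ⧸ H) (two_lt hn) u huu
  have hc := card_fixedBy_le (X := G ⧸ H) u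
  have hd : Nat.card (fixedBy (G ⧸ H) u) ≠ Nat.card (G ⧸ H) := by
    intro h
    exact hu1 (eq_one_of_card_fixedBy_eq H hHtop u h)
  unfold Nat.ModEq at ha
  rw [hX] at hb hc hd
  have hfixu : Nat.card (fixedBy (G ⧸ H) u) = 1 := by omega
  -- so `u` commutes with none of its other conjugates
  have huH : u ∈ H := by
    rw [hHdef, Subgroup.mem_centralizer_singleton_iff]
  have hkey : ∀ g : G, g⁻¹ * u * g ∈ H → g ∈ H := by
    intro g hg
    obtain ⟨hsub, -⟩ := Nat.card_eq_one_iff_unique.1 hfixu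
    have h1 : ((g : G ⧸ H)) ∈ fixedBy (G ⧸ H) u := by
      rw [mem_fixedBy, Cfsg.Agent.Lib.Helper4.SylowPrime.smul_mk_eq_iff]; exact hg
    have h2 : (((1 : G) : G ⧸ H)) ∈ fixedBy (G ⧸ H) u := by
      rw [mem_fixedBy, Cfsg.Agent.Lib.Helper4.SylowPrime.smul_mk_eq_iff]; simpa using huH
    have h3 := hsub.elim ⟨_, h1⟩ ⟨_, h2⟩
    have h4 : (g : G ⧸ H) = ((1 : G) : G ⧸ H) := congrArg Subtype.val h3
    rw [QuotientGroup.eq] at h4
    simpa using H.inv_mem h4
  -- a Sylow `2`-subgroup of `G` inside `H` containing `u`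
  have hZ : IsPGroup 2 (Subgroup.zpowers u) := by
    apply IsPGroup.of_card (n := 1)
    rw [Nat.card_zpowers, hu, pow_one]
  obtain ⟨S', huS', hS'H, hS'card⟩ := exists_le_card_pow 2 H 4 15 (by rw [h240]; norm_num)
    (by norm_num) (Subgroup.zpowers u) (by rw [Subgroup.zpowers_le]; exact huH) hZ
  obtain ⟨S, hS⟩ := exists_sylow2_eq hn S' (by rw [hS'card]; norm_num)
  apply not_isolated hn S u hu
  · show u ∈ (S : Subgroup G)
    rw [hS]; exact huS' (Subgroup.mem_zpowers u)
  · intro g hg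
    have hg' : g * u * g⁻¹ ∈ H := by
      apply hS'H
      rw [← hS]; exact hg
    have h1 : g⁻¹ ∈ H := hkey g⁻¹ (by simpa using hg')
    have h2 : g ∈ H := by simpa using H.inv_mem h1
    rw [hHdef, Subgroup.mem_centralizer_singleton_iff] at h2
    rw [h2]; group

end Cfsg.Agent.Lib.Helper5.O5040
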