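import Mathlib
import Cfsg.Agent.Lib.Helper5.O5040H

/-!
# Order 5040, `n₅ = 126`: an involution `u` with `C(u) = N(P₅)`

(author: helper5)
-/

set_option autoImplicit false

namespace Cfsg.Agent.Lib.Helper5.O5040

open MulAction

/-- A nontrivial normal subgroup of a finite `p`-group contains a nontrivial central element. -/
theorem exists_mem_center_of_normal {T : Type*} [Group T] [Finite T] (p : ℕ) [hp : Fact p.Prime]
    (hT : IsPGroup p T) (V : Subgroup T) [hVn : V.Normal] (hV : V ≠ ⊥) :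
    ∃ v ∈ V, v ≠ 1 ∧ ∀ t : T, t * v = v * t := by
  have hT' : IsPGroup p (ConjAct T) := hT.of_equiv ConjAct.toConjAct
  have h := hT'.card_modEq_card_fixedPoints (↥V)
  have hVp : IsPGroup p V := hT.to_subgroup V
  obtain ⟨k, hk⟩ := IsPGroup.iff_card.1 hVp
  have hk0 : k ≠ 0 := by
    intro h0
    rw [h0, pow_zero] at hk
    exact hV (Subgroup.card_eq_one.1 hk)
  have hpV : p ∣ Nat.card V := by
    rw [hk]; exact dvd_pow_self p hk0
  have hpF : p ∣ Nat.card (fixedPoints (ConjAct T) (↥V)) := by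
    have := (Nat.modEq_zero_iff_dvd.2 hpV)
    exact (Nat.modEq_zero_iff_dvd).1 (h.symm.trans this)
  have hone : (1 : V) ∈ fixedPoints (ConjAct T) (↥V) := by
    rw [mem_fixedPoints]
    intro g
    exact smul_one g
  have hpos : 0 < Nat.card (fixedPoints (ConjAct T) (↥V)) := by
    have : Nonempty (fixedPoints (ConjAct T) (↥V)) := ⟨⟨1, hone⟩⟩
    exact Nat.card_pos
  have h2 : 1 < Nat.card (fixedPoints (ConjAct T) (↥V)) := by
    have := Nat.le_of_dvd hpos hpF
    have := hp.out.two_le
    omega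
  have hnt : Nontrivial (fixedPoints (ConjAct T) (↥V)) :=
    Finite.one_lt_card_iff_nontrivial.1 h2
  obtain ⟨⟨v, hv⟩, hv1⟩ := exists_ne (⟨1, hone⟩ : fixedPoints (ConjAct T) (↥V))
  refine ⟨(v : T), v.2, ?_, ?_⟩
  · intro h1
    apply hv1
    apply Subtype.ext
    apply Subtype.ext
    exact h1
  · intro t
    rw [mem_fixedPoints] at hv
    have := hv (ConjAct.toConjAct t)
    have h3 : ((ConjAct.toConjAct t • v : V) : T) = (v : T) := by rw [this]
    rw [ConjAct.Subgroup.val_conj_smul, ConjAct.toConjAct_smul] at h3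
    calc t * (v : T) = (t * v * t⁻¹) * t := by group
      _ = v * t := by rw [h3]

/-- A nontrivial `2`-element has a power of order `2`. -/
theorem exists_pow_orderOf_two {T : Type*} [Group T] (v : T) (k : ℕ) (hk : orderOf v = 2 ^ k)
    (hv : v ≠ 1) : ∃ j : ℕ, orderOf (v ^ j) = 2 := by
  have hk0 : k ≠ 0 := by
    intro h0
    rw [h0, pow_zero, orderOf_eq_one_iff] at hk
    exact hv hk
  obtain ⟨m, rfl⟩ : ∃ m, k = m + 1 := ⟨k - 1, by omega⟩
  refine ⟨2 ^ m, ?_⟩
  rw [orderOf_pow_of_dvd (by positivity) (by rw [hk]; exact pow_dvd_pow 2 (Nat.le_succ m)), hk,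
    pow_succ, Nat.mul_div_cancel_left _ (by positivity)]

variable {G : Type*} [Group G] [Finite G] [IsSimpleGroup G]

/-- arithmetic: divisors of `126` that are `≡ 1 mod 5` -/
theorem arith_126 (n : ℕ) (hdvd : n ∣ 126) (hmod : n % 5 = 1) :
    n = 1 ∨ n = 6 ∨ n = 21 ∨ n = 126 := by
  have hle : n ≤ 126 := Nat.le_of_dvd (by norm_num) hdvd
  obtain ⟨j, rfl⟩ : ∃ j, n = 5 * j + 1 := ⟨n / 5, by omega⟩
  have hj : j ≤ 25 := by omega
  interval_cases j <;> first | omega | (exfalso; revert hdvd; decide)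

/-- If `|N(P₅)| = 40` and the involution `u` is central in `N(P₅)`, then `C(u) = N(P₅)`. -/
theorem centralizer_eq_normalizer (hn : Nat.card G = 5040) [Fact (Nat.Prime 5)] (P : Sylow 5 G)
    (hN : Nat.card (Subgroup.normalizer ((P : Subgroup G) : Set G)) = 40)
    (u : G) (hu : orderOf u = 2)
    (hNu : Subgroup.normalizer ((P : Subgroup G) : Set G) ≤ Subgroup.centralizer ({u} : Set G)) :
    Subgroup.centralizer ({u} : Set G) = Subgroup.normalizer ((P : Subgroup G) : Set G) := by
  have hP := card_sylow5 hn P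
  obtain ⟨x, hxP, hx1, hx5⟩ := exists_gen5 hn P
  set N := Subgroup.normalizer ((P : Subgroup G) : Set G) with hNdef
  set H := Subgroup.centralizer ({u} : Set G) with hHdef
  have hu1 : u ≠ 1 := by
    intro h; rw [h, orderOf_one] at hu; norm_num at hu
  have hHtop : H ≠ ⊤ := by
    intro h
    apply hu1
    apply eq_one_of_central hn
    intro g
    have : g ∈ H := by rw [h]; trivial
    rw [hHdef, Subgroup.mem_centralizer_singleton_iff] at this
    exact this
  have hfix1 : Nat.card (fixedBy (G ⧸ H) x) = 1 :=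
    card_fixedBy_eq_one_of_le 5 P hP H hNu x hxP hx1
  have hmod5 := card_fixedBy_modEq_card (X := G ⧸ H) 5 x hx5
  rw [hfix1] at hmod5
  have hNidx : N.index = 126 := card_quotient_eq hn N 40 126 hN (by norm_num) (by norm_num)
  have hdvd : H.index ∣ 126 := hNidx ▸ Subgroup.index_dvd_of_le hNu
  have hXH : Nat.card (G ⧸ H) = H.index := rfl
  unfold Nat.ModEq at hmod5
  rw [hXH] at hmod5
  have hcard := H.card_mul_index
  rw [hn] at hcard
  rcases arith_126 _ hdvd (by omega) with h | h | h | h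
  · exact absurd (Subgroup.index_eq_one.1 h) hHtop
  · exfalso
    have := Cfsg.Agent.Lib.Helper4.Simple.two_mul_card_dvd_factorial_of_simple (two_lt hn) H hHtop
    rw [h, hn] at this
    revert this
    decide
  · exfalso
    rw [h] at hcard
    have h240 : Nat.card H = 240 := by omega
    exact not_card_centralizer_240 hn P u hu hNu h240
  · rw [h] at hcard
    symm
    apply Subgroup.eq_of_le_of_card_ge hNu
    rw [hN]; omega

/-- If `|N(P₅)| = 40`, there is an involution `u ∈ C(P₅)` central in `N(P₅)`. -/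
theorem exists_central_involution (hn : Nat.card G = 5040) [Fact (Nat.Prime 5)] (P : Sylow 5 G)
    (hN : Nat.card (Subgroup.normalizer ((P : Subgroup G) : Set G)) = 40) :
    ∃ u : G, orderOf u = 2 ∧ u ∈ Subgroup.centralizer ((P : Subgroup G) : Set G) ∧
      Subgroup.normalizer ((P : Subgroup G) : Set G) ≤ Subgroup.centralizer ({u} : Set G) := by
  have hp2 : Fact (Nat.Prime 2) := ⟨by norm_num⟩
  have hP := card_sylow5 hn P
  set N := Subgroup.normalizer ((P : Subgroup G) : Set G) with hNdef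
  set C := Subgroup.centralizer ((P : Subgroup G) : Set G) with hCdef
  have hCN : C ≤ N := Subgroup.centralizer_le_normalizer _
  obtain ⟨d, hd4, hNC⟩ := card_normalizer_eq5 hn P
  rw [hN] at hNC
  have hd : d ≤ 4 := Nat.le_of_dvd (by norm_num) hd4
  have hd1 : d ≠ 1 := by
    intro h1
    rw [h1, mul_one] at hNC
    have heq : C = N := Subgroup.eq_of_le_of_card_ge hCN (by rw [hN, ← hNC])
    exact Cfsg.Agent.Lib.Helper4.Simple.false_of_simple_of_normalizer_le_centralizer P
      (by rw [← hNdef, ← hCdef, heq])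
      (by rw [show Nat.card P = Nat.card (P : Subgroup G) from rfl, hP]; norm_num)
      (by rw [show Nat.card P = Nat.card (P : Subgroup G) from rfl, hP, hn]; norm_num)
  -- a Sylow `2`-subgroup `T` of `N`
  obtain ⟨T, -, hTN, hTcard⟩ := exists_le_card_pow 2 N 3 5 (by rw [hN]; norm_num) (by norm_num) ⊥
    bot_le IsPGroup.of_bot
  have hTcard8 : Nat.card T = 8 := by rw [hTcard]; norm_num
  -- `T ⊓ C` is nontrivial
  have hrel : (T ⊓ C).relIndex N ≤ T.relIndex N * C.relIndex N := Subgroup.relIndex_inf_le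
  have hTrel : T.relIndex N = 5 := by
    have := Subgroup.relIndex_mul_relIndex ⊥ T N bot_le hTN
    rw [Subgroup.relIndex_bot_left, Subgroup.relIndex_bot_left, hTcard8, hN] at this
    omega
  have hCrel : C.relIndex N = d := by
    have := Subgroup.relIndex_mul_relIndex ⊥ C N bot_le hCN
    rw [Subgroup.relIndex_bot_left, Subgroup.relIndex_bot_left, hN] at this
    have hCpos : 0 < Nat.card C := Nat.card_pos
    have h2 : Nat.card C * C.relIndex N = Nat.card C * d := by rw [this, hNC]
    exact Nat.eq_of_mul_eq_mul_left hCpos h2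
  have hVcard : Nat.card (T ⊓ C : Subgroup G) * (T ⊓ C).relIndex N = 40 := by
    have := Subgroup.relIndex_mul_relIndex ⊥ (T ⊓ C) N bot_le (le_trans inf_le_left hTN)
    rw [Subgroup.relIndex_bot_left, Subgroup.relIndex_bot_left, hN] at this
    exact this
  have hVne : (T ⊓ C : Subgroup G) ≠ ⊥ := by
    intro h
    have hc1 : Nat.card (T ⊓ C : Subgroup G) = 1 := by rw [h, Subgroup.card_bot]
    rw [hc1, one_mul] at hVcard
    rw [hVcard, hTrel, hCrel] at hrel
    omega
  -- the normal subgroup `V = (T ⊓ C).subgroupOf T` of the `2`-group `T`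
  have hTp : IsPGroup 2 T := IsPGroup.of_card (n := 3) hTcard
  have hVn : ((T ⊓ C).subgroupOf T).Normal := by
    constructor
    rintro ⟨v, hvT⟩ hv ⟨t, htT⟩
    rw [Subgroup.mem_subgroupOf] at hv ⊢
    refine ⟨T.mul_mem (T.mul_mem htT hvT) (T.inv_mem htT), ?_⟩
    exact conj_mem_centralizer (P : Subgroup G) t v (hTN htT) hv.2
  have hVne' : (T ⊓ C).subgroupOf T ≠ ⊥ := by
    intro h
    apply hVne
    rw [Subgroup.subgroupOf_eq_bot] at h
    rw [eq_bot_iff]
    intro g hg
    have : g ∈ (T ⊓ C) ⊓ T := ⟨hg, hg.1⟩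
    rw [h.eq_bot] at this
    exact this
  obtain ⟨v, hvV, hv1, hvc⟩ := exists_mem_center_of_normal 2 hTp ((T ⊓ C).subgroupOf T) hVne'
  obtain ⟨k, hk⟩ := (IsPGroup.iff_orderOf.1 hTp) v
  obtain ⟨j, hj⟩ := exists_pow_orderOf_two v k hk hv1
  refine ⟨((v ^ j : T) : G), ?_, ?_, ?_⟩
  · rw [Subgroup.orderOf_coe]; exact hj
  · have : v ^ j ∈ (T ⊓ C).subgroupOf T := Subgroup.pow_mem _ hvV j
    exact (Subgroup.mem_subgroupOf.1 this).2
  · -- `N = P ⊔ T`
    have hsup : (P : Subgroup G) ⊔ T ≤ N := sup_le Subgroup.le_normalizer hTN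
    have h5 : 5 ∣ Nat.card ((P : Subgroup G) ⊔ T : Subgroup G) := by
      have := Subgroup.card_dvd_of_le (le_sup_left : (P : Subgroup G) ≤ (P : Subgroup G) ⊔ T)
      rwa [hP] at this
    have h8 : 8 ∣ Nat.card ((P : Subgroup G) ⊔ T : Subgroup G) := by
      have := Subgroup.card_dvd_of_le (le_sup_right : T ≤ (P : Subgroup G) ⊔ T)
      rwa [hTcard8] at this
    have hpos : 0 < Nat.card ((P : Subgroup G) ⊔ T : Subgroup G) := Nat.card_pos
    have heq : (P : Subgroup G) ⊔ T = N :=
      Subgroup.eq_of_le_of_card_ge hsup (by rw [hN]; omega)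
    rw [← heq, sup_le_iff]
    have hvjC : ((v ^ j : T) : G) ∈ C := by
      have : v ^ j ∈ (T ⊓ C).subgroupOf T := Subgroup.pow_mem _ hvV j
      exact (Subgroup.mem_subgroupOf.1 this).2
    constructor
    · intro a ha
      rw [Subgroup.mem_centralizer_singleton_iff]
      exact (Subgroup.mem_centralizer_iff.1 hvjC a ha)
    · intro t ht
      rw [Subgroup.mem_centralizer_singleton_iff]
      have hcomm : ∀ t' : T, t' * v ^ j = v ^ j * t' := by
        intro t'
        exact ((Commute.pow_right (show Commute t' v from hvc t') j)).eq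
      exact congrArg Subtype.val (hcomm ⟨t, ht⟩)

end Cfsg.Agent.Lib.Helper5.O5040
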