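import Mathlib
import Cfsg.Agent.Lib.Helper5.O5040I

/-!
# Order 5040: general fixed-point lemmas for the self-centralizing case

(author: helper5)
-/

set_option autoImplicit false

namespace Cfsg.Agent.Lib.Helper5.O5040

open MulAction

/-- conjugate elements have the same number of fixed points -/
theorem card_fixedBy_conj {G : Type*} [Group G] {X : Type*} [MulAction G X] (g y : G) :
    Nat.card (fixedBy X (g * y * g⁻¹)) = Nat.card (fixedBy X y) := by
  apply Nat.card_congr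
  refine ⟨fun ω => ⟨g⁻¹ • (ω : X), ?_⟩, fun ω => ⟨g • (ω : X), ?_⟩, ?_, ?_⟩
  · have := ω.2
    rw [mem_fixedBy] at this ⊢
    calc y • g⁻¹ • (ω : X) = g⁻¹ • ((g * y * g⁻¹) • (ω : X)) := by simp [mul_smul]
      _ = g⁻¹ • (ω : X) := by rw [this]
  · have := ω.2
    rw [mem_fixedBy] at this ⊢
    calc (g * y * g⁻¹) • g • (ω : X) = g • (y • (ω : X)) := by simp [mul_smul]
      _ = g • (ω : X) := by rw [this]
  · intro ω; apply Subtype.ext; simp
  · intro ω; apply Subtype.ext; simp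

/-- **Orbit lemma**: if `w` normalizes `P`, no nontrivial element of `P` has a fixed point and
`w` commutes with no nontrivial element of `P`, then the translates `a • Fix(w)`, `a ∈ P`, are
pairwise disjoint. -/
theorem card_mul_card_fixedBy_le {G : Type*} [Group G] {X : Type*} [MulAction G X] [Finite X]
    (P : Subgroup G) [Finite P] (w : G) (hw : w ∈ Subgroup.normalizer (P : Set G))
    (hfree : ∀ a ∈ P, a ≠ 1 → ∀ ω : X, a • ω ≠ ω)
    (hcent : ∀ a ∈ P, a ≠ 1 → w * a ≠ a * w) :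
    Nat.card P * Nat.card (fixedBy X w) ≤ Nat.card X := by
  rw [← Nat.card_prod]
  apply Nat.card_le_card_of_injective (fun q : P × fixedBy X w => ((q.1 : G) • (q.2 : X)))
  rintro ⟨⟨a, ha⟩, ⟨α, hα⟩⟩ ⟨⟨b, hb⟩, ⟨β, hβ⟩⟩ h
  simp only at h
  rw [mem_fixedBy] at hα hβ
  have hc : b⁻¹ * a ∈ P := P.mul_mem (P.inv_mem hb) ha
  have hβ' : β = (b⁻¹ * a) • α := by rw [mul_smul, h, inv_smul_smul]
  have hw' : w⁻¹ ∈ Subgroup.normalizer (P : Set G) := Subgroup.inv_mem _ hw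
  have hmem : w⁻¹ * (b⁻¹ * a)⁻¹ * w ∈ P := by
    have := (Subgroup.mem_normalizer_iff.1 hw' ((b⁻¹ * a)⁻¹)).1 (P.inv_mem hc)
    simpa using this
  have hwinv : w⁻¹ • α = α := by
    rw [inv_smul_eq_iff, hα]
  have hfix : (w⁻¹ * (b⁻¹ * a)⁻¹ * w * (b⁻¹ * a)) • α = α := by
    rw [mul_smul, ← hβ', mul_smul, hβ, mul_smul, hβ', inv_smul_smul, hwinv]
  have he : w⁻¹ * (b⁻¹ * a)⁻¹ * w * (b⁻¹ * a) = 1 := by
    by_contra hne
    exact hfree _ (P.mul_mem hmem hc) hne α hfix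
  have hcomm : w * (b⁻¹ * a) = (b⁻¹ * a) * w := by
    have : w * (b⁻¹ * a) = (b⁻¹ * a) * w * (w⁻¹ * (b⁻¹ * a)⁻¹ * w * (b⁻¹ * a)) := by group
    rw [this, he, mul_one]
  have hc1 : b⁻¹ * a = 1 := by
    by_contra hne
    exact hcent _ hc hne hcomm
  have hab : a = b := by
    have : a = b * (b⁻¹ * a) := by group
    rw [this, hc1, mul_one]
  have hαβ : α = β := by rw [hβ', hc1, one_smul]
  subst hab
  subst hαβ
  rfl

/-- conjugation by two elements normalizing `⟨x⟩` commute on `x` -/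
theorem conj_comm_of_zpowers {G : Type*} [Group G] (x a b : G)
    (ha : a * x * a⁻¹ ∈ Subgroup.zpowers x) (hb : b * x * b⁻¹ ∈ Subgroup.zpowers x) :
    (a * b) * x * (a * b)⁻¹ = (b * a) * x * (b * a)⁻¹ := by
  obtain ⟨i, hi⟩ := Subgroup.mem_zpowers_iff.1 ha
  obtain ⟨j, hj⟩ := Subgroup.mem_zpowers_iff.1 hb
  have h1 : (a * b) * x * (a * b)⁻¹ = a * (b * x * b⁻¹) * a⁻¹ := by group
  have h2 : (b * a) * x * (b * a)⁻¹ = b * (a * x * a⁻¹) * b⁻¹ := by group
  rw [h1, h2, ← hi, ← hj, ← conj_zpow, ← conj_zpow, ← hi, ← hj, ← zpow_mul, ← zpow_mul, mul_comm]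

/-- no nontrivial element of order `7` fixes a point of `G ⧸ H` when `7 ∤ |H|` -/
theorem smul_ne_of_not_dvd {G : Type*} [Group G] [Finite G] (H : Subgroup G) (p : ℕ)
    [hp : Fact p.Prime] (hH : ¬ p ∣ Nat.card H) (a : G) (ha : a ^ p = 1) (ha1 : a ≠ 1)
    (ω : G ⧸ H) : a • ω ≠ ω := by
  obtain ⟨g, rfl⟩ := QuotientGroup.mk_surjective ω
  intro h
  rw [Cfsg.Agent.Lib.Helper4.SylowPrime.smul_mk_eq_iff] at h
  apply hH
  have ho : orderOf (g⁻¹ * a * g) = p := by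
    have h1 : (g⁻¹ * a * g) ^ p = 1 := by
      have : g⁻¹ * a * g = g⁻¹ * a * g⁻¹⁻¹ := by rw [inv_inv]
      rw [this, conj_pow, ha]; group
    have h2 : g⁻¹ * a * g ≠ 1 := by
      intro h2
      apply ha1
      have : a = g * (g⁻¹ * a * g) * g⁻¹ := by group
      rw [this, h2]; group
    exact orderOf_eq_prime h1 h2
  have := orderOf_dvd_natCard (⟨g⁻¹ * a * g, h⟩ : H)
  rw [Subgroup.orderOf_mk, ho] at this
  exact this

/-- an element with a fixed point on `G ⧸ H` is conjugate into `H` -/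
theorem exists_conj_mem_of_card_fixedBy_ne_zero {G : Type*} [Group G] (H : Subgroup G) (y : G)
    (h : Nat.card (fixedBy (G ⧸ H) y) ≠ 0) : ∃ g : G, g⁻¹ * y * g ∈ H := by
  have hne : Nonempty (fixedBy (G ⧸ H) y) := by
    by_contra hcon
    rw [not_nonempty_iff] at hcon
    exact h Nat.card_of_isEmpty
  obtain ⟨⟨ω, hω⟩⟩ := hne
  obtain ⟨g, rfl⟩ := QuotientGroup.mk_surjective ω
  rw [mem_fixedBy, Cfsg.Agent.Lib.Helper4.SylowPrime.smul_mk_eq_iff] at hω
  exact ⟨g, hω⟩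

end Cfsg.Agent.Lib.Helper5.O5040
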