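import Mathlib
import Cfsg.Agent.Lib.Helper5.O5040J

/-!
# Order 5040, self-centralizing Sylow `7`: commuting pair in `N(P₇)`, fixed points mod `5`

(author: helper5)
-/

set_option autoImplicit false

namespace Cfsg.Agent.Lib.Helper5.O5040

open MulAction

variable {G : Type*} [Group G] [Finite G] [IsSimpleGroup G]

theorem pow_seven_eq_one (hn : Nat.card G = 5040) [Fact (Nat.Prime 7)] (P : Sylow 7 G) (a : G)
    (ha : a ∈ (P : Subgroup G)) : a ^ 7 = 1 := by
  have hP := card_sylow7 hn P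
  have := orderOf_dvd_natCard (⟨a, ha⟩ : (P : Subgroup G))
  rw [hP] at this
  have h7 : (⟨a, ha⟩ : (P : Subgroup G)) ^ 7 = 1 := orderOf_dvd_iff_pow_eq_one.1 this
  exact congrArg Subtype.val h7

/-- In the self-centralizing case, `N(P₇)` contains commuting elements `y` (`y ^ 3 = 1`) and
`t` (`t ^ 2 = 1`) outside `P₇`. -/
theorem exists_commuting_pair (hn : Nat.card G = 5040) [Fact (Nat.Prime 7)] (P : Sylow 7 G)
    (hN : Nat.card (Subgroup.normalizer ((P : Subgroup G) : Set G)) = 42)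
    (hB : ∀ x ∈ (P : Subgroup G), x ≠ 1 → ∀ g : G, g * x = x * g → g ∈ (P : Subgroup G)) :
    ∃ y t : G, y ∈ Subgroup.normalizer ((P : Subgroup G) : Set G) ∧
      t ∈ Subgroup.normalizer ((P : Subgroup G) : Set G) ∧ y ∉ (P : Subgroup G) ∧
      t ∉ (P : Subgroup G) ∧ y ^ 3 = 1 ∧ t ^ 2 = 1 ∧ y * t = t * y := by
  have hp2 : Fact (Nat.Prime 2) := ⟨by norm_num⟩
  have hp3 : Fact (Nat.Prime 3) := ⟨by norm_num⟩
  have hP := card_sylow7 hn P
  obtain ⟨x, hxP, hx1, hx7⟩ := exists_gen7 hn P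
  have hox : orderOf x = 7 := orderOf_eq_prime hx7 hx1
  have hPz : Subgroup.zpowers x = (P : Subgroup G) := by
    apply Subgroup.eq_of_le_of_card_ge
    · rw [Subgroup.zpowers_le]; exact hxP
    · rw [Nat.card_zpowers, hox, hP]
  set N := Subgroup.normalizer ((P : Subgroup G) : Set G) with hNdef
  obtain ⟨t₀, ht₀N, ht₀⟩ := exists_orderOf_of_dvd N 2 (by rw [hN]; norm_num)
  obtain ⟨y₀, hy₀N, hy₀⟩ := exists_orderOf_of_dvd N 3 (by rw [hN]; norm_num)
  have hnotP : ∀ w : G, w ∈ (P : Subgroup G) → orderOf w = 1 ∨ orderOf w = 7 := by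
    intro w hw
    have := orderOf_dvd_of_pow_eq_one (pow_seven_eq_one hn P w hw)
    exact (Nat.dvd_prime (by norm_num)).1 this
  have ht₀P : t₀ ∉ (P : Subgroup G) := by
    intro h; rcases hnotP t₀ h with h1 | h1 <;> omega
  have hy₀P : y₀ ∉ (P : Subgroup G) := by
    intro h; rcases hnotP y₀ h with h1 | h1 <;> omega
  -- the quotient `N / P` is commutative
  have hconj : ∀ a : G, a ∈ N → a * x * a⁻¹ ∈ Subgroup.zpowers x := by
    intro a ha
    rw [hPz]
    exact (Subgroup.mem_normalizer_iff.1 ha x).1 hxP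
  have hcommP : ∀ a b : G, a ∈ N → b ∈ N → (a * b)⁻¹ * (b * a) ∈ (P : Subgroup G) := by
    intro a b ha hb
    apply hB x hxP hx1
    have h := conj_comm_of_zpowers x a b (hconj a ha) (hconj b hb)
    calc (a * b)⁻¹ * (b * a) * x = (a * b)⁻¹ * ((b * a) * x * (b * a)⁻¹) * (b * a) := by group
      _ = (a * b)⁻¹ * ((a * b) * x * (a * b)⁻¹) * (b * a) := by rw [h]
      _ = x * ((a * b)⁻¹ * (b * a)) := by group
  have hQcomm : ∀ a b : N ⧸ (P : Subgroup G).subgroupOf N, a * b = b * a := by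
    intro a b
    obtain ⟨a, rfl⟩ := QuotientGroup.mk_surjective a
    obtain ⟨b, rfl⟩ := QuotientGroup.mk_surjective b
    rw [← QuotientGroup.mk_mul, ← QuotientGroup.mk_mul, QuotientGroup.eq, Subgroup.mem_subgroupOf]
    exact hcommP a b a.2 b.2
  -- orders in the quotient
  have hone : ∀ w : N, ((w : N ⧸ (P : Subgroup G).subgroupOf N) = 1) ↔ (w : G) ∈ (P : Subgroup G) := by
    intro w
    rw [QuotientGroup.eq_one_iff, Subgroup.mem_subgroupOf]
  have hot : orderOf ((⟨t₀, ht₀N⟩ : N) : N ⧸ (P : Subgroup G).subgroupOf N) = 2 := by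
    apply orderOf_eq_prime
    · rw [← QuotientGroup.mk_pow, hone]
      have : t₀ ^ 2 = 1 := by rw [← ht₀]; exact pow_orderOf_eq_one t₀
      simp only [Subgroup.coe_pow]
      rw [this]; exact Subgroup.one_mem _
    · rw [Ne, hone]; exact ht₀P
  have hoy : orderOf ((⟨y₀, hy₀N⟩ : N) : N ⧸ (P : Subgroup G).subgroupOf N) = 3 := by
    apply orderOf_eq_prime
    · rw [← QuotientGroup.mk_pow, hone]
      have : y₀ ^ 3 = 1 := by rw [← hy₀]; exact pow_orderOf_eq_one y₀
      simp only [Subgroup.coe_pow]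
      rw [this]; exact Subgroup.one_mem _
    · rw [Ne, hone]; exact hy₀P
  have ho6 : orderOf (((⟨t₀, ht₀N⟩ : N) : N ⧸ (P : Subgroup G).subgroupOf N) *
      ((⟨y₀, hy₀N⟩ : N) : N ⧸ (P : Subgroup G).subgroupOf N)) = 6 := by
    rw [Commute.orderOf_mul_eq_mul_orderOf_of_coprime (hQcomm _ _) (by rw [hot, hoy]; norm_num),
      hot, hoy]
  rw [← QuotientGroup.mk_mul] at ho6
  set n : N := (⟨t₀, ht₀N⟩ : N) * ⟨y₀, hy₀N⟩ with hndef
  have hn2 : ((n : G)) ^ 2 ∉ (P : Subgroup G) := by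
    intro h
    have h1 : ((n ^ 2 : N) : N ⧸ (P : Subgroup G).subgroupOf N) = 1 := by
      rw [hone]; simpa using h
    rw [QuotientGroup.mk_pow] at h1
    have := orderOf_dvd_of_pow_eq_one h1
    rw [ho6] at this
    norm_num at this
  have hn3 : ((n : G)) ^ 3 ∉ (P : Subgroup G) := by
    intro h
    have h1 : ((n ^ 3 : N) : N ⧸ (P : Subgroup G).subgroupOf N) = 1 := by
      rw [hone]; simpa using h
    rw [QuotientGroup.mk_pow] at h1
    have := orderOf_dvd_of_pow_eq_one h1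
    rw [ho6] at this
    norm_num at this
  have hn6 : ((n : G)) ^ 6 ∈ (P : Subgroup G) := by
    have h1 : ((n ^ 6 : N) : N ⧸ (P : Subgroup G).subgroupOf N) = 1 := by
      rw [QuotientGroup.mk_pow, ← ho6]; exact pow_orderOf_eq_one _
    rw [hone] at h1
    simpa using h1
  have hn61 : ((n : G)) ^ 6 = 1 := by
    by_contra hne
    have hnP : (n : G) ∈ (P : Subgroup G) := by
      apply hB _ hn6 hne
      rw [← pow_succ', ← pow_succ]
    exact hn2 (Subgroup.pow_mem _ hnP 2)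
  refine ⟨(n : G) ^ 2, (n : G) ^ 3, N.pow_mem n.2 2, N.pow_mem n.2 3, hn2, hn3, ?_, ?_, ?_⟩
  · rw [← pow_mul]; exact hn61
  · rw [← pow_mul]; exact hn61
  · rw [← pow_add, ← pow_add]

/-- fourth powers of elements of `N(P₅)` centralize `P₅` -/
theorem pow_four_mem_centralizer5 (hn : Nat.card G = 5040) [Fact (Nat.Prime 5)] (Q : Sylow 5 G)
    (n : G) (hnN : n ∈ Subgroup.normalizer ((Q : Subgroup G) : Set G)) :
    n ^ 4 ∈ Subgroup.centralizer ((Q : Subgroup G) : Set G) := by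
  have hP := card_sylow5 hn Q
  have hcyc : IsCyclic (Q : Subgroup G) := isCyclic_of_prime_card hP
  have h1 := Cfsg.Agent.Lib.Helper4.Simple.relIndex_centralizer_normalizer_dvd (Q : Subgroup G)
  rw [hcyc.card_mulAut, hP, Nat.totient_prime (by norm_num)] at h1
  have h1' : (Subgroup.centralizer ((Q : Subgroup G) : Set G)).relIndex
      (Subgroup.normalizer ((Q : Subgroup G) : Set G)) ∣ 4 := h1
  set N := Subgroup.normalizer ((Q : Subgroup G) : Set G) with hNdef
  set C := Subgroup.centralizer ((Q : Subgroup G) : Set G) with hCdef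
  have hnorm : (C.subgroupOf N).Normal := by
    constructor
    rintro ⟨c, hcN⟩ hc ⟨m, hmN⟩
    rw [Subgroup.mem_subgroupOf] at hc ⊢
    exact conj_mem_centralizer (Q : Subgroup G) m c hmN hc
  have h2 := Subgroup.pow_index_mem (C.subgroupOf N) (⟨n, hnN⟩ : N)
  rw [Subgroup.mem_subgroupOf] at h2
  obtain ⟨k, hk⟩ := h1'
  have h3 : n ^ 4 = (n ^ (C.relIndex N)) ^ k := by rw [← pow_mul, ← hk]
  rw [h3]
  apply Subgroup.pow_mem
  have h2' : n ^ (C.subgroupOf N).index ∈ C := by simpa using h2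
  exact h2'

/-- an element of order dividing `3` with a fixed point on `G ⧸ N(P₅)` has `≡ 1 mod 5` fixed
points -/
theorem card_fixedBy_mod_five (hn : Nat.card G = 5040) [Fact (Nat.Prime 5)] (Q : Sylow 5 G)
    (y : G) (hy3 : y ^ 3 = 1)
    (hne : Nat.card (fixedBy (G ⧸ Subgroup.normalizer ((Q : Subgroup G) : Set G)) y) ≠ 0) :
    Nat.card (fixedBy (G ⧸ Subgroup.normalizer ((Q : Subgroup G) : Set G)) y) % 5 = 1 := by
  have hQ := card_sylow5 hn Q
  obtain ⟨x, hxQ, hx1, hx5⟩ := exists_gen5 hn Q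
  set N := Subgroup.normalizer ((Q : Subgroup G) : Set G) with hNdef
  obtain ⟨g, hg⟩ := exists_conj_mem_of_card_fixedBy_ne_zero N y hne
  have h3 : (g⁻¹ * y * g) ^ 3 = 1 := by
    have : g⁻¹ * y * g = g⁻¹ * y * g⁻¹⁻¹ := by rw [inv_inv]
    rw [this, conj_pow, hy3]; group
  have h4 : (g⁻¹ * y * g) ^ 4 = g⁻¹ * y * g := by
    rw [pow_succ, h3, one_mul]
  have hC := pow_four_mem_centralizer5 hn Q _ hg
  rw [h4] at hC
  have hcomm : (g⁻¹ * y * g) * x = x * (g⁻¹ * y * g) :=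
    ((Subgroup.mem_centralizer_iff.1 hC) x hxQ).symm
  have hfix1 : Nat.card (fixedBy (G ⧸ N) x) = 1 :=
    card_fixedBy_eq_one_of_le 5 Q hQ N le_rfl x hxQ hx1
  have h5 := card_fixedBy_modEq_one (X := G ⧸ N) 5 x (g⁻¹ * y * g) hx5 hcomm hfix1
  have h6 := card_fixedBy_conj (X := G ⧸ N) g (g⁻¹ * y * g)
  have h7 : g * (g⁻¹ * y * g) * g⁻¹ = y := by group
  rw [h7] at h6
  rw [h6]
  exact h5

end Cfsg.Agent.Lib.Helper5.O5040
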