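import Mathlib
import Cfsg.Agent.Lib.Helper5.O5040K

/-!
# Order 5040, self-centralizing Sylow `7`: `|N(P₅)| = 40`

(author: helper5)
-/

set_option autoImplicit false

namespace Cfsg.Agent.Lib.Helper5.O5040

open MulAction

variable {G : Type*} [Group G] [Finite G] [IsSimpleGroup G]

theorem not_normalizer5_eq_centralizer (hn : Nat.card G = 5040) [Fact (Nat.Prime 5)]
    (Q : Sylow 5 G)
    (h : Nat.card (Subgroup.normalizer ((Q : Subgroup G) : Set G)) =
      Nat.card (Subgroup.centralizer ((Q : Subgroup G) : Set G))) : False := by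
  have hQ := card_sylow5 hn Q
  have hCN : Subgroup.centralizer ((Q : Subgroup G) : Set G) ≤
      Subgroup.normalizer ((Q : Subgroup G) : Set G) := Subgroup.centralizer_le_normalizer _
  have heq : Subgroup.centralizer ((Q : Subgroup G) : Set G) =
      Subgroup.normalizer ((Q : Subgroup G) : Set G) :=
    Subgroup.eq_of_le_of_card_ge hCN (by rw [h])
  exact Cfsg.Agent.Lib.Helper4.Simple.false_of_simple_of_normalizer_le_centralizer Q
    (by rw [heq])
    (by rw [show Nat.card Q = Nat.card (Q : Subgroup G) from rfl, hQ]; norm_num)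
    (by rw [show Nat.card Q = Nat.card (Q : Subgroup G) from rfl, hQ, hn]; norm_num)

theorem not_odd_card_normalizer5 (hn : Nat.card G = 5040) [Fact (Nat.Prime 5)] (Q : Sylow 5 G)
    (hodd : ¬ 2 ∣ Nat.card (Subgroup.normalizer ((Q : Subgroup G) : Set G))) : False := by
  obtain ⟨d, hd4, hNC⟩ := card_normalizer_eq5 hn Q
  have hd : d ≤ 4 := Nat.le_of_dvd (by norm_num) hd4
  have hd1 : d = 1 := by
    interval_cases d
    · norm_num at hd4
    · rfl
    · exfalso; apply hodd; rw [hNC]; exact Dvd.intro_left _ rfl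
    · norm_num at hd4
    · exfalso; apply hodd; rw [hNC]; exact dvd_mul_of_dvd_right (by norm_num) _
  rw [hd1, mul_one] at hNC
  exact not_normalizer5_eq_centralizer hn Q hNC

theorem not_card_normalizer5_140 (hn : Nat.card G = 5040) [Fact (Nat.Prime 5)]
    [Fact (Nat.Prime 7)]
    (hB : ∀ P : Sylow 7 G, Nat.card (Subgroup.normalizer ((P : Subgroup G) : Set G)) = 42 ∧
      ∀ x ∈ (P : Subgroup G), x ≠ 1 → ∀ g : G, g * x = x * g → g ∈ (P : Subgroup G))
    (Q : Sylow 5 G)
    (hN : Nat.card (Subgroup.normalizer ((Q : Subgroup G) : Set G)) = 140) : False := by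
  obtain ⟨d, hd4, hNC⟩ := card_normalizer_eq5 hn Q
  rw [hN] at hNC
  have hd : d ≤ 4 := Nat.le_of_dvd (by norm_num) hd4
  have h7 : 7 ∣ Nat.card (Subgroup.centralizer ((Q : Subgroup G) : Set G)) := by
    interval_cases d
    · norm_num at hd4
    · omega
    · omega
    · norm_num at hd4
    · omega
  obtain ⟨c, hcC, hc7⟩ := exists_orderOf_of_dvd _ 7 h7
  obtain ⟨x, hxQ, hx1, hx5⟩ := exists_gen5 hn Q
  have hcx : x * c = c * x := (Subgroup.mem_centralizer_iff.1 hcC x hxQ)
  have hZ : IsPGroup 7 (Subgroup.zpowers c) :=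
    IsPGroup.of_card (n := 1) (by rw [Nat.card_zpowers, hc7, pow_one])
  obtain ⟨P, hP⟩ := hZ.exists_le_sylow
  have hcP : c ∈ (P : Subgroup G) := hP (Subgroup.mem_zpowers c)
  have hc1 : c ≠ 1 := by
    intro h; rw [h, orderOf_one] at hc7; norm_num at hc7
  have hxP : x ∈ (P : Subgroup G) := (hB P).2 c hcP hc1 x hcx
  have hx7 := pow_seven_eq_one hn P x hxP
  apply hx1
  have : x = (x ^ 5) ^ 3 * ((x ^ 7) ^ 2)⁻¹ := by group
  rw [this, hx5, hx7]; simp

theorem not_card_normalizer5_90 (hn : Nat.card G = 5040) [Fact (Nat.Prime 5)]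
    [Fact (Nat.Prime 7)]
    (hB : ∀ P : Sylow 7 G, Nat.card (Subgroup.normalizer ((P : Subgroup G) : Set G)) = 42 ∧
      ∀ x ∈ (P : Subgroup G), x ≠ 1 → ∀ g : G, g * x = x * g → g ∈ (P : Subgroup G))
    (Q : Sylow 5 G)
    (hN : Nat.card (Subgroup.normalizer ((Q : Subgroup G) : Set G)) = 90) : False := by
  have hp3 : Fact (Nat.Prime 3) := ⟨by norm_num⟩
  obtain ⟨P⟩ : Nonempty (Sylow 7 G) := inferInstance
  obtain ⟨hN42, hBP⟩ := hB P
  have hP := card_sylow7 hn P
  set N := Subgroup.normalizer ((Q : Subgroup G) : Set G) with hNdef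
  obtain ⟨y, hyN, hy⟩ := exists_orderOf_of_dvd
    (Subgroup.normalizer ((P : Subgroup G) : Set G)) 3 (by rw [hN42]; norm_num)
  have hy3 : y ^ 3 = 1 := by rw [← hy]; exact pow_orderOf_eq_one y
  have hyP : y ∉ (P : Subgroup G) := by
    intro h
    have := orderOf_dvd_of_pow_eq_one (pow_seven_eq_one hn P y h)
    rw [hy] at this; norm_num at this
  have hX : Nat.card (G ⧸ N) = 56 := card_quotient_eq hn N 90 56 hN (by norm_num) (by norm_num)
  have horb := card_mul_card_fixedBy_le (X := G ⧸ N) (P : Subgroup G) y hyN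
    (fun a ha ha1 ω => smul_ne_of_not_dvd N 7 (by rw [hN]; norm_num) a
      (pow_seven_eq_one hn P a ha) ha1 ω)
    (fun a ha ha1 hc => hyP (hBP a ha ha1 y hc))
  rw [hP, hX] at horb
  have hmod3 := card_fixedBy_modEq_card (X := G ⧸ N) 3 y hy3
  unfold Nat.ModEq at hmod3
  rw [hX] at hmod3
  have hne : Nat.card (fixedBy (G ⧸ N) y) ≠ 0 := by
    intro h; rw [h] at hmod3; norm_num at hmod3
  have hmod5 : Nat.card (fixedBy (G ⧸ N) y) % 5 = 1 := card_fixedBy_mod_five hn Q y hy3 hne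
  omega

theorem not_card_normalizer5_240 (hn : Nat.card G = 5040) [Fact (Nat.Prime 5)]
    [Fact (Nat.Prime 7)]
    (hB : ∀ P : Sylow 7 G, Nat.card (Subgroup.normalizer ((P : Subgroup G) : Set G)) = 42 ∧
      ∀ x ∈ (P : Subgroup G), x ≠ 1 → ∀ g : G, g * x = x * g → g ∈ (P : Subgroup G))
    (Q : Sylow 5 G)
    (hN : Nat.card (Subgroup.normalizer ((Q : Subgroup G) : Set G)) = 240) : False := by
  obtain ⟨P⟩ : Nonempty (Sylow 7 G) := inferInstance
  obtain ⟨hN42, hBP⟩ := hB P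
  have hP := card_sylow7 hn P
  set N := Subgroup.normalizer ((Q : Subgroup G) : Set G) with hNdef
  obtain ⟨y, t, hyN, htN, hyP, htP, hy3, ht2, hyt⟩ := exists_commuting_pair hn P hN42 hBP
  have hX : Nat.card (G ⧸ N) = 21 := card_quotient_eq hn N 240 21 hN (by norm_num) (by norm_num)
  have hfree : ∀ a ∈ (P : Subgroup G), a ≠ 1 → ∀ ω : G ⧸ N, a • ω ≠ ω :=
    fun a ha ha1 ω => smul_ne_of_not_dvd N 7 (by rw [hN]; norm_num) a
      (pow_seven_eq_one hn P a ha) ha1 ω
  have horby := card_mul_card_fixedBy_le (X := G ⧸ N) (P : Subgroup G) y hyN hfree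
    (fun a ha ha1 hc => hyP (hBP a ha ha1 y hc))
  have horbt := card_mul_card_fixedBy_le (X := G ⧸ N) (P : Subgroup G) t htN hfree
    (fun a ha ha1 hc => htP (hBP a ha ha1 t hc))
  rw [hP, hX] at horby horbt
  have hmod3 := card_fixedBy_modEq_card (X := G ⧸ N) 3 y hy3
  unfold Nat.ModEq at hmod3
  rw [hX] at hmod3
  have hy0 : Nat.card (fixedBy (G ⧸ N) y) = 0 := by
    by_contra hne
    have h5 : Nat.card (fixedBy (G ⧸ N) y) % 5 = 1 := card_fixedBy_mod_five hn Q y hy3 hne
    omega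
  have htt : t * t = 1 := by rw [← pow_two]; exact ht2
  have hmod4 := card_mod_four_eq (X := G ⧸ N) (two_lt hn) t htt
  rw [hX] at hmod4
  have ht1 : Nat.card (fixedBy (G ⧸ N) t) = 1 := by omega
  obtain ⟨hsub, ⟨ω, hω⟩⟩ := Nat.card_eq_one_iff_unique.1 ht1
  have hyω : y • ω ∈ fixedBy (G ⧸ N) t := by
    rw [mem_fixedBy] at hω ⊢
    rw [← mul_smul, ← hyt, mul_smul, hω]
  have h1 : (⟨y • ω, hyω⟩ : fixedBy (G ⧸ N) t) = ⟨ω, hω⟩ := hsub.elim _ _
  have hfix : y • ω = ω := congrArg Subtype.val h1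
  have h2 : Nonempty (fixedBy (G ⧸ N) y) := ⟨⟨ω, hfix⟩⟩
  have h3 := Nat.card_pos (α := fixedBy (G ⧸ N) y)
  omega

/-- arithmetic: divisors of `1008` that are `≡ 1 mod 5` -/
theorem sylow5_arith (n : ℕ) (hdvd : n ∣ 1008) (hmod : n % 5 = 1) :
    n = 1 ∨ n = 6 ∨ n = 16 ∨ n = 21 ∨ n = 36 ∨ n = 56 ∨ n = 126 ∨ n = 336 := by
  have hle : n ≤ 1008 := Nat.le_of_dvd (by norm_num) hdvd
  obtain ⟨j, rfl⟩ : ∃ j, n = 5 * j + 1 := ⟨n / 5, by omega⟩
  have hj : j ≤ 201 := by omega
  interval_cases j <;> first | omega | (exfalso; revert hdvd; decide)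

theorem card_normalizer5_eq_40 (hn : Nat.card G = 5040) [Fact (Nat.Prime 5)]
    [Fact (Nat.Prime 7)]
    (hB : ∀ P : Sylow 7 G, Nat.card (Subgroup.normalizer ((P : Subgroup G) : Set G)) = 42 ∧
      ∀ x ∈ (P : Subgroup G), x ≠ 1 → ∀ g : G, g * x = x * g → g ∈ (P : Subgroup G))
    (Q : Sylow 5 G) :
    Nat.card (Subgroup.normalizer ((Q : Subgroup G) : Set G)) = 40 := by
  have hQ := card_sylow5 hn Q
  have h3 := Cfsg.Agent.Lib.Helper4.Sylow.card_sylow_mul_card_normalizer Q
  rw [hn] at h3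
  have h4 : Nat.card (Sylow 5 G) ≡ 1 [MOD 5] := card_sylow_modEq_one 5 G
  unfold Nat.ModEq at h4
  have hne1 : Nat.card (Sylow 5 G) ≠ 1 :=
    Cfsg.Agent.Lib.Helper4.Sylow.card_sylow_ne_one_of_simple Q (by rw [hQ]; norm_num)
      (by rw [hQ, hn]; norm_num)
  have hG5 : Nat.card G = 5 ^ 1 * 1008 := by rw [hn]; norm_num
  have hdvd : Nat.card (Sylow 5 G) ∣ 1008 :=
    Cfsg.Agent.Lib.Helper4.Sylow.card_sylow_dvd_of_card_eq hG5 (by norm_num)
  set N := Subgroup.normalizer ((Q : Subgroup G) : Set G) with hNdef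
  rcases sylow5_arith _ hdvd (by simpa using h4) with h | h | h | h | h | h | h | h
  · exact absurd h hne1
  · exfalso
    rw [h] at h3
    have h840 : Nat.card N = 840 := by omega
    have hNtop : N ≠ ⊤ := ne_top_of_card_lt hn N (by rw [h840]; norm_num)
    have hidx : N.index = 6 := card_quotient_eq hn N 840 6 h840 (by norm_num) (by norm_num)
    have := Cfsg.Agent.Lib.Helper4.Simple.two_mul_card_dvd_factorial_of_simple (two_lt hn) N hNtop
    rw [hidx, hn] at this
    revert this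
    decide
  · exfalso
    rw [h] at h3
    have h315 : Nat.card N = 315 := by omega
    exact not_odd_card_normalizer5 hn Q (by rw [← hNdef, h315]; norm_num)
  · exfalso
    rw [h] at h3
    have h240 : Nat.card N = 240 := by omega
    exact not_card_normalizer5_240 hn hB Q h240
  · exfalso
    rw [h] at h3
    have h140 : Nat.card N = 140 := by omega
    exact not_card_normalizer5_140 hn hB Q h140
  · exfalso
    rw [h] at h3
    have h90 : Nat.card N = 90 := by omega
    exact not_card_normalizer5_90 hn hB Q h90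
  · rw [h] at h3
    omega
  · exfalso
    rw [h] at h3
    have h15 : Nat.card N = 15 := by omega
    exact not_odd_card_normalizer5 hn Q (by rw [← hNdef, h15]; norm_num)

end Cfsg.Agent.Lib.Helper5.O5040
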