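import Mathlib
import Cfsg.Agent.Lib.Helper5.O5040L

/-!
# Small counting lemmas and abelian groups of order `8` with three involutions

(author: helper5)
-/

set_option autoImplicit false

namespace Cfsg.Agent.Lib.Helper5.O5040

theorem three_le_card_of_mem {α : Type*} (s : Set α) [Finite s] (a b c : α) (ha : a ∈ s)
    (hb : b ∈ s) (hc : c ∈ s) (hab : a ≠ b) (hac : a ≠ c) (hbc : b ≠ c) : 3 ≤ Nat.card s := by
  have h3 : ({a, b, c} : Set α).ncard = 3 := Set.ncard_eq_three.2 ⟨a, b, c, hab, hac, hbc, rfl⟩
  have hsub : ({a, b, c} : Set α) ⊆ s := by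
    intro x hx
    rcases hx with rfl | rfl | rfl <;> assumption
  have := Set.ncard_le_ncard hsub (Set.toFinite s)
  rw [h3] at this
  rwa [_root_.Nat.card_coe_set_eq]

theorem mem_of_card_le_four {α : Type*} (s : Set α) [Finite s] (h4 : Nat.card s ≤ 4)
    (a b c d : α) (ha : a ∈ s) (hb : b ∈ s) (hc : c ∈ s) (hd : d ∈ s) (hab : a ≠ b) (hac : a ≠ c)
    (had : a ≠ d) (hbc : b ≠ c) (hbd : b ≠ d) (hcd : c ≠ d) (t : α) (ht : t ∈ s) :
    t = a ∨ t = b ∨ t = c ∨ t = d := by
  classical
  by_contra hcon
  push Not at hcon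
  obtain ⟨h1, h2, h3, h4'⟩ := hcon
  have hfin : s.Finite := Set.toFinite s
  have hsub : ({t, a, b, c, d} : Finset α) ⊆ hfin.toFinset := by
    intro x hx
    simp only [Finset.mem_insert, Finset.mem_singleton] at hx
    rw [Set.Finite.mem_toFinset]
    rcases hx with rfl | rfl | rfl | rfl | rfl <;> assumption
  have hcard : ({t, a, b, c, d} : Finset α).card = 5 := by
    rw [Finset.card_insert_of_notMem, Finset.card_insert_of_notMem,
      Finset.card_insert_of_notMem, Finset.card_insert_of_notMem, Finset.card_singleton]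
    all_goals simp [*]
  have := Finset.card_le_card hsub
  rw [hcard] at this
  have h5 : hfin.toFinset.card = Nat.card s := by
    rw [← Set.ncard_eq_toFinset_card s hfin, _root_.Nat.card_coe_set_eq]
  omega

/-- A group of order `8` with two distinct nontrivial central elements is abelian. -/
theorem comm_of_card_eight {T : Type*} [Group T] [Finite T] (hT : Nat.card T = 8) (a b : T)
    (ha : ∀ t : T, t * a = a * t) (hb : ∀ t : T, t * b = b * t) (ha1 : a ≠ 1) (hb1 : b ≠ 1)
    (hab : a ≠ b) (x y : T) : x * y = y * x := by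
  have hp2 : Fact (Nat.Prime 2) := ⟨by norm_num⟩
  have haZ : a ∈ Subgroup.center T := Subgroup.mem_center_iff.2 ha
  have hbZ : b ∈ Subgroup.center T := Subgroup.mem_center_iff.2 hb
  have h3 : 3 ≤ Nat.card (Subgroup.center T) :=
    three_le_card_of_mem (Subgroup.center T : Set T) 1 a b (Subgroup.one_mem _) haZ hbZ
      ha1.symm hb1.symm hab
  have hdvd : Nat.card (Subgroup.center T) ∣ 8 := hT ▸ Subgroup.card_subgroup_dvd_card _
  have hle : Nat.card (Subgroup.center T) ≤ 8 := Nat.le_of_dvd (by norm_num) hdvd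
  have h48 : Nat.card (Subgroup.center T) = 4 ∨ Nat.card (Subgroup.center T) = 8 := by
    generalize Nat.card (Subgroup.center T) = k at h3 hdvd hle
    interval_cases k <;> first | omega | (exfalso; revert hdvd; decide)
  rcases h48 with h | h
  · exact comm_of_central_index_prime (Subgroup.center T) 4 2 h (by norm_num)
      (by rw [hT]) (fun a ha c => Subgroup.mem_center_iff.1 ha c) x y
  · have htop : Subgroup.center T = ⊤ := by
      apply Subgroup.eq_top_of_card_eq
      rw [h, hT]
    have : y ∈ Subgroup.center T := by rw [htop]; trivial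
    exact (Subgroup.mem_center_iff.1 this x)

/-- In an abelian group of order `8` with two distinct involutions `u`, `u'` and a non-involution
`f`: the squares are `1`, `f²` and the elements of square `1` are `1, u, u', uu'`. -/
theorem sq_structure {T : Type*} [Group T] [Finite T] (hT : Nat.card T = 8)
    (hab : ∀ a b : T, a * b = b * a) (u u' f : T) (hu : u * u = 1) (hu' : u' * u' = 1)
    (hu1 : u ≠ 1) (hu'1 : u' ≠ 1) (huu' : u ≠ u') (hf : f * f ≠ 1) :
    (∀ t : T, t * t = 1 ∨ t * t = f * f) ∧
      (∀ t : T, t * t = 1 → t = 1 ∨ t = u ∨ t = u' ∨ t = u * u') := by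
  let φ : T →* T := MonoidHom.mk' (fun t => t * t) (by
    intro a b
    calc a * b * (a * b) = a * (b * a) * b := by group
      _ = a * (a * b) * b := by rw [hab b a]
      _ = a * a * (b * b) := by group)
  have hφ : ∀ t : T, φ t = t * t := fun t => rfl
  have hker : ∀ t : T, t ∈ φ.ker ↔ t * t = 1 := by
    intro t; rw [MonoidHom.mem_ker, hφ]
  have huK : u ∈ φ.ker := (hker u).2 hu
  have hu'K : u' ∈ φ.ker := (hker u').2 hu'
  have h3 : 3 ≤ Nat.card φ.ker :=
    three_le_card_of_mem (φ.ker : Set T) 1 u u' (Subgroup.one_mem _) huK hu'K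
      hu1.symm hu'1.symm huu'
  have hmul := Subgroup.card_mul_index φ.ker
  rw [Subgroup.index_ker, hT] at hmul
  have hfr : f * f ∈ φ.range := ⟨f, rfl⟩
  have hr2 : 2 ≤ Nat.card φ.range := by
    have hpos : 0 < Nat.card φ.range := Nat.card_pos
    by_contra hcon
    have h1 : Nat.card φ.range = 1 := by omega
    have hbot := Subgroup.card_eq_one.1 h1
    rw [hbot, Subgroup.mem_bot] at hfr
    exact hf hfr
  have hK4 : Nat.card φ.ker = 4 ∧ Nat.card φ.range = 2 := by
    have hK8 : Nat.card φ.ker ≤ 8 := Nat.le_of_dvd (by norm_num) ⟨_, hmul.symm⟩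
    have hR8 : Nat.card φ.range ≤ 8 := Nat.le_of_dvd (by norm_num) ⟨_, by rw [mul_comm]; exact hmul.symm⟩
    generalize Nat.card φ.ker = k at *
    generalize Nat.card φ.range = r at *
    interval_cases k <;> interval_cases r <;> omega
  constructor
  · intro t
    by_contra hcon
    push Not at hcon
    have htr : t * t ∈ φ.range := ⟨t, rfl⟩
    have := three_le_card_of_mem (φ.range : Set T) 1 (f * f) (t * t) (Subgroup.one_mem _) hfr htr
      (Ne.symm hf) (Ne.symm hcon.1) (Ne.symm hcon.2)
    have h2 := hK4.2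
    have h3' : Nat.card (φ.range : Set T) = Nat.card φ.range := rfl
    omega
  · intro t ht
    have huu'K : u * u' ∈ φ.ker := Subgroup.mul_mem _ huK hu'K
    have hK : Nat.card (φ.ker : Set T) ≤ 4 := by
      have : Nat.card (φ.ker : Set T) = Nat.card φ.ker := rfl
      rw [this, hK4.1]
    have h1 : (1 : T) ≠ u * u' := by
      intro h
      apply huu'
      have h2 : u * u' = u' * u' := by rw [← h, hu']
      exact mul_right_cancel h2
    have h2 : u ≠ u * u' := by
      intro h
      apply hu'1
      have : u * 1 = u * u' := by rw [mul_one]; exact h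
      exact (mul_left_cancel this).symm
    have h3 : u' ≠ u * u' := by
      intro h
      apply hu1
      have : 1 * u' = u * u' := by rw [one_mul]; exact h
      exact (mul_right_cancel this).symm
    exact mem_of_card_le_four (φ.ker : Set T) hK 1 u u' (u * u') (Subgroup.one_mem _) huK hu'K
      huu'K hu1.symm hu'1.symm h1 huu' h2 h3 t ((hker t).2 ht)

end Cfsg.Agent.Lib.Helper5.O5040
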