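import Mathlib
import Cfsg.Agent.Lib.Helper5.O5040M

/-!
# Order 5040, `|N(P₅)| = 40`: the `2`-local set-up and the case `|C(P₅)| = 20`

(author: helper5)
-/

set_option autoImplicit false

namespace Cfsg.Agent.Lib.Helper5.O5040

open MulAction

variable {G : Type*} [Group G] [Finite G] [IsSimpleGroup G]

/-- `T` of order `8` inside `N` of order `40` and inside the Sylow `2`-subgroup `S`. -/
theorem local40 (hn : Nat.card G = 5040) [Fact (Nat.Prime 2)] (N T : Subgroup G) (S : Sylow 2 G)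
    (hN : Nat.card N = 40) (hTN : T ≤ N) (hT8 : Nat.card T = 8) (hTS : T ≤ (S : Subgroup G)) :
    (∀ s ∈ (S : Subgroup G), s ∈ N → s ∈ T) ∧
    (∀ s ∈ (S : Subgroup G), ∀ t ∈ T, s * t * s⁻¹ ∈ T) ∧
    (∀ a ∈ (S : Subgroup G), ∀ b ∈ (S : Subgroup G), a ∉ T → b ∉ T → a * b ∈ T) ∧
    (∃ g ∈ (S : Subgroup G), g ∉ T) := by
  have hS := card_sylow2 hn S
  have hidx : (T.subgroupOf (S : Subgroup G)).index = 2 := by
    have := Subgroup.relIndex_mul_relIndex ⊥ T (S : Subgroup G) bot_le hTS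
    rw [Subgroup.relIndex_bot_left, Subgroup.relIndex_bot_left, hT8, hS] at this
    have h2 : T.relIndex (S : Subgroup G) = 2 := by omega
    exact h2
  refine ⟨?_, ?_, ?_, ?_⟩
  · have hle : T ≤ (S : Subgroup G) ⊓ N := le_inf hTS hTN
    have h1 : Nat.card ((S : Subgroup G) ⊓ N : Subgroup G) ∣ 16 :=
      hS ▸ Subgroup.card_dvd_of_le inf_le_left
    have h2 : Nat.card ((S : Subgroup G) ⊓ N : Subgroup G) ∣ 40 :=
      hN ▸ Subgroup.card_dvd_of_le inf_le_right
    have h3 : Nat.card ((S : Subgroup G) ⊓ N : Subgroup G) ∣ 8 := Nat.dvd_gcd h1 h2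
    have h4 : Nat.card ((S : Subgroup G) ⊓ N : Subgroup G) ≤ 8 := Nat.le_of_dvd (by norm_num) h3
    have heq : T = (S : Subgroup G) ⊓ N := Subgroup.eq_of_le_of_card_ge hle (by rw [hT8]; exact h4)
    intro s hs hsN
    rw [heq]; exact ⟨hs, hsN⟩
  · have hnorm : (T.subgroupOf (S : Subgroup G)).Normal := Subgroup.normal_of_index_eq_two hidx
    intro s hs t ht
    have := hnorm.conj_mem ⟨t, hTS ht⟩ (Subgroup.mem_subgroupOf.2 ht) ⟨s, hs⟩
    rw [Subgroup.mem_subgroupOf] at this
    simpa using this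
  · intro a ha b hb haT hbT
    have := (Subgroup.mul_mem_iff_of_index_two hidx (a := (⟨a, ha⟩ : (S : Subgroup G)))
      (b := ⟨b, hb⟩))
    rw [Subgroup.mem_subgroupOf, Subgroup.mem_subgroupOf, Subgroup.mem_subgroupOf] at this
    simp only [Subgroup.coe_mul] at this
    exact this.2 ⟨fun h => absurd h haT, fun h => absurd h hbT⟩
  · by_contra hcon
    push Not at hcon
    have hle : (S : Subgroup G) ≤ T := fun g hg => hcon g hg
    have := Subgroup.card_le_of_le hle
    rw [hS, hT8] at this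
    omega

/-- in the situation of `local40` with `C(u) = N`, the group `T` is abelian -/
theorem abelian40 (hn : Nat.card G = 5040) [Fact (Nat.Prime 2)] (N T : Subgroup G)
    (S : Sylow 2 G) (hN : Nat.card N = 40) (hTN : T ≤ N) (hT8 : Nat.card T = 8)
    (hTS : T ≤ (S : Subgroup G)) (u : G) (hu : orderOf u = 2) (huT : u ∈ T)
    (hCu : Subgroup.centralizer ({u} : Set G) = N) :
    ∀ a ∈ T, ∀ b ∈ T, a * b = b * a := by
  obtain ⟨F1, F2, F4, ⟨g, hgS, hgT⟩⟩ := local40 hn N T S hN hTN hT8 hTS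
  have hu1 : u ≠ 1 := by
    intro h; rw [h, orderOf_one] at hu; norm_num at hu
  have hcommu : ∀ t ∈ T, t * u = u * t := by
    intro t ht
    have : t ∈ Subgroup.centralizer ({u} : Set G) := by rw [hCu]; exact hTN ht
    exact Subgroup.mem_centralizer_singleton_iff.1 this
  have hu'T : g * u * g⁻¹ ∈ T := F2 g hgS u huT
  have hgu : g * u * g⁻¹ ≠ u := by
    intro h
    apply hgT
    apply F1 g hgS
    rw [← hCu, Subgroup.mem_centralizer_singleton_iff]
    calc g * u = (g * u * g⁻¹) * g := by group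
      _ = u * g := by rw [h]
  have hu'1 : g * u * g⁻¹ ≠ 1 := by
    intro h
    apply hu1
    have : u = g⁻¹ * (g * u * g⁻¹) * g := by group
    rw [this, h]; group
  have hcommu' : ∀ t ∈ T, t * (g * u * g⁻¹) = (g * u * g⁻¹) * t := by
    intro t ht
    have h1 : g⁻¹ * t * g⁻¹⁻¹ ∈ T := F2 g⁻¹ (Subgroup.inv_mem _ hgS) t ht
    have h2 := hcommu _ h1
    calc t * (g * u * g⁻¹) = g * ((g⁻¹ * t * g⁻¹⁻¹) * u) * g⁻¹ := by group
      _ = g * (u * (g⁻¹ * t * g⁻¹⁻¹)) * g⁻¹ := by rw [h2]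
      _ = (g * u * g⁻¹) * t := by group
  have key := comm_of_card_eight (T := T) hT8 ⟨u, huT⟩ ⟨g * u * g⁻¹, hu'T⟩
    (fun t => Subtype.ext (hcommu t t.2)) (fun t => Subtype.ext (hcommu' t t.2))
    (fun h => hu1 (congrArg Subtype.val h)) (fun h => hu'1 (congrArg Subtype.val h))
    (fun h => hgu (congrArg Subtype.val h).symm)
  intro a ha b hb
  exact congrArg Subtype.val (key ⟨a, ha⟩ ⟨b, hb⟩)

/-- `N(P₅) = P₅ ⊔ T` -/
theorem normalizer5_eq_sup (hn : Nat.card G = 5040) [Fact (Nat.Prime 5)] (Q : Sylow 5 G)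
    (hN : Nat.card (Subgroup.normalizer ((Q : Subgroup G) : Set G)) = 40) (T : Subgroup G)
    (hTN : T ≤ Subgroup.normalizer ((Q : Subgroup G) : Set G)) (hT8 : Nat.card T = 8) :
    (Q : Subgroup G) ⊔ T = Subgroup.normalizer ((Q : Subgroup G) : Set G) := by
  have hQ := card_sylow5 hn Q
  have hsup : (Q : Subgroup G) ⊔ T ≤ Subgroup.normalizer ((Q : Subgroup G) : Set G) :=
    sup_le Subgroup.le_normalizer hTN
  have h5 : 5 ∣ Nat.card ((Q : Subgroup G) ⊔ T : Subgroup G) := by
    have := Subgroup.card_dvd_of_le (le_sup_left : (Q : Subgroup G) ≤ (Q : Subgroup G) ⊔ T)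
    rwa [hQ] at this
  have h8 : 8 ∣ Nat.card ((Q : Subgroup G) ⊔ T : Subgroup G) := by
    have := Subgroup.card_dvd_of_le (le_sup_right : T ≤ (Q : Subgroup G) ⊔ T)
    rwa [hT8] at this
  have hpos : 0 < Nat.card ((Q : Subgroup G) ⊔ T : Subgroup G) := Nat.card_pos
  exact Subgroup.eq_of_le_of_card_ge hsup (by rw [hN]; omega)

/-- The case `|T ∩ C(P₅)| ≥ 4`. -/
theorem caseB (hn : Nat.card G = 5040) [Fact (Nat.Prime 5)] [Fact (Nat.Prime 2)] (Q : Sylow 5 G)
    (hN : Nat.card (Subgroup.normalizer ((Q : Subgroup G) : Set G)) = 40) (T : Subgroup G)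
    (S : Sylow 2 G) (hTN : T ≤ Subgroup.normalizer ((Q : Subgroup G) : Set G))
    (hT8 : Nat.card T = 8) (hTS : T ≤ (S : Subgroup G)) (u : G) (hu : orderOf u = 2)
    (huT : u ∈ T)
    (hCu : Subgroup.centralizer ({u} : Set G) = Subgroup.normalizer ((Q : Subgroup G) : Set G))
    (hV : 4 ≤ Nat.card (T ⊓ Subgroup.centralizer ((Q : Subgroup G) : Set G) : Subgroup G)) :
    False := by
  obtain ⟨F1, F2, F4, ⟨g, hgS, hgT⟩⟩ := local40 hn _ T S hN hTN hT8 hTS
  have hab := abelian40 hn _ T S hN hTN hT8 hTS u hu huT hCu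
  have hsup := normalizer5_eq_sup hn Q hN T hTN hT8
  set C := Subgroup.centralizer ((Q : Subgroup G) : Set G) with hCdef
  -- (B1) involutions of `T ⊓ C` are moved by `g`
  have B1 : ∀ v ∈ T ⊓ C, orderOf v = 2 → g * v ≠ v * g := by
    intro v hv hv2 hcomm
    have hNv : Subgroup.normalizer ((Q : Subgroup G) : Set G) ≤
        Subgroup.centralizer ({v} : Set G) := by
      rw [← hsup, sup_le_iff]
      constructor
      · intro a ha
        rw [Subgroup.mem_centralizer_singleton_iff]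
        exact (Subgroup.mem_centralizer_iff.1 hv.2 a ha)
      · intro t ht
        rw [Subgroup.mem_centralizer_singleton_iff]
        exact hab t ht v hv.1
    have hCv := centralizer_eq_normalizer hn Q hN v hv2 hNv
    apply hgT
    apply F1 g hgS
    rw [← hCv, Subgroup.mem_centralizer_singleton_iff]
    exact hcomm
  -- (B2) `V ⊓ gVg⁻¹ ≠ ⊥`
  set V : Subgroup G := T ⊓ C with hVdef
  set V' : Subgroup G := V.map (MulAut.conj g).toMonoidHom with hV'def
  have hVT : V ≤ T := inf_le_left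
  have hV'T : V' ≤ T := by
    rintro _ ⟨v, hv, rfl⟩
    exact F2 g hgS v (hVT hv)
  have hV'card : Nat.card V' = Nat.card V :=
    Subgroup.card_map_of_injective (MulAut.conj g).injective
  have hrelV : Nat.card V * V.relIndex T = 8 := by
    have := Subgroup.relIndex_mul_relIndex ⊥ V T bot_le hVT
    rw [Subgroup.relIndex_bot_left, Subgroup.relIndex_bot_left, hT8] at this
    exact this
  have hrelV' : Nat.card V' * V'.relIndex T = 8 := by
    have := Subgroup.relIndex_mul_relIndex ⊥ V' T bot_le hV'T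
    rw [Subgroup.relIndex_bot_left, Subgroup.relIndex_bot_left, hT8] at this
    exact this
  have hrelW : Nat.card (V ⊓ V' : Subgroup G) * (V ⊓ V').relIndex T = 8 := by
    have := Subgroup.relIndex_mul_relIndex ⊥ (V ⊓ V') T bot_le (le_trans inf_le_left hVT)
    rw [Subgroup.relIndex_bot_left, Subgroup.relIndex_bot_left, hT8] at this
    exact this
  have hrel : (V ⊓ V').relIndex T ≤ V.relIndex T * V'.relIndex T := Subgroup.relIndex_inf_le
  have hWne : (V ⊓ V' : Subgroup G) ≠ ⊥ := by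
    intro h
    have hc1 : Nat.card (V ⊓ V' : Subgroup G) = 1 := by rw [h, Subgroup.card_bot]
    rw [hc1, one_mul] at hrelW
    rw [hV'card] at hrelV'
    have h1 : V.relIndex T ≤ 2 := by
      by_contra hcon
      push Not at hcon
      have : 4 * 3 ≤ Nat.card V * V.relIndex T := Nat.mul_le_mul hV hcon
      omega
    have h2 : V'.relIndex T ≤ 2 := by
      by_contra hcon
      push Not at hcon
      have : 4 * 3 ≤ Nat.card V * V'.relIndex T := Nat.mul_le_mul hV hcon
      omega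
    have : V.relIndex T * V'.relIndex T ≤ 2 * 2 := Nat.mul_le_mul h1 h2
    omega
  obtain ⟨⟨w, hw⟩, hw1⟩ := (Subgroup.ne_bot_iff_exists_ne_one).1 hWne
  have hw1' : w ≠ 1 := fun h => hw1 (Subtype.ext h)
  -- `w` is a `2`-element
  have hwT : w ∈ T := hVT hw.1
  have hwo : orderOf w ∣ 2 ^ 3 := by
    have := orderOf_dvd_natCard (⟨w, hwT⟩ : T)
    rw [hT8, Subgroup.orderOf_mk] at this
    exact this
  obtain ⟨k, -, hk⟩ := (Nat.dvd_prime_pow (by norm_num)).1 hwo
  obtain ⟨j, hj⟩ := exists_pow_orderOf_two w k hk hw1'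
  have hv₀ : w ^ j ∈ V ⊓ V' := Subgroup.pow_mem _ hw j
  obtain ⟨v', hv'V, hv'eq⟩ := hv₀.2
  have hv'eq' : g * v' * g⁻¹ = w ^ j := by
    rw [← hv'eq]; rfl
  have hv'2 : orderOf v' = 2 := by
    have := (MulAut.conj g).orderOf_eq v'
    rw [MulAut.conj_apply, hv'eq', hj] at this
    exact this.symm
  -- (B4)
  have hgg : g * g ∈ T := F4 g hgS g hgS hgT hgT
  have hB4 : g * (w ^ j) * g⁻¹ = v' := by
    rw [← hv'eq']
    have := hab (g * g) hgg v' (hVT hv'V)
    calc g * (g * v' * g⁻¹) * g⁻¹ = (g * g * v') * (g * g)⁻¹ := by group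
      _ = (v' * (g * g)) * (g * g)⁻¹ := by rw [this]
      _ = v' := by group
  by_cases hcase : v' = w ^ j
  · apply B1 (w ^ j) hv₀.1 hj
    rw [hcase] at hB4
    calc g * w ^ j = (g * w ^ j * g⁻¹) * g := by group
      _ = w ^ j * g := by rw [hB4]
  · -- `v₂ = v₀ v'`
    have hv0sq : w ^ j * w ^ j = 1 := by
      rw [← pow_two, ← hj]; exact pow_orderOf_eq_one _
    have hv'sq : v' * v' = 1 := by
      rw [← pow_two, ← hv'2]; exact pow_orderOf_eq_one _
    have hcomm : w ^ j * v' = v' * w ^ j := hab _ (hVT hv₀.1) _ (hVT hv'V)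
    have hv2mem : w ^ j * v' ∈ V := V.mul_mem hv₀.1 hv'V
    have hv2o : orderOf (w ^ j * v') = 2 := by
      apply orderOf_eq_prime
      · rw [pow_two]
        calc w ^ j * v' * (w ^ j * v') = w ^ j * (v' * w ^ j) * v' := by group
          _ = w ^ j * (w ^ j * v') * v' := by rw [hcomm]
          _ = (w ^ j * w ^ j) * (v' * v') := by group
          _ = 1 := by rw [hv0sq, hv'sq, one_mul]
      · intro h
        apply hcase
        have h1 : w ^ j * v' = w ^ j * w ^ j := by rw [h, hv0sq]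
        exact mul_left_cancel h1
    apply B1 _ hv2mem hv2o
    calc g * (w ^ j * v') = (g * w ^ j * g⁻¹) * (g * v' * g⁻¹) * g := by group
      _ = v' * w ^ j * g := by rw [hB4, hv'eq']
      _ = w ^ j * v' * g := by rw [hcomm]

end Cfsg.Agent.Lib.Helper5.O5040
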