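import Mathlib
import Cfsg.Agent.Lib.Helper5.O5040N
import Cfsg.Agent.S0111

/-!
# Order 5040, `|N(P₅)| = 40`: the case where `T` has an element of order `4`

(author: helper5)
-/

set_option autoImplicit false
set_option maxHeartbeats 800000

namespace Cfsg.Agent.Lib.Helper5.O5040

open MulAction

variable {G : Type*} [Group G] [Finite G] [IsSimpleGroup G]

/-- The case where `T` contains `f` with `f² ∉ {1, u}`. -/
theorem caseA (hn : Nat.card G = 5040) [Fact (Nat.Prime 5)] [Fact (Nat.Prime 2)] (Q : Sylow 5 G)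
    (hN : Nat.card (Subgroup.normalizer ((Q : Subgroup G) : Set G)) = 40) (T : Subgroup G)
    (S : Sylow 2 G) (hTN : T ≤ Subgroup.normalizer ((Q : Subgroup G) : Set G))
    (hT8 : Nat.card T = 8) (hTS : T ≤ (S : Subgroup G)) (u : G) (hu : orderOf u = 2)
    (huT : u ∈ T)
    (hCu : Subgroup.centralizer ({u} : Set G) = Subgroup.normalizer ((Q : Subgroup G) : Set G))
    (f : G) (hfT : f ∈ T) (hf1 : f * f ≠ 1) (hfu : f * f ≠ u) : False := by
  obtain ⟨F1, F2, F4, ⟨g, hgS, hgT⟩⟩ := local40 hn _ T S hN hTN hT8 hTS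
  have hab := abelian40 hn _ T S hN hTN hT8 hTS u hu huT hCu
  have hS := card_sylow2 hn S
  have hu1 : u ≠ 1 := by
    intro h; rw [h, orderOf_one] at hu; norm_num at hu
  have huu : u * u = 1 := by rw [← pow_two, ← hu]; exact pow_orderOf_eq_one u
  have huS : u ∈ (S : Subgroup G) := hTS huT
  have hginvS : g⁻¹ ∈ (S : Subgroup G) := Subgroup.inv_mem _ hgS
  have hginvT : g⁻¹ ∉ T := fun h => hgT (by simpa using T.inv_mem h)
  -- the second conjugate `u'`
  obtain ⟨u', hu'def⟩ : ∃ u' : G, u' = g * u * g⁻¹ := ⟨_, rfl⟩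
  have hu'T : u' ∈ T := by rw [hu'def]; exact F2 g hgS u huT
  have hu'u : u' ≠ u := by
    intro h
    apply hgT
    apply F1 g hgS
    rw [← hCu, Subgroup.mem_centralizer_singleton_iff]
    calc g * u = (g * u * g⁻¹) * g := by group
      _ = u * g := by rw [← hu'def, h]
  have hu'1 : u' ≠ 1 := by
    intro h
    apply hu1
    have : u = g⁻¹ * (g * u * g⁻¹) * g := by group
    rw [this, ← hu'def, h]; group
  have hu'sq : u' * u' = 1 := by
    rw [hu'def]
    calc g * u * g⁻¹ * (g * u * g⁻¹) = g * (u * u) * g⁻¹ := by group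
      _ = 1 := by rw [huu]; group
  have hconj_u : ∀ s ∈ (S : Subgroup G), s ∉ T → s * u * s⁻¹ = u' := by
    intro s hs hsT
    have h1 : g⁻¹ * s ∈ T := F4 g⁻¹ hginvS s hs hginvT hsT
    have h2 := hab (g⁻¹ * s) h1 u huT
    rw [hu'def]
    calc s * u * s⁻¹ = g * ((g⁻¹ * s) * u) * (g⁻¹ * s)⁻¹ * g⁻¹ := by group
      _ = g * (u * (g⁻¹ * s)) * (g⁻¹ * s)⁻¹ * g⁻¹ := by rw [h2]
      _ = g * u * g⁻¹ := by group
  have hconj_u' : ∀ s ∈ (S : Subgroup G), s ∉ T → s * u' * s⁻¹ = u := by
    intro s hs hsT
    have hss : s * s ∈ T := F4 s hs s hs hsT hsT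
    have h2 := hab (s * s) hss u huT
    rw [← hconj_u s hs hsT]
    calc s * (s * u * s⁻¹) * s⁻¹ = (s * s * u) * (s * s)⁻¹ := by group
      _ = (u * (s * s)) * (s * s)⁻¹ := by rw [h2]
      _ = u := by group
  obtain ⟨z, hzdef⟩ : ∃ z : G, z = u * u' := ⟨_, rfl⟩
  have hzT : z ∈ T := by rw [hzdef]; exact T.mul_mem huT hu'T
  have huu'comm : u * u' = u' * u := hab u huT u' hu'T
  have hz1 : z ≠ 1 := by
    intro h
    apply hu'u
    have h2 : u * u' = u * u := by rw [← hzdef, h, huu]
    exact mul_left_cancel h2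
  have hzz : z * z = 1 := by
    rw [hzdef]
    calc u * u' * (u * u') = u * (u' * u) * u' := by group
      _ = u * (u * u') * u' := by rw [huu'comm]
      _ = (u * u) * (u' * u') := by group
      _ = 1 := by rw [huu, hu'sq, one_mul]
  have hu'uz : u' = u * z := by
    rw [hzdef]
    calc u' = (u * u) * u' := by rw [huu, one_mul]
      _ = u * (u * u') := by group
  have hzS : z ∈ (S : Subgroup G) := hTS hzT
  have hzconj : ∀ s ∈ (S : Subgroup G), s ∉ T → s * z * s⁻¹ = z := by
    intro s hs hsT
    rw [hzdef]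
    calc s * (u * u') * s⁻¹ = (s * u * s⁻¹) * (s * u' * s⁻¹) := by group
      _ = u' * u := by rw [hconj_u s hs hsT, hconj_u' s hs hsT]
      _ = u * u' := huu'comm.symm
  have hzcent : ∀ s ∈ (S : Subgroup G), s * z = z * s := by
    intro s hs
    by_cases hsT : s ∈ T
    · exact hab s hsT z hzT
    · calc s * z = (s * z * s⁻¹) * s := by group
        _ = z * s := by rw [hzconj s hs hsT]
  -- squares in `T`
  obtain ⟨hsq1, hsq2⟩ := sq_structure (T := T) hT8
    (fun a b => Subtype.ext (hab a a.2 b b.2)) ⟨u, huT⟩ ⟨u', hu'T⟩ ⟨f, hfT⟩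
    (Subtype.ext huu) (Subtype.ext hu'sq) (fun h => hu1 (congrArg Subtype.val h))
    (fun h => hu'1 (congrArg Subtype.val h)) (fun h => hu'u (congrArg Subtype.val h).symm)
    (fun h => hf1 (congrArg Subtype.val h))
  have hsqA : ∀ t ∈ T, t * t = 1 ∨ t * t = f * f := by
    intro t ht
    rcases hsq1 ⟨t, ht⟩ with h | h
    · left; exact congrArg Subtype.val h
    · right; exact congrArg Subtype.val h
  have hsqB : ∀ t ∈ T, t * t = 1 → t = 1 ∨ t = u ∨ t = u' ∨ t = z := by
    intro t ht h
    rcases hsq2 ⟨t, ht⟩ (Subtype.ext h) with h | h | h | h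
    · left; exact congrArg Subtype.val h
    · right; left; exact congrArg Subtype.val h
    · right; right; left; exact congrArg Subtype.val h
    · right; right; right; rw [hzdef]; exact congrArg Subtype.val h
  -- `f² = z`
  have hffT : f * f ∈ T := T.mul_mem hfT hfT
  have hff : (f * f) * (f * f) = 1 := by
    rcases hsqA (f * f) hffT with h | h
    · exact h
    · exfalso
      apply hf1
      have : (f * f) * (f * f) = (f * f) * 1 := by rw [h, mul_one]
      exact mul_left_cancel this
  have hffz : f * f = z := by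
    rcases hsqB (f * f) hffT hff with h | h | h | h
    · exact absurd h hf1
    · exact absurd h hfu
    · exfalso
      have hgfT : g * f * g⁻¹ ∈ T := F2 g hgS f hfT
      have hconjsq : (g * f * g⁻¹) * (g * f * g⁻¹) = g * (f * f) * g⁻¹ := by group
      rcases hsqA _ hgfT with h2 | h2
      · rw [hconjsq] at h2
        apply hf1
        have : f * f = g⁻¹ * (g * (f * f) * g⁻¹) * g := by group
        rw [this, h2]; group
      · rw [hconjsq, h] at h2
        rw [hconj_u' g hgS hgT] at h2
        exact hu'u h2.symm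
    · exact h
  -- Claim 3: `u` is not conjugate to `z`
  have claim3 : ∀ k : G, k * u * k⁻¹ ≠ z := by
    intro k hk
    have hle : (S : Subgroup G).map (MulAut.conj k⁻¹).toMonoidHom ≤
        Subgroup.centralizer ({u} : Set G) := by
      rintro _ ⟨s, hs, rfl⟩
      rw [Subgroup.mem_centralizer_singleton_iff]
      have h1 := hzcent s hs
      rw [← hk] at h1
      show k⁻¹ * s * k⁻¹⁻¹ * u = u * (k⁻¹ * s * k⁻¹⁻¹)
      calc k⁻¹ * s * k⁻¹⁻¹ * u = k⁻¹ * (s * (k * u * k⁻¹)) * k := by group
        _ = k⁻¹ * ((k * u * k⁻¹) * s) * k := by rw [h1]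
        _ = u * (k⁻¹ * s * k⁻¹⁻¹) := by group
    have hcard : Nat.card ((S : Subgroup G).map (MulAut.conj k⁻¹).toMonoidHom) = 16 := by
      rw [Subgroup.card_map_of_injective (MulAut.conj k⁻¹).injective, hS]
    have := Subgroup.card_dvd_of_le hle
    rw [hcard, hCu, hN] at this
    norm_num at this
  -- Claim 2: involutions of `S` outside `T` are conjugate to `u`
  have claim2 : ∀ x ∈ (S : Subgroup G), x ∉ T → x * x = 1 → ∃ k : G, k * u * k⁻¹ = x := by
    intro x hxS hxT hxx
    have hxinv : x⁻¹ = x := inv_eq_of_mul_eq_one_right hxx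
    have hxu : x * u * x⁻¹ = u' := hconj_u x hxS hxT
    have hxu' : x * u' * x⁻¹ = u := hconj_u' x hxS hxT
    have hxz : x * z * x⁻¹ = z := hzconj x hxS hxT
    have hnotu : ¬ (u * x = x * u) := by
      intro h
      apply hu'u
      rw [← hxu]
      calc x * u * x⁻¹ = (u * x) * x⁻¹ := by rw [h]
        _ = u := by group
    have hnotu' : ¬ (u' * x = x * u') := by
      intro h
      apply hu'u
      rw [← hxu']
      calc u' = (u' * x) * x⁻¹ := by group
        _ = x * u' * x⁻¹ := by rw [h]
    -- an element `c` of order `4` centralized by `x`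
    have hf'T : x * f * x⁻¹ ∈ T := F2 x hxS f hfT
    have hf'sq : (x * f * x⁻¹) * (x * f * x⁻¹) = z := by
      calc (x * f * x⁻¹) * (x * f * x⁻¹) = x * (f * f) * x⁻¹ := by group
        _ = z := by rw [hffz, hxz]
    have hfinvT : f⁻¹ ∈ T := T.inv_mem hfT
    have heT : f⁻¹ * (x * f * x⁻¹) ∈ T := T.mul_mem hfinvT hf'T
    have hee : (f⁻¹ * (x * f * x⁻¹)) * (f⁻¹ * (x * f * x⁻¹)) = 1 := by
      have hc := hab (x * f * x⁻¹) hf'T f⁻¹ hfinvT
      calc (f⁻¹ * (x * f * x⁻¹)) * (f⁻¹ * (x * f * x⁻¹))
          = f⁻¹ * ((x * f * x⁻¹) * f⁻¹) * (x * f * x⁻¹) := by group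
        _ = f⁻¹ * (f⁻¹ * (x * f * x⁻¹)) * (x * f * x⁻¹) := by rw [hc]
        _ = (f * f)⁻¹ * ((x * f * x⁻¹) * (x * f * x⁻¹)) := by group
        _ = 1 := by rw [hf'sq, hffz]; group
    have hf'e : ∀ e : G, f⁻¹ * (x * f * x⁻¹) = e → x * f * x⁻¹ = f * e := by
      intro e he
      rw [← he]; group
    have hxxf : x * (x * f * x⁻¹) * x⁻¹ = f := by
      calc x * (x * f * x⁻¹) * x⁻¹ = (x * x) * f * (x * x)⁻¹ := by group
        _ = f := by rw [hxx]; group
    have hc : ∃ c ∈ T, c * c = z ∧ x * c = c * x := by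
      rcases hsqB _ heT hee with h | h | h | h
      · refine ⟨f, hfT, hffz, ?_⟩
        have h1 := hf'e 1 h
        rw [mul_one] at h1
        calc x * f = (x * f * x⁻¹) * x := by group
          _ = f * x := by rw [h1]
      · exfalso
        have h1 := hf'e u h
        have h2 : x * (f * u) * x⁻¹ = f * u * u' := by
          calc x * (f * u) * x⁻¹ = (x * f * x⁻¹) * (x * u * x⁻¹) := by group
            _ = f * u * u' := by rw [h1, hxu]
        have h2' : f = f * u * u' := by
          calc f = x * (x * f * x⁻¹) * x⁻¹ := hxxf.symm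
            _ = x * (f * u) * x⁻¹ := by rw [h1]
            _ = f * u * u' := h2
        apply hz1
        have h3 : f * 1 = f * z := by
          rw [mul_one, hzdef]
          calc f = f * u * u' := h2'
            _ = f * (u * u') := by group
        exact (mul_left_cancel h3).symm
      · exfalso
        have h1 := hf'e u' h
        have h2 : x * (f * u') * x⁻¹ = f * u' * u := by
          calc x * (f * u') * x⁻¹ = (x * f * x⁻¹) * (x * u' * x⁻¹) := by group
            _ = f * u' * u := by rw [h1, hxu']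
        have h2' : f = f * u' * u := by
          calc f = x * (x * f * x⁻¹) * x⁻¹ := hxxf.symm
            _ = x * (f * u') * x⁻¹ := by rw [h1]
            _ = f * u' * u := h2
        apply hz1
        have h3 : f * 1 = f * z := by
          rw [mul_one, hzdef, huu'comm]
          calc f = f * u' * u := h2'
            _ = f * (u' * u) := by group
        exact (mul_left_cancel h3).symm
      · have h1 := hf'e z h
        refine ⟨f * u, T.mul_mem hfT huT, ?_, ?_⟩
        · have hc := hab u huT f hfT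
          calc f * u * (f * u) = f * (u * f) * u := by group
            _ = f * (f * u) * u := by rw [hc]
            _ = (f * f) * (u * u) := by group
            _ = z := by rw [huu, hffz, mul_one]
        · have h2 : x * (f * u) * x⁻¹ = f * u := by
            have hc := hab z hzT u huT
            calc x * (f * u) * x⁻¹ = (x * f * x⁻¹) * (x * u * x⁻¹) := by group
              _ = f * z * (u * z) := by rw [h1, hxu, hu'uz]
              _ = f * (z * u) * z := by group
              _ = f * (u * z) * z := by rw [hc]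
              _ = f * u * (z * z) := by group
              _ = f * u := by rw [hzz, mul_one]
          calc x * (f * u) = (x * (f * u) * x⁻¹) * x := by group
            _ = f * u * x := by rw [h2]
    obtain ⟨c, hcT, hcc, hxc⟩ := hc
    -- the centralizer of `x` in `S`
    obtain ⟨Q', hQ'def⟩ : ∃ Q' : Subgroup G,
        Q' = (S : Subgroup G) ⊓ Subgroup.centralizer ({x} : Set G) := ⟨_, rfl⟩
    have hQ'S : Q' ≤ (S : Subgroup G) := by rw [hQ'def]; exact inf_le_left
    have hcQ : c ∈ Q' := by
      rw [hQ'def]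
      exact ⟨hTS hcT, Subgroup.mem_centralizer_singleton_iff.2 hxc.symm⟩
    have hxQ : x ∈ Q' := by
      rw [hQ'def]
      exact ⟨hxS, Subgroup.mem_centralizer_singleton_iff.2 rfl⟩
    have huQ : u ∉ Q' := by
      rw [hQ'def]
      intro h
      exact hnotu (Subgroup.mem_centralizer_singleton_iff.1 h.2)
    have hoc : orderOf c = 2 ^ (1 + 1) := by
      apply orderOf_eq_prime_pow
      · rw [pow_one, pow_two, hcc]; exact hz1
      · have : c ^ 2 ^ (1 + 1) = (c * c) * (c * c) := by
          show c ^ (2 * 2) = (c * c) * (c * c)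
          rw [pow_mul, pow_two, pow_two]
        rw [this, hcc, hzz]
    have hzc : Nat.card (Subgroup.zpowers c) = 4 := by
      rw [Nat.card_zpowers, hoc]; norm_num
    have hzcQ : Subgroup.zpowers c ≤ Q' := by
      rw [Subgroup.zpowers_le]; exact hcQ
    have hzcT : Subgroup.zpowers c ≤ T := by
      rw [Subgroup.zpowers_le]; exact hcT
    have hd1 : 4 ∣ Nat.card Q' := hzc ▸ Subgroup.card_dvd_of_le hzcQ
    have hd2 : Nat.card Q' ∣ 16 := hS ▸ Subgroup.card_dvd_of_le hQ'S
    have hne4 : Nat.card Q' ≠ 4 := by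
      intro h
      have heq : Subgroup.zpowers c = Q' :=
        Subgroup.eq_of_le_of_card_ge hzcQ (by rw [h, hzc])
      apply hxT
      apply hzcT
      rw [heq]; exact hxQ
    have hne16 : Nat.card Q' ≠ 16 := by
      intro h
      have heq : Q' = (S : Subgroup G) :=
        Subgroup.eq_of_le_of_card_ge hQ'S (by rw [h, hS])
      apply huQ
      rw [heq]; exact huS
    have hQ8 : Nat.card Q' = 8 := by
      have hle : Nat.card Q' ≤ 16 := Nat.le_of_dvd (by norm_num) hd2
      generalize Nat.card Q' = q at *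
      interval_cases q <;> first | omega | (exfalso; revert hd2; decide)
    have hQi : Q'.relIndex (S : Subgroup G) = 2 := by
      have := Subgroup.relIndex_mul_relIndex ⊥ Q' (S : Subgroup G) bot_le hQ'S
      rw [Subgroup.relIndex_bot_left, Subgroup.relIndex_bot_left, hQ8, hS] at this
      omega
    rcases Cfsg.Agent.S0111.result S Q' hQ'S hQi u hu huS huQ with ⟨M, -, hMi, -⟩ | ⟨k, hk⟩
    · exact (no_index_two hn M hMi).elim
    · have hkS : k * u * k⁻¹ ∈ (S : Subgroup G) := hQ'S hk
      have hkx : (k * u * k⁻¹) * x = x * (k * u * k⁻¹) := by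
        rw [hQ'def] at hk
        exact Subgroup.mem_centralizer_singleton_iff.1 hk.2
      have hqq : (k * u * k⁻¹) * (k * u * k⁻¹) = 1 := by
        calc (k * u * k⁻¹) * (k * u * k⁻¹) = k * (u * u) * k⁻¹ := by group
          _ = 1 := by rw [huu]; group
      have hq1 : k * u * k⁻¹ ≠ 1 := by
        intro h
        apply hu1
        have : u = k⁻¹ * (k * u * k⁻¹) * k := by group
        rw [this, h]; group
      by_cases hqT : k * u * k⁻¹ ∈ T
      · exfalso
        rcases hsqB _ hqT hqq with h | h | h | h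
        · exact hq1 h
        · rw [h] at hkx; exact hnotu hkx
        · rw [h] at hkx; exact hnotu' hkx
        · exact claim3 k h
      · have hqxT : (k * u * k⁻¹) * x ∈ T := F4 _ hkS x hxS hqT hxT
        have hqxsq : ((k * u * k⁻¹) * x) * ((k * u * k⁻¹) * x) = 1 := by
          calc ((k * u * k⁻¹) * x) * ((k * u * k⁻¹) * x)
              = (k * u * k⁻¹) * (x * (k * u * k⁻¹)) * x := by group
            _ = (k * u * k⁻¹) * ((k * u * k⁻¹) * x) * x := by rw [hkx]
            _ = ((k * u * k⁻¹) * (k * u * k⁻¹)) * (x * x) := by group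
            _ = 1 := by rw [hqq, hxx, one_mul]
        have hqxcomm : ((k * u * k⁻¹) * x) * x = x * ((k * u * k⁻¹) * x) := by
          calc ((k * u * k⁻¹) * x) * x = (x * (k * u * k⁻¹)) * x := by rw [hkx]
            _ = x * ((k * u * k⁻¹) * x) := by group
        rcases hsqB _ hqxT hqxsq with h | h | h | h
        · refine ⟨k, ?_⟩
          calc k * u * k⁻¹ = ((k * u * k⁻¹) * x) * x⁻¹ := by group
            _ = x := by rw [h, one_mul, hxinv]
        · exfalso; rw [h] at hqxcomm; exact hnotu hqxcomm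
        · exfalso; rw [h] at hqxcomm; exact hnotu' hqxcomm
        · -- `q = z x = u x u⁻¹`
          have h1 : k * u * k⁻¹ = z * x := by
            calc k * u * k⁻¹ = ((k * u * k⁻¹) * x) * x⁻¹ := by group
              _ = z * x := by rw [h, hxinv]
          have h2 : u * x * u⁻¹ = z * x := by
            have hu'inv : u'⁻¹ = u' := inv_eq_of_mul_eq_one_right hu'sq
            calc u * x * u⁻¹ = u * (x * u * x⁻¹)⁻¹ * x := by group
              _ = u * u' * x := by rw [hxu, hu'inv]
              _ = z * x := by rw [hzdef]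
          refine ⟨u⁻¹ * k, ?_⟩
          calc u⁻¹ * k * u * (u⁻¹ * k)⁻¹ = u⁻¹ * (k * u * k⁻¹) * u := by group
            _ = u⁻¹ * (u * x * u⁻¹) * u := by rw [h1, h2]
            _ = x := by group
  -- `z` is isolated in `S`
  have hz2 : orderOf z = 2 := orderOf_eq_prime (by rw [pow_two]; exact hzz) hz1
  apply not_isolated hn S z hz2 hzS
  intro k hk
  have hww : (k * z * k⁻¹) * (k * z * k⁻¹) = 1 := by
    calc (k * z * k⁻¹) * (k * z * k⁻¹) = k * (z * z) * k⁻¹ := by group
      _ = 1 := by rw [hzz]; group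
  by_cases hwT : k * z * k⁻¹ ∈ T
  · rcases hsqB _ hwT hww with h | h | h | h
    · exfalso
      apply hz1
      have : z = k⁻¹ * (k * z * k⁻¹) * k := by group
      rw [this, h]; group
    · exfalso
      apply claim3 k⁻¹
      rw [← h]; group
    · exfalso
      apply claim3 (k⁻¹ * g)
      have : k⁻¹ * g * u * (k⁻¹ * g)⁻¹ = k⁻¹ * (g * u * g⁻¹) * k := by group
      rw [this, ← hu'def, ← h]; group
    · exact h
  · exfalso
    obtain ⟨k', hk'⟩ := claim2 _ hk hwT hww
    apply claim3 (k⁻¹ * k')
    have : k⁻¹ * k' * u * (k⁻¹ * k')⁻¹ = k⁻¹ * (k' * u * k'⁻¹) * k := by group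
    rw [this, hk']; group

end Cfsg.Agent.Lib.Helper5.O5040
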