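import Mathlib
import Cfsg.Agent.Lib.Helper5.O5040O

/-!
# Order 5040: `|N(P₅)| = 40` is impossible; the self-centralizing Sylow `7` case is impossible

(author: helper5)
-/

set_option autoImplicit false
set_option maxHeartbeats 800000

namespace Cfsg.Agent.Lib.Helper5.O5040

open MulAction

variable {G : Type*} [Group G] [Finite G] [IsSimpleGroup G]

/-- If `|N(P₅)| = 40` and `|C(P₅)| = 10`, a subgroup `T ≤ N(P₅)` of order `8` contains an element
whose square does not centralize `P₅`. -/
theorem exists_sq_not_mem_centralizer5 (hn : Nat.card G = 5040) [Fact (Nat.Prime 5)]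
    (Q : Sylow 5 G) (T : Subgroup G)
    (hTN : T ≤ Subgroup.normalizer ((Q : Subgroup G) : Set G)) (hT8 : Nat.card T = 8)
    (hC : Nat.card (Subgroup.centralizer ((Q : Subgroup G) : Set G)) = 10) :
    ∃ f ∈ T, f * f ∉ Subgroup.centralizer ((Q : Subgroup G) : Set G) := by
  by_contra hcon
  push Not at hcon
  have hQ := card_sylow5 hn Q
  have hcyc : IsCyclic (Q : Subgroup G) := isCyclic_of_prime_card (p := 5) hQ
  have hprime : Fact (Nat.Prime (Nat.card (Q : Subgroup G))) := ⟨by rw [hQ]; norm_num⟩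
  have hcycZ : IsCyclic (ZMod (Nat.card (Q : Subgroup G)))ˣ := inferInstance
  have hcycA : IsCyclic (MulAut (Q : Subgroup G)) :=
    isCyclic_of_surjective (IsCyclic.mulAutMulEquiv (Q : Subgroup G)).symm
      (IsCyclic.mulAutMulEquiv (Q : Subgroup G)).symm.surjective
  have hcardA : Nat.card (MulAut (Q : Subgroup G)) = 4 := by
    rw [hcyc.card_mulAut, hQ, Nat.totient_prime (by norm_num)]
  set C := Subgroup.centralizer ((Q : Subgroup G) : Set G) with hCdef
  let ψ : T →* MulAut (Q : Subgroup G) :=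
    (Q : Subgroup G).normalizerMonoidHom.comp (Subgroup.inclusion hTN)
  have hker : ∀ t : T, t ∈ ψ.ker ↔ (t : G) ∈ C := by
    intro t
    rw [MonoidHom.mem_ker]
    show (Q : Subgroup G).normalizerMonoidHom (Subgroup.inclusion hTN t) = 1 ↔ _
    rw [← MonoidHom.mem_ker, Subgroup.normalizerMonoidHom_ker, Subgroup.mem_subgroupOf]
    rfl
  -- the kernel has order at most `2`
  have hVle : Nat.card (T ⊓ C : Subgroup G) ≤ 2 := by
    have h1 : Nat.card (T ⊓ C : Subgroup G) ∣ 8 := hT8 ▸ Subgroup.card_dvd_of_le inf_le_left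
    have h2 : Nat.card (T ⊓ C : Subgroup G) ∣ 10 := hC ▸ Subgroup.card_dvd_of_le inf_le_right
    have h3 : Nat.card (T ⊓ C : Subgroup G) ∣ 2 := Nat.dvd_gcd h1 h2
    exact Nat.le_of_dvd (by norm_num) h3
  have hkerle : Nat.card ψ.ker ≤ Nat.card (T ⊓ C : Subgroup G) := by
    apply Nat.card_le_card_of_injective
      (fun t : ψ.ker => (⟨((t : T) : G), ⟨(t : T).2, (hker t).1 t.2⟩⟩ : (T ⊓ C : Subgroup G)))
    intro a b h
    apply Subtype.ext
    apply Subtype.ext
    have h' : (((a : T) : G)) = ((b : T) : G) :=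
      congrArg (fun z : (T ⊓ C : Subgroup G) => (z : G)) h
    exact h'
  have hmul := Subgroup.card_mul_index ψ.ker
  rw [Subgroup.index_ker, hT8] at hmul
  have hdvd : Nat.card ψ.range ∣ 4 := hcardA ▸ Subgroup.card_subgroup_dvd_card ψ.range
  have hr4 : Nat.card ψ.range = 4 := by
    have hle : Nat.card ψ.range ≤ 4 := Nat.le_of_dvd (by norm_num) hdvd
    have hk2 : Nat.card ψ.ker ≤ 2 := le_trans hkerle hVle
    generalize Nat.card ψ.range = r at *
    generalize Nat.card ψ.ker = k at *
    interval_cases r <;> interval_cases k <;> omega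
  have htop : ψ.range = ⊤ := Subgroup.eq_top_of_card_eq _ (by rw [hr4, hcardA])
  obtain ⟨a, ha⟩ := hcycA.exists_generator
  have hoa : orderOf a = 4 := by
    rw [orderOf_eq_card_of_forall_mem_zpowers ha, hcardA]
  have harange : a ∈ ψ.range := by rw [htop]; trivial
  obtain ⟨t, rfl⟩ := harange
  have hsq : (ψ t) ^ 2 = 1 := by
    rw [← map_pow, ← MonoidHom.mem_ker, hker, pow_two]
    exact hcon t t.2
  have := orderOf_dvd_of_pow_eq_one hsq
  rw [hoa] at this
  norm_num at this

/-- `|N(P₅)| = 40` is impossible. -/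
theorem not_card_normalizer5_40 (hn : Nat.card G = 5040) [Fact (Nat.Prime 5)] (Q : Sylow 5 G)
    (hN : Nat.card (Subgroup.normalizer ((Q : Subgroup G) : Set G)) = 40) : False := by
  have hp2 : Fact (Nat.Prime 2) := ⟨by norm_num⟩
  obtain ⟨u, hu, huC, hNu⟩ := exists_central_involution hn Q hN
  have hCu := centralizer_eq_normalizer hn Q hN u hu hNu
  have hu1 : u ≠ 1 := by
    intro h; rw [h, orderOf_one] at hu; norm_num at hu
  have huu : u * u = 1 := by rw [← pow_two, ← hu]; exact pow_orderOf_eq_one u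
  set N := Subgroup.normalizer ((Q : Subgroup G) : Set G) with hNdef
  set C := Subgroup.centralizer ((Q : Subgroup G) : Set G) with hCdef
  have hCN : C ≤ N := Subgroup.centralizer_le_normalizer _
  have huN : u ∈ N := hCN huC
  obtain ⟨d, hd4, hNC⟩ := card_normalizer_eq5 hn Q
  rw [← hNdef, ← hCdef, hN] at hNC
  have hd : d ≤ 4 := Nat.le_of_dvd (by norm_num) hd4
  -- `T` and `S`
  have hZ : IsPGroup 2 (Subgroup.zpowers u) :=
    IsPGroup.of_card (n := 1) (by rw [Nat.card_zpowers, hu, pow_one])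
  obtain ⟨T, huT', hTN, hTcard⟩ := exists_le_card_pow 2 N 3 5 (by rw [hN]; norm_num)
    (by norm_num) (Subgroup.zpowers u) (by rw [Subgroup.zpowers_le]; exact huN) hZ
  have hT8 : Nat.card T = 8 := by rw [hTcard]; norm_num
  have huT : u ∈ T := huT' (Subgroup.mem_zpowers u)
  have hTp : IsPGroup 2 T := IsPGroup.of_card (n := 3) hTcard
  obtain ⟨S, hTS⟩ := hTp.exists_le_sylow
  interval_cases d
  · norm_num at hd4
  · apply not_normalizer5_eq_centralizer hn Q
    rw [← hNdef, ← hCdef, hN, hNC, mul_one]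
  · -- `|C| = 20`
    have hC20 : Nat.card C = 20 := by omega
    apply caseB hn Q hN T S hTN hT8 hTS u hu huT hCu
    rw [← hCdef]
    have hrel : (T ⊓ C).relIndex N ≤ T.relIndex N * C.relIndex N := Subgroup.relIndex_inf_le
    have hTrel : T.relIndex N = 5 := by
      have := Subgroup.relIndex_mul_relIndex ⊥ T N bot_le hTN
      rw [Subgroup.relIndex_bot_left, Subgroup.relIndex_bot_left, hT8, hN] at this
      omega
    have hCrel : C.relIndex N = 2 := by
      have := Subgroup.relIndex_mul_relIndex ⊥ C N bot_le hCN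
      rw [Subgroup.relIndex_bot_left, Subgroup.relIndex_bot_left, hN, hC20] at this
      omega
    have hVcard : Nat.card (T ⊓ C : Subgroup G) * (T ⊓ C).relIndex N = 40 := by
      have := Subgroup.relIndex_mul_relIndex ⊥ (T ⊓ C) N bot_le (le_trans inf_le_left hTN)
      rw [Subgroup.relIndex_bot_left, Subgroup.relIndex_bot_left, hN] at this
      exact this
    rw [hTrel, hCrel] at hrel
    by_contra hcon
    push Not at hcon
    have : Nat.card (T ⊓ C : Subgroup G) * (T ⊓ C).relIndex N ≤ 3 * 10 :=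
      Nat.mul_le_mul (by omega) hrel
    omega
  · norm_num at hd4
  · -- `|C| = 10`
    have hC10 : Nat.card C = 10 := by omega
    obtain ⟨f, hfT, hf⟩ := exists_sq_not_mem_centralizer5 hn Q T hTN hT8 hC10
    apply caseA hn Q hN T S hTN hT8 hTS u hu huT hCu f hfT
    · intro h; apply hf; rw [h]; exact Subgroup.one_mem _
    · intro h; apply hf; rw [h]; exact huC

/-- **The self-centralizing case is impossible.** -/
theorem frobenius_case (hn : Nat.card G = 5040) [Fact (Nat.Prime 7)]
    (hB : ∀ P : Sylow 7 G, Nat.card (Subgroup.normalizer ((P : Subgroup G) : Set G)) = 42 ∧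
      ∀ x ∈ (P : Subgroup G), x ≠ 1 → ∀ g : G, g * x = x * g → g ∈ (P : Subgroup G)) :
    False := by
  have hp5 : Fact (Nat.Prime 5) := ⟨by norm_num⟩
  obtain ⟨Q⟩ : Nonempty (Sylow 5 G) := inferInstance
  exact not_card_normalizer5_40 hn Q (card_normalizer5_eq_40 hn hB Q)

end Cfsg.Agent.Lib.Helper5.O5040
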