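import Mathlib
import Cfsg.Agent.Lib.Helper5.Ord2.Kit4
import Cfsg.Agent.Lib.Helper5.Ord2.Count

/-!
# No simple group of order 17556

`17556 = 2^2 * 3 * 7 * 11 * 19`.  Counting: `n_19 = 77`, `|C(P_19)| ≥ 38`: at least `2772` elements
of order divisible by `19`; `n_11 = 133`, `|C(P_11)| = 66`: `7980` elements of order divisible by
`11`; `n_7 = 1254`, `C(P_7) = P_7`: `7524` elements of order `7`; `2772 + 7980 + 7524 > 17556`.
-/

set_option autoImplicit false
set_option linter.style.haveILetI false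
set_option linter.unusedTactic false
set_option linter.unreachableTactic false

namespace Cfsg.Agent.Lib.Helper5.O17556

open MulAction Cfsg.Agent.Lib.Helper5.OrdKit Cfsg.Agent.Lib.Helper5.O5040
  Cfsg.Agent.Lib.Helper5.OrdCount

variable {G : Type*} [Group G] [Finite G] [IsSimpleGroup G]

theorem data19 (hn : Nat.card G = 17556) [h19 : Fact (Nat.Prime 19)] (P : Sylow 19 G) :
    Nat.card (P : Subgroup G) = 19 ∧ Nat.card (Sylow 19 G) = 77 ∧
      19 * 2 ≤ Nat.card (Subgroup.centralizer ((P : Subgroup G) : Set G)) ∧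
      Nat.card (Subgroup.centralizer ((P : Subgroup G) : Set G)) ∣ 228 := by
  have hn' : Nat.card G = 19 * 924 := by rw [hn]
  have hP : Nat.card (P : Subgroup G) = 19 := card_sylow_prime 924 hn' (by norm_num) P
  have hlt : 19 < Nat.card G := by rw [hn]; norm_num
  obtain ⟨k, hk1, hk2, hk3, hk4, hk5⟩ := sylow_count 924 hn' (by norm_num) (by norm_num) P
  obtain ⟨d, hd, hNC⟩ := card_normalizer_eq_mul P hP
  have hk : k = 77 := by
    have hkle : k ≤ 924 := Nat.le_of_dvd (by norm_num) hk1
    obtain ⟨j, rfl⟩ : ∃ j, k = 19 * j + 1 := ⟨k / 19, by omega⟩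
    have hj : j ≤ 48 := by omega
    interval_cases j <;> first | omega | (exfalso; revert hk1; decide)
  subst hk
  have hN : Nat.card (Subgroup.normalizer ((P : Subgroup G) : Set G)) = 228 := by
    rw [hn] at hk4; omega
  rw [hN] at hNC
  have hd' : d ∣ 18 := hd
  have hdle : d ≤ 18 := Nat.le_of_dvd (by norm_num) hd'
  refine ⟨hP, P.card_eq_index_normalizer.trans hk5, ?_, ⟨d, hNC⟩⟩
  interval_cases d <;> first | omega | (exfalso; revert hd'; decide)

theorem data7 (hn : Nat.card G = 17556) [h7 : Fact (Nat.Prime 7)] (P : Sylow 7 G) :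
    Nat.card (P : Subgroup G) = 7 ∧ Nat.card (Sylow 7 G) = 1254 ∧
      Nat.card (Subgroup.centralizer ((P : Subgroup G) : Set G)) = 7 := by
  haveI h19 : Fact (Nat.Prime 19) := ⟨by norm_num⟩
  haveI h11 : Fact (Nat.Prime 11) := ⟨by norm_num⟩
  have hn' : Nat.card G = 7 * 2508 := by rw [hn]
  have hP : Nat.card (P : Subgroup G) = 7 := card_sylow_prime 2508 hn' (by norm_num) P
  have hlt : 7 < Nat.card G := by rw [hn]; norm_num
  obtain ⟨k, hk1, hk2, hk3, hk4, hk5⟩ := sylow_count 2508 hn' (by norm_num) (by norm_num) P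
  obtain ⟨d, hd, hNC⟩ := card_normalizer_eq_mul P hP
  have hd' : d ∣ 6 := hd
  have hdle : d ≤ 6 := Nat.le_of_dvd (by norm_num) hd'
  have hk : k = 22 ∨ k = 57 ∨ k = 1254 := by
    have hkle : k ≤ 2508 := Nat.le_of_dvd (by norm_num) hk1
    obtain ⟨j, rfl⟩ : ∃ j, k = 7 * j + 1 := ⟨k / 7, by omega⟩
    have hj : j ≤ 358 := by omega
    interval_cases j <;> first | omega | (exfalso; revert hk1; decide)
  rcases hk with rfl | rfl | rfl
  · exfalso
    have hN : Nat.card (Subgroup.normalizer ((P : Subgroup G) : Set G)) = 798 := by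
      rw [hn] at hk4; omega
    rw [hN] at hNC
    have h19C : 19 ∣ Nat.card (Subgroup.centralizer ((P : Subgroup G) : Set G)) := by
      interval_cases d <;> first | omega | (exfalso; revert hd'; decide)
    obtain ⟨f, hf1, hf2, hf3⟩ := k3 P hP hlt 19 h19C
    rw [hk5] at hf2 hf3
    omega
  · exfalso
    have hN : Nat.card (Subgroup.normalizer ((P : Subgroup G) : Set G)) = 308 := by
      rw [hn] at hk4; omega
    rw [hN] at hNC
    have h11C : 11 ∣ Nat.card (Subgroup.centralizer ((P : Subgroup G) : Set G)) := by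
      interval_cases d <;> first | omega | (exfalso; revert hd'; decide)
    obtain ⟨f, hf1, hf2, hf3⟩ := k3 P hP hlt 11 h11C
    rw [hk5] at hf2 hf3
    omega
  · have hN : Nat.card (Subgroup.normalizer ((P : Subgroup G) : Set G)) = 14 := by
      rw [hn] at hk4; omega
    rw [hN] at hNC
    refine ⟨hP, P.card_eq_index_normalizer.trans hk5, ?_⟩
    have hd2 : d = 1 ∨ d = 2 := by
      interval_cases d <;> first | omega | (exfalso; revert hd'; decide)
    rcases hd2 with rfl | rfl
    · exfalso
      exact burnside P hP hlt (by rw [hN]; omega)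
    · omega

theorem data11 (hn : Nat.card G = 17556) [h11 : Fact (Nat.Prime 11)] (P : Sylow 11 G) :
    Nat.card (P : Subgroup G) = 11 ∧ Nat.card (Sylow 11 G) = 133 ∧
      Nat.card (Subgroup.centralizer ((P : Subgroup G) : Set G)) = 66 := by
  have hn' : Nat.card G = 11 * 1596 := by rw [hn]
  have hP : Nat.card (P : Subgroup G) = 11 := card_sylow_prime 1596 hn' (by norm_num) P
  have hlt : 11 < Nat.card G := by rw [hn]; norm_num
  have h2G : 2 < Nat.card G := by rw [hn]; norm_num
  obtain ⟨k, hk1, hk2, hk3, hk4, hk5⟩ := sylow_count 1596 hn' (by norm_num) (by norm_num) P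
  obtain ⟨d, hd, hNC⟩ := card_normalizer_eq_mul P hP
  have hd' : d ∣ 10 := hd
  have hdle : d ≤ 10 := Nat.le_of_dvd (by norm_num) hd'
  have hNtop := normalizer_ne_top P hP hlt
  have hk : k = 12 ∨ k = 133 ∨ k = 1596 := by
    have hkle : k ≤ 1596 := Nat.le_of_dvd (by norm_num) hk1
    obtain ⟨j, rfl⟩ : ∃ j, k = 11 * j + 1 := ⟨k / 11, by omega⟩
    have hj : j ≤ 145 := by omega
    interval_cases j <;> first | omega | (exfalso; revert hk1; decide)
  rcases hk with rfl | rfl | rfl
  · exfalso
    have := index_bound h2G _ hNtop 12 hk5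
    rw [hn] at this
    revert this; decide
  · have hN : Nat.card (Subgroup.normalizer ((P : Subgroup G) : Set G)) = 132 := by
      rw [hn] at hk4; omega
    rw [hN] at hNC
    refine ⟨hP, P.card_eq_index_normalizer.trans hk5, ?_⟩
    have hd2 : d = 1 ∨ d = 2 := by
      interval_cases d <;> first | omega | (exfalso; revert hd'; decide)
    rcases hd2 with rfl | rfl
    · exfalso
      exact burnside P hP hlt (by rw [hN]; omega)
    · omega
  · exfalso
    have hN : Nat.card (Subgroup.normalizer ((P : Subgroup G) : Set G)) = 11 := by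
      rw [hn] at hk4; omega
    rw [hN] at hNC
    have hd1 : d = 1 := by
      interval_cases d <;> first | omega | (exfalso; revert hd'; decide)
    subst hd1
    exact burnside P hP hlt (by rw [hN]; omega)

theorem no_simple_17556 (hn : Nat.card G = 17556) : False := by
  haveI h19 : Fact (Nat.Prime 19) := ⟨by norm_num⟩
  haveI h11 : Fact (Nat.Prime 11) := ⟨by norm_num⟩
  haveI h7 : Fact (Nat.Prime 7) := ⟨by norm_num⟩
  obtain ⟨P19⟩ : Nonempty (Sylow 19 G) := inferInstance
  obtain ⟨P7⟩ : Nonempty (Sylow 7 G) := inferInstance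
  obtain ⟨P11⟩ : Nonempty (Sylow 11 G) := inferInstance
  have hT19 := card_dvd_orderOf_ge (G := G) 19 (fun Q => (data19 hn Q).1) 2
    (fun Q => (data19 hn Q).2.2.1)
  rw [(data19 hn P19).2.1] at hT19
  have hT7 := card_dvd_orderOf_ge (G := G) 7 (fun Q => (data7 hn Q).1) 1
    (fun Q => by rw [(data7 hn Q).2.2])
  rw [(data7 hn P7).2.1] at hT7
  have hT11 := card_dvd_orderOf_ge (G := G) 11 (fun Q => (data11 hn Q).1) 6
    (fun Q => by rw [(data11 hn Q).2.2])
  rw [(data11 hn P11).2.1] at hT11
  have h7_11 : ∀ g : G, 7 ∣ orderOf g → 11 ∣ orderOf g → False :=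
    not_dvd_of_not_dvd_centralizer 7 11 (fun Q => (data7 hn Q).1)
      (fun Q => by rw [(data7 hn Q).2.2]; norm_num)
  have h7_19 : ∀ g : G, 7 ∣ orderOf g → 19 ∣ orderOf g → False :=
    not_dvd_of_not_dvd_centralizer 7 19 (fun Q => (data7 hn Q).1)
      (fun Q => by rw [(data7 hn Q).2.2]; norm_num)
  have h19_11 : ∀ g : G, 19 ∣ orderOf g → 11 ∣ orderOf g → False :=
    not_dvd_of_not_dvd_centralizer 19 11 (fun Q => (data19 hn Q).1)
      (fun Q h => by
        have := h.trans (data19 hn Q).2.2.2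
        revert this; decide)
  have hsum := card_three_le (G := G) 7 11 19 h7_11 h7_19 (fun g h1 h2 => h19_11 g h2 h1)
  rw [hn] at hsum
  omega

end Cfsg.Agent.Lib.Helper5.O17556
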