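import Mathlib
import Cfsg.Agent.Lib.Helper5.Ord2.Kit4
import Cfsg.Agent.Lib.Helper5.Ord2.Count

/-!
# No simple group of order 35112

`35112 = 2^3 * 3 * 7 * 11 * 19`.  Counting: `n_19 = 77`, `|C(P_19)| ≥ 76` gives at least `5544`
elements of order divisible by `19`; `n_7 = 1254`, `|C(P_7)| = 14` gives `15048` elements of order
divisible by `7`; `n_11 ∈ {133, 1596}` with `|C(P_11)| = 132`, resp. `11`, gives `15960` elements
of order divisible by `11`.  These sets are pairwise disjoint, and `5544 + 15048 + 15960 > 35112`.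
-/

set_option autoImplicit false
set_option linter.style.haveILetI false
set_option linter.unusedTactic false
set_option linter.unreachableTactic false

namespace Cfsg.Agent.Lib.Helper5.O35112

open MulAction Cfsg.Agent.Lib.Helper5.OrdKit Cfsg.Agent.Lib.Helper5.O5040
  Cfsg.Agent.Lib.Helper5.OrdCount

variable {G : Type*} [Group G] [Finite G] [IsSimpleGroup G]

theorem data19 (hn : Nat.card G = 35112) [h19 : Fact (Nat.Prime 19)] (P : Sylow 19 G) :
    Nat.card (P : Subgroup G) = 19 ∧ Nat.card (Sylow 19 G) = 77 ∧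
      19 * 4 ≤ Nat.card (Subgroup.centralizer ((P : Subgroup G) : Set G)) ∧
      Nat.card (Subgroup.centralizer ((P : Subgroup G) : Set G)) ∣ 456 := by
  have hn' : Nat.card G = 19 * 1848 := by rw [hn]
  have hP : Nat.card (P : Subgroup G) = 19 := card_sylow_prime 1848 hn' (by norm_num) P
  have hlt : 19 < Nat.card G := by rw [hn]; norm_num
  obtain ⟨k, hk1, hk2, hk3, hk4, hk5⟩ := sylow_count 1848 hn' (by norm_num) (by norm_num) P
  obtain ⟨d, hd, hNC⟩ := card_normalizer_eq_mul P hP
  have hk : k = 77 := by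
    have hkle : k ≤ 1848 := Nat.le_of_dvd (by norm_num) hk1
    obtain ⟨j, rfl⟩ : ∃ j, k = 19 * j + 1 := ⟨k / 19, by omega⟩
    have hj : j ≤ 97 := by omega
    interval_cases j <;> first | omega | (exfalso; revert hk1; decide)
  subst hk
  have hN : Nat.card (Subgroup.normalizer ((P : Subgroup G) : Set G)) = 456 := by
    rw [hn] at hk4; omega
  rw [hN] at hNC
  have hd' : d ∣ 18 := hd
  have hdle : d ≤ 18 := Nat.le_of_dvd (by norm_num) hd'
  refine ⟨hP, ?_, ?_, ⟨d, hNC⟩⟩
  · exact P.card_eq_index_normalizer.trans hk5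
  · interval_cases d <;> first | omega | (exfalso; revert hd'; decide)

theorem data7 (hn : Nat.card G = 35112) [h7 : Fact (Nat.Prime 7)] (P : Sylow 7 G) :
    Nat.card (P : Subgroup G) = 7 ∧ Nat.card (Sylow 7 G) = 1254 ∧
      Nat.card (Subgroup.centralizer ((P : Subgroup G) : Set G)) = 14 := by
  haveI h19 : Fact (Nat.Prime 19) := ⟨by norm_num⟩
  haveI h11 : Fact (Nat.Prime 11) := ⟨by norm_num⟩
  have hn' : Nat.card G = 7 * 5016 := by rw [hn]
  have hP : Nat.card (P : Subgroup G) = 7 := card_sylow_prime 5016 hn' (by norm_num) P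
  have hlt : 7 < Nat.card G := by rw [hn]; norm_num
  have h2G : 2 < Nat.card G := by rw [hn]; norm_num
  obtain ⟨k, hk1, hk2, hk3, hk4, hk5⟩ := sylow_count 5016 hn' (by norm_num) (by norm_num) P
  obtain ⟨d, hd, hNC⟩ := card_normalizer_eq_mul P hP
  have hd' : d ∣ 6 := hd
  have hdle : d ≤ 6 := Nat.le_of_dvd (by norm_num) hd'
  have hNtop := normalizer_ne_top P hP hlt
  have hk : k = 8 ∨ k = 22 ∨ k = 57 ∨ k = 456 ∨ k = 1254 := by
    have hkle : k ≤ 5016 := Nat.le_of_dvd (by norm_num) hk1
    obtain ⟨j, rfl⟩ : ∃ j, k = 7 * j + 1 := ⟨k / 7, by omega⟩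
    have hj : j ≤ 716 := by omega
    interval_cases j <;> first | omega | (exfalso; revert hk1; decide)
  rcases hk with rfl | rfl | rfl | rfl | rfl
  · exfalso
    have := index_bound h2G _ hNtop 8 hk5
    rw [hn] at this
    revert this; decide
  · exfalso
    have hN : Nat.card (Subgroup.normalizer ((P : Subgroup G) : Set G)) = 1596 := by
      rw [hn] at hk4; omega
    rw [hN] at hNC
    have h19C : 19 ∣ Nat.card (Subgroup.centralizer ((P : Subgroup G) : Set G)) := by
      interval_cases d <;> first | omega | (exfalso; revert hd'; decide)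
    obtain ⟨f, hf1, hf2, hf3⟩ := k3 P hP hlt 19 h19C
    rw [hk5] at hf2 hf3
    omega
  · exfalso
    have hN : Nat.card (Subgroup.normalizer ((P : Subgroup G) : Set G)) = 616 := by
      rw [hn] at hk4; omega
    rw [hN] at hNC
    have h11C : 11 ∣ Nat.card (Subgroup.centralizer ((P : Subgroup G) : Set G)) := by
      interval_cases d <;> first | omega | (exfalso; revert hd'; decide)
    obtain ⟨f, hf1, hf2, hf3⟩ := k3 P hP hlt 11 h11C
    rw [hk5] at hf2 hf3
    omega
  · exfalso
    have hN : Nat.card (Subgroup.normalizer ((P : Subgroup G) : Set G)) = 77 := by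
      rw [hn] at hk4; omega
    rw [hN] at hNC
    have hd1 : d = 1 := by
      interval_cases d <;> first | omega | (exfalso; revert hd'; decide)
    subst hd1
    exact burnside P hP hlt (by rw [hN, hNC, mul_one])
  · have hN : Nat.card (Subgroup.normalizer ((P : Subgroup G) : Set G)) = 28 := by
      rw [hn] at hk4; omega
    rw [hN] at hNC
    refine ⟨hP, ?_, ?_⟩
    · exact P.card_eq_index_normalizer.trans hk5
    · have hd2 : d = 1 ∨ d = 2 := by
        interval_cases d <;> first | omega | (exfalso; revert hd'; decide)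
      rcases hd2 with rfl | rfl
      · exfalso
        exact burnside P hP hlt (by rw [hN, hNC, mul_one])
      · omega

theorem data11 (hn : Nat.card G = 35112) [h11 : Fact (Nat.Prime 11)] (P : Sylow 11 G) :
    Nat.card (P : Subgroup G) = 11 ∧
      ((Nat.card (Sylow 11 G) = 133 ∧
          Nat.card (Subgroup.centralizer ((P : Subgroup G) : Set G)) = 132) ∨
        (Nat.card (Sylow 11 G) = 1596 ∧
          Nat.card (Subgroup.centralizer ((P : Subgroup G) : Set G)) = 11)) := by
  have hn' : Nat.card G = 11 * 3192 := by rw [hn]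
  have hP : Nat.card (P : Subgroup G) = 11 := card_sylow_prime 3192 hn' (by norm_num) P
  have hlt : 11 < Nat.card G := by rw [hn]; norm_num
  have h2G : 2 < Nat.card G := by rw [hn]; norm_num
  obtain ⟨k, hk1, hk2, hk3, hk4, hk5⟩ := sylow_count 3192 hn' (by norm_num) (by norm_num) P
  obtain ⟨d, hd, hNC⟩ := card_normalizer_eq_mul P hP
  have hd' : d ∣ 10 := hd
  have hdle : d ≤ 10 := Nat.le_of_dvd (by norm_num) hd'
  have hNtop := normalizer_ne_top P hP hlt
  have hk : k = 12 ∨ k = 56 ∨ k = 133 ∨ k = 1596 := by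
    have hkle : k ≤ 3192 := Nat.le_of_dvd (by norm_num) hk1
    obtain ⟨j, rfl⟩ : ∃ j, k = 11 * j + 1 := ⟨k / 11, by omega⟩
    have hj : j ≤ 290 := by omega
    interval_cases j <;> first | omega | (exfalso; revert hk1; decide)
  refine ⟨hP, ?_⟩
  rcases hk with rfl | rfl | rfl | rfl
  · exfalso
    have := index_bound h2G _ hNtop 12 hk5
    rw [hn] at this
    revert this; decide
  · exfalso
    have hN : Nat.card (Subgroup.normalizer ((P : Subgroup G) : Set G)) = 627 := by
      rw [hn] at hk4; omega
    rw [hN] at hNC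
    have hd1 : d = 1 := by
      interval_cases d <;> first | omega | (exfalso; revert hd'; decide)
    subst hd1
    exact burnside P hP hlt (by rw [hN, hNC, mul_one])
  · left
    have hN : Nat.card (Subgroup.normalizer ((P : Subgroup G) : Set G)) = 264 := by
      rw [hn] at hk4; omega
    rw [hN] at hNC
    refine ⟨P.card_eq_index_normalizer.trans hk5, ?_⟩
    have hd2 : d = 1 ∨ d = 2 := by
      interval_cases d <;> first | omega | (exfalso; revert hd'; decide)
    rcases hd2 with rfl | rfl
    · exfalso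
      exact burnside P hP hlt (by rw [hN, hNC, mul_one])
    · omega
  · right
    have hN : Nat.card (Subgroup.normalizer ((P : Subgroup G) : Set G)) = 22 := by
      rw [hn] at hk4; omega
    rw [hN] at hNC
    refine ⟨P.card_eq_index_normalizer.trans hk5, ?_⟩
    have hd2 : d = 1 ∨ d = 2 := by
      interval_cases d <;> first | omega | (exfalso; revert hd'; decide)
    rcases hd2 with rfl | rfl
    · exfalso
      exact burnside P hP hlt (by rw [hN, hNC, mul_one])
    · omega

theorem no_simple_35112 (hn : Nat.card G = 35112) : False := by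
  haveI h19 : Fact (Nat.Prime 19) := ⟨by norm_num⟩
  haveI h11 : Fact (Nat.Prime 11) := ⟨by norm_num⟩
  haveI h7 : Fact (Nat.Prime 7) := ⟨by norm_num⟩
  -- the three counts
  obtain ⟨P19⟩ : Nonempty (Sylow 19 G) := inferInstance
  obtain ⟨P7⟩ : Nonempty (Sylow 7 G) := inferInstance
  obtain ⟨P11⟩ : Nonempty (Sylow 11 G) := inferInstance
  have hT19 := card_dvd_orderOf_ge (G := G) 19 (fun Q => (data19 hn Q).1) 4
    (fun Q => (data19 hn Q).2.2.1)
  rw [(data19 hn P19).2.1] at hT19
  have hT7 := card_dvd_orderOf_ge (G := G) 7 (fun Q => (data7 hn Q).1) 2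
    (fun Q => by rw [(data7 hn Q).2.2])
  rw [(data7 hn P7).2.1] at hT7
  have hT11 : 15960 ≤ Nat.card {g : G // 11 ∣ orderOf g} := by
    rcases (data11 hn P11).2 with ⟨hn11, -⟩ | ⟨hn11, -⟩
    · have := card_dvd_orderOf_ge (G := G) 11 (fun Q => (data11 hn Q).1) 12
        (fun Q => by
          rcases (data11 hn Q).2 with ⟨-, hc⟩ | ⟨h, -⟩
          · rw [hc]
          · omega)
      rw [hn11] at this
      omega
    · have := card_dvd_orderOf_ge (G := G) 11 (fun Q => (data11 hn Q).1) 1
        (fun Q => by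
          rcases (data11 hn Q).2 with ⟨h, -⟩ | ⟨-, hc⟩
          · omega
          · rw [hc])
      rw [hn11] at this
      omega
  -- disjointness
  have h7_11 : ∀ g : G, 7 ∣ orderOf g → 11 ∣ orderOf g → False :=
    not_dvd_of_not_dvd_centralizer 7 11 (fun Q => (data7 hn Q).1)
      (fun Q => by rw [(data7 hn Q).2.2]; norm_num)
  have h7_19 : ∀ g : G, 7 ∣ orderOf g → 19 ∣ orderOf g → False :=
    not_dvd_of_not_dvd_centralizer 7 19 (fun Q => (data7 hn Q).1)
      (fun Q => by rw [(data7 hn Q).2.2]; norm_num)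
  have h19_11 : ∀ g : G, 19 ∣ orderOf g → 11 ∣ orderOf g → False :=
    not_dvd_of_not_dvd_centralizer 19 11 (fun Q => (data19 hn Q).1)
      (fun Q h => by
        have := h.trans (data19 hn Q).2.2.2
        revert this; decide)
  have hsum := card_three_le (G := G) 7 11 19 h7_11 h7_19 (fun g h1 h2 => h19_11 g h2 h1)
  rw [hn] at hsum
  omega

end Cfsg.Agent.Lib.Helper5.O35112
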