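import Mathlib
import Cfsg.Agent.Lib.Helper5.Ord2.Kit3

/-!
# No simple group of order `3696 = 2⁴ · 3 · 7 · 11`

(author: helper5)  `n₁₁ ∈ {12, 56}`:
* `12`: `|N| = 308`, `7 ∣ |C(P₁₁)|`, fixed points on `12` points: `≡ 1 mod 11`, `≡ 5 mod 7`;
* `56`: `|N| = 66`, `3 ∣ |C(P₁₁)|`, so `11 ∣ |N(P₃)|`, `n₃ ∈ {4, 7, 16, 28, 112}`:
  index, Burnside, or (`28`) `11 ∣ |C(P₃)|` and fixed points on `28` points.
-/

set_option autoImplicit false

namespace Cfsg.Agent.Lib.Helper5.O3696

open MulAction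
open Cfsg.Agent.Lib.Helper5.O5040 Cfsg.Agent.Lib.Helper5.OrdKit

theorem arith11 (k : ℕ) (h1 : k ∣ 336) (h2 : k % 11 = 1) (h3 : k ≠ 1) :
    k = 12 ∨ k = 56 := by
  have hle : k ≤ 336 := Nat.le_of_dvd (by norm_num) h1
  obtain ⟨j, rfl⟩ : ∃ j, k = 11 * j + 1 := ⟨k / 11, by omega⟩
  have hj : j ≤ 30 := by omega
  interval_cases j <;> first | omega | (exfalso; revert h1; decide)

theorem arith3 (k n : ℕ) (h1 : k ∣ 1232) (h2 : k % 3 = 1) (h3 : k ≠ 1) (h4 : k * n = 3696)
    (h5 : 11 ∣ n) : k = 4 ∨ k = 7 ∨ k = 16 ∨ k = 28 ∨ k = 112 := by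
  have hle : k ≤ 1232 := Nat.le_of_dvd (by norm_num) h1
  obtain ⟨j, rfl⟩ : ∃ j, k = 3 * j + 1 := ⟨k / 3, by omega⟩
  have hj : j ≤ 410 := by omega
  interval_cases j <;> first | omega | (exfalso; revert h1; decide)

variable {G : Type*} [Group G] [Finite G] [IsSimpleGroup G]

theorem no_simple_3696 (hn : Nat.card G = 3696) : False := by
  have hp11 : Fact (Nat.Prime 11) := ⟨by norm_num⟩
  have hp7 : Fact (Nat.Prime 7) := ⟨by norm_num⟩
  have hp3 : Fact (Nat.Prime 3) := ⟨by norm_num⟩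
  have h2G : 2 < Nat.card G := by rw [hn]; norm_num
  have hlt11 : 11 < Nat.card G := by rw [hn]; norm_num
  have hlt3 : 3 < Nat.card G := by rw [hn]; norm_num
  obtain ⟨P⟩ : Nonempty (Sylow 11 G) := inferInstance
  have hn11 : Nat.card G = 11 * 336 := by rw [hn]
  have hn3 : Nat.card G = 3 * 1232 := by rw [hn]
  have hP := card_sylow_prime 336 hn11 (by norm_num) P
  obtain ⟨k, hk1, hk2, hk3, hk4, hk5⟩ := sylow_count 336 hn11 (by norm_num) (by norm_num) P
  obtain ⟨d, hd, hNC⟩ := card_normalizer_eq_mul P hP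
  have hdle : d ≤ 10 := Nat.le_of_dvd (by norm_num) hd
  rw [hn] at hk4
  rcases arith11 k hk1 hk2 hk3 with rfl | rfl
  · -- `|N| = 308`
    have hN : Nat.card (Subgroup.normalizer ((P : Subgroup G) : Set G)) = 308 := by omega
    rw [hN] at hNC
    have h7C : 7 ∣ Nat.card (Subgroup.centralizer ((P : Subgroup G) : Set G)) := by
      interval_cases d <;> omega
    obtain ⟨f, hf1, hf2, hf3⟩ := k3 P hP hlt11 7 h7C
    rw [hk5] at hf2 hf3
    omega
  · -- `|N| = 66`
    have hN : Nat.card (Subgroup.normalizer ((P : Subgroup G) : Set G)) = 66 := by omega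
    rw [hN] at hNC
    have h3C : 3 ∣ Nat.card (Subgroup.centralizer ((P : Subgroup G) : Set G)) := by
      interval_cases d <;> omega
    obtain ⟨Q, hQc, h11CQ⟩ := exists_sylow_dvd_centralizer P hP 1232 hn3 (by norm_num) h3C
    obtain ⟨k', hk1', hk2', hk3', hk4', hk5'⟩ :=
      sylow_count 1232 hn3 (by norm_num) (by norm_num) Q
    obtain ⟨d', hd', hNC'⟩ := card_normalizer_eq_mul Q hQc
    have hdle' : d' ≤ 2 := Nat.le_of_dvd (by norm_num) hd'
    rw [hn] at hk4'
    have h11N : 11 ∣ Nat.card (Subgroup.normalizer ((Q : Subgroup G) : Set G)) := by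
      rw [hNC']; exact Dvd.dvd.mul_right h11CQ d'
    have hNtop := normalizer_ne_top Q hQc hlt3
    rcases arith3 k' _ hk1' hk2' hk3' hk4' h11N with rfl | rfl | rfl | rfl | rfl
    · have := index_bound h2G _ hNtop 4 hk5'
      rw [hn] at this
      revert this
      decide
    · have := index_bound h2G _ hNtop 7 hk5'
      rw [hn] at this
      revert this
      decide
    · have hN' : Nat.card (Subgroup.normalizer ((Q : Subgroup G) : Set G)) = 231 := by omega
      rw [hN'] at hNC'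
      have hd1 : d' = 1 := by
        interval_cases d' <;> omega
      rw [hd1, mul_one] at hNC'
      exact burnside Q hQc hlt3 (hN'.trans hNC')
    · have hN' : Nat.card (Subgroup.normalizer ((Q : Subgroup G) : Set G)) = 132 := by omega
      rw [hN'] at hNC'
      have h11C : 11 ∣ Nat.card (Subgroup.centralizer ((Q : Subgroup G) : Set G)) := h11CQ
      obtain ⟨f, hf1, hf2, hf3⟩ := k3 Q hQc hlt3 11 h11C
      rw [hk5'] at hf2 hf3
      omega
    · have hN' : Nat.card (Subgroup.normalizer ((Q : Subgroup G) : Set G)) = 33 := by omega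
      rw [hN'] at hNC'
      have hd1 : d' = 1 := by
        interval_cases d' <;> omega
      rw [hd1, mul_one] at hNC'
      exact burnside Q hQc hlt3 (hN'.trans hNC')

end Cfsg.Agent.Lib.Helper5.O3696
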