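import Mathlib
import Cfsg.Agent.Lib.Helper5.Ord2.Kit2

/-!
# No simple group of order `3780 = 2² · 3³ · 5 · 7`

(author: helper5)  `n₇ ∈ {15, 36, 540}`:
* `15`: `|N| = 252`, `3 ∣ |C(P₇)|`, fixed points on `15` points: `≡ 1 mod 7`, `≡ 0 mod 3`;
* `36`: `|N| = 105`, `|C(P₇)| = 35`, so `7 ∣ |N(P₅)|`, `n₅ = 36`, `|N(P₅)| = 105` is odd: Burnside;
* `540`: Burnside.
-/

set_option autoImplicit false

namespace Cfsg.Agent.Lib.Helper5.O3780

open MulAction
open Cfsg.Agent.Lib.Helper5.O5040 Cfsg.Agent.Lib.Helper5.OrdKit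

theorem arith7 (k : ℕ) (h1 : k ∣ 540) (h2 : k % 7 = 1) (h3 : k ≠ 1) :
    k = 15 ∨ k = 36 ∨ k = 540 := by
  have hle : k ≤ 540 := Nat.le_of_dvd (by norm_num) h1
  obtain ⟨j, rfl⟩ : ∃ j, k = 7 * j + 1 := ⟨k / 7, by omega⟩
  have hj : j ≤ 77 := by omega
  interval_cases j <;> first | omega | (exfalso; revert h1; decide)

theorem arith5 (k n : ℕ) (h1 : k ∣ 756) (h2 : k % 5 = 1) (h3 : k ≠ 1) (h4 : k * n = 3780)
    (h5 : 7 ∣ n) : k = 6 ∨ k = 36 := by
  have hle : k ≤ 756 := Nat.le_of_dvd (by norm_num) h1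
  obtain ⟨j, rfl⟩ : ∃ j, k = 5 * j + 1 := ⟨k / 5, by omega⟩
  have hj : j ≤ 151 := by omega
  interval_cases j <;> first | omega | (exfalso; revert h1; decide)

variable {G : Type*} [Group G] [Finite G] [IsSimpleGroup G]

theorem no_simple_3780 (hn : Nat.card G = 3780) : False := by
  have hp7 : Fact (Nat.Prime 7) := ⟨by norm_num⟩
  have hp5 : Fact (Nat.Prime 5) := ⟨by norm_num⟩
  have hp3 : Fact (Nat.Prime 3) := ⟨by norm_num⟩
  have h2G : 2 < Nat.card G := by rw [hn]; norm_num
  have hlt7 : 7 < Nat.card G := by rw [hn]; norm_num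
  have hlt5 : 5 < Nat.card G := by rw [hn]; norm_num
  obtain ⟨P⟩ : Nonempty (Sylow 7 G) := inferInstance
  have hn7 : Nat.card G = 7 * 540 := by rw [hn]
  have hP := card_sylow_prime 540 hn7 (by norm_num) P
  obtain ⟨k, hk1, hk2, hk3, hk4, hk5⟩ := sylow_count 540 hn7 (by norm_num) (by norm_num) P
  obtain ⟨d, hd, hNC⟩ := card_normalizer_eq_mul P hP
  have h7C := dvd_card_centralizer P hP
  rw [hn] at hk4
  rcases arith7 k hk1 hk2 hk3 with rfl | rfl | rfl
  · -- `|N| = 252`
    have hN : Nat.card (Subgroup.normalizer ((P : Subgroup G) : Set G)) = 252 := by omega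
    rw [hN] at hNC
    have h3C : 3 ∣ Nat.card (Subgroup.centralizer ((P : Subgroup G) : Set G)) := by
      have hdle : d ≤ 6 := Nat.le_of_dvd (by norm_num) hd
      interval_cases d <;> omega
    obtain ⟨f, hf1, hf2, hf3⟩ := k3 P hP hlt7 3 h3C
    rw [hk5] at hf2 hf3
    omega
  · -- `|N| = 105`
    have hN : Nat.card (Subgroup.normalizer ((P : Subgroup G) : Set G)) = 105 := by omega
    rw [hN] at hNC
    have hdle : d ≤ 6 := Nat.le_of_dvd (by norm_num) hd
    have hd13 : d = 1 ∨ d = 3 := by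
      interval_cases d <;> omega
    rcases hd13 with rfl | rfl
    · exact burnside P hP hlt7 (by rw [hN, hNC, mul_one])
    · have h5C : 5 ∣ Nat.card (Subgroup.centralizer ((P : Subgroup G) : Set G)) := by omega
      obtain ⟨c, hcC, hc5⟩ := exists_orderOf_of_dvd _ 5 h5C
      obtain ⟨x, hxP, hx1, hx7⟩ := exists_gen P hP
      have hcomm : c * x = x * c := ((Subgroup.mem_centralizer_iff.1 hcC) x hxP).symm
      have hZ : IsPGroup 5 (Subgroup.zpowers c) :=
        IsPGroup.of_card (n := 1) (by rw [Nat.card_zpowers, hc5, pow_one])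
      obtain ⟨Q, hQ⟩ := hZ.exists_le_sylow
      have hn5 : Nat.card G = 5 * 756 := by rw [hn]
      have hQc := card_sylow_prime 756 hn5 (by norm_num) Q
      have heq : Subgroup.zpowers c = (Q : Subgroup G) :=
        Subgroup.eq_of_le_of_card_ge hQ (by rw [hQc, Nat.card_zpowers, hc5])
      have hxCQ : x ∈ Subgroup.centralizer ((Q : Subgroup G) : Set G) := by
        rw [Subgroup.mem_centralizer_iff]
        intro a ha
        rw [← heq] at ha
        obtain ⟨j, rfl⟩ := Subgroup.mem_zpowers_iff.1 ha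
        exact ((Commute.zpow_left (show Commute c x from hcomm) j)).eq
      have hox : orderOf x = 7 := orderOf_eq_prime hx7 hx1
      have h7CQ : 7 ∣ Nat.card (Subgroup.centralizer ((Q : Subgroup G) : Set G)) := by
        have := orderOf_dvd_natCard
          (⟨x, hxCQ⟩ : Subgroup.centralizer ((Q : Subgroup G) : Set G))
        rwa [Subgroup.orderOf_mk, hox] at this
      obtain ⟨k', hk1', hk2', hk3', hk4', hk5'⟩ :=
        sylow_count 756 hn5 (by norm_num) (by norm_num) Q
      obtain ⟨d', hd', hNC'⟩ := card_normalizer_eq_mul Q hQc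
      rw [hn] at hk4'
      have h7N : 7 ∣ Nat.card (Subgroup.normalizer ((Q : Subgroup G) : Set G)) := by
        rw [hNC']; exact Dvd.dvd.mul_right h7CQ d'
      rcases arith5 k' _ hk1' hk2' hk3' hk4' h7N with rfl | rfl
      · have hNtop := normalizer_ne_top Q hQc hlt5
        have := Cfsg.Agent.Lib.Helper4.Simple.two_mul_card_dvd_factorial_of_simple h2G _ hNtop
        rw [hk5', hn] at this
        revert this
        decide
      · have hN' : Nat.card (Subgroup.normalizer ((Q : Subgroup G) : Set G)) = 105 := by omega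
        rw [hN'] at hNC'
        have hdle' : d' ≤ 4 := Nat.le_of_dvd (by norm_num) hd'
        have hd1 : d' = 1 := by
          interval_cases d' <;> omega
        rw [hd1, mul_one] at hNC'
        exact burnside Q hQc hlt5 (by rw [hN', hNC'])
  · -- `|N| = 7`
    have hN : Nat.card (Subgroup.normalizer ((P : Subgroup G) : Set G)) = 7 := by omega
    rw [hN] at hNC
    have hdle : d ≤ 6 := Nat.le_of_dvd (by norm_num) hd
    have hd1 : d = 1 := by
      interval_cases d <;> omega
    rw [hd1, mul_one] at hNC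
    exact burnside P hP hlt7 (hN.trans hNC)

end Cfsg.Agent.Lib.Helper5.O3780
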