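import Mathlib
import Cfsg.Agent.Lib.Helper5.Ord2.Kit4

/-!
# No simple group of order `3960 = 2³ · 3² · 5 · 11`

(author: helper5)  `n₁₁ ∈ {12, 45}`:
* `12`: `|N| = 330`, `3 ∣ |C(P₁₁)|`, fixed points on `12` points: `≡ 1 mod 11`, `≡ 0 mod 3`;
* `45`: `|N| = 88`, `|C| = 44`: an involution `u` central in `N` has `C(u) = N`, exactly one fixed
  point on `G ⧸ C(u)` (`≡ 1 mod 11`, `≡ 1 mod 4`, `< 45`), and `C(u)` contains a Sylow
  `2`-subgroup: Glauberman's `Z*`.
-/

set_option autoImplicit false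

namespace Cfsg.Agent.Lib.Helper5.O3960

open MulAction
open Cfsg.Agent.Lib.Helper5.O5040 Cfsg.Agent.Lib.Helper5.OrdKit

theorem arith11 (k : ℕ) (h1 : k ∣ 360) (h2 : k % 11 = 1) (h3 : k ≠ 1) :
    k = 12 ∨ k = 45 := by
  have hle : k ≤ 360 := Nat.le_of_dvd (by norm_num) h1
  obtain ⟨j, rfl⟩ : ∃ j, k = 11 * j + 1 := ⟨k / 11, by omega⟩
  have hj : j ≤ 32 := by omega
  interval_cases j <;> first | omega | (exfalso; revert h1; decide)

theorem arith45 (j : ℕ) (h1 : j ∣ 45) (h2 : j % 11 = 1) : j = 1 ∨ j = 45 := by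
  have hle : j ≤ 45 := Nat.le_of_dvd (by norm_num) h1
  interval_cases j <;> first | omega | (exfalso; revert h1; decide)

variable {G : Type*} [Group G] [Finite G] [IsSimpleGroup G]

theorem no_simple_3960 (hn : Nat.card G = 3960) : False := by
  have hp11 : Fact (Nat.Prime 11) := ⟨by norm_num⟩
  have hp3 : Fact (Nat.Prime 3) := ⟨by norm_num⟩
  have h2G : 2 < Nat.card G := by rw [hn]; norm_num
  have hnp : ¬ (Nat.card G).Prime := by rw [hn]; norm_num
  have hlt11 : 11 < Nat.card G := by rw [hn]; norm_num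
  obtain ⟨P⟩ : Nonempty (Sylow 11 G) := inferInstance
  have hn11 : Nat.card G = 11 * 360 := by rw [hn]
  have hP := card_sylow_prime 360 hn11 (by norm_num) P
  obtain ⟨k, hk1, hk2, hk3, hk4, hk5⟩ := sylow_count 360 hn11 (by norm_num) (by norm_num) P
  obtain ⟨d, hd, hNC⟩ := card_normalizer_eq_mul P hP
  have hdle : d ≤ 10 := Nat.le_of_dvd (by norm_num) hd
  rw [hn] at hk4
  rcases arith11 k hk1 hk2 hk3 with rfl | rfl
  · -- `|N| = 330`
    have hN : Nat.card (Subgroup.normalizer ((P : Subgroup G) : Set G)) = 330 := by omega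
    rw [hN] at hNC
    have h3C : 3 ∣ Nat.card (Subgroup.centralizer ((P : Subgroup G) : Set G)) := by
      interval_cases d <;> omega
    obtain ⟨f, hf1, hf2, hf3⟩ := k3 P hP hlt11 3 h3C
    rw [hk5] at hf2 hf3
    omega
  · -- `|N| = 88`
    have hN : Nat.card (Subgroup.normalizer ((P : Subgroup G) : Set G)) = 88 := by omega
    rw [hN] at hNC
    have hd12 : d = 1 ∨ d = 2 := by
      interval_cases d <;> omega
    rcases hd12 with rfl | rfl
    · rw [mul_one] at hNC
      exact burnside P hP hlt11 (hN.trans hNC)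
    · have h2C : 2 ∣ Nat.card (Subgroup.centralizer ((P : Subgroup G) : Set G)) := by omega
      obtain ⟨u, hu, huC, hNu⟩ := exists_central_involution (by norm_num) 3 P hP
        (by rw [hN]; norm_num) h2C
      have hCu := centralizer_eq_normalizer hnp P hP
        (by rw [hk5]; exact fun j h1 h2 => arith45 j h1 h2) u hu hNu
      obtain ⟨hf1, hf2, hf3, -⟩ := fix_central hnp h2G P hP u hu huC hNu
      have hidx : (Subgroup.centralizer ({u} : Set G)).index = 45 := by rw [hCu, hk5]
      rw [hidx] at hf2 hf3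
      have hfix : Nat.card (fixedBy (G ⧸ Subgroup.centralizer ({u} : Set G)) u) = 1 := by
        omega
      have hH : Nat.card (Subgroup.centralizer ({u} : Set G)) = 2 ^ 3 * 11 := by
        rw [hCu, hN]; norm_num
      exact false_of_fix_one hnp 3 495 11 (by rw [hn]; norm_num) (by norm_num) u hu hH
        (by norm_num) hfix

end Cfsg.Agent.Lib.Helper5.O3960
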