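import Mathlib
import Cfsg.Agent.Lib.Helper5.Ord2.Kit4

/-!
# No simple group of order `4212 = 2² · 3⁴ · 13`

(author: helper5)  `n₁₃ = 27`, `|N| = 156 = |C| d`, `d ∣ 12`: `d = 1` Burnside; `3 ∣ |C|` or
`2 ∣ |C|`: fixed points on `27` points (`≡ 1 mod 13`, and `≡ 0 mod 3` resp. `≡ 3 mod 4`);
`|C| = 13`: a Sylow `2`-subgroup of `N` is a Klein four-group (S0992) acting faithfully on `P₁₃`,
impossible since `Aut(P₁₃)` is cyclic.
-/

set_option autoImplicit false

namespace Cfsg.Agent.Lib.Helper5.O4212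

open MulAction
open Cfsg.Agent.Lib.Helper5.O5040 Cfsg.Agent.Lib.Helper5.OrdKit

theorem arith13 (k : ℕ) (h1 : k ∣ 324) (h2 : k % 13 = 1) (h3 : k ≠ 1) : k = 27 := by
  have hle : k ≤ 324 := Nat.le_of_dvd (by norm_num) h1
  obtain ⟨j, rfl⟩ : ∃ j, k = 13 * j + 1 := ⟨k / 13, by omega⟩
  have hj : j ≤ 24 := by omega
  interval_cases j <;> first | omega | (exfalso; revert h1; decide)

variable {G : Type*} [Group G] [Finite G] [IsSimpleGroup G]

theorem no_simple_4212 (hn : Nat.card G = 4212) : False := by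
  have hp13 : Fact (Nat.Prime 13) := ⟨by norm_num⟩
  have hp3 : Fact (Nat.Prime 3) := ⟨by norm_num⟩
  have hp2 : Fact (Nat.Prime 2) := ⟨by norm_num⟩
  have h2G : 2 < Nat.card G := by rw [hn]; norm_num
  have hnp : ¬ (Nat.card G).Prime := by rw [hn]; norm_num
  have hlt13 : 13 < Nat.card G := by rw [hn]; norm_num
  obtain ⟨P⟩ : Nonempty (Sylow 13 G) := inferInstance
  have hn13 : Nat.card G = 13 * 324 := by rw [hn]
  have hP := card_sylow_prime 324 hn13 (by norm_num) P
  obtain ⟨k, hk1, hk2, hk3, hk4, hk5⟩ := sylow_count 324 hn13 (by norm_num) (by norm_num) P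
  obtain ⟨d, hd, hNC⟩ := card_normalizer_eq_mul P hP
  have hdle : d ≤ 12 := Nat.le_of_dvd (by norm_num) hd
  rw [hn] at hk4
  obtain rfl := arith13 k hk1 hk2 hk3
  have hN : Nat.card (Subgroup.normalizer ((P : Subgroup G) : Set G)) = 156 := by omega
  rw [hN] at hNC
  have hcases : d = 1 ∨ 3 ∣ Nat.card (Subgroup.centralizer ((P : Subgroup G) : Set G)) ∨
      2 ∣ Nat.card (Subgroup.centralizer ((P : Subgroup G) : Set G)) ∨
      Nat.card (Subgroup.centralizer ((P : Subgroup G) : Set G)) = 13 := by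
    interval_cases d <;> omega
  rcases hcases with rfl | h3C | h2C | hC13
  · rw [mul_one] at hNC
    exact burnside P hP hlt13 (hN.trans hNC)
  · obtain ⟨f, hf1, hf2, hf3⟩ := k3 P hP hlt13 3 h3C
    rw [hk5] at hf2 hf3
    omega
  · obtain ⟨f, hf1, hf2, hf3⟩ := k3_two P hP hlt13 h2G h2C
    rw [hk5] at hf2 hf3
    omega
  · obtain ⟨T, -, hTN, hTcard⟩ := exists_le_card_pow 2
      (Subgroup.normalizer ((P : Subgroup G) : Set G)) 2 39 (by rw [hN]; norm_num)
      (by norm_num) ⊥ bot_le IsPGroup.of_bot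
    have hT4 : Nat.card T = 4 := by rw [hTcard]; norm_num
    have hsq : ∀ t ∈ T, t * t = 1 := fun t ht =>
      sq_eq_one_of_card_four hnp 1053 (by rw [hn]) (by norm_num) T hT4 t ht
    have := two_dvd_card_centralizer_of_sq P hP T hTN hT4 hsq
    rw [hC13] at this
    omega

end Cfsg.Agent.Lib.Helper5.O4212
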