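import Mathlib
import Cfsg.Agent.Lib.Helper4.Sylow
import Cfsg.Agent.Lib.Helper4.Simple
import Cfsg.Agent.Lib.Lead.O4320I
import Cfsg.Agent.S0904

/-!
# Order 4320: proper subgroups have order at most 360

Piece "B" (index `≤ 9`) of the elementary proof that there is no simple group of order `4320`,
combined with the lead's `no_card_432` (index `10`).
-/

set_option autoImplicit false

namespace Cfsg.Agent.Lib.Helper5.O4320

/-- There is no group of order `480` in which every subgroup of order `5` is
self-centralizing: the Sylow `5`-subgroup is then self-normalizing, Burnside gives a normal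
complement `M` of order `96`, and Frattini's argument for a Sylow `3`-subgroup of `M` produces an
element of order `5` centralizing a subgroup of order `3`. -/
theorem no_card_480_abstract {H : Type*} [Group H] [Finite H] (hH : Nat.card H = 480)
    (hC : ∀ Q : Subgroup H, Nat.card Q = 5 → Subgroup.centralizer (Q : Set H) = Q) : False := by
  classical
  have hp5 : Fact (Nat.Prime 5) := ⟨by norm_num⟩
  have hp3 : Fact (Nat.Prime 3) := ⟨by norm_num⟩
  obtain ⟨Q⟩ : Nonempty (Sylow 5 H) := inferInstance
  have hH5 : Nat.card H = 5 ^ 1 * 96 := by rw [hH]; norm_num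
  have hQ : Nat.card (Q : Subgroup H) = 5 := by
    simpa using Cfsg.Agent.Lib.Helper4.Sylow.card_sylow_of_card_eq hH5 (by norm_num) Q
  have hC0 := hC (Q : Subgroup H) hQ
  haveI hcyc : IsCyclic (Q : Subgroup H) := isCyclic_of_prime_card hQ
  have h1 := Cfsg.Agent.Lib.Helper4.Simple.relIndex_centralizer_normalizer_dvd (Q : Subgroup H)
  rw [hcyc.card_mulAut, hQ, Nat.totient_prime hp5.out, hC0] at h1
  have h2 := Cfsg.Agent.Lib.Helper4.Simple.card_mul_relIndex_normalizer (Q : Subgroup H)
  rw [hQ] at h2
  have h3 := Cfsg.Agent.Lib.Helper4.Sylow.card_sylow_mul_card_normalizer Q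
  rw [hH] at h3
  have h4 : Nat.card (Sylow 5 H) ≡ 1 [MOD 5] := card_sylow_modEq_one 5 H
  unfold Nat.ModEq at h4
  have hk1 : (Q : Subgroup H).relIndex (Subgroup.normalizer ((Q : Subgroup H) : Set H)) = 1 := by
    set k := (Q : Subgroup H).relIndex (Subgroup.normalizer ((Q : Subgroup H) : Set H)) with hk
    have hk4 : k ≤ 4 := Nat.le_of_dvd (by norm_num) h1
    rw [← h2] at h3
    interval_cases k
    · simp at h1
    · rfl
    · have : Nat.card (Sylow 5 H) = 48 := by omega
      rw [this] at h4; norm_num at h4
    · norm_num at h1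
    · have : Nat.card (Sylow 5 H) = 24 := by omega
      rw [this] at h4; norm_num at h4
  have hNQ : Subgroup.normalizer ((Q : Subgroup H) : Set H) ≤ (Q : Subgroup H) :=
    Subgroup.relIndex_eq_one.mp hk1
  have hNC : Subgroup.normalizer ((Q : Subgroup H) : Set H) ≤
      Subgroup.centralizer ((Q : Subgroup H) : Set H) := by
    rw [hC0]; exact hNQ
  have hcompl := MonoidHom.ker_transferSylow_isComplement' Q hNC
  set M := (MonoidHom.transferSylow Q hNC).ker with hM
  haveI hMn : M.Normal := MonoidHom.normal_ker _
  have hcard := hcompl.card_mul_card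
  rw [hQ, hH] at hcard
  have hMc : Nat.card M = 96 := by omega
  have hMi : M.index = 5 := by
    have := M.card_mul_index
    rw [hMc, hH] at this
    omega
  -- a Sylow `3`-subgroup lies in `M`
  obtain ⟨T⟩ : Nonempty (Sylow 3 H) := inferInstance
  have hH3 : Nat.card H = 3 ^ 1 * 160 := by rw [hH]; norm_num
  have hT : Nat.card (T : Subgroup H) = 3 := by
    simpa using Cfsg.Agent.Lib.Helper4.Sylow.card_sylow_of_card_eq hH3 (by norm_num) T
  have hTM : (T : Subgroup H) ≤ M := by
    have h5 : M.relIndex (T : Subgroup H) ∣ 5 := by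
      rw [← hMi]; exact Subgroup.relIndex_dvd_index_of_normal M _
    have h6 : M.relIndex (T : Subgroup H) ∣ 3 := by
      have h6' := Subgroup.relIndex_dvd_card M (T : Subgroup H)
      rwa [hT] at h6'
    have h7 : M.relIndex (T : Subgroup H) ∣ Nat.gcd 5 3 := Nat.dvd_gcd h5 h6
    have h7' : Nat.gcd 5 3 = 1 := by norm_num
    rw [h7'] at h7
    exact Subgroup.relIndex_eq_one.mp (Nat.dvd_one.mp h7)
  set N := Subgroup.normalizer ((T : Subgroup H) : Set H) with hN
  have hF : N ⊔ M = ⊤ := T.normalizer_sup_eq_top' hTM
  have h8 : M.relIndex N = 5 := by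
    have h9 := Subgroup.relIndex_sup_right (H := N) (K := M)
    rw [hF, Subgroup.relIndex_top_right, hMi] at h9
    exact h9.symm
  have h10 : 5 ∣ Nat.card N := by
    rw [← h8]; exact Subgroup.relIndex_dvd_card M N
  haveI hcycT : IsCyclic (T : Subgroup H) := isCyclic_of_prime_card hT
  have h11 := Cfsg.Agent.Lib.Helper4.Simple.relIndex_centralizer_normalizer_dvd (T : Subgroup H)
  rw [hcycT.card_mulAut, hT, Nat.totient_prime hp3.out] at h11
  set C := Subgroup.centralizer ((T : Subgroup H) : Set H) with hCdef
  have hCN : C ≤ N := Subgroup.centralizer_le_normalizer _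
  have h12 := Subgroup.relIndex_mul_relIndex (⊥ : Subgroup H) C N bot_le hCN
  rw [Subgroup.relIndex_bot_left, Subgroup.relIndex_bot_left] at h12
  have h13 : 5 ∣ Nat.card C := by
    rw [← h12] at h10
    have hcop : Nat.Coprime 5 (C.relIndex N) := by
      have hle : C.relIndex N ≤ 2 := Nat.le_of_dvd (by norm_num) h11
      have hpos : 0 < C.relIndex N := Nat.pos_of_dvd_of_pos h11 (by norm_num)
      interval_cases (C.relIndex N) <;> norm_num
    exact hcop.dvd_of_dvd_mul_right h10
  obtain ⟨y, hy⟩ := exists_prime_orderOf_dvd_card' (G := C) 5 h13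
  have hy5 : orderOf (y : H) = 5 := by rw [Subgroup.orderOf_coe, hy]
  have hY : Nat.card (Subgroup.zpowers (y : H)) = 5 := by rw [Nat.card_zpowers, hy5]
  have hCY := hC (Subgroup.zpowers (y : H)) hY
  have hTY : (T : Subgroup H) ≤ Subgroup.zpowers (y : H) := by
    rw [← hCY]
    intro t ht
    rw [Subgroup.mem_centralizer_iff]
    intro z hz
    have hz' : z ∈ Subgroup.zpowers (y : H) := hz
    have hyt : (y : H) * t = t * (y : H) := (Subgroup.mem_centralizer_iff.1 y.2 t ht).symm
    have hcomm : Commute t z := by
      obtain ⟨n, rfl⟩ := Subgroup.mem_zpowers_iff.1 hz'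
      exact (Commute.zpow_right (show Commute t (y : H) from hyt.symm) n)
    exact hcomm.eq.symm
  have := Subgroup.card_dvd_of_le hTY
  rw [hT, hY] at this
  norm_num at this

variable {G : Type*} [Group G] [Finite G] [IsSimpleGroup G]

/-- In a simple group of order `4320` every subgroup of order `5` is self-centralizing. -/
theorem centralizer_of_card_five (hn : Nat.card G = 4320) (Q : Subgroup G)
    (hQ : Nat.card Q = 5) : Subgroup.centralizer (Q : Set G) = Q := by
  have hp5 : Fact (Nat.Prime 5) := ⟨by norm_num⟩
  have hQp : IsPGroup 5 Q := IsPGroup.of_card (n := 1) (by rw [hQ]; norm_num)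
  obtain ⟨P, hP⟩ := hQp.exists_le_sylow
  have hG' : Nat.card G = 5 ^ 1 * 864 := by rw [hn]; norm_num
  have hPc : Nat.card (P : Subgroup G) = 5 := by
    simpa using Cfsg.Agent.Lib.Helper4.Sylow.card_sylow_of_card_eq hG' (by norm_num) P
  have hQP : Q = (P : Subgroup G) :=
    Subgroup.eq_of_le_of_card_ge hP (by rw [hPc, hQ])
  have := Cfsg.Agent.S0904.result 2 3 5 5 3 (by norm_num) (by norm_num) (by norm_num)
    (by norm_num) (by norm_num) (by rw [hn]; norm_num) P
  rw [hQP]; exact this

/-- A simple group of order `4320` has no subgroup of order `480` (index `9`). -/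
theorem no_card_480 (hn : Nat.card G = 4320) (K : Subgroup G) (hK : Nat.card K = 480) :
    False := by
  apply no_card_480_abstract (H := K) hK
  intro Q hQ
  have hQ' : Nat.card (Q.map K.subtype) = 5 := by
    rw [Subgroup.card_map_of_injective K.subtype_injective]
    exact hQ
  have h := centralizer_of_card_five hn (Q.map K.subtype) hQ'
  ext c
  constructor
  · intro hc
    have h1 : (c : G) ∈ Subgroup.centralizer ((Q.map K.subtype : Subgroup G) : Set G) := by
      rw [Subgroup.mem_centralizer_iff]
      rintro _ ⟨q, hq, rfl⟩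
      have := Subgroup.mem_centralizer_iff.1 hc q hq
      exact congrArg Subtype.val this
    rw [h] at h1
    obtain ⟨q, hq, hqc⟩ := h1
    have : q = c := Subtype.ext hqc
    rwa [← this]
  · intro hc
    have h1 : (c : G) ∈ Subgroup.centralizer ((Q.map K.subtype : Subgroup G) : Set G) := by
      rw [h]; exact ⟨c, hc, rfl⟩
    rw [Subgroup.mem_centralizer_iff]
    intro q hq
    have := Subgroup.mem_centralizer_iff.1 h1 (q : G) ⟨q, hq, rfl⟩
    exact Subtype.ext this

/-- **Index bound**: in a simple group of order `4320` every proper subgroup has order at most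
`360` (index at least `12`). -/
theorem card_le_360 (hn : Nat.card G = 4320) (K : Subgroup G) (hK : K ≠ ⊤) :
    Nat.card K ≤ 360 := by
  have h1 := Cfsg.Agent.Lib.Helper4.Simple.two_mul_card_dvd_factorial_of_simple
    (by rw [hn]; norm_num) K hK
  have h2 := K.card_mul_index
  rw [hn] at h1 h2
  by_contra hlt
  push Not at hlt
  have hk12 : K.index < 12 := by
    by_contra h
    push Not at h
    have : Nat.card K * 12 ≤ Nat.card K * K.index := Nat.mul_le_mul_left _ h
    omega
  have hkpos : 0 < K.index := by
    rcases Nat.eq_zero_or_pos K.index with h | h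
    · rw [h] at h2; omega
    · exact h
  generalize K.index = k at h1 h2 hk12 hkpos
  interval_cases k
  · revert h1; decide
  · revert h1; decide
  · revert h1; decide
  · revert h1; decide
  · revert h1; decide
  · revert h1; decide
  · revert h1; decide
  · revert h1; decide
  · exact no_card_480 hn K (by omega)
  · exact Cfsg.Agent.Lib.Lead.O4320.no_card_432 hn K (by omega)
  · omega

end Cfsg.Agent.Lib.Helper5.O4320
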