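import Mathlib
import Cfsg.Agent.Lib.Helper5.O4320B
import Cfsg.Agent.Lib.Lead.O4320I3

/-!
# Order 4320: the number of Sylow `3`-subgroups is `40`
-/

set_option autoImplicit false

namespace Cfsg.Agent.Lib.Helper5.O4320

/-- Sylow `5` counting in a group of order `5 * m`, `5 ∤ m`, whose subgroups of order `5` are
self-centralizing: `n₅ * k = m` with `k ∣ 4` and `n₅ ≡ 1 mod 5`. -/
theorem sylow5_count {H : Type*} [Group H] [Finite H] (m : ℕ) (hH : Nat.card H = 5 * m)
    (hm : ¬ 5 ∣ m)
    (hC : ∀ Q : Subgroup H, Nat.card Q = 5 → Subgroup.centralizer (Q : Set H) = Q) :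
    ∃ k, k ∣ 4 ∧ Nat.card (Sylow 5 H) * k = m ∧ Nat.card (Sylow 5 H) % 5 = 1 := by
  classical
  have hp5 : Fact (Nat.Prime 5) := ⟨by norm_num⟩
  obtain ⟨Q⟩ : Nonempty (Sylow 5 H) := inferInstance
  have hH5 : Nat.card H = 5 ^ 1 * m := by rw [hH]; norm_num
  have hQ : Nat.card (Q : Subgroup H) = 5 := by
    simpa using Cfsg.Agent.Lib.Helper4.Sylow.card_sylow_of_card_eq hH5 hm Q
  have hC0 := hC (Q : Subgroup H) hQ
  haveI hcyc : IsCyclic (Q : Subgroup H) := isCyclic_of_prime_card hQ
  have h1 := Cfsg.Agent.Lib.Helper4.Simple.relIndex_centralizer_normalizer_dvd (Q : Subgroup H)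
  rw [hcyc.card_mulAut, hQ, Nat.totient_prime hp5.out, hC0] at h1
  have h2 := Cfsg.Agent.Lib.Helper4.Simple.card_mul_relIndex_normalizer (Q : Subgroup H)
  rw [hQ] at h2
  have h3 := Cfsg.Agent.Lib.Helper4.Sylow.card_sylow_mul_card_normalizer Q
  rw [hH, ← h2] at h3
  have h4 : Nat.card (Sylow 5 H) ≡ 1 [MOD 5] := card_sylow_modEq_one 5 H
  unfold Nat.ModEq at h4
  refine ⟨_, h1, ?_, by simpa using h4⟩
  have h5 : 5 * (Nat.card (Sylow 5 H) *
      (Q : Subgroup H).relIndex (Subgroup.normalizer ((Q : Subgroup H) : Set H))) = 5 * m := by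
    rw [← h3]; ring
  exact Nat.eq_of_mul_eq_mul_left (by norm_num) h5

variable {G : Type*} [Group G] [Finite G] [IsSimpleGroup G]

/-- Subgroups of order `5` of a subgroup `K` of a simple group of order `4320` are
self-centralizing in `K`. -/
theorem centralizer_subgroup_of_card_five (hn : Nat.card G = 4320) (K : Subgroup G)
    (Q : Subgroup K) (hQ : Nat.card Q = 5) : Subgroup.centralizer (Q : Set K) = Q := by
  have hQ' : Nat.card (Q.map K.subtype) = 5 := by
    rw [Subgroup.card_map_of_injective K.subtype_injective]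
    exact hQ
  have h := centralizer_of_card_five hn (Q.map K.subtype) hQ'
  ext c
  constructor
  · intro hc
    have h1 : (c : G) ∈ Subgroup.centralizer ((Q.map K.subtype : Subgroup G) : Set G) := by
      rw [Subgroup.mem_centralizer_iff]
      rintro _ ⟨q, hq, rfl⟩
      have := Subgroup.mem_centralizer_iff.1 hc q hq
      exact congrArg Subtype.val this
    rw [h] at h1
    obtain ⟨q, hq, hqc⟩ := h1
    have : q = c := Subtype.ext hqc
    rwa [← this]
  · intro hc
    have h1 : (c : G) ∈ Subgroup.centralizer ((Q.map K.subtype : Subgroup G) : Set G) := by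
      rw [h]; exact ⟨c, hc, rfl⟩
    rw [Subgroup.mem_centralizer_iff]
    intro q hq
    have := Subgroup.mem_centralizer_iff.1 h1 (q : G) ⟨q, hq, rfl⟩
    exact Subtype.ext this

/-- Sylow `5` counting in a subgroup `K` of order `5 * m` of a simple group of order `4320`. -/
theorem sylow5_count_subgroup (hn : Nat.card G = 4320) (K : Subgroup G) (m : ℕ)
    (hK : Nat.card K = 5 * m) (hm : ¬ 5 ∣ m) :
    ∃ k n, k ∣ 4 ∧ n * k = m ∧ n % 5 = 1 := by
  obtain ⟨k, h1, h2, h3⟩ := sylow5_count (H := K) m hK hm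
    (centralizer_subgroup_of_card_five hn K)
  exact ⟨k, _, h1, h2, h3⟩

/-- A simple group of order `4320` has no subgroup of order `270`. -/
theorem no_card_270 (hn : Nat.card G = 4320) (K : Subgroup G) (hK : Nat.card K = 270) :
    False := by
  obtain ⟨k, n, h1, h2, h3⟩ := sylow5_count_subgroup hn K 54 (by rw [hK]) (by norm_num)
  have hk4 : k ≤ 4 := Nat.le_of_dvd (by norm_num) h1
  interval_cases k
  · omega
  · omega
  · omega
  · norm_num at h1
  · omega

/-- In a simple group of order `4320`, the normalizer of a Sylow `3`-subgroup has order `108`. -/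
theorem card_normalizer_sylow3 (hn : Nat.card G = 4320) (P : Sylow 3 G) :
    Nat.card (Subgroup.normalizer ((P : Subgroup G) : Set G)) = 108 := by
  have hp3 : Fact (Nat.Prime 3) := ⟨by norm_num⟩
  have hG3 : Nat.card G = 3 ^ 3 * 160 := by rw [hn]; norm_num
  have hP : Nat.card (P : Subgroup G) = 27 := by
    simpa using Cfsg.Agent.Lib.Helper4.Sylow.card_sylow_of_card_eq hG3 (by norm_num) P
  have h2 := Cfsg.Agent.Lib.Helper4.Simple.card_mul_relIndex_normalizer (P : Subgroup G)
  rw [hP] at h2
  have h3 := Cfsg.Agent.Lib.Helper4.Sylow.card_sylow_mul_card_normalizer P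
  rw [hn] at h3
  have h4 : Nat.card (Sylow 3 G) ≡ 1 [MOD 3] := card_sylow_modEq_one 3 G
  unfold Nat.ModEq at h4
  have hne1 : Nat.card (Sylow 3 G) ≠ 1 :=
    Cfsg.Agent.Lib.Helper4.Sylow.card_sylow_ne_one_of_simple P (by rw [hP]; norm_num)
      (by rw [hP, hn]; norm_num)
  set N := Subgroup.normalizer ((P : Subgroup G) : Set G) with hN
  have hNtop : N ≠ ⊤ := by
    intro h
    rw [h, Subgroup.card_top, hn] at h3
    have : Nat.card (Sylow 3 G) = 1 := by omega
    exact hne1 this
  have hle := card_le_360 hn N hNtop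
  set k := (P : Subgroup G).relIndex N with hk
  set n := Nat.card (Sylow 3 G) with hn3
  rw [← h2] at h3 hle
  have hk13 : k ≤ 13 := by omega
  have hkpos : 0 < k := by
    rcases Nat.eq_zero_or_pos k with h | h
    · rw [h] at h3; omega
    · exact h
  rw [← h2]
  have hnk : n * k = 160 := by
    have : 27 * (n * k) = 27 * 160 := by
      have h3' : n * (27 * k) = 27 * (n * k) := by ring
      rw [← h3', h3]
    exact Nat.eq_of_mul_eq_mul_left (by norm_num) this
  interval_cases k
  · -- k = 1 : `N(P) = P`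
    exfalso
    have hNP : N ≤ (P : Subgroup G) := by
      have : (P : Subgroup G) = N :=
        Subgroup.eq_of_le_of_card_ge Subgroup.le_normalizer (by rw [hP, ← h2])
      rw [← this]
    exact Cfsg.Agent.Lib.Lead.O4320.no_self_normalizing hn (P : Subgroup G) hP hNP
  · omega
  · omega
  · rfl
  · omega
  · omega
  · omega
  · omega
  · omega
  · -- k = 10 : `|N(P)| = 270`
    exfalso
    exact no_card_270 hn N (by rw [← h2])
  · omega
  · omega
  · omega

/-- A simple group of order `4320` has exactly `40` Sylow `3`-subgroups. -/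
theorem card_sylow3 (hn : Nat.card G = 4320) : Nat.card (Sylow 3 G) = 40 := by
  have hp3 : Fact (Nat.Prime 3) := ⟨by norm_num⟩
  obtain ⟨P⟩ : Nonempty (Sylow 3 G) := inferInstance
  have h3 := Cfsg.Agent.Lib.Helper4.Sylow.card_sylow_mul_card_normalizer P
  rw [hn, card_normalizer_sylow3 hn P] at h3
  omega

end Cfsg.Agent.Lib.Helper5.O4320
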