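import Mathlib
import Cfsg.Agent.Lib.Helper5.O4320D

/-!
# Order 4320: Sylow `3`-subgroups of proper subgroups, intersections of order `9`
-/

set_option autoImplicit false

namespace Cfsg.Agent.Lib.Helper5.O4320

theorem sylow3_arith_fin : ∀ m n : Fin 14, (m : ℕ) ∣ 160 → (n : ℕ) ∣ (m : ℕ) → (n : ℕ) % 3 = 1 →
    (m : ℕ) ≠ 10 → (m : ℕ) ≠ 0 →
    ((n : ℕ) = 1 ∨ ((n : ℕ) = 4 ∧ ((m : ℕ) = 4 ∨ (m : ℕ) = 8))) := by decide

theorem sylow3_arith (m : ℕ) (hm : m < 14) (n : ℕ) (hn : n < 14) (h1 : m ∣ 160) (h2 : n ∣ m)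
    (h3 : n % 3 = 1) (h4 : m ≠ 10) (h5 : m ≠ 0) : (n = 1 ∨ (n = 4 ∧ (m = 4 ∨ m = 8))) :=
  sylow3_arith_fin ⟨m, hm⟩ ⟨n, hn⟩ h1 h2 h3 h4 h5

/-- Sylow `3`-subgroups have order `27`. -/
theorem card_sylow3_eq {G : Type*} [Group G] [Finite G] (hn : Nat.card G = 4320) (P : Sylow 3 G) :
    Nat.card (P : Subgroup G) = 27 := by
  have hp3 : Fact (Nat.Prime 3) := ⟨by norm_num⟩
  have hG3 : Nat.card G = 3 ^ 3 * 160 := by rw [hn]; norm_num
  simpa using Cfsg.Agent.Lib.Helper4.Sylow.card_sylow_of_card_eq hG3 (by norm_num) P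

variable {G : Type*} [Group G] [Finite G] [IsSimpleGroup G]

/-- A proper subgroup containing a Sylow `3`-subgroup has `1` or `4` Sylow `3`-subgroups, and in
the latter case has order `108` or `216`. -/
theorem card_sylow3_subgroup (hn : Nat.card G = 4320) (K : Subgroup G) (hK : K ≠ ⊤)
    (P : Sylow 3 G) (hP : (P : Subgroup G) ≤ K) :
    Nat.card (Sylow 3 K) = 1 ∨
      (Nat.card (Sylow 3 K) = 4 ∧ (Nat.card K = 108 ∨ Nat.card K = 216)) := by
  have hp3 : Fact (Nat.Prime 3) := ⟨by norm_num⟩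
  have hPc := card_sylow3_eq hn P
  have h1 : 27 ∣ Nat.card K := by rw [← hPc]; exact Subgroup.card_dvd_of_le hP
  obtain ⟨m, hm⟩ := h1
  have h2 : Nat.card K ∣ 4320 := by rw [← hn]; exact Subgroup.card_subgroup_dvd_card K
  have h3 := card_le_360 hn K hK
  have hm13 : m < 14 := by omega
  have hmpos : m ≠ 0 := by
    rintro rfl
    have := Nat.card_pos (α := K)
    omega
  have hm160 : m ∣ 160 := by
    rw [hm] at h2
    have h4320 : (4320 : ℕ) = 27 * 160 := by norm_num
    rw [h4320] at h2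
    exact Nat.dvd_of_mul_dvd_mul_left (by norm_num) h2
  have h3m : ¬ 3 ∣ m := by
    intro h
    have := h.trans hm160
    norm_num at this
  have h4 : Nat.card (Sylow 3 K) ≡ 1 [MOD 3] := card_sylow_modEq_one 3 K
  unfold Nat.ModEq at h4
  have h5 : Nat.card (Sylow 3 K) ∣ m :=
    Cfsg.Agent.Lib.Helper4.Sylow.card_sylow_dvd_of_card_eq (p := 3) (a := 3)
      (by rw [hm]; norm_num) h3m
  have hm10 : m ≠ 10 := by
    rintro rfl
    exact no_card_270 hn K (by rw [hm])
  have hn14 : Nat.card (Sylow 3 K) < 14 :=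
    lt_of_le_of_lt (Nat.le_of_dvd (Nat.pos_of_ne_zero hmpos) h5) hm13
  rcases sylow3_arith m hm13 _ hn14 hm160 h5 (by simpa using h4) hm10 hmpos with h | ⟨h, h'⟩
  · exact Or.inl h
  · refine Or.inr ⟨h, ?_⟩
    rcases h' with h' | h' <;> rw [h'] at hm <;> omega

/-- At most four Sylow `3`-subgroups of `G` lie in a given proper subgroup. -/
theorem card_le_four (hn : Nat.card G = 4320) (K : Subgroup G) (hK : K ≠ ⊤)
    (s : Finset (Sylow 3 G)) (hs : ∀ P ∈ s, (P : Subgroup G) ≤ K) : s.card ≤ 4 := by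
  classical
  rcases s.eq_empty_or_nonempty with h | ⟨P, hP⟩
  · simp [h]
  have h1 := card_sylow3_subgroup hn K hK P (hs P hP)
  have hle : Nat.card (Sylow 3 K) ≤ 4 := by
    rcases h1 with h | ⟨h, _⟩ <;> omega
  let f : s → Sylow 3 K := fun Q => (Q : Sylow 3 G).subtype (hs Q Q.2)
  have hf : Function.Injective f := fun Q Q' h => Subtype.ext (Sylow.subtype_injective h)
  have h2 := Nat.card_le_card_of_injective f hf
  rw [Nat.card_eq_fintype_card, Fintype.card_coe] at h2
  omega

/-- There are two Sylow `3`-subgroups meeting in a subgroup of order `9`. -/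
theorem exists_inter_card_nine (hn : Nat.card G = 4320) :
    ∃ P R : Sylow 3 G, P ≠ R ∧ Nat.card ((P : Subgroup G) ⊓ R : Subgroup G) = 9 := by
  have hp3 : Fact (Nat.Prime 3) := ⟨by norm_num⟩
  have h40 := card_sylow3 hn
  obtain ⟨P, R, hPR, hidx⟩ := Cfsg.Agent.Lib.Helper4.Sylow.exists_sylow_index_le (G := G) 3 2
    (by rw [h40]; decide)
  refine ⟨P, R, hPR, ?_⟩
  have h1 := Subgroup.relIndex_mul_relIndex (⊥ : Subgroup G) ((P : Subgroup G) ⊓ R) P bot_le
    inf_le_left
  rw [Subgroup.relIndex_bot_left, Subgroup.relIndex_bot_left, card_sylow3_eq hn P,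
    Subgroup.inf_relIndex_left] at h1
  have h2 : (R : Subgroup G).relIndex P ≤ 3 := by
    have h := hidx
    norm_num at h
    exact h
  have h3 : (R : Subgroup G).relIndex P ≠ 1 := by
    intro h
    have hle : (P : Subgroup G) ≤ R := Subgroup.relIndex_eq_one.mp h
    have : (P : Subgroup G) = R :=
      Subgroup.eq_of_le_of_card_ge hle (by rw [card_sylow3_eq hn P, card_sylow3_eq hn R])
    exact hPR (Sylow.ext this)
  have h4 : 0 < (R : Subgroup G).relIndex P := by
    rcases Nat.eq_zero_or_pos ((R : Subgroup G).relIndex P) with h | h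
    · rw [h] at h1; omega
    · exact h
  generalize (R : Subgroup G).relIndex P = k at h1 h2 h3 h4
  interval_cases k
  · exact absurd rfl h3
  · omega
  · omega

/-- If two Sylow `3`-subgroups meet in a subgroup of order `9`, the intersection is normal in
both. -/
theorem le_normalizer_inter (hn : Nat.card G = 4320) (P R : Sylow 3 G)
    (h9 : Nat.card ((P : Subgroup G) ⊓ R : Subgroup G) = 9) :
    (P : Subgroup G) ≤ Subgroup.normalizer (((P : Subgroup G) ⊓ R : Subgroup G) : Set G) := by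
  have h1 := Subgroup.relIndex_mul_relIndex (⊥ : Subgroup G) ((P : Subgroup G) ⊓ R) P bot_le
    inf_le_left
  rw [Subgroup.relIndex_bot_left, Subgroup.relIndex_bot_left, card_sylow3_eq hn P, h9] at h1
  have h2 : (((P : Subgroup G) ⊓ R : Subgroup G).subgroupOf (P : Subgroup G)).index = 3 := by
    have : ((P : Subgroup G) ⊓ R : Subgroup G).relIndex P = 3 := by omega
    exact this
  have h3 : (((P : Subgroup G) ⊓ R : Subgroup G).subgroupOf (P : Subgroup G)).Normal := by
    apply Subgroup.normal_of_index_eq_minFac_card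
    rw [h2, card_sylow3_eq hn P]
    norm_num
  exact (Subgroup.normal_subgroupOf_iff_le_normalizer inf_le_left).mp h3

theorem le_normalizer_inter' (hn : Nat.card G = 4320) (P R : Sylow 3 G)
    (h9 : Nat.card ((P : Subgroup G) ⊓ R : Subgroup G) = 9) :
    (R : Subgroup G) ≤ Subgroup.normalizer (((P : Subgroup G) ⊓ R : Subgroup G) : Set G) := by
  have := le_normalizer_inter hn R P (by rw [inf_comm]; exact h9)
  rwa [inf_comm] at this

open Pointwise in
/-- Membership in a conjugate Sylow subgroup. -/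
theorem mem_smul_sylow {G : Type*} [Group G] (n : G) (R : Sylow 3 G) (x : G) :
    x ∈ n • R ↔ n⁻¹ * x * n ∈ R := by
  have h : x ∈ n • R ↔ x ∈ ((n • R : Sylow 3 G) : Subgroup G) := Iff.rfl
  rw [h, Sylow.smul_def, Sylow.pointwise_smul_def, Subgroup.mem_pointwise_smul_iff_inv_smul_mem]
  simp only [MulAut.smul_def, MulAut.conj_inv_apply]
  exact Iff.rfl

/-- If a proper subgroup `K` contains `N(P)`, then `P` is the only Sylow `3`-subgroup in `K`. -/
theorem unique_of_normalizer_le (hn : Nat.card G = 4320) (K : Subgroup G) (hK : K ≠ ⊤)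
    (P : Sylow 3 G) (hle : Subgroup.normalizer ((P : Subgroup G) : Set G) ≤ K)
    (Q : Sylow 3 G) (hQ : (Q : Subgroup G) ≤ K) : Q = P := by
  have hp3 : Fact (Nat.Prime 3) := ⟨by norm_num⟩
  have hPK : (P : Subgroup G) ≤ K := Subgroup.le_normalizer.trans hle
  rcases card_sylow3_subgroup hn K hK P hPK with h1 | ⟨h4, hc⟩
  · have hsub : Subsingleton (Sylow 3 K) := (Nat.card_eq_one_iff_unique.mp h1).1
    have : Q.subtype hQ = P.subtype hPK := Subsingleton.elim _ _
    exact Sylow.subtype_injective this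
  · exfalso
    have h5 := Cfsg.Agent.Lib.Helper4.Sylow.card_sylow_mul_card_normalizer (P.subtype hPK)
    rw [h4, Sylow.coe_subtype, ← Subgroup.subgroupOf_normalizer_eq hPK] at h5
    have h6 : Nat.card ((Subgroup.normalizer ((P : Subgroup G) : Set G)).subgroupOf K) = 108 := by
      rw [← card_normalizer_sylow3 hn P]
      exact Nat.card_congr (Subgroup.subgroupOfEquivOfLe hle).toEquiv
    rw [h6] at h5
    rcases hc with hc | hc <;> rw [hc] at h5 <;> omega

theorem inter_normalizer_ne_top (hn : Nat.card G = 4320) (D : Subgroup G)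
    (h9 : Nat.card D = 9) : Subgroup.normalizer (D : Set G) ≠ ⊤ := by
  intro h
  have hnormal : D.Normal := Subgroup.normalizer_eq_top_iff.mp h
  rcases hnormal.eq_bot_or_eq_top with hb | ht
  · rw [hb, Subgroup.card_bot] at h9; omega
  · rw [ht, Subgroup.card_top, hn] at h9; omega

/-- `N(P)` does not normalize `P ⊓ R`. -/
theorem normalizer_not_le (hn : Nat.card G = 4320) (P R : Sylow 3 G) (hPR : P ≠ R)
    (h9 : Nat.card ((P : Subgroup G) ⊓ R : Subgroup G) = 9) :
    ¬ Subgroup.normalizer ((P : Subgroup G) : Set G) ≤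
      Subgroup.normalizer (((P : Subgroup G) ⊓ R : Subgroup G) : Set G) := by
  intro hle
  exact hPR (unique_of_normalizer_le hn _ (inter_normalizer_ne_top hn _ h9) P hle R
    (le_normalizer_inter' hn P R h9)).symm

/-- At most four Sylow `3`-subgroups of `G` lie in a given proper subgroup (`ncard` form). -/
theorem ncard_le_four (hn : Nat.card G = 4320) (K : Subgroup G) (hK : K ≠ ⊤) :
    {Q : Sylow 3 G | (Q : Subgroup G) ≤ K}.ncard ≤ 4 := by
  classical
  have hfin : {Q : Sylow 3 G | (Q : Subgroup G) ≤ K}.Finite := Set.toFinite _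
  rw [Set.ncard_eq_toFinset_card _ hfin]
  apply card_le_four hn K hK
  intro Q hQ
  exact (hfin.mem_toFinset).1 hQ

/-- A proper subgroup containing two distinct Sylow `3`-subgroups of `G` contains exactly four. -/
theorem ncard_eq_four (hn : Nat.card G = 4320) (K : Subgroup G) (hK : K ≠ ⊤)
    (P R : Sylow 3 G) (hPR : P ≠ R) (hP : (P : Subgroup G) ≤ K) (hR : (R : Subgroup G) ≤ K) :
    {Q : Sylow 3 G | (Q : Subgroup G) ≤ K}.ncard = 4 := by
  have hp3 : Fact (Nat.Prime 3) := ⟨by norm_num⟩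
  apply le_antisymm (ncard_le_four hn K hK)
  have h4 : Nat.card (Sylow 3 K) = 4 ∧ (Nat.card K = 108 ∨ Nat.card K = 216) := by
    rcases card_sylow3_subgroup hn K hK P hP with h1 | h
    · exfalso
      have hsub : Subsingleton (Sylow 3 K) := (Nat.card_eq_one_iff_unique.mp h1).1
      exact hPR (Sylow.subtype_injective (Subsingleton.elim (P.subtype hP) (R.subtype hR)))
    · exact h
  obtain ⟨h4, hc⟩ := h4
  have hcardQ : ∀ Q' : Sylow 3 K, Nat.card (Q' : Subgroup K) = 27 := by
    intro Q'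
    rcases hc with hc | hc
    · simpa using Cfsg.Agent.Lib.Helper4.Sylow.card_sylow_of_card_eq (p := 3) (a := 3) (m := 4)
        (by rw [hc]; norm_num) (by norm_num) Q'
    · simpa using Cfsg.Agent.Lib.Helper4.Sylow.card_sylow_of_card_eq (p := 3) (a := 3) (m := 8)
        (by rw [hc]; norm_num) (by norm_num) Q'
  have hcard' : ∀ Q' : Sylow 3 K, Nat.card ((Q' : Subgroup K).map K.subtype) =
      3 ^ (Nat.card G).factorization 3 := by
    intro Q'
    rw [← P.card_eq_multiplicity, card_sylow3_eq hn P,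
      Subgroup.card_map_of_injective K.subtype_injective]
    exact hcardQ Q'
  let f : Sylow 3 K → {Q : Sylow 3 G | (Q : Subgroup G) ≤ K} := fun Q' =>
    ⟨Sylow.ofCard ((Q' : Subgroup K).map K.subtype) (hcard' Q'), by
      show ((Sylow.ofCard _ _ : Sylow 3 G) : Subgroup G) ≤ K
      rw [Sylow.coe_ofCard]; exact Subgroup.map_subtype_le _⟩
  have hf : Function.Injective f := by
    intro Q₁ Q₂ h
    have h1 : ((f Q₁ : Sylow 3 G) : Subgroup G) = ((f Q₂ : Sylow 3 G) : Subgroup G) := by rw [h]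
    simp only [f, Sylow.coe_ofCard] at h1
    exact Sylow.ext (Subgroup.map_injective K.subtype_injective h1)
  have := Nat.card_le_card_of_injective f hf
  rw [h4, Nat.card_coe_set_eq] at this
  exact this

end Cfsg.Agent.Lib.Helper5.O4320
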