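import Mathlib

/-!
# Groups of order 27 (for the order 4320 analysis)
-/

set_option autoImplicit false

namespace Cfsg.Agent.Lib.Helper5.O4320

/-- The centre of a non-abelian group of order `27` is cyclic of order `3`, generated by `z`, and
contains all commutators. -/
theorem center_of_card_27 {T : Type*} [Group T] [Finite T] (hT : Nat.card T = 27)
    (hnab : ¬ ∀ a b : T, a * b = b * a) :
    ∃ z : T, z ≠ 1 ∧ z ^ 3 = 1 ∧ (∀ a : T, a * z = z * a) ∧
      (∀ y : T, (∀ a : T, a * y = y * a) → y ∈ Subgroup.zpowers z) ∧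
      (∀ a b : T, a * b * a⁻¹ * b⁻¹ ∈ Subgroup.zpowers z) := by
  have hp3 : Fact (Nat.Prime 3) := ⟨by norm_num⟩
  have hT3 : Nat.card T = 3 ^ 3 := by rw [hT]; norm_num
  obtain ⟨k, hk0, hk⟩ := IsPGroup.card_center_eq_prime_pow hT3 (by norm_num)
  have hidx := (Subgroup.center T).card_mul_index
  rw [hk, hT] at hidx
  have hk3 : k ≤ 3 := by
    by_contra h
    push Not at h
    have h1 : 3 ^ 4 ≤ 3 ^ k := Nat.pow_le_pow_right (by norm_num) h
    have hpos : 0 < (Subgroup.center T).index := by
      rcases Nat.eq_zero_or_pos (Subgroup.center T).index with h0 | h0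
      · rw [h0] at hidx; omega
      · exact h0
    nlinarith
  have hcard3 : Nat.card (Subgroup.center T) = 3 := by
    interval_cases k
    · simpa using hk
    · exfalso
      have hi : (Subgroup.center T).index = 3 := by omega
      have h3 : Nat.card (T ⧸ Subgroup.center T) = 3 := hi
      haveI : IsCyclic (T ⧸ Subgroup.center T) := isCyclic_of_prime_card h3
      exact hnab (commutative_of_cyclic_center_quotient (QuotientGroup.mk' (Subgroup.center T))
        (by rw [QuotientGroup.ker_mk']))
    · exfalso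
      have h27 : Nat.card (Subgroup.center T) = Nat.card T := by rw [hk, hT]; norm_num
      have htop : Subgroup.center T = ⊤ := (Subgroup.card_eq_iff_eq_top _).mp h27
      apply hnab
      intro a b
      have hb : b ∈ Subgroup.center T := by rw [htop]; exact Subgroup.mem_top b
      exact (Subgroup.mem_center_iff.1 hb a)
  obtain ⟨z₀, hz₀⟩ := exists_prime_orderOf_dvd_card' (G := Subgroup.center T) 3
    (by rw [hcard3])
  have hz3 : orderOf (z₀ : T) = 3 := by rw [Subgroup.orderOf_coe, hz₀]
  have hzp : Subgroup.zpowers (z₀ : T) = Subgroup.center T := by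
    apply Subgroup.eq_of_le_of_card_ge
    · rw [Subgroup.zpowers_le]; exact z₀.2
    · rw [hcard3, Nat.card_zpowers, hz3]
  have hi9 : (Subgroup.center T).index = 9 := by
    have h9 := (Subgroup.center T).card_mul_index
    rw [hcard3, hT] at h9
    omega
  have hq9 : Nat.card (T ⧸ Subgroup.center T) = 3 ^ 2 := by
    have : Nat.card (T ⧸ Subgroup.center T) = 9 := hi9
    rw [this]; norm_num
  have hqcomm := (IsPGroup.isMulCommutative_of_card_eq_prime_sq hq9).is_comm.comm
  refine ⟨(z₀ : T), ?_, ?_, ?_, ?_, ?_⟩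
  · intro h
    rw [h, orderOf_one] at hz3
    omega
  · rw [← hz3]; exact pow_orderOf_eq_one _
  · intro a
    exact Subgroup.mem_center_iff.1 z₀.2 a
  · intro y hy
    rw [hzp, Subgroup.mem_center_iff]
    exact hy
  · intro a b
    rw [hzp, ← QuotientGroup.eq_one_iff]
    simp only [QuotientGroup.mk_mul, QuotientGroup.mk_inv]
    rw [hqcomm (a : T ⧸ Subgroup.center T) (b : T ⧸ Subgroup.center T)]
    group

/-- If `g` inverts two independent elements of an abelian group `D` of order `9`, it inverts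
`D`. -/
theorem inverts_of_two {G : Type*} [Group G] (D : Subgroup G) (hD : Nat.card D = 9)
    (hab : ∀ a ∈ D, ∀ b ∈ D, a * b = b * a) (z z' g : G) (hz : z ∈ D) (hz' : z' ∈ D)
    (hz1 : z ≠ 1) (hzz' : z' ∉ Subgroup.zpowers z)
    (hgz : g * z * g⁻¹ = z⁻¹) (hgz' : g * z' * g⁻¹ = z'⁻¹) :
    ∀ d ∈ D, g * d * g⁻¹ = d⁻¹ := by
  have : Finite D := Nat.finite_of_card_ne_zero (by rw [hD]; norm_num)
  -- the subgroup of inverted elements of `D`
  let I : Subgroup G :=
    { carrier := {d | d ∈ D ∧ g * d * g⁻¹ = d⁻¹}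
      one_mem' := ⟨D.one_mem, by simp⟩
      mul_mem' := by
        rintro a b ⟨ha, ha'⟩ ⟨hb, hb'⟩
        refine ⟨D.mul_mem ha hb, ?_⟩
        have h1 : g * (a * b) * g⁻¹ = (g * a * g⁻¹) * (g * b * g⁻¹) := by group
        rw [h1, ha', hb', mul_inv_rev]
        exact hab _ (D.inv_mem ha) _ (D.inv_mem hb)
      inv_mem' := by
        rintro a ⟨ha, ha'⟩
        refine ⟨D.inv_mem ha, ?_⟩
        have h1 : g * a⁻¹ * g⁻¹ = (g * a * g⁻¹)⁻¹ := by group
        rw [h1, ha'] }
  have hID : I ≤ D := fun d hd => hd.1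
  have hzI : z ∈ I := ⟨hz, hgz⟩
  have hz'I : z' ∈ I := ⟨hz', hgz'⟩
  haveI : Finite I := Finite.of_injective (Subgroup.inclusion hID) (Subgroup.inclusion_injective hID)
  have hdvd : Nat.card I ∣ 9 := by rw [← hD]; exact Subgroup.card_dvd_of_le hID
  have hzpI : Subgroup.zpowers z ≤ I := by rw [Subgroup.zpowers_le]; exact hzI
  have hlt : Nat.card (Subgroup.zpowers z) < Nat.card I := by
    apply lt_of_le_of_ne (Subgroup.card_le_of_le hzpI)
    intro h
    have : Subgroup.zpowers z = I := Subgroup.eq_of_le_of_card_ge hzpI (by rw [h])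
    exact hzz' (by rw [this]; exact hz'I)
  have h2 : 3 ≤ Nat.card (Subgroup.zpowers z) := by
    rw [Nat.card_zpowers]
    have h0 : orderOf z ∣ 9 := by
      rw [← Subgroup.orderOf_mk z hz, ← hD]
      exact orderOf_dvd_natCard _
    have h1 : orderOf z ≠ 1 := by
      intro h; exact hz1 (orderOf_eq_one_iff.mp h)
    have hle : orderOf z ≤ 9 := Nat.le_of_dvd (by norm_num) h0
    have hpos : 0 < orderOf z := Nat.pos_of_dvd_of_pos h0 (by norm_num)
    interval_cases (orderOf z) <;> first | omega | (norm_num at h0)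
  have h9 : Nat.card I = 9 := by
    have hle : Nat.card I ≤ 9 := Nat.le_of_dvd (by norm_num) hdvd
    have h3 : 4 ≤ Nat.card I := by omega
    interval_cases (Nat.card I) <;> first | rfl | (norm_num at hdvd)
  have hIeq : I = D := Subgroup.eq_of_le_of_card_ge hID (by rw [h9, hD])
  intro d hd
  have : d ∈ I := by rw [hIeq]; exact hd
  exact this.2

end Cfsg.Agent.Lib.Helper5.O4320
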