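import Mathlib

/-!
# Two abstract computations for the non-abelian case of order 4320
-/

set_option autoImplicit false

namespace Cfsg.Agent.Lib.Helper5.O4320

/-- The `SL(2,3)` word: if `p` acts on `⟨z, z'⟩` by `z ↦ z`, `z' ↦ z z'` and `r` by `z' ↦ z'`,
`z ↦ z z'⁻¹`, then `(p r p)²` inverts `z` and `z'`. -/
theorem invert_word {G : Type*} [Group G] (z z' p r : G) (hzz : z * z' = z' * z)
    (hpz : p * z * p⁻¹ = z) (hpz' : p * z' * p⁻¹ = z * z')
    (hrz' : r * z' * r⁻¹ = z') (hrz : r * z * r⁻¹ = z * z'⁻¹) :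
    (p * r * p) ^ 2 * z * ((p * r * p) ^ 2)⁻¹ = z⁻¹ ∧
      (p * r * p) ^ 2 * z' * ((p * r * p) ^ 2)⁻¹ = z'⁻¹ := by
  have hφ : ∀ g x : G, MulAut.conj g x = g * x * g⁻¹ := fun g x => MulAut.conj_apply g x
  have hw : MulAut.conj (p * r * p) = MulAut.conj p * MulAut.conj r * MulAut.conj p := by
    simp only [map_mul]
  have h1 : MulAut.conj p z = z := by rw [hφ]; exact hpz
  have h2 : MulAut.conj p z' = z * z' := by rw [hφ]; exact hpz'
  have h3 : MulAut.conj r z' = z' := by rw [hφ]; exact hrz'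
  have h4 : MulAut.conj r z = z * z'⁻¹ := by rw [hφ]; exact hrz
  have hwz : MulAut.conj (p * r * p) z = z'⁻¹ := by
    rw [hw, MulAut.mul_apply, MulAut.mul_apply, h1, h4, map_mul, map_inv, h1, h2]
    calc z * (z * z')⁻¹ = z * (z' * z)⁻¹ := by rw [hzz]
      _ = z'⁻¹ := by group
  have hwz' : MulAut.conj (p * r * p) z' = z := by
    rw [hw, MulAut.mul_apply, MulAut.mul_apply, h2, map_mul, h4, h3, inv_mul_cancel_right, h1]
  have hw2 : MulAut.conj ((p * r * p) ^ 2) = MulAut.conj (p * r * p) * MulAut.conj (p * r * p) := by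
    rw [pow_two, map_mul]
  constructor
  · rw [← hφ, hw2, MulAut.mul_apply, hwz, map_inv, hwz']
  · rw [← hφ, hw2, MulAut.mul_apply, hwz', hwz]

/-- The final commutator computation: an element `t` inverting `a`, inverting `a'` up to the
inner automorphism of `x`, and inverting the central elements `c = [a'⁻¹, x]` and `k = [a, a']`,
forces `k² = 1`. -/
theorem class_two_final {G : Type*} [Group G] (a a' t x c k : G)
    (hk : k = a * a' * a⁻¹ * a'⁻¹) (hka : k * a = a * k) (hka' : k * a' = a' * k)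
    (hc : x * a' * x⁻¹ = a' * c) (hca : c * a = a * c)
    (hta : t * a * t⁻¹ = a⁻¹) (htx : (t * x) * a' * (t * x)⁻¹ = a'⁻¹)
    (htc : t * c * t⁻¹ = c⁻¹) (htk : t * k * t⁻¹ = k⁻¹) : k * k = 1 := by
  have h1 : t * a' * t⁻¹ = a'⁻¹ * c := by
    have e : (t * x) * a' * (t * x)⁻¹ = (t * a' * t⁻¹) * (t * c * t⁻¹) := by
      calc (t * x) * a' * (t * x)⁻¹ = t * (x * a' * x⁻¹) * t⁻¹ := by group
        _ = t * (a' * c) * t⁻¹ := by rw [hc]
        _ = (t * a' * t⁻¹) * (t * c * t⁻¹) := by group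
    rw [htx, htc] at e
    rw [e]
    group
  have h2 : t * k * t⁻¹ = a⁻¹ * a'⁻¹ * a * a' := by
    calc t * k * t⁻¹
        = (t * a * t⁻¹) * (t * a' * t⁻¹) * (t * a * t⁻¹)⁻¹ * (t * a' * t⁻¹)⁻¹ := by
          rw [hk]; group
      _ = a⁻¹ * (a'⁻¹ * c) * (a⁻¹)⁻¹ * (a'⁻¹ * c)⁻¹ := by rw [hta, h1]
      _ = a⁻¹ * a'⁻¹ * (c * a) * c⁻¹ * a' := by group
      _ = a⁻¹ * a'⁻¹ * (a * c) * c⁻¹ * a' := by rw [hca]
      _ = a⁻¹ * a'⁻¹ * a * a' := by group
  have h3 : a⁻¹ * a'⁻¹ * a * a' = k := by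
    have e1 : a * a' = k * a' * a := by rw [hk]; group
    have e2 : a'⁻¹ * k = k * a'⁻¹ := ((Commute.inv_right (show Commute k a' from hka')).eq).symm
    have e3 : a⁻¹ * k = k * a⁻¹ := ((Commute.inv_right (show Commute k a from hka)).eq).symm
    calc a⁻¹ * a'⁻¹ * a * a' = a⁻¹ * a'⁻¹ * (a * a') := by group
      _ = a⁻¹ * a'⁻¹ * (k * a' * a) := by rw [e1]
      _ = a⁻¹ * (a'⁻¹ * k) * a' * a := by group
      _ = a⁻¹ * (k * a'⁻¹) * a' * a := by rw [e2]
      _ = (a⁻¹ * k) * a := by group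
      _ = (k * a⁻¹) * a := by rw [e3]
      _ = k := by group
  have h4 : k = k⁻¹ := (h2.trans h3).symm.trans htk
  exact mul_eq_one_iff_eq_inv.mpr h4

end Cfsg.Agent.Lib.Helper5.O4320
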