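import Mathlib
import Cfsg.Agent.Lib.Helper5.O4320E
import Cfsg.Agent.Lib.Helper5.O4320F
import Cfsg.Agent.Lib.Helper5.O4320F2

/-!
# Order 4320: structure of a non-abelian Sylow `3`-subgroup inside `G`
-/

set_option autoImplicit false

namespace Cfsg.Agent.Lib.Helper5.O4320

variable {G : Type*} [Group G] [Finite G] [IsSimpleGroup G]

/-- The centre of a non-abelian Sylow `3`-subgroup `P`, as elements of `G`. -/
theorem exists_center_gen (hn : Nat.card G = 4320) (P : Sylow 3 G)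
    (hnab : ¬ ∀ a ∈ P, ∀ b ∈ P, a * b = b * a) :
    ∃ z : G, z ∈ P ∧ z ≠ 1 ∧ z ^ 3 = 1 ∧ (∀ a ∈ P, a * z = z * a) ∧
      (∀ y ∈ P, (∀ a ∈ P, a * y = y * a) → y ∈ Subgroup.zpowers z) ∧
      (∀ a ∈ P, ∀ b ∈ P, a * b * a⁻¹ * b⁻¹ ∈ Subgroup.zpowers z) := by
  have hT : Nat.card (P : Subgroup G) = 27 := card_sylow3_eq hn P
  have hnab' : ¬ ∀ a b : (P : Subgroup G), a * b = b * a := by
    intro h
    apply hnab
    intro a ha b hb
    exact congrArg Subtype.val (h ⟨a, ha⟩ ⟨b, hb⟩)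
  obtain ⟨z₀, h1, h2, h3, h4, h5⟩ := center_of_card_27 hT hnab'
  have hzp : ∀ y : (P : Subgroup G), y ∈ Subgroup.zpowers z₀ →
      (y : G) ∈ Subgroup.zpowers (z₀ : G) := by
    intro y hy
    obtain ⟨i, hi⟩ := Subgroup.mem_zpowers_iff.1 hy
    exact Subgroup.mem_zpowers_iff.2 ⟨i, by rw [← hi]; simp⟩
  refine ⟨(z₀ : G), z₀.2, ?_, ?_, ?_, ?_, ?_⟩
  · intro h
    exact h1 (Subtype.ext h)
  · have := congrArg Subtype.val h2
    simpa using this
  · intro a ha
    exact congrArg Subtype.val (h3 ⟨a, ha⟩)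
  · intro y hy hyc
    exact hzp ⟨y, hy⟩ (h4 ⟨y, hy⟩ (fun a => Subtype.ext (hyc a a.2)))
  · intro a ha b hb
    exact hzp _ (h5 ⟨a, ha⟩ ⟨b, hb⟩)

/-- An element of order `3`. -/
theorem orderOf_eq_three {G : Type*} [Group G] (z : G) (hz1 : z ≠ 1) (hz3 : z ^ 3 = 1) :
    orderOf z = 3 := by
  have hp3 : Fact (Nat.Prime 3) := ⟨by norm_num⟩
  exact orderOf_eq_prime hz3 hz1

/-- `N(Z(P)) ≤ N(P)` for a non-abelian Sylow `3`-subgroup `P` with centre `⟨z⟩`. -/
theorem normalizer_zpowers_le (hn : Nat.card G = 4320) (P : Sylow 3 G) (z : G) (hz : z ∈ P)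
    (hz1 : z ≠ 1) (hz3 : z ^ 3 = 1) (hzc : ∀ a ∈ P, a * z = z * a)
    (hzy : ∀ y ∈ P, (∀ a ∈ P, a * y = y * a) → y ∈ Subgroup.zpowers z) :
    Subgroup.normalizer ((Subgroup.zpowers z : Subgroup G) : Set G) ≤
      Subgroup.normalizer ((P : Subgroup G) : Set G) := by
  have hp3 : Fact (Nat.Prime 3) := ⟨by norm_num⟩
  set K := Subgroup.normalizer ((Subgroup.zpowers z : Subgroup G) : Set G) with hKdef
  have hK : K ≠ ⊤ := by
    intro h
    have hnormal : (Subgroup.zpowers z).Normal := Subgroup.normalizer_eq_top_iff.mp h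
    have hc : Nat.card (Subgroup.zpowers z) = 3 := by
      rw [Nat.card_zpowers, orderOf_eq_three z hz1 hz3]
    rcases hnormal.eq_bot_or_eq_top with hb | ht
    · rw [hb, Subgroup.card_bot] at hc; omega
    · rw [ht, Subgroup.card_top, hn] at hc; omega
  -- conjugation by elements of `N(P)` preserves `⟨z⟩`
  have hconj : ∀ u ∈ Subgroup.normalizer ((P : Subgroup G) : Set G),
      ∀ h ∈ Subgroup.zpowers z, u * h * u⁻¹ ∈ Subgroup.zpowers z := by
    intro u hu h hh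
    have hu' : ∀ x, x ∈ (P : Subgroup G) ↔ u * x * u⁻¹ ∈ (P : Subgroup G) :=
      fun x => (Subgroup.mem_normalizer_iff.1 hu x)
    have huz : u * z * u⁻¹ ∈ Subgroup.zpowers z := by
      apply hzy _ ((hu' z).1 hz)
      intro a ha
      have ha' : u⁻¹ * a * u ∈ (P : Subgroup G) := by
        rw [hu' (u⁻¹ * a * u)]
        have : u * (u⁻¹ * a * u) * u⁻¹ = a := by group
        rw [this]; exact ha
      have h1 := hzc _ ha'
      calc a * (u * z * u⁻¹) = u * ((u⁻¹ * a * u) * z) * u⁻¹ := by group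
        _ = u * (z * (u⁻¹ * a * u)) * u⁻¹ := by rw [h1]
        _ = u * z * u⁻¹ * a := by group
    obtain ⟨i, rfl⟩ := Subgroup.mem_zpowers_iff.1 hh
    have : u * z ^ i * u⁻¹ = (u * z * u⁻¹) ^ i := by
      rw [← MulAut.conj_apply, map_zpow, MulAut.conj_apply]
    rw [this]
    exact Subgroup.zpow_mem _ huz i
  have hle : Subgroup.normalizer ((P : Subgroup G) : Set G) ≤ K := by
    intro y hy
    rw [hKdef, Subgroup.mem_normalizer_iff]
    intro h
    constructor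
    · intro hh
      exact hconj y hy h hh
    · intro hh
      have := hconj y⁻¹ (Subgroup.inv_mem _ hy) _ hh
      have e : y⁻¹ * (y * h * y⁻¹) * y⁻¹⁻¹ = h := by group
      rwa [e] at this
  intro g hg
  have hQ : ((g • P : Sylow 3 G) : Subgroup G) ≤ K := by
    intro x hx
    have hx' : g⁻¹ * x * g ∈ P := (mem_smul_sylow g P x).1 hx
    have h1 : g⁻¹ * x * g ∈ K := hle (Subgroup.le_normalizer hx')
    have : x = g * (g⁻¹ * x * g) * g⁻¹ := by group
    rw [this]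
    exact K.mul_mem (K.mul_mem hg h1) (K.inv_mem hg)
  have := unique_of_normalizer_le hn K hK P hle (g • P) hQ
  exact Sylow.smul_eq_iff_mem_normalizer.1 this

/-- A subgroup of order `9` is abelian. -/
theorem abelian_of_card_nine {G : Type*} [Group G] (E : Subgroup G) (hE : Nat.card E = 9) :
    ∀ a ∈ E, ∀ b ∈ E, a * b = b * a := by
  have hp3 : Fact (Nat.Prime 3) := ⟨by norm_num⟩
  have h9 : Nat.card E = 3 ^ 2 := by rw [hE]; norm_num
  have hc := (IsPGroup.isMulCommutative_of_card_eq_prime_sq h9).is_comm.comm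
  intro a ha b hb
  exact congrArg Subtype.val (hc ⟨a, ha⟩ ⟨b, hb⟩)

/-- A subgroup containing a subgroup `E ≤ P` of order `9` and an element of `P` outside `E`
contains `P`. -/
theorem le_of_card_nine_lt {G : Type*} [Group G] [Finite G] (hn : Nat.card G = 4320)
    (P : Sylow 3 G) (E : Subgroup G)
    (hEP : E ≤ P) (hE : Nat.card E = 9) (x : G) (hxP : x ∈ P) (hxE : x ∉ E) (M : Subgroup G)
    (hEM : E ≤ M) (hxM : x ∈ M) : (P : Subgroup G) ≤ M := by
  have h1 : M ⊓ P ≤ P := inf_le_right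
  have hEle : E ≤ M ⊓ P := le_inf hEM hEP
  have h2 : Nat.card (M ⊓ (P : Subgroup G) : Subgroup G) ∣ 27 := by
    rw [← card_sylow3_eq hn P]; exact Subgroup.card_dvd_of_le h1
  have h3 : 9 ∣ Nat.card (M ⊓ (P : Subgroup G) : Subgroup G) := by
    rw [← hE]; exact Subgroup.card_dvd_of_le hEle
  have h4 : Nat.card (M ⊓ (P : Subgroup G) : Subgroup G) ≠ 9 := by
    intro h
    have : E = M ⊓ (P : Subgroup G) := Subgroup.eq_of_le_of_card_ge hEle (by rw [h, hE])
    apply hxE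
    rw [this]
    exact ⟨hxM, hxP⟩
  have h5 : Nat.card (M ⊓ (P : Subgroup G) : Subgroup G) = 27 := by
    obtain ⟨m, hm⟩ := h3
    rw [hm] at h2 h4 ⊢
    have h27 : (27 : ℕ) = 9 * 3 := by norm_num
    rw [h27] at h2
    have hm3 : m ∣ 3 := Nat.dvd_of_mul_dvd_mul_left (by norm_num : 0 < 9) h2
    have hmle : m ≤ 3 := Nat.le_of_dvd (by norm_num) hm3
    interval_cases m
    · simp at hm3
    · simp at h4
    · norm_num at hm3
    · rfl
  have h6 : M ⊓ (P : Subgroup G) = P :=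
    Subgroup.eq_of_le_of_card_ge h1 (by rw [h5, card_sylow3_eq hn P])
  rw [← h6]
  exact inf_le_left

/-- An element of `P` commuting with a non-central element `e` of an order-`9` subgroup `E` lies in
`E`. -/
theorem mem_of_commute (hn : Nat.card G = 4320) (P : Sylow 3 G) (z : G)
    (hzy : ∀ y ∈ P, (∀ a ∈ P, a * y = y * a) → y ∈ Subgroup.zpowers z)
    (E : Subgroup G) (hEP : E ≤ P) (hE : Nat.card E = 9) (e : G) (he : e ∈ E)
    (hez : e ∉ Subgroup.zpowers z) (x : G) (hxP : x ∈ P) (hxe : x * e = e * x) : x ∈ E := by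
  by_contra hxE
  have hEab := abelian_of_card_nine E hE
  have hle : (P : Subgroup G) ≤ Subgroup.centralizer {e} := by
    apply le_of_card_nine_lt hn P E hEP hE x hxP hxE
    · intro b hb
      rw [Subgroup.mem_centralizer_singleton_iff]
      exact hEab b hb e he
    · rw [Subgroup.mem_centralizer_singleton_iff]
      exact hxe
  apply hez
  apply hzy e (hEP he)
  intro a ha
  exact Subgroup.mem_centralizer_singleton_iff.1 (hle ha)

/-- The centre `⟨z⟩` of a non-abelian Sylow `3`-subgroup lies in each of its subgroups of order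
`9`. -/
theorem center_mem_of_card_nine (hn : Nat.card G = 4320) (P : Sylow 3 G) (z : G) (hz : z ∈ P)
    (hz1 : z ≠ 1) (hz3 : z ^ 3 = 1) (hzc : ∀ a ∈ P, a * z = z * a)
    (hzy : ∀ y ∈ P, (∀ a ∈ P, a * y = y * a) → y ∈ Subgroup.zpowers z)
    (E : Subgroup G) (hEP : E ≤ P) (hE : Nat.card E = 9) : z ∈ E := by
  by_contra hzE
  have hEab := abelian_of_card_nine E hE
  have hcen : ∀ e ∈ E, ∀ a ∈ P, a * e = e * a := by
    intro e he a ha
    have hle : (P : Subgroup G) ≤ Subgroup.centralizer {e} := by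
      apply le_of_card_nine_lt hn P E hEP hE z hz hzE
      · intro b hb
        rw [Subgroup.mem_centralizer_singleton_iff]
        exact hEab b hb e he
      · rw [Subgroup.mem_centralizer_singleton_iff]
        exact (hzc e (hEP he)).symm
    exact Subgroup.mem_centralizer_singleton_iff.1 (hle ha)
  have hEz : E ≤ Subgroup.zpowers z := fun e he => hzy e (hEP he) (hcen e he)
  have := Subgroup.card_le_of_le hEz
  rw [hE, Nat.card_zpowers, orderOf_eq_three z hz1 hz3] at this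
  omega

/-- Elements of `⟨z⟩` for `z` of order `3`. -/
theorem mem_zpowers_three {G : Type*} [Group G] (z : G) (hz1 : z ≠ 1) (hz3 : z ^ 3 = 1) (k : G)
    (hk : k ∈ Subgroup.zpowers z) : k = 1 ∨ k = z ∨ k = z ^ 2 := by
  obtain ⟨i, rfl⟩ := Subgroup.mem_zpowers_iff.1 hk
  have h3 := orderOf_eq_three z hz1 hz3
  have hmod : z ^ (i % 3) = z ^ i := by
    have := zpow_mod_orderOf z i
    rwa [h3] at this
  have h0 : 0 ≤ i % 3 := Int.emod_nonneg i (by norm_num)
  have h1 : i % 3 < 3 := Int.emod_lt_of_pos i (by norm_num)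
  rw [← hmod]
  have : i % 3 = 0 ∨ i % 3 = 1 ∨ i % 3 = 2 := by omega
  rcases this with h | h | h <;> rw [h]
  · left; simp
  · right; left; simp
  · right; right
    exact zpow_ofNat z 2

/-- The "transvection" in `P`: there is `p ∈ P` with `p z' p⁻¹ = z z'`. -/
theorem exists_p (hn : Nat.card G = 4320) (P : Sylow 3 G) (z : G)
    (hz1 : z ≠ 1) (hz3 : z ^ 3 = 1) (hzc : ∀ a ∈ P, a * z = z * a)
    (hzy : ∀ y ∈ P, (∀ a ∈ P, a * y = y * a) → y ∈ Subgroup.zpowers z)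
    (hcomm : ∀ a ∈ P, ∀ b ∈ P, a * b * a⁻¹ * b⁻¹ ∈ Subgroup.zpowers z)
    (E : Subgroup G) (hEP : E ≤ P) (hE : Nat.card E = 9) (z' : G) (hz' : z' ∈ E)
    (hz'z : z' ∉ Subgroup.zpowers z) :
    ∃ p ∈ P, p * z * p⁻¹ = z ∧ p * z' * p⁻¹ = z * z' := by
  have hex : ∃ p₀ ∈ P, p₀ ∉ E := by
    by_contra h
    push Not at h
    have hle : (P : Subgroup G) ≤ E := fun x hx => h x hx
    have := Subgroup.card_le_of_le hle
    rw [card_sylow3_eq hn P, hE] at this
    omega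
  obtain ⟨p₀, hp₀, hp₀E⟩ := hex
  have hcen : ∀ p ∈ P, p * z * p⁻¹ = z := by
    intro p hp
    rw [hzc p hp]; group
  have hk := hcomm p₀ hp₀ z' (hEP hz')
  have hk1 : p₀ * z' * p₀⁻¹ * z'⁻¹ ≠ 1 := by
    intro h
    apply hp₀E
    apply mem_of_commute hn P z hzy E hEP hE z' hz' hz'z p₀ hp₀
    calc p₀ * z' = (p₀ * z' * p₀⁻¹ * z'⁻¹) * z' * p₀ := by group
      _ = z' * p₀ := by rw [h, one_mul]
  rcases mem_zpowers_three z hz1 hz3 _ hk with h | h | h
  · exact absurd h hk1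
  · refine ⟨p₀, hp₀, hcen p₀ hp₀, ?_⟩
    calc p₀ * z' * p₀⁻¹ = (p₀ * z' * p₀⁻¹ * z'⁻¹) * z' := by group
      _ = z * z' := by rw [h]
  · refine ⟨p₀ * p₀, (P : Subgroup G).mul_mem hp₀ hp₀, hcen _ ((P : Subgroup G).mul_mem hp₀ hp₀), ?_⟩
    have h1 : p₀ * z' * p₀⁻¹ = z ^ 2 * z' := by
      calc p₀ * z' * p₀⁻¹ = (p₀ * z' * p₀⁻¹ * z'⁻¹) * z' := by group
        _ = z ^ 2 * z' := by rw [h]
    have h2 : p₀ * z ^ 2 * p₀⁻¹ = z ^ 2 := by
      calc p₀ * z ^ 2 * p₀⁻¹ = (p₀ * z * p₀⁻¹) * (p₀ * z * p₀⁻¹) := by rw [pow_two]; group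
        _ = z ^ 2 := by rw [hcen p₀ hp₀, pow_two]
    calc p₀ * p₀ * z' * (p₀ * p₀)⁻¹ = p₀ * (p₀ * z' * p₀⁻¹) * p₀⁻¹ := by group
      _ = p₀ * (z ^ 2 * z') * p₀⁻¹ := by rw [h1]
      _ = (p₀ * z ^ 2 * p₀⁻¹) * (p₀ * z' * p₀⁻¹) := by group
      _ = z ^ 2 * (z ^ 2 * z') := by rw [h2, h1]
      _ = z ^ 3 * z * z' := by group
      _ = z * z' := by rw [hz3, one_mul]

end Cfsg.Agent.Lib.Helper5.O4320
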