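import Mathlib
import Cfsg.Agent.Lib.Helper5.O4320G

/-!
# Order 4320: the non-abelian case
-/

set_option autoImplicit false

namespace Cfsg.Agent.Lib.Helper5.O4320

variable {G : Type*} [Group G] [Finite G] [IsSimpleGroup G]

/-- `N(P)/P` has order `4`, hence is abelian: commutators of elements of `N(P)` lie in `P`. -/
theorem comm_mem_of_normalizer (hn : Nat.card G = 4320) (P : Sylow 3 G) (u v : G)
    (hu : u ∈ Subgroup.normalizer ((P : Subgroup G) : Set G))
    (hv : v ∈ Subgroup.normalizer ((P : Subgroup G) : Set G)) :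
    u * v * u⁻¹ * v⁻¹ ∈ P := by
  have hp2 : Fact (Nat.Prime 2) := ⟨Nat.prime_two⟩
  set N := Subgroup.normalizer ((P : Subgroup G) : Set G) with hN
  haveI : ((P : Subgroup G).subgroupOf N).Normal := Subgroup.normal_in_normalizer
  have hidx : ((P : Subgroup G).subgroupOf N).index = 4 := by
    have h1 := ((P : Subgroup G).subgroupOf N).card_mul_index
    have h2 : Nat.card ((P : Subgroup G).subgroupOf N) = 27 := by
      rw [← card_sylow3_eq hn P]
      exact Nat.card_congr (Subgroup.subgroupOfEquivOfLe Subgroup.le_normalizer).toEquiv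
    rw [h2, card_normalizer_sylow3 hn P] at h1
    omega
  have hq : Nat.card (N ⧸ (P : Subgroup G).subgroupOf N) = 2 ^ 2 := by
    have : Nat.card (N ⧸ (P : Subgroup G).subgroupOf N) = 4 := hidx
    rw [this]; norm_num
  have hc := (IsPGroup.isMulCommutative_of_card_eq_prime_sq hq).is_comm.comm
  have h3 : ((⟨u, hu⟩ : N) * ⟨v, hv⟩ * (⟨u, hu⟩ : N)⁻¹ * (⟨v, hv⟩ : N)⁻¹) ∈
      (P : Subgroup G).subgroupOf N := by
    rw [← QuotientGroup.eq_one_iff]
    simp only [QuotientGroup.mk_mul, QuotientGroup.mk_inv]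
    rw [hc (QuotientGroup.mk (⟨u, hu⟩ : N)) (QuotientGroup.mk (⟨v, hv⟩ : N))]
    group
  have h4 : u * v * u⁻¹ * v⁻¹ ∈ (P : Subgroup G) := by
    simpa [Subgroup.mem_subgroupOf] using h3
  exact h4

/-- Elements of `⟨z⟩` commute with everything `z` commutes with. -/
theorem zpowers_comm {G : Type*} [Group G] (z w b : G) (hw : w ∈ Subgroup.zpowers z)
    (hb : b * z = z * b) : w * b = b * w := by
  obtain ⟨i, rfl⟩ := Subgroup.mem_zpowers_iff.1 hw
  exact ((Commute.zpow_right (show Commute b z from hb) i).eq).symm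

/-- An element inverting `z` inverts `⟨z⟩`. -/
theorem zpowers_inv {G : Type*} [Group G] (z w g : G) (hw : w ∈ Subgroup.zpowers z)
    (hg : g * z * g⁻¹ = z⁻¹) : g * w * g⁻¹ = w⁻¹ := by
  obtain ⟨i, rfl⟩ := Subgroup.mem_zpowers_iff.1 hw
  rw [← MulAut.conj_apply, map_zpow, MulAut.conj_apply, hg, inv_zpow]

/-- A subgroup of a group `D` of order `9` containing `z ≠ 1` and `z' ∉ ⟨z⟩` is `D`. -/
theorem eq_of_two_mem {G : Type*} [Group G] (D : Subgroup G) (hD : Nat.card D = 9)
    (I : Subgroup G) (hID : I ≤ D) (z z' : G) (hzI : z ∈ I) (hz'I : z' ∈ I)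
    (hz1 : z ≠ 1) (hzz' : z' ∉ Subgroup.zpowers z) : I = D := by
  have : Finite D := Nat.finite_of_card_ne_zero (by rw [hD]; norm_num)
  have hz : z ∈ D := hID hzI
  have : Finite I := Finite.of_injective (Subgroup.inclusion hID) (Subgroup.inclusion_injective hID)
  have hdvd : Nat.card I ∣ 9 := by rw [← hD]; exact Subgroup.card_dvd_of_le hID
  have hzpI : Subgroup.zpowers z ≤ I := by rw [Subgroup.zpowers_le]; exact hzI
  have hlt : Nat.card (Subgroup.zpowers z) < Nat.card I := by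
    apply lt_of_le_of_ne (Subgroup.card_le_of_le hzpI)
    intro h
    have : Subgroup.zpowers z = I := Subgroup.eq_of_le_of_card_ge hzpI (by rw [h])
    exact hzz' (by rw [this]; exact hz'I)
  have h2 : 3 ≤ Nat.card (Subgroup.zpowers z) := by
    rw [Nat.card_zpowers]
    have h0 : orderOf z ∣ 9 := by
      rw [← Subgroup.orderOf_mk z hz, ← hD]
      exact orderOf_dvd_natCard _
    have h1 : orderOf z ≠ 1 := by
      intro h; exact hz1 (orderOf_eq_one_iff.mp h)
    have hle : orderOf z ≤ 9 := Nat.le_of_dvd (by norm_num) h0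
    have hpos : 0 < orderOf z := Nat.pos_of_dvd_of_pos h0 (by norm_num)
    interval_cases (orderOf z) <;> first | omega | (norm_num at h0)
  have h9 : Nat.card I = 9 := by
    have hle : Nat.card I ≤ 9 := Nat.le_of_dvd (by norm_num) hdvd
    have h3 : 4 ≤ Nat.card I := by omega
    interval_cases (Nat.card I) <;> first | rfl | (norm_num at hdvd)
  exact Subgroup.eq_of_le_of_card_ge hID (by rw [h9, hD])

/-- **The non-abelian case**: two non-abelian Sylow `3`-subgroups of a simple group of order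
`4320` cannot meet in a subgroup of order `9`. -/
theorem nonabelian_case (hn : Nat.card G = 4320) (P R : Sylow 3 G) (hPR : P ≠ R)
    (h9 : Nat.card ((P : Subgroup G) ⊓ R : Subgroup G) = 9)
    (hnabP : ¬ ∀ a ∈ P, ∀ b ∈ P, a * b = b * a)
    (hnabR : ¬ ∀ a ∈ R, ∀ b ∈ R, a * b = b * a) : False := by
  set D : Subgroup G := (P : Subgroup G) ⊓ R with hDdef
  have hDP : D ≤ (P : Subgroup G) := inf_le_left
  have hDR : D ≤ (R : Subgroup G) := inf_le_right
  obtain ⟨z, hzP, hz1, hz3, hzc, hzy, hcomm⟩ := exists_center_gen hn P hnabP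
  obtain ⟨z', hz'R, hz'1, hz'3, hz'c, hz'y, hcomm'⟩ := exists_center_gen hn R hnabR
  have hzD : z ∈ D := center_mem_of_card_nine hn P z hzP hz1 hz3 hzc hzy D hDP h9
  have hz'D : z' ∈ D := center_mem_of_card_nine hn R z' hz'R hz'1 hz'3 hz'c hz'y D hDR h9
  have hDab := abelian_of_card_nine D h9
  have hzz'comm : z * z' = z' * z := hDab z hzD z' hz'D
  have hNP := normalizer_zpowers_le hn P z hzP hz1 hz3 hzc hzy
  have hNR := normalizer_zpowers_le hn R z' hz'R hz'1 hz'3 hz'c hz'y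
  have hcz : Nat.card (Subgroup.zpowers z) = 3 := by
    rw [Nat.card_zpowers, orderOf_eq_three z hz1 hz3]
  have hcz' : Nat.card (Subgroup.zpowers z') = 3 := by
    rw [Nat.card_zpowers, orderOf_eq_three z' hz'1 hz'3]
  have hNPtop : Subgroup.normalizer ((P : Subgroup G) : Set G) ≠ ⊤ := by
    intro h
    have := card_normalizer_sylow3 hn P
    rw [h, Subgroup.card_top, hn] at this
    omega
  -- the two centres are different
  have hne : Subgroup.zpowers z' ≠ Subgroup.zpowers z := by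
    intro h
    have hRle : (R : Subgroup G) ≤ Subgroup.normalizer ((P : Subgroup G) : Set G) := by
      intro x hx
      apply hNP
      rw [← h]
      apply Subgroup.mem_normalizer_fintype
      intro w hw
      have hw' : w ∈ Subgroup.zpowers z' := hw
      have : x * w * x⁻¹ = w := by
        have := zpowers_comm z' w x hw' (hz'c x hx)
        rw [← this]; group
      rw [this]; exact hw
    exact hPR (unique_of_normalizer_le hn _ hNPtop P le_rfl R hRle).symm
  have hz'z : z' ∉ Subgroup.zpowers z := by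
    intro h
    apply hne
    apply Subgroup.eq_of_le_of_card_ge
    · rw [Subgroup.zpowers_le]; exact h
    · rw [hcz, hcz']
  have hzz' : z ∉ Subgroup.zpowers z' := by
    intro h
    apply hne
    symm
    apply Subgroup.eq_of_le_of_card_ge
    · rw [Subgroup.zpowers_le]; exact h
    · rw [hcz, hcz']
  -- the transvections
  obtain ⟨p, hpP, hpz, hpz'⟩ := exists_p hn P z hz1 hz3 hzc hzy hcomm D hDP h9 z' hz'D hz'z
  obtain ⟨r₀, hr₀R, hr₀z', hr₀z⟩ :=
    exists_p hn R z' hz'1 hz'3 hz'c hz'y hcomm' D hDR h9 z hzD hzz'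
  have hrz' : r₀⁻¹ * z' * r₀⁻¹⁻¹ = z' := by
    calc r₀⁻¹ * z' * r₀⁻¹⁻¹ = r₀⁻¹ * (r₀ * z' * r₀⁻¹) * r₀ := by rw [hr₀z']; group
      _ = z' := by group
  have hrz : r₀⁻¹ * z * r₀⁻¹⁻¹ = z * z'⁻¹ := by
    have e : r₀ * (z * z'⁻¹) * r₀⁻¹ = z := by
      calc r₀ * (z * z'⁻¹) * r₀⁻¹ = (r₀ * z * r₀⁻¹) * (r₀ * z' * r₀⁻¹)⁻¹ := by group
        _ = z' * z * z'⁻¹ := by rw [hr₀z, hr₀z']
        _ = z * z' * z'⁻¹ := by rw [hzz'comm]
        _ = z := by group
    calc r₀⁻¹ * z * r₀⁻¹⁻¹ = r₀⁻¹ * (r₀ * (z * z'⁻¹) * r₀⁻¹) * r₀ := by rw [e]; group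
      _ = z * z'⁻¹ := by group
  obtain ⟨hgz, hgz'⟩ := invert_word z z' p r₀⁻¹ hzz'comm hpz hpz' hrz' hrz
  set g := (p * r₀⁻¹ * p) ^ 2 with hg
  -- `g` normalizes `P`
  have hgN : g ∈ Subgroup.normalizer ((P : Subgroup G) : Set G) := by
    apply hNP
    apply Subgroup.mem_normalizer_fintype
    intro w hw
    have hw' : w ∈ Subgroup.zpowers z := hw
    rw [zpowers_inv z w g hw' hgz]
    exact Subgroup.inv_mem _ hw'
  -- an element of `N(P)` outside `N(D)`
  obtain ⟨n, hnN, hnD⟩ := SetLike.not_le_iff_exists.1 (normalizer_not_le hn P R hPR h9)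
  have hnP : ∀ x, x ∈ (P : Subgroup G) ↔ n * x * n⁻¹ ∈ (P : Subgroup G) :=
    fun x => Subgroup.mem_normalizer_iff.1 hnN x
  set x := g⁻¹ * n * g⁻¹⁻¹ * n⁻¹ with hx
  have hxP : x ∈ P :=
    comm_mem_of_normalizer hn P g⁻¹ n (Subgroup.inv_mem _ hgN) hnN
  have hgx : g * x = n * g * n⁻¹ := by rw [hx]; group
  set a' := n * z' * n⁻¹ with ha'
  have ha'P : a' ∈ P := (hnP z').1 (hDP hz'D)
  have hz'P : z' ∈ P := hDP hz'D
  set c := a'⁻¹ * x * a' * x⁻¹ with hc
  have hcZ : c ∈ Subgroup.zpowers z := by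
    have := hcomm a'⁻¹ (Subgroup.inv_mem _ ha'P) x hxP
    rwa [inv_inv] at this
  set k := z' * a' * z'⁻¹ * a'⁻¹ with hk
  have hkZ : k ∈ Subgroup.zpowers z := hcomm z' hz'P a' ha'P
  have hkk : k * k = 1 := by
    apply class_two_final z' a' g x c k hk
    · exact zpowers_comm z k z' hkZ (hzc z' hz'P)
    · exact zpowers_comm z k a' hkZ (hzc a' ha'P)
    · rw [hc]; group
    · exact zpowers_comm z c z' hcZ (hzc z' hz'P)
    · exact hgz'
    · rw [hgx, ha']
      calc n * g * n⁻¹ * (n * z' * n⁻¹) * (n * g * n⁻¹)⁻¹ = n * (g * z' * g⁻¹) * n⁻¹ := by group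
        _ = (n * z' * n⁻¹)⁻¹ := by rw [hgz']; group
    · exact zpowers_inv z c g hcZ hgz
    · exact zpowers_inv z k g hkZ hgz
  have hk1 : k = 1 := by
    have hk3 : k ^ 3 = 1 := by
      obtain ⟨i, hi⟩ := Subgroup.mem_zpowers_iff.1 hkZ
      rw [← hi, ← zpow_natCast, ← zpow_mul, mul_comm, zpow_mul, zpow_natCast, hz3, one_zpow]
    calc k = k ^ 3 * (k * k)⁻¹ := by group
      _ = 1 := by rw [hk3, hkk]; simp
  -- so `a'` commutes with `z'`, hence lies in `D`
  have ha'D : a' ∈ D := by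
    apply mem_of_commute hn P z hzy D hDP h9 z' hz'D hz'z a' ha'P
    have : z' * a' = k * a' * z' := by rw [hk]; group
    rw [this, hk1, one_mul]
  -- hence `n` normalizes `D`
  apply hnD
  apply Subgroup.mem_normalizer_fintype
  intro d hd
  have hd' : d ∈ D := hd
  -- the subgroup of elements of `D` conjugated into `D` by `n`
  let I : Subgroup G :=
    { carrier := {d | d ∈ D ∧ n * d * n⁻¹ ∈ D}
      one_mem' := ⟨D.one_mem, by simp [D.one_mem]⟩
      mul_mem' := by
        rintro a b ⟨ha, ha'⟩ ⟨hb, hb'⟩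
        refine ⟨D.mul_mem ha hb, ?_⟩
        have h1 : n * (a * b) * n⁻¹ = (n * a * n⁻¹) * (n * b * n⁻¹) := by group
        rw [h1]; exact D.mul_mem ha' hb'
      inv_mem' := by
        rintro a ⟨ha, ha'⟩
        refine ⟨D.inv_mem ha, ?_⟩
        have h1 : n * a⁻¹ * n⁻¹ = (n * a * n⁻¹)⁻¹ := by group
        rw [h1]; exact D.inv_mem ha' }
  have hID : I ≤ D := fun d hd => hd.1
  have hzI : z ∈ I := by
    refine ⟨hzD, ?_⟩
    -- `n z n⁻¹` is central in `P`, hence in `⟨z⟩ ≤ D`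
    have hnz : n * z * n⁻¹ ∈ Subgroup.zpowers z := by
      apply hzy _ ((hnP z).1 hzP)
      intro b hb
      have hb' : n⁻¹ * b * n ∈ (P : Subgroup G) := by
        rw [hnP (n⁻¹ * b * n)]
        have : n * (n⁻¹ * b * n) * n⁻¹ = b := by group
        rw [this]; exact hb
      have h1 := hzc _ hb'
      calc b * (n * z * n⁻¹) = n * ((n⁻¹ * b * n) * z) * n⁻¹ := by group
        _ = n * (z * (n⁻¹ * b * n)) * n⁻¹ := by rw [h1]
        _ = n * z * n⁻¹ * b := by group
    have hzpD : Subgroup.zpowers z ≤ D := by rw [Subgroup.zpowers_le]; exact hzD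
    exact hzpD hnz
  have hz'I : z' ∈ I := ⟨hz'D, ha'D⟩
  have hIeq := eq_of_two_mem D h9 I hID z z' hzI hz'I hz1 hz'z
  have : d ∈ I := by rw [hIeq]; exact hd'
  exact this.2

end Cfsg.Agent.Lib.Helper5.O4320
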