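import Mathlib
import Cfsg.Agent.Lib.Helper5.O4320H

/-!
# Order 4320: the abelian case and the final theorem
-/

set_option autoImplicit false

namespace Cfsg.Agent.Lib.Helper5.O4320

/-- Commutativity transfers between Sylow subgroups (they are conjugate). -/
theorem abelian_conj {G : Type*} [Group G] [Finite G] (P R : Sylow 3 G)
    (hab : ∀ a ∈ P, ∀ b ∈ P, a * b = b * a) : ∀ a ∈ R, ∀ b ∈ R, a * b = b * a := by
  have hp3 : Fact (Nat.Prime 3) := ⟨by norm_num⟩
  obtain ⟨g, hg⟩ := MulAction.exists_smul_eq G P R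
  intro a ha b hb
  rw [← hg] at ha hb
  have ha' := (mem_smul_sylow g P a).1 ha
  have hb' := (mem_smul_sylow g P b).1 hb
  have h := hab _ ha' _ hb'
  calc a * b = g * ((g⁻¹ * a * g) * (g⁻¹ * b * g)) * g⁻¹ := by group
    _ = g * ((g⁻¹ * b * g) * (g⁻¹ * a * g)) * g⁻¹ := by rw [h]
    _ = b * a := by group

variable {G : Type*} [Group G] [Finite G] [IsSimpleGroup G]

/-- The centralizer of a non-trivial `3`-element is a proper subgroup. -/
theorem centralizer_ne_top (hn : Nat.card G = 4320) (d : G) (hd1 : d ≠ 1)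
    (hd : orderOf d ∣ 27) : Subgroup.centralizer ({d} : Set G) ≠ ⊤ := by
  intro h
  have hcen : ∀ x : G, x * d = d * x := by
    intro x
    have : x ∈ Subgroup.centralizer ({d} : Set G) := by rw [h]; exact Subgroup.mem_top x
    exact Subgroup.mem_centralizer_singleton_iff.1 this
  have hnormal : (Subgroup.zpowers d).Normal := by
    constructor
    intro w hw x
    have : x * w * x⁻¹ = w := by
      obtain ⟨i, rfl⟩ := Subgroup.mem_zpowers_iff.1 hw
      have := (Commute.zpow_right (show Commute x d from hcen x) i).eq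
      rw [this]; group
    rw [this]; exact hw
  have hc : Nat.card (Subgroup.zpowers d) = orderOf d := Nat.card_zpowers d
  rcases hnormal.eq_bot_or_eq_top with hb | ht
  · apply hd1
    have : d ∈ Subgroup.zpowers d := Subgroup.mem_zpowers d
    rw [hb] at this
    exact Subgroup.mem_bot.1 this
  · rw [ht, Subgroup.card_top, hn] at hc
    rw [← hc] at hd
    norm_num at hd

/-- **The abelian case**: two abelian Sylow `3`-subgroups of a simple group of order `4320`
cannot meet in a subgroup of order `9`. -/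
theorem abelian_case (hn : Nat.card G = 4320) (P R : Sylow 3 G) (hPR : P ≠ R)
    (h9 : Nat.card ((P : Subgroup G) ⊓ R : Subgroup G) = 9)
    (hab : ∀ Q : Sylow 3 G, ∀ a ∈ Q, ∀ b ∈ Q, a * b = b * a) : False := by
  have hp3 : Fact (Nat.Prime 3) := ⟨by norm_num⟩
  set D : Subgroup G := (P : Subgroup G) ⊓ R with hDdef
  have hDP : D ≤ (P : Subgroup G) := inf_le_left
  have hDR : D ≤ (R : Subgroup G) := inf_le_right
  set K := Subgroup.normalizer (D : Set G) with hKdef
  have hKtop : K ≠ ⊤ := inter_normalizer_ne_top hn D h9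
  have hPK : (P : Subgroup G) ≤ K := le_normalizer_inter hn P R h9
  have hRK : (R : Subgroup G) ≤ K := le_normalizer_inter' hn P R h9
  obtain ⟨n, hnN, hnD⟩ := SetLike.not_le_iff_exists.1 (normalizer_not_le hn P R hPR h9)
  have hnP : ∀ x, x ∈ (P : Subgroup G) ↔ n * x * n⁻¹ ∈ (P : Subgroup G) :=
    fun x => Subgroup.mem_normalizer_iff.1 hnN x
  -- the conjugate `D' = n D n⁻¹`
  set D' : Subgroup G := D.map (MulAut.conj n).toMonoidHom with hD'def
  have hD'mem : ∀ x, x ∈ D' ↔ n⁻¹ * x * n ∈ D := by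
    intro x
    rw [hD'def, Subgroup.mem_map]
    constructor
    · rintro ⟨y, hy, rfl⟩
      have : n⁻¹ * ((MulAut.conj n).toMonoidHom y) * n = y := by
        simp [MulAut.conj_apply]; group
      rw [this]; exact hy
    · intro hx
      refine ⟨n⁻¹ * x * n, hx, ?_⟩
      simp [MulAut.conj_apply]; group
  have hD'card : Nat.card D' = 9 := by
    rw [hD'def, Subgroup.card_map_of_injective (MulAut.conj n).injective, h9]
  have hD'P : D' ≤ (P : Subgroup G) := by
    intro x hx
    have h1 := hDP ((hD'mem x).1 hx)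
    have h2 := (hnP _).1 h1
    have : n * (n⁻¹ * x * n) * n⁻¹ = x := by group
    rwa [this] at h2
  -- `D ⊓ D'` is non-trivial
  have hcardP := card_sylow3_eq hn P
  have hidx : D'.relIndex D ≤ 3 := by
    have h1 : D'.relIndex (P : Subgroup G) = 3 := by
      have := Subgroup.relIndex_mul_relIndex (⊥ : Subgroup G) D' P bot_le hD'P
      rw [Subgroup.relIndex_bot_left, Subgroup.relIndex_bot_left, hD'card, hcardP] at this
      omega
    have := Subgroup.relIndex_le_of_le_right (H := D') hDP (by rw [h1]; norm_num)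
    rwa [h1] at this
  have hinf : 3 ≤ Nat.card (D ⊓ D' : Subgroup G) := by
    have h1 := Subgroup.relIndex_mul_relIndex (⊥ : Subgroup G) (D ⊓ D') D bot_le inf_le_left
    rw [Subgroup.relIndex_bot_left, Subgroup.relIndex_bot_left, h9,
      Subgroup.inf_relIndex_left] at h1
    nlinarith
  obtain ⟨d, hdmem, hd1⟩ : ∃ d ∈ (D ⊓ D' : Subgroup G), d ≠ 1 := by
    by_contra h
    push Not at h
    have hbot : (D ⊓ D' : Subgroup G) = ⊥ := (Subgroup.eq_bot_iff_forall _).2 h
    rw [hbot, Subgroup.card_bot] at hinf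
    omega
  have hdD : d ∈ D := hdmem.1
  have hdD' : d ∈ D' := hdmem.2
  have hdord : orderOf d ∣ 27 := by
    rw [← hcardP, ← Subgroup.orderOf_mk d (hDP hdD)]
    exact orderOf_dvd_natCard _
  set C := Subgroup.centralizer ({d} : Set G) with hCdef
  have hCtop : C ≠ ⊤ := centralizer_ne_top hn d hd1 hdord
  have hQC : ∀ Q : Sylow 3 G, d ∈ Q → (Q : Subgroup G) ≤ C := by
    intro Q hdQ x hx
    rw [hCdef, Subgroup.mem_centralizer_singleton_iff]
    exact hab Q x hx d hdQ
  -- every Sylow subgroup inside `K = N(D)` contains `D`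
  have hDQ : ∀ Q : Sylow 3 G, (Q : Subgroup G) ≤ K → D ≤ (Q : Subgroup G) := by
    intro Q hQK
    have hDp : IsPGroup 3 D := IsPGroup.of_card (n := 2) (by rw [h9]; norm_num)
    have hsup : IsPGroup 3 ((Q : Subgroup G) ⊔ D : Subgroup G) :=
      IsPGroup.to_sup_of_normal_right' Q.2 hDp hQK
    have := Q.is_maximal' hsup le_sup_left
    rw [← this]
    exact le_sup_right
  have hsub : {Q : Sylow 3 G | (Q : Subgroup G) ≤ K} ⊆ {Q : Sylow 3 G | (Q : Subgroup G) ≤ C} := by
    intro Q hQ
    exact hQC Q (hDQ Q hQ hdD)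
  have h4K := ncard_eq_four hn K hKtop P R hPR hPK hRK
  have h4C := ncard_le_four hn C hCtop
  have heq : {Q : Sylow 3 G | (Q : Subgroup G) ≤ K} = {Q : Sylow 3 G | (Q : Subgroup G) ≤ C} :=
    Set.eq_of_subset_of_ncard_le hsub (by rw [h4K]; exact h4C) (Set.toFinite _)
  -- the conjugate `R' = n R n⁻¹` contains `d`, hence lies in `K`, hence contains `D`
  have hdR' : d ∈ (n • R : Sylow 3 G) := by
    rw [mem_smul_sylow]
    exact hDR ((hD'mem d).1 hdD')
  have hR'K : ((n • R : Sylow 3 G) : Subgroup G) ≤ K := by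
    have : (n • R : Sylow 3 G) ∈ {Q : Sylow 3 G | (Q : Subgroup G) ≤ C} := hQC _ hdR'
    rw [← heq] at this
    exact this
  have hDR' := hDQ _ hR'K
  -- so `n⁻¹` normalizes `D`
  apply hnD
  have hninv : n⁻¹ ∈ K := by
    rw [hKdef]
    apply Subgroup.mem_normalizer_fintype
    intro e he
    have he' : e ∈ D := he
    have h1 : n⁻¹ * e * n ∈ (R : Subgroup G) := (mem_smul_sylow n R e).1 (hDR' he')
    have h2 : n⁻¹ * e * n ∈ (P : Subgroup G) := by
      rw [hnP]
      have : n * (n⁻¹ * e * n) * n⁻¹ = e := by group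
      rw [this]; exact hDP he'
    have : n⁻¹ * e * n⁻¹⁻¹ = n⁻¹ * e * n := by group
    rw [this]
    exact ⟨h2, h1⟩
  have := K.inv_mem hninv
  rwa [inv_inv] at this

/-- **There is no simple group of order `4320`.** -/
theorem no_simple_4320 (hn : Nat.card G = 4320) : False := by
  obtain ⟨P, R, hPR, h9⟩ := exists_inter_card_nine hn
  by_cases hab : ∀ a ∈ P, ∀ b ∈ P, a * b = b * a
  · exact abelian_case hn P R hPR h9 (fun Q => abelian_conj P Q hab)
  · have habR : ¬ ∀ a ∈ R, ∀ b ∈ R, a * b = b * a := fun h => hab (abelian_conj R P h)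
    exact nonabelian_case hn P R hPR h9 hab habR

end Cfsg.Agent.Lib.Helper5.O4320
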