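import Mathlib
import Cfsg.Agent.Lib.Helper5.Ord2.Kit4
import Cfsg.Agent.Lib.Helper8.SylKill
import Cfsg.Agent.Lib.Helper7.O5940

/-!
# No simple group of order 4680

`4680 = 2^3 * 3^2 * 5 * 13`.  `n_13 = 40`, `|N(P_13)| = 117`; an element `c` of order `3`
centralizing `P_13` fixes `1 mod 13` and `40 mod 3` of the `40` cosets of `N = N(P_13)`, hence
exactly one.  So `N` controls the fusion of `c`; for a Sylow `3`-subgroup `Q ∋ c` (abelian of
order `9`) this gives `Q ≤ N(Q) ≤ N`, and `|N(Q)| ∈ {9, 117}`.  If `9`, Burnside's transfer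
theorem applies; if `117`, `P_13` and `Q` normalize each other, hence commute, so
`117 ∣ |C(P_13)|` and Burnside's transfer theorem applies to `P_13`.
-/

set_option autoImplicit false
set_option linter.style.haveILetI false

namespace Cfsg.Agent.Lib.Helper5.O4680

open MulAction Cfsg.Agent.Lib.Helper5.OrdKit Cfsg.Agent.Lib.Helper5.O5040

variable {G : Type*} [Group G] [Finite G] [IsSimpleGroup G]

theorem no_simple_4680 (hn : Nat.card G = 4680) : False := by
  haveI h13 : Fact (Nat.Prime 13) := ⟨by norm_num⟩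
  haveI h3 : Fact (Nat.Prime 3) := ⟨by norm_num⟩
  obtain ⟨P⟩ : Nonempty (Sylow 13 G) := inferInstance
  have hn' : Nat.card G = 13 * 360 := by rw [hn]
  have hP : Nat.card (P : Subgroup G) = 13 := card_sylow_prime 360 hn' (by norm_num) P
  obtain ⟨k, hk1, hk2, hk3, hk4, hk5⟩ := sylow_count 360 hn' (by norm_num) (by norm_num) P
  have hk40 : k = 40 := by
    have hkle : k ≤ 360 := Nat.le_of_dvd (by norm_num) hk1
    obtain ⟨j, rfl⟩ : ∃ j, k = 13 * j + 1 := ⟨k / 13, by omega⟩
    have hj : j ≤ 27 := by omega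
    interval_cases j <;> first | omega | (exfalso; revert hk1; decide)
  subst hk40
  obtain ⟨N, hNdef⟩ : ∃ N : Subgroup G, N = Subgroup.normalizer ((P : Subgroup G) : Set G) :=
    ⟨_, rfl⟩
  rw [← hNdef] at hk4 hk5
  have hN : Nat.card N = 117 := by rw [hn] at hk4; omega
  have hlt : 13 < Nat.card G := by rw [hn]; norm_num
  have hNtop : N ≠ ⊤ := by rw [hNdef]; exact normalizer_ne_top P hP hlt
  -- an element of order 3 centralizing `P`
  obtain ⟨c, hc, hcomm⟩ := Cfsg.Agent.Lib.Helper8.SylKill.exists_centralizing (q := 3) P hP 2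
    (by rw [← hNdef, hN]; norm_num) (by norm_num)
  have hc3 : c ^ 3 = 1 := by rw [← hc]; exact pow_orderOf_eq_one c
  have hc1 : c ≠ 1 := by
    intro h; rw [h, orderOf_one] at hc; norm_num at hc
  have hcN : c ∈ N := by
    rw [hNdef]
    apply Subgroup.centralizer_le_normalizer
    rw [Subgroup.mem_centralizer_iff]
    intro x hx
    exact (hcomm x hx).symm
  obtain ⟨x, hx, hx1, hxp⟩ := exists_gen P hP
  have h1 : Nat.card (fixedBy (G ⧸ N) x) = 1 :=
    card_fixedBy_eq_one_of_le 13 P hP N (by rw [hNdef]) x hx hx1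
  have hmod1 : Nat.card (fixedBy (G ⧸ N) c) ≡ 1 [MOD 13] :=
    card_fixedBy_modEq_one 13 x c hxp (hcomm x hx) h1
  have hmod2 : Nat.card (fixedBy (G ⧸ N) c) ≡ Nat.card (G ⧸ N) [MOD 3] :=
    card_fixedBy_modEq_card 3 c hc3
  have hle : Nat.card (fixedBy (G ⧸ N) c) ≤ Nat.card (G ⧸ N) :=
    Nat.card_le_card_of_injective _ Subtype.val_injective
  have hcard : Nat.card (G ⧸ N) = 40 := hk5
  rw [hcard] at hmod2 hle
  unfold Nat.ModEq at hmod1 hmod2
  have hf : Nat.card (fixedBy (G ⧸ N) c) = 1 ∨ Nat.card (fixedBy (G ⧸ N) c) = 40 := by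
    omega
  rcases hf with hf | hf
  swap
  · exact hc1 (eq_one_of_card_fixedBy_eq N hNtop c (by rw [hf, hcard]))
  -- fusion control
  have hfus : ∀ g : G, g * c * g⁻¹ ∈ N → g ∈ N := fun g hg =>
    Cfsg.Agent.Lib.Helper7.O5940.mem_of_conj_mem_of_card_fixedBy_eq_one N c hcN hf g hg
  -- a Sylow 3-subgroup containing `c`
  have hZ : IsPGroup 3 (Subgroup.zpowers c) :=
    IsPGroup.of_card (n := 1) (by rw [Nat.card_zpowers, hc, pow_one])
  obtain ⟨Q, hQ⟩ := hZ.exists_le_sylow
  have hcQ : c ∈ (Q : Subgroup G) := hQ (Subgroup.mem_zpowers c)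
  have hQc : Nat.card (Q : Subgroup G) = 3 ^ 2 :=
    Cfsg.Agent.Lib.Helper4.Sylow.card_sylow_of_card_eq (m := 520) (by rw [hn]; norm_num) (by norm_num) Q
  have hQcomm : ∀ a b : (Q : Subgroup G), a * b = b * a :=
    IsPGroup.commutative_of_card_eq_prime_sq hQc
  have hQcomm' : ∀ a ∈ (Q : Subgroup G), ∀ b ∈ (Q : Subgroup G), a * b = b * a := by
    intro a ha b hb
    exact congrArg Subtype.val (hQcomm ⟨a, ha⟩ ⟨b, hb⟩)
  have hQN : (Q : Subgroup G) ≤ N := by
    intro g hg
    apply hfus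
    rw [hQcomm' g hg c hcQ, mul_inv_cancel_right]
    exact hcN
  have hNQN : Subgroup.normalizer ((Q : Subgroup G) : Set G) ≤ N := by
    intro g hg
    apply hfus
    exact hQN ((Subgroup.mem_normalizer_iff.1 hg c).1 hcQ)
  have hd1 : 9 ∣ Nat.card (Subgroup.normalizer ((Q : Subgroup G) : Set G)) := by
    have := Subgroup.card_dvd_of_le (Subgroup.le_normalizer (H := (Q : Subgroup G)))
    rwa [hQc] at this
  have hd2 : Nat.card (Subgroup.normalizer ((Q : Subgroup G) : Set G)) ∣ 117 := by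
    have := Subgroup.card_dvd_of_le hNQN
    rwa [hN] at this
  have hcases : Nat.card (Subgroup.normalizer ((Q : Subgroup G) : Set G)) = 9 ∨
      Nat.card (Subgroup.normalizer ((Q : Subgroup G) : Set G)) = 117 := by
    obtain ⟨e, he⟩ := hd1
    rw [he] at hd2 ⊢
    have he13 : e ∣ 13 := by
      have : 9 * e ∣ 9 * 13 := hd2
      exact Nat.dvd_of_mul_dvd_mul_left (by norm_num) this
    rcases (Nat.dvd_prime (by norm_num : Nat.Prime 13)).1 he13 with rfl | rfl
    · left; rfl
    · right; rfl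
  rcases hcases with h9 | h117
  · -- `N(Q) = Q`: Burnside
    have heq : (Q : Subgroup G) = Subgroup.normalizer ((Q : Subgroup G) : Set G) :=
      Subgroup.eq_of_le_of_card_ge Subgroup.le_normalizer (by rw [h9, hQc]; norm_num)
    apply Cfsg.Agent.Lib.Helper4.Simple.false_of_simple_of_normalizer_le_centralizer Q
    · intro g hg
      rw [← heq] at hg
      rw [Subgroup.mem_centralizer_iff]
      intro h hh
      exact hQcomm' h hh g hg
    · show Nat.card (Q : Subgroup G) ≠ 1
      rw [hQc]; norm_num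
    · show Nat.card (Q : Subgroup G) ≠ Nat.card G
      rw [hQc, hn]; norm_num
  · -- `N(Q) = N`: `P` and `Q` commute
    have heq : Subgroup.normalizer ((Q : Subgroup G) : Set G) = N :=
      Subgroup.eq_of_le_of_card_ge hNQN (by rw [h117, hN])
    have hPN : (P : Subgroup G) ≤ N := by rw [hNdef]; exact Subgroup.le_normalizer
    have hcomm2 : ∀ y ∈ (Q : Subgroup G), ∀ z ∈ (P : Subgroup G), z * y = y * z := by
      intro y hy z hz
      have hzNQ : z ∈ Subgroup.normalizer ((Q : Subgroup G) : Set G) := by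
        rw [heq]; exact hPN hz
      have hyNP : y ∈ Subgroup.normalizer ((P : Subgroup G) : Set G) := by
        rw [← hNdef]; exact hQN hy
      have hwQ : z * y * z⁻¹ * y⁻¹ ∈ (Q : Subgroup G) :=
        (Q : Subgroup G).mul_mem ((Subgroup.mem_normalizer_iff.1 hzNQ y).1 hy)
          ((Q : Subgroup G).inv_mem hy)
      have hwP : z * y * z⁻¹ * y⁻¹ ∈ (P : Subgroup G) := by
        have h1 : y * z⁻¹ * y⁻¹ ∈ (P : Subgroup G) :=
          (Subgroup.mem_normalizer_iff.1 hyNP z⁻¹).1 ((P : Subgroup G).inv_mem hz)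
        have h2 : z * y * z⁻¹ * y⁻¹ = z * (y * z⁻¹ * y⁻¹) := by group
        rw [h2]
        exact (P : Subgroup G).mul_mem hz h1
      have ho1 := orderOf_dvd_card_of_mem _ _ hwQ
      have ho2 := orderOf_dvd_card_of_mem _ _ hwP
      rw [hQc] at ho1
      rw [hP] at ho2
      have ho3 : orderOf (z * y * z⁻¹ * y⁻¹) ∣ Nat.gcd (3 ^ 2) 13 := Nat.dvd_gcd ho1 ho2
      have ho4 : orderOf (z * y * z⁻¹ * y⁻¹) = 1 := by
        have : Nat.gcd (3 ^ 2) 13 = 1 := by norm_num
        rw [this] at ho3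
        exact Nat.dvd_one.1 ho3
      have hw : z * y * z⁻¹ * y⁻¹ = 1 := orderOf_eq_one_iff.1 ho4
      have : z * y = (z * y * z⁻¹ * y⁻¹) * (y * z) := by group
      rw [this, hw, one_mul]
    have hQC : (Q : Subgroup G) ≤ Subgroup.centralizer ((P : Subgroup G) : Set G) := by
      intro y hy
      rw [Subgroup.mem_centralizer_iff]
      intro z hz
      exact hcomm2 y hy z hz
    have hC9 : 9 ∣ Nat.card (Subgroup.centralizer ((P : Subgroup G) : Set G)) := by
      have := Subgroup.card_dvd_of_le hQC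
      rwa [hQc] at this
    have hC13 : 13 ∣ Nat.card (Subgroup.centralizer ((P : Subgroup G) : Set G)) :=
      dvd_card_centralizer P hP
    have hC117 : Nat.card (Subgroup.centralizer ((P : Subgroup G) : Set G)) ∣ 117 := by
      have := Subgroup.card_dvd_of_le
        (Subgroup.centralizer_le_normalizer ((P : Subgroup G) : Set G))
      rw [← hNdef, hN] at this
      exact this
    have hCeq : Nat.card (Subgroup.centralizer ((P : Subgroup G) : Set G)) = 117 := by
      have h117' : 117 ∣ Nat.card (Subgroup.centralizer ((P : Subgroup G) : Set G)) := by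
        have : Nat.Coprime 9 13 := by norm_num
        exact this.mul_dvd_of_dvd_of_dvd hC9 hC13
      exact Nat.dvd_antisymm hC117 h117'
    exact burnside P hP hlt (by rw [← hNdef, hN, hCeq])

end Cfsg.Agent.Lib.Helper5.O4680
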