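import Mathlib
import Cfsg.Agent.Lib.Helper5.Ord2.Kit4

/-!
# No simple group of order `5460 = 2² · 3 · 5 · 7 · 13`

(author: helper5)  `n₁₃ ∈ {14, 105}`:
* `14`: `|N| = 390`, `5 ∣ |C(P₁₃)|`, fixed points on `14` points: `≡ 1 mod 13`, `≡ 4 mod 5`;
* `105`: `|N| = 52`; `|C| = 13`: a Sylow `2`-subgroup of `N` is a Klein four-group (S0992) acting
  faithfully on `P₁₃`, impossible; `|C| = 26`: an involution `u` central in `N` has `C(u) = N`, and
  exactly one fixed point on `G ⧸ C(u)` (`≡ 1 mod 13`, `≡ 1 mod 4`, `< 52`): Glauberman's `Z*`.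
-/

set_option autoImplicit false

namespace Cfsg.Agent.Lib.Helper5.O5460

open MulAction
open Cfsg.Agent.Lib.Helper5.O5040 Cfsg.Agent.Lib.Helper5.OrdKit

theorem arith13 (k : ℕ) (h1 : k ∣ 420) (h2 : k % 13 = 1) (h3 : k ≠ 1) :
    k = 14 ∨ k = 105 := by
  have hle : k ≤ 420 := Nat.le_of_dvd (by norm_num) h1
  obtain ⟨j, rfl⟩ : ∃ j, k = 13 * j + 1 := ⟨k / 13, by omega⟩
  have hj : j ≤ 32 := by omega
  interval_cases j <;> first | omega | (exfalso; revert h1; decide)

theorem arith105 (j : ℕ) (h1 : j ∣ 105) (h2 : j % 13 = 1) : j = 1 ∨ j = 105 := by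
  have hle : j ≤ 105 := Nat.le_of_dvd (by norm_num) h1
  interval_cases j <;> first | omega | (exfalso; revert h1; decide)

variable {G : Type*} [Group G] [Finite G] [IsSimpleGroup G]

theorem no_simple_5460 (hn : Nat.card G = 5460) : False := by
  have hp13 : Fact (Nat.Prime 13) := ⟨by norm_num⟩
  have hp5 : Fact (Nat.Prime 5) := ⟨by norm_num⟩
  have hp2 : Fact (Nat.Prime 2) := ⟨by norm_num⟩
  have h2G : 2 < Nat.card G := by rw [hn]; norm_num
  have hnp : ¬ (Nat.card G).Prime := by rw [hn]; norm_num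
  have hlt13 : 13 < Nat.card G := by rw [hn]; norm_num
  obtain ⟨P⟩ : Nonempty (Sylow 13 G) := inferInstance
  have hn13 : Nat.card G = 13 * 420 := by rw [hn]
  have hP := card_sylow_prime 420 hn13 (by norm_num) P
  obtain ⟨k, hk1, hk2, hk3, hk4, hk5⟩ := sylow_count 420 hn13 (by norm_num) (by norm_num) P
  obtain ⟨d, hd, hNC⟩ := card_normalizer_eq_mul P hP
  have hdle : d ≤ 12 := Nat.le_of_dvd (by norm_num) hd
  rw [hn] at hk4
  rcases arith13 k hk1 hk2 hk3 with rfl | rfl
  · -- `|N| = 390`
    have hN : Nat.card (Subgroup.normalizer ((P : Subgroup G) : Set G)) = 390 := by omega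
    rw [hN] at hNC
    have h5C : 5 ∣ Nat.card (Subgroup.centralizer ((P : Subgroup G) : Set G)) := by
      interval_cases d <;> omega
    obtain ⟨f, hf1, hf2, hf3⟩ := k3 P hP hlt13 5 h5C
    rw [hk5] at hf2 hf3
    omega
  · -- `|N| = 52`
    have hN : Nat.card (Subgroup.normalizer ((P : Subgroup G) : Set G)) = 52 := by omega
    rw [hN] at hNC
    have hd124 : d = 1 ∨ d = 2 ∨ d = 4 := by
      interval_cases d <;> omega
    rcases hd124 with rfl | rfl | rfl
    · rw [mul_one] at hNC
      exact burnside P hP hlt13 (hN.trans hNC)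
    · have h2C : 2 ∣ Nat.card (Subgroup.centralizer ((P : Subgroup G) : Set G)) := by omega
      obtain ⟨u, hu, huC, hNu⟩ := exists_central_involution (by norm_num) 2 P hP
        (by rw [hN]; norm_num) h2C
      have hCu := centralizer_eq_normalizer hnp P hP
        (by rw [hk5]; exact fun j h1 h2 => arith105 j h1 h2) u hu hNu
      obtain ⟨hf1, hf2, hf3, hf4⟩ := fix_central hnp h2G P hP u hu huC hNu
      have hidx : (Subgroup.centralizer ({u} : Set G)).index = 105 := by rw [hCu, hk5]
      have hH : Nat.card (Subgroup.centralizer ({u} : Set G)) = 2 ^ 2 * 13 := by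
        rw [hCu, hN]; norm_num
      rw [hidx] at hf2 hf3
      rw [hH] at hf4
      have hfix : Nat.card (fixedBy (G ⧸ Subgroup.centralizer ({u} : Set G)) u) = 1 := by
        omega
      exact false_of_fix_one hnp 2 1365 13 (by rw [hn]; norm_num) (by norm_num) u hu hH
        (by norm_num) hfix
    · -- `|C| = 13`
      have hC13 : Nat.card (Subgroup.centralizer ((P : Subgroup G) : Set G)) = 13 := by omega
      obtain ⟨T, -, hTN, hTcard⟩ := exists_le_card_pow 2
        (Subgroup.normalizer ((P : Subgroup G) : Set G)) 2 13 (by rw [hN]; norm_num)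
        (by norm_num) ⊥ bot_le IsPGroup.of_bot
      have hT4 : Nat.card T = 4 := by rw [hTcard]; norm_num
      have hsq : ∀ t ∈ T, t * t = 1 := fun t ht =>
        sq_eq_one_of_card_four hnp 1365 (by rw [hn]) (by norm_num) T hT4 t ht
      have := two_dvd_card_centralizer_of_sq P hP T hTN hT4 hsq
      rw [hC13] at this
      omega

end Cfsg.Agent.Lib.Helper5.O5460
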