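import Mathlib
import Cfsg.Agent.Lib.Helper5.Ord2.Kit4
import Cfsg.Agent.Lib.Helper5.Ord2.Count

/-!
# No simple group of order 87780

`87780 = 2^2 * 3 * 5 * 7 * 11 * 19`.  Counting: `n_19 ∈ {210, 1540}` with `|C(P_19)| = 209`, resp.
`19`: at least `27720` elements of order divisible by `19`; `n_5 ∈ {266, 2926}` with
`|C(P_5)| = 165`, resp. `15`: `35112` elements of order divisible by `5`; `n_7 = 4180`,
`C(P_7) = P_7`: `25080` elements of order `7`; `27720 + 35112 + 25080 = 87912 > 87780`.
-/

set_option autoImplicit false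
set_option linter.style.haveILetI false
set_option linter.unusedTactic false
set_option linter.unreachableTactic false
set_option maxHeartbeats 1600000

namespace Cfsg.Agent.Lib.Helper5.O87780

open MulAction Cfsg.Agent.Lib.Helper5.OrdKit Cfsg.Agent.Lib.Helper5.O5040
  Cfsg.Agent.Lib.Helper5.OrdCount

variable {G : Type*} [Group G] [Finite G] [IsSimpleGroup G]

theorem data19 (hn : Nat.card G = 87780) [h19 : Fact (Nat.Prime 19)] (P : Sylow 19 G) :
    Nat.card (P : Subgroup G) = 19 ∧
      ((Nat.card (Sylow 19 G) = 210 ∧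
          Nat.card (Subgroup.centralizer ((P : Subgroup G) : Set G)) = 209) ∨
        (Nat.card (Sylow 19 G) = 1540 ∧
          Nat.card (Subgroup.centralizer ((P : Subgroup G) : Set G)) = 19)) := by
  haveI h7 : Fact (Nat.Prime 7) := ⟨by norm_num⟩
  haveI h5 : Fact (Nat.Prime 5) := ⟨by norm_num⟩
  have hn' : Nat.card G = 19 * 4620 := by rw [hn]
  have hP : Nat.card (P : Subgroup G) = 19 := card_sylow_prime 4620 hn' (by norm_num) P
  have hlt : 19 < Nat.card G := by rw [hn]; norm_num
  obtain ⟨k, hk1, hk2, hk3, hk4, hk5⟩ := sylow_count 4620 hn' (by norm_num) (by norm_num) P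
  obtain ⟨d, hd, hNC⟩ := card_normalizer_eq_mul P hP
  have hd' : d ∣ 18 := hd
  have hdle : d ≤ 18 := Nat.le_of_dvd (by norm_num) hd'
  have hk : k = 20 ∨ k = 77 ∨ k = 210 ∨ k = 1540 := by
    have hkle : k ≤ 4620 := Nat.le_of_dvd (by norm_num) hk1
    obtain ⟨j, rfl⟩ : ∃ j, k = 19 * j + 1 := ⟨k / 19, by omega⟩
    have hj : j ≤ 243 := by omega
    interval_cases j <;> first | omega | (exfalso; revert hk1; decide)
  refine ⟨hP, ?_⟩
  rcases hk with rfl | rfl | rfl | rfl
  · exfalso
    have hN : Nat.card (Subgroup.normalizer ((P : Subgroup G) : Set G)) = 4389 := by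
      rw [hn] at hk4; omega
    rw [hN] at hNC
    have h7C : 7 ∣ Nat.card (Subgroup.centralizer ((P : Subgroup G) : Set G)) := by
      interval_cases d <;> first | omega | (exfalso; revert hd'; decide)
    obtain ⟨f, hf1, hf2, hf3⟩ := k3 P hP hlt 7 h7C
    rw [hk5] at hf2 hf3
    omega
  · exfalso
    have hN : Nat.card (Subgroup.normalizer ((P : Subgroup G) : Set G)) = 1140 := by
      rw [hn] at hk4; omega
    rw [hN] at hNC
    have h5C : 5 ∣ Nat.card (Subgroup.centralizer ((P : Subgroup G) : Set G)) := by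
      interval_cases d <;> first | omega | (exfalso; revert hd'; decide)
    obtain ⟨f, hf1, hf2, hf3⟩ := k3 P hP hlt 5 h5C
    rw [hk5] at hf2 hf3
    omega
  · left
    have hN : Nat.card (Subgroup.normalizer ((P : Subgroup G) : Set G)) = 418 := by
      rw [hn] at hk4; omega
    rw [hN] at hNC
    refine ⟨P.card_eq_index_normalizer.trans hk5, ?_⟩
    have hd2 : d = 1 ∨ d = 2 := by
      interval_cases d <;> first | omega | (exfalso; revert hd'; decide)
    rcases hd2 with rfl | rfl
    · exfalso
      exact burnside P hP hlt (by rw [hN]; omega)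
    · omega
  · right
    have hN : Nat.card (Subgroup.normalizer ((P : Subgroup G) : Set G)) = 57 := by
      rw [hn] at hk4; omega
    rw [hN] at hNC
    refine ⟨P.card_eq_index_normalizer.trans hk5, ?_⟩
    have hd2 : d = 1 ∨ d = 3 := by
      interval_cases d <;> first | omega | (exfalso; revert hd'; decide)
    rcases hd2 with rfl | rfl
    · exfalso
      exact burnside P hP hlt (by rw [hN]; omega)
    · omega

/-- no Sylow `19`-centralizer has order divisible by `5` or `7` -/
theorem not_dvd19 (hn : Nat.card G = 87780) [h19 : Fact (Nat.Prime 19)] (Q : Sylow 19 G) :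
    ¬ 5 ∣ Nat.card (Subgroup.centralizer ((Q : Subgroup G) : Set G)) ∧
      ¬ 7 ∣ Nat.card (Subgroup.centralizer ((Q : Subgroup G) : Set G)) := by
  rcases (data19 hn Q).2 with ⟨-, hc⟩ | ⟨-, hc⟩ <;> rw [hc] <;> constructor <;> norm_num

theorem data5 (hn : Nat.card G = 87780) [h5 : Fact (Nat.Prime 5)] (P : Sylow 5 G) :
    Nat.card (P : Subgroup G) = 5 ∧
      ((Nat.card (Sylow 5 G) = 266 ∧
          Nat.card (Subgroup.centralizer ((P : Subgroup G) : Set G)) = 165) ∨
        (Nat.card (Sylow 5 G) = 2926 ∧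
          Nat.card (Subgroup.centralizer ((P : Subgroup G) : Set G)) = 15)) := by
  haveI h19 : Fact (Nat.Prime 19) := ⟨by norm_num⟩
  have hn' : Nat.card G = 5 * 17556 := by rw [hn]
  have hn19 : Nat.card G = 19 * 4620 := by rw [hn]
  have hP : Nat.card (P : Subgroup G) = 5 := card_sylow_prime 17556 hn' (by norm_num) P
  have hlt : 5 < Nat.card G := by rw [hn]; norm_num
  have h2G : 2 < Nat.card G := by rw [hn]; norm_num
  obtain ⟨k, hk1, hk2, hk3, hk4, hk5⟩ := sylow_count 17556 hn' (by norm_num) (by norm_num) P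
  obtain ⟨d, hd, hNC⟩ := card_normalizer_eq_mul P hP
  have hd' : d ∣ 4 := hd
  have hdle : d ≤ 4 := Nat.le_of_dvd (by norm_num) hd'
  have hNtop := normalizer_ne_top P hP hlt
  -- `19 ∤ |C(P)|`
  have h19C : ¬ 19 ∣ Nat.card (Subgroup.centralizer ((P : Subgroup G) : Set G)) := by
    intro h
    obtain ⟨Q, -, hQ⟩ := exists_sylow_dvd_centralizer P hP 4620 hn19 (by norm_num) h
    exact (not_dvd19 hn Q).1 hQ
  have hk : k = 6 ∨ k = 11 ∨ k = 21 ∨ k = 66 ∨ k = 76 ∨ k = 231 ∨ k = 266 ∨ k = 836 ∨
      k = 1596 ∨ k = 2926 ∨ k = 17556 := by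
    have hkle : k ≤ 17556 := Nat.le_of_dvd (by norm_num) hk1
    obtain ⟨j, rfl⟩ : ∃ j, k = 5 * j + 1 := ⟨k / 5, by omega⟩
    have hj : j ≤ 3511 := by omega
    interval_cases j <;> first | omega | (exfalso; revert hk1; decide)
  refine ⟨hP, ?_⟩
  rcases hk with rfl | rfl | rfl | rfl | rfl | rfl | rfl | rfl | rfl | rfl | rfl
  · exfalso
    have := index_bound h2G _ hNtop 6 hk5
    rw [hn] at this
    revert this; decide
  · exfalso
    have := index_bound h2G _ hNtop 11 hk5
    rw [hn] at this
    revert this; decide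
  · exfalso
    have hN : Nat.card (Subgroup.normalizer ((P : Subgroup G) : Set G)) = 4180 := by
      rw [hn] at hk4; omega
    rw [hN] at hNC
    apply h19C
    interval_cases d <;> first | omega | (exfalso; revert hd'; decide)
  · exfalso
    have hN : Nat.card (Subgroup.normalizer ((P : Subgroup G) : Set G)) = 1330 := by
      rw [hn] at hk4; omega
    rw [hN] at hNC
    apply h19C
    interval_cases d <;> first | omega | (exfalso; revert hd'; decide)
  · exfalso
    have hN : Nat.card (Subgroup.normalizer ((P : Subgroup G) : Set G)) = 1155 := by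
      rw [hn] at hk4; omega
    rw [hN] at hNC
    have hd1 : d = 1 := by
      interval_cases d <;> first | omega | (exfalso; revert hd'; decide)
    subst hd1
    exact burnside P hP hlt (by rw [hN]; omega)
  · exfalso
    have hN : Nat.card (Subgroup.normalizer ((P : Subgroup G) : Set G)) = 380 := by
      rw [hn] at hk4; omega
    rw [hN] at hNC
    apply h19C
    interval_cases d <;> first | omega | (exfalso; revert hd'; decide)
  · left
    have hN : Nat.card (Subgroup.normalizer ((P : Subgroup G) : Set G)) = 330 := by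
      rw [hn] at hk4; omega
    rw [hN] at hNC
    refine ⟨P.card_eq_index_normalizer.trans hk5, ?_⟩
    have hd2 : d = 1 ∨ d = 2 := by
      interval_cases d <;> first | omega | (exfalso; revert hd'; decide)
    rcases hd2 with rfl | rfl
    · exfalso
      exact burnside P hP hlt (by rw [hN]; omega)
    · omega
  · exfalso
    have hN : Nat.card (Subgroup.normalizer ((P : Subgroup G) : Set G)) = 105 := by
      rw [hn] at hk4; omega
    rw [hN] at hNC
    have hd1 : d = 1 := by
      interval_cases d <;> first | omega | (exfalso; revert hd'; decide)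
    subst hd1
    exact burnside P hP hlt (by rw [hN]; omega)
  · exfalso
    have hN : Nat.card (Subgroup.normalizer ((P : Subgroup G) : Set G)) = 55 := by
      rw [hn] at hk4; omega
    rw [hN] at hNC
    have hd1 : d = 1 := by
      interval_cases d <;> first | omega | (exfalso; revert hd'; decide)
    subst hd1
    exact burnside P hP hlt (by rw [hN]; omega)
  · right
    have hN : Nat.card (Subgroup.normalizer ((P : Subgroup G) : Set G)) = 30 := by
      rw [hn] at hk4; omega
    rw [hN] at hNC
    refine ⟨P.card_eq_index_normalizer.trans hk5, ?_⟩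
    have hd2 : d = 1 ∨ d = 2 := by
      interval_cases d <;> first | omega | (exfalso; revert hd'; decide)
    rcases hd2 with rfl | rfl
    · exfalso
      exact burnside P hP hlt (by rw [hN]; omega)
    · omega
  · exfalso
    have hN : Nat.card (Subgroup.normalizer ((P : Subgroup G) : Set G)) = 5 := by
      rw [hn] at hk4; omega
    rw [hN] at hNC
    have hd1 : d = 1 := by
      interval_cases d <;> first | omega | (exfalso; revert hd'; decide)
    subst hd1
    exact burnside P hP hlt (by rw [hN]; omega)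

/-- no Sylow `11`-centralizer has order divisible by `7` -/
theorem not_dvd11 (hn : Nat.card G = 87780) [h11 : Fact (Nat.Prime 11)] (P : Sylow 11 G) :
    ¬ 7 ∣ Nat.card (Subgroup.centralizer ((P : Subgroup G) : Set G)) := by
  intro h7
  have hn' : Nat.card G = 11 * 7980 := by rw [hn]
  have hP : Nat.card (P : Subgroup G) = 11 := card_sylow_prime 7980 hn' (by norm_num) P
  have hlt : 11 < Nat.card G := by rw [hn]; norm_num
  have h2G : 2 < Nat.card G := by rw [hn]; norm_num
  obtain ⟨k, hk1, hk2, hk3, hk4, hk5⟩ := sylow_count 7980 hn' (by norm_num) (by norm_num) P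
  have hNtop := normalizer_ne_top P hP hlt
  have hCN : Nat.card (Subgroup.centralizer ((P : Subgroup G) : Set G)) ∣
      Nat.card (Subgroup.normalizer ((P : Subgroup G) : Set G)) :=
    Subgroup.card_dvd_of_le (Subgroup.centralizer_le_normalizer _)
  have h11C := dvd_card_centralizer P hP
  have h77 : 77 ∣ Nat.card (Subgroup.normalizer ((P : Subgroup G) : Set G)) := by
    have hcop : Nat.Coprime 7 11 := by norm_num
    exact (hcop.mul_dvd_of_dvd_of_dvd h7 h11C).trans hCN
  obtain ⟨t, ht⟩ := h77
  rw [ht, hn] at hk4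
  have hkt : k * t = 1140 := by
    have : 77 * (k * t) = 77 * 1140 := by
      calc 77 * (k * t) = k * (77 * t) := by ring
        _ = 87780 := hk4
        _ = 77 * 1140 := by norm_num
    exact Nat.eq_of_mul_eq_mul_left (by norm_num) this
  have hk1' : k ∣ 1140 := ⟨t, hkt.symm⟩
  have hk12 : k = 12 := by
    have hkle : k ≤ 1140 := Nat.le_of_dvd (by norm_num) hk1'
    obtain ⟨j, rfl⟩ : ∃ j, k = 11 * j + 1 := ⟨k / 11, by omega⟩
    have hj : j ≤ 103 := by omega
    interval_cases j <;> first | omega | (exfalso; revert hk1'; decide)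
  subst hk12
  have := index_bound h2G _ hNtop 12 hk5
  rw [hn] at this
  revert this; decide

theorem data7 (hn : Nat.card G = 87780) [h7 : Fact (Nat.Prime 7)] (P : Sylow 7 G) :
    Nat.card (P : Subgroup G) = 7 ∧ Nat.card (Sylow 7 G) = 4180 ∧
      Nat.card (Subgroup.centralizer ((P : Subgroup G) : Set G)) = 7 := by
  haveI h19 : Fact (Nat.Prime 19) := ⟨by norm_num⟩
  haveI h11 : Fact (Nat.Prime 11) := ⟨by norm_num⟩
  haveI h5 : Fact (Nat.Prime 5) := ⟨by norm_num⟩
  have hn' : Nat.card G = 7 * 12540 := by rw [hn]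
  have hn19 : Nat.card G = 19 * 4620 := by rw [hn]
  have hn11 : Nat.card G = 11 * 7980 := by rw [hn]
  have hn5 : Nat.card G = 5 * 17556 := by rw [hn]
  have hP : Nat.card (P : Subgroup G) = 7 := card_sylow_prime 12540 hn' (by norm_num) P
  have hlt : 7 < Nat.card G := by rw [hn]; norm_num
  have h2G : 2 < Nat.card G := by rw [hn]; norm_num
  obtain ⟨k, hk1, hk2, hk3, hk4, hk5⟩ := sylow_count 12540 hn' (by norm_num) (by norm_num) P
  obtain ⟨d, hd, hNC⟩ := card_normalizer_eq_mul P hP
  have hd' : d ∣ 6 := hd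
  have hdle : d ≤ 6 := Nat.le_of_dvd (by norm_num) hd'
  have hNtop := normalizer_ne_top P hP hlt
  have h19C : ¬ 19 ∣ Nat.card (Subgroup.centralizer ((P : Subgroup G) : Set G)) := by
    intro h
    obtain ⟨Q, -, hQ⟩ := exists_sylow_dvd_centralizer P hP 4620 hn19 (by norm_num) h
    exact (not_dvd19 hn Q).2 hQ
  have h11C : ¬ 11 ∣ Nat.card (Subgroup.centralizer ((P : Subgroup G) : Set G)) := by
    intro h
    obtain ⟨Q, -, hQ⟩ := exists_sylow_dvd_centralizer P hP 7980 hn11 (by norm_num) h
    exact not_dvd11 hn Q hQ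
  have h5C : ¬ 5 ∣ Nat.card (Subgroup.centralizer ((P : Subgroup G) : Set G)) := by
    intro h
    obtain ⟨Q, -, hQ⟩ := exists_sylow_dvd_centralizer P hP 17556 hn5 (by norm_num) h
    rcases (data5 hn Q).2 with ⟨-, hc⟩ | ⟨-, hc⟩ <;> rw [hc] at hQ <;> revert hQ <;> decide
  have hk : k = 15 ∨ k = 22 ∨ k = 57 ∨ k = 190 ∨ k = 330 ∨ k = 1254 ∨ k = 4180 := by
    have hkle : k ≤ 12540 := Nat.le_of_dvd (by norm_num) hk1
    obtain ⟨j, rfl⟩ : ∃ j, k = 7 * j + 1 := ⟨k / 7, by omega⟩
    have hj : j ≤ 1791 := by omega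
    interval_cases j <;> first | omega | (exfalso; revert hk1; decide)
  rcases hk with rfl | rfl | rfl | rfl | rfl | rfl | rfl
  · exfalso
    have := index_bound h2G _ hNtop 15 hk5
    rw [hn] at this
    revert this; decide
  · exfalso
    have hN : Nat.card (Subgroup.normalizer ((P : Subgroup G) : Set G)) = 3990 := by
      rw [hn] at hk4; omega
    rw [hN] at hNC
    apply h19C
    interval_cases d <;> first | omega | (exfalso; revert hd'; decide)
  · exfalso
    have hN : Nat.card (Subgroup.normalizer ((P : Subgroup G) : Set G)) = 1540 := by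
      rw [hn] at hk4; omega
    rw [hN] at hNC
    apply h11C
    interval_cases d <;> first | omega | (exfalso; revert hd'; decide)
  · exfalso
    have hN : Nat.card (Subgroup.normalizer ((P : Subgroup G) : Set G)) = 462 := by
      rw [hn] at hk4; omega
    rw [hN] at hNC
    apply h11C
    interval_cases d <;> first | omega | (exfalso; revert hd'; decide)
  · exfalso
    have hN : Nat.card (Subgroup.normalizer ((P : Subgroup G) : Set G)) = 266 := by
      rw [hn] at hk4; omega
    rw [hN] at hNC
    apply h19C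
    interval_cases d <;> first | omega | (exfalso; revert hd'; decide)
  · exfalso
    have hN : Nat.card (Subgroup.normalizer ((P : Subgroup G) : Set G)) = 70 := by
      rw [hn] at hk4; omega
    rw [hN] at hNC
    apply h5C
    interval_cases d <;> first | omega | (exfalso; revert hd'; decide)
  · have hN : Nat.card (Subgroup.normalizer ((P : Subgroup G) : Set G)) = 21 := by
      rw [hn] at hk4; omega
    rw [hN] at hNC
    refine ⟨hP, P.card_eq_index_normalizer.trans hk5, ?_⟩
    have hd2 : d = 1 ∨ d = 3 := by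
      interval_cases d <;> first | omega | (exfalso; revert hd'; decide)
    rcases hd2 with rfl | rfl
    · exfalso
      exact burnside P hP hlt (by rw [hN]; omega)
    · omega

theorem no_simple_87780 (hn : Nat.card G = 87780) : False := by
  haveI h19 : Fact (Nat.Prime 19) := ⟨by norm_num⟩
  haveI h5 : Fact (Nat.Prime 5) := ⟨by norm_num⟩
  haveI h7 : Fact (Nat.Prime 7) := ⟨by norm_num⟩
  obtain ⟨P19⟩ : Nonempty (Sylow 19 G) := inferInstance
  obtain ⟨P7⟩ : Nonempty (Sylow 7 G) := inferInstance
  obtain ⟨P5⟩ : Nonempty (Sylow 5 G) := inferInstance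
  have hT19 : 27720 ≤ Nat.card {g : G // 19 ∣ orderOf g} := by
    rcases (data19 hn P19).2 with ⟨hn19, -⟩ | ⟨hn19, -⟩
    · have := card_dvd_orderOf_ge (G := G) 19 (fun Q => (data19 hn Q).1) 11
        (fun Q => by
          rcases (data19 hn Q).2 with ⟨-, hc⟩ | ⟨h, -⟩
          · rw [hc]
          · omega)
      rw [hn19] at this
      omega
    · have := card_dvd_orderOf_ge (G := G) 19 (fun Q => (data19 hn Q).1) 1
        (fun Q => by
          rcases (data19 hn Q).2 with ⟨h, -⟩ | ⟨-, hc⟩
          · omega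
          · rw [hc])
      rw [hn19] at this
      omega
  have hT5 : 35112 ≤ Nat.card {g : G // 5 ∣ orderOf g} := by
    rcases (data5 hn P5).2 with ⟨hn5, -⟩ | ⟨hn5, -⟩
    · have := card_dvd_orderOf_ge (G := G) 5 (fun Q => (data5 hn Q).1) 33
        (fun Q => by
          rcases (data5 hn Q).2 with ⟨-, hc⟩ | ⟨h, -⟩
          · rw [hc]
          · omega)
      rw [hn5] at this
      omega
    · have := card_dvd_orderOf_ge (G := G) 5 (fun Q => (data5 hn Q).1) 3
        (fun Q => by
          rcases (data5 hn Q).2 with ⟨h, -⟩ | ⟨-, hc⟩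
          · omega
          · rw [hc])
      rw [hn5] at this
      omega
  have hT7 := card_dvd_orderOf_ge (G := G) 7 (fun Q => (data7 hn Q).1) 1
    (fun Q => by rw [(data7 hn Q).2.2])
  rw [(data7 hn P7).2.1] at hT7
  have h7_5 : ∀ g : G, 7 ∣ orderOf g → 5 ∣ orderOf g → False :=
    not_dvd_of_not_dvd_centralizer 7 5 (fun Q => (data7 hn Q).1)
      (fun Q => by rw [(data7 hn Q).2.2]; norm_num)
  have h7_19 : ∀ g : G, 7 ∣ orderOf g → 19 ∣ orderOf g → False :=
    not_dvd_of_not_dvd_centralizer 7 19 (fun Q => (data7 hn Q).1)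
      (fun Q => by rw [(data7 hn Q).2.2]; norm_num)
  have h19_5 : ∀ g : G, 19 ∣ orderOf g → 5 ∣ orderOf g → False :=
    not_dvd_of_not_dvd_centralizer 19 5 (fun Q => (data19 hn Q).1)
      (fun Q => (not_dvd19 hn Q).1)
  have hsum := card_three_le (G := G) 7 5 19 h7_5 h7_19 (fun g h1 h2 => h19_5 g h2 h1)
  rw [hn] at hsum
  omega

end Cfsg.Agent.Lib.Helper5.O87780
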