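import Mathlib
import Cfsg.Agent.Lib.Helper4.Simple
import Cfsg.Agent.Lib.Helper4.SylowPrime
import Cfsg.Agent.Lib.Helper4.AltEmbed

/-!
# Sylow counting tools (helper5)

General lemmas used for excluding simple groups of a given order: automizer coprimality,
Sylow counting inside a subgroup, parity of the fixed points of an involution, fixed points
modulo `p`, the class equation, involutions of `N(P)` for `|P| = p`, free conjugation actions.
-/

set_option autoImplicit false

namespace Cfsg.Agent.Lib.Helper5.SylCnt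

open Cfsg.Agent.Lib.Helper4.Sylow Cfsg.Agent.Lib.Helper4.Simple Cfsg.Agent.Lib.Helper4.SylowPrime
open Cfsg.Agent.Lib.Helper4.AltEmbed

variable {G : Type*} [Group G]

/-- An element of `N(H)` whose order is coprime to `|Aut H|` centralizes `H`. -/
theorem mem_centralizer_of_coprime [Finite G] (H : Subgroup G) (x : G)
    (hx : x ∈ Subgroup.normalizer (H : Set G))
    (hco : Nat.Coprime (orderOf x) (Nat.card (MulAut H))) :
    x ∈ Subgroup.centralizer (H : Set G) := by
  have h1 : H.normalizerMonoidHom ⟨x, hx⟩ = 1 := by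
    have ha : orderOf (H.normalizerMonoidHom ⟨x, hx⟩) ∣ orderOf x := by
      have := orderOf_map_dvd H.normalizerMonoidHom (⟨x, hx⟩ : Subgroup.normalizer (H : Set G))
      rwa [Subgroup.orderOf_mk] at this
    have hb : orderOf (H.normalizerMonoidHom ⟨x, hx⟩) ∣ Nat.card (MulAut H) :=
      orderOf_dvd_natCard _
    have := Nat.eq_one_of_dvd_coprimes hco ha hb
    exact orderOf_eq_one_iff.mp this
  have h2 : (⟨x, hx⟩ : Subgroup.normalizer (H : Set G)) ∈ H.normalizerMonoidHom.ker := h1
  rw [Subgroup.normalizerMonoidHom_ker] at h2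
  exact h2

/-- `|Aut H| = p - 1` for `H` of prime order `p`. -/
theorem card_mulAut_of_card_prime [Finite G] (H : Subgroup G) {p : ℕ} [hp : Fact p.Prime]
    (hH : Nat.card H = p) : Nat.card (MulAut H) = p - 1 := by
  have hc : IsCyclic H := isCyclic_of_prime_card hH
  rw [hc.card_mulAut, hH, Nat.totient_prime hp.out]

theorem card_subgroupOf_eq_card_inf' (H K : Subgroup G) :
    Nat.card (H.subgroupOf K) = Nat.card (H ⊓ K : Subgroup G) := by
  rw [← Subgroup.inf_subgroupOf_right]
  exact Nat.card_congr (Subgroup.subgroupOfEquivOfLe inf_le_right).toEquiv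

/-- Sylow counting inside a subgroup `H` containing the Sylow `p`-subgroup `P` of `G`:
`|H| = n * |N(P) ∩ H|` with `n ≡ 1 mod p`, and `n = 1` forces `P` to be the only Sylow
`p`-subgroup of `G` inside `H`. -/
theorem sylow_count_in_subgroup [Finite G] {p : ℕ} [Fact p.Prime] (P : Sylow p G)
    (H : Subgroup G) (hPH : (P : Subgroup G) ≤ H) :
    ∃ n : ℕ, n ≡ 1 [MOD p] ∧
      Nat.card H = n * Nat.card (Subgroup.normalizer ((P : Subgroup G) : Set G) ⊓ H : Subgroup G) ∧
      (n = 1 → ∀ P' : Sylow p G, (P' : Subgroup G) ≤ H → P' = P) := by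
  refine ⟨Nat.card (Sylow p H), card_sylow_modEq_one p H, ?_, ?_⟩
  · have h1 := (P.subtype hPH).card_eq_index_normalizer
    have h2 : Subgroup.normalizer ((P.subtype hPH : Sylow p H) : Set H) =
        (Subgroup.normalizer ((P : Subgroup G) : Set G)).subgroupOf H := by
      have h3 : ((P.subtype hPH : Sylow p H) : Set H) =
          (((P : Subgroup G).subgroupOf H : Subgroup H) : Set H) := rfl
      rw [h3, Subgroup.subgroupOf_normalizer_eq hPH]
    rw [h1, h2, ← card_subgroupOf_eq_card_inf', mul_comm]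
    exact (Subgroup.card_mul_index _).symm
  · intro hn P' hP'
    have hsub : Subsingleton (Sylow p H) := (Nat.card_eq_one_iff_unique.mp hn).1
    exact Sylow.subtype_injective (Subsingleton.elim (P'.subtype hP') (P.subtype hPH))

/-- An even involution moves a multiple of four points. -/
theorem card_eq_card_fixedPoints_add_four_mul {X : Type*} [Fintype X] [DecidableEq X]
    (σ : Equiv.Perm X) (h2 : σ ^ 2 = 1) (hs : Equiv.Perm.sign σ = 1) :
    ∃ k : ℕ, Fintype.card X = Fintype.card (Function.fixedPoints σ) + 4 * k := by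
  have h1 := Equiv.Perm.sign_of_pow_two_eq_one h2
  rw [hs] at h1
  have h3 : Even ((Fintype.card X - Fintype.card (Function.fixedPoints σ)) / 2) := by
    by_contra hodd
    rw [Nat.not_even_iff_odd] at hodd
    rw [hodd.neg_one_pow] at h1
    exact absurd h1 (by decide)
  have h4 := σ.card_fixedPoints
  have h5 := σ.sum_cycleType_le
  have h6 := Equiv.Perm.two_dvd_card_support h2
  rw [← σ.sum_cycleType] at h6
  have h7 : Fintype.card X - Fintype.card (Function.fixedPoints σ) = σ.cycleType.sum := by omega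
  rw [h7] at h3
  obtain ⟨a, ha⟩ := h6
  obtain ⟨b, hb⟩ := h3
  refine ⟨b, ?_⟩
  omega

/-- In a simple group of order `> 2` acting on the cosets of a proper subgroup, a non-identity
involution fixes `index - 4k` cosets with `k > 0`. -/
theorem index_eq_card_fixedBy_add [Finite G] [IsSimpleGroup G] (hG : 2 < Nat.card G)
    (H : Subgroup G) (hH : H ≠ ⊤) (z : G) (hz2 : z ^ 2 = 1) (hz1 : z ≠ 1) :
    ∃ k : ℕ, 0 < k ∧ H.index = Nat.card (MulAction.fixedBy (G ⧸ H) z) + 4 * k := by
  classical
  have : Fintype (G ⧸ H) := Fintype.ofFinite _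
  obtain ⟨hinj, hrange⟩ := toPermHom_injective_and_range_le hG H hH
  set σ := MulAction.toPermHom G (G ⧸ H) z with hσ
  have h2 : σ ^ 2 = 1 := by rw [hσ, ← map_pow, hz2, map_one]
  have hs : Equiv.Perm.sign σ = 1 := by
    have : σ ∈ alternatingGroup (G ⧸ H) := hrange ⟨z, rfl⟩
    exact Equiv.Perm.mem_alternatingGroup.mp this
  obtain ⟨k, hk⟩ := card_eq_card_fixedPoints_add_four_mul σ h2 hs
  have hfix : Function.fixedPoints σ = MulAction.fixedBy (G ⧸ H) z := by
    ext x
    rfl
  refine ⟨k, ?_, ?_⟩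
  · rcases Nat.eq_zero_or_pos k with h0 | h0
    · exfalso
      subst h0
      apply hz1
      apply hinj
      rw [map_one]
      ext x
      have hall : (Function.fixedPoints σ).toFinset = Finset.univ := by
        apply Finset.eq_univ_of_card
        rw [Set.toFinset_card]
        omega
      have hx : x ∈ (Function.fixedPoints σ).toFinset := by rw [hall]; exact Finset.mem_univ x
      rw [Set.mem_toFinset] at hx
      exact hx
    · exact h0
  · rw [Subgroup.index_eq_card, Nat.card_eq_fintype_card, hk, ← hfix, Nat.card_eq_fintype_card]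

/-- a Sylow subgroup of prime order contains an element of order `p`. -/
theorem exists_orderOf_eq_of_card_prime [Finite G] {p : ℕ} [hp : Fact p.Prime] (P : Subgroup G)
    (hP : Nat.card P = p) : ∃ y : G, y ∈ P ∧ orderOf y = p ∧ y ≠ 1 := by
  have h1 : 1 < Nat.card P := by rw [hP]; exact hp.out.one_lt
  have : Nontrivial P := Finite.one_lt_card_iff_nontrivial.mp h1
  obtain ⟨⟨y, hy⟩, hy1⟩ := exists_ne (1 : P)
  have hy1' : y ≠ 1 := fun h => hy1 (Subtype.ext h)
  refine ⟨y, hy, ?_, hy1'⟩
  have h2 : orderOf (⟨y, hy⟩ : P) ∣ p := hP ▸ orderOf_dvd_natCard _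
  rw [Subgroup.orderOf_mk] at h2
  rcases (Nat.dvd_prime hp.out).mp h2 with h | h
  · exact absurd (orderOf_eq_one_iff.mp h) hy1'
  · exact h

/-- If `z` centralizes the Sylow subgroup `P` of order `p`, the number of cosets of `N(P)` fixed by
`z` is `≡ 1 mod p`. -/
theorem card_fixedBy_modEq_one_of_mem_centralizer [Finite G] {p : ℕ} [hp : Fact p.Prime]
    (P : Sylow p G) (hP : Nat.card (P : Subgroup G) = p) (z : G)
    (hz : z ∈ Subgroup.centralizer ((P : Subgroup G) : Set G)) :
    Nat.card (MulAction.fixedBy (G ⧸ Subgroup.normalizer ((P : Subgroup G) : Set G)) z) ≡ 1 [MOD p] := by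
  set N := Subgroup.normalizer ((P : Subgroup G) : Set G) with hN
  let act : MulAction (P : Subgroup G) (MulAction.fixedBy (G ⧸ N) z) :=
    { smul := fun u a => ⟨(u : G) • a.1, by
        have ha := a.2
        rw [MulAction.mem_fixedBy] at ha ⊢
        have hcomm : z * (u : G) = (u : G) * z := (hz (u : G) u.2).symm
        rw [← mul_smul, hcomm, mul_smul, ha]⟩
      one_smul := fun a => Subtype.ext (one_smul G a.1)
      mul_smul := fun u v a => Subtype.ext (mul_smul (u : G) (v : G) a.1) }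
  have hsmul : ∀ (u : (P : Subgroup G)) (a : MulAction.fixedBy (G ⧸ N) z),
      ((u • a : MulAction.fixedBy (G ⧸ N) z) : G ⧸ N) = (u : G) • (a : G ⧸ N) := fun _ _ => rfl
  have h1 := P.2.card_modEq_card_fixedPoints (MulAction.fixedBy (G ⧸ N) z)
  refine h1.trans ?_
  obtain ⟨y, hyP, hyo, hy1⟩ := exists_orderOf_eq_of_card_prime (P : Subgroup G) hP
  have h2 := card_fixedBy_eq_one p P hP y hyo
  have h3 : Nat.card (MulAction.fixedPoints (P : Subgroup G) (MulAction.fixedBy (G ⧸ N) z)) = 1 := by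
    rw [Nat.card_eq_one_iff_unique]
    constructor
    · constructor
      rintro ⟨a, ha⟩ ⟨b, hb⟩
      have hsub : Subsingleton (MulAction.fixedBy (G ⧸ N) y) := (Nat.card_eq_one_iff_unique.mp h2).1
      have ha' : (a : G ⧸ N) ∈ MulAction.fixedBy (G ⧸ N) y := by
        have := ha ⟨y, hyP⟩
        rw [MulAction.mem_fixedBy]
        exact congrArg Subtype.val this
      have hb' : (b : G ⧸ N) ∈ MulAction.fixedBy (G ⧸ N) y := by
        have := hb ⟨y, hyP⟩
        rw [MulAction.mem_fixedBy]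
        exact congrArg Subtype.val this
      have := Subsingleton.elim (⟨a, ha'⟩ : MulAction.fixedBy (G ⧸ N) y) ⟨b, hb'⟩
      have h4 : (a : G ⧸ N) = (b : G ⧸ N) := by
        have h5 := congrArg Subtype.val this
        exact h5
      exact Subtype.ext (Subtype.ext h4)
    · have hzN : z ∈ N := Subgroup.centralizer_le_normalizer _ hz
      refine ⟨⟨⟨((1 : G) : G ⧸ N), ?_⟩, ?_⟩⟩
      · rw [MulAction.mem_fixedBy, smul_mk_eq_iff, inv_one, one_mul, mul_one]
        exact hzN
      · intro u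
        apply Subtype.ext
        rw [hsmul]
        show (u : G) • ((1 : G) : G ⧸ N) = ((1 : G) : G ⧸ N)
        rw [smul_mk_eq_iff, inv_one, one_mul, mul_one]
        exact Subgroup.le_normalizer u.2
  rw [h3]

/-- The class equation for one element. -/
theorem card_conj_mul_card_centralizer [Finite G] (z : G) :
    Nat.card {g : G // IsConj z g} * Nat.card (Subgroup.centralizer ({z} : Set G)) = Nat.card G := by
  have e := MulAction.orbitProdStabilizerEquivGroup (ConjAct G) z
  have h1 := Nat.card_congr e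
  rw [Nat.card_prod] at h1
  have h2 : Nat.card (MulAction.orbit (ConjAct G) z) = Nat.card {g : G // IsConj z g} := by
    apply Nat.card_congr
    refine Equiv.subtypeEquivRight ?_
    intro g
    rw [ConjAct.mem_orbit_conjAct, isConj_comm]
  rw [h2, ← Subgroup.nat_card_centralizer_nat_card_stabilizer] at h1
  rw [h1]
  rfl

/-- a subgroup of prime order is commutative. -/
theorem comm_of_card_prime [Finite G] {p : ℕ} [hp : Fact p.Prime] (P : Subgroup G)
    (hP : Nat.card P = p) (a b : G) (ha : a ∈ P) (hb : b ∈ P) : a * b = b * a := by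
  have hc : IsCyclic P := isCyclic_of_prime_card hP
  have hcomm : IsMulCommutative P := IsCyclic.isMulCommutative
  have := hcomm.is_comm.comm ⟨a, ha⟩ ⟨b, hb⟩
  exact congrArg Subtype.val this

/-- An involution of `N(P)` not centralizing `P` (of prime order) inverts `P`. -/
theorem conj_eq_inv_of_sq_eq_one [Finite G] {p : ℕ} [hp : Fact p.Prime] (P : Sylow p G)
    (hP : Nat.card (P : Subgroup G) = p) (w : G)
    (hwN : w ∈ Subgroup.normalizer ((P : Subgroup G) : Set G)) (hw2 : w ^ 2 = 1)
    (hwC : w ∉ Subgroup.centralizer ((P : Subgroup G) : Set G)) (u : G)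
    (hu : u ∈ (P : Subgroup G)) : w * u * w⁻¹ = u⁻¹ := by
  have hv : w * u * w⁻¹ ∈ (P : Subgroup G) := (Subgroup.mem_normalizer_iff.mp hwN u).mp hu
  set v := w * u * w⁻¹ with hvdef
  have hwinv : w⁻¹ = w := by
    rw [inv_eq_iff_mul_eq_one, ← sq, hw2]
  have hwv : w * v * w⁻¹ = u := by
    rw [hvdef, hwinv]
    have : w * (w * u * w) * w = (w ^ 2) * u * (w ^ 2) := by rw [sq]; group
    rw [this, hw2, one_mul, mul_one]
  have ht : w * (u * v) * w⁻¹ = u * v := by
    have : w * (u * v) * w⁻¹ = (w * u * w⁻¹) * (w * v * w⁻¹) := by group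
    rw [this, hwv, ← hvdef]
    exact comm_of_card_prime (P : Subgroup G) hP v u hv hu
  by_cases h1 : u * v = 1
  · exact (eq_inv_of_mul_eq_one_right h1)
  · exfalso
    apply hwC
    have hPz := sylow_eq_zpowers P hP (u * v) h1 (mul_mem hu hv)
    rw [Subgroup.mem_centralizer_iff]
    intro h hh
    have hh' : h ∈ Subgroup.zpowers (u * v) := by rw [← hPz]; exact hh
    obtain ⟨k, rfl⟩ := Subgroup.mem_zpowers_iff.mp hh'
    have hcomm : Commute w (u * v) := by
      have : w * (u * v) = (u * v) * w := by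
        calc w * (u * v) = (w * (u * v) * w⁻¹) * w := by group
          _ = (u * v) * w := by rw [ht]
      exact this
    exact ((hcomm.zpow_right k).eq).symm

/-- Two involutions of `N(P)` outside `C(P)` lie in the same coset of `C(P)`. -/
theorem inv_mul_mem_centralizer [Finite G] {p : ℕ} [hp : Fact p.Prime] (P : Sylow p G)
    (hP : Nat.card (P : Subgroup G) = p) (w w' : G)
    (hwN : w ∈ Subgroup.normalizer ((P : Subgroup G) : Set G)) (hw2 : w ^ 2 = 1)
    (hwC : w ∉ Subgroup.centralizer ((P : Subgroup G) : Set G))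
    (hwN' : w' ∈ Subgroup.normalizer ((P : Subgroup G) : Set G)) (hw2' : w' ^ 2 = 1)
    (hwC' : w' ∉ Subgroup.centralizer ((P : Subgroup G) : Set G)) :
    w⁻¹ * w' ∈ Subgroup.centralizer ((P : Subgroup G) : Set G) := by
  rw [Subgroup.mem_centralizer_iff]
  intro u hu
  have h1 := conj_eq_inv_of_sq_eq_one P hP w' hwN' hw2' hwC' u hu
  have h2 := conj_eq_inv_of_sq_eq_one P hP w hwN hw2 hwC u⁻¹ (inv_mem hu)
  rw [inv_inv] at h2
  -- w' u = u⁻¹ w', w u⁻¹ = u w
  have h3 : w' * u = u⁻¹ * w' := by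
    calc w' * u = (w' * u * w'⁻¹) * w' := by group
      _ = u⁻¹ * w' := by rw [h1]
  have h4 : w⁻¹ * u = u⁻¹ * w⁻¹ := by
    calc w⁻¹ * u = w⁻¹ * (w * u⁻¹ * w⁻¹) := by rw [h2]
      _ = u⁻¹ * w⁻¹ := by group
  have h5 : w⁻¹ * u⁻¹ = u * w⁻¹ := by
    calc w⁻¹ * u⁻¹ = u * (u⁻¹ * w⁻¹) * u⁻¹ := by group
      _ = u * (w⁻¹ * u) * u⁻¹ := by rw [h4]
      _ = u * w⁻¹ := by group
  calc u * (w⁻¹ * w') = (u * w⁻¹) * w' := by group
    _ = (w⁻¹ * u⁻¹) * w' := by rw [h5]
    _ = w⁻¹ * (u⁻¹ * w') := by group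
    _ = w⁻¹ * (w' * u) := by rw [h3]
    _ = w⁻¹ * w' * u := by group

/-- If a `p`-subgroup `P` permutes a finite set `S` of group elements by conjugation, and some
element of `P` fixes no element of `S`, then `p ∣ |S|`. -/
theorem dvd_card_of_conj_free [Finite G] {p : ℕ} [hp : Fact p.Prime] (P : Subgroup G)
    (hP : IsPGroup p P) (y : G) (hy : y ∈ P) (S : Set G)
    (hS : ∀ u ∈ P, ∀ s ∈ S, u * s * u⁻¹ ∈ S)
    (hfree : ∀ s ∈ S, y * s * y⁻¹ ≠ s) : p ∣ Nat.card S := by
  let act : MulAction P S :=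
    { smul := fun u s => ⟨(u : G) * s.1 * (u : G)⁻¹, hS u u.2 s.1 s.2⟩
      one_smul := fun s => Subtype.ext (by
        show ((1 : P) : G) * s.1 * ((1 : P) : G)⁻¹ = s.1
        simp)
      mul_smul := fun u v s => Subtype.ext (by
        show ((u * v : P) : G) * s.1 * ((u * v : P) : G)⁻¹ = (u : G) * ((v : G) * s.1 * (v : G)⁻¹) * (u : G)⁻¹
        simp [mul_assoc]) }
  have h1 := hP.card_modEq_card_fixedPoints S
  have h2 : Nat.card (MulAction.fixedPoints P S) = 0 := by
    have : IsEmpty (MulAction.fixedPoints P S) := by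
      constructor
      rintro ⟨s, hs⟩
      have h3 := hs ⟨y, hy⟩
      have h4 : y * s.1 * y⁻¹ = s.1 := congrArg Subtype.val h3
      exact hfree s.1 s.2 h4
    exact Nat.card_of_isEmpty
  rw [h2] at h1
  exact (Nat.modEq_zero_iff_dvd.mp h1)

/-- The elements of square one in `C` inject into `C / P` when `P` is a central subgroup of odd
order: `|{c ∈ C : c² = 1}| * |P| ≤ |C|`. -/
theorem card_sq_eq_one_mul_card_le [Finite G] (P C : Subgroup G) (hPC : P ≤ C)
    (hcent : ∀ u ∈ P, ∀ c ∈ C, u * c = c * u) (hodd : ∀ u ∈ P, u ^ 2 = 1 → u = 1) :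
    Nat.card {c : G // c ∈ C ∧ c ^ 2 = 1} * Nat.card P ≤ Nat.card C := by
  rw [← Nat.card_prod]
  let f : {c : G // c ∈ C ∧ c ^ 2 = 1} × P → C := fun x => ⟨x.1.1 * x.2.1, mul_mem x.1.2.1 (hPC x.2.2)⟩
  apply Nat.card_le_card_of_injective f
  rintro ⟨⟨e, heC, he2⟩, ⟨u, hu⟩⟩ ⟨⟨e', heC', he2'⟩, ⟨u', hu'⟩⟩ h
  have h1 : e * u = e' * u' := congrArg Subtype.val h
  have ht : u * u'⁻¹ ∈ P := mul_mem hu (inv_mem hu')
  have h2 : e' = e * (u * u'⁻¹) := by
    calc e' = (e' * u') * u'⁻¹ := by group
      _ = (e * u) * u'⁻¹ := by rw [h1]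
      _ = e * (u * u'⁻¹) := by group
  have h3 : (u * u'⁻¹) ^ 2 = 1 := by
    have hc := hcent _ ht e heC
    have : e' ^ 2 = e ^ 2 * (u * u'⁻¹) ^ 2 := by
      rw [h2, sq, sq, sq]
      calc e * (u * u'⁻¹) * (e * (u * u'⁻¹)) = e * ((u * u'⁻¹) * e) * (u * u'⁻¹) := by group
        _ = e * (e * (u * u'⁻¹)) * (u * u'⁻¹) := by rw [hc]
        _ = e * e * ((u * u'⁻¹) * (u * u'⁻¹)) := by group
    rw [he2, he2', one_mul] at this
    exact this.symm
  have h4 := hodd _ ht h3
  have h5 : u = u' := by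
    calc u = (u * u'⁻¹) * u' := by group
      _ = u' := by rw [h4, one_mul]
  subst h5
  have h6 : e = e' := mul_right_cancel h1
  subst h6
  rfl

end Cfsg.Agent.Lib.Helper5.SylCnt
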