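import Mathlib
import Cfsg.Agent.Lib.Helper5.SylCnt

set_option autoImplicit false

namespace Cfsg.Agent.Lib.Helper5.Ord1440

open Cfsg.Agent.Lib.Helper4.Sylow Cfsg.Agent.Lib.Helper4.Simple Cfsg.Agent.Lib.Helper4.SylowPrime
open Cfsg.Agent.Lib.Helper5.SylCnt

variable {G : Type*} [Group G]

theorem card_mul_relIndex_of_le (C N : Subgroup G) (h : C ≤ N) :
    Nat.card C * C.relIndex N = Nat.card N := by
  have h1 := (C.subgroupOf N).card_mul_index
  rw [← Subgroup.relIndex] at h1
  rw [← h1]
  congr 1
  exact (Nat.card_congr (Subgroup.subgroupOfEquivOfLe h).toEquiv).symm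

/-- a proper subgroup of a simple group of order 1440 has index at least 7 -/
theorem seven_le_index [Finite G] [IsSimpleGroup G] (hG : Nat.card G = 1440) (H : Subgroup G)
    (hH : H ≠ ⊤) : 7 ≤ H.index := by
  by_contra hlt
  push Not at hlt
  have h1 := card_dvd_factorial_of_simple H hH
  have h2 : (H.index).factorial ∣ (6).factorial := Nat.factorial_dvd_factorial (by omega)
  have h3 := h1.trans h2
  rw [hG] at h3
  revert h3
  decide

/-- stabilizer of a Sylow subgroup in a subgroup -/
theorem stabilizer_subgroup_sylow {p : ℕ} [Fact p.Prime] (N : Subgroup G) (R : Sylow p G) :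
    MulAction.stabilizer N R = (Subgroup.normalizer ((R : Subgroup G) : Set G)).subgroupOf N := by
  ext g
  rw [MulAction.mem_stabilizer_iff, Subgroup.mem_subgroupOf]
  have : g • R = (g : G) • R := rfl
  rw [this, Sylow.smul_eq_iff_mem_normalizer]
  exact Iff.rfl

/-- In a group of order 1440 with 16 Sylow 5-subgroups, `N(P) ∩ N(P')` contains an element of
order 3 for distinct Sylow 5-subgroups `P`, `P'`. -/
theorem exists_order_three [Finite G] (hG : Nat.card G = 1440)
    (h16 : Nat.card (Sylow 5 G) = 16) [Fact (Nat.Prime 5)] (P P' : Sylow 5 G) (hne : P ≠ P') :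
    ∃ g : G, orderOf g = 3 ∧ g ∈ Subgroup.normalizer ((P : Subgroup G) : Set G) ∧
      g ∈ Subgroup.normalizer ((P' : Subgroup G) : Set G) := by
  have h3p : Fact (Nat.Prime 3) := ⟨by norm_num⟩
  have hG' : Nat.card G = 5 ^ 1 * 288 := by rw [hG]; norm_num
  have hm : ¬ 5 ∣ 288 := by norm_num
  have hcardP : ∀ P : Sylow 5 G, Nat.card (P : Subgroup G) = 5 := fun P => by
    simpa using card_sylow_of_card_eq hG' hm P
  set N := Subgroup.normalizer ((P : Subgroup G) : Set G) with hN
  set N' := Subgroup.normalizer ((P' : Subgroup G) : Set G) with hN'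
  have hcardN : Nat.card N = 90 := by
    have h1 : 16 * Nat.card N = 1440 := by
      have := card_sylow_mul_card_normalizer P
      rwa [h16, hG] at this
    omega
  -- orbit-stabilizer for `N` acting on the Sylow subgroups
  have hos := Nat.card_congr (MulAction.orbitProdStabilizerEquivGroup N P')
  rw [Nat.card_prod, stabilizer_subgroup_sylow, card_subgroupOf_eq_card_inf', hcardN] at hos
  have horb : Nat.card (MulAction.orbit N P') ≤ 15 := by
    have hsub : MulAction.orbit N P' ⊆ ({P} : Set (Sylow 5 G))ᶜ := by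
      rintro _ ⟨g, rfl⟩
      rw [Set.mem_compl_iff, Set.mem_singleton_iff]
      intro h
      apply hne
      have h1 : (g : G) • P' = P := h
      have h2 : (g : G) • P = P := Sylow.smul_eq_iff_mem_normalizer.mpr g.2
      have h3 : (g : G) • P' = (g : G) • P := by rw [h1, h2]
      exact (smul_left_cancel _ h3).symm
    have h1 := Set.ncard_le_ncard hsub (Set.toFinite _)
    rw [Set.ncard_compl, Set.ncard_singleton, h16] at h1
    rw [Nat.card_coe_set_eq]
    exact h1
  set K : Subgroup G := N' ⊓ N with hK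
  have hK5 : ¬ 5 ∣ Nat.card K := by
    intro h5
    obtain ⟨⟨x, hx⟩, hxo⟩ := exists_prime_orderOf_dvd_card' (G := K) 5 h5
    rw [Subgroup.orderOf_mk] at hxo
    have hpg : IsPGroup 5 (Subgroup.zpowers x) := by
      apply IsPGroup.of_card (n := 1)
      rw [Nat.card_zpowers, hxo, pow_one]
    have hx1 : x ≠ 1 := by
      rintro rfl
      rw [orderOf_one] at hxo
      omega
    have hxP : x ∈ (P : Subgroup G) :=
      mem_sylow_of_mem_normalizer P x hx.2 _ hpg (Subgroup.mem_zpowers x)
    have hxP' : x ∈ (P' : Subgroup G) :=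
      mem_sylow_of_mem_normalizer P' x hx.1 _ hpg (Subgroup.mem_zpowers x)
    exact hne (sylow_eq_of_mem P P' (hcardP P) x hx1 hxP hxP')
  have hK3 : 3 ∣ Nat.card K := by
    generalize Nat.card (MulAction.orbit N P') = o at hos horb
    generalize Nat.card K = k at hos hK5
    have ho : 0 < o := by
      rcases Nat.eq_zero_or_pos o with h | h
      · subst h; omega
      · exact h
    interval_cases o <;> omega
  obtain ⟨⟨g, hg⟩, hgo⟩ := exists_prime_orderOf_dvd_card' (G := K) 3 hK3
  rw [Subgroup.orderOf_mk] at hgo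
  exact ⟨g, hgo, hg.2, hg.1⟩

/-- No simple group of order 1440 has 16 Sylow 5-subgroups. -/
theorem not_sixteen [Finite G] [IsSimpleGroup G] (hG : Nat.card G = 1440)
    (h16 : Nat.card (Sylow 5 G) = 16) : False := by
  have h5p : Fact (Nat.Prime 5) := ⟨by norm_num⟩
  have h3p : Fact (Nat.Prime 3) := ⟨by norm_num⟩
  have hG' : Nat.card G = 5 ^ 1 * 288 := by rw [hG]; norm_num
  have hm : ¬ 5 ∣ 288 := by norm_num
  have hcardP : ∀ P : Sylow 5 G, Nat.card (P : Subgroup G) = 5 := fun P => by
    simpa using card_sylow_of_card_eq hG' hm P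
  obtain ⟨P, P', hne⟩ : ∃ P P' : Sylow 5 G, P ≠ P' := by
    have h1 : 1 < Nat.card (Sylow 5 G) := by omega
    have : Nontrivial (Sylow 5 G) := Finite.one_lt_card_iff_nontrivial.mp h1
    exact exists_pair_ne _
  obtain ⟨g, hgo, hgN, hgN'⟩ := exists_order_three hG h16 P P' hne
  set N := Subgroup.normalizer ((P : Subgroup G) : Set G) with hN
  set C := Subgroup.centralizer ((P : Subgroup G) : Set G) with hC
  have hcardN : Nat.card N = 90 := by
    have h1 : 16 * Nat.card N = 1440 := by
      have := card_sylow_mul_card_normalizer P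
      rwa [h16, hG] at this
    omega
  have haut : ∀ Q : Sylow 5 G, Nat.card (MulAut (Q : Subgroup G)) = 4 := fun Q => by
    rw [card_mulAut_of_card_prime (Q : Subgroup G) (hcardP Q)]
  have hgC : g ∈ C :=
    mem_centralizer_of_coprime (P : Subgroup G) g hgN (by rw [hgo, haut]; norm_num)
  have hgC' : g ∈ Subgroup.centralizer ((P' : Subgroup G) : Set G) :=
    mem_centralizer_of_coprime (P' : Subgroup G) g hgN' (by rw [hgo, haut]; norm_num)
  set H := Subgroup.centralizer ({g} : Set G) with hH
  have hPH : (P : Subgroup G) ≤ H := by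
    intro u hu
    rw [hH, Subgroup.mem_centralizer_iff]
    intro h hh
    rw [Set.mem_singleton_iff] at hh
    subst hh
    exact (Subgroup.mem_centralizer_iff.mp hgC u hu).symm
  have hPH' : (P' : Subgroup G) ≤ H := by
    intro u hu
    rw [hH, Subgroup.mem_centralizer_iff]
    intro h hh
    rw [Set.mem_singleton_iff] at hh
    subst hh
    exact (Subgroup.mem_centralizer_iff.mp hgC' u hu).symm
  -- the order of `C`
  have hCN : C ≤ N := Subgroup.centralizer_le_normalizer _
  have hrel : C.relIndex N ∣ 4 := by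
    have := relIndex_centralizer_normalizer_dvd (P : Subgroup G)
    rwa [haut] at this
  have hcardC : Nat.card C = 45 ∨ Nat.card C = 90 := by
    have h1 := card_mul_relIndex_of_le C N hCN
    rw [hcardN] at h1
    generalize C.relIndex N = r at *
    have hr : r ≤ 4 := Nat.le_of_dvd (by norm_num) hrel
    interval_cases r <;> omega
  -- a subgroup of order 9 of `C` containing `g`, inside `N ⊓ H`
  have h9 : 9 ∣ Nat.card (N ⊓ H : Subgroup G) := by
    have hpg : IsPGroup 3 (Subgroup.zpowers (⟨g, hgC⟩ : C)) := by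
      apply IsPGroup.of_card (n := 1)
      rw [Nat.card_zpowers, Subgroup.orderOf_mk, hgo, pow_one]
    obtain ⟨Q, hQ⟩ := hpg.exists_le_sylow
    have hQcard : Nat.card Q = 3 ^ 2 := by
      rcases hcardC with h | h
      · exact card_sylow_of_card_eq (m := 5) (by rw [h]; norm_num) (by norm_num) Q
      · exact card_sylow_of_card_eq (m := 10) (by rw [h]; norm_num) (by norm_num) Q
    have hQcomm := IsPGroup.isMulCommutative_of_card_eq_prime_sq (p := 3) (G := (Q : Subgroup C)) hQcard
    have hle : (Q : Subgroup C).map C.subtype ≤ N ⊓ H := by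
      rintro _ ⟨q, hq, rfl⟩
      refine ⟨hCN q.2, ?_⟩
      show (q : G) ∈ Subgroup.centralizer ({g} : Set G)
      rw [Subgroup.mem_centralizer_iff]
      intro h hh
      rw [Set.mem_singleton_iff] at hh
      subst hh
      have hgQ : (⟨h, hgC⟩ : C) ∈ (Q : Subgroup C) := hQ (Subgroup.mem_zpowers _)
      have := hQcomm.is_comm.comm ⟨⟨h, hgC⟩, hgQ⟩ ⟨q, hq⟩
      have h2 : (⟨h, hgC⟩ : C) * q = q * ⟨h, hgC⟩ := congrArg Subtype.val this
      exact congrArg Subtype.val h2
    have h1 := Subgroup.card_dvd_of_le hle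
    rw [Subgroup.card_map_of_injective C.subtype_injective] at h1
    have : Nat.card (Q : Subgroup C) = 9 := by rw [show Nat.card (Q : Subgroup C) = Nat.card Q from rfl, hQcard]; norm_num
    rwa [this] at h1
  have h5 : 5 ∣ Nat.card (N ⊓ H : Subgroup G) := by
    have h1 := Subgroup.card_dvd_of_le (le_inf (Subgroup.le_normalizer) hPH : (P : Subgroup G) ≤ N ⊓ H)
    rwa [hcardP] at h1
  have h90 : Nat.card (N ⊓ H : Subgroup G) ∣ 90 := by
    have h1 := Subgroup.card_dvd_of_le (inf_le_left : N ⊓ H ≤ N)
    rwa [hcardN] at h1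
  obtain ⟨n, hn1, hn2, hn3⟩ := sylow_count_in_subgroup P H hPH
  have hn_ne : n ≠ 1 := fun h => hne (hn3 h P' hPH').symm
  have hHdvd : Nat.card H ∣ 1440 := hG ▸ Subgroup.card_subgroup_dvd_card H
  -- numerics: `|H| ≥ 720`
  have hHge : 720 ≤ Nat.card H := by
    rw [hn2] at hHdvd ⊢
    generalize Nat.card (N ⊓ H : Subgroup G) = d at *
    have hd : d = 45 ∨ d = 90 := by
      have hd90 : d ≤ 90 := Nat.le_of_dvd (by norm_num) h90
      obtain ⟨e, rfl⟩ := h9
      have : e ≤ 10 := by omega
      interval_cases e <;> omega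
    unfold Nat.ModEq at hn1
    rcases hd with rfl | rfl
    · have h32 : n ∣ 32 := by
        have : n * 45 ∣ 32 * 45 := by norm_num; exact hHdvd
        exact Nat.dvd_of_mul_dvd_mul_right (by norm_num) this
      have hn32 : n ≤ 32 := Nat.le_of_dvd (by norm_num) h32
      interval_cases n <;> omega
    · have h16' : n ∣ 16 := by
        have : n * 90 ∣ 16 * 90 := by norm_num; exact hHdvd
        exact Nat.dvd_of_mul_dvd_mul_right (by norm_num) this
      have hn16 : n ≤ 16 := Nat.le_of_dvd (by norm_num) h16'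
      interval_cases n <;> omega
  have hHtop : H = ⊤ := by
    by_contra hHne
    have h7 := seven_le_index hG H hHne
    have h1 := H.card_mul_index
    rw [hG] at h1
    have : 720 * 7 ≤ Nat.card H * H.index := Nat.mul_le_mul hHge h7
    omega
  -- `g` is central
  have hgZ : g ∈ Subgroup.center G := by
    rw [Subgroup.mem_center_iff]
    intro x
    have hx : x ∈ H := by rw [hHtop]; trivial
    rw [hH, Subgroup.mem_centralizer_iff] at hx
    exact (hx g rfl).symm
  have hZtop : Subgroup.center G = ⊤ := by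
    rcases (inferInstance : (Subgroup.center G).Normal).eq_bot_or_eq_top with h | h
    · exfalso
      rw [h, Subgroup.mem_bot] at hgZ
      rw [hgZ, orderOf_one] at hgo
      omega
    · exact h
  have hNtop : N = ⊤ := by
    rw [eq_top_iff, ← hZtop]
    exact Subgroup.center_le_normalizer _
  rw [hNtop, Subgroup.card_top, hG] at hcardN
  omega

end Cfsg.Agent.Lib.Helper5.Ord1440
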