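import Mathlib
import Cfsg.Agent.Lib.Helper5.SylCnt
import Cfsg.Agent.Lib.Helper5.Ord1440A
import Cfsg.Agent.S1019

set_option autoImplicit false

namespace Cfsg.Agent.Lib.Helper5.Ord1440

open Cfsg.Agent.Lib.Helper4.Sylow Cfsg.Agent.Lib.Helper4.Simple Cfsg.Agent.Lib.Helper4.SylowPrime
open Cfsg.Agent.Lib.Helper5.SylCnt

variable {G : Type*} [Group G]

theorem sq_eq_one_of_isConj {z g : G} (h : IsConj z g) (hz : z ^ 2 = 1) : g ^ 2 = 1 := by
  obtain ⟨c, rfl⟩ := isConj_iff.mp h
  rw [conj_pow, hz, mul_one, mul_inv_cancel]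

theorem ne_one_of_isConj {z g : G} (h : IsConj z g) (hz : z ≠ 1) : g ≠ 1 := by
  obtain ⟨c, rfl⟩ := isConj_iff.mp h
  intro h1
  apply hz
  have : z = c⁻¹ * (c * z * c⁻¹) * c := by group
  rw [this, h1]
  group

/-- basic numerology for 36 Sylow 5-subgroups -/
theorem basic36 [Finite G] [IsSimpleGroup G] (hG : Nat.card G = 1440)
    (h36 : Nat.card (Sylow 5 G) = 36) [Fact (Nat.Prime 5)] (P : Sylow 5 G) :
    Nat.card (P : Subgroup G) = 5 ∧
    Nat.card (Subgroup.normalizer ((P : Subgroup G) : Set G)) = 40 ∧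
    (Subgroup.normalizer ((P : Subgroup G) : Set G)).index = 36 ∧
    (P : Subgroup G) ≤ Subgroup.centralizer ((P : Subgroup G) : Set G) ∧
    (Nat.card (Subgroup.centralizer ((P : Subgroup G) : Set G)) = 10 ∨
      Nat.card (Subgroup.centralizer ((P : Subgroup G) : Set G)) = 20) := by
  have hG' : Nat.card G = 5 ^ 1 * 288 := by rw [hG]; norm_num
  have hm : ¬ 5 ∣ 288 := by norm_num
  have hcardP : Nat.card (P : Subgroup G) = 5 := by
    simpa using card_sylow_of_card_eq hG' hm P
  set N := Subgroup.normalizer ((P : Subgroup G) : Set G) with hN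
  set C := Subgroup.centralizer ((P : Subgroup G) : Set G) with hC
  have hcardN : Nat.card N = 40 := by
    have h1 : 36 * Nat.card N = 1440 := by
      have := card_sylow_mul_card_normalizer P
      rwa [h36, hG] at this
    omega
  have hidx : N.index = 36 := by rw [← h36]; exact P.card_eq_index_normalizer.symm
  have hCN : C ≤ N := Subgroup.centralizer_le_normalizer _
  have hPC : (P : Subgroup G) ≤ C := by
    intro u hu
    rw [hC, Subgroup.mem_centralizer_iff]
    intro v hv
    exact comm_of_card_prime (P : Subgroup G) hcardP v u hv hu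
  refine ⟨hcardP, hcardN, hidx, hPC, ?_⟩
  have haut : Nat.card (MulAut (P : Subgroup G)) = 4 := by
    rw [card_mulAut_of_card_prime (P : Subgroup G) hcardP]
  have hrel : C.relIndex N ∣ 4 := by
    have := relIndex_centralizer_normalizer_dvd (P : Subgroup G)
    rwa [haut] at this
  have h1 := card_mul_relIndex_of_le C N hCN
  rw [hcardN] at h1
  have h40 : Nat.card C ≠ 40 := by
    intro h
    have hCN' : C = N := Subgroup.eq_of_le_of_card_ge hCN (by rw [h, hcardN])
    exact false_of_simple_of_normalizer_le_centralizer P (le_of_eq hCN'.symm)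
      (by rw [show Nat.card P = Nat.card (P : Subgroup G) from rfl, hcardP]; norm_num)
      (by rw [show Nat.card P = Nat.card (P : Subgroup G) from rfl, hcardP, hG]; norm_num)
  generalize C.relIndex N = r at *
  have hr : r ≤ 4 := Nat.le_of_dvd (by norm_num) hrel
  interval_cases r <;> omega

/-- The key counting lemma: an involution `z` centralizing a Sylow 5-subgroup `P`. -/
theorem key36 [Finite G] [IsSimpleGroup G] (hG : Nat.card G = 1440)
    (h36 : Nat.card (Sylow 5 G) = 36) [Fact (Nat.Prime 5)] (P : Sylow 5 G) (z : G)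
    (hzC : z ∈ Subgroup.centralizer ((P : Subgroup G) : Set G)) (hzo : orderOf z = 2) :
    Nat.card (Subgroup.centralizer ((P : Subgroup G) : Set G)) = 20 ∧
    Subgroup.centralizer ({z} : Set G) = Subgroup.normalizer ((P : Subgroup G) : Set G) ∧
    (∀ z' ∈ Subgroup.centralizer ((P : Subgroup G) : Set G), IsConj z z' → z' = z) ∧
    Set.ncard {g : G | IsConj z g ∧ g ∈ Subgroup.normalizer ((P : Subgroup G) : Set G) ∧
      g ∉ Subgroup.centralizer ((P : Subgroup G) : Set G)} = 15 := by
  obtain ⟨hcardP, hcardN, hidx, hPC, hcardC⟩ := basic36 hG h36 P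
  set N := Subgroup.normalizer ((P : Subgroup G) : Set G) with hN
  set C := Subgroup.centralizer ((P : Subgroup G) : Set G) with hC
  have hCN : C ≤ N := Subgroup.centralizer_le_normalizer _
  have hPN : (P : Subgroup G) ≤ N := Subgroup.le_normalizer
  have hz2 : z ^ 2 = 1 := by rw [← hzo]; exact pow_orderOf_eq_one z
  have hz1 : z ≠ 1 := by
    rintro rfl
    rw [orderOf_one] at hzo
    omega
  have hzN : z ∈ N := hCN hzC
  have hNtop : N ≠ ⊤ := by
    intro h
    rw [h, Subgroup.index_top] at hidx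
    omega
  -- fixed points of `z`
  obtain ⟨k, hk0, hk⟩ := index_eq_card_fixedBy_add (by omega) N hNtop z hz2 hz1
  have hmod : Nat.card (MulAction.fixedBy (G ⧸ N) z) ≡ 1 [MOD 5] :=
    card_fixedBy_modEq_one_of_mem_centralizer P hcardP z hzC
  have hfix : Nat.card (MulAction.fixedBy (G ⧸ N) z) = 16 := by
    rw [hidx] at hk
    unfold Nat.ModEq at hmod
    omega
  have h1019 := Cfsg.Agent.S1019.result N z hzN
  rw [hfix, hidx] at h1019
  have hcl := card_conj_mul_card_centralizer z
  rw [hG] at hcl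
  set H := Subgroup.centralizer ({z} : Set G) with hH
  -- the three sets
  set S : Set G := {g : G | IsConj z g ∧ g ∈ N} with hS
  set S1 : Set G := {g : G | IsConj z g ∧ g ∈ C} with hS1
  set S2 : Set G := {g : G | IsConj z g ∧ g ∈ N ∧ g ∉ C} with hS2
  have hScard : Nat.card {g : G // IsConj z g ∧ g ∈ N} = S.ncard := Nat.card_coe_set_eq S
  rw [hScard] at h1019
  have hmh : S.ncard * Nat.card H = 640 := by
    have h2 : 36 * (S.ncard * Nat.card H) = 36 * 640 := by
      calc 36 * (S.ncard * Nat.card H) = (36 * S.ncard) * Nat.card H := by ring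
        _ = (16 * Nat.card {g : G // IsConj z g}) * Nat.card H := by rw [h1019]
        _ = 16 * (Nat.card {g : G // IsConj z g} * Nat.card H) := by ring
        _ = 36 * 640 := by rw [hcl]
    exact Nat.eq_of_mul_eq_mul_left (by norm_num) h2
  have hSunion : S = S1 ∪ S2 := by
    ext g
    simp only [hS, hS1, hS2, Set.mem_ofPred_eq, Set.mem_union]
    constructor
    · rintro ⟨h1, h2⟩
      by_cases hgC : g ∈ C
      · exact Or.inl ⟨h1, hgC⟩
      · exact Or.inr ⟨h1, h2, hgC⟩
    · rintro (⟨h1, h2⟩ | ⟨h1, h2, -⟩)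
      · exact ⟨h1, hCN h2⟩
      · exact ⟨h1, h2⟩
  have hdisj : Disjoint S1 S2 := by
    rw [Set.disjoint_left]
    rintro g ⟨-, h2⟩ ⟨-, -, h3⟩
    exact h3 h2
  have hSsum : S.ncard = S1.ncard + S2.ncard := by
    rw [hSunion]
    exact Set.ncard_union_eq hdisj (Set.toFinite _) (Set.toFinite _)
  -- a generator of `P`
  obtain ⟨y, hyP, hyo, hy1⟩ := exists_orderOf_eq_of_card_prime (P : Subgroup G) hcardP
  have hPy := sylow_eq_zpowers P hcardP y hy1 hyP
  -- `5 ∣ |S2|`
  have h5S2 : 5 ∣ S2.ncard := by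
    rw [← Nat.card_coe_set_eq]
    apply dvd_card_of_conj_free (P : Subgroup G) P.2 y hyP S2
    · rintro u hu g ⟨h1, h2, h3⟩
      refine ⟨h1.trans (isConj_iff.mpr ⟨u, rfl⟩), ?_, ?_⟩
      · exact mul_mem (mul_mem (hPN hu) h2) (inv_mem (hPN hu))
      · intro h4
        apply h3
        have : g = u⁻¹ * (u * g * u⁻¹) * u := by group
        rw [this]
        exact mul_mem (mul_mem (inv_mem (hPC hu)) h4) (hPC hu)
    · rintro g ⟨h1, h2, h3⟩ h4
      apply h3
      rw [hC, Subgroup.mem_centralizer_iff]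
      intro v hv
      have hv' : v ∈ Subgroup.zpowers y := by rw [← hPy]; exact hv
      obtain ⟨j, rfl⟩ := Subgroup.mem_zpowers_iff.mp hv'
      have hcomm : Commute g y := by
        have : y * g = g * y := by
          calc y * g = (y * g * y⁻¹) * y := by group
            _ = g * y := by rw [h4]
        exact this.symm
      exact ((hcomm.zpow_right j).eq).symm
  -- `|S2| ≤ |C|`
  have hS2le : S2.ncard ≤ Nat.card C := by
    rcases Set.eq_empty_or_nonempty S2 with he | ⟨w0, hw0⟩
    · rw [he, Set.ncard_empty]; exact Nat.zero_le _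
    · rw [← Nat.card_coe_set_eq]
      obtain ⟨hw1, hw2, hw3⟩ := hw0
      let f : S2 → C := fun g => ⟨w0⁻¹ * g.1,
        inv_mul_mem_centralizer P hcardP w0 g.1 hw2 (sq_eq_one_of_isConj hw1 hz2) hw3
          g.2.2.1 (sq_eq_one_of_isConj g.2.1 hz2) g.2.2.2⟩
      apply Nat.card_le_card_of_injective f
      rintro ⟨g, hg⟩ ⟨g', hg'⟩ h
      have h1 : w0⁻¹ * g = w0⁻¹ * g' := congrArg Subtype.val h
      exact Subtype.ext (mul_left_cancel h1)
  -- `S1`
  have hS1pos : 1 ≤ S1.ncard := by
    have : z ∈ S1 := ⟨IsConj.refl z, hzC⟩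
    exact (Set.ncard_pos (Set.toFinite _)).mpr ⟨z, this⟩
  have hS1le : 5 * (S1.ncard + 1) ≤ Nat.card C := by
    set E : Set G := {c : G | c ∈ C ∧ c ^ 2 = 1} with hE
    have hE1 : (1 : G) ∈ E := ⟨one_mem C, one_pow 2⟩
    have hsub : S1 ⊆ E \ {1} := by
      rintro g ⟨h1, h2⟩
      exact ⟨⟨h2, sq_eq_one_of_isConj h1 hz2⟩, ne_one_of_isConj h1 hz1⟩
    have h1 := Set.ncard_le_ncard hsub (Set.toFinite _)
    have h2 := Set.ncard_sdiff_singleton_add_one hE1 (Set.toFinite _)
    have h3 := card_sq_eq_one_mul_card_le (P : Subgroup G) C hPC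
      (fun u hu c hc => (Subgroup.mem_centralizer_iff.mp hc u hu))
      (fun u hu hu2 => by
        have h4 : orderOf u ∣ 2 := orderOf_dvd_of_pow_eq_one hu2
        have h5 : orderOf u ∣ 5 := by
          have := orderOf_dvd_natCard (⟨u, hu⟩ : (P : Subgroup G))
          rwa [Subgroup.orderOf_mk, hcardP] at this
        have h6 : orderOf u ∣ Nat.gcd 2 5 := Nat.dvd_gcd h4 h5
        norm_num at h6
        exact h6)
    have h4 : Nat.card {c : G // c ∈ C ∧ c ^ 2 = 1} = E.ncard := Nat.card_coe_set_eq E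
    rw [h4, hcardP] at h3
    omega
  -- Sylow counting in `H`
  have hPH : (P : Subgroup G) ≤ H := by
    intro u hu
    rw [hH, Subgroup.mem_centralizer_iff]
    intro h hh
    rw [Set.mem_singleton_iff] at hh
    subst hh
    exact (Subgroup.mem_centralizer_iff.mp hzC u hu).symm
  obtain ⟨n, hn1, hn2', -⟩ := sylow_count_in_subgroup P H hPH
  have hn2 : Nat.card H = n * Nat.card (N ⊓ H : Subgroup G) := hn2'
  clear hn2'
  have hd40 : Nat.card (N ⊓ H : Subgroup G) ≤ 40 := by
    have h1 := Subgroup.card_dvd_of_le (inf_le_left : N ⊓ H ≤ N)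
    rw [hcardN] at h1
    exact Nat.le_of_dvd (by norm_num) h1
  have hd2 : 2 ∣ Nat.card (N ⊓ H : Subgroup G) := by
    have hzNH : z ∈ N ⊓ H := by
      refine Subgroup.mem_inf.mpr ⟨hzN, ?_⟩
      rw [hH, Subgroup.mem_centralizer_iff]
      intro h hh
      rw [Set.mem_singleton_iff] at hh
      rw [hh]
    have := orderOf_dvd_natCard (⟨z, hzNH⟩ : (N ⊓ H : Subgroup G))
    rwa [Subgroup.orderOf_mk, hzo] at this
  have hHdvd : Nat.card H ∣ 1440 := hG ▸ Subgroup.card_subgroup_dvd_card H
  have hH80 : Nat.card H ≠ 80 := by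
    intro h80
    rw [h80] at hn2
    unfold Nat.ModEq at hn1
    generalize Nat.card (N ⊓ H : Subgroup G) = d at *
    have hd0 : 0 < d := by
      rcases Nat.eq_zero_or_pos d with h | h
      · subst h; omega
      · exact h
    interval_cases d <;> omega
  -- numerics
  have hnum : Nat.card C = 20 ∧ Nat.card H = 40 ∧ S1.ncard = 1 ∧ S2.ncard = 15 := by
    have h160 : Nat.card H ∣ 160 := by
      have h1 : Nat.card H ∣ 640 := Dvd.intro_left _ hmh
      exact Nat.dvd_gcd hHdvd h1
    have hle : Nat.card H ≤ 160 := Nat.le_of_dvd (by norm_num) h160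
    have hpos : 0 < Nat.card H := Nat.card_pos
    rw [hSsum] at hmh
    obtain ⟨a', ha'⟩ := h5S2
    generalize Nat.card H = h at *
    generalize S1.ncard = c1 at *
    generalize S2.ncard = a at *
    generalize Nat.card C = cc at *
    subst ha'
    interval_cases h <;> omega
  obtain ⟨hC20, hH40, hS1one, hS2card⟩ := hnum
  refine ⟨hC20, ?_, ?_, hS2card⟩
  · -- `H = N`
    rw [hH40] at hn2
    have hd : Nat.card (N ⊓ H : Subgroup G) = 40 := by
      unfold Nat.ModEq at hn1
      generalize Nat.card (N ⊓ H : Subgroup G) = d at *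
      have hd0 : 0 < d := by
        rcases Nat.eq_zero_or_pos d with h | h
        · subst h; omega
        · exact h
      interval_cases d <;> omega
    have h1 : N ⊓ H = N := Subgroup.eq_of_le_of_card_ge inf_le_left (by rw [hd, hcardN])
    have h2 : N ≤ H := by rw [← h1]; exact inf_le_right
    exact (Subgroup.eq_of_le_of_card_ge h2 (by rw [hH40, hcardN])).symm
  · intro z' hz'C hconj
    have h1 : z' ∈ S1 := ⟨hconj, hz'C⟩
    have h2 : z ∈ S1 := ⟨IsConj.refl z, hzC⟩
    rw [Set.ncard_eq_one] at hS1one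
    obtain ⟨x, hx⟩ := hS1one
    rw [hx, Set.mem_singleton_iff] at h1 h2
    rw [h1, h2]

end Cfsg.Agent.Lib.Helper5.Ord1440
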