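import Mathlib
import Cfsg.Agent.Lib.Helper5.Ord1440B

set_option autoImplicit false

namespace Cfsg.Agent.Lib.Helper5.Ord1440

open Cfsg.Agent.Lib.Helper4.Sylow Cfsg.Agent.Lib.Helper4.Simple Cfsg.Agent.Lib.Helper4.SylowPrime
open Cfsg.Agent.Lib.Helper5.SylCnt

variable {G : Type*} [Group G]

/-- `C(P)` contains a unique involution. -/
theorem unique_involution36 [Finite G] [IsSimpleGroup G] (hG : Nat.card G = 1440)
    (h36 : Nat.card (Sylow 5 G) = 36) [Fact (Nat.Prime 5)] (P : Sylow 5 G) (z1 z2 : G)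
    (hz1C : z1 ∈ Subgroup.centralizer ((P : Subgroup G) : Set G)) (hz1o : orderOf z1 = 2)
    (hz2C : z2 ∈ Subgroup.centralizer ((P : Subgroup G) : Set G)) (hz2o : orderOf z2 = 2) :
    z1 = z2 := by
  by_contra hne
  obtain ⟨hcardP, hcardN, hidx, hPC, -⟩ := basic36 hG h36 P
  obtain ⟨hC20, -, huniq1, hcard1⟩ := key36 hG h36 P z1 hz1C hz1o
  obtain ⟨-, -, huniq2, hcard2⟩ := key36 hG h36 P z2 hz2C hz2o
  set N := Subgroup.normalizer ((P : Subgroup G) : Set G) with hN
  set C := Subgroup.centralizer ((P : Subgroup G) : Set G) with hC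
  have hCN : C ≤ N := Subgroup.centralizer_le_normalizer _
  set T1 : Set G := {g : G | IsConj z1 g ∧ g ∈ N ∧ g ∉ C} with hT1
  set T2 : Set G := {g : G | IsConj z2 g ∧ g ∈ N ∧ g ∉ C} with hT2
  have hdisj : Disjoint T1 T2 := by
    rw [Set.disjoint_left]
    rintro g ⟨h1, -, -⟩ ⟨h2, -, -⟩
    apply hne
    have h3 : IsConj z1 z2 := h1.trans h2.symm
    exact (huniq1 z2 hz2C h3).symm
  have hsub : T1 ∪ T2 ⊆ (N : Set G) \ (C : Set G) := by
    rintro g (⟨-, h2, h3⟩ | ⟨-, h2, h3⟩)
    · exact ⟨h2, h3⟩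
    · exact ⟨h2, h3⟩
  have h1 := Set.ncard_le_ncard hsub (Set.toFinite _)
  rw [Set.ncard_union_eq hdisj (Set.toFinite _) (Set.toFinite _), hcard1, hcard2,
    Set.ncard_sdiff (by exact_mod_cast hCN) (Set.toFinite _)] at h1
  have h2 : (N : Set G).ncard = 40 := by
    rw [← Nat.card_coe_set_eq]; exact hcardN
  have h3 : (C : Set G).ncard = 20 := by
    rw [← Nat.card_coe_set_eq]; exact hC20
  omega

/-- No simple group of order 1440 has 36 Sylow 5-subgroups. -/
theorem not_thirtysix [Finite G] [IsSimpleGroup G] (hG : Nat.card G = 1440)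
    (h36 : Nat.card (Sylow 5 G) = 36) : False := by
  have h5p : Fact (Nat.Prime 5) := ⟨by norm_num⟩
  have h2p : Fact (Nat.Prime 2) := ⟨by norm_num⟩
  obtain ⟨P⟩ : Nonempty (Sylow 5 G) := inferInstance
  obtain ⟨hcardP, hcardN, hidx, hPC, hcardC⟩ := basic36 hG h36 P
  set N := Subgroup.normalizer ((P : Subgroup G) : Set G) with hN
  set C := Subgroup.centralizer ((P : Subgroup G) : Set G) with hC
  have hCN : C ≤ N := Subgroup.centralizer_le_normalizer _
  -- an involution of `C`
  have h2C : 2 ∣ Nat.card C := by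
    rcases hcardC with h | h <;> rw [h] <;> norm_num
  obtain ⟨⟨z, hzC⟩, hzo'⟩ := exists_prime_orderOf_dvd_card' (G := C) 2 h2C
  have hzo : orderOf z = 2 := by rwa [Subgroup.orderOf_mk] at hzo'
  obtain ⟨hC20, hHN, huniq, hcard⟩ := key36 hG h36 P z hzC hzo
  -- an element of order 4 of `C`
  have h4C : 2 ^ 2 ∣ Nat.card C := by
    have : Nat.card C = 20 := hC20
    rw [this]; norm_num
  obtain ⟨K, hK⟩ := Sylow.exists_subgroup_card_pow_prime 2 h4C
  have hex : ∃ x ∈ K, x ^ 2 ≠ 1 := by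
    by_contra hall
    push Not at hall
    have hsub : (K : Set C) ⊆ {1, ⟨z, hzC⟩} := by
      intro x hx
      by_cases hx1 : x = 1
      · left; exact hx1
      · right
        have hxo : orderOf (x : G) = 2 := by
          apply orderOf_eq_prime
          · have h := congrArg Subtype.val (hall x hx)
            simpa using h
          · intro h; apply hx1; exact Subtype.ext h
        have := unique_involution36 hG h36 P (x : G) z x.2 hxo hzC hzo
        exact Subtype.ext this
    have h1 := Set.ncard_le_ncard hsub (Set.toFinite _)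
    have h2 : (K : Set C).ncard = 4 := by
      rw [← Nat.card_coe_set_eq]; exact hK
    have h3 : ({1, ⟨z, hzC⟩} : Set C).ncard ≤ 2 :=
      (Set.ncard_insert_le _ _).trans (by simp)
    omega
  obtain ⟨a', haK, ha2⟩ := hex
  obtain ⟨a, haC⟩ := a'
  have hao4 : a ^ 4 = 1 := by
    have h1 := orderOf_dvd_natCard (⟨⟨a, haC⟩, haK⟩ : K)
    rw [hK, Subgroup.orderOf_mk, Subgroup.orderOf_mk] at h1
    exact orderOf_dvd_iff_pow_eq_one.mp h1
  have ha2' : a ^ 2 ≠ 1 := by
    intro h
    apply ha2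
    exact Subtype.ext (by simpa using h)
  have haz : a ^ 2 = z := by
    have ho : orderOf (a ^ 2) = 2 :=
      orderOf_eq_prime (by rw [← pow_mul]; exact hao4) ha2'
    exact unique_involution36 hG h36 P (a ^ 2) z (pow_mem haC 2) ho hzC hzo
  -- conjugation by `a` fixes an element of `S2`
  set S2 : Set G := {g : G | IsConj z g ∧ g ∈ N ∧ g ∉ C} with hS2
  have hfix : ∃ x ∈ S2, a * x * a⁻¹ = x := by
    by_contra hno
    push Not at hno
    have hzpC : Subgroup.zpowers a ≤ C := by
      rw [Subgroup.zpowers_le]; exact haC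
    have hpg : IsPGroup 2 (Subgroup.zpowers a) := by
      rintro ⟨g, hg⟩
      refine ⟨2, ?_⟩
      obtain ⟨j, rfl⟩ := Subgroup.mem_zpowers_iff.mp hg
      apply Subtype.ext
      show (a ^ j) ^ 2 ^ 2 = 1
      rw [← zpow_natCast, ← zpow_mul, mul_comm, zpow_mul, zpow_natCast]
      norm_num
      rw [hao4, one_zpow]
    have h2 := dvd_card_of_conj_free (Subgroup.zpowers a) hpg a (Subgroup.mem_zpowers a) S2
      (by
        rintro u hu g ⟨h1, h2, h3⟩
        have huC : u ∈ C := hzpC hu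
        refine ⟨h1.trans (isConj_iff.mpr ⟨u, rfl⟩), ?_, ?_⟩
        · exact mul_mem (mul_mem (hCN huC) h2) (inv_mem (hCN huC))
        · intro h4
          apply h3
          have : g = u⁻¹ * (u * g * u⁻¹) * u := by group
          rw [this]
          exact mul_mem (mul_mem (inv_mem huC) h4) huC)
      hno
    rw [Nat.card_coe_set_eq, hcard] at h2
    omega
  obtain ⟨x, ⟨hxconj, hxN, hxC⟩, hax⟩ := hfix
  obtain ⟨k, hk⟩ := isConj_iff.mp hxconj
  set P1 : Sylow 5 G := k • P with hP1
  have hz2 : z ^ 2 = 1 := by rw [← hzo]; exact pow_orderOf_eq_one z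
  have hz1 : z ≠ 1 := by
    rintro rfl
    rw [orderOf_one] at hzo
    omega
  have hxo : orderOf x = 2 :=
    orderOf_eq_prime (sq_eq_one_of_isConj hxconj hz2) (ne_one_of_isConj hxconj hz1)
  have hxC1 : x ∈ Subgroup.centralizer ((P1 : Subgroup G) : Set G) := by
    rw [Subgroup.mem_centralizer_iff]
    intro v hv
    have hv' : k⁻¹ * v * k ∈ (P : Subgroup G) := (mem_smul_sylow_iff P k v).mp hv
    have h1 := Subgroup.mem_centralizer_iff.mp hzC _ hv'
    rw [← hk]
    calc v * (k * z * k⁻¹) = k * ((k⁻¹ * v * k) * z) * k⁻¹ := by group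
      _ = k * (z * (k⁻¹ * v * k)) * k⁻¹ := by rw [h1]
      _ = k * z * k⁻¹ * v := by group
  obtain ⟨hC1_20, hHN1, -, -⟩ := key36 hG h36 P1 x hxC1 hxo
  obtain ⟨-, hcardN1, -, -, -⟩ := basic36 hG h36 P1
  set N1 := Subgroup.normalizer ((P1 : Subgroup G) : Set G) with hN1
  set C1 := Subgroup.centralizer ((P1 : Subgroup G) : Set G) with hC1
  have haN1 : a ∈ N1 := by
    rw [← hHN1, Subgroup.mem_centralizer_iff]
    intro h hh
    rw [Set.mem_singleton_iff] at hh
    subst hh
    calc h * a = (a * h * a⁻¹) * a := by rw [hax]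
      _ = a * h := by group
  have hidx2 : (C1.subgroupOf N1).index = 2 := by
    have h1 := card_mul_relIndex_of_le C1 N1 (Subgroup.centralizer_le_normalizer _)
    rw [hC1_20, hcardN1] at h1
    show C1.relIndex N1 = 2
    omega
  have h1 := Subgroup.sq_mem_of_index_two hidx2 (⟨a, haN1⟩ : N1)
  have ha2C1 : a ^ 2 ∈ C1 := by
    rw [Subgroup.mem_subgroupOf] at h1
    simpa using h1
  rw [haz] at ha2C1
  have hzx := unique_involution36 hG h36 P1 z x ha2C1 hzo hxC1 hxo
  exact hxC (hzx ▸ hzC)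

end Cfsg.Agent.Lib.Helper5.Ord1440
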