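import Mathlib
import Cfsg.Agent.Lib.Helper5.SylCnt
import Cfsg.Agent.S1019

/-!
# More Sylow counting tools (helper5)

Fixed points of `q`-subgroups on invariant subsets, commutativity of `C(P)`, the fixed point
formula combined with the class equation, the splitting of `z^G ∩ N(P)`, and the overgroup of
`N(P)` and `C(z)` stabilizing the fixed points of an involution `z ∈ C(P)`.
-/

set_option autoImplicit false

namespace Cfsg.Agent.Lib.Helper5.SylCnt

open Cfsg.Agent.Lib.Helper4.Sylow Cfsg.Agent.Lib.Helper4.Simple Cfsg.Agent.Lib.Helper4.SylowPrime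
open scoped Pointwise

variable {G : Type*} [Group G]

/-- fixed point congruence for a `q`-subgroup acting on an invariant finite subset of a `G`-set -/
theorem card_modEq_card_fixed_sub {X : Type*} [MulAction G X] {q : ℕ} [Fact q.Prime]
    (Q : Subgroup G) (hQ : IsPGroup q Q) (A : Set X) [Finite A]
    (hA : ∀ u ∈ Q, ∀ a ∈ A, u • a ∈ A) :
    Nat.card A ≡ Nat.card {a : X // a ∈ A ∧ ∀ u ∈ Q, u • a = a} [MOD q] := by
  let act : MulAction Q A :=
    { smul := fun u a => ⟨(u : G) • a.1, hA u u.2 a.1 a.2⟩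
      one_smul := fun a => Subtype.ext (one_smul G a.1)
      mul_smul := fun u v a => Subtype.ext (mul_smul (u : G) (v : G) a.1) }
  have h1 := hQ.card_modEq_card_fixedPoints A
  refine h1.trans ?_
  have e : MulAction.fixedPoints Q A ≃ {a : X // a ∈ A ∧ ∀ u ∈ Q, u • a = a} :=
    { toFun := fun a => ⟨a.1.1, a.1.2, fun u hu => congrArg Subtype.val (a.2 ⟨u, hu⟩)⟩
      invFun := fun a => ⟨⟨a.1, a.2.1⟩, fun u => Subtype.ext (a.2.2 u.1 u.2)⟩
      left_inv := fun a => rfl
      right_inv := fun a => rfl }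
  rw [Nat.card_congr e]

/-- `C` is commutative if it has a central subgroup `P` of coprime index `k` and groups of order
`k` inside `C` are commutative. -/
theorem comm_of_central_of_card [Finite G] (P C : Subgroup G) (hPC : P ≤ C)
    (hcent : ∀ u ∈ P, ∀ c ∈ C, u * c = c * u) (k : ℕ)
    (hcard : Nat.card C = Nat.card P * k) (hcop : Nat.Coprime (Nat.card P) k)
    (hk : ∀ K : Subgroup C, Nat.card K = k → ∀ a ∈ K, ∀ b ∈ K, a * b = b * a) :
    ∀ c ∈ C, ∀ c' ∈ C, c * c' = c' * c := by
  set P' : Subgroup C := P.subgroupOf C with hP'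
  have hcardP' : Nat.card P' = Nat.card P :=
    Nat.card_congr (Subgroup.subgroupOfEquivOfLe hPC).toEquiv
  have hcent' : ∀ u ∈ P', ∀ c : C, u * c = c * u := fun u hu c =>
    Subtype.ext (hcent u.1 (Subgroup.mem_subgroupOf.mp hu) c.1 c.2)
  have hnorm : P'.Normal := ⟨fun u hu c => by
    have : c * u * c⁻¹ = u := by rw [← hcent' u hu c]; group
    rw [this]; exact hu⟩
  have hidx : P'.index = k := by
    have h1 := P'.card_mul_index
    rw [hcardP', hcard] at h1
    exact Nat.eq_of_mul_eq_mul_left Nat.card_pos h1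
  obtain ⟨K, hK⟩ := Subgroup.exists_right_complement'_of_coprime (N := P')
    (by rw [hcardP', hidx]; exact hcop)
  have hKcard : Nat.card K = k := by
    have h1 := hK.card_mul_card
    rw [hcardP', hcard] at h1
    exact Nat.eq_of_mul_eq_mul_left Nat.card_pos h1
  have hKcomm := hk K hKcard
  intro c hc c' hc'
  obtain ⟨⟨⟨u, hu⟩, ⟨v, hv⟩⟩, huv⟩ := hK.2 ⟨c, hc⟩
  obtain ⟨⟨⟨u', hu'⟩, ⟨v', hv'⟩⟩, huv'⟩ := hK.2 ⟨c', hc'⟩
  have h1 : (⟨c, hc⟩ : C) * ⟨c', hc'⟩ = ⟨c', hc'⟩ * ⟨c, hc⟩ := by
    rw [← huv, ← huv']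
    show u * v * (u' * v') = u' * v' * (u * v)
    have e1 := hcent' u' hu' v
    have e2 := hcent' u hu v'
    have e3 := hcent' u hu u'
    have e4 := hKcomm v hv v' hv'
    calc u * v * (u' * v') = u * (v * u') * v' := by group
      _ = u * (u' * v) * v' := by rw [e1]
      _ = (u * u') * (v * v') := by group
      _ = (u' * u) * (v' * v) := by rw [e3, e4]
      _ = u' * (u * v') * v := by group
      _ = u' * (v' * u) * v := by rw [e2]
      _ = u' * v' * (u * v) := by group
  exact congrArg Subtype.val h1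

/-- the fixed point formula combined with the class equation -/
theorem fixedBy_mul_card_eq [Finite G] (N : Subgroup G) (z : G) (hz : z ∈ N) :
    Nat.card (MulAction.fixedBy (G ⧸ N) z) * Nat.card G =
      N.index * (Set.ncard {g : G | IsConj z g ∧ g ∈ N} *
        Nat.card (Subgroup.centralizer ({z} : Set G))) := by
  have h1 := Cfsg.Agent.S1019.result N z hz
  have h2 := card_conj_mul_card_centralizer z
  have h3 : Nat.card {g : G // IsConj z g ∧ g ∈ N} = Set.ncard {g : G | IsConj z g ∧ g ∈ N} :=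
    Nat.card_coe_set_eq {g : G | IsConj z g ∧ g ∈ N}
  rw [h3] at h1
  rw [← h2, ← mul_assoc, h1]
  ring

theorem sq_eq_one_of_isConj' {z g : G} (h : IsConj z g) (hz : z ^ 2 = 1) : g ^ 2 = 1 := by
  obtain ⟨c, rfl⟩ := isConj_iff.mp h
  rw [conj_pow, hz, mul_one, mul_inv_cancel]

theorem ne_one_of_isConj' {z g : G} (h : IsConj z g) (hz : z ≠ 1) : g ≠ 1 := by
  obtain ⟨c, rfl⟩ := isConj_iff.mp h
  intro h1
  apply hz
  have : z = c⁻¹ * (c * z * c⁻¹) * c := by group
  rw [this, h1]
  group

/-- The conjugates of an involution `z ∈ C(P)` inside `N(P)`, `|P| = p` odd: they split into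
those in `C(P)` (at most `|C(P)|/p - 1` of them) and those outside (a multiple of `p`, at most
`|C(P)|`). -/
theorem split_data [Finite G] {p : ℕ} [hp : Fact p.Prime] (hp2 : p ≠ 2) (P : Sylow p G)
    (hP : Nat.card (P : Subgroup G) = p) (z : G)
    (hzC : z ∈ Subgroup.centralizer ((P : Subgroup G) : Set G)) (hz2 : z ^ 2 = 1) (hz1 : z ≠ 1) :
    Set.ncard {g : G | IsConj z g ∧ g ∈ Subgroup.normalizer ((P : Subgroup G) : Set G)} =
      Set.ncard {g : G | IsConj z g ∧ g ∈ Subgroup.centralizer ((P : Subgroup G) : Set G)} +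
      Set.ncard {g : G | IsConj z g ∧ g ∈ Subgroup.normalizer ((P : Subgroup G) : Set G) ∧
        g ∉ Subgroup.centralizer ((P : Subgroup G) : Set G)} ∧
    p ∣ Set.ncard {g : G | IsConj z g ∧ g ∈ Subgroup.normalizer ((P : Subgroup G) : Set G) ∧
        g ∉ Subgroup.centralizer ((P : Subgroup G) : Set G)} ∧
    Set.ncard {g : G | IsConj z g ∧ g ∈ Subgroup.normalizer ((P : Subgroup G) : Set G) ∧
        g ∉ Subgroup.centralizer ((P : Subgroup G) : Set G)} ≤
      Nat.card (Subgroup.centralizer ((P : Subgroup G) : Set G)) ∧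
    1 ≤ Set.ncard {g : G | IsConj z g ∧ g ∈ Subgroup.centralizer ((P : Subgroup G) : Set G)} ∧
    p * (Set.ncard {g : G | IsConj z g ∧ g ∈ Subgroup.centralizer ((P : Subgroup G) : Set G)} + 1)
      ≤ Nat.card (Subgroup.centralizer ((P : Subgroup G) : Set G)) := by
  set N := Subgroup.normalizer ((P : Subgroup G) : Set G) with hN
  set C := Subgroup.centralizer ((P : Subgroup G) : Set G) with hC
  have hCN : C ≤ N := Subgroup.centralizer_le_normalizer _
  have hPN : (P : Subgroup G) ≤ N := Subgroup.le_normalizer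
  have hPC : (P : Subgroup G) ≤ C := by
    intro u hu
    rw [hC, Subgroup.mem_centralizer_iff]
    intro v hv
    exact comm_of_card_prime (P : Subgroup G) hP v u hv hu
  set S : Set G := {g : G | IsConj z g ∧ g ∈ N} with hS
  set S1 : Set G := {g : G | IsConj z g ∧ g ∈ C} with hS1
  set S2 : Set G := {g : G | IsConj z g ∧ g ∈ N ∧ g ∉ C} with hS2
  have hSunion : S = S1 ∪ S2 := by
    ext g
    simp only [hS, hS1, hS2, Set.mem_ofPred_eq, Set.mem_union]
    constructor
    · rintro ⟨h1, h2⟩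
      by_cases hgC : g ∈ C
      · exact Or.inl ⟨h1, hgC⟩
      · exact Or.inr ⟨h1, h2, hgC⟩
    · rintro (⟨h1, h2⟩ | ⟨h1, h2, -⟩)
      · exact ⟨h1, hCN h2⟩
      · exact ⟨h1, h2⟩
  have hdisj : Disjoint S1 S2 := by
    rw [Set.disjoint_left]
    rintro g ⟨-, h2⟩ ⟨-, -, h3⟩
    exact h3 h2
  have hSsum : S.ncard = S1.ncard + S2.ncard := by
    rw [hSunion]
    exact Set.ncard_union_eq hdisj (Set.toFinite _) (Set.toFinite _)
  obtain ⟨y, hyP, hyo, hy1⟩ := exists_orderOf_eq_of_card_prime (P : Subgroup G) hP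
  have hPy := sylow_eq_zpowers P hP y hy1 hyP
  have h5S2 : p ∣ S2.ncard := by
    rw [← Nat.card_coe_set_eq]
    apply dvd_card_of_conj_free (P : Subgroup G) P.2 y hyP S2
    · rintro u hu g ⟨h1, h2, h3⟩
      refine ⟨h1.trans (isConj_iff.mpr ⟨u, rfl⟩), ?_, ?_⟩
      · exact mul_mem (mul_mem (hPN hu) h2) (inv_mem (hPN hu))
      · intro h4
        apply h3
        have : g = u⁻¹ * (u * g * u⁻¹) * u := by group
        rw [this]
        exact mul_mem (mul_mem (inv_mem (hPC hu)) h4) (hPC hu)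
    · rintro g ⟨h1, h2, h3⟩ h4
      apply h3
      rw [hC, Subgroup.mem_centralizer_iff]
      intro v hv
      have hv' : v ∈ Subgroup.zpowers y := by rw [← hPy]; exact hv
      obtain ⟨j, rfl⟩ := Subgroup.mem_zpowers_iff.mp hv'
      have hcomm : Commute g y := by
        have : y * g = g * y := by
          calc y * g = (y * g * y⁻¹) * y := by group
            _ = g * y := by rw [h4]
        exact this.symm
      exact ((hcomm.zpow_right j).eq).symm
  have hS2le : S2.ncard ≤ Nat.card C := by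
    rcases Set.eq_empty_or_nonempty S2 with he | ⟨w0, hw0⟩
    · rw [he, Set.ncard_empty]; exact Nat.zero_le _
    · rw [← Nat.card_coe_set_eq]
      obtain ⟨hw1, hw2, hw3⟩ := hw0
      let f : S2 → C := fun g => ⟨w0⁻¹ * g.1,
        inv_mul_mem_centralizer P hP w0 g.1 hw2 (sq_eq_one_of_isConj' hw1 hz2) hw3
          g.2.2.1 (sq_eq_one_of_isConj' g.2.1 hz2) g.2.2.2⟩
      apply Nat.card_le_card_of_injective f
      rintro ⟨g, hg⟩ ⟨g', hg'⟩ h
      have h1 : w0⁻¹ * g = w0⁻¹ * g' := congrArg Subtype.val h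
      exact Subtype.ext (mul_left_cancel h1)
  have hS1pos : 1 ≤ S1.ncard := by
    have : z ∈ S1 := ⟨IsConj.refl z, hzC⟩
    exact (Set.ncard_pos (Set.toFinite _)).mpr ⟨z, this⟩
  have hS1le : p * (S1.ncard + 1) ≤ Nat.card C := by
    set E : Set G := {c : G | c ∈ C ∧ c ^ 2 = 1} with hE
    have hE1 : (1 : G) ∈ E := ⟨one_mem C, one_pow 2⟩
    have hsub : S1 ⊆ E \ {1} := by
      rintro g ⟨h1, h2⟩
      exact ⟨⟨h2, sq_eq_one_of_isConj' h1 hz2⟩, ne_one_of_isConj' h1 hz1⟩
    have h1 := Set.ncard_le_ncard hsub (Set.toFinite _)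
    have h2 := Set.ncard_sdiff_singleton_add_one hE1 (Set.toFinite _)
    have h3 := card_sq_eq_one_mul_card_le (P : Subgroup G) C hPC
      (fun u hu c hc => (Subgroup.mem_centralizer_iff.mp hc u hu))
      (fun u hu hu2 => by
        have h4 : orderOf u ∣ 2 := orderOf_dvd_of_pow_eq_one hu2
        have h5 : orderOf u ∣ p := by
          have := orderOf_dvd_natCard (⟨u, hu⟩ : (P : Subgroup G))
          rwa [Subgroup.orderOf_mk, hP] at this
        have hcop : Nat.Coprime 2 p := by
          rw [Nat.coprime_comm]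
          exact (Nat.coprime_primes hp.out Nat.prime_two).mpr hp2
        have h6 : orderOf u ∣ Nat.gcd 2 p := Nat.dvd_gcd h4 h5
        rw [hcop] at h6
        exact orderOf_eq_one_iff.mp (Nat.dvd_one.mp h6))
    have h4 : Nat.card {c : G // c ∈ C ∧ c ^ 2 = 1} = E.ncard := Nat.card_coe_set_eq E
    rw [h4, hP] at h3
    calc p * (S1.ncard + 1) ≤ p * E.ncard := Nat.mul_le_mul_left p (by omega)
      _ = E.ncard * p := Nat.mul_comm _ _
      _ ≤ Nat.card C := h3
  exact ⟨hSsum, h5S2, hS2le, hS1pos, hS1le⟩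

/-- If the involution `z ∈ C(P)` fixes exactly `p + 1` cosets of `N(P)` (`|P| = p` odd), then
every element `z'` of square one of `C(P)` commuting with `z` fixes all these cosets. -/
theorem fixedBy_subset_fixedBy [Finite G] {p : ℕ} [hp : Fact p.Prime] (hp2 : p ≠ 2)
    (P : Sylow p G) (hP : Nat.card (P : Subgroup G) = p) (z z' : G)
    (hzC : z ∈ Subgroup.centralizer ((P : Subgroup G) : Set G))
    (hz'C : z' ∈ Subgroup.centralizer ((P : Subgroup G) : Set G))
    (hcomm : z * z' = z' * z) (hz'2 : z' ^ 2 = 1)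
    (hfix : Nat.card (MulAction.fixedBy (G ⧸ Subgroup.normalizer ((P : Subgroup G) : Set G)) z)
      = p + 1) :
    MulAction.fixedBy (G ⧸ Subgroup.normalizer ((P : Subgroup G) : Set G)) z ⊆
      MulAction.fixedBy (G ⧸ Subgroup.normalizer ((P : Subgroup G) : Set G)) z' := by
  have h2p : Fact (Nat.Prime 2) := ⟨Nat.prime_two⟩
  set N := Subgroup.normalizer ((P : Subgroup G) : Set G) with hN
  set A : Set (G ⧸ N) := MulAction.fixedBy (G ⧸ N) z with hA
  set B : Set (G ⧸ N) := {a | a ∈ A ∧ ∀ u ∈ Subgroup.zpowers z', u • a = a} with hB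
  have hpg : IsPGroup 2 (Subgroup.zpowers z') := by
    rintro ⟨g, hg⟩
    refine ⟨1, ?_⟩
    obtain ⟨j, rfl⟩ := Subgroup.mem_zpowers_iff.mp hg
    apply Subtype.ext
    show (z' ^ j) ^ 2 ^ 1 = 1
    rw [pow_one, ← zpow_natCast, ← zpow_mul, mul_comm, zpow_mul, zpow_natCast, hz'2, one_zpow]
  have h1 : Nat.card A ≡ Nat.card B [MOD 2] := by
    refine card_modEq_card_fixed_sub (Subgroup.zpowers z') hpg A ?_
    intro u hu a ha
    obtain ⟨j, rfl⟩ := Subgroup.mem_zpowers_iff.mp hu
    rw [hA, MulAction.mem_fixedBy] at ha ⊢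
    have hc : Commute z (z' ^ j) := Commute.zpow_right hcomm j
    rw [← mul_smul, hc.eq, mul_smul, ha]
  -- `P` acts on `B`
  have h2 : Nat.card B ≡ 1 [MOD p] := by
    have h3 : Nat.card B ≡ Nat.card {a : G ⧸ N // a ∈ B ∧ ∀ u ∈ (P : Subgroup G), u • a = a}
        [MOD p] := by
      refine card_modEq_card_fixed_sub (P : Subgroup G) P.2 B ?_
      rintro u hu a ⟨ha1, ha2⟩
      refine ⟨?_, ?_⟩
      · rw [hA, MulAction.mem_fixedBy] at ha1 ⊢
        have hc : z * u = u * z := (Subgroup.mem_centralizer_iff.mp hzC u hu).symm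
        rw [← mul_smul, hc, mul_smul, ha1]
      · intro v hv
        obtain ⟨j, rfl⟩ := Subgroup.mem_zpowers_iff.mp hv
        have hc0 : Commute z' u := (Subgroup.mem_centralizer_iff.mp hz'C u hu).symm
        have hc : Commute (z' ^ j) u := Commute.zpow_left hc0 j
        rw [← mul_smul, hc.eq, mul_smul, ha2 _ (Subgroup.zpow_mem_zpowers z' j)]
    refine h3.trans ?_
    obtain ⟨y, hyP, hyo, hy1⟩ := exists_orderOf_eq_of_card_prime (P : Subgroup G) hP
    have h4 := card_fixedBy_eq_one p P hP y hyo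
    have h5 : Nat.card {a : G ⧸ N // a ∈ B ∧ ∀ u ∈ (P : Subgroup G), u • a = a} = 1 := by
      rw [Nat.card_eq_one_iff_unique]
      constructor
      · constructor
        rintro ⟨a, -, ha⟩ ⟨b, -, hb⟩
        have hsub : Subsingleton (MulAction.fixedBy (G ⧸ N) y) :=
          (Nat.card_eq_one_iff_unique.mp h4).1
        have ha' : a ∈ MulAction.fixedBy (G ⧸ N) y := ha y hyP
        have hb' : b ∈ MulAction.fixedBy (G ⧸ N) y := hb y hyP
        have := Subsingleton.elim (⟨a, ha'⟩ : MulAction.fixedBy (G ⧸ N) y) ⟨b, hb'⟩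
        have h6 : a = b := by
          have h7 := congrArg Subtype.val this
          exact h7
        exact Subtype.ext h6
      · have hmemN : ∀ g : G, g ∈ N → g • ((1 : G) : G ⧸ N) = ((1 : G) : G ⧸ N) := by
          intro g hg
          rw [smul_mk_eq_iff, inv_one, one_mul, mul_one]
          exact hg
        have hCN : Subgroup.centralizer ((P : Subgroup G) : Set G) ≤ N :=
          Subgroup.centralizer_le_normalizer _
        refine ⟨⟨((1 : G) : G ⧸ N), ⟨?_, ?_⟩, ?_⟩⟩
        · rw [hA, MulAction.mem_fixedBy]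
          exact hmemN z (hCN hzC)
        · intro u hu
          obtain ⟨j, rfl⟩ := Subgroup.mem_zpowers_iff.mp hu
          exact hmemN _ (zpow_mem (hCN hz'C) j)
        · intro u hu
          exact hmemN u (Subgroup.le_normalizer hu)
    rw [h5]
  -- `B ⊆ A`, hence `B = A`
  have hBA : B ⊆ A := fun a ha => ha.1
  have hle : Nat.card B ≤ Nat.card A := by
    rw [Nat.card_coe_set_eq, Nat.card_coe_set_eq]
    exact Set.ncard_le_ncard hBA (Set.toFinite _)
  have hAcard : Nat.card A = p + 1 := hfix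
  have hpodd : p % 2 = 1 := by
    rcases hp.out.eq_two_or_odd with h | h
    · exact absurd h hp2
    · exact h
  have hBcard : Nat.card B = p + 1 := by
    rw [hAcard] at h1 hle
    have hp0 : 0 < p := hp.out.pos
    have hB1 : 1 ≤ Nat.card B := by
      rcases Nat.eq_zero_or_pos (Nat.card B) with h | h
      · exfalso
        rw [h] at h2
        have := (Nat.modEq_zero_iff_dvd.mp h2.symm)
        have := Nat.le_of_dvd Nat.one_pos this
        have := hp.out.two_le
        omega
      · exact h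
    have h3 : p ∣ Nat.card B - 1 := (Nat.modEq_iff_dvd' hB1).mp h2.symm
    obtain ⟨j, hj⟩ := h3
    unfold Nat.ModEq at h1
    have hj1 : j ≤ 1 := by
      by_contra hlt
      push Not at hlt
      have : p * 2 ≤ p * j := Nat.mul_le_mul_left p hlt
      omega
    interval_cases j
    · exfalso
      omega
    · omega
  have hBeq : B = A := by
    apply Set.eq_of_subset_of_ncard_le hBA _ (Set.toFinite _)
    rw [← Nat.card_coe_set_eq, ← Nat.card_coe_set_eq, hBcard, hAcard]
  intro a ha
  have haB : a ∈ B := by rw [hBeq]; exact ha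
  rw [MulAction.mem_fixedBy]
  exact haB.2 z' (Subgroup.mem_zpowers z')

/-- conjugating an element of `C(H)` by an element of `N(H)` -/
theorem conj_mem_centralizer_of_mem_normalizer (H : Subgroup G) (g c : G)
    (hg : g ∈ Subgroup.normalizer (H : Set G)) (hc : c ∈ Subgroup.centralizer (H : Set G)) :
    g⁻¹ * c * g ∈ Subgroup.centralizer (H : Set G) := by
  rw [Subgroup.mem_centralizer_iff]
  intro u hu
  have h1 : g * u * g⁻¹ ∈ H := (Subgroup.mem_normalizer_iff.mp hg u).mp hu
  have h2 := Subgroup.mem_centralizer_iff.mp hc _ h1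
  calc u * (g⁻¹ * c * g) = g⁻¹ * ((g * u * g⁻¹) * c) * g := by group
    _ = g⁻¹ * (c * (g * u * g⁻¹)) * g := by rw [h2]
    _ = g⁻¹ * c * g * u := by group

/-- If `C(P)` is commutative and the involution `z ∈ C(P)` fixes exactly `p + 1 < [G : N(P)]`
cosets of `N(P)`, then `N(P)` and `C(z)` lie in a common proper subgroup. -/
theorem exists_overgroup_of_fixedBy [Finite G] {p : ℕ} [hp : Fact p.Prime] (hp2 : p ≠ 2)
    (P : Sylow p G) (hP : Nat.card (P : Subgroup G) = p)
    (habel : ∀ c ∈ Subgroup.centralizer ((P : Subgroup G) : Set G),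
      ∀ c' ∈ Subgroup.centralizer ((P : Subgroup G) : Set G), c * c' = c' * c)
    (z : G) (hzC : z ∈ Subgroup.centralizer ((P : Subgroup G) : Set G)) (hz2 : z ^ 2 = 1)
    (hfix : Nat.card (MulAction.fixedBy (G ⧸ Subgroup.normalizer ((P : Subgroup G) : Set G)) z)
      = p + 1)
    (hlt : p + 1 < (Subgroup.normalizer ((P : Subgroup G) : Set G)).index) :
    ∃ K : Subgroup G, Subgroup.normalizer ((P : Subgroup G) : Set G) ≤ K ∧
      Subgroup.centralizer ({z} : Set G) ≤ K ∧ K ≠ ⊤ := by
  set N := Subgroup.normalizer ((P : Subgroup G) : Set G) with hN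
  set C := Subgroup.centralizer ((P : Subgroup G) : Set G) with hC
  set F : Set (G ⧸ N) := MulAction.fixedBy (G ⧸ N) z with hF
  have hFfin : F.Finite := Set.toFinite F
  refine ⟨MulAction.stabilizer G F, ?_, ?_, ?_⟩
  · intro g hg
    rw [MulAction.mem_stabilizer_set' hFfin]
    intro b hb
    have hz'C : g⁻¹ * z * g ∈ C := conj_mem_centralizer_of_mem_normalizer _ g z hg hzC
    have hz'2 : (g⁻¹ * z * g) ^ 2 = 1 := by
      have : g⁻¹ * z * g = g⁻¹ * z * g⁻¹⁻¹ := by rw [inv_inv]
      rw [this, conj_pow, hz2, mul_one, inv_inv, inv_mul_cancel]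
    have hsub := fixedBy_subset_fixedBy hp2 P hP z (g⁻¹ * z * g) hzC hz'C
      (habel z hzC _ hz'C) hz'2 hfix
    have hb' : (g⁻¹ * z * g) • b = b := hsub hb
    rw [hF, MulAction.mem_fixedBy]
    calc z • g • b = g • (g⁻¹ * z * g) • b := by
          rw [← mul_smul, ← mul_smul]; congr 1; group
      _ = g • b := by rw [hb']
  · intro g hg
    rw [MulAction.mem_stabilizer_set' hFfin]
    intro b hb
    rw [hF, MulAction.mem_fixedBy] at hb ⊢
    have hc : z * g = g * z := Subgroup.mem_centralizer_iff.mp hg z rfl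
    rw [← mul_smul, hc, mul_smul, hb]
  · intro htop
    have hall : ∀ g : G, ∀ b ∈ F, g • b ∈ F := by
      intro g b hb
      have hg : g ∈ MulAction.stabilizer G F := by rw [htop]; trivial
      exact (MulAction.mem_stabilizer_set' hFfin).mp hg hb
    have hne : F.Nonempty := by
      rw [← Set.ncard_pos hFfin, ← Nat.card_coe_set_eq]
      have : Nat.card F = p + 1 := hfix
      omega
    obtain ⟨b0, hb0⟩ := hne
    have huniv : F = Set.univ := by
      rw [Set.eq_univ_iff_forall]
      intro c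
      obtain ⟨g, rfl⟩ := MulAction.exists_smul_eq G b0 c
      exact hall g b0 hb0
    have h1 : Nat.card F = N.index := by
      rw [huniv, Nat.card_coe_set_eq, Set.ncard_univ, Subgroup.index_eq_card]
    have h2 : Nat.card F = p + 1 := hfix
    omega

end Cfsg.Agent.Lib.Helper5.SylCnt
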