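import Mathlib
import Cfsg.Agent.Lib.Helper5.SylCnt2
import Cfsg.Agent.Lib.Helper5.Ord1440A

set_option autoImplicit false

namespace Cfsg.Agent.Lib.Helper5.Ord2016

open Cfsg.Agent.Lib.Helper4.Sylow Cfsg.Agent.Lib.Helper4.Simple Cfsg.Agent.Lib.Helper4.SylowPrime
open Cfsg.Agent.Lib.Helper5.SylCnt Cfsg.Agent.Lib.Helper5.Ord1440

variable {G : Type*} [Group G]

/-- a proper subgroup of a simple group of order 2016 has index at least 8 -/
theorem eight_le_index [Finite G] [IsSimpleGroup G] (hG : Nat.card G = 2016) (H : Subgroup G)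
    (hH : H ≠ ⊤) : 8 ≤ H.index := by
  by_contra hlt
  push Not at hlt
  have h1 := card_dvd_factorial_of_simple H hH
  have h2 : (H.index).factorial ∣ (7).factorial := Nat.factorial_dvd_factorial (by omega)
  have h3 := h1.trans h2
  rw [hG] at h3
  revert h3
  decide

/-- basic numerology for 36 Sylow 7-subgroups -/
theorem basic36 [Finite G] [IsSimpleGroup G] (hG : Nat.card G = 2016)
    (h36 : Nat.card (Sylow 7 G) = 36) [Fact (Nat.Prime 7)] (P : Sylow 7 G) :
    Nat.card (P : Subgroup G) = 7 ∧
    Nat.card (Subgroup.normalizer ((P : Subgroup G) : Set G)) = 56 ∧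
    (Subgroup.normalizer ((P : Subgroup G) : Set G)).index = 36 ∧
    (P : Subgroup G) ≤ Subgroup.centralizer ((P : Subgroup G) : Set G) ∧
    Nat.card (Subgroup.centralizer ((P : Subgroup G) : Set G)) = 28 ∧
    (∀ c ∈ Subgroup.centralizer ((P : Subgroup G) : Set G),
      ∀ c' ∈ Subgroup.centralizer ((P : Subgroup G) : Set G), c * c' = c' * c) := by
  have h2p : Fact (Nat.Prime 2) := ⟨Nat.prime_two⟩
  have hG' : Nat.card G = 7 ^ 1 * 288 := by rw [hG]; norm_num
  have hm : ¬ 7 ∣ 288 := by norm_num
  have hcardP : Nat.card (P : Subgroup G) = 7 := by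
    simpa using card_sylow_of_card_eq hG' hm P
  set N := Subgroup.normalizer ((P : Subgroup G) : Set G) with hN
  set C := Subgroup.centralizer ((P : Subgroup G) : Set G) with hC
  have hcardN : Nat.card N = 56 := by
    have h1 : 36 * Nat.card N = 2016 := by
      have := card_sylow_mul_card_normalizer P
      rwa [h36, hG] at this
    omega
  have hidx : N.index = 36 := by rw [← h36]; exact P.card_eq_index_normalizer.symm
  have hCN : C ≤ N := Subgroup.centralizer_le_normalizer _
  have hPC : (P : Subgroup G) ≤ C := by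
    intro u hu
    rw [hC, Subgroup.mem_centralizer_iff]
    intro v hv
    exact comm_of_card_prime (P : Subgroup G) hcardP v u hv hu
  have haut : Nat.card (MulAut (P : Subgroup G)) = 6 := by
    rw [card_mulAut_of_card_prime (P : Subgroup G) hcardP]
  have hrel : C.relIndex N ∣ 6 := by
    have := relIndex_centralizer_normalizer_dvd (P : Subgroup G)
    rwa [haut] at this
  have h1 := card_mul_relIndex_of_le C N hCN
  rw [hcardN] at h1
  have h56 : Nat.card C ≠ 56 := by
    intro h
    have hCN' : C = N := Subgroup.eq_of_le_of_card_ge hCN (by rw [h, hcardN])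
    exact false_of_simple_of_normalizer_le_centralizer P (le_of_eq hCN'.symm)
      (by rw [show Nat.card P = Nat.card (P : Subgroup G) from rfl, hcardP]; norm_num)
      (by rw [show Nat.card P = Nat.card (P : Subgroup G) from rfl, hcardP, hG]; norm_num)
  have hcardC : Nat.card C = 28 := by
    generalize C.relIndex N = r at *
    have hr : r ≤ 6 := Nat.le_of_dvd (by norm_num) hrel
    interval_cases r <;> omega
  refine ⟨hcardP, hcardN, hidx, hPC, hcardC, ?_⟩
  apply comm_of_central_of_card (P : Subgroup G) C hPC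
    (fun u hu c hc => (Subgroup.mem_centralizer_iff.mp hc u hu)) 4
    (by rw [hcardC, hcardP]) (by rw [hcardP]; norm_num)
  intro K hK a ha b hb
  have hKcomm := IsPGroup.isMulCommutative_of_card_eq_prime_sq (p := 2) (G := K)
    (by rw [hK]; norm_num)
  have := hKcomm.is_comm.comm ⟨a, ha⟩ ⟨b, hb⟩
  exact congrArg Subtype.val this

/-- The key counting lemma: an involution `z` centralizing a Sylow 7-subgroup `P` has
`C(z) = N(P)` (seven conjugates in `N(P)` outside `C(P)`, none besides `z` inside) or
`C(z) = C(P)` (fourteen outside, two inside). -/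
theorem key36 [Finite G] [IsSimpleGroup G] (hG : Nat.card G = 2016)
    (h36 : Nat.card (Sylow 7 G) = 36) [Fact (Nat.Prime 7)] (P : Sylow 7 G) (z : G)
    (hzC : z ∈ Subgroup.centralizer ((P : Subgroup G) : Set G)) (hzo : orderOf z = 2) :
    (Subgroup.centralizer ({z} : Set G) = Subgroup.normalizer ((P : Subgroup G) : Set G) ∧
      Set.ncard {g : G | IsConj z g ∧ g ∈ Subgroup.centralizer ((P : Subgroup G) : Set G)} = 1 ∧
      Set.ncard {g : G | IsConj z g ∧ g ∈ Subgroup.normalizer ((P : Subgroup G) : Set G) ∧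
        g ∉ Subgroup.centralizer ((P : Subgroup G) : Set G)} = 7) ∨
    (Subgroup.centralizer ({z} : Set G) = Subgroup.centralizer ((P : Subgroup G) : Set G) ∧
      Set.ncard {g : G | IsConj z g ∧ g ∈ Subgroup.centralizer ((P : Subgroup G) : Set G)} = 2 ∧
      Set.ncard {g : G | IsConj z g ∧ g ∈ Subgroup.normalizer ((P : Subgroup G) : Set G) ∧
        g ∉ Subgroup.centralizer ((P : Subgroup G) : Set G)} = 14) := by
  obtain ⟨hcardP, hcardN, hidx, hPC, hcardC, habel⟩ := basic36 hG h36 P
  set N := Subgroup.normalizer ((P : Subgroup G) : Set G) with hN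
  set C := Subgroup.centralizer ((P : Subgroup G) : Set G) with hC
  have hCN : C ≤ N := Subgroup.centralizer_le_normalizer _
  have hz2 : z ^ 2 = 1 := by rw [← hzo]; exact pow_orderOf_eq_one z
  have hz1 : z ≠ 1 := by
    rintro rfl
    rw [orderOf_one] at hzo
    omega
  have hzN : z ∈ N := hCN hzC
  have hNtop : N ≠ ⊤ := by
    intro h
    rw [h, Subgroup.index_top] at hidx
    omega
  -- fixed points of `z`
  obtain ⟨k, hk0, hk⟩ := index_eq_card_fixedBy_add (by omega) N hNtop z hz2 hz1
  have hmod : Nat.card (MulAction.fixedBy (G ⧸ N) z) ≡ 1 [MOD 7] :=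
    card_fixedBy_modEq_one_of_mem_centralizer P hcardP z hzC
  have hfix : Nat.card (MulAction.fixedBy (G ⧸ N) z) = 8 := by
    rw [hidx] at hk
    unfold Nat.ModEq at hmod
    omega
  have hcount := fixedBy_mul_card_eq N z hzN
  rw [hfix, hidx, hG] at hcount
  set H := Subgroup.centralizer ({z} : Set G) with hH
  obtain ⟨hSsum, h7S2, hS2le, hS1pos, hS1le⟩ := split_data (by norm_num) P hcardP z hzC hz2 hz1
  set S : Set G := {g : G | IsConj z g ∧ g ∈ N} with hS
  set S1 : Set G := {g : G | IsConj z g ∧ g ∈ C} with hS1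
  set S2 : Set G := {g : G | IsConj z g ∧ g ∈ N ∧ g ∉ C} with hS2
  have hmh : S.ncard * Nat.card H = 448 := by
    have h2 : 36 * (S.ncard * Nat.card H) = 36 * 448 := by rw [← hcount]
    exact Nat.eq_of_mul_eq_mul_left (by norm_num) h2
  -- `H ≤ N`
  have hHN : H ≤ N := by
    obtain ⟨K, hNK, hHK, hKtop⟩ := exists_overgroup_of_fixedBy (by norm_num) P hcardP habel z
      hzC hz2 hfix (by rw [hidx]; norm_num)
    obtain ⟨n, hn1, hn2, -⟩ := sylow_count_in_subgroup P K (le_trans Subgroup.le_normalizer hNK)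
    have hinf : (N ⊓ K : Subgroup G) = N := inf_eq_left.mpr hNK
    have hn2' : Nat.card K = n * 56 := by
      have : Nat.card K = n * Nat.card (N ⊓ K : Subgroup G) := hn2
      rw [this, hinf, hcardN]
    have hKdvd : Nat.card K ∣ 2016 := hG ▸ Subgroup.card_subgroup_dvd_card K
    have hKne : Nat.card K ≠ 2016 := by
      intro h
      apply hKtop
      apply Subgroup.eq_top_of_card_eq
      rw [h, hG]
    have hn : n = 1 := by
      rw [hn2'] at hKdvd hKne
      have h36' : n ∣ 36 := by
        have : n * 56 ∣ 36 * 56 := by norm_num; exact hKdvd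
        exact Nat.dvd_of_mul_dvd_mul_right (by norm_num) this
      have hle : n ≤ 36 := Nat.le_of_dvd (by norm_num) h36'
      unfold Nat.ModEq at hn1
      interval_cases n <;> omega
    have hKN : N = K := Subgroup.eq_of_le_of_card_ge hNK (by rw [hn2', hn, hcardN])
    rw [hKN]; exact hHK
  have hHdvd : Nat.card H ∣ 56 := by
    have := Subgroup.card_dvd_of_le hHN
    rwa [hcardN] at this
  -- numerics
  have hnum : (Nat.card H = 56 ∧ S1.ncard = 1 ∧ S2.ncard = 7) ∨
      (Nat.card H = 28 ∧ S1.ncard = 2 ∧ S2.ncard = 14) := by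
    have hle : Nat.card H ≤ 56 := Nat.le_of_dvd (by norm_num) hHdvd
    have hpos : 0 < Nat.card H := Nat.card_pos
    rw [hSsum] at hmh
    obtain ⟨a', ha'⟩ := h7S2
    rw [hcardC] at hS2le hS1le
    generalize Nat.card H = h at *
    generalize S1.ncard = c1 at *
    generalize S2.ncard = a at *
    subst ha'
    interval_cases h <;> omega
  rcases hnum with ⟨hH56, h1, h2⟩ | ⟨hH28, h1, h2⟩
  · left
    refine ⟨?_, h1, h2⟩
    exact Subgroup.eq_of_le_of_card_ge hHN (by rw [hH56, hcardN])
  · right
    refine ⟨?_, h1, h2⟩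
    have hCH : C ≤ H := by
      intro c hc
      rw [hH, Subgroup.mem_centralizer_iff]
      intro h hh
      rw [Set.mem_singleton_iff] at hh
      subst hh
      exact habel h hzC c hc
    exact (Subgroup.eq_of_le_of_card_ge hCH (by rw [hH28, hcardC])).symm

end Cfsg.Agent.Lib.Helper5.Ord2016
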