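import Mathlib
import Cfsg.Agent.Lib.Helper5.Ord2016A

set_option autoImplicit false

namespace Cfsg.Agent.Lib.Helper5.Ord2016

open Cfsg.Agent.Lib.Helper4.Sylow Cfsg.Agent.Lib.Helper4.Simple Cfsg.Agent.Lib.Helper4.SylowPrime
open Cfsg.Agent.Lib.Helper5.SylCnt Cfsg.Agent.Lib.Helper5.Ord1440

variable {G : Type*} [Group G]

theorem card_centralizer_eq_of_isConj [Finite G] {z x : G} (h : IsConj z x) :
    Nat.card (Subgroup.centralizer ({x} : Set G)) = Nat.card (Subgroup.centralizer ({z} : Set G)) := by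
  have h1 := card_conj_mul_card_centralizer z
  have h2 := card_conj_mul_card_centralizer x
  have h3 : Nat.card {g : G // IsConj x g} = Nat.card {g : G // IsConj z g} :=
    Nat.card_congr (Equiv.subtypeEquivRight
      (fun g => ⟨fun hg => h.trans hg, fun hg => h.symm.trans hg⟩))
  rw [h3, ← h1] at h2
  have hpos : 0 < Nat.card {g : G // IsConj z g} := by
    have : Nonempty {g : G // IsConj z g} := ⟨⟨z, IsConj.refl z⟩⟩
    exact Nat.card_pos
  exact Nat.eq_of_mul_eq_mul_left hpos h2

theorem sylow_eq_of_le_normalizer [Finite G] {p : ℕ} [Fact p.Prime] (P P1 : Sylow p G)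
    (h : (P1 : Subgroup G) ≤ Subgroup.normalizer ((P : Subgroup G) : Set G)) : P1 = P := by
  have hle : (P1 : Subgroup G) ≤ (P : Subgroup G) := fun v hv =>
    mem_sylow_of_mem_normalizer P v (h hv) (P1 : Subgroup G) P1.2 hv
  apply Sylow.ext
  apply Subgroup.eq_of_le_of_card_ge hle
  rw [P.card_eq_multiplicity, P1.card_eq_multiplicity]

/-- conjugating: `x = k z k⁻¹` centralizes `k • P` when `z` centralizes `P` -/
theorem conj_mem_centralizer_smul {p : ℕ} [Fact p.Prime] (P : Sylow p G) (k z : G)
    (hzC : z ∈ Subgroup.centralizer ((P : Subgroup G) : Set G)) :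
    k * z * k⁻¹ ∈ Subgroup.centralizer (((k • P : Sylow p G) : Subgroup G) : Set G) := by
  rw [Subgroup.mem_centralizer_iff]
  intro v hv
  have hv' : k⁻¹ * v * k ∈ (P : Subgroup G) := (mem_smul_sylow_iff P k v).mp hv
  have h1 := Subgroup.mem_centralizer_iff.mp hzC _ hv'
  calc v * (k * z * k⁻¹) = k * ((k⁻¹ * v * k) * z) * k⁻¹ := by group
    _ = k * (z * (k⁻¹ * v * k)) * k⁻¹ := by rw [h1]
    _ = k * z * k⁻¹ * v := by group

/-- the common end of the argument: an involution `x ∈ N(P) \ C(P)` conjugate to an involution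
`z ∈ C(P)` with `C(z) = N(P)` cannot have a "type I" involution of `C(P)` inside `C(P₁)`. -/
theorem final_step [Finite G] [IsSimpleGroup G] (hG : Nat.card G = 2016)
    (h36 : Nat.card (Sylow 7 G) = 36) [Fact (Nat.Prime 7)] (P : Sylow 7 G) (z x : G)
    (hzC : z ∈ Subgroup.centralizer ((P : Subgroup G) : Set G)) (hzo : orderOf z = 2)
    (hzN : Subgroup.centralizer ({z} : Set G) = Subgroup.normalizer ((P : Subgroup G) : Set G))
    (hx : x ∈ {g : G | IsConj z g ∧ g ∈ Subgroup.normalizer ((P : Subgroup G) : Set G) ∧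
        g ∉ Subgroup.centralizer ((P : Subgroup G) : Set G)}) :
    ∃ P1 : Sylow 7 G, P1 ≠ P ∧ x ∈ Subgroup.centralizer ((P1 : Subgroup G) : Set G) ∧
      Subgroup.centralizer ({x} : Set G) = Subgroup.normalizer ((P1 : Subgroup G) : Set G) ∧
      (∀ w ∈ Subgroup.normalizer ((P1 : Subgroup G) : Set G),
        w ^ 2 ∈ Subgroup.centralizer ((P1 : Subgroup G) : Set G)) ∧
      (∀ w ∈ Subgroup.normalizer ((P1 : Subgroup G) : Set G),
        ∀ w' ∈ Subgroup.normalizer ((P1 : Subgroup G) : Set G),
        w ∉ Subgroup.centralizer ((P1 : Subgroup G) : Set G) →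
        w' ∉ Subgroup.centralizer ((P1 : Subgroup G) : Set G) →
        w * w' ∈ Subgroup.centralizer ((P1 : Subgroup G) : Set G)) := by
  obtain ⟨hxconj, hxN, hxC⟩ := hx
  obtain ⟨k, hk⟩ := isConj_iff.mp hxconj
  have hz2 : z ^ 2 = 1 := by rw [← hzo]; exact pow_orderOf_eq_one z
  have hz1 : z ≠ 1 := by
    rintro rfl
    rw [orderOf_one] at hzo
    omega
  have hxo : orderOf x = 2 :=
    orderOf_eq_prime (sq_eq_one_of_isConj' hxconj hz2) (ne_one_of_isConj' hxconj hz1)
  have hxC1 : x ∈ Subgroup.centralizer (((k • P : Sylow 7 G) : Subgroup G) : Set G) := by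
    rw [← hk]; exact conj_mem_centralizer_smul P k z hzC
  refine ⟨k • P, ?_, hxC1, ?_, ?_, ?_⟩
  · intro h
    rw [h] at hxC1
    exact hxC hxC1
  · obtain ⟨-, hcardN, -, -, hcardC, -⟩ := basic36 hG h36 P
    obtain ⟨-, hcardN1, -, -, hcardC1, -⟩ := basic36 hG h36 (k • P)
    have hcard := card_centralizer_eq_of_isConj hxconj
    rw [hzN, hcardN] at hcard
    rcases key36 hG h36 (k • P) x hxC1 hxo with ⟨h1, -, -⟩ | ⟨h1, -, -⟩
    · exact h1
    · exfalso
      rw [h1, hcardC1] at hcard
      omega
  · obtain ⟨-, hcardN1, -, -, hcardC1, -⟩ := basic36 hG h36 (k • P)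
    intro w hw
    set N1 := Subgroup.normalizer (((k • P : Sylow 7 G) : Subgroup G) : Set G) with hN1
    set C1 := Subgroup.centralizer (((k • P : Sylow 7 G) : Subgroup G) : Set G) with hC1
    have hidx2 : (C1.subgroupOf N1).index = 2 := by
      have h1 := card_mul_relIndex_of_le C1 N1 (Subgroup.centralizer_le_normalizer _)
      rw [hcardC1, hcardN1] at h1
      show C1.relIndex N1 = 2
      omega
    have h1 := Subgroup.sq_mem_of_index_two hidx2 (⟨w, hw⟩ : N1)
    rw [Subgroup.mem_subgroupOf] at h1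
    simpa using h1
  · obtain ⟨-, hcardN1, -, -, hcardC1, -⟩ := basic36 hG h36 (k • P)
    intro w hw w' hw' hwC hw'C
    set N1 := Subgroup.normalizer (((k • P : Sylow 7 G) : Subgroup G) : Set G) with hN1
    set C1 := Subgroup.centralizer (((k • P : Sylow 7 G) : Subgroup G) : Set G) with hC1
    have hidx2 : (C1.subgroupOf N1).index = 2 := by
      have h1 := card_mul_relIndex_of_le C1 N1 (Subgroup.centralizer_le_normalizer _)
      rw [hcardC1, hcardN1] at h1
      show C1.relIndex N1 = 2
      omega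
    have h1 := (Subgroup.mul_mem_iff_of_index_two hidx2
      (a := (⟨w, hw⟩ : N1)) (b := (⟨w', hw'⟩ : N1))).mpr
      ⟨fun h => absurd (Subgroup.mem_subgroupOf.mp h) hwC,
       fun h => absurd (Subgroup.mem_subgroupOf.mp h) hw'C⟩
    rw [Subgroup.mem_subgroupOf] at h1
    simpa using h1

/-- No simple group of order 2016 has 36 Sylow 7-subgroups. -/
theorem not_thirtysix [Finite G] [IsSimpleGroup G] (hG : Nat.card G = 2016)
    (h36 : Nat.card (Sylow 7 G) = 36) : False := by
  have h7p : Fact (Nat.Prime 7) := ⟨by norm_num⟩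
  have h2p : Fact (Nat.Prime 2) := ⟨Nat.prime_two⟩
  obtain ⟨P⟩ : Nonempty (Sylow 7 G) := inferInstance
  obtain ⟨hcardP, hcardN, hidx, hPC, hcardC, habel⟩ := basic36 hG h36 P
  set N := Subgroup.normalizer ((P : Subgroup G) : Set G) with hN
  set C := Subgroup.centralizer ((P : Subgroup G) : Set G) with hC
  have hCN : C ≤ N := Subgroup.centralizer_le_normalizer _
  -- a type I involution of `C` centralizes no other Sylow 7-subgroup
  have hnoP1 : ∀ z' ∈ C, Subgroup.centralizer ({z'} : Set G) = N → ∀ P1 : Sylow 7 G,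
      z' ∈ Subgroup.centralizer ((P1 : Subgroup G) : Set G) → P1 = P := by
    intro z' hz'C hz'N P1 hz'1
    apply sylow_eq_of_le_normalizer
    rw [← hN, ← hz'N]
    intro v hv
    rw [Subgroup.mem_centralizer_iff]
    intro h hh
    rw [Set.mem_singleton_iff] at hh
    subst hh
    exact (Subgroup.mem_centralizer_iff.mp hz'1 v hv).symm
  -- general facts on involutions
  have hinv : ∀ g : G, g ^ 2 = 1 → g⁻¹ = g := by
    intro g hg
    rw [inv_eq_iff_mul_eq_one, ← sq, hg]
  by_cases hII : ∃ z1 ∈ C, orderOf z1 = 2 ∧ Subgroup.centralizer ({z1} : Set G) = C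
  · -- some involution of type II
    obtain ⟨z1, hz1C, hz1o, hz1H⟩ := hII
    have hz1sq : z1 ^ 2 = 1 := by rw [← hz1o]; exact pow_orderOf_eq_one z1
    have hz1ne : z1 ≠ 1 := by
      rintro rfl
      rw [orderOf_one] at hz1o
      omega
    rcases key36 hG h36 P z1 hz1C hz1o with ⟨h1, -, -⟩ | ⟨-, hS1, hS2⟩
    · exfalso
      rw [hz1H] at h1
      have h2 : Nat.card C = Nat.card N := by rw [h1]
      rw [hcardC, hcardN] at h2
      omega
    set S1 : Set G := {g : G | IsConj z1 g ∧ g ∈ C} with hS1def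
    set S2 : Set G := {g : G | IsConj z1 g ∧ g ∈ N ∧ g ∉ C} with hS2def
    have hex : ∃ z2 ∈ S1, z2 ≠ z1 := by
      by_contra hno
      push Not at hno
      have hsub : S1 ⊆ {z1} := fun g hg => hno g hg
      have h1 := Set.ncard_le_ncard hsub (Set.toFinite _)
      rw [Set.ncard_singleton, hS1] at h1
      omega
    obtain ⟨z2, ⟨hconj12, hz2C⟩, hz2ne⟩ := hex
    have hz2sq : z2 ^ 2 = 1 := sq_eq_one_of_isConj' hconj12 hz1sq
    have hz2ne1 : z2 ≠ 1 := ne_one_of_isConj' hconj12 hz1ne
    have hcomm12 : z1 * z2 = z2 * z1 := habel z1 hz1C z2 hz2C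
    have hz3C : z1 * z2 ∈ C := mul_mem hz1C hz2C
    have hz3sq : (z1 * z2) ^ 2 = 1 := by
      rw [sq]
      calc (z1 * z2) * (z1 * z2) = z1 * (z2 * z1) * z2 := by group
        _ = z1 * (z1 * z2) * z2 := by rw [hcomm12]
        _ = z1 ^ 2 * z2 ^ 2 := by rw [sq, sq]; group
        _ = 1 := by rw [hz1sq, hz2sq, one_mul]
    have hz3ne1 : z1 * z2 ≠ 1 := by
      intro h
      apply hz2ne
      have h1 : z2 = z1⁻¹ := eq_inv_of_mul_eq_one_right h
      rw [h1, hinv z1 hz1sq]
    have hz3o : orderOf (z1 * z2) = 2 := orderOf_eq_prime hz3sq hz3ne1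
    have hz3nez1 : z1 * z2 ≠ z1 := by
      intro h
      apply hz2ne1
      have : z1 * z2 = z1 * 1 := by rw [h, mul_one]
      exact mul_left_cancel this
    have hz3nez2 : z1 * z2 ≠ z2 := by
      intro h
      apply hz1ne
      have : z1 * z2 = 1 * z2 := by rw [h, one_mul]
      exact mul_right_cancel this
    have hnc : ¬ IsConj z1 (z1 * z2) := by
      intro hc
      have hsub : ({z1, z2, z1 * z2} : Set G) ⊆ S1 := by
        rintro g (rfl | rfl | rfl)
        · exact ⟨IsConj.refl _, hz1C⟩
        · exact ⟨hconj12, hz2C⟩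
        · exact ⟨hc, hz3C⟩
      have h3 : ({z1, z2, z1 * z2} : Set G).ncard = 3 :=
        Set.ncard_eq_three.mpr ⟨z1, z2, z1 * z2, hz2ne.symm, hz3nez1.symm, hz3nez2.symm, rfl⟩
      have h1 := Set.ncard_le_ncard hsub (Set.toFinite _)
      omega
    rcases key36 hG h36 P (z1 * z2) hz3C hz3o with ⟨hz3N, -, hS2'⟩ | ⟨-, hS1', -⟩
    swap
    · -- the third involution cannot be of type II: too many elements of square one in `C`
      exfalso
      set S1' : Set G := {g : G | IsConj (z1 * z2) g ∧ g ∈ C} with hS1'def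
      set E : Set G := {c : G | c ∈ C ∧ c ^ 2 = 1} with hE
      have hdisj : Disjoint S1 S1' := by
        rw [Set.disjoint_left]
        rintro g ⟨h1, -⟩ ⟨h2, -⟩
        exact hnc (h1.trans h2.symm)
      have h1not : (1 : G) ∉ S1 ∪ S1' := by
        rintro (⟨h1, -⟩ | ⟨h1, -⟩)
        · exact ne_one_of_isConj' h1 hz1ne rfl
        · exact ne_one_of_isConj' h1 hz3ne1 rfl
      have hsub : insert (1 : G) (S1 ∪ S1') ⊆ E := by
        rintro g (rfl | ⟨h1, h2⟩ | ⟨h1, h2⟩)
        · exact ⟨one_mem C, one_pow 2⟩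
        · exact ⟨h2, sq_eq_one_of_isConj' h1 hz1sq⟩
        · exact ⟨h2, sq_eq_one_of_isConj' h1 hz3sq⟩
      have h1 := Set.ncard_le_ncard hsub (Set.toFinite _)
      rw [Set.ncard_insert_of_notMem h1not (Set.toFinite _),
        Set.ncard_union_eq hdisj (Set.toFinite _) (Set.toFinite _), hS1, hS1'] at h1
      have h3 := card_sq_eq_one_mul_card_le (P : Subgroup G) C hPC
        (fun u hu c hc => (Subgroup.mem_centralizer_iff.mp hc u hu))
        (fun u hu hu2 => by
          have h4 : orderOf u ∣ 2 := orderOf_dvd_of_pow_eq_one hu2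
          have h5 : orderOf u ∣ 7 := by
            have := orderOf_dvd_natCard (⟨u, hu⟩ : (P : Subgroup G))
            rwa [Subgroup.orderOf_mk, hcardP] at this
          have h6 : orderOf u ∣ Nat.gcd 2 7 := Nat.dvd_gcd h4 h5
          norm_num at h6
          exact h6)
      have h4 : Nat.card {c : G // c ∈ C ∧ c ^ 2 = 1} = E.ncard := Nat.card_coe_set_eq E
      rw [h4, hcardP, hcardC] at h3
      omega
    · -- the third involution is of type I: count involutions outside `C`
      set S2' : Set G := {g : G | IsConj (z1 * z2) g ∧ g ∈ N ∧ g ∉ C} with hS2'def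
      have hne : S2'.Nonempty := by
        rw [← Set.ncard_pos (Set.toFinite _)]
        omega
      obtain ⟨x, hxconj, hxN, hxC⟩ := hne
      have hx2 : x ^ 2 = 1 := sq_eq_one_of_isConj' hxconj hz3sq
      have hxinv : x⁻¹ = x := hinv x hx2
      let D : Subgroup G :=
        { carrier := {c : G | c ∈ C ∧ x * c * x⁻¹ = c⁻¹}
          mul_mem' := by
            rintro a b ⟨ha1, ha2⟩ ⟨hb1, hb2⟩
            refine ⟨mul_mem ha1 hb1, ?_⟩
            calc x * (a * b) * x⁻¹ = (x * a * x⁻¹) * (x * b * x⁻¹) := by group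
              _ = a⁻¹ * b⁻¹ := by rw [ha2, hb2]
              _ = (b * a)⁻¹ := by group
              _ = (a * b)⁻¹ := by rw [habel b hb1 a ha1]
          one_mem' := ⟨one_mem C, by group⟩
          inv_mem' := by
            rintro a ⟨ha1, ha2⟩
            refine ⟨inv_mem ha1, ?_⟩
            calc x * a⁻¹ * x⁻¹ = (x * a * x⁻¹)⁻¹ := by group
              _ = a⁻¹⁻¹ := by rw [ha2] }
      have hDC : D ≤ C := fun c hc => hc.1
      have hz1D : z1 ∉ D := by
        rintro ⟨-, h2⟩
        apply hxC
        rw [← hz1H, Subgroup.mem_centralizer_iff]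
        intro h hh
        rw [Set.mem_singleton_iff] at hh
        subst hh
        rw [hinv h hz1sq] at h2
        calc h * x = (x * h * x⁻¹)⁻¹⁻¹ * x := by rw [h2, inv_inv]
          _ = x * h := by
            rw [inv_inv]
            group
      have hDcard : Nat.card D ≤ 14 := by
        have h1 := Subgroup.card_dvd_of_le hDC
        rw [hcardC] at h1
        have h2 : Nat.card D ≠ 28 := by
          intro h
          have : D = C := Subgroup.eq_of_le_of_card_ge hDC (by rw [h, hcardC])
          apply hz1D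
          rw [this]
          exact hz1C
        have h3 : Nat.card D ≤ 28 := Nat.le_of_dvd (by norm_num) h1
        generalize Nat.card D = d at *
        interval_cases d <;> omega
      have hdisj : Disjoint S2 S2' := by
        rw [Set.disjoint_left]
        rintro g ⟨h1, -, -⟩ ⟨h2, -, -⟩
        exact hnc (h1.trans h2.symm)
      have hmem : ∀ g ∈ S2 ∪ S2', x⁻¹ * g ∈ D := by
        intro g hg
        have hg' : g ∈ N ∧ g ∉ C ∧ g ^ 2 = 1 := by
          rcases hg with ⟨h1, h2, h3⟩ | ⟨h1, h2, h3⟩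
          · exact ⟨h2, h3, sq_eq_one_of_isConj' h1 hz1sq⟩
          · exact ⟨h2, h3, sq_eq_one_of_isConj' h1 hz3sq⟩
        obtain ⟨hgN, hgC, hg2⟩ := hg'
        refine ⟨inv_mul_mem_centralizer P hcardP x g hxN hx2 hxC hgN hg2 hgC, ?_⟩
        have hginv : g⁻¹ = g := hinv g hg2
        calc x * (x⁻¹ * g) * x⁻¹ = g * x⁻¹ := by group
          _ = g⁻¹ * x⁻¹⁻¹ := by rw [hginv, hxinv, hxinv]
          _ = (x⁻¹ * g)⁻¹ := by group
      have hle : (S2 ∪ S2').ncard ≤ Nat.card D := by
        rw [← Nat.card_coe_set_eq]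
        let f : (S2 ∪ S2' : Set G) → D := fun g => ⟨x⁻¹ * g.1, hmem g.1 g.2⟩
        apply Nat.card_le_card_of_injective f
        rintro ⟨g, hg⟩ ⟨g', hg'⟩ h
        have h1 : x⁻¹ * g = x⁻¹ * g' := congrArg Subtype.val h
        exact Subtype.ext (mul_left_cancel h1)
      rw [Set.ncard_union_eq hdisj (Set.toFinite _) (Set.toFinite _), hS2, hS2'] at hle
      omega
  · -- all involutions of `C` are of type I
    push Not at hII
    have hI : ∀ z' ∈ C, orderOf z' = 2 → Subgroup.centralizer ({z'} : Set G) = N := by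
      intro z' hz'C hz'o
      rcases key36 hG h36 P z' hz'C hz'o with ⟨h1, -, -⟩ | ⟨h1, -, -⟩
      · exact h1
      · exact absurd h1 (hII z' hz'C hz'o)
    obtain ⟨⟨z, hzC⟩, hzo'⟩ := exists_prime_orderOf_dvd_card' (G := C) 2
      (by rw [hcardC]; norm_num)
    have hzo : orderOf z = 2 := by rwa [Subgroup.orderOf_mk] at hzo'
    have hzsq : z ^ 2 = 1 := by rw [← hzo]; exact pow_orderOf_eq_one z
    have hzne : z ≠ 1 := by
      rintro rfl
      rw [orderOf_one] at hzo
      omega
    have hzN := hI z hzC hzo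
    have hS2 : Set.ncard {g : G | IsConj z g ∧ g ∈ N ∧ g ∉ C} = 7 := by
      rcases key36 hG h36 P z hzC hzo with ⟨-, -, h1⟩ | ⟨h1, -, -⟩
      · exact h1
      · exact absurd h1 (hII z hzC hzo)
    set S2 : Set G := {g : G | IsConj z g ∧ g ∈ N ∧ g ∉ C} with hS2def
    by_cases hex : ∃ z2 ∈ C, orderOf z2 = 2 ∧ z2 ≠ z
    · -- three involutions, all central in `N`
      obtain ⟨z2, hz2C, hz2o, hz2ne⟩ := hex
      have hz2sq : z2 ^ 2 = 1 := by rw [← hz2o]; exact pow_orderOf_eq_one z2
      have hz2ne1 : z2 ≠ 1 := by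
        rintro rfl
        rw [orderOf_one] at hz2o
        omega
      have hcomm12 : z * z2 = z2 * z := habel z hzC z2 hz2C
      have hz3C : z * z2 ∈ C := mul_mem hzC hz2C
      have hz3sq : (z * z2) ^ 2 = 1 := by
        rw [sq]
        calc (z * z2) * (z * z2) = z * (z2 * z) * z2 := by group
          _ = z * (z * z2) * z2 := by rw [hcomm12]
          _ = z ^ 2 * z2 ^ 2 := by rw [sq, sq]; group
          _ = 1 := by rw [hzsq, hz2sq, one_mul]
      have hz3ne1 : z * z2 ≠ 1 := by
        intro h
        apply hz2ne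
        have h1 : z2 = z⁻¹ := eq_inv_of_mul_eq_one_right h
        rw [h1, hinv z hzsq]
      have hz3o : orderOf (z * z2) = 2 := orderOf_eq_prime hz3sq hz3ne1
      have hne : S2.Nonempty := by
        rw [← Set.ncard_pos (Set.toFinite _)]
        omega
      obtain ⟨x, hx⟩ := hne
      obtain ⟨P1, hP1ne, hxC1, hxN1, -, hprod⟩ := final_step hG h36 P z x hzC hzo hzN hx
      obtain ⟨hxconj, hxN, hxC⟩ := hx
      -- `z`, `z2` commute with `x`
      have hmemN1 : ∀ z' ∈ C, orderOf z' = 2 →
          z' ∈ Subgroup.normalizer ((P1 : Subgroup G) : Set G) := by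
        intro z' hz'C hz'o
        have hxz' : x ∈ Subgroup.centralizer ({z'} : Set G) := by rw [hI z' hz'C hz'o]; exact hxN
        rw [← hxN1, Subgroup.mem_centralizer_iff]
        intro h hh
        rw [Set.mem_singleton_iff] at hh
        subst hh
        exact (Subgroup.mem_centralizer_iff.mp hxz' z' rfl).symm
      by_cases h1 : z ∈ Subgroup.centralizer ((P1 : Subgroup G) : Set G)
      · exact hP1ne (hnoP1 z hzC hzN P1 h1)
      · by_cases h2 : z2 ∈ Subgroup.centralizer ((P1 : Subgroup G) : Set G)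
        · exact hP1ne (hnoP1 z2 hz2C (hI z2 hz2C hz2o) P1 h2)
        · have h3 := hprod z (hmemN1 z hzC hzo) z2 (hmemN1 z2 hz2C hz2o) h1 h2
          exact hP1ne (hnoP1 (z * z2) hz3C (hI _ hz3C hz3o) P1 h3)
    · -- a unique involution: use an element of order 4
      push Not at hex
      have h4C : 2 ^ 2 ∣ Nat.card C := by
        have : Nat.card C = 28 := hcardC
        rw [this]; norm_num
      obtain ⟨K, hK⟩ := Sylow.exists_subgroup_card_pow_prime 2 h4C
      have hexa : ∃ x ∈ K, x ^ 2 ≠ 1 := by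
        by_contra hall
        push Not at hall
        have hsub : (K : Set C) ⊆ {1, ⟨z, hzC⟩} := by
          intro x hx
          by_cases hx1 : x = 1
          · left; exact hx1
          · right
            have hxo : orderOf (x : G) = 2 := by
              apply orderOf_eq_prime
              · have h := congrArg Subtype.val (hall x hx)
                simpa using h
              · intro h; apply hx1; exact Subtype.ext h
            have := hex (x : G) x.2 hxo
            exact Subtype.ext this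
        have h1 := Set.ncard_le_ncard hsub (Set.toFinite _)
        have h2 : (K : Set C).ncard = 4 := by
          rw [← Nat.card_coe_set_eq]; exact hK
        have h3 : ({1, ⟨z, hzC⟩} : Set C).ncard ≤ 2 :=
          (Set.ncard_insert_le _ _).trans (by simp)
        omega
      obtain ⟨a', haK, ha2⟩ := hexa
      obtain ⟨a, haC⟩ := a'
      have hao4 : a ^ 4 = 1 := by
        have h1 := orderOf_dvd_natCard (⟨⟨a, haC⟩, haK⟩ : K)
        rw [hK, Subgroup.orderOf_mk, Subgroup.orderOf_mk] at h1
        exact orderOf_dvd_iff_pow_eq_one.mp h1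
      have ha2' : a ^ 2 ≠ 1 := by
        intro h
        apply ha2
        exact Subtype.ext (by simpa using h)
      have haz : a ^ 2 = z := by
        have ho : orderOf (a ^ 2) = 2 :=
          orderOf_eq_prime (by rw [← pow_mul]; exact hao4) ha2'
        exact hex (a ^ 2) (pow_mem haC 2) ho
      have hfix : ∃ x ∈ S2, a * x * a⁻¹ = x := by
        by_contra hno
        push Not at hno
        have hzpC : Subgroup.zpowers a ≤ C := by
          rw [Subgroup.zpowers_le]; exact haC
        have hpg : IsPGroup 2 (Subgroup.zpowers a) := by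
          rintro ⟨g, hg⟩
          refine ⟨2, ?_⟩
          obtain ⟨j, rfl⟩ := Subgroup.mem_zpowers_iff.mp hg
          apply Subtype.ext
          show (a ^ j) ^ 2 ^ 2 = 1
          rw [← zpow_natCast, ← zpow_mul, mul_comm, zpow_mul, zpow_natCast]
          norm_num
          rw [hao4, one_zpow]
        have h2 := dvd_card_of_conj_free (Subgroup.zpowers a) hpg a (Subgroup.mem_zpowers a) S2
          (by
            rintro u hu g ⟨h1, h2, h3⟩
            have huC : u ∈ C := hzpC hu
            refine ⟨h1.trans (isConj_iff.mpr ⟨u, rfl⟩), ?_, ?_⟩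
            · exact mul_mem (mul_mem (hCN huC) h2) (inv_mem (hCN huC))
            · intro h4
              apply h3
              have : g = u⁻¹ * (u * g * u⁻¹) * u := by group
              rw [this]
              exact mul_mem (mul_mem (inv_mem huC) h4) huC)
          hno
        rw [Nat.card_coe_set_eq, hS2] at h2
        omega
      obtain ⟨x, hx, hax⟩ := hfix
      obtain ⟨P1, hP1ne, hxC1, hxN1, hsq, -⟩ := final_step hG h36 P z x hzC hzo hzN hx
      have haN1 : a ∈ Subgroup.normalizer ((P1 : Subgroup G) : Set G) := by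
        rw [← hxN1, Subgroup.mem_centralizer_iff]
        intro h hh
        rw [Set.mem_singleton_iff] at hh
        subst hh
        calc h * a = (a * h * a⁻¹) * a := by rw [hax]
          _ = a * h := by group
      have hzC1 := hsq a haN1
      rw [haz] at hzC1
      exact hP1ne (hnoP1 z hzC hzN P1 hzC1)

end Cfsg.Agent.Lib.Helper5.Ord2016
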