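import Cfsg.Agent.Lib.Helper5.Zassenhaus
import Mathlib

set_option autoImplicit false
open Cfsg
open scoped Pointwise

namespace Cfsg.Agent.Lib.Helper5.Zass

section
variable {L Ω : Type*} [Group L] [MulAction L Ω] (h : Hyp L Ω)
include h

/-- a group satisfying the hypotheses has at most one regular normal subgroup -/
theorem regular_normal_le [Finite Ω] (M1 M2 : Subgroup L) [M1.Normal] [M2.Normal]
    (t1 : ∀ p q : Ω, ∃ m ∈ M1, m • p = q) (f1 : ∀ m ∈ M1, ∀ c : Ω, m • c = c → m = 1)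
    (t2 : ∀ p q : Ω, ∃ m ∈ M2, m • p = q) :
    M1 ≤ M2 := by
  obtain ⟨g0, -, a, -, -, -, -⟩ := h.hfix
  -- conjugation by the kernel is transitive on nonidentity elements of `M1`
  have hconj : ∀ m ∈ M1, m ≠ 1 → ∀ m' ∈ M1, m' ≠ 1 → ∃ k : L, k * m * k⁻¹ = m' := by
    intro m hm hm1 m' hm' hm'1
    have hma : m • a ≠ a := fun h' => hm1 (f1 m hm a h')
    have hm'a : m' • a ≠ a := fun h' => hm'1 (f1 m' hm' a h')
    obtain ⟨k, hk, hkm⟩ := ker_trans h a (m • a) (m' • a) hma hm'a
    have hka : k • a = a := ((mem_ker h a k).1 hk).1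
    refine ⟨k, ?_⟩
    have hmem : m'⁻¹ * (k * m * k⁻¹) ∈ M1 :=
      M1.mul_mem (M1.inv_mem hm') (Subgroup.Normal.conj_mem inferInstance m hm k)
    have hfix : (m'⁻¹ * (k * m * k⁻¹)) • a = a := by
      have hkinv : k⁻¹ • a = a := by rw [inv_smul_eq_iff, hka]
      rw [mul_smul, mul_smul, mul_smul, hkinv, hkm, inv_smul_smul]
    have := f1 _ hmem a hfix
    calc k * m * k⁻¹ = m' * (m'⁻¹ * (k * m * k⁻¹)) := by group
      _ = m' := by rw [this, mul_one]
  by_cases hint : ∃ m0 ∈ M1, m0 ∈ M2 ∧ m0 ≠ 1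
  · obtain ⟨m0, hm0, hm0', hm01⟩ := hint
    intro m hm
    by_cases hm1 : m = 1
    · rw [hm1]
      exact M2.one_mem
    · obtain ⟨k, hk⟩ := hconj m0 hm0 hm01 m hm hm1
      rw [← hk]
      exact Subgroup.Normal.conj_mem inferInstance m0 hm0' k
  · exfalso
    push Not at hint
    have hcomm : ∀ x ∈ M1, ∀ y ∈ M2, x * y = y * x := by
      intro x hx y hy
      have h1 : x * y * x⁻¹ * y⁻¹ ∈ M1 := by
        have : x * y * x⁻¹ * y⁻¹ = x * (y * x⁻¹ * y⁻¹) := by group
        rw [this]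
        exact M1.mul_mem hx (Subgroup.Normal.conj_mem inferInstance _ (M1.inv_mem hx) y)
      have h2 : x * y * x⁻¹ * y⁻¹ ∈ M2 :=
        M2.mul_mem (Subgroup.Normal.conj_mem inferInstance y hy x) (M2.inv_mem hy)
      have h3 := hint _ h1 h2
      calc x * y = (x * y * x⁻¹ * y⁻¹) * (y * x) := by group
        _ = y * x := by rw [h3, one_mul]
    -- two commuting elements
    obtain ⟨m1, hm1, m1', hm1', hne1, hne1', hne, hc⟩ : ∃ m1 ∈ M1, ∃ m1' ∈ M1, m1 ≠ 1 ∧ m1' ≠ 1 ∧
        m1' ≠ m1 ∧ m1 * m1' = m1' * m1 := by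
      by_cases hall : ∀ w ∈ M1, w * w = 1
      · obtain ⟨b, hb⟩ := exists_ne h a
        obtain ⟨c, hca, hcb⟩ := exists_third h a b hb.symm
        obtain ⟨u, hu, hua⟩ := t1 a b
        obtain ⟨v, hv, hva⟩ := t1 a c
        refine ⟨u, hu, v, hv, ?_, ?_, ?_, ?_⟩
        · rintro rfl
          rw [one_smul] at hua
          exact hb hua.symm
        · rintro rfl
          rw [one_smul] at hva
          exact hca hva.symm
        · rintro rfl
          exact hcb (hva.symm.trans hua)
        · have h1 := hall u hu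
          have h2 := hall v hv
          have h3 := hall (u * v) (M1.mul_mem hu hv)
          calc u * v = u * (u * v * (u * v)) * v := by rw [h3, mul_one]
            _ = (u * u) * (v * u) * (v * v) := by group
            _ = v * u := by rw [h1, h2, one_mul, mul_one]
      · push Not at hall
        obtain ⟨w, hw, hw2⟩ := hall
        refine ⟨w, hw, w * w, M1.mul_mem hw hw, ?_, hw2, ?_, by group⟩
        · rintro rfl
          exact hw2 (one_mul 1)
        · intro h'
          apply hw2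
          have : w = 1 := by
            have := congrArg (fun z => w⁻¹ * z) h'
            simpa using this
          rw [this, one_mul]
    obtain ⟨m2, hm2, hm2a⟩ := t2 a (m1 • a)
    have hm2inv : m2⁻¹ • a = m1⁻¹ • a := by
      have h1 : m1 • (m2⁻¹ • a) = a := by
        rw [← mul_smul, hcomm m1 hm1 m2⁻¹ (M2.inv_mem hm2), mul_smul, ← hm2a, inv_smul_smul]
      exact (smul_eq_iff_eq_inv_smul m1).1 h1
    set d : L := m2⁻¹ * m1 with hd
    have hd1 : d ≠ 1 := by
      intro h'
      have : m1 = m2 := by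
        have : m1 = m2 * d := by rw [hd]; group
        rw [this, h', mul_one]
      apply hne1
      exact hint m1 hm1 (this ▸ hm2)
    have key : ∀ x ∈ M1, m1 * x = x * m1 → d • (x • a) = x • a := by
      intro x hx hxc
      have e1 : d * x = m1 * x * m2⁻¹ := by
        rw [hd, mul_assoc, hcomm (m1 * x) (M1.mul_mem hm1 hx) m2⁻¹ (M2.inv_mem hm2)]
      rw [← mul_smul, e1, mul_smul, hm2inv, hxc, mul_smul, smul_inv_smul]
    have hda : d • a = a := by
      have := key 1 M1.one_mem (by group)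
      rwa [one_smul] at this
    have hdm1 : d • (m1 • a) = m1 • a := key m1 hm1 rfl
    have hdm1' : d • (m1' • a) = m1' • a := key m1' hm1' hc
    apply hd1
    apply h.h3 d a (m1 • a) (m1' • a) ?_ ?_ ?_ hda hdm1 hdm1'
    · intro h'
      exact hne1 (f1 m1 hm1 a h'.symm)
    · intro h'
      apply hne
      have hfix : (m1⁻¹ * m1') • a = a := by rw [mul_smul, ← h', inv_smul_smul]
      have := f1 _ (M1.mul_mem (M1.inv_mem hm1) hm1') a hfix
      calc m1' = m1 * (m1⁻¹ * m1') := by group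
        _ = m1 := by rw [this, mul_one]
    · intro h'
      exact hne1' (f1 m1' hm1' a h'.symm)

end

/-- a nontrivial normal subgroup of a Zassenhaus group is a Zassenhaus group -/
theorem zassenhaus_normal {G Ω : Type*} [Group G] [MulAction G Ω] [Finite Ω]
    (hZ : IsZassenhausGroup G Ω) (N : Subgroup G) [N.Normal] (hN : N ≠ ⊥) :
    IsZassenhausGroup N Ω := by
  have h := hyp_of_zassenhaus hZ
  have hreg := hZ.2.2.2.2
  have hK := ker_le_of_normal h hreg N hN
  obtain ⟨x, hxN, hx1, a, b, hab, hxa, hxb⟩ := exists_fix2_of_normal h hreg N hN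
  have hfaith : FaithfulSMul N Ω := by
    have := h.faithful
    constructor
    intro n n' hnn
    apply Subtype.ext
    apply FaithfulSMul.eq_of_smul_eq_smul (α := Ω)
    intro c
    exact hnn c
  have hN2 : ∀ {p q r s : Ω}, p ≠ q → r ≠ s → ∃ n : N, n • p = r ∧ n • q = s := by
    intro p q r s hpq hrs
    obtain ⟨n1, hn1, hn1p⟩ := normal_trans h N hN p r
    have hq : n1 • q ≠ r := by
      intro h'
      rw [← hn1p] at h'
      exact hpq (MulAction.injective n1 h').symm
    obtain ⟨k, hk, hkq⟩ := ker_trans h r (n1 • q) s hq hrs.symm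
    have hkr : k • r = r := ((mem_ker h r k).1 hk).1
    refine ⟨⟨k * n1, N.mul_mem (hK r hk) hn1⟩, ?_, ?_⟩
    · change (k * n1) • p = r
      rw [mul_smul, hn1p, hkr]
    · change (k * n1) • q = s
      rw [mul_smul, hkq]
  have h3' : ∀ g : N, ∀ a b c : Ω, a ≠ b → b ≠ c → a ≠ c → g • a = a → g • b = b → g • c = c →
      g = 1 := by
    intro g a b c hab hbc hac ha hb hc
    exact Subtype.ext (h.h3 (g : G) a b c hab hbc hac ha hb hc)
  have hfix' : ∃ g : N, g ≠ 1 ∧ ∃ a b : Ω, a ≠ b ∧ g • a = a ∧ g • b = b :=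
    ⟨⟨x, hxN⟩, fun h' => hx1 (congrArg Subtype.val h'), a, b, hab, hxa, hxb⟩
  have hypN : Hyp N Ω := ⟨hfaith, hN2, h3', hfix'⟩
  refine ⟨hfaith, MulAction.is_two_pretransitive_iff.2 hN2, h3', hfix', ?_⟩
  intro N' hN'n hN't
  by_contra hcon
  push Not at hcon
  have t : ∀ p q : Ω, ∃ m ∈ N', m • p = q := by
    intro p q
    obtain ⟨m, hm⟩ := hN't.exists_smul_eq p q
    exact ⟨m.1, m.2, hm⟩
  have f : ∀ m ∈ N', ∀ c : Ω, m • c = c → m = 1 := by
    intro m hm c hmc
    have : (⟨m, hm⟩ : N') ∈ MulAction.stabilizer N' c := hmc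
    rw [hcon c, Subgroup.mem_bot] at this
    exact congrArg Subtype.val this
  have hinv : ∀ g : G, N'.map (MulAut.conjNormal g : MulAut N).toMonoidHom ≤ N' := by
    intro g
    have hn : (N'.map (MulAut.conjNormal g : MulAut N).toMonoidHom).Normal :=
      Subgroup.Normal.map hN'n _ (MulAut.conjNormal g : MulAut N).surjective
    apply regular_normal_le hypN _ N' ?_ ?_ t
    · intro p q
      obtain ⟨m, hm, hmp⟩ := t (g⁻¹ • p) (g⁻¹ • q)
      refine ⟨_, Subgroup.mem_map_of_mem _ hm, ?_⟩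
      change ((MulAut.conjNormal g m : N) : G) • p = q
      rw [MulAut.conjNormal_apply, mul_smul, mul_smul]
      have : (m : G) • g⁻¹ • p = g⁻¹ • q := hmp
      rw [this, smul_inv_smul]
    · rintro _ ⟨m, hm, rfl⟩ c hc
      have hc' : ((MulAut.conjNormal g m : N) : G) • c = c := hc
      rw [MulAut.conjNormal_apply, mul_smul, mul_smul] at hc'
      have : m • (g⁻¹ • c) = g⁻¹ • c := (smul_eq_iff_eq_inv_smul g).1 hc'
      rw [f m hm _ this]
      exact map_one _
  let M : Subgroup G := N'.map N.subtype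
  have hMn : M.Normal := by
    constructor
    rintro _ ⟨m, hm, rfl⟩ g
    have := hinv g (Subgroup.mem_map_of_mem _ hm)
    refine ⟨_, this, ?_⟩
    exact MulAut.conjNormal_apply g m
  have hMt : MulAction.IsPretransitive M Ω := by
    constructor
    intro p q
    obtain ⟨m, hm, hmp⟩ := t p q
    exact ⟨⟨(m : G), Subgroup.mem_map_of_mem _ hm⟩, hmp⟩
  obtain ⟨c, hc⟩ := hreg M hMn hMt
  apply hc
  rw [eq_bot_iff]
  rintro ⟨_, ⟨m, hm, rfl⟩⟩ hmc
  rw [Subgroup.mem_bot]
  have hmc' : m • c = c := hmc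
  apply Subtype.ext
  change ((m : N) : G) = 1
  rw [f m hm c hmc']
  rfl

end Cfsg.Agent.Lib.Helper5.Zass
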