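import Mathlib
import Cfsg.Agent.Lib.Helper4.PSepQuot
import Cfsg.Agent.Lib.helper3.BlockMinMax2

set_option autoImplicit false
set_option linter.style.haveILetI false
set_option linter.unusedSectionVars false

/-! `p`-separated classes with common defect group `D`: the hypotheses restrict to `N_G(D)`
(helper5; layer III of the theorem on `p`-separated classes, group-theoretic part). -/

namespace Cfsg.Agent.Lib.Helper5.PSep3

open Cfsg.Agent.Lib.Helper4.PSepQuot Cfsg.Agent.Lib.helper3.Block

variable {G : Type*} [Group G] [Finite G]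

section

variable (p : ℕ) [hp : Fact p.Prime] (D : Subgroup G)
  {ι : Type*} (x : ι → G)
  (hD : ∀ i : ι, ∃ S : Sylow p ↥(Subgroup.centralizer ({x i} : Set G)),
    (S : Subgroup ↥(Subgroup.centralizer ({x i} : Set G))).map
      (Subgroup.centralizer ({x i} : Set G)).subtype = D)

include hD in
theorem isPGroup_of_sylow (i : ι) : IsPGroup p D := by
  obtain ⟨S, hS⟩ := hD i
  rw [← hS]
  exact S.2.map _

include hD in
theorem mem_centralizer (i : ι) : x i ∈ Subgroup.centralizer (D : Set G) := by
  rw [Subgroup.mem_centralizer_iff]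
  intro u hu
  exact (commute_of_mem p D x hD i u hu).symm

include hD in
theorem mem_normalizer (i : ι) : x i ∈ Subgroup.normalizer (D : Set G) :=
  Subgroup.centralizer_le_normalizer _ (mem_centralizer p D x hD i)

include hD in
/-- `D` is a maximal `p`-subgroup of `C_G(x i)`. -/
theorem eq_of_le_of_le_centralizer (i : ι) (Q : Subgroup G) (hQ : IsPGroup p Q) (hDQ : D ≤ Q)
    (hQC : Q ≤ Subgroup.centralizer ({x i} : Set G)) : Q = D := by
  obtain ⟨S, hS⟩ := hD i
  have h1 : (S : Subgroup ↥(Subgroup.centralizer ({x i} : Set G)))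
      ≤ Q.subgroupOf (Subgroup.centralizer ({x i} : Set G)) := by
    intro s hs
    rw [Subgroup.mem_subgroupOf]
    apply hDQ
    rw [← hS]
    exact Subgroup.mem_map_of_mem _ hs
  have h2 : Q.subgroupOf (Subgroup.centralizer ({x i} : Set G)) = S :=
    S.is_maximal' hQ.comap_subtype h1
  rw [← hS, ← h2, Subgroup.map_subgroupOf_eq_of_le hQC]

/-- the elements `x i` as elements of `N_G(D)`. -/
def yN (i : ι) : Subgroup.normalizer (D : Set G) := ⟨x i, mem_normalizer p D x hD i⟩

@[simp] theorem coe_yN (i : ι) : ((yN p D x hD i : Subgroup.normalizer (D : Set G)) : G) = x i := rfl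

include hD in
theorem yN_nonconj (hx : ∀ i j : ι, IsConj (x i) (x j) → i = j) (i j : ι)
    (h : IsConj (yN p D x hD i) (yN p D x hD j)) : i = j := by
  apply hx
  obtain ⟨n, hn⟩ := isConj_iff.mp h
  refine isConj_iff.mpr ⟨(n : G), ?_⟩
  have := congrArg Subtype.val hn
  simpa using this

include hD in
theorem yN_sep
    (hsep : ∀ i j : ι, ∀ g h : G, IsConj (x i) g → IsConj (x j) h → ∀ k : ℕ, 0 < k →
      orderOf (g * h⁻¹) ≠ p ^ k) (i j : ι)
    (g h : Subgroup.normalizer (D : Set G)) (hg : IsConj (yN p D x hD i) g)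
    (hh : IsConj (yN p D x hD j) h) (k : ℕ) (hk : 0 < k) : orderOf (g * h⁻¹) ≠ p ^ k := by
  have hg' : IsConj (x i) (g : G) := by
    obtain ⟨n, hn⟩ := isConj_iff.mp hg
    refine isConj_iff.mpr ⟨(n : G), ?_⟩
    have := congrArg Subtype.val hn
    simpa using this
  have hh' : IsConj (x j) (h : G) := by
    obtain ⟨n, hn⟩ := isConj_iff.mp hh
    refine isConj_iff.mpr ⟨(n : G), ?_⟩
    have := congrArg Subtype.val hn
    simpa using this
  have := hsep i j g h hg' hh' k hk
  rw [← Subgroup.orderOf_coe]
  simpa using this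

include hD in
theorem yN_sylow (i : ι) :
    ∃ S : Sylow p ↥(Subgroup.centralizer
        ({yN p D x hD i} : Set (Subgroup.normalizer (D : Set G)))),
      (S : Subgroup ↥(Subgroup.centralizer
        ({yN p D x hD i} : Set (Subgroup.normalizer (D : Set G))))).map
        (Subgroup.centralizer
          ({yN p D x hD i} : Set (Subgroup.normalizer (D : Set G)))).subtype
        = D.subgroupOf (Subgroup.normalizer (D : Set G)) := by
  have hDN : D ≤ Subgroup.normalizer (D : Set G) := Subgroup.le_normalizer
  have hDp := isPGroup_of_sylow p D x hD i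
  have hle : D.subgroupOf (Subgroup.normalizer (D : Set G))
      ≤ Subgroup.centralizer ({yN p D x hD i} : Set (Subgroup.normalizer (D : Set G))) := by
    intro u hu
    rw [Subgroup.mem_subgroupOf] at hu
    rw [Subgroup.mem_centralizer_singleton_iff]
    apply Subtype.ext
    have := commute_of_mem p D x hD i (u : G) hu
    simpa using this.symm
  obtain ⟨T, hT⟩ := exists_le_sylow_map _ (D.subgroupOf (Subgroup.normalizer (D : Set G)))
    hDp.comap_subtype hle
  refine ⟨T, ?_⟩
  obtain ⟨Q, hQ⟩ : ∃ Q : Subgroup (Subgroup.normalizer (D : Set G)),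
      Q = (T : Subgroup ↥(Subgroup.centralizer
        ({yN p D x hD i} : Set (Subgroup.normalizer (D : Set G))))).map
        (Subgroup.centralizer
          ({yN p D x hD i} : Set (Subgroup.normalizer (D : Set G)))).subtype := ⟨_, rfl⟩
  rw [← hQ] at hT ⊢
  have hQp : IsPGroup p Q := by
    rw [hQ]
    exact T.2.map _
  have hQc : Q ≤ Subgroup.centralizer ({yN p D x hD i} : Set (Subgroup.normalizer (D : Set G))) := by
    rw [hQ]
    exact Subgroup.map_subtype_le _
  have h1 : Q.map (Subgroup.normalizer (D : Set G)).subtype = D := by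
    apply eq_of_le_of_le_centralizer p D x hD i _ (hQp.map _)
    · intro u hu
      refine ⟨⟨u, hDN hu⟩, hT ?_, rfl⟩
      rw [Subgroup.mem_subgroupOf]
      exact hu
    · rintro _ ⟨q, hq, rfl⟩
      have := Subgroup.mem_centralizer_singleton_iff.mp (hQc hq)
      rw [Subgroup.mem_centralizer_singleton_iff]
      have := congrArg Subtype.val this
      simpa using this
  ext q
  rw [Subgroup.mem_subgroupOf]
  constructor
  · intro hq
    have h2 : (q : G) ∈ Q.map (Subgroup.normalizer (D : Set G)).subtype :=
      Subgroup.mem_map_of_mem _ hq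
    exact h1.le h2
  · intro hq
    obtain ⟨q', hq', h⟩ := h1.ge hq
    have : q' = q := Subtype.ext h
    rwa [← this]

end

end Cfsg.Agent.Lib.Helper5.PSep3
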