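import Mathlib
import Cfsg.Prelude.Def_Blocks
import Cfsg.Agent.Lib.helper3.SecMain13
import Cfsg.Agent.Lib.helper3.SecMain1
import Cfsg.Agent.S0908

set_option autoImplicit false
set_option linter.style.haveILetI false
set_option linter.unusedSectionVars false

/-! Determinants of character values versus determinants of central character values
(helper5; the "any height-zero representative" step of the theorem on `p`-separated classes). -/

namespace Cfsg.Agent.Lib.Helper5.PSep3

open Cfsg Cfsg.Agent.Lib.helper3.Block Cfsg.Agent.Lib.helper3.LocalM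
open Cfsg.Agent.Lib.helper3.CharBasic Cfsg.Agent.Lib.helper3.Irr Cfsg.Agent.Lib.helper3.Central

variable {M : Ideal AlgInt}

/-- Matrices with local entries that are entrywise congruent have congruent determinants. -/
theorem memLocalIdeal_det_sub_det [hMp : M.IsPrime] {I : Type*} [Fintype I] [DecidableEq I]
    (A B : Matrix I I ℂ) (hAloc : ∀ i j, MemLocalRing M (A i j))
    (hBloc : ∀ i j, MemLocalRing M (B i j))
    (hcong : ∀ i j, MemLocalIdeal M (A i j - B i j)) : MemLocalIdeal M (A.det - B.det) := by
  obtain ⟨AR, hAR⟩ : ∃ AR : Matrix I I (locSubring M), AR = fun i j => ⟨A i j, hAloc i j⟩ :=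
    ⟨_, rfl⟩
  obtain ⟨BR, hBR⟩ : ∃ BR : Matrix I I (locSubring M), BR = fun i j => ⟨B i j, hBloc i j⟩ :=
    ⟨_, rfl⟩
  have hAmap : AR.map (locSubring M).subtype = A := by
    ext i j
    rw [hAR]
    rfl
  have hBmap : BR.map (locSubring M).subtype = B := by
    ext i j
    rw [hBR]
    rfl
  obtain ⟨π, hπ⟩ : ∃ π : locSubring M →+* (locSubring M ⧸ locIdeal M),
      π = Ideal.Quotient.mk (locIdeal M) := ⟨_, rfl⟩
  have hABπ : AR.map π = BR.map π := by
    ext i j
    simp only [Matrix.map_apply]
    rw [hπ, Ideal.Quotient.eq, hAR, hBR]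
    exact hcong i j
  have h1 : π AR.det = π BR.det := by
    rw [RingHom.map_det, RingHom.map_det, RingHom.mapMatrix_apply, RingHom.mapMatrix_apply, hABπ]
  have h2 : AR.det - BR.det ∈ locIdeal M := by
    rw [← Ideal.Quotient.eq, ← hπ]
    exact h1
  have h3 : A.det = (locSubring M).subtype AR.det := by
    rw [RingHom.map_det, RingHom.mapMatrix_apply, hAmap]
  have h4 : B.det = (locSubring M).subtype BR.det := by
    rw [RingHom.map_det, RingHom.mapMatrix_apply, hBmap]
  rw [h3, h4]
  exact h2

/-- Scaling rows and columns of a matrix. -/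
theorem det_scale {I : Type*} [Fintype I] [DecidableEq I] (A : Matrix I I ℂ) (c d : I → ℂ) :
    (Matrix.of fun i j => c j * A i j / d i).det
      = (∏ j, c j) / (∏ i, d i) * A.det := by
  have h1 : (Matrix.of fun i j => c j * A i j / d i)
      = Matrix.of fun i j => (d i)⁻¹ * (Matrix.of fun i j => c j * A i j) i j := by
    ext i j
    simp only [Matrix.of_apply]
    rw [div_eq_inv_mul]
  rw [h1, Matrix.det_mul_column, Matrix.det_mul_row, Finset.prod_inv_distrib]
  rw [div_eq_inv_mul]
  ring

variable {G : Type*} [Group G] [Fintype G]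

/-- The exponent of `p` in the degree of a height zero character of a block with defect
group `D`. -/
theorem factorization_degree_of_height_zero {p : ℕ} [hpf : Fact p.Prime] (hM : IsPModular p M)
    (B : Set (IrrCharacter G)) (hB : IsPBlock M B) (D : Subgroup G)
    (hD : IsDefectGroup p M B D) (χ : IrrCharacter G) (hχ : χ ∈ B)
    (h0 : blockHeight p B (χ : G → ℂ) = 0) :
    (charDegree (χ : G → ℂ)).factorization p
      = (Nat.card G).factorization p - (Nat.card D).factorization p := by
  have hdeg : (charDegree (χ : G → ℂ)).factorization p = minExp p B := by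
    rw [blockHeight_eq] at h0
    exact le_antisymm (Nat.sub_eq_zero_iff_le.mp h0) (minExp_le hχ)
  have hcard := Cfsg.Agent.S0908.result p M hM B hB D hD
  rw [blockDefect_eq] at hcard
  have hle := minExp_le_factorization_card (p := p) hχ
  rw [hdeg, hcard, Nat.factorization_pow_self hpf.out]
  omega

/-- The exponent of `p` in the class size of an element whose centralizer has `D` as a Sylow
subgroup. -/
theorem factorization_index_of_sylow {p : ℕ} [hpf : Fact p.Prime] (g : G) (D : Subgroup G)
    (S : Sylow p (Subgroup.centralizer ({g} : Set G)))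
    (hS : (S : Subgroup (Subgroup.centralizer ({g} : Set G))).map
      (Subgroup.centralizer ({g} : Set G)).subtype = D) :
    ((Subgroup.centralizer ({g} : Set G)).index).factorization p
      = (Nat.card G).factorization p - (Nat.card D).factorization p := by
  have hidx : (Subgroup.centralizer ({g} : Set G)).index
      * Nat.card (Subgroup.centralizer ({g} : Set G)) = Nat.card G :=
    Subgroup.index_mul_card _
  have hidx0 : (Subgroup.centralizer ({g} : Set G)).index ≠ 0 := by
    intro h
    rw [h, zero_mul] at hidx
    exact Nat.card_pos.ne' hidx.symm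
  have hc0 : Nat.card (Subgroup.centralizer ({g} : Set G)) ≠ 0 := Nat.card_pos.ne'
  have hfac : ((Subgroup.centralizer ({g} : Set G)).index).factorization p
      + (Nat.card (Subgroup.centralizer ({g} : Set G))).factorization p
      = (Nat.card G).factorization p := by
    rw [← hidx, Nat.factorization_mul hidx0 hc0]
    rfl
  have e1 : Nat.card D = Nat.card S := by
    rw [← hS]
    exact Subgroup.card_map_of_injective (Subgroup.subtype_injective _)
  have e2 : (Nat.card D).factorization p
      = (Nat.card (Subgroup.centralizer ({g} : Set G))).factorization p := by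
    rw [e1, S.card_eq_multiplicity, Nat.factorization_pow_self hpf.out]
  omega

/-- If all degrees `χ i (1)` and all class sizes of the `x j` have the same exponent of `p`, then
the determinant of `(χ i (x j))` lies in the local ideal iff that of the central character
values does. -/
theorem memLocalIdeal_det_centralChar_iff {p : ℕ} [hpf : Fact p.Prime] (hM : IsPModular p M)
    {I : Type*} [Fintype I] [DecidableEq I] (χ : I → IrrCharacter G) (x : I → G) (e : ℕ)
    (hχ : ∀ i, (charDegree (χ i : G → ℂ)).factorization p = e)
    (hx : ∀ j, ((Subgroup.centralizer ({x j} : Set G)).index).factorization p = e) :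
    MemLocalIdeal M (Matrix.det (Matrix.of fun i j : I => centralChar (χ i : G → ℂ) (x j)))
      ↔ MemLocalIdeal M (Matrix.det (Matrix.of fun i j : I => (χ i : G → ℂ) (x j))) := by
  haveI hMp := isPrime_of_isPModular hM
  have hidx0 : ∀ j, (Subgroup.centralizer ({x j} : Set G)).index ≠ 0 := by
    intro j h
    have hidx : (Subgroup.centralizer ({x j} : Set G)).index
        * Nat.card (Subgroup.centralizer ({x j} : Set G)) = Nat.card G :=
      Subgroup.index_mul_card _
    rw [h, zero_mul] at hidx
    exact Nat.card_pos.ne' hidx.symm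
  have hdeg0 : ∀ i, charDegree (χ i : G → ℂ) ≠ 0 := fun i => charDegree_ne_zero (χ i)
  obtain ⟨a, ha⟩ : ∃ a : ℕ, a = ∏ j, (Subgroup.centralizer ({x j} : Set G)).index := ⟨_, rfl⟩
  obtain ⟨b, hb⟩ : ∃ b : ℕ, b = ∏ i, charDegree (χ i : G → ℂ) := ⟨_, rfl⟩
  have ha0 : a ≠ 0 := by
    rw [ha]
    exact Finset.prod_ne_zero_iff.mpr (fun j _ => hidx0 j)
  have hb0 : b ≠ 0 := by
    rw [hb]
    exact Finset.prod_ne_zero_iff.mpr (fun i _ => hdeg0 i)
  have hfa : a.factorization p = Fintype.card I * e := by
    rw [ha, Nat.factorization_prod (fun j _ => hidx0 j), Finsupp.finsetSum_apply,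
      Finset.sum_congr rfl (fun j _ => hx j), Finset.sum_const, smul_eq_mul, Finset.card_univ]
  have hfb : b.factorization p = Fintype.card I * e := by
    rw [hb, Nat.factorization_prod (fun i _ => hdeg0 i), Finsupp.finsetSum_apply,
      Finset.sum_congr rfl (fun i _ => hχ i), Finset.sum_const, smul_eq_mul, Finset.card_univ]
  have hloc1 : MemLocalRing M ((a : ℂ) / (b : ℂ)) :=
    memLocalRing_natCast_div hM a b ha0 hb0 (by rw [hfa, hfb])
  have hloc2 : MemLocalRing M ((b : ℂ) / (a : ℂ)) :=
    memLocalRing_natCast_div hM b a hb0 ha0 (by rw [hfa, hfb])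
  have hdet : Matrix.det (Matrix.of fun i j : I => centralChar (χ i : G → ℂ) (x j))
      = (a : ℂ) / (b : ℂ) * Matrix.det (Matrix.of fun i j : I => (χ i : G → ℂ) (x j)) := by
    have h1 := det_scale (Matrix.of fun i j : I => (χ i : G → ℂ) (x j))
      (fun j => ((Subgroup.centralizer ({x j} : Set G)).index : ℂ))
      (fun i => (χ i : G → ℂ) 1)
    have h2 : (Matrix.of fun i j : I => centralChar (χ i : G → ℂ) (x j))
        = Matrix.of fun i j => ((Subgroup.centralizer ({x j} : Set G)).index : ℂ)
          * (Matrix.of fun i j : I => (χ i : G → ℂ) (x j)) i j / (χ i : G → ℂ) 1 := by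
      ext i j
      simp only [Matrix.of_apply]
      rfl
    rw [h2, h1, ha, hb]
    congr 2
    · push_cast
      rfl
    · push_cast
      apply Finset.prod_congr rfl
      intro i _
      exact apply_one_eq_charDegree (χ i)
  have ha0' : (a : ℂ) ≠ 0 := by exact_mod_cast ha0
  have hb0' : (b : ℂ) ≠ 0 := by exact_mod_cast hb0
  constructor
  · intro h
    have := memLocalIdeal_mul_localRing hloc2 h
    rw [hdet, ← mul_assoc] at this
    have e1 : (b : ℂ) / (a : ℂ) * ((a : ℂ) / (b : ℂ)) = 1 := by
      field_simp
    rwa [e1, one_mul] at this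
  · intro h
    rw [hdet]
    exact memLocalIdeal_mul_localRing hloc1 h

end Cfsg.Agent.Lib.Helper5.PSep3
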