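import Mathlib
import Cfsg.Prelude.Def_Blocks
import Cfsg.Agent.Lib.Helper5.PSep3A
import Cfsg.Agent.Lib.Helper5.PSep3B
import Cfsg.Agent.Lib.Helper4.PSepNormal2
import Cfsg.Agent.Lib.helper3.FirstMain2
import Cfsg.Agent.S0920
import Cfsg.Agent.S0918

set_option autoImplicit false
set_option linter.style.haveILetI false
set_option linter.unusedSectionVars false
set_option maxHeartbeats 1000000

/-! `p`-separated classes with common defect group `D`: from `N_G(D)` to `G`
(helper5; layer III of the theorem on `p`-separated classes). -/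

namespace Cfsg.Agent.Lib.Helper5.PSep3

open Cfsg Cfsg.Agent.Lib.helper3.Block Cfsg.Agent.Lib.helper3.LocalM
open Cfsg.Agent.Lib.helper3.CharBasic Cfsg.Agent.Lib.helper3.Irr Cfsg.Agent.Lib.helper3.Central

theorem layerIII {G : Type*} [Group G] [Finite G] (p : ℕ) [Fact p.Prime] (M : Ideal Cfsg.AlgInt)
    (hM : Cfsg.IsPModular p M) (D : Subgroup G) {r : ℕ} (x : Fin r → G)
    (hx : ∀ i j : Fin r, IsConj (x i) (x j) → i = j)
    (hD : ∀ i : Fin r, ∃ S : Sylow p ↥(Subgroup.centralizer ({x i} : Set G)),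
      (S : Subgroup ↥(Subgroup.centralizer ({x i} : Set G))).map
        (Subgroup.centralizer ({x i} : Set G)).subtype = D)
    (hsep : ∀ i j : Fin r, ∀ g h : G, IsConj (x i) g → IsConj (x j) h → ∀ k : ℕ, 0 < k →
      orderOf (g * h⁻¹) ≠ p ^ k) :
    ∃ B : Fin r → Set (Cfsg.IrrCharacter G), Function.Injective B ∧
      (∀ i : Fin r, Cfsg.IsPBlock M (B i) ∧ Cfsg.IsDefectGroup p M (B i) D) ∧
      ∀ χ : Fin r → Cfsg.IrrCharacter G,
        (∀ i : Fin r, χ i ∈ B i ∧ Cfsg.blockHeight p (B i) (χ i : G → ℂ) = 0) →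
        ¬ Cfsg.MemLocalIdeal M (Matrix.det (Matrix.of fun i j : Fin r => (χ i : G → ℂ) (x j))) := by
  classical
  haveI hMp := isPrime_of_isPModular hM
  letI : Fintype G := Fintype.ofFinite G
  rcases Nat.eq_zero_or_pos r with hr | hr
  · subst hr
    refine ⟨fun i => i.elim0, fun i => i.elim0, fun i => i.elim0, ?_⟩
    intro χ _
    rw [Matrix.det_isEmpty]
    exact not_memLocalIdeal_one
  have hDp : IsPGroup p D := isPGroup_of_sylow p D x hD ⟨0, hr⟩
  have hDN : D ≤ Subgroup.normalizer (D : Set G) := Subgroup.le_normalizer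
  have hCN : Subgroup.centralizer (D : Set G) ≤ Subgroup.normalizer (D : Set G) :=
    Subgroup.centralizer_le_normalizer _
  haveI hD'n : (D.subgroupOf (Subgroup.normalizer (D : Set G))).Normal :=
    (Subgroup.normal_subgroupOf_iff_le_normalizer hDN).mpr le_rfl
  letI : Fintype (Subgroup.normalizer (D : Set G)) := Fintype.ofFinite _
  obtain ⟨b, hbinj, hb, hbdet⟩ := Cfsg.Agent.Lib.Helper4.PSepNormal.layerII p M hM
    (D.subgroupOf (Subgroup.normalizer (D : Set G))) (yN p D x hD)
    (yN_nonconj p D x hD hx) (yN_sylow p D x hD) (yN_sep p D x hD hsep)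
  have h20 := Cfsg.Agent.S0920.result p M hM D hDp
  have hex : ∀ i : Fin r, ∃ B : Set (Cfsg.IrrCharacter G), Cfsg.IsPBlock M B ∧
      Cfsg.IsDefectGroup p M B D ∧
      Cfsg.IsInducedBlock M (Subgroup.normalizer (D : Set G)) (b i) B :=
    fun i => h20.1 (b i) (hb i).1 (hb i).2
  choose B hB hBD hBind using hex
  refine ⟨B, ?_, fun i => ⟨hB i, hBD i⟩, ?_⟩
  · intro i j hij
    apply hbinj
    obtain ⟨b₀, -, hb₀⟩ := h20.2 (B i) (hB i) (hBD i)
    have h1 := hb₀ (b i) ⟨(hb i).1, (hb i).2, hBind i⟩
    have h2 := hb₀ (b j) ⟨(hb j).1, (hb j).2, by rw [hij]; exact hBind j⟩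
    rw [h1, h2]
  · intro χ hχ
    -- height zero characters of the blocks `b i`
    have hξex : ∀ i : Fin r, ∃ ξ : IrrCharacter (Subgroup.normalizer (D : Set G)),
        ξ ∈ b i ∧ blockHeight p (b i) (ξ : Subgroup.normalizer (D : Set G) → ℂ) = 0 := by
      intro i
      obtain ⟨ξ, hξ, hξe⟩ := exists_minExp (p := p) (isPBlock_nonempty (hb i).1)
      refine ⟨ξ, hξ, ?_⟩
      rw [blockHeight_eq, hξe, Nat.sub_self]
    choose ξ hξ using hξex
    have hdetN := hbdet ξ hξ
    -- the exponents
    obtain ⟨eG, heG⟩ : ∃ eG : ℕ, eG = (Nat.card G).factorization p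
      - (Nat.card D).factorization p := ⟨_, rfl⟩
    obtain ⟨eN, heN⟩ : ∃ eN : ℕ, eN = (Nat.card (Subgroup.normalizer (D : Set G))).factorization p
      - (Nat.card (D.subgroupOf (Subgroup.normalizer (D : Set G)))).factorization p := ⟨_, rfl⟩
    have hGiff := memLocalIdeal_det_centralChar_iff hM χ x eG
      (fun i => by
        rw [heG]
        exact factorization_degree_of_height_zero hM (B i) (hB i) D (hBD i) (χ i) (hχ i).1
          (hχ i).2)
      (fun j => by
        rw [heG]
        obtain ⟨S, hS⟩ := hD j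
        exact factorization_index_of_sylow (x j) D S hS)
    have hNiff := memLocalIdeal_det_centralChar_iff hM ξ (yN p D x hD) eN
      (fun i => by
        rw [heN]
        exact factorization_degree_of_height_zero hM (b i) (hb i).1 _ (hb i).2 (ξ i) (hξ i).1
          (hξ i).2)
      (fun j => by
        rw [heN]
        obtain ⟨S, hS⟩ := yN_sylow p D x hD j
        exact factorization_index_of_sylow (yN p D x hD j) _ S hS)
    -- the congruence of central characters
    have hcong : ∀ i j : Fin r, MemLocalIdeal M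
        (centralChar (ξ i : Subgroup.normalizer (D : Set G) → ℂ) (yN p D x hD j)
          - centralChar (χ i : G → ℂ) (x j)) := by
      intro i j
      have h18 := (Cfsg.Agent.S0918.result p M hM D _ hDp hDN hCN le_rfl (b i) (hb i).1 (B i)
        (hB i)).mp (hBind i) (ξ i) (hξ i).1 (χ i) (hχ i).1 (x j)
      obtain ⟨S, hS⟩ := yN_sylow p D x hD j
      obtain ⟨ha, -, hc⟩ := defect_in_normalizer D hDp (yN p D x hD j) S hS.symm
      have h19 := brauerCentralChar_eq_centralChar D (ξ i) (yN p D x hD j) ha hc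
      rw [coe_yN] at h19
      rw [h19] at h18
      exact h18
    intro hmem
    apply hdetN
    rw [← hNiff]
    rw [← hGiff] at hmem
    have hsub := memLocalIdeal_det_sub_det (M := M)
      (Matrix.of fun i j : Fin r =>
        centralChar (ξ i : Subgroup.normalizer (D : Set G) → ℂ) (yN p D x hD j))
      (Matrix.of fun i j : Fin r => centralChar (χ i : G → ℂ) (x j))
      (fun i j => memLocalRing_of_integral (isIntegral_centralChar (ξ i).2 _))
      (fun i j => memLocalRing_of_integral (isIntegral_centralChar (χ i).2 _))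
      (fun i j => hcong i j)
    have := memLocalIdeal_add hsub hmem
    rwa [sub_add_cancel] at this

end Cfsg.Agent.Lib.Helper5.PSep3
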