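import Mathlib
import Cfsg.Agent.H2.ClassProdA
import Cfsg.Agent.S4035
import Cfsg.Agent.Lib.Helper6.PSingDefs

/-!
# S4321, piece (D): the normal Sylow `p`-subgroup (helper5, for helper6's split)
-/

set_option autoImplicit false

namespace Cfsg.Agent.Lib.Helper6.PSing

open Cfsg.Agent.H2.ClassProd
open scoped Pointwise

set_option linter.unusedSectionVars false

variable {G : Type*} [Group G] [Finite G]

variable {p : ℕ} [Fact p.Prime]

theorem centralizer_mul_of_coprime_h5 (a v : G) (hav : a * v = v * a) (k : ℕ)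
    (hk : orderOf a = p ^ k) (hv : (orderOf v).Coprime p) :
    Subgroup.centralizer ({a * v} : Set G)
      = Subgroup.centralizer {a} ⊓ Subgroup.centralizer {v} := by
  set m := orderOf v with hm
  have hcomm : Commute a v := hav
  have hcop : m.Coprime (orderOf a) := by rw [hk]; exact Nat.Coprime.pow_right k hv
  have hcop2 : (p ^ k).Coprime (orderOf v) := (Nat.Coprime.pow_right k hv).symm
  obtain ⟨j, hj⟩ := exists_pow_eq_self_of_coprime hcop
  obtain ⟨j', hj'⟩ := exists_pow_eq_self_of_coprime hcop2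
  have hw1 : (a * v) ^ m = a ^ m := by rw [hcomm.mul_pow, hm, pow_orderOf_eq_one, mul_one]
  have hw2 : (a * v) ^ (p ^ k) = v ^ (p ^ k) := by
    rw [hcomm.mul_pow, ← hk, pow_orderOf_eq_one, one_mul]
  ext x
  rw [Subgroup.mem_inf, mem_centralizer_singleton, mem_centralizer_singleton,
    mem_centralizer_singleton]
  constructor
  · intro hx
    have hxc : Commute x (a * v) := hx
    constructor
    · have h1 : Commute x (((a * v) ^ m) ^ j) := (hxc.pow_right m).pow_right j
      rw [hw1, hj] at h1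
      exact h1
    · have h1 : Commute x (((a * v) ^ (p ^ k)) ^ j') := (hxc.pow_right _).pow_right j'
      rw [hw2, hj'] at h1
      exact h1
  · rintro ⟨h1, h2⟩
    have h1' : Commute x a := h1
    have h2' : Commute x v := h2
    exact h1'.mul_right h2'

theorem not_dvd_relIndex_h5 (a b : G) (hNK : NK p a b) (ha : PEl p a) (hnc : cs a ≠ 1)
    (hpb : p ∣ cs b) (v : G) (hva : v * a = a * v) (hv : (orderOf v).Coprime p) :
    ¬ p ∣ (Subgroup.centralizer ({v} : Set G)).relIndex
      (Subgroup.centralizer ({a} : Set G)) := by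
  obtain ⟨ha1, k, hk⟩ := ha
  have hp : p.Prime := Fact.out
  have hcent := centralizer_mul_of_coprime_h5 a v hva.symm k hk hv
  have hk0 : k ≠ 0 := by
    rintro rfl
    rw [pow_zero, orderOf_eq_one_iff] at hk
    exact ha1 hk
  have hpw : p ∣ orderOf (a * v) := by
    have hcomm : Commute a v := hva.symm
    rw [hcomm.orderOf_mul_eq_mul_orderOf_of_coprime
      (by rw [hk]; exact (Nat.Coprime.pow_right k hv).symm), hk]
    exact Dvd.dvd.mul_right (dvd_pow_self p hk0) _
  have hdvd : cs a ∣ cs (a * v) := by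
    show (Subgroup.centralizer {a}).index ∣ (Subgroup.centralizer {a * v}).index
    apply Subgroup.index_dvd_of_le
    rw [hcent]
    exact inf_le_left
  rcases hNK (a * v) hpw with h1 | h1
  · exfalso
    exact hnc (Nat.Coprime.eq_one_of_dvd h1.symm hdvd)
  · intro hdiv
    have h2 : p ∣ cs (a * v) := by
      have h3 := Subgroup.relIndex_mul_index
        (inf_le_left : Subgroup.centralizer {a} ⊓ Subgroup.centralizer {v}
          ≤ Subgroup.centralizer ({a} : Set G))
      rw [Subgroup.inf_relIndex_left] at h3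
      show p ∣ (Subgroup.centralizer {a * v}).index
      rw [hcent, ← h3]
      exact Dvd.dvd.mul_right hdiv _
    have h3 := Nat.dvd_gcd h2 hpb
    have h1' : Nat.gcd (cs (a * v)) (cs b) = 1 := h1
    rw [h1'] at h3
    exact hp.one_lt.ne' (Nat.dvd_one.mp h3)

/-- (S8) -/
theorem exists_normal_sylow (a b : G) (hNK : NK p a b) (ha : PEl p a) (hnc : cs a ≠ 1)
    (hpa : ¬ p ∣ cs a) (hpb : p ∣ cs b)
    (hA : ∀ x : G, x * a = a * x → ∀ g : G, x * (g * a * g⁻¹) = (g * a * g⁻¹) * x) :
    ∃ P₁ : Subgroup G, P₁.Normal ∧ IsPGroup p ↥P₁ ∧ ¬ p ∣ P₁.index ∧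
      ∀ z ∈ P₁, (cs z).Coprime (cs a) → ∀ g : G, ∃ u ∈ P₁, g * z * g⁻¹ = u * z * u⁻¹ := by
  have hp : p.Prime := Fact.out
  set A := Subgroup.centralizer ({a} : Set G) with hAdef
  have hAn : A.Normal := by
    constructor
    intro x hx g
    rw [hAdef, mem_centralizer_singleton] at hx ⊢
    have h1 := hA x hx g⁻¹
    rw [inv_inv] at h1
    calc g * x * g⁻¹ * a = g * (x * (g⁻¹ * a * g)) * g⁻¹ := by group
      _ = g * (g⁻¹ * a * g * x) * g⁻¹ := by rw [h1]
      _ = a * (g * x * g⁻¹) := by group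
  have := hAn
  have h35 : ∀ x : ↥A, (orderOf x).Coprime p → ¬ p ∣ (ConjClasses.mk x).carrier.ncard := by
    intro x hx
    rw [Cfsg.Agent.S4035.ncard_carrier]
    have hx' : (orderOf (x : G)).Coprime p := by rwa [Subgroup.orderOf_coe]
    have hxa : (x : G) * a = a * (x : G) := (mem_centralizer_singleton a x).1 x.2
    have h1 := not_dvd_relIndex_h5 a b hNK ha hnc hpb (x : G) hxa hx'
    have heq : Subgroup.centralizer ({x} : Set ↥A)
        = (Subgroup.centralizer ({(x : G)} : Set G)).subgroupOf A := by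
      ext y
      rw [Subgroup.mem_subgroupOf, mem_centralizer_singleton, mem_centralizer_singleton]
      constructor
      · intro h
        have := congrArg Subtype.val h
        simpa using this
      · intro h
        exact Subtype.ext (by simpa using h)
    rw [heq]
    exact h1
  obtain ⟨P'⟩ : Nonempty (Sylow p ↥A) := inferInstance
  obtain ⟨hP'n, H', hH'n, hH'p, hdisj, hsup⟩ := Cfsg.Agent.S4035.result h35 P'
  refine ⟨(P' : Subgroup ↥A).map A.subtype, ?_, ?_, ?_, ?_⟩
  · have hchar : (P' : Subgroup ↥A).Characteristic := Sylow.characteristic_of_normal P' hP'n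
    constructor
    intro x hx g
    obtain ⟨x', hx', rfl⟩ := hx
    refine ⟨MulAut.conjNormal g x', ?_, ?_⟩
    · have h1 := Subgroup.characteristic_iff_map_eq.mp hchar (MulAut.conjNormal g)
      rw [← h1]
      exact Subgroup.mem_map_of_mem _ hx'
    · simp [MulAut.conjNormal_apply]
  · exact P'.isPGroup'.map A.subtype
  · rw [Subgroup.index_map_subtype]
    intro hdiv
    rcases (Nat.Prime.dvd_mul hp).1 hdiv with h1 | h1
    · exact P'.not_dvd_index h1
    · exact hpa h1
  · intro z hz hcop g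
    obtain ⟨z', hz', rfl⟩ := hz
    obtain ⟨k, hk, hgk⟩ := conj_eq_conj_of_coprime (A.subtype z') a hcop g
    have hk' : (⟨k, hk⟩ : ↥A) ∈ ((P' : Subgroup ↥A) ⊔ H' : Subgroup ↥A) := by
      rw [hsup]; trivial
    have hmul : (((P' : Subgroup ↥A) ⊔ H' : Subgroup ↥A) : Set ↥A)
        = (P' : Set ↥A) * (H' : Set ↥A) := Subgroup.mul_normal _ _
    have hk'' : (⟨k, hk⟩ : ↥A) ∈ (P' : Set ↥A) * (H' : Set ↥A) := by
      rw [← hmul]; exact hk'
    obtain ⟨u', hu', v', hv', huv⟩ := Set.mem_mul.mp hk''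
    have hcomm : Commute z' v' :=
      Subgroup.commute_of_normal_of_disjoint _ _ hP'n hH'n (disjoint_iff.mpr hdisj) z' v' hz' hv'
    refine ⟨A.subtype u', Subgroup.mem_map_of_mem _ hu', ?_⟩
    rw [hgk]
    have hk2 : k = (u' : G) * (v' : G) := by
      have := congrArg Subtype.val huv
      simpa using this.symm
    have hc : (v' : G) * (z' : G) = (z' : G) * (v' : G) := by
      have := congrArg Subtype.val hcomm.eq
      simpa using this.symm
    rw [hk2]
    show (u' : G) * (v' : G) * (z' : G) * ((u' : G) * (v' : G))⁻¹ = (u' : G) * (z' : G) * (u' : G)⁻¹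
    calc (u' : G) * (v' : G) * (z' : G) * ((u' : G) * (v' : G))⁻¹
        = (u' : G) * ((v' : G) * (z' : G)) * (v' : G)⁻¹ * (u' : G)⁻¹ := by group
      _ = (u' : G) * ((z' : G) * (v' : G)) * (v' : G)⁻¹ * (u' : G)⁻¹ := by rw [hc]
      _ = (u' : G) * (z' : G) * (u' : G)⁻¹ := by group

end Cfsg.Agent.Lib.Helper6.PSing
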