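import Cfsg.Agent.Lib.helper3.TwoTrans
import Cfsg.Agent.Lib.helper3.AbelianInertia
import Cfsg.Agent.Lib.helper3.IndFunTrans
import Cfsg.Agent.Lib.helper3.IndLin
import Cfsg.Agent.Lib.helper3.Inflate
import Cfsg.Agent.Lib.helper3.Irr7
import Cfsg.Agent.Lib.helper3.Irr10
import Cfsg.Agent.Lib.helper3.BlockCover
import Mathlib

set_option autoImplicit false

namespace Cfsg.Agent.Lib.Helper5.PermCharDecomp

open Cfsg Cfsg.Agent.Lib.helper3.Irr Cfsg.Agent.Lib.helper3.IndFun Cfsg.Agent.Lib.helper3.CharBasic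
open Cfsg.Agent.Lib.helper3.PermChar Cfsg.Agent.Lib.helper3.IndFunTrans
open scoped ComplexConjugate

universe u

/-- If a sum of `|I|` nonzero characters has norm `|I|`, they are irreducible and distinct. -/
theorem irr_of_sum {G : Type u} [Group G] [Fintype G] {I : Type*} [Fintype I]
    (θ : I → G → ℂ) (hθ : ∀ i, IsCharacter G (θ i)) (hne : ∀ i, θ i ≠ 0)
    (hnorm : classInner (∑ i, θ i) (∑ i, θ i) = (Fintype.card I : ℂ)) :
    (∀ i, IsIrrCharacter G (θ i)) ∧ Function.Injective θ := by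
  classical
  have hn : ∀ i j, ∃ n : ℕ, classInner (θ i) (θ j) = n := fun i j =>
    exists_nat_classInner_of_isCharacter_of_isCharacter (hθ i) (hθ j)
  choose n hn using hn
  have hsum : ∑ i, ∑ j, n i j = Fintype.card I := by
    have : ((∑ i, ∑ j, n i j : ℕ) : ℂ) = (Fintype.card I : ℂ) := by
      rw [← hnorm, classInner_sum_left]
      push_cast
      apply Finset.sum_congr rfl
      intro i _
      rw [classInner_sum_right]
      apply Finset.sum_congr rfl
      intro j _
      exact (hn i j).symm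
    exact_mod_cast this
  have hdiag : ∀ i, 1 ≤ n i i := by
    intro i
    rcases Nat.eq_zero_or_pos (n i i) with h | h
    · exfalso
      apply hne i
      apply eq_zero_of_classInner_self_eq_zero
      rw [hn i i, h]; simp
    · exact h
  have hrow : ∀ i, 1 ≤ ∑ j, n i j := fun i =>
    (hdiag i).trans (Finset.single_le_sum (f := fun j => n i j) (fun _ _ => Nat.zero_le _)
      (Finset.mem_univ i))
  have hrow1 : ∀ i, ∑ j, n i j = 1 := by
    have h1 : ∑ _i : I, 1 = ∑ i, ∑ j, n i j := by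
      rw [hsum]; simp
    have := (Finset.sum_eq_sum_iff_of_le (s := Finset.univ) (f := fun _ : I => 1)
      (g := fun i => ∑ j, n i j) (fun i _ => hrow i)).1 h1
    intro i
    exact (this i (Finset.mem_univ i)).symm
  have hd1 : ∀ i, n i i = 1 := by
    intro i
    have h1 := hrow1 i
    have h2 := Finset.single_le_sum (f := fun j => n i j) (fun _ _ => Nat.zero_le _)
      (Finset.mem_univ i)
    have h3 := hdiag i
    omega
  have hoff : ∀ i j, i ≠ j → n i j = 0 := by
    intro i j hij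
    have h1 := hrow1 i
    rw [← Finset.add_sum_erase Finset.univ (fun j => n i j) (Finset.mem_univ i), hd1 i] at h1
    have h2 : ∑ x ∈ Finset.univ.erase i, n i x = 0 := by omega
    have h3 := Finset.sum_eq_zero_iff.1 h2 j (Finset.mem_erase.2 ⟨hij.symm, Finset.mem_univ j⟩)
    exact h3
  refine ⟨fun i => ?_, ?_⟩
  · apply isIrrCharacter_of_classInner_self_eq_one (hθ i)
    rw [hn i i, hd1 i]; simp
  · intro i j hij
    by_contra hne'
    have h1 := hn i j
    rw [← hij, hn i i, hd1 i, hoff i j hne'] at h1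
    simp at h1

section decomp

variable {G : Type u} [Group G] {X : Type*} [MulAction G X]
  {Z : Type*} [CommGroup Z] [MulAction Z X]

theorem inv_smul_of_smul (hcomm : ∀ (g : G) (z : Z) (x : X), g • z • x = z • g • x)
    {x₀ : X} {g : G} {z : Z} (h : g • x₀ = z • x₀) : g⁻¹ • x₀ = z⁻¹ • x₀ := by
  rw [inv_smul_eq_iff, hcomm, h, inv_smul_smul]

theorem smul_block (hcomm : ∀ (g : G) (z : Z) (x : X), g • z • x = z • g • x)
    {x₀ : X} {g : G} {z : Z} (h : g • x₀ = z • x₀) (u : Z) : g • u • x₀ = (z * u) • x₀ := by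
  rw [hcomm, h, ← mul_smul, mul_comm]

/-- The stabilizer of the block `Z x₀`. -/
def blockStab (hcomm : ∀ (g : G) (z : Z) (x : X), g • z • x = z • g • x) (x₀ : X) :
    Subgroup G where
  carrier := {g | ∃ z : Z, g • x₀ = z • x₀}
  mul_mem' := by
    rintro a b ⟨z, hz⟩ ⟨w, hw⟩
    exact ⟨z * w, by rw [mul_smul, hw, smul_block hcomm hz]⟩
  one_mem' := ⟨1, by rw [one_smul, one_smul]⟩
  inv_mem' := by
    rintro a ⟨z, hz⟩
    exact ⟨z⁻¹, inv_smul_of_smul hcomm hz⟩

theorem mem_blockStab (hcomm : ∀ (g : G) (z : Z) (x : X), g • z • x = z • g • x) (x₀ : X) (g : G) :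
    g ∈ blockStab hcomm x₀ ↔ ∃ z : Z, g • x₀ = z • x₀ := Iff.rfl

theorem card_conjClasses_of_comm {A : Type*} [Group A] (h : ∀ a b : A, a * b = b * a) :
    Nat.card (ConjClasses A) = Nat.card A := by
  symm
  apply Nat.card_congr
  refine Equiv.ofBijective ConjClasses.mk ⟨?_, ConjClasses.mk_surjective⟩
  intro a b hab
  rw [ConjClasses.mk_eq_mk_iff_isConj, isConj_iff] at hab
  obtain ⟨c, hc⟩ := hab
  rw [h c a, mul_inv_cancel_right] at hc
  exact hc

variable [Fintype G] [Finite X] [MulAction.IsPretransitive G X]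

theorem permChar_decomp (hcomm : ∀ (g : G) (z : Z) (x : X), g • z • x = z • g • x)
    (hfree : ∀ (z : Z) (x : X), z • x = x → z = 1)
    (hnt : ∃ x y : X, ∀ z : Z, y ≠ z • x)
    (horb : Nat.card (Quotient (MulAction.orbitRel G (X × X))) = Nat.card Z + 1) :
    ∃ χ : Fin (Nat.card Z) → G → ℂ, (∀ i, IsIrrCharacter G (χ i)) ∧ Function.Injective χ ∧
      ∀ g, (Nat.card (MulAction.fixedBy X g) : ℂ) = 1 + ∑ i, χ i g := by
  classical
  obtain ⟨x₀, y₁, hxy⟩ := hnt
  have hne : Nonempty X := ⟨x₀⟩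
  set P : Subgroup G := blockStab hcomm x₀ with hP
  set S : Subgroup G := MulAction.stabilizer G x₀ with hS
  have hSP : S ≤ P := fun g hg => ⟨1, by rw [one_smul]; exact hg⟩
  let _ : Fintype P := Fintype.ofFinite _
  set M : Subgroup P := S.subgroupOf P with hM
  have hMmem : ∀ p : P, p ∈ M ↔ (p : G) • x₀ = x₀ := fun p => by
    rw [hM, Subgroup.mem_subgroupOf, hS, MulAction.mem_stabilizer_iff]
  have hMn : M.Normal := by
    refine ⟨fun n hn g => ?_⟩
    rw [hMmem] at hn ⊢
    obtain ⟨z, hz⟩ := g.2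
    have h1 : ((g * n * g⁻¹ : P) : G) = (g : G) * (n : G) * (g : G)⁻¹ := by simp
    rw [h1, mul_smul, mul_smul, inv_smul_of_smul hcomm hz, hcomm (n : G), hn,
      smul_block hcomm hz, mul_inv_cancel, one_smul]
  have hab : ∀ a b : P, a * b * a⁻¹ * b⁻¹ ∈ M := by
    intro a b
    rw [hMmem]
    obtain ⟨z, hz⟩ := a.2
    obtain ⟨w, hw⟩ := b.2
    have h1 : ((a * b * a⁻¹ * b⁻¹ : P) : G) = (a : G) * (b : G) * (a : G)⁻¹ * (b : G)⁻¹ := by simp
    rw [h1, mul_smul, mul_smul, mul_smul, inv_smul_of_smul hcomm hw,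
      smul_block hcomm (inv_smul_of_smul hcomm hz), smul_block hcomm hw, smul_block hcomm hz]
    have : z * (w * (z⁻¹ * w⁻¹)) = 1 := by
      rw [mul_left_comm w, mul_inv_cancel, mul_one, mul_inv_cancel]
    rw [this, one_smul]
  have hidx : M.index = Nat.card Z := by
    have h1 : M = MulAction.stabilizer P x₀ := by
      ext p
      rw [hMmem, MulAction.mem_stabilizer_iff]
      rfl
    rw [h1, MulAction.index_stabilizer]
    have h2 : MulAction.orbit P x₀ = Set.range (fun z : Z => z • x₀) := by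
      ext y
      constructor
      · rintro ⟨p, rfl⟩
        obtain ⟨z, hz⟩ := p.2
        exact ⟨z, hz.symm⟩
      · rintro ⟨z, rfl⟩
        obtain ⟨g, hg⟩ := MulAction.exists_smul_eq G x₀ (z • x₀)
        exact ⟨⟨g, z, hg⟩, hg⟩
    rw [h2, ← Nat.card_coe_set_eq]
    apply Nat.card_range_of_injective
    intro z w hzw
    have h3 : (w⁻¹ * z) • x₀ = x₀ := by
      rw [mul_smul]
      simp only at hzw
      rw [hzw, inv_smul_smul]
    have := hfree _ _ h3
    rw [inv_mul_eq_one] at this
    exact this.symm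
  have : M.Normal := hMn
  have hcardI : Fintype.card (IrrCharacter (P ⧸ M)) = Nat.card Z := by
    rw [← Nat.card_eq_fintype_card, card_irr_eq_card_conjClasses,
      card_conjClasses_of_comm (quotient_comm_of_commutator_mem M hab), ← Subgroup.index_eq_card,
      hidx]
  set π : G → ℂ := fun g : G => (Nat.card (MulAction.fixedBy X g) : ℂ) with hπdef
  let Θ : IrrCharacter (P ⧸ M) → G → ℂ := fun β => indFun P (inflate M β.1)
  have hπ : π = ∑ β : IrrCharacter (P ⧸ M), Θ β := by
    rw [hπdef, permChar_eq_indFun X x₀, ← indFun_trans S P hSP (fun _ => 1)]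
    have := indFun_one_eq_sum_inflate M hab
    rw [← hM, this, indFun_sum]
  let β₀ : IrrCharacter (P ⧸ M) := ⟨fun _ => 1, isIrrCharacter_one⟩
  have hΘchar : ∀ β, IsCharacter G (Θ β) := fun β =>
    isCharacter_indFun P _ (isCharacter_of_isIrrCharacter (isIrrCharacter_inflate M β.2))
  have hΘ0 : Θ β₀ = indFun P (fun _ => 1) := rfl
  have hone : IsClassFunction G (fun _ : G => (1 : ℂ)) := fun _ _ => rfl
  have h1 : classInner (Θ β₀) (fun _ => 1) = 1 := by
    rw [hΘ0, frobenius_reciprocity P _ _ hone]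
    exact classInner_one_one
  have hsub : IsCharacter G (Θ β₀ - fun _ => 1) :=
    isCharacter_sub_of_classInner_ne_zero (hΘchar β₀) ⟨fun _ => 1, isIrrCharacter_one⟩
      (by rw [h1]; exact one_ne_zero)
  let θ : IrrCharacter (P ⧸ M) → G → ℂ := fun β => if β = β₀ then Θ β₀ - (fun _ => 1) else Θ β
  have hθsum : ∑ β, θ β = π - fun _ => 1 := by
    rw [hπ, ← Finset.add_sum_erase Finset.univ θ (Finset.mem_univ β₀),
      ← Finset.add_sum_erase Finset.univ Θ (Finset.mem_univ β₀)]
    have h2 : ∑ β ∈ Finset.univ.erase β₀, θ β = ∑ β ∈ Finset.univ.erase β₀, Θ β :=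
      Finset.sum_congr rfl (fun β hβ => if_neg (Finset.ne_of_mem_erase hβ))
    rw [h2]
    simp only [θ, if_pos]
    abel
  have hθchar : ∀ β, IsCharacter G (θ β) := by
    intro β
    by_cases hβ : β = β₀
    · simp only [θ, if_pos hβ]; exact hsub
    · simp only [θ, if_neg hβ]; exact hΘchar β
  have hθne : ∀ β, θ β ≠ 0 := by
    intro β
    by_cases hβ : β = β₀
    · simp only [θ, if_pos hβ]
      intro h0
      have h2 := congrFun h0 1
      rw [Pi.sub_apply, hΘ0, indFun_apply_one, mul_one, Pi.zero_apply, sub_eq_zero] at h2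
      have h3 : P.index = 1 := by exact_mod_cast h2
      rw [Subgroup.index_eq_one] at h3
      obtain ⟨g, hg⟩ := MulAction.exists_smul_eq G x₀ y₁
      have hgP : g ∈ P := by rw [h3]; trivial
      obtain ⟨z, hz⟩ := hgP
      exact hxy z (hg.symm.trans hz)
    · simp only [θ, if_neg hβ]
      intro h0
      have h2 := congrFun h0 1
      exact Cfsg.Agent.Lib.helper3.Block.indFun_one_ne_zero P _ (apply_one_ne_zero (isIrrCharacter_inflate M β.2)) h2
  have hπ1 : classInner π (fun _ => 1) = 1 := classInner_permChar_one X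
  have hπ1' : classInner (fun _ => (1 : ℂ)) π = 1 := by
    rw [← classInner_conj_symm, hπ1, map_one]
  have hnorm : classInner (∑ β, θ β) (∑ β, θ β) = (Fintype.card (IrrCharacter (P ⧸ M)) : ℂ) := by
    rw [hθsum, classInner_sub_left, classInner_sub_right, classInner_sub_right, hπ1, hπ1',
      classInner_one_one, hπdef, classInner_permChar_self, horb, hcardI]
    push_cast
    ring
  obtain ⟨hirr, hinj⟩ := irr_of_sum θ hθchar hθne hnorm
  let e : Fin (Nat.card Z) ≃ IrrCharacter (P ⧸ M) :=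
    (Fintype.equivFinOfCardEq hcardI).symm
  refine ⟨fun i => θ (e i), fun i => hirr _, hinj.comp e.injective, ?_⟩
  intro g
  have h4 : ∑ i, θ (e i) g = ∑ β, θ β g := Equiv.sum_comp e (fun β => θ β g)
  rw [h4]
  have h5 := congrFun hθsum g
  rw [Finset.sum_apply, Pi.sub_apply] at h5
  rw [h5]
  ring

end decomp

end Cfsg.Agent.Lib.Helper5.PermCharDecomp
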