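import Mathlib

namespace Cfsg.Agent.Lib.Helper5.Pow23

/-- Two powers of two differing by two are `2` and `4`. -/
theorem two_pow_sub_two_pow (i j : ℕ) (h : 2 ^ i + 2 = 2 ^ j) : i = 1 ∧ j = 2 := by
  have hij : i < j := by
    by_contra hle
    rw [not_lt] at hle
    have : 2 ^ j ≤ 2 ^ i := Nat.pow_le_pow_right (by norm_num) hle
    omega
  rcases Nat.eq_zero_or_pos i with hi0 | hipos
  · subst hi0
    -- 1 + 2 = 2^j impossible
    have hj : 1 ≤ j := hij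
    obtain ⟨k, rfl⟩ := Nat.exists_eq_add_of_le hj
    rw [pow_add] at h
    omega
  · -- i ≥ 1
    obtain ⟨i', rfl⟩ := Nat.exists_eq_add_of_le hipos
    obtain ⟨d, rfl⟩ := Nat.exists_eq_add_of_lt hij
    -- 2^(1+i') + 2 = 2^(1+i'+d+1)
    have h1 : 2 ^ (1 + i') = 2 * 2 ^ i' := by rw [pow_add]; norm_num
    have h2 : 2 ^ (1 + i' + d + 1) = 2 * (2 ^ i' * 2 ^ (d + 1)) := by
      rw [show 1 + i' + d + 1 = 1 + (i' + (d + 1)) by ring, pow_add, pow_add]; norm_num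
    rw [h1, h2] at h
    have h3 : 2 ^ i' + 1 = 2 ^ i' * 2 ^ (d + 1) := by omega
    -- 2^i' divides 1
    have hdvd : 2 ^ i' ∣ 1 := by
      have : 2 ^ i' ∣ 2 ^ i' * 2 ^ (d + 1) := Dvd.intro _ rfl
      rw [← h3] at this
      exact (Nat.dvd_add_right (dvd_refl _)).mp this
    have hi' : 2 ^ i' = 1 := Nat.dvd_one.mp hdvd
    have hi0 : i' = 0 := by
      by_contra hne
      have : 2 ≤ 2 ^ i' := by
        calc 2 = 2 ^ 1 := by norm_num
          _ ≤ 2 ^ i' := Nat.pow_le_pow_right (by norm_num) (Nat.one_le_iff_ne_zero.mpr hne)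
      omega
    subst hi0
    simp at h3
    -- 2 = 2^(d+1)
    have hd : d = 0 := by
      by_contra hne
      have : 2 ^ 2 ≤ 2 ^ (d + 1) := Nat.pow_le_pow_right (by norm_num) (by omega)
      omega
    subst hd
    exact ⟨by norm_num, by norm_num⟩

/-- The only solution of `2 ^ a + 1 = 3 ^ b` with `a ≥ 2` has `a = 3`. -/
theorem two_pow_add_one_eq_three_pow (a b : ℕ) (ha : 2 ≤ a) (h : 2 ^ a + 1 = 3 ^ b) : a = 3 := by
  -- b is even: look mod 4
  have h4 : 4 ∣ 2 ^ a := by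
    obtain ⟨k, rfl⟩ := Nat.exists_eq_add_of_le ha
    rw [pow_add]; exact Dvd.intro _ rfl
  have hmod : 3 ^ b % 4 = 1 := by
    obtain ⟨k, hk⟩ := h4
    rw [← h, hk]; omega
  have hbeven : Even b := by
    by_contra hodd
    rw [Nat.not_even_iff_odd] at hodd
    obtain ⟨c, rfl⟩ := hodd
    have : 3 ^ (2 * c + 1) % 4 = 3 := by
      rw [pow_succ, pow_mul, Nat.mul_mod, Nat.pow_mod]
      norm_num
    rw [this] at hmod
    exact absurd hmod (by norm_num)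
  obtain ⟨c, rfl⟩ := hbeven
  -- 2^a = (3^c - 1) * (3^c + 1)
  have hc1 : 1 ≤ 3 ^ c := Nat.one_le_pow _ _ (by norm_num)
  have hfac : 2 ^ a = (3 ^ c - 1) * (3 ^ c + 1) := by
    have : 3 ^ (c + c) = 3 ^ c * 3 ^ c := pow_add 3 c c
    obtain ⟨m, hm⟩ := Nat.exists_eq_add_of_le hc1
    rw [hm] at this ⊢
    have e : 1 + m - 1 = m := by omega
    rw [e]
    have h' : 2 ^ a + 1 = (1 + m) * (1 + m) := h.trans this
    nlinarith
  have hd1 : (3 ^ c - 1) ∣ 2 ^ a := Dvd.intro _ hfac.symm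
  have hd2 : (3 ^ c + 1) ∣ 2 ^ a := Dvd.intro_left _ hfac.symm
  obtain ⟨i, _, hi⟩ := (Nat.dvd_prime_pow Nat.prime_two).mp hd1
  obtain ⟨j, _, hj⟩ := (Nat.dvd_prime_pow Nat.prime_two).mp hd2
  have hij : 2 ^ i + 2 = 2 ^ j := by omega
  obtain ⟨rfl, rfl⟩ := two_pow_sub_two_pow i j hij
  -- 3^c - 1 = 2, 3^c + 1 = 4 so 2^a = 8
  rw [hi, hj] at hfac
  have h8 : 2 ^ a = 2 ^ 3 := by rw [hfac]; norm_num
  exact Nat.pow_right_injective (le_refl 2) h8

end Cfsg.Agent.Lib.Helper5.Pow23
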