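import Mathlib

set_option autoImplicit false
open scoped MatrixGroups LinearAlgebra.Projectivization Matrix

namespace Cfsg.Agent.Lib.Helper5.ProjLine

variable {F : Type*} [Field F]

/-- the `2 × 2` determinant of two vectors -/
def det2 (u v : Fin 2 → F) : F := u 0 * v 1 - u 1 * v 0

theorem det2_smul_left (t : F) (u v : Fin 2 → F) : det2 (t • u) v = t * det2 u v := by
  unfold det2; simp; ring

theorem det2_self (u : Fin 2 → F) : det2 u u = 0 := by
  unfold det2; ring

theorem vec_ext {u v : Fin 2 → F} (h0 : u 0 = v 0) (h1 : u 1 = v 1) : u = v := by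
  funext i
  fin_cases i
  · exact h0
  · exact h1

theorem mk_ne_iff (u v : Fin 2 → F) (hu : u ≠ 0) (hv : v ≠ 0) :
    Projectivization.mk F u hu ≠ Projectivization.mk F v hv ↔ det2 u v ≠ 0 := by
  rw [Ne, Projectivization.mk_eq_mk_iff', not_iff_not]
  constructor
  · rintro ⟨t, rfl⟩
    rw [det2_smul_left, det2_self, mul_zero]
  · intro h
    unfold det2 at h
    by_cases hv0 : v 0 = 0
    · have hv1 : v 1 ≠ 0 := by
        intro hv1
        exact hv (vec_ext hv0 hv1)
      have hu0 : u 0 = 0 := by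
        rw [hv0, mul_zero, sub_zero] at h
        exact (mul_eq_zero.1 h).resolve_right hv1
      refine ⟨u 1 / v 1, vec_ext ?_ ?_⟩
      · simp [hv0, hu0]
      · simp; field_simp
    · refine ⟨u 0 / v 0, vec_ext ?_ ?_⟩
      · simp; field_simp
      · simp; field_simp; linear_combination h

/-- the matrix with columns `α u` and `β v` -/
def mat (u v : Fin 2 → F) (α β : F) : Matrix (Fin 2) (Fin 2) F :=
  !![α * u 0, β * v 0; α * u 1, β * v 1]

theorem det_mat (u v : Fin 2 → F) (α β : F) : (mat u v α β).det = α * β * det2 u v := by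
  unfold mat det2
  rw [Matrix.det_fin_two_of]
  ring

/-- the standard vectors -/
def e1 : Fin 2 → F := ![1, 0]
/-- the standard vectors -/
def e2 : Fin 2 → F := ![0, 1]
/-- the standard vectors -/
def e12 : Fin 2 → F := ![1, 1]

theorem e1_ne : (e1 : Fin 2 → F) ≠ 0 := fun h => by simpa [e1] using congrFun h 0
theorem e2_ne : (e2 : Fin 2 → F) ≠ 0 := fun h => by simpa [e2] using congrFun h 1
theorem e12_ne : (e12 : Fin 2 → F) ≠ 0 := fun h => by simpa [e12] using congrFun h 0

theorem mulVec_e1 (M : Matrix (Fin 2) (Fin 2) F) : M *ᵥ e1 = ![M 0 0, M 1 0] := by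
  apply vec_ext <;> simp [Matrix.mulVec, dotProduct, Fin.sum_univ_two, e1]

theorem mulVec_e2 (M : Matrix (Fin 2) (Fin 2) F) : M *ᵥ e2 = ![M 0 1, M 1 1] := by
  apply vec_ext <;> simp [Matrix.mulVec, dotProduct, Fin.sum_univ_two, e2]

theorem mulVec_e12 (M : Matrix (Fin 2) (Fin 2) F) : M *ᵥ e12 = ![M 0 0 + M 0 1, M 1 0 + M 1 1] := by
  apply vec_ext <;> simp [Matrix.mulVec, dotProduct, Fin.sum_univ_two, e12]

theorem mat_e1 (u v : Fin 2 → F) (α β : F) : mat u v α β *ᵥ e1 = α • u := by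
  rw [mulVec_e1]
  apply vec_ext <;> simp [mat]

theorem mat_e2 (u v : Fin 2 → F) (α β : F) : mat u v α β *ᵥ e2 = β • v := by
  rw [mulVec_e2]
  apply vec_ext <;> simp [mat]

theorem mat_e12 (u v : Fin 2 → F) (α β : F) : mat u v α β *ᵥ e12 = α • u + β • v := by
  rw [mulVec_e12]
  apply vec_ext <;> simp [mat]

theorem cramer (u v w : Fin 2 → F) (h : det2 u v ≠ 0) :
    (det2 w v / det2 u v) • u + (det2 u w / det2 u v) • v = w := by
  unfold det2 at h ⊢
  apply vec_ext
  · simp only [Pi.add_apply, Pi.smul_apply, smul_eq_mul]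
    rw [div_mul_eq_mul_div, div_mul_eq_mul_div, ← add_div, div_eq_iff h]; ring
  · simp only [Pi.add_apply, Pi.smul_apply, smul_eq_mul]
    rw [div_mul_eq_mul_div, div_mul_eq_mul_div, ← add_div, div_eq_iff h]; ring

/-- the standard points -/
noncomputable def p1 : ℙ F (Fin 2 → F) := Projectivization.mk F e1 e1_ne
/-- the standard points -/
noncomputable def p2 : ℙ F (Fin 2 → F) := Projectivization.mk F e2 e2_ne
/-- the standard points -/
noncomputable def p12 : ℙ F (Fin 2 → F) := Projectivization.mk F e12 e12_ne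

theorem p1_ne_p2 : (p1 : ℙ F (Fin 2 → F)) ≠ p2 := by
  unfold p1 p2
  rw [mk_ne_iff]
  simp [det2, e1, e2]

theorem p1_ne_p12 : (p1 : ℙ F (Fin 2 → F)) ≠ p12 := by
  unfold p1 p12
  rw [mk_ne_iff]
  simp [det2, e1, e12]

theorem p2_ne_p12 : (p2 : ℙ F (Fin 2 → F)) ≠ p12 := by
  unfold p2 p12
  rw [mk_ne_iff]
  simp [det2, e2, e12]

theorem mulVec_ne_zero (M : Matrix (Fin 2) (Fin 2) F) (hM : M.det ≠ 0) (v : Fin 2 → F)
    (hv : v ≠ 0) : M *ᵥ v ≠ 0 := by
  intro h
  apply hv
  have : M⁻¹ *ᵥ (M *ᵥ v) = v := by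
    rw [Matrix.mulVec_mulVec, Matrix.nonsing_inv_mul _ (isUnit_iff_ne_zero.2 hM), Matrix.one_mulVec]
  rw [← this, h, Matrix.mulVec_zero]

/-- any three distinct points are the image of the standard triple under an invertible matrix -/
theorem exists_mat (a b c : ℙ F (Fin 2 → F)) (hab : a ≠ b) (hac : a ≠ c) (hbc : b ≠ c) :
    ∃ (M : Matrix (Fin 2) (Fin 2) F) (hM : M.det ≠ 0),
      Projectivization.mk F (M *ᵥ e1) (mulVec_ne_zero M hM _ e1_ne) = a ∧
      Projectivization.mk F (M *ᵥ e2) (mulVec_ne_zero M hM _ e2_ne) = b ∧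
      Projectivization.mk F (M *ᵥ e12) (mulVec_ne_zero M hM _ e12_ne) = c := by
  induction a using Projectivization.ind with | _ u hu =>
  induction b using Projectivization.ind with | _ v hv =>
  induction c using Projectivization.ind with | _ w hw =>
  rw [mk_ne_iff] at hab hac hbc
  have hwv : det2 w v ≠ 0 := by
    intro h
    apply hbc
    unfold det2 at h ⊢
    linear_combination -h
  set α := det2 w v / det2 u v with hα
  set β := det2 u w / det2 u v with hβ
  have hα0 : α ≠ 0 := div_ne_zero hwv hab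
  have hβ0 : β ≠ 0 := div_ne_zero hac hab
  have hdet : (mat u v α β).det ≠ 0 := by
    rw [det_mat]
    exact mul_ne_zero (mul_ne_zero hα0 hβ0) hab
  refine ⟨mat u v α β, hdet, ?_, ?_, ?_⟩
  · rw [Projectivization.mk_eq_mk_iff']
    exact ⟨α, (mat_e1 u v α β).symm⟩
  · rw [Projectivization.mk_eq_mk_iff']
    exact ⟨β, (mat_e2 u v α β).symm⟩
  · rw [Projectivization.mk_eq_mk_iff']
    refine ⟨1, ?_⟩
    rw [one_smul, mat_e12, hα, hβ, cramer u v w hab]

/-- a matrix fixing the three standard points is scalar -/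
theorem scalar_of_fix (M : Matrix (Fin 2) (Fin 2) F) (hM : M.det ≠ 0)
    (h1 : Projectivization.mk F (M *ᵥ e1) (mulVec_ne_zero M hM _ e1_ne) = p1)
    (h2 : Projectivization.mk F (M *ᵥ e2) (mulVec_ne_zero M hM _ e2_ne) = p2)
    (h12 : Projectivization.mk F (M *ᵥ e12) (mulVec_ne_zero M hM _ e12_ne) = p12) :
    ∃ t : F, t ≠ 0 ∧ M = Matrix.scalar (Fin 2) t := by
  unfold p1 at h1
  unfold p2 at h2
  unfold p12 at h12
  rw [Projectivization.mk_eq_mk_iff'] at h1 h2 h12
  obtain ⟨l, hl⟩ := h1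
  obtain ⟨m, hm⟩ := h2
  obtain ⟨n, hn⟩ := h12
  rw [mulVec_e1] at hl
  rw [mulVec_e2] at hm
  rw [mulVec_e12] at hn
  have a00 := congrFun hl 0
  have a10 := congrFun hl 1
  have a01 := congrFun hm 0
  have a11 := congrFun hm 1
  have b0 := congrFun hn 0
  have b1 := congrFun hn 1
  simp [e1, e2, e12] at a00 a10 a01 a11 b0 b1
  rw [← a00, ← a01] at b0
  rw [← a10, ← a11] at b1
  have hlm : l = m := by
    rw [add_zero] at b0
    rw [zero_add] at b1
    rw [← b0, ← b1]
  refine ⟨l, ?_, ?_⟩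
  · rintro rfl
    apply hM
    rw [Matrix.det_fin_two, ← a00, ← a10]
    ring
  · ext i j
    fin_cases i <;> fin_cases j <;> simp [← a00, ← a10, ← a01, ← a11, hlm]

end Cfsg.Agent.Lib.Helper5.ProjLine
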