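import Mathlib
import Cfsg.Prelude.Def_ClassicalGeometry

/-!
# Quadratic forms as functions: polar vectors, reflections, Siegel matrices (helper5's shared lemmas)
-/

set_option autoImplicit false

namespace Cfsg.Agent.Lib.Helper5.QForm

open Matrix Cfsg

variable {F : Type*} [Field F] {n : ℕ} (Q : QuadraticForm F (Fin n → F))

theorem polarVec_dotProduct (v x : Fin n → F) :
    polarVec (⇑Q) v ⬝ᵥ x = QuadraticMap.polar (⇑Q) v x := by
  have h := LinearMap.pi_apply_eq_sum_univ (QuadraticMap.polarBilin Q v) x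
  simp only [QuadraticMap.polarBilin_apply_apply, smul_eq_mul] at h
  rw [h]
  unfold polarVec dotProduct
  apply Finset.sum_congr rfl
  intro i _
  rw [mul_comm]
  have he : (Pi.single i (1 : F) : Fin n → F) = fun j => if i = j then 1 else 0 := by
    ext j
    simp [Pi.single_apply, eq_comm]
  simp only [he]

theorem vecMulVec_polarVec_mulVec (w v x : Fin n → F) :
    (vecMulVec w (polarVec (⇑Q) v)) *ᵥ x = QuadraticMap.polar (⇑Q) v x • w := by
  rw [Matrix.vecMulVec_mulVec, op_smul_eq_smul, polarVec_dotProduct]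

theorem reflectionMatrix_mulVec (v x : Fin n → F) :
    reflectionMatrix (⇑Q) v *ᵥ x = x - ((Q v)⁻¹ * QuadraticMap.polar (⇑Q) v x) • v := by
  unfold reflectionMatrix
  rw [Matrix.sub_mulVec, Matrix.one_mulVec, Matrix.smul_mulVec, vecMulVec_polarVec_mulVec,
    smul_smul]

theorem siegelMatrix_mulVec (u v : Fin n → F) (c : F) (x : Fin n → F) :
    siegelMatrix (⇑Q) u v c *ᵥ x =
      x + c • (QuadraticMap.polar (⇑Q) u x • v - QuadraticMap.polar (⇑Q) v x • u) := by
  unfold siegelMatrix
  rw [Matrix.add_mulVec, Matrix.one_mulVec, Matrix.smul_mulVec, Matrix.sub_mulVec,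
    vecMulVec_polarVec_mulVec, vecMulVec_polarVec_mulVec]

end Cfsg.Agent.Lib.Helper5.QForm
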