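import Mathlib
import Cfsg.Prelude.Def_Classical
import Cfsg.Agent.S0750
import Cfsg.Agent.Lib.Helper5.QuadFrames

/-!
# Elements of the isometry group from isometric linear maps (helper5's shared lemmas)
-/

set_option autoImplicit false

namespace Cfsg.Agent.Lib.Helper5.QuadIso

open Cfsg.Agent.S0750 Cfsg.Agent.Lib.Helper5.QuadFrames Matrix

section
variable {F : Type*} [Field F] {ι : Type} [Fintype ι] [DecidableEq ι]
  (Q : QuadraticForm F (ι → F))

theorem isUnit_of_isometry (hQ : (QuadraticMap.polarBilin Q).Nondegenerate)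
    (f : (ι → F) →ₗ[F] (ι → F)) (hf : ∀ v, Q (f v) = Q v) :
    IsUnit (LinearMap.toMatrix' f).det := by
  rw [← Matrix.isUnit_iff_isUnit_det, ← Matrix.mulVec_injective_iff_isUnit]
  have := injective_of_isometry Q hQ f hf
  intro u w huw
  apply this
  rw [LinearMap.toMatrix'_mulVec, LinearMap.toMatrix'_mulVec] at huw
  exact huw

/-- an isometric linear map as an element of the isometry group -/
noncomputable def ofIsometry (hQ : (QuadraticMap.polarBilin Q).Nondegenerate)
    (f : (ι → F) →ₗ[F] (ι → F)) (hf : ∀ v, Q (f v) = Q v) : Cfsg.isometryGroup F (⇑Q) :=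
  ⟨Matrix.GeneralLinearGroup.mk'' (LinearMap.toMatrix' f) (isUnit_of_isometry Q hQ f hf), by
    rw [mem_isometryGroup]
    intro v
    change Q (LinearMap.toMatrix' f *ᵥ v) = Q v
    rw [LinearMap.toMatrix'_mulVec]
    exact hf v⟩

theorem ofIsometry_mulVec (hQ : (QuadraticMap.polarBilin Q).Nondegenerate)
    (f : (ι → F) →ₗ[F] (ι → F)) (hf : ∀ v, Q (f v) = Q v) (v : ι → F) :
    (ofIsometry Q hQ f hf).1.1 *ᵥ v = f v := by
  change LinearMap.toMatrix' f *ᵥ v = f v
  rw [LinearMap.toMatrix'_mulVec]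

/-- elements of the isometry group are determined by their action -/
theorem ext_mulVec (g g' : Cfsg.isometryGroup F (⇑Q))
    (h : ∀ v, g.1.1 *ᵥ v = g'.1.1 *ᵥ v) : g = g' := by
  apply Subtype.ext
  apply Units.ext
  ext r c
  have := congrFun (h (Pi.single c 1)) r
  rw [Matrix.mulVec_single_one, Matrix.mulVec_single_one] at this
  exact this

theorem iso_mul_mulVec (g g' : Cfsg.isometryGroup F (⇑Q)) (v : ι → F) :
    (g * g').1.1 *ᵥ v = g.1.1 *ᵥ (g'.1.1 *ᵥ v) := by
  rw [Matrix.mulVec_mulVec]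
  rfl

theorem iso_one_mulVec (v : ι → F) : (1 : Cfsg.isometryGroup F (⇑Q)).1.1 *ᵥ v = v := by
  change (1 : Matrix ι ι F) *ᵥ v = v
  rw [Matrix.one_mulVec]

theorem iso_pow_mulVec (g : Cfsg.isometryGroup F (⇑Q)) (k : ℕ) (v : ι → F) :
    (g ^ k).1.1 *ᵥ v = (fun w => g.1.1 *ᵥ w)^[k] v := by
  induction k generalizing v with
  | zero => rw [pow_zero, iso_one_mulVec]; rfl
  | succ k ih =>
    rw [pow_succ, iso_mul_mulVec, ih, Function.iterate_succ_apply]

end

end Cfsg.Agent.Lib.Helper5.QuadIso
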