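import Mathlib
import Cfsg.Agent.H1.RealL0
import Cfsg.Agent.Lib.helper3.CExt5
import Cfsg.Agent.Lib.Lead.PSolvable

/-!
# S4863, piece L2: Lemma L from its minimal case (helper5)

`lemmaL_of_min` : quotient bookkeeping, `LMinStmt p → LStmt p`.
-/

set_option autoImplicit false
set_option linter.style.haveILetI false
set_option linter.unusedSectionVars false
set_option linter.unusedVariables false

namespace Cfsg.Agent.Lib.Helper5.RealL2

open Cfsg Cfsg.Agent.H1.RealL

universe u

/-- the image of a `2`-element is a `2`-element -/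
theorem exists_orderOf_map {X Y : Type*} [Group X] [Group Y] (f : X →* Y) (g : X) (k : ℕ)
    (hg : orderOf g = 2 ^ k) : ∃ j : ℕ, orderOf (f g) = 2 ^ j := by
  have h1 : orderOf (f g) ∣ 2 ^ k := by
    rw [← hg]
    exact orderOf_map_dvd f g
  obtain ⟨j, -, hj⟩ := (Nat.dvd_prime_pow Nat.prime_two).1 h1
  exact ⟨j, hj⟩

theorem lemmaL_of_min (p : ℕ) [Fact p.Prime] (h : LMinStmt.{u} p) : LStmt.{u} p := by
  intro X _ _ K P S Q₀ hKn hSn hQn hP hQK hidx hKP hgen hSsol hKPS hreal
  by_contra hnot
  -- a maximal normal subgroup between `Q₀` and `K` not containing `[K,P]`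
  obtain ⟨N, hQN, hNmax⟩ := Finite.exists_le_maximal
    (p := fun N : Subgroup X => N.Normal ∧ Q₀ ≤ N ∧ N ≤ K ∧ ¬ ⁅K, P⁆ ≤ N) (a := Q₀)
    ⟨hQn, le_refl _, hQK, hnot⟩
  obtain ⟨⟨hNn, hQ₀N, hNK, hNnot⟩, hNmax'⟩ := hNmax
  haveI := hNn
  have hπs : Function.Surjective (QuotientGroup.mk' N) := QuotientGroup.mk'_surjective N
  have hcomapK : (K.map (QuotientGroup.mk' N)).comap (QuotientGroup.mk' N) = K := by
    rw [Subgroup.comap_map_eq, QuotientGroup.ker_mk', sup_eq_left.2 hNK]
  have hcomm : ⁅K.map (QuotientGroup.mk' N), P.map (QuotientGroup.mk' N)⁆ =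
      (⁅K, P⁆).map (QuotientGroup.mk' N) := (Subgroup.map_commutator K P _).symm
  apply hNnot
  have key : ⁅K.map (QuotientGroup.mk' N), P.map (QuotientGroup.mk' N)⁆ = ⊥ := by
    apply h (X ⧸ N) (K.map (QuotientGroup.mk' N)) (P.map (QuotientGroup.mk' N))
      (S.map (QuotientGroup.mk' N))
    · exact Subgroup.Normal.map hKn _ hπs
    · exact Subgroup.Normal.map hSn _ hπs
    · exact hP.map _
    · -- the order of the image of `K`
      intro hdvd
      apply hidx
      have h1 := Cfsg.Agent.Lib.Lead.PSolvable.relIndex_map_dvd (QuotientGroup.mk' N) hNK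
      rw [QuotientGroup.map_mk'_self, Subgroup.relIndex_bot_left] at h1
      have h2 : N.relIndex K ∣ Q₀.relIndex K := Subgroup.relIndex_dvd_of_le_left K hQ₀N
      exact hdvd.trans (h1.trans h2)
    · rw [← Subgroup.map_sup, hKP, Subgroup.map_top_of_surjective _ hπs]
    · -- generation by `2`-elements
      have h1 : K.map (QuotientGroup.mk' N) ≤
          (Subgroup.closure {g : X | ∃ k : ℕ, orderOf g = 2 ^ k}).map (QuotientGroup.mk' N) :=
        Subgroup.map_mono hgen
      rw [MonoidHom.map_closure] at h1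
      refine h1.trans (Subgroup.closure_mono ?_)
      rintro _ ⟨g, ⟨k, hk⟩, rfl⟩
      exact exists_orderOf_map _ g k hk
    · -- solvability
      haveI := hSsol
      exact Group.isSolvable_of_surjective ((QuotientGroup.mk' N).subgroupMap_surjective S)
    · rw [hcomm]
      exact Subgroup.map_mono hKPS
    · -- real characters of the image are invariant
      intro θ' hθ' x' hx' k₁ k₂ hk
      obtain ⟨x, hx, rfl⟩ := hx'
      obtain ⟨⟨_, ⟨k, hkK, rfl⟩⟩, rfl⟩ : ∃ k0, k0 = k₁ := ⟨k₁, rfl⟩
      have hφs : Function.Surjective ((QuotientGroup.mk' N).subgroupMap K) :=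
        (QuotientGroup.mk' N).subgroupMap_surjective K
      have hirr := Cfsg.Agent.Lib.helper3.CExt.isIrrCharacter_comp_surjective
        ((QuotientGroup.mk' N).subgroupMap K) hφs θ'.2
      have hinv := hreal ⟨_, hirr⟩ (fun a => hθ' _) x hx ⟨k, hkK⟩
        ⟨x * k * x⁻¹, hKn.conj_mem k hkK x⟩ rfl
      have e2 : (QuotientGroup.mk' N).subgroupMap K ⟨x * k * x⁻¹, hKn.conj_mem k hkK x⟩ = k₂ := by
        apply Subtype.ext
        show QuotientGroup.mk' N (x * k * x⁻¹) = (k₂ : X ⧸ N)
        rw [hk, map_mul, map_mul, map_inv]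
      rw [← e2]
      exact hinv
    · -- minimality
      intro M' hM'n hM'K hM'ne
      have hMn : (M'.comap (QuotientGroup.mk' N)).Normal := Subgroup.Normal.comap hM'n _
      have hNM : N ≤ M'.comap (QuotientGroup.mk' N) := by
        intro n hn
        rw [Subgroup.mem_comap]
        have : QuotientGroup.mk' N n = 1 := (QuotientGroup.eq_one_iff n).2 hn
        rw [this]
        exact one_mem _
      have hMK : M'.comap (QuotientGroup.mk' N) ≤ K := by
        rw [← hcomapK]
        exact Subgroup.comap_mono hM'K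
      have hmapM : (M'.comap (QuotientGroup.mk' N)).map (QuotientGroup.mk' N) = M' :=
        Subgroup.map_comap_eq_self_of_surjective hπs M'
      by_cases hc : ⁅K, P⁆ ≤ M'.comap (QuotientGroup.mk' N)
      · rw [hcomm, ← hmapM]
        exact Subgroup.map_mono hc
      · exfalso
        have hle := hNmax' (y := M'.comap (QuotientGroup.mk' N))
          ⟨hMn, hQ₀N.trans hNM, hMK, hc⟩ hNM
        apply hM'ne
        rw [← hmapM, eq_bot_iff]
        calc (M'.comap (QuotientGroup.mk' N)).map (QuotientGroup.mk' N)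
            ≤ N.map (QuotientGroup.mk' N) := Subgroup.map_mono hle
          _ = ⊥ := QuotientGroup.map_mk'_self N
  rw [hcomm, Subgroup.map_eq_bot_iff, QuotientGroup.ker_mk'] at key
  exact key

end Cfsg.Agent.Lib.Helper5.RealL2
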