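import Mathlib
import Cfsg.Agent.H1.RealL0
import Cfsg.Agent.Lib.Helper4.RealOddB
import Cfsg.Agent.Lib.Helper8.IN1
import Cfsg.Agent.Lib.Helper8.GS6
import Cfsg.Agent.Lib.helper3.Degrees

/-!
# S4863, piece L3 (helper5): real characters of a normal subgroup of `p`-power index are invariant
-/

set_option autoImplicit false
set_option linter.style.haveILetI false
set_option linter.unusedSectionVars false
set_option linter.unusedVariables false

namespace Cfsg.Agent.Lib.Helper5.RealL3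

open Cfsg Cfsg.Agent.H1.RealL Cfsg.Agent.Lib.helper3.Irr

universe u

theorem realInv_of_index_pow {X : Type u} [Group X] [Finite X] (p : ℕ) [Fact p.Prime]
    (hp2 : p ≠ 2) (K : Subgroup X) [hKn : K.Normal] (a : ℕ) (hidx : K.index = p ^ a)
    (hreal : ∀ χ : IrrCharacter X, (∀ g, ((χ : X → ℂ) g).im = 0) →
      ¬ p ∣ charDegree (χ : X → ℂ))
    (P : Subgroup X) : RealInv K P := by
  classical
  intro θ hθ x hx k k' hkk'
  letI : Fintype X := Fintype.ofFinite X
  letI : Fintype ↥K := Fintype.ofFinite _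
  have hp : p.Prime := Fact.out
  have hodd : Odd K.index := by
    rw [hidx]
    exact Odd.pow (hp.odd_of_ne_two hp2)
  obtain ⟨χ, hχre, hov⟩ := Cfsg.Agent.Lib.Helper8.IN.exists_real_over K hodd θ hθ
  have h1 := Cfsg.Agent.Lib.Helper4.RealOddB.real_over_apply_one K hodd χ hχre θ hθ hov
  obtain ⟨c, hc, -, -⟩ := Cfsg.Agent.Lib.helper3.Central.irr_degree_dvd_card χ.2
  obtain ⟨d, hd, -, hdpos⟩ := Cfsg.Agent.Lib.helper3.Central.irr_degree_dvd_card θ.2
  have hpc : ¬ p ∣ c := by
    have := hreal χ hχre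
    rwa [Cfsg.Agent.Lib.Helper8.GSN.charDegree_eq_of_apply_one hc] at this
  set t := (Finset.univ.image (conjFun K (θ : ↥K → ℂ))).card with ht
  have h2 : c = t * d := by
    rw [hc, hd] at h1
    exact_mod_cast h1
  have hcf : IsClassFunction ↥K (θ : ↥K → ℂ) :=
    isClassFunction_of_isCharacter (isCharacter_of_isIrrCharacter θ.2)
  have h3 := Cfsg.Agent.Lib.Helper4.RealOddB.orbit_ncard_dvd_index K (θ : ↥K → ℂ) hcf
  have h4 : (Set.range (conjFun K (θ : ↥K → ℂ))).ncard = t := by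
    rw [Set.ncard_eq_toFinset_card', Set.toFinset_range]
  rw [h4, hidx] at h3
  obtain ⟨i, -, hi⟩ := (Nat.dvd_prime_pow hp).1 h3
  have hi0 : i = 0 := by
    by_contra hne
    apply hpc
    rw [h2, hi]
    exact Dvd.dvd.mul_right (dvd_pow_self p hne) d
  rw [hi0, pow_zero] at hi
  -- the orbit is a single point
  have h5 : conjFun K (θ : ↥K → ℂ) x = conjFun K (θ : ↥K → ℂ) 1 := by
    have hcard : (Finset.univ.image (conjFun K (θ : ↥K → ℂ))).card ≤ 1 := by rw [← ht, hi]
    exact Finset.card_le_one.1 hcard _ (Finset.mem_image_of_mem _ (Finset.mem_univ x)) _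
      (Finset.mem_image_of_mem _ (Finset.mem_univ 1))
  have h6 := congrFun h5 k
  unfold conjFun at h6
  have e1 : (⟨x * (k : X) * x⁻¹, hKn.conj_mem k k.2 x⟩ : ↥K) = k' := Subtype.ext hkk'.symm
  have e2 : (⟨1 * (k : X) * 1⁻¹, hKn.conj_mem k k.2 1⟩ : ↥K) = k := by
    apply Subtype.ext
    simp
  rw [e1, e2] at h6
  exact h6

end Cfsg.Agent.Lib.Helper5.RealL3
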