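import Mathlib
import Cfsg.Prelude.Def_Characters
import Cfsg.Prelude.Def_Blocks
import Cfsg.Agent.Lib.helper3.Irr14
import Cfsg.Agent.Lib.helper3.Irr9
import Cfsg.Agent.Lib.Helper4.RealOddIA
import Cfsg.Agent.Lib.Helper7.RealOddB

/-!
# S4581, Theorem I', item (B1): odd-order normal subgroups lie in the kernel of a real
character of odd degree (helper5)
-/

set_option autoImplicit false
set_option linter.style.haveILetI false
set_option linter.unusedSectionVars false
set_option linter.unusedVariables false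

namespace Cfsg.Agent.Lib.Helper5.RealOddB

open Cfsg Cfsg.Agent.Lib.helper3.Irr Cfsg.Agent.Lib.helper3.CharBasic
open Cfsg.Agent.Lib.helper3.IndFun
open scoped ComplexConjugate

universe u

/-- (B1) = L4. -/
theorem kernel_of_real_odd {X : Type u} [Group X] [Finite X] (K : Subgroup X) [K.Normal]
    (hK : Odd (Nat.card K)) (χ : IrrCharacter X) (hr : ∀ g : X, ((χ : X → ℂ) g).im = 0)
    (hodd : Odd (charDegree (χ : X → ℂ))) : ∀ k ∈ K, (χ : X → ℂ) k = (χ : X → ℂ) 1 := by
  classical
  haveI : Fintype X := Fintype.ofFinite X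
  haveI : Fintype K := Fintype.ofFinite K
  have hχc := isCharacter_of_isIrrCharacter χ.2
  have hres := isCharacter_restrict hχc K
  have hne : (fun k : K => (χ : X → ℂ) k) ≠ 0 := by
    intro h0
    have h1 := congrFun h0 1
    exact apply_one_ne_zero χ.2 h1
  obtain ⟨μ, hμ⟩ := exists_constituent hres hne
  have hμr := Cfsg.Agent.Lib.Helper4.RealOddIA.real_of_real_odd_over K χ hr hodd μ hμ
  have hμ1 := eq_one_of_real_of_odd hK μ hμr
  have hinv : ∀ g : X, conjFun K (μ : K → ℂ) g = (μ : K → ℂ) := by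
    intro g
    funext k
    unfold conjFun
    rw [hμ1]
  have h2 := (Cfsg.Agent.Lib.Helper7.RealOddB.over_invariant_linear_iff K μ
    (by rw [hμ1]) hinv χ).mp hμ
  intro k hk
  have h3 := h2 ⟨k, hk⟩
  rw [hμ1, mul_one] at h3
  exact h3

end Cfsg.Agent.Lib.Helper5.RealOddB
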