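import Mathlib
import Cfsg.Agent.Lib.helper3.Inflate2
import Cfsg.Agent.Lib.helper3.Degrees
import Cfsg.Agent.Lib.helper3.Lin
import Cfsg.Agent.Lib.Helper8.GS6
import Cfsg.Agent.H1.Frattini

/-!
# S4581, glue piece (helper5): real odd-degree characters of a `2`-group

For a finite `2`-group `X` the real-valued irreducible characters of odd degree are the linear
characters trivial on the Frattini subgroup; there are `|X : Φ(X)|` of them.
-/

set_option autoImplicit false
set_option linter.style.haveILetI false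
set_option linter.unusedSectionVars false
set_option linter.unusedVariables false

namespace Cfsg.Agent.Lib.Helper5.RealOddGlue

open Cfsg Cfsg.Agent.Lib.helper3.Irr
open scoped commutatorElement

universe u

variable {G : Type u} [Group G]

/-- The number of linear characters trivial on a normal subgroup `N ⊇ G'` is `|G : N|`. -/
theorem card_linear_trivial_on [Finite G] (N : Subgroup G) [N.Normal] (hN : commutator G ≤ N) :
    Nat.card {χ : IrrCharacter G // (χ : G → ℂ) 1 = 1 ∧ ∀ n ∈ N, (χ : G → ℂ) n = 1} = N.index := by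
  classical
  letI : Fintype G := Fintype.ofFinite G
  letI : Fintype (G ⧸ N) := Fintype.ofFinite _
  have hQcomm : ∀ a b : G ⧸ N, a * b = b * a := by
    intro a b
    obtain ⟨a, rfl⟩ := QuotientGroup.mk_surjective a
    obtain ⟨b, rfl⟩ := QuotientGroup.mk_surjective b
    rw [← QuotientGroup.mk_mul, ← QuotientGroup.mk_mul, QuotientGroup.eq]
    have : (a * b)⁻¹ * (b * a) = ⁅b⁻¹, a⁻¹⁆ := by
      rw [commutatorElement_def]; group
    rw [this]
    apply hN
    rw [commutator_eq_closure]
    exact Subgroup.subset_closure ⟨b⁻¹, a⁻¹, rfl⟩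
  have hequiv : Nat.card {χ : IrrCharacter G // (χ : G → ℂ) 1 = 1 ∧ ∀ n ∈ N, (χ : G → ℂ) n = 1}
      = Nat.card (IrrCharacter (G ⧸ N)) := by
    symm
    apply Nat.card_congr
    refine Equiv.ofBijective
      (fun ψ => ⟨⟨inflate N ψ, isIrrCharacter_inflate N ψ.2⟩, ?_, ?_⟩) ⟨?_, ?_⟩
    · show inflate N (ψ : G ⧸ N → ℂ) 1 = 1
      rw [inflate_apply, QuotientGroup.mk_one]
      exact apply_one_eq_one_of_comm hQcomm ψ.2
    · intro n hn
      show inflate N (ψ : G ⧸ N → ℂ) n = 1
      rw [inflate_apply, (QuotientGroup.eq_one_iff n).mpr hn]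
      exact apply_one_eq_one_of_comm hQcomm ψ.2
    · intro a b hab
      apply Subtype.ext
      apply inflate_injective N
      have := congrArg (fun z : {χ : IrrCharacter G //
          (χ : G → ℂ) 1 = 1 ∧ ∀ n ∈ N, (χ : G → ℂ) n = 1} =>
        ((z : IrrCharacter G) : G → ℂ)) hab
      exact this
    · intro χ
      have hχc := isCharacter_of_isIrrCharacter χ.1.2
      have hmul := Cfsg.Agent.Lib.helper3.Lin.map_mul_of_apply_one_eq_one hχc χ.2.1
      obtain ⟨ψ, hψ, hψ2⟩ := exists_eq_inflate χ.1.2 N (by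
        intro g n hn
        rw [hmul, χ.2.2 n hn, mul_one])
      refine ⟨⟨ψ, hψ⟩, ?_⟩
      apply Subtype.ext
      apply Subtype.ext
      exact hψ2.symm
  rw [hequiv, card_irr_eq_card_conjClasses, Subgroup.index_eq_card]
  apply Nat.card_congr
  refine Equiv.ofBijective (fun C => Quotient.out C) ⟨Quotient.out_injective, ?_⟩
  intro x
  refine ⟨ConjClasses.mk x, ?_⟩
  have h1 : ConjClasses.mk (Quotient.out (ConjClasses.mk x)) = ConjClasses.mk x :=
    Quotient.out_eq _
  obtain ⟨c, hc⟩ := isConj_iff.mp (ConjClasses.mk_eq_mk_iff_isConj.mp h1)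
  calc Quotient.out (ConjClasses.mk x)
      = c * Quotient.out (ConjClasses.mk x) * c⁻¹ := by
        rw [hQcomm c, mul_assoc, mul_inv_cancel, mul_one]
    _ = x := hc

theorem sq_eq_one_of_real_of_pow {z : ℂ} (hz : z.im = 0) (k : ℕ) (hk : z ^ (2 ^ k) = 1) :
    z * z = 1 := by
  have hzr : z = ((z.re : ℝ) : ℂ) := by
    apply Complex.ext
    · simp
    · simp [hz]
  have h1 : (z.re) ^ (2 ^ k) = 1 := by
    rw [hzr] at hk
    exact_mod_cast hk
  have h2 : |z.re| ^ (2 ^ k) = 1 := by rw [← abs_pow, h1, abs_one]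
  have h3 : |z.re| = 1 :=
    (pow_eq_one_iff_of_nonneg (abs_nonneg _) (pow_ne_zero k two_ne_zero)).mp h2
  have h4 : z.re * z.re = 1 := by rw [← abs_mul_abs_self, h3, one_mul]
  rw [hzr]
  exact_mod_cast h4

theorem eq_neg_one_of_sq {z : ℂ} (hz : z * z = 1) (h1 : z ≠ 1) : z = -1 := by
  have h : (z - 1) * (z + 1) = 0 := by ring_nf; rw [pow_two, hz]; ring
  rcases mul_eq_zero.mp h with h | h
  · exact absurd (sub_eq_zero.mp h) h1
  · exact eq_neg_of_add_eq_zero_left h

theorem im_eq_zero_of_sq {z : ℂ} (hz : z * z = 1) : z.im = 0 := by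
  by_cases h1 : z = 1
  · rw [h1]; simp
  · rw [eq_neg_one_of_sq hz h1]; simp

/-- real odd-degree characters of a `2`-group: linear and trivial on the Frattini subgroup -/
theorem real_odd_iff_of_two_group [Finite G] (hG : IsPGroup 2 G) (χ : IrrCharacter G) :
    ((∀ g : G, ((χ : G → ℂ) g).im = 0) ∧ Odd (charDegree (χ : G → ℂ))) ↔
      ((χ : G → ℂ) 1 = 1 ∧ ∀ n ∈ frattini G, (χ : G → ℂ) n = 1) := by
  classical
  letI : Fintype G := Fintype.ofFinite G
  haveI : Fact (Nat.Prime 2) := ⟨Nat.prime_two⟩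
  have hχc := isCharacter_of_isIrrCharacter χ.2
  constructor
  · rintro ⟨hre, hodd⟩
    obtain ⟨c, hc, hcd, hcpos⟩ := Cfsg.Agent.Lib.helper3.Central.irr_degree_dvd_card χ.2
    rw [Cfsg.Agent.Lib.Helper8.GSN.charDegree_eq_of_apply_one hc] at hodd
    obtain ⟨n, hn⟩ := hG.exists_card_eq
    rw [hn] at hcd
    obtain ⟨i, -, hi⟩ := (Nat.dvd_prime_pow Nat.prime_two).mp hcd
    have hi0 : i = 0 := by
      by_contra hne
      rw [hi] at hodd
      exact (Nat.not_even_iff_odd.mpr hodd) ((Nat.even_pow.mpr ⟨even_two, hne⟩))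
    rw [hi0, pow_zero] at hi
    have h1 : (χ : G → ℂ) 1 = 1 := by rw [hc, hi]; simp
    refine ⟨h1, ?_⟩
    have hmul := Cfsg.Agent.Lib.helper3.Lin.map_mul_of_apply_one_eq_one hχc h1
    have hpow : ∀ (g : G) (m : ℕ), (χ : G → ℂ) (g ^ m) = ((χ : G → ℂ) g) ^ m := by
      intro g m
      induction m with
      | zero => rw [pow_zero, pow_zero, h1]
      | succ m ih => rw [pow_succ, hmul, ih, pow_succ]
    have hsq : ∀ g : G, (χ : G → ℂ) g * (χ : G → ℂ) g = 1 := by
      intro g
      obtain ⟨k, hk⟩ := hG g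
      apply sq_eq_one_of_real_of_pow (hre g) k
      rw [← hpow, hk, h1]
    let φ : G →* ℂ := { toFun := (χ : G → ℂ), map_one' := h1, map_mul' := hmul }
    have hK : ∀ g : G, g ∈ φ.ker ↔ (χ : G → ℂ) g = 1 := fun g => MonoidHom.mem_ker
    suffices hle : frattini G ≤ φ.ker by
      intro n hn
      exact (hK n).mp (hle hn)
    by_cases htop : φ.ker = ⊤
    · rw [htop]; exact le_top
    · apply frattini_le_coatom
      refine ⟨htop, ?_⟩
      intro L hL
      obtain ⟨l, hlL, hlK⟩ := SetLike.exists_of_lt hL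
      have hl : (χ : G → ℂ) l = -1 := eq_neg_one_of_sq (hsq l) (fun h => hlK ((hK l).mpr h))
      rw [eq_top_iff]
      intro g _
      by_cases hg : (χ : G → ℂ) g = 1
      · exact hL.le ((hK g).mpr hg)
      · have hg' : (χ : G → ℂ) g = -1 := eq_neg_one_of_sq (hsq g) hg
        have h2 : g * l ∈ φ.ker := by
          rw [hK, hmul, hg', hl]; ring
        have h3 : g = (g * l) * l⁻¹ := by group
        rw [h3]
        exact L.mul_mem (hL.le h2) (L.inv_mem hlL)
  · rintro ⟨h1, hΦ⟩
    have hmul := Cfsg.Agent.Lib.helper3.Lin.map_mul_of_apply_one_eq_one hχc h1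
    refine ⟨?_, ?_⟩
    · intro g
      apply im_eq_zero_of_sq
      rw [← hmul, ← pow_two]
      exact hΦ _ (Cfsg.Agent.H1.pow_p_mem_frattini hG g)
    · have : (χ : G → ℂ) 1 = ((1 : ℕ) : ℂ) := by rw [h1]; simp
      rw [Cfsg.Agent.Lib.Helper8.GSN.charDegree_eq_of_apply_one this]
      exact odd_one

/-- **Frattini fact**: a finite `2`-group `X` has exactly `|X : Φ(X)|` real-valued irreducible
characters of odd degree. -/
theorem card_real_odd_two_group [Finite G] (hG : IsPGroup 2 G) :
    Nat.card {χ : IrrCharacter G // (∀ g : G, ((χ : G → ℂ) g).im = 0) ∧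
      Odd (charDegree (χ : G → ℂ))} = (frattini G).index := by
  haveI : Fact (Nat.Prime 2) := ⟨Nat.prime_two⟩
  rw [← card_linear_trivial_on (frattini G) (Cfsg.Agent.H1.commutator_le_frattini hG)]
  exact Nat.card_congr (Equiv.subtypeEquivRight (real_odd_iff_of_two_group hG))

/-- all irreducible characters of odd degree of a `2`-group are linear: their number is
`|X : X'|` -/
theorem card_odd_two_group [Finite G] (hG : IsPGroup 2 G) :
    Nat.card {χ : IrrCharacter G // Odd (charDegree (χ : G → ℂ))} = (commutator G).index := by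
  classical
  letI : Fintype G := Fintype.ofFinite G
  rw [← card_linear_eq_index_commutator]
  apply Nat.card_congr
  apply Equiv.subtypeEquivRight
  intro χ
  obtain ⟨c, hc, hcd, hcpos⟩ := Cfsg.Agent.Lib.helper3.Central.irr_degree_dvd_card χ.2
  rw [Cfsg.Agent.Lib.Helper8.GSN.charDegree_eq_of_apply_one hc]
  constructor
  · intro hodd
    obtain ⟨n, hn⟩ := hG.exists_card_eq
    rw [hn] at hcd
    obtain ⟨i, -, hi⟩ := (Nat.dvd_prime_pow Nat.prime_two).mp hcd
    have hi0 : i = 0 := by
      by_contra hne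
      rw [hi] at hodd
      exact (Nat.not_even_iff_odd.mpr hodd) ((Nat.even_pow.mpr ⟨even_two, hne⟩))
    rw [hi0, pow_zero] at hi
    rw [hc, hi]; simp
  · intro h1
    rw [hc] at h1
    have : c = 1 := by exact_mod_cast h1
    rw [this]
    exact odd_one

end Cfsg.Agent.Lib.Helper5.RealOddGlue
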