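import Mathlib
import Cfsg.Agent.Lib.Helper5.RealOddGlue1

/-!
# S4581, glue piece P4 (helper5)

From Theorem I (equality of the numbers of real odd-degree characters of `G` and `N_G(P)`),
Claim A (all odd-degree characters real ⇒ `N_G(P) = P`) and Corollary C (`N_G(P) = P` ⇒ the number of
odd-degree characters is `|P : P'|`) to the statement of S4581.
-/

set_option autoImplicit false
set_option linter.style.haveILetI false
set_option linter.unusedSectionVars false
set_option linter.unusedVariables false

namespace Cfsg.Agent.Lib.Helper5.RealOddGlue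

open Cfsg Cfsg.Agent.Lib.helper3.Irr

universe u

/-- counting: `#{A ∧ B} = #{B}` iff `B → A` -/
theorem card_and_eq_iff {α : Type*} [Finite α] (A B : α → Prop) :
    Nat.card {x : α // A x ∧ B x} = Nat.card {x : α // B x} ↔ ∀ x, B x → A x := by
  classical
  letI : Fintype α := Fintype.ofFinite α
  constructor
  · intro h x hx
    rw [Nat.card_eq_fintype_card, Nat.card_eq_fintype_card, Fintype.card_subtype,
      Fintype.card_subtype] at h
    have hsub : Finset.univ.filter (fun x => A x ∧ B x) ⊆ Finset.univ.filter B := by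
      intro y hy
      rw [Finset.mem_filter] at hy ⊢
      exact ⟨hy.1, hy.2.2⟩
    have heq := Finset.eq_of_subset_of_card_le hsub h.ge
    have hx' : x ∈ Finset.univ.filter B := by
      rw [Finset.mem_filter]; exact ⟨Finset.mem_univ _, hx⟩
    rw [← heq, Finset.mem_filter] at hx'
    exact hx'.2.1
  · intro h
    apply Nat.card_congr
    apply Equiv.subtypeEquivRight
    intro x
    exact ⟨fun hx => hx.2, fun hx => ⟨h x hx, hx⟩⟩

/-- two subgroups `A ≤ B` of the same index are equal -/
theorem eq_of_le_of_index_eq {X : Type*} [Group X] [Finite X] {A B : Subgroup X} (h : A ≤ B)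
    (hi : A.index = B.index) : A = B := by
  apply le_antisymm h
  have h1 := Subgroup.relIndex_mul_index h
  rw [hi] at h1
  have h2 : A.relIndex B = 1 := by
    have hpos : 0 < B.index := Nat.pos_of_ne_zero Subgroup.index_ne_zero_of_finite
    have : A.relIndex B * B.index = 1 * B.index := by rw [h1, one_mul]
    exact Nat.eq_of_mul_eq_mul_right hpos this
  exact Subgroup.relIndex_eq_one.mp h2

/-- **S4581, glue.** -/
theorem glue {G : Type u} [Group G] [Finite G] (P : Sylow 2 G)
    (hP1 : Nat.card {χ : IrrCharacter G // (∀ g : G, ((χ : G → ℂ) g).im = 0) ∧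
        Odd (charDegree (χ : G → ℂ))} =
      Nat.card {ψ : IrrCharacter (Subgroup.normalizer ((P : Subgroup G) : Set G)) //
        (∀ g, ((ψ : Subgroup.normalizer ((P : Subgroup G) : Set G) → ℂ) g).im = 0) ∧
        Odd (charDegree (ψ : Subgroup.normalizer ((P : Subgroup G) : Set G) → ℂ))})
    (hP2 : (∀ χ : IrrCharacter G, Odd (charDegree (χ : G → ℂ)) →
        ∀ g : G, ((χ : G → ℂ) g).im = 0) →
      Subgroup.normalizer ((P : Subgroup G) : Set G) = (P : Subgroup G))
    (hP3 : Subgroup.normalizer ((P : Subgroup G) : Set G) = (P : Subgroup G) →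
      Nat.card {χ : IrrCharacter G // Odd (charDegree (χ : G → ℂ))} =
        (commutator (P : Subgroup G)).index) :
    Nat.card {χ : IrrCharacter G // (∀ g : G, ((χ : G → ℂ) g).im = 0) ∧
        Odd (charDegree (χ : G → ℂ))} =
      Nat.card {ψ : IrrCharacter (Subgroup.normalizer ((P : Subgroup G) : Set G)) //
        (∀ g, ((ψ : Subgroup.normalizer ((P : Subgroup G) : Set G) → ℂ) g).im = 0) ∧
        Odd (charDegree (ψ : Subgroup.normalizer ((P : Subgroup G) : Set G) → ℂ))} ∧
    ((∀ χ : IrrCharacter G, Odd (charDegree (χ : G → ℂ)) → ∀ g : G, ((χ : G → ℂ) g).im = 0) ↔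
      (commutator (P : Subgroup G) = frattini (P : Subgroup G) ∧
        Subgroup.normalizer ((P : Subgroup G) : Set G) = (P : Subgroup G))) := by
  classical
  haveI : Fact (Nat.Prime 2) := ⟨Nat.prime_two⟩
  refine ⟨hP1, ?_⟩
  have hPp : IsPGroup 2 (P : Subgroup G) := P.isPGroup'
  -- transport along `N_G(P) = P`
  have key : ∀ H : Subgroup G, H = (P : Subgroup G) →
      Nat.card {ψ : IrrCharacter H // (∀ g, ((ψ : H → ℂ) g).im = 0) ∧
        Odd (charDegree (ψ : H → ℂ))} = (frattini (P : Subgroup G)).index := by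
    intro H hH
    subst hH
    exact card_real_odd_two_group hPp
  have hle : commutator (P : Subgroup G) ≤ frattini (P : Subgroup G) :=
    Cfsg.Agent.H1.commutator_le_frattini hPp
  have hcount := card_and_eq_iff (α := IrrCharacter G)
    (fun χ => ∀ g : G, ((χ : G → ℂ) g).im = 0) (fun χ => Odd (charDegree (χ : G → ℂ)))
  constructor
  · intro hall
    have hN := hP2 hall
    refine ⟨?_, hN⟩
    have h1 := hcount.mpr hall
    rw [hP1, key _ hN, hP3 hN] at h1
    exact eq_of_le_of_index_eq hle h1.symm
  · rintro ⟨hΦ, hN⟩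
    apply hcount.mp
    rw [hP1, key _ hN, hP3 hN, hΦ]

end Cfsg.Agent.Lib.Helper5.RealOddGlue
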