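import Mathlib

/-!
# S3304: working definition for the recognition of `GL(2,3)` (helper5)
-/

set_option autoImplicit false

namespace Cfsg.Agent.Lib.Helper5.S3304

/-- The rigid generator configuration of `GL(2,3) = Q₈ ⋊ S₃`: `i, j` generate a quaternion group,
`c` of order 3 permutes `i → j → ij → i`, the involution `u` inverts `c` and maps
`i ↦ j⁻¹`, `j ↦ i⁻¹`. -/
structure Rigid {Y : Type*} [Group Y] (i j c u : Y) : Prop where
  i4 : i * i * (i * i) = 1
  i2 : i * i ≠ 1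
  j2 : j * j = i * i
  ji : j * i * j⁻¹ = i⁻¹
  c3 : c * c * c = 1
  c1 : c ≠ 1
  u2 : u * u = 1
  ci : c * i * c⁻¹ = j
  cj : c * j * c⁻¹ = i * j
  ui : u * i * u⁻¹ = j⁻¹
  uj : u * j * u⁻¹ = i⁻¹
  uc : u * c * u⁻¹ = c⁻¹

end Cfsg.Agent.Lib.Helper5.S3304
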