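import Mathlib
import Cfsg.Prelude.Def_CaseTheorems
import Cfsg.Agent.S3303
import Cfsg.Agent.H2.UniqueOrderP
import Cfsg.Agent.H2.MetaTwoAut

/-!
# S3304, piece (P-M12): `O₂(X)` is a quaternion group of order 8 (helper5)
-/

set_option autoImplicit false
open Cfsg

namespace Cfsg.Agent.Lib.Helper5.S3304

/-- a cyclic group is metacyclic -/
theorem isMetacyclic_of_isCyclic_m12 {E : Type*} [Group E] (h : IsCyclic E) :
    Cfsg.IsMetacyclic E := by
  refine ⟨⊤, inferInstance, ?_, ?_⟩
  · exact isCyclic_of_surjective (Subgroup.topEquiv (G := E)).symm.toMonoidHom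
      (Subgroup.topEquiv (G := E)).symm.surjective
  · haveI : Subsingleton (E ⧸ (⊤ : Subgroup E)) := QuotientGroup.subsingleton_quotient_top
    infer_instance

/-- metacyclicity is invariant under isomorphism -/
theorem isMetacyclic_of_mulEquiv_m12 {E F : Type*} [Group E] [Group F] (e : E ≃* F)
    (h : Cfsg.IsMetacyclic F) : Cfsg.IsMetacyclic E := by
  obtain ⟨N, hN, hNc, hQc⟩ := h
  refine ⟨N.comap e.toMonoidHom, inferInstance, ?_, ?_⟩
  · -- `N.comap e ≃* N`
    let f : ↥(N.comap e.toMonoidHom) →* ↥N :=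
      (e.toMonoidHom.comp (Subgroup.subtype _)).codRestrict N (fun x => x.2)
    have hf : Function.Injective f := by
      intro x y hxy
      have h1 : e (x : E) = e (y : E) := congrArg Subtype.val hxy
      exact Subtype.ext (e.injective h1)
    exact isCyclic_of_injective f hf
  · -- `E ⧸ N.comap e` is a quotient of... use the surjection `E → F ⧸ N`
    let g : E →* F ⧸ N := (QuotientGroup.mk' N).comp e.toMonoidHom
    have hg : Function.Surjective g := (QuotientGroup.mk'_surjective N).comp e.surjective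
    have hker : N.comap e.toMonoidHom ≤ g.ker := by
      intro x hx
      rw [MonoidHom.mem_ker]
      exact (QuotientGroup.eq_one_iff _).2 hx
    let g' : E ⧸ N.comap e.toMonoidHom →* F ⧸ N := QuotientGroup.lift _ g hker
    have hg'inj : Function.Injective g' := by
      rw [← MonoidHom.ker_eq_bot_iff, eq_bot_iff]
      intro x hx
      obtain ⟨y, rfl⟩ := QuotientGroup.mk_surjective x
      rw [MonoidHom.mem_ker] at hx
      have h1 : g y = 1 := hx
      have h2 : e y ∈ N := (QuotientGroup.eq_one_iff _).1 h1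
      rw [Subgroup.mem_bot]
      exact (QuotientGroup.eq_one_iff _).2 h2
    exact isCyclic_of_injective g' hg'inj

/-- generalized quaternion groups are metacyclic -/
theorem isMetacyclic_quaternion_m12 (m : ℕ) [NeZero m] : Cfsg.IsMetacyclic (QuaternionGroup m) := by
  have hidx : (Subgroup.zpowers (QuaternionGroup.a 1 : QuaternionGroup m)).index = 2 := by
    have h1 := Subgroup.card_mul_index (Subgroup.zpowers (QuaternionGroup.a 1 : QuaternionGroup m))
    rw [Nat.card_zpowers, QuaternionGroup.orderOf_a_one, Nat.card_eq_fintype_card,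
      QuaternionGroup.card] at h1
    have hm : 0 < m := NeZero.pos m
    have : 2 * m * (Subgroup.zpowers (QuaternionGroup.a 1 : QuaternionGroup m)).index
        = 2 * m * 2 := by rw [h1]; ring
    exact Nat.eq_of_mul_eq_mul_left (by omega) this
  have hn : (Subgroup.zpowers (QuaternionGroup.a 1 : QuaternionGroup m)).Normal :=
    Subgroup.normal_of_index_eq_two hidx
  refine ⟨_, hn, inferInstance, ?_⟩
  have hcard : Nat.card (QuaternionGroup m ⧸ Subgroup.zpowers (QuaternionGroup.a 1 : QuaternionGroup m))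
      = 2 := by
    rw [← Subgroup.index_eq_card]; exact hidx
  haveI : Fact (Nat.Prime 2) := ⟨Nat.prime_two⟩
  exact isCyclic_of_prime_card hcard

variable {X : Type*} [Group X] [Finite X]

/-- if `Aut Q` is a 2-group for a normal 2-subgroup `Q ≥ C_X(Q)`, then `X` is a 2-group -/
theorem isPGroup_of_mulAut_m12 (Q : Subgroup X) [Q.Normal] (hQp : IsPGroup 2 ↥Q)
    (hCQ : Subgroup.centralizer (Q : Set X) ≤ Q) (hA : IsPGroup 2 (MulAut ↥Q)) :
    IsPGroup 2 X := by
  haveI : Fact (Nat.Prime 2) := ⟨Nat.prime_two⟩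
  obtain ⟨k, hk⟩ := hQp.exists_card_eq
  obtain ⟨j, hj⟩ := hA.exists_card_eq
  have hidx : (Subgroup.centralizer (Q : Set X)).index ∣ 2 ^ j := by
    rw [← Cfsg.Agent.S3303.ker_conjNormal, Subgroup.index_ker, ← hj]
    exact Subgroup.card_subgroup_dvd_card _
  have hcardC : Nat.card (Subgroup.centralizer (Q : Set X)) ∣ 2 ^ k := by
    rw [← hk]; exact Subgroup.card_dvd_of_le hCQ
  have hX : Nat.card X ∣ 2 ^ (k + j) := by
    rw [← Subgroup.card_mul_index (Subgroup.centralizer (Q : Set X)), pow_add]
    exact Nat.mul_dvd_mul hcardC hidx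
  obtain ⟨i, _, hi⟩ := (Nat.dvd_prime_pow Nat.prime_two).1 hX
  exact IsPGroup.of_card hi

/-- the closure of `{a, z}` with `z` central is commutative, elementwise -/
theorem comm_closure_pair_m12 {E : Type*} [Group E] (a z : E) (hz : ∀ x : E, z * x = x * z) :
    ∀ x ∈ Subgroup.closure ({a, z} : Set E), ∀ y ∈ Subgroup.closure ({a, z} : Set E),
      x * y = y * x := by
  have h1 : ∀ x ∈ Subgroup.closure ({a, z} : Set E), x * a = a * x := by
    intro x hx
    induction hx using Subgroup.closure_induction with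
    | mem y hy =>
      rcases hy with rfl | hy
      · rfl
      · rw [Set.mem_singleton_iff] at hy
        rw [hy]; exact hz a
    | one => rw [one_mul, mul_one]
    | mul x y _ _ hx hy => rw [mul_assoc, hy, ← mul_assoc, hx, mul_assoc]
    | inv x _ hx =>
      calc x⁻¹ * a = x⁻¹ * (a * x) * x⁻¹ := by group
        _ = x⁻¹ * (x * a) * x⁻¹ := by rw [hx]
        _ = a * x⁻¹ := by group
  intro x hx y hy
  induction hy using Subgroup.closure_induction with
  | mem w hw =>
    rcases hw with rfl | hw
    · exact h1 x hx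
    · rw [Set.mem_singleton_iff] at hw
      rw [hw]; exact (hz x).symm
  | one => rw [one_mul, mul_one]
  | mul y₁ y₂ _ _ h₁ h₂ => rw [← mul_assoc, h₁, mul_assoc, h₂, ← mul_assoc]
  | inv y _ hy' =>
    calc x * y⁻¹ = y⁻¹ * (y * x) * y⁻¹ := by group
      _ = y⁻¹ * (x * y) * y⁻¹ := by rw [hy']
      _ = y⁻¹ * x := by group

/-- a nontrivial 2-group of 2-rank one has a unique subgroup of order two -/
theorem unique_order_two_m12 {E : Type*} [Group E] [Finite E] [Nontrivial E] (hE : IsPGroup 2 E)
    (hr : Cfsg.PRankLE 2 1 E) :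
    ∀ H K : Subgroup E, Nat.card H = 2 → Nat.card K = 2 → H = K := by
  haveI : Fact (Nat.Prime 2) := ⟨Nat.prime_two⟩
  -- a central involution
  haveI : Nontrivial (Subgroup.center E) := hE.center_nontrivial
  have h2dvd : 2 ∣ Nat.card (Subgroup.center E) := by
    obtain ⟨k, hk⟩ := (hE.to_subgroup (Subgroup.center E)).exists_card_eq
    rw [hk]
    have hk0 : k ≠ 0 := by
      rintro rfl
      rw [pow_zero] at hk
      have : Subsingleton (Subgroup.center E) := (Nat.card_eq_one_iff_unique.mp hk).1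
      exact not_subsingleton _ this
    exact dvd_pow_self 2 hk0
  obtain ⟨z', hz'⟩ := exists_prime_orderOf_dvd_card' 2 h2dvd
  obtain ⟨z, hz⟩ : ∃ z : E, z = (z' : E) := ⟨_, rfl⟩
  have hzo : orderOf z = 2 := by rw [hz, Subgroup.orderOf_coe]; exact hz'
  have hzc : ∀ x : E, z * x = x * z := by
    intro x
    rw [hz]
    exact (Subgroup.mem_center_iff.mp z'.2 x).symm
  have hz1 : z ≠ 1 := by
    intro h; rw [h, orderOf_one] at hzo; omega
  have hzz : z ^ 2 = 1 := by rw [← hzo]; exact pow_orderOf_eq_one z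
  have hZcard : Nat.card (Subgroup.zpowers z) = 2 := by rw [Nat.card_zpowers, hzo]
  have key : ∀ H : Subgroup E, Nat.card H = 2 → H = Subgroup.zpowers z := by
    intro H hH
    by_contra hne
    -- a non-identity element of `H`
    obtain ⟨⟨a, haH⟩, ha1, -⟩ := (Nat.card_eq_two_iff' (1 : H)).mp hH
    have ha1' : a ≠ 1 := fun h => ha1 (Subtype.ext h)
    have hao : a ^ 2 = 1 := by
      have h1 : (⟨a, haH⟩ : H) ^ 2 = 1 := by
        rw [← hH]; exact pow_card_eq_one'
      exact congrArg Subtype.val h1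
    have haz : a ≠ z := by
      intro h
      apply hne
      symm
      apply Subgroup.eq_of_le_of_card_ge
      · rw [Subgroup.zpowers_le, ← h]; exact haH
      · rw [hH, hZcard]
    set A := Subgroup.closure ({a, z} : Set E) with hA
    have hcomm := comm_closure_pair_m12 a z hzc
    have hAc : IsMulCommutative A := ⟨⟨fun x y => Subtype.ext (hcomm x.1 x.2 y.1 y.2)⟩⟩
    have hAe : ∀ x ∈ A, x ^ 2 = 1 := by
      intro x hx
      induction hx using Subgroup.closure_induction with
      | mem y hy =>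
        rcases hy with rfl | hy
        · exact hao
        · rw [Set.mem_singleton_iff] at hy
          rw [hy]; exact hzz
      | one => exact one_pow 2
      | mul x y hx hy hx2 hy2 =>
        have hc : Commute x y := hcomm x hx y hy
        rw [hc.mul_pow, hx2, hy2, one_mul]
      | inv x _ hx2 => rw [inv_pow, hx2, inv_one]
    have hcardA : Nat.card A ≤ 2 := by
      have := hr A hAc hAe
      simpa using this
    have hzA : z ∈ A := Subgroup.subset_closure (by simp)
    have haA : a ∈ A := Subgroup.subset_closure (by simp)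
    have hAZ : Subgroup.zpowers z = A := by
      apply Subgroup.eq_of_le_of_card_ge
      · rw [Subgroup.zpowers_le]; exact hzA
      · rw [hZcard]; exact hcardA
    have haZ : a ∈ Subgroup.zpowers z := by rw [hAZ]; exact haA
    obtain ⟨w, hw1, hw⟩ := (Nat.card_eq_two_iff' (1 : Subgroup.zpowers z)).mp hZcard
    have h1 := hw ⟨a, haZ⟩ (fun h => ha1' (congrArg Subtype.val h))
    have h2 := hw ⟨z, Subgroup.mem_zpowers z⟩ (fun h => hz1 (congrArg Subtype.val h))
    exact haz (congrArg Subtype.val (h1.trans h2.symm))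
  intro H K hH hK
  rw [key H hH, key K hK]

/-- a homocyclic group `C_{2^n} × C_{2^n}` does not have a unique subgroup of order two, unless
it is trivial -/
theorem homocyclic_false_m12 {E : Type*} [Group E] [Nontrivial E] (n : ℕ)
    (f : E ≃* Multiplicative (ZMod (2 ^ n)) × Multiplicative (ZMod (2 ^ n)))
    (huniq : ∀ H K : Subgroup E, Nat.card H = 2 → Nat.card K = 2 → H = K) : False := by
  rcases Nat.eq_zero_or_pos n with h0 | hpos
  · subst h0
    haveI : Subsingleton (Multiplicative (ZMod (2 ^ 0)) × Multiplicative (ZMod (2 ^ 0))) := by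
      rw [pow_zero]
      infer_instance
    haveI : Subsingleton E := f.toEquiv.subsingleton
    exact not_subsingleton E ‹_›
  · obtain ⟨m, rfl⟩ : ∃ m, n = m + 1 := ⟨n - 1, by omega⟩
    haveI : NeZero (2 ^ (m + 1)) := ⟨by positivity⟩
    set t : Multiplicative (ZMod (2 ^ (m + 1))) :=
      Multiplicative.ofAdd (((2 ^ m : ℕ) : ZMod (2 ^ (m + 1)))) with ht
    have ht1 : t ≠ 1 := by
      intro h
      have h1 : ((2 ^ m : ℕ) : ZMod (2 ^ (m + 1))) = 0 := by
        have := congrArg Multiplicative.toAdd h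
        simpa [ht] using this
      rw [ZMod.natCast_eq_zero_iff] at h1
      have h2 := Nat.le_of_dvd (by positivity) h1
      have h3 : 2 ^ m < 2 ^ (m + 1) := Nat.pow_lt_pow_right (by norm_num) (by omega)
      omega
    have htt : t * t = 1 := by
      have h1 : ((2 ^ m : ℕ) : ZMod (2 ^ (m + 1))) + ((2 ^ m : ℕ) : ZMod (2 ^ (m + 1))) = 0 := by
        rw [← Nat.cast_add, ZMod.natCast_eq_zero_iff, pow_succ]
        exact ⟨1, by ring⟩
      rw [ht, ← ofAdd_add, h1, ofAdd_zero]
    set x₁ : E := f.symm (t, 1) with hx₁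
    set x₂ : E := f.symm (1, t) with hx₂
    have ho : ∀ x : E, x ≠ 1 → x * x = 1 → Nat.card (Subgroup.zpowers x) = 2 := by
      intro x hx1 hxx
      rw [Nat.card_zpowers]
      exact orderOf_eq_prime (by rw [pow_two, hxx]) hx1
    have hx₁1 : x₁ ≠ 1 := by
      intro h
      have h1 : f x₁ = 1 := by rw [h, map_one]
      rw [hx₁, MulEquiv.apply_symm_apply] at h1
      exact ht1 (congrArg Prod.fst h1)
    have hx₂1 : x₂ ≠ 1 := by
      intro h
      have h1 : f x₂ = 1 := by rw [h, map_one]
      rw [hx₂, MulEquiv.apply_symm_apply] at h1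
      exact ht1 (congrArg Prod.snd h1)
    have hx₁2 : x₁ * x₁ = 1 := by
      rw [hx₁, ← map_mul, Prod.mk_mul_mk, htt, one_mul]
      exact map_one f.symm
    have hx₂2 : x₂ * x₂ = 1 := by
      rw [hx₂, ← map_mul, Prod.mk_mul_mk, htt, one_mul]
      exact map_one f.symm
    have heq := huniq _ _ (ho x₁ hx₁1 hx₁2) (ho x₂ hx₂1 hx₂2)
    have hmem : x₂ ∈ Subgroup.zpowers x₁ := by rw [heq]; exact Subgroup.mem_zpowers x₂
    obtain ⟨w, hw1, hw⟩ := (Nat.card_eq_two_iff' (1 : Subgroup.zpowers x₁)).mp (ho x₁ hx₁1 hx₁2)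
    have h1 := hw ⟨x₂, hmem⟩ (fun h => hx₂1 (congrArg Subtype.val h))
    have h2 := hw ⟨x₁, Subgroup.mem_zpowers x₁⟩ (fun h => hx₁1 (congrArg Subtype.val h))
    have h3 : x₂ = x₁ := congrArg Subtype.val (h1.trans h2.symm)
    have h4 : f x₂ = f x₁ := by rw [h3]
    rw [hx₁, hx₂, MulEquiv.apply_symm_apply, MulEquiv.apply_symm_apply] at h4
    exact ht1 (congrArg Prod.fst h4).symm

/-- M1 + M2: a normal self-centralizing 2-subgroup of 2-rank one in a group that is not a
2-group is quaternion of order 8. -/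
theorem quaternion8_of_rank_one (Q : Subgroup X) [Q.Normal] (hQp : IsPGroup 2 ↥Q)
    (hCQ : Subgroup.centralizer (Q : Set X) ≤ Q) (hr : Cfsg.PRankLE 2 1 ↥Q)
    (hnot : ¬ IsPGroup 2 X) : Nonempty (↥Q ≃* QuaternionGroup 2) := by
  haveI : Fact (Nat.Prime 2) := ⟨Nat.prime_two⟩
  have hnt : Nontrivial ↥Q := by
    by_contra hsub
    rw [not_nontrivial_iff_subsingleton] at hsub
    apply hnot
    have hQbot : Q = ⊥ := Subgroup.eq_bot_of_subsingleton Q
    have hall : ∀ x : X, x = 1 := by
      intro x
      have hx : x ∈ Subgroup.centralizer (Q : Set X) := by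
        rw [Subgroup.mem_centralizer_iff]
        intro q hq
        have : q = 1 := by
          have : q ∈ (⊥ : Subgroup X) := hQbot ▸ hq
          exact Subgroup.mem_bot.mp this
        rw [this, one_mul, mul_one]
      have h1 := hCQ hx
      rw [hQbot] at h1
      exact Subgroup.mem_bot.mp h1
    intro g
    exact ⟨0, by rw [hall g, pow_zero, pow_one]⟩
  have huniq := unique_order_two_m12 hQp hr
  have hmeta : Cfsg.IsMetacyclic ↥Q := by
    rcases Cfsg.Agent.H2.UOP.main 2 hQp huniq with hc | ⟨-, n, ⟨f⟩⟩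
    · exact isMetacyclic_of_isCyclic_m12 hc
    · haveI : NeZero (2 ^ n) := ⟨by positivity⟩
      exact isMetacyclic_of_mulEquiv_m12 f (isMetacyclic_quaternion_m12 (2 ^ n))
  by_cases hA : IsPGroup 2 (MulAut ↥Q)
  · exact absurd (isPGroup_of_mulAut_m12 Q hQp hCQ hA) hnot
  · rcases Cfsg.Agent.H2.MetaTwoAut.main hQp hmeta hA with h | ⟨n, ⟨f⟩⟩
    · exact h
    · exact (homocyclic_false_m12 n f huniq).elim

end Cfsg.Agent.Lib.Helper5.S3304
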