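import Mathlib
import Cfsg.Agent.S3303
import Cfsg.Agent.S3305
import Cfsg.Agent.Lib.Helper8.S3304Q
import Cfsg.Agent.Lib.Helper5.S3304M12
import Cfsg.Agent.H9.S3304M3
import Cfsg.Agent.Lib.helper3.S3304M5
import Cfsg.Agent.Lib.Helper6.S3304M
import Cfsg.Agent.H1.RecGL23

/-!
# S3304: assembly (helper5).  Proof: `notes/S3304_lead.md`; pieces by helper8 (P-Q), helper5
(P-M12), helper9 (P-M3, R2), helper3 (P-M5), helper6 (P-M6A), helper1 + helpers (P-R).
-/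

set_option autoImplicit false
open Cfsg

namespace Cfsg.Agent.Lib.Helper5.S3304

variable {X : Type*} [Group X] [Finite X]

theorem pRankLE_of_le {p k : ℕ} {H K : Subgroup X} (hHK : H ≤ K) (h : Cfsg.PRankLE p k ↥K) :
    Cfsg.PRankLE p k ↥H := by
  intro A hAc hAp
  have hinj : Function.Injective (Subgroup.inclusion hHK) := Subgroup.inclusion_injective hHK
  have h1 := h (A.map (Subgroup.inclusion hHK)) (Subgroup.map_isMulCommutative _ _) (by
    rintro _ ⟨a, ha, rfl⟩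
    rw [← map_pow, hAp a ha, map_one])
  rwa [Subgroup.card_map_of_injective hinj] at h1

theorem q8_unique_involution : ∀ x y : QuaternionGroup 2, x * x = 1 → y * y = 1 → x ≠ 1 → y ≠ 1 →
    x = y := by decide

theorem gl23_of_involution (hO : Cfsg.pPrimeCore 2 X = ⊥) (Q : Subgroup X) [Q.Normal]
    (e : ↥Q ≃* QuaternionGroup 2)
    (hCQ : Subgroup.centralizer (Q : Set X) ≤ Q) (h48 : Nat.card X = 48)
    (hZ : Nat.card ↥(Subgroup.center X) = 2) (hZQ : Subgroup.center X ≤ Q)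
    (u : X) (hu : u * u = 1) (huZ : u ∉ Subgroup.center X) :
    Nonempty (X ≃* GL (Fin 2) (ZMod 3)) := by
  have huQ : u ∉ Q := by
    intro huQ
    obtain ⟨⟨w, hwZ⟩, hw1, -⟩ := (Nat.card_eq_two_iff' (1 : Subgroup.center X)).mp hZ
    have hw1' : w ≠ 1 := fun h => hw1 (Subtype.ext h)
    have hww : w * w = 1 := by
      have h1 : (⟨w, hwZ⟩ : Subgroup.center X) ^ 2 = 1 := by
        rw [← hZ]; exact pow_card_eq_one'
      have h2 := congrArg Subtype.val h1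
      rw [pow_two] at h2
      exact h2
    have hwQ : w ∈ Q := hZQ hwZ
    have hu1 : u ≠ 1 := by
      rintro rfl
      exact huZ (Subgroup.one_mem _)
    have hx : e ⟨u, huQ⟩ * e ⟨u, huQ⟩ = 1 := by
      rw [← map_mul]
      have : (⟨u, huQ⟩ : ↥Q) * ⟨u, huQ⟩ = 1 := Subtype.ext hu
      rw [this, map_one]
    have hy : e ⟨w, hwQ⟩ * e ⟨w, hwQ⟩ = 1 := by
      rw [← map_mul]
      have : (⟨w, hwQ⟩ : ↥Q) * ⟨w, hwQ⟩ = 1 := Subtype.ext hww
      rw [this, map_one]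
    have hx1 : e ⟨u, huQ⟩ ≠ 1 := by
      intro h
      have := e.injective (h.trans (map_one e).symm)
      exact hu1 (congrArg Subtype.val this)
    have hy1 : e ⟨w, hwQ⟩ ≠ 1 := by
      intro h
      have := e.injective (h.trans (map_one e).symm)
      exact hw1' (congrArg Subtype.val this)
    have heq := e.injective (q8_unique_involution _ _ hx hy hx1 hy1)
    have : u = w := congrArg Subtype.val heq
    exact huZ (this ▸ hwZ)
  exact Cfsg.Agent.H1.RecGL23.recog_GL23 h48 Q ⟨e⟩ hCQ hO u huQ hu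

theorem main (hs : Group.IsSolvable X) (hO : Cfsg.pPrimeCore 2 X = ⊥)
    (hI : ∀ S T : Sylow 2 X, S ≠ T → Cfsg.PRankLE 2 1 ↥((S : Subgroup X) ⊓ (T : Subgroup X))) :
    (∃ P : Sylow 2 X, (P : Subgroup X).Normal) ∨ Nonempty (X ≃* GL (Fin 2) (ZMod 3)) ∨
    (Nat.card X = 48 ∧ Nat.card ↥(Subgroup.center X) = 2 ∧
      Nonempty (X ⧸ Subgroup.center X ≃* Equiv.Perm (Fin 4)) ∧
      ∀ P : Sylow 2 X, Nonempty (↥(P : Subgroup X) ≃* QuaternionGroup 4)) := by
  have h2 : Fact (Nat.Prime 2) := ⟨Nat.prime_two⟩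
  by_cases hns : ∃ P : Sylow 2 X, (P : Subgroup X).Normal
  · exact Or.inl hns
  · right
    have hsub : ¬ Subsingleton (Sylow 2 X) := by
      intro hsub
      obtain ⟨P⟩ : Nonempty (Sylow 2 X) := inferInstance
      exact hns ⟨P, Sylow.normal_of_subsingleton P⟩
    rw [not_subsingleton_iff_nontrivial] at hsub
    obtain ⟨S, T, hST⟩ := hsub
    have hQS : Cfsg.pCore 2 X ≤ (S : Subgroup X) ⊓ (T : Subgroup X) :=
      le_inf (Cfsg.Agent.H1.pCore_le_sylow S) (Cfsg.Agent.H1.pCore_le_sylow T)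
    have hQn : (Cfsg.pCore 2 X).Normal := Subgroup.sSup_normal _ (fun _ h => h.1)
    have hQp : IsPGroup 2 (Cfsg.pCore 2 X) := Cfsg.Agent.H1.pCore_isPGroup 2
    have hF : Cfsg.fittingSubgroup X = Cfsg.pCore 2 X :=
      Cfsg.Agent.S1327.fittingSubgroup_eq_pCore_of_pPrimeCore_eq_bot 2 hO
    have hCQ : Subgroup.centralizer (Cfsg.pCore 2 X : Set X) ≤ Cfsg.pCore 2 X := by
      rw [← hF]
      exact Cfsg.Agent.S1326.result.2 (Cfsg.Agent.S3303.layer_eq_bot_of_isSolvable hs)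
    have hr : Cfsg.PRankLE 2 1 ↥(Cfsg.pCore 2 X) := pRankLE_of_le hQS (hI S T hST)
    have hnot : ¬ IsPGroup 2 X := by
      intro hXp
      apply hST
      have hS : (S : Subgroup X) = ⊤ := (S.is_maximal' (hXp.to_subgroup ⊤) le_top).symm
      have hT : (T : Subgroup X) = ⊤ := (T.is_maximal' (hXp.to_subgroup ⊤) le_top).symm
      exact Sylow.ext (hS.trans hT.symm)
    have hQmax : ∀ K : Subgroup X, K.Normal → IsPGroup 2 ↥K → K ≤ Cfsg.pCore 2 X :=
      fun K hKn hKp => le_sSup ⟨hKn, hKp⟩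
    obtain ⟨e⟩ := quaternion8_of_rank_one (Cfsg.pCore 2 X) hQp hCQ hr hnot
    obtain ⟨h48, hZ, hZQ, hK⟩ := card_of_quaternion8 (Cfsg.pCore 2 X) e hCQ hnot hns
    by_cases hinv : ∀ u : X, u * u = 1 → u ∈ Subgroup.center X
    · right
      exact ⟨h48, hZ, quot_center_perm4 hO (Cfsg.pCore 2 X) e hCQ hQmax h48 hZ hZQ hK,
        sylow_quaternion16 (Cfsg.pCore 2 X) e h48 hZ hinv⟩
    · left
      push Not at hinv
      obtain ⟨u, hu, huZ⟩ := hinv
      exact gl23_of_involution hO (Cfsg.pCore 2 X) e hCQ h48 hZ hZQ u hu huZ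

theorem final {G : Type*} [Group G] [Finite G] (hs : Group.IsSolvable G)
    (hI : ∀ S T : Sylow 2 G, S ≠ T → Cfsg.PRankLE 2 1 ↥((S : Subgroup G) ⊓ (T : Subgroup G))) :
    (∃ P : Sylow 2 (G ⧸ Cfsg.oddCore G), (P : Subgroup (G ⧸ Cfsg.oddCore G)).Normal) ∨
    Nonempty ((G ⧸ Cfsg.oddCore G) ≃* GL (Fin 2) (ZMod 3)) ∨
    (Nat.card (G ⧸ Cfsg.oddCore G) = 48 ∧ Nat.card ↥(Subgroup.center (G ⧸ Cfsg.oddCore G)) = 2 ∧
      Nonempty ((G ⧸ Cfsg.oddCore G) ⧸ Subgroup.center (G ⧸ Cfsg.oddCore G) ≃* Equiv.Perm (Fin 4)) ∧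
      ∀ P : Sylow 2 (G ⧸ Cfsg.oddCore G), Nonempty (↥(P : Subgroup (G ⧸ Cfsg.oddCore G)) ≃* QuaternionGroup 4)) := by
  apply main
  · exact inferInstance
  · exact Cfsg.Agent.H2.pPrimeCore_quotient_eq_bot 2
  · exact quot_hyp hI

end Cfsg.Agent.Lib.Helper5.S3304
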