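import Mathlib
import Cfsg.Agent.Lib.Helper4.Sylow

/-!
# Reduction for S4274

Every group of order `19 * m`, `m ∣ 9240`, has a normal Sylow `19`-subgroup or is simple of order
`19 * 9240`, provided that there is no simple group of order `19 * m`, `m ∣ 9240`, `1 < m < 9240`.
-/

set_option autoImplicit false
set_option linter.style.haveILetI false

namespace Cfsg.Agent.Lib.Helper5.S4274Red

section generic

variable {H : Type*} [Group H] [Finite H]

/-- a Sylow `p`-subgroup lies in every normal subgroup of index prime to `p` -/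
theorem sylow_le_of_normal (p : ℕ) [hp : Fact p.Prime] (N : Subgroup H) [N.Normal]
    (hidx : ¬ p ∣ N.index) (P : Sylow p H) : (P : Subgroup H) ≤ N := by
  rw [← Subgroup.relIndex_eq_one]
  have h1 : N.relIndex (P : Subgroup H) ∣ N.index := Subgroup.relIndex_dvd_index_of_normal N _
  have h2 : N.relIndex (P : Subgroup H) ∣ Nat.card (P : Subgroup H) :=
    Subgroup.index_dvd_card _
  obtain ⟨k, hk⟩ := P.2.exists_card_eq
  rw [hk] at h2
  obtain ⟨j, -, hj⟩ := (Nat.dvd_prime_pow hp.out).1 h2
  rcases Nat.eq_zero_or_pos j with rfl | hj0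
  · simpa using hj
  · exfalso
    apply hidx
    refine dvd_trans ?_ h1
    rw [hj]
    exact dvd_pow_self p hj0.ne'

/-- (A) if `N` is normal of index prime to `p` and the Sylow `p`-subgroups of `N` are normal in
`N`, then the Sylow `p`-subgroups of `H` are normal in `H` -/
theorem sylow_normal_of_normal (p : ℕ) [hp : Fact p.Prime] (N : Subgroup H) [hNn : N.Normal]
    (hidx : ¬ p ∣ N.index) (hN : ∀ Q : Sylow p N, (Q : Subgroup N).Normal) (P : Sylow p H) :
    (P : Subgroup H).Normal := by
  have hPN : (P : Subgroup H) ≤ N := sylow_le_of_normal p N hidx P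
  haveI hchar : ((P.subtype hPN : Sylow p N) : Subgroup N).Characteristic :=
    Sylow.characteristic_of_normal _ (hN _)
  have h3 : (((P.subtype hPN : Sylow p N) : Subgroup N).map N.subtype).Normal :=
    ConjAct.normal_of_characteristic_of_normal
  rwa [Sylow.coe_subtype, Subgroup.map_subgroupOf_eq_of_le hPN] at h3

/-- (B) if the Sylow `p`-subgroups of `H ⧸ N` are normal, then `P ⊔ N` is normal -/
theorem sup_normal_of_quotient (p : ℕ) [hp : Fact p.Prime] (N : Subgroup H) [hNn : N.Normal]
    (hq : ∀ Q : Sylow p (H ⧸ N), (Q : Subgroup (H ⧸ N)).Normal) (P : Sylow p H) :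
    ((P : Subgroup H) ⊔ N).Normal := by
  have hsurj := QuotientGroup.mk'_surjective N
  have h1 := hq (P.mapSurjective hsurj)
  rw [Sylow.coe_mapSurjective] at h1
  have h2 := h1.comap (QuotientGroup.mk' N)
  rwa [Subgroup.comap_map_eq, QuotientGroup.ker_mk'] at h2

/-- (D) the order of `P ⊔ N` -/
theorem card_sup_of_coprime (P N : Subgroup H) [N.Normal]
    (hcop : Nat.Coprime (Nat.card P) (Nat.card N)) :
    Nat.card ↥(P ⊔ N) = Nat.card P * Nat.card N := by
  have hbot : P ⊓ N = ⊥ := Subgroup.inf_eq_bot_of_coprime hcop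
  have h1 : N.relIndex (P ⊔ N) = Nat.card P := by
    rw [Subgroup.relIndex_sup_right, ← Subgroup.inf_relIndex_right, inf_comm, hbot,
      Subgroup.relIndex_bot_left]
  have h2 := Subgroup.relIndex_mul_relIndex ⊥ N (P ⊔ N) bot_le le_sup_right
  rw [Subgroup.relIndex_bot_left, Subgroup.relIndex_bot_left, h1] at h2
  rw [← h2, mul_comm]

/-- an element of order dividing `p` which normalizes a subgroup of order `< p` centralizes it -/
theorem mem_centralizer_of_mem_normalizer (p : ℕ) [hp : Fact p.Prime] (Q : Subgroup H)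
    (hQ : Nat.card Q < p) (x : H) (hx : x ∈ Subgroup.normalizer (Q : Set H)) (hxp : x ^ p = 1) :
    x ∈ Subgroup.centralizer (Q : Set H) := by
  set y : Subgroup.normalizer (Q : Set H) := ⟨x, hx⟩ with hy
  have hyp : y ^ p = 1 := Subtype.ext (by simpa using hxp)
  have h1 : orderOf (Q.normalizerMonoidHom y) ∣ p := by
    apply orderOf_dvd_of_pow_eq_one
    rw [← map_pow, hyp, map_one]
  have h2 : orderOf (Q.normalizerMonoidHom y) ∣ Nat.card (MulAut Q) := orderOf_dvd_natCard _
  have h3 : Nat.card (MulAut Q) ∣ (Nat.card Q).factorial := by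
    have := Subgroup.card_dvd_of_injective (MulAut.toPerm Q) (fun a b hab => by
      ext z
      have := DFunLike.congr_fun hab z
      exact congrArg Subtype.val this)
    rwa [Nat.card_perm] at this
  have h4 : orderOf (Q.normalizerMonoidHom y) = 1 := by
    rcases (Nat.dvd_prime hp.out).1 h1 with h | h
    · exact h
    · exfalso
      rw [h] at h2
      have := (hp.out.dvd_factorial).1 (h2.trans h3)
      omega
  have h5 : y ∈ Q.normalizerMonoidHom.ker := by
    rw [MonoidHom.mem_ker]
    exact orderOf_eq_one_iff.1 h4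
  rw [Subgroup.normalizerMonoidHom_ker, Subgroup.mem_subgroupOf] at h5
  exact h5

end generic

end Cfsg.Agent.Lib.Helper5.S4274Red
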