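import Mathlib
import Cfsg.Agent.Lib.Helper7.RegUnA

/-!
# Transitivity of a subgroup containing two opposite Eichler radicals (helper5, for S2282)

In helper9's model `GG n σ` of the special unitary group of the antidiagonal Hermitian form: if a
subgroup `H` contains all Eichler transformations `EM σ u y s` and `EM σ w y s` based at two
isotropic vectors `u`, `w` with `h(w, u) ≠ 0`, then it contains all the long root elements
`EM σ v 0 s` (`v` isotropic, `s + σ s = 0`).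
-/

set_option autoImplicit false

namespace Cfsg.Agent.Lib.Helper5.SUTrans

open Matrix Cfsg.Agent.H9.SUa Cfsg.Agent.H9.SUc Cfsg.Agent.H9.SUm Cfsg.Agent.Lib.Helper7.RegUn

variable {n : ℕ} {K : Type*} [Field K] [Finite K] {σ : K →+* K}

/-- `z` is isotropic and all Eichler transformations based at `z` lie in `H` -/
def IsoB (σ : K →+* K) (H : Subgroup (GG n σ)) (z : Fin n → K) : Prop :=
  hf σ z z = 0 ∧ ∀ y s, hf σ y z = 0 → s + σ s + hf σ y y = 0 → ∃ g ∈ H, mt g = EM σ z y s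

omit [Finite K] in
theorem sig_ne_zero (hσ : ∀ x, σ (σ x) = x) {c : K} (hc : c ≠ 0) : σ c ≠ 0 := by
  intro h
  apply hc
  have h1 := congrArg σ h
  rwa [hσ, map_zero] at h1

theorem IsoB.map {H : Subgroup (GG n σ)} {z : Fin n → K} (hz : IsoB σ H z) {g : GG n σ}
    (hg : g ∈ H) : IsoB σ H (mt g *ᵥ z) := by
  refine ⟨by rw [hf_mulVec σ _ (mt_unit' g)]; exact hz.1, ?_⟩
  intro y s hy hs
  have hgi : mt g * mt g⁻¹ = 1 := by rw [← mt_mul, mul_inv_cancel, mt_one]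
  have hy' : mt g *ᵥ (mt g⁻¹ *ᵥ y) = y := by rw [Matrix.mulVec_mulVec, hgi, Matrix.one_mulVec]
  have h1 : hf σ (mt g⁻¹ *ᵥ y) z = 0 := by
    rw [← hf_mulVec σ _ (mt_unit' g), hy']
    exact hy
  have h2 : hf σ (mt g⁻¹ *ᵥ y) (mt g⁻¹ *ᵥ y) = hf σ y y := hf_mulVec σ _ (mt_unit' g⁻¹) y y
  obtain ⟨x, hxH, hx⟩ := hz.2 (mt g⁻¹ *ᵥ y) s h1 (by rw [h2]; exact hs)
  refine ⟨g * x * g⁻¹, H.mul_mem (H.mul_mem hg hxH) (H.inv_mem hg), ?_⟩
  rw [Cfsg.Agent.H9.SUi.mt_conj_EM g x _ _ s hx, hy']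

theorem IsoB.smul (hσ : ∀ x, σ (σ x) = x) {H : Subgroup (GG n σ)} {z : Fin n → K}
    (hz : IsoB σ H z) {t : K} (ht : t ≠ 0) : IsoB σ H (t • z) := by
  have hσt : σ t ≠ 0 := sig_ne_zero hσ ht
  refine ⟨by rw [hf_smul_left, hf_smul_right, hz.1, mul_zero, mul_zero], ?_⟩
  intro y s hy hs
  rw [hf_smul_right] at hy
  have hy0 : hf σ y z = 0 := (mul_eq_zero.mp hy).resolve_left hσt
  rw [Cfsg.Agent.H9.SUi.EM_smul_left σ hσ]
  apply hz.2
  · rw [hf_smul_left, hy0, mul_zero]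
  · rw [hf_smul_left, hf_smul_right, map_mul, map_mul, hσ]
    linear_combination (t * σ t) * hs

theorem IsoB.move (hσ : ∀ x, σ (σ x) = x) {H : Subgroup (GG n σ)} {a z z' : Fin n → K}
    (ha : IsoB σ H a) (hz : hf σ z z = 0) (hz' : hf σ z' z' = 0) (h1 : hf σ z a = 1)
    (h1' : hf σ z' a = 1) : ∃ x ∈ H, mt x *ᵥ z = z' := by
  obtain ⟨x, hxH, hx⟩ := ha.2 (z - z') (hf σ z z') (by rw [hf_sub_left, h1, h1', sub_self]) (by
    rw [← hf_symm σ hσ z' z, hf_sub_left, hf_sub_right, hf_sub_right, hz, hz']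
    ring)
  refine ⟨x, hxH, ?_⟩
  rw [hx, EM_mulVec, h1, hf_sub_right, hz]
  funext i
  simp only [Pi.add_apply, Pi.sub_apply, Pi.smul_apply, smul_eq_mul]
  ring

theorem IsoB.of_pair (hσ : ∀ x, σ (σ x) = x) {H : Subgroup (GG n σ)} {a b z : Fin n → K}
    (ha : IsoB σ H a) (hb : IsoB σ H b) (hba : hf σ b a ≠ 0) (hz : hf σ z z = 0)
    (hza : hf σ z a ≠ 0) : IsoB σ H z := by
  have hb' : IsoB σ H ((hf σ b a)⁻¹ • b) := hb.smul hσ (inv_ne_zero hba)
  obtain ⟨x, hxH, hx⟩ := ha.move hσ (z := (hf σ b a)⁻¹ • b) (z' := (hf σ z a)⁻¹ • z) hb'.1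
    (by rw [hf_smul_left, hf_smul_right, hz, mul_zero, mul_zero])
    (by rw [hf_smul_left, inv_mul_cancel₀ hba]) (by rw [hf_smul_left, inv_mul_cancel₀ hza])
  have h3 := hb'.map hxH
  rw [hx] at h3
  have h4 := h3.smul hσ hza
  rwa [smul_smul, mul_inv_cancel₀ hza, one_smul] at h4

omit [Finite K] in
theorem EM_zero_left (σ : K →+* K) (s : K) : EM σ (0 : Fin n → K) 0 s = 1 := by
  unfold EM
  rw [hat_zero, vecMulVec_zero, sub_zero, add_zero, smul_zero, add_zero]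

/-- **transitivity**: two opposite full Eichler radicals in `H` give all long root elements -/
theorem trans_all (hσ : ∀ x, σ (σ x) = x)
    (hx0 : ∃ x, σ x ≠ x) (H : Subgroup (GG n σ)) (u w : Fin n → K)
    (huu : hf σ u u = 0) (hww : hf σ w w = 0) (hwu : hf σ w u ≠ 0)
    (hu : ∀ y s, hf σ y u = 0 → s + σ s + hf σ y y = 0 → ∃ g ∈ H, mt g = EM σ u y s)
    (hw : ∀ y s, hf σ y w = 0 → s + σ s + hf σ y y = 0 → ∃ g ∈ H, mt g = EM σ w y s) :
    ∀ v s, hf σ v v = 0 → s + σ s = 0 → ∃ g ∈ H, mt g = EM σ v 0 s := by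
  have hIu : IsoB σ H u := ⟨huu, hu⟩
  have hIw : IsoB σ H w := ⟨hww, hw⟩
  have key : ∀ z : Fin n → K, z ≠ 0 → hf σ z z = 0 → IsoB σ H z := by
    intro z hz0 hzz
    by_cases hzu : hf σ z u = 0
    · obtain ⟨j, hj⟩ : ∃ j, z j ≠ 0 := by
        by_contra h
        push Not at h
        exact hz0 (funext h)
      obtain ⟨x₁, hx₁u, hx₁z⟩ : ∃ x₁ : Fin n → K, hf σ x₁ u ≠ 0 ∧ hf σ x₁ z ≠ 0 := by
        have he : hf σ (Pi.single j.rev 1) z ≠ 0 := by
          rw [Cfsg.Agent.H9.SUi.hf_single_left, Fin.rev_rev]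
          exact sig_ne_zero hσ hj
        by_cases h1 : hf σ w z = 0
        · by_cases h2 : hf σ (Pi.single j.rev 1) u = 0
          · refine ⟨w + Pi.single j.rev 1, ?_, ?_⟩
            · rw [hf_add_left, h2, add_zero]
              exact hwu
            · rw [hf_add_left, h1, zero_add]
              exact he
          · exact ⟨_, h2, he⟩
        · exact ⟨w, hwu, h1⟩
      obtain ⟨θ, hθ⟩ := Cfsg.Agent.H9.SUd.exists_theta hσ hx0
      have hux : hf σ u x₁ ≠ 0 := by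
        rw [hf_symm σ hσ]
        exact sig_ne_zero hσ hx₁u
      have hN : σ (hf σ x₁ x₁) = hf σ x₁ x₁ := (hf_symm σ hσ x₁ x₁).symm
      obtain ⟨t, ht⟩ : ∃ t : K, t = -θ * hf σ x₁ x₁ / hf σ u x₁ := ⟨_, rfl⟩
      have htu : t * hf σ u x₁ = -θ * hf σ x₁ x₁ := by
        rw [ht]
        field_simp
      have huz : hf σ u z = 0 := hf_eq_zero_symm σ hσ hzu
      have hx' : hf σ (x₁ + t • u) (x₁ + t • u) = 0 := by
        have e1 : σ t * hf σ x₁ u = σ (t * hf σ u x₁) := by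
          rw [map_mul, ← hf_symm σ hσ]
        rw [hf_add_left, hf_add_right, hf_add_right, hf_smul_left, hf_smul_left, hf_smul_right,
          hf_smul_right, huu, e1, htu, map_mul, map_neg, hN]
        linear_combination (-hf σ x₁ x₁) * hθ
      have hx'u : hf σ (x₁ + t • u) u ≠ 0 := by
        rw [hf_add_left, hf_smul_left, huu, mul_zero, add_zero]
        exact hx₁u
      have hx'z : hf σ (x₁ + t • u) z ≠ 0 := by
        rw [hf_add_left, hf_smul_left, huz, mul_zero, add_zero]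
        exact hx₁z
      have hIx' : IsoB σ H (x₁ + t • u) := IsoB.of_pair hσ hIu hIw hwu hx' hx'u
      refine IsoB.of_pair hσ hIx' hIu ?_ hzz ?_
      · rw [hf_symm σ hσ]
        exact sig_ne_zero hσ hx'u
      · rw [hf_symm σ hσ]
        exact sig_ne_zero hσ hx'z
    · exact IsoB.of_pair hσ hIu hIw hwu hzz hzu
  intro v s hv hs
  by_cases hv0 : v = 0
  · refine ⟨1, H.one_mem, ?_⟩
    rw [hv0, EM_zero_left, mt_one]
  · apply (key v hv0 hv).2
    · exact hf_zero_left σ v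
    · rw [hf_zero_left, add_zero]
      exact hs

end Cfsg.Agent.Lib.Helper5.SUTrans
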