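import Mathlib
import Cfsg.Agent.Lib.Helper5.SUTransA
import Cfsg.Agent.S0780

/-!
# From the long root elements of the antidiagonal model to all of `SU_n(q)` (helper5, for S2282)

A subgroup of helper9's model `GG n (frob hK)` containing all long root elements `EM σ v 0 s`
(`v` isotropic, `s + σ s = 0`) is the whole group, for `n ≥ 3`, `(n, q) ≠ (3, 2)`: transport to the
standard form with `toSU` and use the generation of `SU_n(q)` by unitary transvections (`S0780`).
-/

set_option autoImplicit false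

namespace Cfsg.Agent.Lib.Helper5.SUTrans

open Matrix Cfsg.Agent.H9.SUa Cfsg.Agent.H9.SUc Cfsg.Agent.H9.SUm Cfsg.Agent.Lib.Helper7.RegUn

section calcs

variable {n : ℕ} {K : Type*} [Field K]

theorem EM_zero_eq (σ : K →+* K) (u : Fin n → K) (s : K) :
    EM σ u 0 s = 1 + s • vecMulVec u (hat σ u) := by
  unfold EM
  rw [hat_zero, vecMulVec_zero, zero_vecMulVec, add_zero, sub_zero]

theorem s_eq_zero_of_EM_eq_one {σ : K →+* K} (hσ : ∀ x, σ (σ x) = x) {u : Fin n → K}
    (hu : u ≠ 0) {s : K} (h : EM σ u 0 s = 1) : s = 0 := by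
  obtain ⟨i, hi⟩ : ∃ i, u i ≠ 0 := by
    by_contra h'
    push Not at h'
    exact hu (funext h')
  rw [EM_zero_eq] at h
  have h1 := congrFun (congrFun h i) i.rev
  rw [Matrix.add_apply, Matrix.smul_apply, vecMulVec_apply, hat_apply, Fin.rev_rev, smul_eq_mul]
    at h1
  have h2 : s * (u i * σ (u i)) = 0 := by linear_combination h1
  rcases mul_eq_zero.mp h2 with h3 | h3
  · exact h3
  · exfalso
    rcases mul_eq_zero.mp h3 with h4 | h4
    · exact hi h4
    · apply hi
      have h5 := congrArg σ h4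
      rwa [hσ, map_zero] at h5

end calcs

section link

variable {K : Type*} [Field K] [Fintype K] {q : ℕ}

/-- **the link**: a subgroup of the antidiagonal model containing all long root elements is the
whole group -/
theorem link (hK : Fintype.card K = q ^ 2) (n : ℕ)
    (hn : 3 ≤ n) (h32 : ¬ (n = 3 ∧ q = 2)) (H : Subgroup (GG n (frob hK)))
    (hH : ∀ v s, hf (frob hK) v v = 0 → s + frob hK s = 0 →
      ∃ g ∈ H, mt g = EM (frob hK) v 0 s) : H = ⊤ := by
  obtain ⟨l, hl⟩ := norm_surj hK (-1) (by rw [map_neg, map_one])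
  obtain ⟨θ, hθ⟩ := Cfsg.Agent.H9.SUd.exists_theta (frob_invol hK) (exists_frob_ne hK)
  obtain ⟨φ, hφ⟩ : ∃ φ : GG n (frob hK) →* Cfsg.SU n K q, φ = toSU hK l θ hl hθ := ⟨_, rfl⟩
  have hφs : Function.Surjective φ := by rw [hφ]; exact toSU_surjective hK l θ hl hθ
  have hφi : Function.Injective φ := by rw [hφ]; exact toSU_injective hK l θ hl hθ
  have hσ := frob_invol hK
  obtain ⟨P, hP⟩ : ∃ P : Matrix (Fin n) (Fin n) K, P = PB (frob hK) l θ := ⟨_, rfl⟩
  have hPQ : P * P⁻¹ = 1 := by rw [hP]; exact PB_mul_inv (n := n) hK l θ hl hθ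
  have hQP : P⁻¹ * P = 1 := by rw [hP]; exact PB_inv_mul (n := n) hK l θ hl hθ
  have hform : ∀ u v : Fin n → K,
      Cfsg.hermForm n K q (P *ᵥ u) (P *ᵥ v) = hf (frob hK) u v := by
    intro u v
    rw [hP]
    exact hermForm_PB hK l θ hl hθ u v
  have hval : ∀ g : GG n (frob hK),
      ((φ g : Matrix.SpecialLinearGroup (Fin n) K) : Matrix (Fin n) (Fin n) K) =
        P * mt g * P⁻¹ := by
    intro g
    rw [hφ, hP]
    exact toSU_val hK l θ hl hθ g
  have hgen : ∀ A : ↥(Cfsg.SU n K q), (∃ (v : Fin n → K) (c : K),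
      Cfsg.hermForm n K q v v = 0 ∧
      ((A : Matrix.SpecialLinearGroup (Fin n) K) : Matrix (Fin n) (Fin n) K) =
        Cfsg.unitaryTransvection n q v c) → A ∈ Subgroup.map φ H := by
    rintro A ⟨v, c, hv, hA⟩
    obtain ⟨g, rfl⟩ := hφs A
    refine ⟨g, ?_, rfl⟩
    obtain ⟨v', hv'def⟩ : ∃ v' : Fin n → K, v' = P⁻¹ *ᵥ v := ⟨_, rfl⟩
    have hPv' : P *ᵥ v' = v := by
      rw [hv'def, Matrix.mulVec_mulVec, hPQ, Matrix.one_mulVec]
    have hv' : hf (frob hK) v' v' = 0 := by
      rw [← hform, hPv']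
      exact hv
    have test : ∀ x : Fin n → K,
        ((fun j => v j ^ q) ᵥ* P) ⬝ᵥ x = hat (frob hK) v' ⬝ᵥ x := by
      intro x
      rw [← Matrix.dotProduct_mulVec]
      have h1 := hform x v'
      rw [hPv'] at h1
      unfold hf at h1
      rw [← h1]
      unfold Cfsg.hermForm
      rw [dotProduct]
      apply Finset.sum_congr rfl
      intro i _
      rw [mul_comm]
    have hrow : (fun j => v j ^ q) ᵥ* P = hat (frob hK) v' := by
      funext j
      have h1 := test (Pi.single j 1)
      rwa [dotProduct_single, dotProduct_single, mul_one, mul_one] at h1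
    have hmt : mt g = EM (frob hK) v' 0 c := by
      have h1 : mt g = P⁻¹ * (P * mt g * P⁻¹) * P := by
        rw [Matrix.mul_assoc, Matrix.mul_assoc, Matrix.mul_assoc, hQP, Matrix.mul_one,
          ← Matrix.mul_assoc, hQP, Matrix.one_mul]
      rw [h1, ← hval, hA, EM_zero_eq]
      unfold Cfsg.unitaryTransvection
      rw [Matrix.mul_add, Matrix.add_mul, Matrix.mul_one, hQP, Matrix.mul_smul, Matrix.smul_mul,
        mul_vecMulVec, vecMulVec_mul, hrow, ← hv'def]
    by_cases hv0 : v' = 0
    · have h1 : g = 1 := by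
        apply mt_injective
        rw [hmt, hv0, EM_zero_left, mt_one]
      rw [h1]
      exact H.one_mem
    · have hunit := mt_unit g
      rw [hmt, Cfsg.Agent.H9.SUi.adj_EM (frob hK) hσ, neg_zero,
        EM_mul_EM (frob hK) v' 0 0 c (frob hK c) hv' (hf_zero_right _ _) (hf_zero_left _ _),
        add_zero, hf_zero_left, sub_zero] at hunit
      have hc := s_eq_zero_of_EM_eq_one hσ hv0 hunit
      obtain ⟨g', hg'H, hg'⟩ := hH v' c hv' hc
      have h1 : g = g' := by
        apply mt_injective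
        rw [hmt, hg']
      rw [h1]
      exact hg'H
  have htop : Subgroup.map φ H = ⊤ := by
    rw [eq_top_iff, ← Cfsg.Agent.S0780.result hK n hn h32, Subgroup.closure_le]
    intro A hA
    exact hgen A hA
  rw [eq_top_iff]
  intro g _
  have h1 : φ g ∈ Subgroup.map φ H := by
    rw [htop]
    exact Subgroup.mem_top _
  obtain ⟨h, hh, hhg⟩ := h1
  rw [← hφi hhg]
  exact hh

end link

end Cfsg.Agent.Lib.Helper5.SUTrans
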