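import Mathlib
import Cfsg.Agent.Lib.Helper8.SameOrdA

/-!
# S4022, piece PA (helper5): closure properties of the class `X r`
-/

set_option autoImplicit false
set_option linter.style.haveILetI false
set_option linter.unusedSectionVars false
set_option linter.unusedVariables false

namespace Cfsg.Agent.Lib.Helper5.SameOrdPA

open Cfsg.Agent.Lib.Helper8.SameOrd

universe u

/-- in a finite cyclic group, membership in a subgroup is detected by the order -/
theorem mem_iff_pow_card_of_cyclic {C : Type*} [Group C] [Finite C] [IsCyclic C] (K : Subgroup C)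
    (a : C) : a ∈ K ↔ a ^ Nat.card K = 1 := by
  classical
  letI : Fintype C := Fintype.ofFinite C
  constructor
  · intro ha
    have := pow_card_eq_one' (G := K) (x := ⟨a, ha⟩)
    exact congrArg Subtype.val this
  · intro ha
    have hd : 0 < Nat.card K := Nat.card_pos
    have hle := IsCyclic.card_pow_eq_one_le (α := C) hd
    set S : Finset C := Finset.univ.filter (fun a : C => a ^ Nat.card K = 1) with hS
    have hsub : (K : Set C).toFinset ⊆ S := by
      intro x hx
      rw [Set.mem_toFinset] at hx
      rw [hS, Finset.mem_filter]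
      refine ⟨Finset.mem_univ _, ?_⟩
      have := pow_card_eq_one' (G := K) (x := ⟨x, hx⟩)
      exact congrArg Subtype.val this
    have hcard : (K : Set C).toFinset.card = Nat.card K := by
      rw [Set.toFinset_card, Nat.card_eq_fintype_card]
      rfl
    have heq := Finset.eq_of_subset_of_card_le hsub (by rw [hcard]; exact hle)
    have haS : a ∈ S := by rw [hS, Finset.mem_filter]; exact ⟨Finset.mem_univ _, ha⟩
    rw [← heq, Set.mem_toFinset] at haS
    exact haS

theorem eq_of_card_eq_of_cyclic {C : Type*} [Group C] [Finite C] [IsCyclic C] (H K : Subgroup C)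
    (h : Nat.card H = Nat.card K) : H = K := by
  ext a
  rw [mem_iff_pow_card_of_cyclic H, mem_iff_pow_card_of_cyclic K, h]

/-- subgroups of the same order inside a cyclic subgroup are equal -/
theorem eq_of_card_eq_of_le_cyclic {C : Type*} [Group C] [Finite C] (P : Subgroup C)
    [IsCyclic P] {H K : Subgroup C} (hH : H ≤ P) (hK : K ≤ P) (h : Nat.card H = Nat.card K) :
    H = K := by
  have h1 : H.subgroupOf P = K.subgroupOf P := by
    apply eq_of_card_eq_of_cyclic
    rw [Nat.card_congr (Subgroup.subgroupOfEquivOfLe hH).toEquiv,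
      Nat.card_congr (Subgroup.subgroupOfEquivOfLe hK).toEquiv, h]
  rw [Subgroup.subgroupOf_inj] at h1
  rwa [inf_eq_left.mpr hH, inf_eq_left.mpr hK] at h1

theorem sylow_smul_coe {C : Type*} [Group C] {p : ℕ} (P : Sylow p C) (c : C) :
    ((c • P : Sylow p C) : Subgroup C) = (P : Subgroup C).map (MulAut.conj c).toMonoidHom := rfl

/-- (Z): a finite solvable group with all Sylow subgroups cyclic lies in `X r` -/
theorem X.of_cyclic {r : ℕ} (C : Type u) [Group C] [Finite C] (hs : Group.IsSolvable C)
    (h : ∀ p : ℕ, p.Prime → ∀ P : Sylow p C, IsCyclic P) : X r C := by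
  refine ⟨hs, ?_, fun p hp _ P => h p hp P⟩
  intro p hp A B hA hB hAB
  haveI := Fact.mk hp
  obtain ⟨P, hAP⟩ := hA.exists_le_sylow
  obtain ⟨P', hBP'⟩ := hB.exists_le_sylow
  obtain ⟨c, hc⟩ := MulAction.exists_smul_eq C P P'
  refine ⟨c, ?_⟩
  haveI : IsCyclic (P' : Subgroup C) := h p hp P'
  have hAc : A.map (MulAut.conj c).toMonoidHom ≤ (P' : Subgroup C) := by
    rw [← hc, sylow_smul_coe]
    exact Subgroup.map_mono hAP
  symm
  apply eq_of_card_eq_of_le_cyclic (P' : Subgroup C) hAc hBP'
  rw [Subgroup.card_map_of_injective (MulAut.conj c).injective, hAB]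

/-- subgroups of order prime to `r` stay in the class -/
theorem X.subgroup_of_coprime {G : Type u} [Group G] [Finite G] {r : ℕ} (hX : X r G)
    (C : Subgroup G) (hr : r.Prime → ¬ r ∣ Nat.card C) : X r ↥C := by
  haveI := hX.solv
  apply X.of_cyclic ↥C inferInstance
  intro p hp Q
  haveI := Fact.mk hp
  by_cases hpr : p = r
  · have hcard : Nat.card Q = 1 := by
      obtain ⟨k, hk⟩ := Q.isPGroup'.exists_card_eq
      have hd : Nat.card Q ∣ Nat.card C := Subgroup.card_subgroup_dvd_card _
      rcases Nat.eq_zero_or_pos k with h0 | h0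
      · rw [hk, h0, pow_zero]
      · exfalso
        apply hr (hpr ▸ hp)
        rw [← hpr]
        exact (dvd_pow_self p h0.ne').trans (hk ▸ hd)
    haveI : Subsingleton Q := (Nat.card_eq_one_iff_unique.mp hcard).1
    exact isCyclic_of_subsingleton
  · have hQ : IsPGroup p ((Q : Subgroup C).map C.subtype) := Q.isPGroup'.map _
    obtain ⟨P, hP⟩ := hQ.exists_le_sylow
    haveI : IsCyclic (P : Subgroup G) := hX.hC p hp hpr P
    haveI : IsCyclic ((Q : Subgroup C).map C.subtype) :=
      isCyclic_of_injective (Subgroup.inclusion hP) (Subgroup.inclusion_injective hP)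
    exact isCyclic_of_surjective
      ((Subgroup.equivMapOfInjective (Q : Subgroup C) C.subtype C.subtype_injective).symm)
      (MulEquiv.surjective _)

section quotient

variable {G : Type u} [Group G] [Finite G] (N : Subgroup G) [N.Normal]

theorem card_comap_mk (Xb : Subgroup (G ⧸ N)) :
    Nat.card (Xb.comap (QuotientGroup.mk' N)) = Nat.card N * Nat.card Xb := by
  have hf : Function.Surjective (QuotientGroup.mk' N) := QuotientGroup.mk'_surjective N
  have h1 := Subgroup.index_comap_of_surjective Xb hf
  have h2 := (Xb.comap (QuotientGroup.mk' N)).card_mul_index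
  have h3 := Xb.card_mul_index
  have h4 := Subgroup.card_eq_card_quotient_mul_card_subgroup N
  have hpos : 0 < Xb.index := Nat.pos_of_ne_zero Subgroup.index_ne_zero_of_finite
  rw [h1, h4, ← h3] at h2
  have : Nat.card (Xb.comap (QuotientGroup.mk' N)) * Xb.index =
      (Nat.card N * Nat.card Xb) * Xb.index := by rw [h2]; ring
  exact Nat.eq_of_mul_eq_mul_right hpos this

/-- a `p`-subgroup of `G ⧸ N` is the image of a `p`-subgroup of `G` of controlled order -/
theorem exists_lift (p : ℕ) [hp : Fact p.Prime] (Xb : Subgroup (G ⧸ N)) (hXb : IsPGroup p Xb) :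
    ∃ Px : Subgroup G, IsPGroup p Px ∧ Px.map (QuotientGroup.mk' N) = Xb ∧
      Nat.card Px = p ^ ((Nat.card N * Nat.card Xb).factorization p) := by
  have hf : Function.Surjective (QuotientGroup.mk' N) := QuotientGroup.mk'_surjective N
  set Xt : Subgroup G := Xb.comap (QuotientGroup.mk' N) with hXt
  obtain ⟨P⟩ := (inferInstance : Nonempty (Sylow p ↥Xt))
  refine ⟨(P : Subgroup ↥Xt).map Xt.subtype, P.isPGroup'.map _, ?_, ?_⟩
  · set g : ↥Xt →* ↥Xb := (QuotientGroup.mk' N).subgroupComap Xb with hg
    have hgs : Function.Surjective g :=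
      MonoidHom.subgroupComap_surjective_of_surjective _ _ hf
    have h1 : ((P : Subgroup ↥Xt).map g).index ∣ (P : Subgroup ↥Xt).index :=
      Subgroup.index_map_dvd _ hgs
    have h2 : ¬ p ∣ (P : Subgroup ↥Xt).index := P.not_dvd_index
    have h3 : ((P : Subgroup ↥Xt).map g).index ∣ Nat.card ↥Xb := Subgroup.index_dvd_card _
    obtain ⟨k, hk⟩ := hXb.exists_card_eq
    rw [hk] at h3
    obtain ⟨i, -, hi⟩ := (Nat.dvd_prime_pow hp.out).mp h3
    have hi0 : i = 0 := by
      by_contra hne
      apply h2
      refine dvd_trans ?_ h1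
      rw [hi]
      exact dvd_pow_self p hne
    rw [hi0, pow_zero] at hi
    have htop : (P : Subgroup ↥Xt).map g = ⊤ := Subgroup.index_eq_one.mp hi
    have hcomp : (QuotientGroup.mk' N).comp Xt.subtype = Xb.subtype.comp g := rfl
    rw [Subgroup.map_map, hcomp, ← Subgroup.map_map, htop, ← MonoidHom.range_eq_map,
      Subgroup.range_subtype]
  · rw [Subgroup.card_map_of_injective Xt.subtype_injective, Sylow.card_eq_multiplicity,
      card_comap_mk]

/-- (Q): quotients stay in the class -/
theorem X.quotient {r : ℕ} (hX : X r G) (N : Subgroup G) [N.Normal] (q : ℕ) (hq : q.Prime)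
    (hN : IsPGroup q N) : X r (G ⧸ N) := by
  have hf : Function.Surjective (QuotientGroup.mk' N) := QuotientGroup.mk'_surjective N
  haveI := hX.solv
  refine ⟨inferInstance, ?_, ?_⟩
  · intro p hp A B hA hB hAB
    haveI := Fact.mk hp
    obtain ⟨Px, hPx, hPxA, hPxc⟩ := exists_lift N p A hA
    obtain ⟨Py, hPy, hPyB, hPyc⟩ := exists_lift N p B hB
    have hc : Nat.card Px = Nat.card Py := by rw [hPxc, hPyc, hAB]
    obtain ⟨g0, hg0⟩ := hX.hD p hp Px Py hPx hPy hc
    refine ⟨QuotientGroup.mk' N g0, ?_⟩
    have hcomp : (QuotientGroup.mk' N).comp (MulAut.conj g0).toMonoidHom =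
        (MulAut.conj (QuotientGroup.mk' N g0)).toMonoidHom.comp (QuotientGroup.mk' N) := by
      ext x
      simp
    rw [← hPyB, hg0, Subgroup.map_map, hcomp, ← Subgroup.map_map, hPxA]
  · intro p hp hpr Pb
    haveI := Fact.mk hp
    obtain ⟨P0⟩ := (inferInstance : Nonempty (Sylow p G))
    haveI : IsCyclic (P0 : Subgroup G) := hX.hC p hp hpr P0
    set Q : Sylow p (G ⧸ N) := P0.mapSurjective hf with hQ
    haveI : IsCyclic (Q : Subgroup (G ⧸ N)) := by
      have h1 : (Q : Subgroup (G ⧸ N)) = (P0 : Subgroup G).map (QuotientGroup.mk' N) :=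
        Sylow.coe_mapSurjective hf P0
      rw [h1]
      exact isCyclic_of_surjective ((QuotientGroup.mk' N).subgroupMap (P0 : Subgroup G))
        ((QuotientGroup.mk' N).subgroupMap_surjective _)
    obtain ⟨c, hc⟩ := MulAction.exists_smul_eq (G ⧸ N) Q Pb
    rw [← hc]
    exact isCyclic_of_surjective (Sylow.equivSMul Q c) (MulEquiv.surjective _)

end quotient

end Cfsg.Agent.Lib.Helper5.SameOrdPA
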