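import Mathlib

set_option autoImplicit false

namespace Cfsg.Agent.Lib.Helper5.SchreierPrimeA

theorem odd_orderOf_pow_two_pow {A : Type*} [Group A] (a : A) (e u : ℕ) (hu : Odd u)
    (he : orderOf a = 2 ^ e * u) (j : ℕ) : Odd (orderOf (a ^ (2 ^ e * j))) := by
  have h1 : (a ^ (2 ^ e * j)) ^ u = 1 := by
    rw [← pow_mul, show 2 ^ e * j * u = (2 ^ e * u) * j by ring, ← he, pow_mul, pow_orderOf_eq_one,
      one_pow]
  exact Odd.of_dvd_nat hu (orderOf_dvd_of_pow_eq_one h1)

/-- odd order elements of a quotient lift to odd order elements -/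
theorem exists_odd_lift {A B : Type*} [Group A] [Group B] [Finite A] (q : A →* B)
    (hq : Function.Surjective q) (x : B) (hx : Odd (orderOf x)) :
    ∃ a : A, Odd (orderOf a) ∧ q a = x := by
  obtain ⟨a, rfl⟩ := hq x
  obtain ⟨e, u, hu, he⟩ := Nat.exists_eq_two_pow_mul_odd (orderOf_pos a).ne'
  by_cases hr1 : orderOf (q a) = 1
  · refine ⟨1, by simp, ?_⟩
    rw [map_one]
    exact (orderOf_eq_one_iff.mp hr1).symm
  · have hr : 1 < orderOf (q a) := by
      have : orderOf (q a) ≠ 0 := fun h => by
        rw [h] at hx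
        exact absurd hx (by decide)
      omega
    have hcop : Nat.Coprime (2 ^ e) (orderOf (q a)) :=
      Nat.Coprime.pow_left e (Nat.coprime_two_left.mpr hx)
    obtain ⟨j, -, hj⟩ := Nat.exists_mul_mod_eq_one_of_coprime hcop hr
    refine ⟨a ^ (2 ^ e * j), odd_orderOf_pow_two_pow a e u hu he j, ?_⟩
    rw [map_pow, ← pow_mod_orderOf, hj, pow_one]

/-- a finite group whose odd order elements lie in a solvable subgroup is solvable -/
theorem solvable_of_odd_mem {B : Type*} [Group B] [Finite B] (R : Subgroup B)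
    [hR : Group.IsSolvable R] (h : ∀ x : B, Odd (orderOf x) → x ∈ R) : Group.IsSolvable B := by
  let S : Set B := {x | Odd (orderOf x)}
  let T := Subgroup.normalClosure S
  have hTle : T ≤ R := by
    have hsub : Group.conjugatesOfSet S ⊆ S := by
      intro y hy
      rw [Group.mem_conjugatesOfSet_iff] at hy
      obtain ⟨x, hx, hxy⟩ := hy
      obtain ⟨c, hc⟩ := isConj_iff.mp hxy
      show Odd (orderOf y)
      have hsc : SemiconjBy c x y := by
        unfold SemiconjBy
        rw [← hc]; group
      rw [← hsc.orderOf_eq]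
      exact hx
    exact (Subgroup.closure_mono hsub).trans ((Subgroup.closure_le R).mpr h)
  have : Group.IsSolvable T :=
    Group.isSolvable_of_isSolvable_injective (Subgroup.inclusion_injective hTle)
  have hquot : IsPGroup 2 (B ⧸ T) := by
    intro y
    obtain ⟨x, rfl⟩ := QuotientGroup.mk_surjective y
    obtain ⟨e, u, hu, he⟩ := Nat.exists_eq_two_pow_mul_odd (orderOf_pos x).ne'
    refine ⟨e, ?_⟩
    rw [← QuotientGroup.mk_pow, QuotientGroup.eq_one_iff]
    apply Subgroup.subset_normalClosure
    show Odd (orderOf (x ^ 2 ^ e))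
    have := odd_orderOf_pow_two_pow x e u hu he 1
    rwa [mul_one] at this
  have : Group.IsSolvable (B ⧸ T) := by
    have := hquot.isNilpotent
    infer_instance
  exact Group.isSolvable_of_ker_le_range T.subtype (QuotientGroup.mk' T) (by simp)

end Cfsg.Agent.Lib.Helper5.SchreierPrimeA
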