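import Mathlib
import Cfsg.Agent.Lib.Helper4.PrimeDegInv
import Cfsg.Agent.Lib.Helper4.PrimeDegT

set_option autoImplicit false
set_option linter.unusedSectionVars false

namespace Cfsg.Agent.Lib.Helper5.SchreierPrimeB

open Cfsg.Agent.Lib.Helper4

variable {p : ℕ} [hp : Fact p.Prime] {Ω : Type*} [Fintype Ω] [DecidableEq Ω]

theorem label_pow (e : Ω ≃ ZMod p) (π : Equiv.Perm Ω) (he : ∀ a, e (π a) = e a + 1) (j : ℕ) (a : Ω) :
    e ((π ^ j) a) = e a + j := by
  induction j with
  | zero => simp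
  | succ j ih =>
    rw [pow_succ', Equiv.Perm.mul_apply, he, ih]
    push_cast
    ring

/-- the normalizer of a cyclic group of order `p` in the symmetric group of degree `p` is solvable -/
theorem solvable_normalizer_zpowers (hΩ : Fintype.card Ω = p) (π : Equiv.Perm Ω)
    (hπ : orderOf π = p) :
    Group.IsSolvable (Subgroup.normalizer ((Subgroup.zpowers π : Subgroup (Equiv.Perm Ω)) :
      Set (Equiv.Perm Ω))) := by
  obtain ⟨e, he⟩ := PrimeDegInv.labelling_of_order hΩ π hπ
  apply PrimeDegT.solvable_of_transport e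
  apply PrimeDeg.solvable_of_affine
  intro x' hx' ξ
  obtain ⟨x, hx, hxe⟩ := (PrimeDegT.mem_transport e _ x').mp hx'
  have hconj : x * π * x⁻¹ ∈ Subgroup.zpowers π :=
    (Subgroup.mem_normalizer_iff.mp hx π).mp (Subgroup.mem_zpowers π)
  obtain ⟨k, hk⟩ := Subgroup.mem_zpowers_iff.mp hconj
  -- a natural exponent
  obtain ⟨j, hj⟩ : ∃ j : ℕ, π ^ j = x * π * x⁻¹ := by
    have hpos : (0 : ℤ) < (orderOf π : ℤ) := by
      rw [hπ]; exact_mod_cast hp.out.pos
    refine ⟨(k % (orderOf π : ℤ)).toNat, ?_⟩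
    rw [← zpow_natCast, Int.toNat_of_nonneg (Int.emod_nonneg _ hpos.ne'), zpow_mod_orderOf, hk]
  have hstep : ∀ i : ZMod p, x' (i + 1) = x' i + (j : ZMod p) := by
    intro i
    obtain ⟨a, rfl⟩ := e.surjective i
    rw [← he a, hxe, hxe]
    have : x (π a) = (π ^ j) (x a) := by
      rw [hj]
      simp
    rw [this, label_pow e π he]
  have haff := PrimeDegInv.affine_of_step (fun i => x' i) (j : ZMod p) hstep
  have h1 : x' 1 - x' 0 = (j : ZMod p) := by
    have := haff 1
    rw [this]; ring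
  rw [h1]
  have := haff ξ
  rw [this]; ring

end Cfsg.Agent.Lib.Helper5.SchreierPrimeB
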