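import Mathlib

set_option autoImplicit false
set_option linter.unusedSectionVars false

namespace Cfsg.Agent.Lib.Helper5.TwistInc

open Matrix

variable {Ω : Type*} [Fintype Ω] [DecidableEq Ω]

/-- the all-ones matrix -/
def JJ : Matrix Ω Ω ℤ := Matrix.of fun _ _ => 1

@[simp] theorem JJ_apply (x y : Ω) : (JJ : Matrix Ω Ω ℤ) x y = 1 := rfl

theorem JJ_transpose : (JJ : Matrix Ω Ω ℤ)ᵀ = JJ := by
  ext x y; rfl

theorem JJ_mul_JJ : (JJ : Matrix Ω Ω ℤ) * JJ = (Fintype.card Ω : ℤ) • JJ := by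
  ext x y
  simp [Matrix.mul_apply]

/-- invariance of a matrix under a pair of permutations -/
def Inv (M : Matrix Ω Ω ℤ) (f g : Equiv.Perm Ω) : Prop := ∀ x y, M (f x) (g y) = M x y

theorem Inv.mul {M N : Matrix Ω Ω ℤ} {f g h : Equiv.Perm Ω} (hM : Inv M f g) (hN : Inv N g h) :
    Inv (M * N) f h := by
  intro x z
  rw [Matrix.mul_apply, Matrix.mul_apply, ← Equiv.sum_comp g]
  exact Finset.sum_congr rfl fun y _ => by rw [hM, hN]

theorem Inv.transpose {M : Matrix Ω Ω ℤ} {f g : Equiv.Perm Ω} (hM : Inv M f g) : Inv Mᵀ g f :=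
  fun x y => hM y x

/-- a matrix invariant under a doubly transitive group is a combination of `1` and `JJ` -/
theorem exists_eq_of_inv (G : Subgroup (Equiv.Perm Ω))
    (h2 : MulAction.IsMultiplyPretransitive G Ω 2)
    (M : Matrix Ω Ω ℤ) (hM : ∀ g ∈ G, Inv M g g) (o : Ω) :
    ∃ c b : ℤ, M = c • (1 : Matrix Ω Ω ℤ) + b • JJ := by
  have h2' : ∀ {a b c d : Ω}, a ≠ b → c ≠ d → ∃ g : G, g • a = c ∧ g • b = d :=
    MulAction.is_two_pretransitive_iff.mp h2
  have : MulAction.IsPretransitive G Ω :=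
    @MulAction.isPretransitive_of_is_two_pretransitive G Ω _ _ h2
  have hdiag : ∀ x, M x x = M o o := by
    intro x
    obtain ⟨g, hg⟩ := MulAction.exists_smul_eq G o x
    have := hM g g.2 o o
    have hgx : (g : Equiv.Perm Ω) o = x := hg
    rw [hgx] at this
    exact this
  by_cases h : ∃ o', o' ≠ o
  · obtain ⟨o', ho'⟩ := h
    refine ⟨M o o - M o o', M o o', ?_⟩
    ext x y
    by_cases hxy : x = y
    · subst hxy
      simp only [Matrix.add_apply, Matrix.smul_apply, smul_eq_mul, JJ_apply, Matrix.one_apply,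
        if_true, hdiag x]
      ring
    · obtain ⟨g, hg1, hg2⟩ := h2' (Ne.symm ho') hxy
      have := hM g g.2 o o'
      have h1 : (g : Equiv.Perm Ω) o = x := hg1
      have h2 : (g : Equiv.Perm Ω) o' = y := hg2
      rw [h1, h2] at this
      simp only [Matrix.add_apply, Matrix.smul_apply, smul_eq_mul, JJ_apply, Matrix.one_apply,
        if_neg hxy, this]
      ring
  · have h' : ∀ x, x = o := fun x => by
      by_contra hx
      exact h ⟨x, hx⟩
    refine ⟨M o o, 0, ?_⟩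
    ext x y
    rw [h' x, h' y]
    simp only [Matrix.add_apply, Matrix.smul_apply, smul_eq_mul, JJ_apply, Matrix.one_apply,
      if_true]
    ring

theorem pow_mul_JJ (A : Matrix Ω Ω ℤ) (k : ℤ) (hAJ : A * JJ = k • JJ) (j : ℕ) :
    A ^ j * JJ = k ^ j • JJ := by
  induction j with
  | zero => simp
  | succ j ih =>
    rw [pow_succ, Matrix.mul_assoc, hAJ, Matrix.mul_smul, ih, smul_smul, pow_succ, mul_comm]

theorem JJ_mul_pow (A : Matrix Ω Ω ℤ) (k : ℤ) (hJA : JJ * A = k • JJ) (j : ℕ) :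
    JJ * A ^ j = k ^ j • JJ := by
  induction j with
  | zero => simp
  | succ j ih =>
    rw [pow_succ', ← Matrix.mul_assoc, hJA, Matrix.smul_mul, ih, smul_smul, pow_succ, mul_comm]

theorem pow_mul_transpose_pow (A : Matrix Ω Ω ℤ) (k ν lam : ℤ)
    (hAJ : A * JJ = k • JJ) (hAAt : A * Aᵀ = ν • (1 : Matrix Ω Ω ℤ) + lam • JJ) (j : ℕ) :
    ∃ μ : ℤ, A ^ j * Aᵀ ^ j = ν ^ j • (1 : Matrix Ω Ω ℤ) + μ • JJ := by
  have hJAt : JJ * Aᵀ = k • JJ := by
    have := congrArg Matrix.transpose hAJ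
    rw [Matrix.transpose_mul, JJ_transpose, Matrix.transpose_smul, JJ_transpose] at this
    exact this
  induction j with
  | zero => exact ⟨0, by simp⟩
  | succ j ih =>
    obtain ⟨μ, hμ⟩ := ih
    refine ⟨ν * μ + lam * (k ^ j * k ^ j), ?_⟩
    have e1 : A ^ (j + 1) * Aᵀ ^ (j + 1) = A ^ j * (A * Aᵀ) * Aᵀ ^ j := by
      rw [pow_succ, pow_succ']
      simp only [Matrix.mul_assoc]
    rw [e1, hAAt, Matrix.mul_add, Matrix.add_mul, Matrix.mul_smul, Matrix.smul_mul, Matrix.mul_one,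
      hμ, Matrix.mul_smul, Matrix.smul_mul, pow_mul_JJ A k hAJ j, Matrix.smul_mul,
      JJ_mul_pow Aᵀ k hJAt j]
    ext x y
    simp only [Matrix.add_apply, Matrix.smul_apply, smul_eq_mul, JJ_apply, Matrix.one_apply]
    split_ifs <;> ring

/-- the key algebraic consequence -/
theorem key_algebra (A : Matrix Ω Ω ℤ) (k ν lam c b : ℤ) (m : ℕ)
    (hAJ : A * JJ = k • JJ) (hAAt : A * Aᵀ = ν • (1 : Matrix Ω Ω ℤ) + lam • JJ)
    (hB : A ^ m = c • (1 : Matrix Ω Ω ℤ) + b • JJ) (o o' : Ω) (hoo' : o ≠ o') :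
    c + b * (Fintype.card Ω) = k ^ m ∧ c ^ 2 = ν ^ m := by
  constructor
  · have h1 := pow_mul_JJ A k hAJ m
    rw [hB, Matrix.add_mul, Matrix.smul_mul, Matrix.smul_mul, Matrix.one_mul, JJ_mul_JJ] at h1
    have := congrFun (congrFun h1 o) o
    simp only [Matrix.add_apply, Matrix.smul_apply, smul_eq_mul, JJ_apply] at this
    linarith
  · obtain ⟨μ, hμ⟩ := pow_mul_transpose_pow A k ν lam hAJ hAAt m
    have hBt : Aᵀ ^ m = c • (1 : Matrix Ω Ω ℤ) + b • JJ := by
      rw [← Matrix.transpose_pow, hB, Matrix.transpose_add, Matrix.transpose_smul,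
        Matrix.transpose_smul, Matrix.transpose_one, JJ_transpose]
    rw [hB, hBt, Matrix.add_mul, Matrix.mul_add, Matrix.mul_add, Matrix.smul_mul, Matrix.smul_mul,
      Matrix.smul_mul, Matrix.smul_mul, Matrix.mul_smul, Matrix.mul_smul, Matrix.mul_smul,
      Matrix.mul_smul, Matrix.one_mul, Matrix.one_mul, Matrix.mul_one, JJ_mul_JJ] at hμ
    have e1 := congrFun (congrFun hμ o) o
    have e2 := congrFun (congrFun hμ o) o'
    simp only [Matrix.add_apply, Matrix.smul_apply, smul_eq_mul, JJ_apply, Matrix.one_apply,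
      if_true, if_neg hoo'] at e1 e2
    nlinarith


theorem arith_int (N K ν lam c b : ℤ) (m : ℕ) (hm : Odd m) (hK2 : 2 ≤ K) (hKN : K ≤ N - 2)
    (hcop : IsCoprime K N) (h1 : ν + lam = K) (h2 : ν + lam * N = K ^ 2)
    (h3 : c + b * N = K ^ m) (h4 : c ^ 2 = ν ^ m) : False := by
  obtain ⟨t, rfl⟩ := hm
  have hN1 : 0 < N - 1 := by linarith
  have hlam : lam * (N - 1) = K * (K - 1) := by nlinarith
  have hν : ν * (N - 1) = K * (N - K) := by nlinarith
  have hνpos : 0 < ν := by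
    by_contra hneg
    push Not at hneg
    have : ν * (N - 1) ≤ 0 := mul_nonpos_of_nonpos_of_nonneg hneg hN1.le
    have : 0 < K * (N - K) := mul_pos (by linarith) (by linarith)
    linarith
  have hlampos : 0 < lam := by
    by_contra hneg
    push Not at hneg
    have : lam * (N - 1) ≤ 0 := mul_nonpos_of_nonpos_of_nonneg hneg hN1.le
    have : 0 < K * (K - 1) := mul_pos (by linarith) (by linarith)
    linarith
  -- extract the square root
  have hsq : (ν ^ t) ^ 2 ∣ c ^ 2 := by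
    rw [h4]
    exact ⟨ν, by ring⟩
  have hdvd : ν ^ t ∣ c := (Int.pow_dvd_pow_iff (by norm_num)).mp hsq
  obtain ⟨s, hs⟩ := hdvd
  have hνt : ν ^ t ≠ 0 := pow_ne_zero _ hνpos.ne'
  have hs2 : s ^ 2 = ν := by
    have : (ν ^ t) ^ 2 * s ^ 2 = (ν ^ t) ^ 2 * ν := by
      rw [← mul_pow, ← hs, h4]; ring
    exact mul_left_cancel₀ (pow_ne_zero 2 hνt) this
  -- the congruence
  have hmod1 : K ^ 2 ≡ ν [ZMOD N] := by
    rw [Int.modEq_iff_dvd]
    exact ⟨-lam, by linarith⟩
  have hmod2 : K ^ (2 * t + 1) ≡ c [ZMOD N] := by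
    rw [Int.modEq_iff_dvd]
    exact ⟨-b, by linarith⟩
  have hmod3 : c ≡ K ^ (2 * t) * s [ZMOD N] := by
    rw [hs, pow_mul]
    exact (hmod1.symm.pow t).mul_right s
  have hmod4 : K ^ (2 * t) * s ≡ K ^ (2 * t) * K [ZMOD N] := by
    have := (hmod2.trans hmod3).symm
    rwa [pow_succ] at this
  have hdvd2 : N ∣ K ^ (2 * t) * (K - s) := by
    have := (Int.modEq_iff_dvd.mp hmod4)
    rwa [← mul_sub] at this
  have hdvd3 : N ∣ K - s := (hcop.symm.pow_right).dvd_of_dvd_mul_left hdvd2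
  -- bounds on s
  have hsK : s ^ 2 < K ^ 2 := by nlinarith
  have hs_lt : s < K := lt_of_pow_lt_pow_left₀ 2 (by linarith) hsK
  have hs_gt : -K < s := by
    have : (-s) ^ 2 < K ^ 2 := by nlinarith
    have := lt_of_pow_lt_pow_left₀ 2 (by linarith) this
    linarith
  obtain ⟨q, hq⟩ := hdvd3
  have hq1 : q = 1 := by
    have h1 : 0 < N * q := by rw [← hq]; linarith
    have h2 : N * q < N * 2 := by rw [← hq]; linarith
    have hNpos : 0 < N := by linarith
    have : 0 < q := by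
      by_contra h
      push Not at h
      have := mul_nonpos_of_nonneg_of_nonpos hNpos.le h
      linarith
    have : q < 2 := lt_of_mul_lt_mul_left h2 hNpos.le
    omega
  subst hq1
  have hsv : s = K - N := by linarith
  subst hsv
  -- (N-K)^2 (N-1) = K (N-K)
  have hNK : 2 ≤ N - K := by linarith
  have : (N - K) * (N - 1) = K := by
    have h5 : (N - K) * ((N - K) * (N - 1)) = (N - K) * K := by
      rw [← hs2] at hν
      nlinarith
    exact mul_left_cancel₀ (by linarith) h5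
  nlinarith


end Cfsg.Agent.Lib.Helper5.TwistInc
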