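import Mathlib
import Cfsg.Agent.Lib.Helper5.TwistInc

set_option autoImplicit false
set_option linter.unusedSectionVars false

namespace Cfsg.Agent.Lib.Helper5.TwistIncB

open Matrix Cfsg.Agent.Lib.Helper5.TwistInc

variable {Ω : Type*} [Fintype Ω] [DecidableEq Ω] (G : Subgroup (Equiv.Perm Ω)) (α : MulAut G) (o : Ω)
  (Δ : Set Ω)

/-- the subgroup `α(G_o)` -/
abbrev KK : Subgroup G := (MulAction.stabilizer G o).map α.toMonoidHom

open Classical in
/-- the twisted incidence matrix -/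
noncomputable def incMat : Matrix Ω Ω ℤ := fun x y =>
  if ∃ g : G, g • o = y ∧ (α g)⁻¹ • x ∈ Δ then 1 else 0

variable {G α o Δ}

theorem inc_iff (hΔ : ∀ κ ∈ KK G α o, ∀ x, κ • x ∈ Δ ↔ x ∈ Δ) {g : G} {y : Ω} (hg : g • o = y)
    (x : Ω) : (∃ g' : G, g' • o = y ∧ (α g')⁻¹ • x ∈ Δ) ↔ (α g)⁻¹ • x ∈ Δ := by
  constructor
  · rintro ⟨g', hg', hx⟩
    have hmem : g⁻¹ * g' ∈ MulAction.stabilizer G o := by
      rw [MulAction.mem_stabilizer_iff, mul_smul, hg', ← hg, inv_smul_smul]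
    have hκ : α (g⁻¹ * g') ∈ KK G α o := Subgroup.mem_map_of_mem α.toMonoidHom hmem
    have : (α g)⁻¹ • x = α (g⁻¹ * g') • ((α g')⁻¹ • x) := by
      rw [← mul_smul, map_mul, map_inv, mul_assoc, mul_inv_cancel, mul_one]
    rw [this, hΔ _ hκ]
    exact hx
  · intro hx
    exact ⟨g, hg, hx⟩

open Classical in
theorem incMat_apply (hΔ : ∀ κ ∈ KK G α o, ∀ x, κ • x ∈ Δ ↔ x ∈ Δ) {g : G} {y : Ω}
    (hg : g • o = y) (x : Ω) :
    incMat G α o Δ x y = if (α g)⁻¹ • x ∈ Δ then 1 else 0 := by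
  unfold incMat
  exact if_congr (inc_iff hΔ hg x) rfl rfl

theorem incMat_inv [MulAction.IsPretransitive G Ω]
    (hΔ : ∀ κ ∈ KK G α o, ∀ x, κ • x ∈ Δ ↔ x ∈ Δ) (h : G) :
    Inv (incMat G α o Δ) ((α h : G) : Equiv.Perm Ω) (h : Equiv.Perm Ω) := by
  intro x y
  obtain ⟨g, hg⟩ := MulAction.exists_smul_eq G o y
  have hg' : (h * g) • o = (h : Equiv.Perm Ω) y := by rw [mul_smul, hg]; rfl
  rw [incMat_apply hΔ hg', incMat_apply hΔ hg]
  have : (α (h * g))⁻¹ • ((α h : G) : Equiv.Perm Ω) x = (α g)⁻¹ • x := by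
    show (α (h * g))⁻¹ • ((α h) • x) = _
    rw [← mul_smul, map_mul, _root_.mul_inv_rev, mul_assoc, inv_mul_cancel, mul_one]
  rw [this]

open Classical in
theorem sum_indicator (Δ : Set Ω) : ∑ w : Ω, (if w ∈ Δ then (1 : ℤ) else 0) = (Nat.card Δ : ℤ) := by
  rw [Finset.sum_boole, Nat.card_eq_fintype_card, Fintype.card_subtype]

theorem col_sum [MulAction.IsPretransitive G Ω]
    (hΔ : ∀ κ ∈ KK G α o, ∀ x, κ • x ∈ Δ ↔ x ∈ Δ) (y : Ω) :
    ∑ z, incMat G α o Δ z y = (Nat.card Δ : ℤ) := by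
  classical
  obtain ⟨g, hg⟩ := MulAction.exists_smul_eq G o y
  have h1 : ∀ z, incMat G α o Δ z y =
      (fun w => if w ∈ Δ then (1 : ℤ) else 0) ((((α g)⁻¹ : G) : Equiv.Perm Ω) z) :=
    fun z => incMat_apply hΔ hg z
  rw [Finset.sum_congr rfl (fun z _ => h1 z),
    Equiv.sum_comp (((α g)⁻¹ : G) : Equiv.Perm Ω) (fun w => if w ∈ Δ then (1 : ℤ) else 0)]
  exact sum_indicator Δ

theorem row_sum_inv [MulAction.IsPretransitive G Ω]
    (hΔ : ∀ κ ∈ KK G α o, ∀ x, κ • x ∈ Δ ↔ x ∈ Δ) (h : G) (x : Ω) :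
    ∑ y, incMat G α o Δ (((α h : G) : Equiv.Perm Ω) x) y = ∑ y, incMat G α o Δ x y := by
  rw [← Equiv.sum_comp (h : Equiv.Perm Ω)]
  exact Finset.sum_congr rfl fun y _ => incMat_inv hΔ h x y

theorem row_sum [MulAction.IsPretransitive G Ω]
    (hΔ : ∀ κ ∈ KK G α o, ∀ x, κ • x ∈ Δ ↔ x ∈ Δ) (x : Ω) :
    ∑ y, incMat G α o Δ x y = (Nat.card Δ : ℤ) := by
  have hconst : ∀ x, ∑ y, incMat G α o Δ x y = ∑ y, incMat G α o Δ o y := by
    intro x
    obtain ⟨g, hg⟩ := MulAction.exists_smul_eq G o x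
    obtain ⟨h, hh⟩ := α.surjective g
    have := row_sum_inv hΔ h o
    rw [hh] at this
    have hgx : (g : Equiv.Perm Ω) o = x := hg
    rw [hgx] at this
    exact this
  have htot : ∑ x, ∑ y, incMat G α o Δ x y = (Fintype.card Ω : ℤ) * (Nat.card Δ : ℤ) := by
    calc ∑ x, ∑ y, incMat G α o Δ x y = ∑ y, ∑ x, incMat G α o Δ x y := Finset.sum_comm
      _ = ∑ _y : Ω, (Nat.card Δ : ℤ) := Finset.sum_congr rfl (fun y _ => col_sum hΔ y)
      _ = (Fintype.card Ω : ℤ) * (Nat.card Δ : ℤ) := by simp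
  rw [Finset.sum_congr rfl (fun x _ => hconst x)] at htot
  simp only [Finset.sum_const, Finset.card_univ, nsmul_eq_mul] at htot
  have hn : (Fintype.card Ω : ℤ) ≠ 0 := by
    have : 0 < Fintype.card Ω := Fintype.card_pos_iff.mpr ⟨o⟩
    exact_mod_cast this.ne'
  rw [hconst x]
  exact mul_left_cancel₀ hn htot

theorem JJ_mul_incMat [MulAction.IsPretransitive G Ω]
    (hΔ : ∀ κ ∈ KK G α o, ∀ x, κ • x ∈ Δ ↔ x ∈ Δ) :
    JJ * incMat G α o Δ = (Nat.card Δ : ℤ) • JJ := by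
  ext x y
  simp only [Matrix.mul_apply, JJ_apply, one_mul, Matrix.smul_apply, smul_eq_mul, mul_one]
  exact col_sum hΔ y

theorem incMat_mul_JJ [MulAction.IsPretransitive G Ω]
    (hΔ : ∀ κ ∈ KK G α o, ∀ x, κ • x ∈ Δ ↔ x ∈ Δ) :
    incMat G α o Δ * JJ = (Nat.card Δ : ℤ) • JJ := by
  ext x y
  simp only [Matrix.mul_apply, JJ_apply, mul_one, Matrix.smul_apply, smul_eq_mul]
  exact row_sum hΔ x

open Classical in
theorem incMat_sq (x y : Ω) : incMat G α o Δ x y * incMat G α o Δ x y = incMat G α o Δ x y := by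
  unfold incMat
  split_ifs <;> simp

theorem incMat_pow_inv [MulAction.IsPretransitive G Ω]
    (hΔ : ∀ κ ∈ KK G α o, ∀ x, κ • x ∈ Δ ↔ x ∈ Δ) (j : ℕ) (h : G) :
    Inv (incMat G α o Δ ^ j) (((α ^ j) h : G) : Equiv.Perm Ω) (h : Equiv.Perm Ω) := by
  induction j generalizing h with
  | zero =>
    intro x y
    simp only [pow_zero, MulAut.one_apply, Matrix.one_apply, EmbeddingLike.apply_eq_iff_eq]
  | succ j ih =>
    rw [pow_succ', pow_succ', MulAut.mul_apply]
    exact (incMat_inv hΔ ((α ^ j) h)).mul (ih h)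

/-- the main counting theorem: the orbit has length `1` or `n - 1` -/
theorem card_orbit (h2 : MulAction.IsMultiplyPretransitive G Ω 2) (hα : Odd (orderOf α))
    (hΔ : ∀ κ ∈ KK G α o, ∀ x, κ • x ∈ Δ ↔ x ∈ Δ) (hne : Δ.Nonempty)
    (hcop : (Nat.card Δ).Coprime (Fintype.card Ω)) :
    Nat.card Δ = 1 ∨ Nat.card Δ = Fintype.card Ω - 1 := by
  classical
  have : MulAction.IsPretransitive G Ω :=
    @MulAction.isPretransitive_of_is_two_pretransitive G Ω _ _ h2
  set n := Fintype.card Ω with hn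
  set k := Nat.card Δ with hk
  have hk1 : 1 ≤ k := by
    rw [hk, Nat.card_eq_fintype_card]
    obtain ⟨w, hw⟩ := hne
    exact Fintype.card_pos_iff.mpr ⟨⟨w, hw⟩⟩
  have hkn : k ≤ n := by
    rw [hk, hn, Nat.card_eq_fintype_card]
    exact Fintype.card_subtype_le _
  by_contra hcon
  push Not at hcon
  have hn2 : 2 ≤ n := by
    by_contra h
    have : n = 1 := by
      have : 0 < n := Fintype.card_pos_iff.mpr ⟨o⟩
      omega
    omega
  have hkne : k ≠ n := by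
    intro h
    rw [h, Nat.coprime_self] at hcop
    omega
  have hk2 : 2 ≤ k := by omega
  have hkn2 : k + 2 ≤ n := by omega
  -- a second point
  obtain ⟨o', ho'⟩ : ∃ o', o ≠ o' := by
    by_contra h
    push Not at h
    have : n ≤ 1 := by
      rw [hn]
      exact Fintype.card_le_one_iff.mpr (fun a b => by rw [← h a, ← h b])
    omega
  set A := incMat G α o Δ with hA
  have hAJ : A * JJ = (k : ℤ) • JJ := incMat_mul_JJ hΔ
  have hJA : JJ * A = (k : ℤ) • JJ := JJ_mul_incMat hΔ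
  -- A Aᵀ
  have hinvAAt : ∀ g ∈ G, Inv (A * Aᵀ) g g := by
    intro g hg
    obtain ⟨h, hh⟩ := α.surjective ⟨g, hg⟩
    have h1 := incMat_inv (Δ := Δ) hΔ h
    rw [hh] at h1
    exact h1.mul h1.transpose
  obtain ⟨ν, lam, hAAt⟩ := exists_eq_of_inv G h2 (A * Aᵀ) hinvAAt o
  have hdiag : ν + lam = k := by
    have := congrFun (congrFun hAAt o) o
    simp only [Matrix.mul_apply, Matrix.transpose_apply, Matrix.add_apply, Matrix.smul_apply,
      smul_eq_mul, JJ_apply, Matrix.one_apply, if_true, mul_one] at this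
    rw [Finset.sum_congr rfl (fun y _ => incMat_sq (G := G) (α := α) (o := o) (Δ := Δ) o y)] at this
    rw [row_sum hΔ o] at this
    linarith
  have hrow : ν + lam * n = (k : ℤ) ^ 2 := by
    have hJAt : JJ * Aᵀ = (k : ℤ) • JJ := by
      have := congrArg Matrix.transpose hAJ
      rw [Matrix.transpose_mul, JJ_transpose, Matrix.transpose_smul, JJ_transpose] at this
      exact this
    have hAtJ : Aᵀ * JJ = (k : ℤ) • JJ := by
      have := congrArg Matrix.transpose hJA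
      rw [Matrix.transpose_mul, JJ_transpose, Matrix.transpose_smul, JJ_transpose] at this
      exact this
    have e1 : A * Aᵀ * JJ = ((k : ℤ) ^ 2) • JJ := by
      rw [Matrix.mul_assoc, hAtJ, Matrix.mul_smul, hAJ, smul_smul, pow_two]
    rw [hAAt, Matrix.add_mul, Matrix.smul_mul, Matrix.smul_mul, Matrix.one_mul, JJ_mul_JJ] at e1
    have := congrFun (congrFun e1 o) o
    simp only [Matrix.add_apply, Matrix.smul_apply, smul_eq_mul, JJ_apply, mul_one] at this
    rw [← hn] at this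
    linarith
  -- A ^ m
  set m := orderOf α with hm
  have hinvB : ∀ g ∈ G, Inv (A ^ m) g g := by
    intro g hg
    have := incMat_pow_inv (Δ := Δ) hΔ m ⟨g, hg⟩
    rw [hm, pow_orderOf_eq_one, MulAut.one_apply] at this
    rw [hm]
    exact this
  obtain ⟨c, b, hB⟩ := exists_eq_of_inv G h2 (A ^ m) hinvB o
  obtain ⟨e1, e2⟩ := key_algebra A k ν lam c b m hAJ hAAt hB o o' ho'
  rw [← hn] at e1
  exact arith_int (n : ℤ) (k : ℤ) ν lam c b m hα (by exact_mod_cast hk2)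
    (by have : ((k + 2 : ℕ) : ℤ) ≤ n := by exact_mod_cast hkn2
        push_cast at this; linarith)
    (Nat.isCoprime_iff_coprime.mpr hcop) hdiag hrow e1 e2

end Cfsg.Agent.Lib.Helper5.TwistIncB
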