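import Mathlib
import Cfsg.Agent.Lib.Helper5.TwistIncB

set_option autoImplicit false
set_option linter.unusedSectionVars false

namespace Cfsg.Agent.Lib.Helper5.TwistIncC

open Cfsg.Agent.Lib.Helper5.TwistIncB

variable {Ω : Type*} [Fintype Ω] [DecidableEq Ω] {G : Subgroup (Equiv.Perm Ω)} {α : MulAut G} {o : Ω}

theorem card_stabilizer_eq [MulAction.IsPretransitive G Ω] (a b : Ω) :
    Nat.card (MulAction.stabilizer G a) = Nat.card (MulAction.stabilizer G b) := by
  obtain ⟨g, rfl⟩ := MulAction.exists_smul_eq G a b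
  rw [MulAction.stabilizer_smul_eq_stabilizer_map_conj]
  exact (Subgroup.card_map_of_injective (MulAut.conj g).injective).symm

theorem KK_eq_stabilizer [MulAction.IsPretransitive G Ω] (ω' : Ω)
    (hfix : ∀ κ ∈ KK G α o, κ • ω' = ω') : KK G α o = MulAction.stabilizer G ω' := by
  apply Subgroup.eq_of_le_of_card_ge
  · intro κ hκ
    exact MulAction.mem_stabilizer_iff.mpr (hfix κ hκ)
  · rw [card_stabilizer_eq ω' o]
    exact (Subgroup.card_map_of_injective α.injective).ge

/-- an automorphism mapping a point stabilizer to a point stabilizer is induced by a permutation -/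
theorem perm_of_fixed [MulAction.IsPretransitive G Ω] (ω' : Ω)
    (hfix : ∀ κ ∈ KK G α o, κ • ω' = ω') :
    ∃ σ : Equiv.Perm Ω, σ ∈ Subgroup.normalizer (G : Set (Equiv.Perm Ω)) ∧
      ∀ g : G, ((α g : G) : Equiv.Perm Ω) = σ * (g : Equiv.Perm Ω) * σ⁻¹ := by
  classical
  have hK := KK_eq_stabilizer (α := α) (o := o) ω' hfix
  have hch : ∀ x : Ω, ∃ g : G, g • o = x := fun x => MulAction.exists_smul_eq G o x
  let f : Ω → Ω := fun x => α (Classical.choose (hch x)) • ω'
  have hf : ∀ g : G, f (g • o) = α g • ω' := by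
    intro g
    have hc := Classical.choose_spec (hch (g • o))
    set g' := Classical.choose (hch (g • o)) with hg'
    have hmem : g⁻¹ * g' ∈ MulAction.stabilizer G o := by
      rw [MulAction.mem_stabilizer_iff, mul_smul, hc, inv_smul_smul]
    have hκ : α (g⁻¹ * g') ∈ KK G α o := Subgroup.mem_map_of_mem α.toMonoidHom hmem
    have h1 := hfix _ hκ
    show α g' • ω' = α g • ω'
    rw [map_mul, map_inv, mul_smul, inv_smul_eq_iff] at h1
    exact h1
  have hinj : Function.Injective f := by
    intro x y hxy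
    obtain ⟨g, rfl⟩ := hch x
    obtain ⟨g', rfl⟩ := hch y
    rw [hf, hf] at hxy
    have hmem : α (g⁻¹ * g') ∈ MulAction.stabilizer G ω' := by
      rw [MulAction.mem_stabilizer_iff, map_mul, map_inv, mul_smul, ← hxy, inv_smul_smul]
    rw [← hK] at hmem
    obtain ⟨s, hs, hsα⟩ := Subgroup.mem_map.mp hmem
    have hs' : s = g⁻¹ * g' := α.injective hsα
    rw [hs', MulAction.mem_stabilizer_iff, mul_smul, inv_smul_eq_iff] at hs
    exact hs.symm
  have hbij : Function.Bijective f := Finite.injective_iff_bijective.mp hinj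
  let σ : Equiv.Perm Ω := Equiv.ofBijective f hbij
  have hσ : ∀ (h : G) (x : Ω), σ ((h : Equiv.Perm Ω) x) = ((α h : G) : Equiv.Perm Ω) (σ x) := by
    intro h x
    obtain ⟨g, rfl⟩ := hch x
    show f (h • g • o) = α h • f (g • o)
    rw [← mul_smul, hf, hf, map_mul, mul_smul]
  have hconj : ∀ g : G, ((α g : G) : Equiv.Perm Ω) = σ * (g : Equiv.Perm Ω) * σ⁻¹ := by
    intro g
    ext x
    simp only [Equiv.Perm.mul_apply]
    rw [hσ g (σ⁻¹ x)]
    simp
  refine ⟨σ, ?_, hconj⟩
  rw [Subgroup.mem_normalizer_iff]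
  intro p
  constructor
  · intro hp
    have := hconj ⟨p, hp⟩
    rw [← this]
    exact (α ⟨p, hp⟩).2
  · intro hp
    obtain ⟨h, hh⟩ := α.surjective ⟨σ * p * σ⁻¹, hp⟩
    have h1 := hconj h
    rw [hh] at h1
    have : p = (h : Equiv.Perm Ω) := by
      have h2 : σ * p * σ⁻¹ = σ * (h : Equiv.Perm Ω) * σ⁻¹ := h1
      have h3 := mul_right_cancel h2
      exact mul_left_cancel h3
    rw [this]
    exact h.2

end Cfsg.Agent.Lib.Helper5.TwistIncC
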