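import Mathlib
import Cfsg.Prelude.Def_KGroupFacts
import Cfsg.Agent.S4290

set_option autoImplicit false
set_option linter.unusedSectionVars false

namespace Cfsg.Agent.Lib.Helper5.SchreierPrimeC

open Cfsg

variable {Ω : Type*} (Γ : Subgroup (Equiv.Perm Ω))

/-- conjugation by an element of the normalizer, as an automorphism -/
def conjAut (σ : Equiv.Perm Ω) (hσ : σ ∈ Subgroup.normalizer (Γ : Set (Equiv.Perm Ω))) :
    MulAut Γ where
  toFun g := ⟨σ * g * σ⁻¹, (Subgroup.mem_normalizer_iff.mp hσ g).mp g.2⟩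
  invFun g := ⟨σ⁻¹ * g * σ, by
    have := (Subgroup.mem_normalizer_iff.mp (inv_mem hσ) g).mp g.2
    simpa using this⟩
  left_inv g := by ext; simp [mul_assoc]
  right_inv g := by ext; simp [mul_assoc]
  map_mul' g h := by ext; simp [mul_assoc]

theorem conjAut_apply (σ : Equiv.Perm Ω) (hσ : σ ∈ Subgroup.normalizer (Γ : Set (Equiv.Perm Ω)))
    (g : Γ) : ((conjAut Γ σ hσ g : Γ) : Equiv.Perm Ω) = σ * g * σ⁻¹ := rfl

/-- the conjugation action of the normalizer -/
def conjHom : ↥(Subgroup.normalizer (Γ : Set (Equiv.Perm Ω))) →* MulAut Γ where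
  toFun σ := conjAut Γ σ σ.2
  map_one' := by
    ext g
    simp [conjAut_apply]
  map_mul' a b := by
    ext g
    simp [conjAut_apply, mul_assoc]

theorem conjHom_apply (σ : ↥(Subgroup.normalizer (Γ : Set (Equiv.Perm Ω)))) (g : Γ) :
    ((conjHom Γ σ g : Γ) : Equiv.Perm Ω) = (σ : Equiv.Perm Ω) * g * (σ : Equiv.Perm Ω)⁻¹ := rfl

end Cfsg.Agent.Lib.Helper5.SchreierPrimeC
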