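import Mathlib
import Cfsg.Prelude.Def_KGroupFacts
import Cfsg.Agent.S4290
import Cfsg.Agent.Lib.Helper5.SchreierPrimeA
import Cfsg.Agent.Lib.Helper5.SchreierPrimeB
import Cfsg.Agent.Lib.Helper5.SchreierPrimeC

set_option autoImplicit false
set_option linter.unusedSectionVars false

namespace Cfsg.Agent.Lib.Helper5.SchreierPrimeD

open Cfsg Cfsg.Agent.Lib.Helper4 Cfsg.Agent.Lib.Helper5.SchreierPrimeA
  Cfsg.Agent.Lib.Helper5.SchreierPrimeB Cfsg.Agent.Lib.Helper5.SchreierPrimeC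

variable {p : ℕ} [hp : Fact p.Prime] {Ω : Type*} [Fintype Ω] [DecidableEq Ω]

/-- two subgroups of order `p` of a group whose order is not divisible by `p²` are conjugate -/
theorem exists_conj_mem_zpowers {Γ : Type*} [Group Γ] [Finite Γ] (hnot : ¬ p ^ 2 ∣ Nat.card Γ)
    (a b : Γ) (ha : orderOf a = p) (hb : orderOf b = p) :
    ∃ g : Γ, g * b * g⁻¹ ∈ Subgroup.zpowers a := by
  have hpdvd : p ∣ Nat.card Γ := ha ▸ orderOf_dvd_natCard a
  have hfac : (Nat.card Γ).factorization p = 1 := by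
    have h1 : 1 ≤ (Nat.card Γ).factorization p :=
      (hp.out.pow_dvd_iff_le_factorization Nat.card_pos.ne').mp (by simpa using hpdvd)
    have h2 : ¬ 2 ≤ (Nat.card Γ).factorization p := fun h =>
      hnot ((hp.out.pow_dvd_iff_le_factorization Nat.card_pos.ne').mpr h)
    omega
  have hca : Nat.card (Subgroup.zpowers a) = p ^ (Nat.card Γ).factorization p := by
    rw [hfac, pow_one, Nat.card_zpowers, ha]
  have hcb : Nat.card (Subgroup.zpowers b) = p ^ (Nat.card Γ).factorization p := by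
    rw [hfac, pow_one, Nat.card_zpowers, hb]
  obtain ⟨g, hg⟩ := MulAction.exists_smul_eq Γ (Sylow.ofCard _ hcb) (Sylow.ofCard _ hca)
  refine ⟨g, ?_⟩
  have h1 : ((g • Sylow.ofCard _ hcb : Sylow p Γ) : Subgroup Γ) = Subgroup.zpowers a := by
    rw [hg, Sylow.coe_ofCard]
  rw [Sylow.coe_subgroup_smul, Sylow.coe_ofCard] at h1
  rw [← h1]
  have : g * b * g⁻¹ = MulAut.conj g • b := rfl
  rw [this]
  exact Subgroup.smul_mem_pointwise_smul _ _ _ (Subgroup.mem_zpowers b)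

/-- the outer automorphism group of a doubly transitive group of prime degree is solvable -/
theorem out_solvable_perm (hΩ : Fintype.card Ω = p) (Γ : Subgroup (Equiv.Perm Ω))
    (h2 : MulAction.IsMultiplyPretransitive Γ Ω 2) : Group.IsSolvable (Cfsg.Out Γ) := by
  classical
  have hpre : MulAction.IsPretransitive Γ Ω :=
    @MulAction.isPretransitive_of_is_two_pretransitive Γ Ω _ _ h2
  have hne : Nonempty Ω := by
    rw [← Fintype.card_pos_iff, hΩ]; exact hp.out.pos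
  obtain ⟨o⟩ := hne
  have hidx : (MulAction.stabilizer Γ o).index = p := by
    rw [MulAction.index_stabilizer_of_transitive, Nat.card_eq_fintype_card, hΩ]
  have hnot : ¬ p ^ 2 ∣ Nat.card Γ := PrimeDegInv.not_sq_dvd_card hΩ Γ
  have hHall : (Nat.card (MulAction.stabilizer Γ o)).Coprime (MulAction.stabilizer Γ o).index := by
    rw [hidx]
    apply Nat.Coprime.symm
    rw [Nat.Prime.coprime_iff_not_dvd hp.out]
    intro hdvd
    apply hnot
    rw [← Subgroup.card_mul_index (MulAction.stabilizer Γ o), hidx, pow_two]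
    exact Nat.mul_dvd_mul_right hdvd p
  have hperm : ∀ α : MulAut Γ, Odd (orderOf α) →
      ∃ σ : Equiv.Perm Ω, σ ∈ Subgroup.normalizer (Γ : Set (Equiv.Perm Ω)) ∧
        ∀ g : Γ, ((α g : Γ) : Equiv.Perm Ω) = σ * (g : Equiv.Perm Ω) * σ⁻¹ :=
    fun α hα => Cfsg.Agent.S4290.result Γ h2 o hHall α hα
  have hpdvd : p ∣ Nat.card Γ := by
    rw [← Subgroup.card_mul_index (MulAction.stabilizer Γ o), hidx]
    exact dvd_mul_left _ _
  obtain ⟨π, hπ⟩ := exists_prime_orderOf_dvd_card' p hpdvd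
  have hπ' : orderOf (π : Equiv.Perm Ω) = p := by
    rw [Subgroup.orderOf_coe]; exact hπ
  have hsolM₀ : Group.IsSolvable (Subgroup.normalizer
      ((Subgroup.zpowers (π : Equiv.Perm Ω) : Subgroup (Equiv.Perm Ω)) : Set (Equiv.Perm Ω))) :=
    solvable_normalizer_zpowers hΩ (π : Equiv.Perm Ω) hπ'
  -- the subgroup `M` of the normalizer of `Γ` normalizing `⟨π⟩`
  let N := Subgroup.normalizer (Γ : Set (Equiv.Perm Ω))
  let M₀ := Subgroup.normalizer
      ((Subgroup.zpowers (π : Equiv.Perm Ω) : Subgroup (Equiv.Perm Ω)) : Set (Equiv.Perm Ω))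
  let M : Subgroup ↥N := M₀.subgroupOf N
  let ι : ↥M →* ↥M₀ :=
    { toFun := fun x => ⟨((x : ↥N) : Equiv.Perm Ω), x.2⟩
      map_one' := rfl
      map_mul' := fun _ _ => rfl }
  have hι : Function.Injective ι := by
    intro x y hxy
    apply Subtype.ext
    apply Subtype.ext
    exact congrArg (fun z : ↥M₀ => (z : Equiv.Perm Ω)) hxy
  have hsolM : Group.IsSolvable ↥M := Group.isSolvable_of_isSolvable_injective hι
  let Φ : ↥M →* Cfsg.Out Γ :=
    (QuotientGroup.mk' (Cfsg.Inn Γ)).comp ((conjHom Γ).comp M.subtype)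
  have hsolR : Group.IsSolvable Φ.range :=
    Group.isSolvable_of_surjective Φ.rangeRestrict_surjective
  apply solvable_of_odd_mem Φ.range
  intro x hx
  obtain ⟨α, hα, rfl⟩ := exists_odd_lift (QuotientGroup.mk' (Cfsg.Inn Γ))
    (QuotientGroup.mk'_surjective _) x hx
  obtain ⟨σ, hσN, hσ⟩ := hperm α hα
  -- Frattini argument
  have hαπ : orderOf (α π) = p := by
    rw [MulEquiv.orderOf_eq]; exact hπ
  obtain ⟨g, hg⟩ := exists_conj_mem_zpowers hnot π (α π) hπ hαπ
  have hgN : (g : Equiv.Perm Ω) ∈ N := Subgroup.le_normalizer g.2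
  have hμN : (g : Equiv.Perm Ω) * σ ∈ N := mul_mem hgN hσN
  have hμπ : ((g : Equiv.Perm Ω) * σ) * (π : Equiv.Perm Ω) * ((g : Equiv.Perm Ω) * σ)⁻¹ ∈
      Subgroup.zpowers (π : Equiv.Perm Ω) := by
    obtain ⟨k, hk⟩ := Subgroup.mem_zpowers_iff.mp hg
    refine Subgroup.mem_zpowers_iff.mpr ⟨k, ?_⟩
    have h1 := congrArg (fun z : Γ => (z : Equiv.Perm Ω)) hk
    simp only [Subgroup.coe_zpow, Subgroup.coe_mul, Subgroup.coe_inv] at h1
    rw [h1, hσ π]
    simp only [mul_inv_rev, mul_assoc]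
  have hμM₀ : (g : Equiv.Perm Ω) * σ ∈ M₀ := by
    apply Subgroup.mem_normalizer_fintype
    intro n hn
    obtain ⟨k, rfl⟩ := Subgroup.mem_zpowers_iff.mp hn
    have : ((g : Equiv.Perm Ω) * σ) * (π : Equiv.Perm Ω) ^ k * ((g : Equiv.Perm Ω) * σ)⁻¹ =
        (((g : Equiv.Perm Ω) * σ) * (π : Equiv.Perm Ω) * ((g : Equiv.Perm Ω) * σ)⁻¹) ^ k := by
      rw [conj_zpow]
    rw [this]
    exact zpow_mem hμπ k
  refine ⟨⟨⟨(g : Equiv.Perm Ω) * σ, hμN⟩, hμM₀⟩, ?_⟩
  show QuotientGroup.mk' (Cfsg.Inn Γ) (conjHom Γ ⟨(g : Equiv.Perm Ω) * σ, hμN⟩) = _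
  have hfac : conjHom Γ ⟨(g : Equiv.Perm Ω) * σ, hμN⟩ = MulAut.conj g * α := by
    ext h
    rw [conjHom_apply, MulAut.mul_apply, MulAut.conj_apply]
    simp only [Subgroup.coe_mul, Subgroup.coe_inv]
    rw [hσ h]
    simp only [mul_inv_rev, mul_assoc]
  rw [hfac, map_mul]
  have h1 : QuotientGroup.mk' (Cfsg.Inn Γ) (MulAut.conj g) = 1 := by
    rw [QuotientGroup.mk'_apply, QuotientGroup.eq_one_iff]
    exact ⟨g, rfl⟩
  rw [h1, one_mul]

end Cfsg.Agent.Lib.Helper5.SchreierPrimeD
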