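import Mathlib

/-!
# No sharply 2-transitive subset of the projective semilinear group (dimension at least 3)

Elementary double count (O'Nan's divisibility argument done by hand).
-/

set_option autoImplicit false

namespace Cfsg.Agent.Lib.Helper5.Sharp2T

open scoped BigOperators

/-- Abstract double count: if for all `x ∈ X`, `y ∈ Y` exactly one `s ∈ T` sends `pt x` to `pt y`,
then the number of triples is `|X| * |Y|`. -/
theorem sum_card_pairs {Ω V : Type*} [DecidableEq Ω] [DecidableEq V]
    (T : Finset (Equiv.Perm Ω)) (pt : V → Ω) (X Y : Finset V)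
    (h : ∀ x ∈ X, ∀ y ∈ Y, ∃! s, s ∈ T ∧ s (pt x) = pt y) :
    ∑ s ∈ T, ((X ×ˢ Y).filter (fun xy => s (pt xy.1) = pt xy.2)).card = X.card * Y.card := by
  classical
  simp_rw [Finset.card_filter]
  rw [Finset.sum_comm]
  rw [← Finset.card_product, Finset.card_eq_sum_ones]
  apply Finset.sum_congr rfl
  rintro ⟨x, y⟩ hxy
  rw [Finset.mem_product] at hxy
  rw [← Finset.card_filter]
  rw [Finset.card_eq_one]
  obtain ⟨s, ⟨hsT, hs⟩, huniq⟩ := h x hxy.1 y hxy.2
  refine ⟨s, ?_⟩
  ext t
  simp only [Finset.mem_filter, Finset.mem_singleton]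
  constructor
  · rintro ⟨h1, h2⟩; exact huniq t ⟨h1, h2⟩
  · rintro rfl; exact ⟨hsT, hs⟩

variable {F : Type*} [Field F] {n : ℕ}

open Classical in
/-- total "point of a vector" map with default value `a` at zero -/
noncomputable def pt (a : Projectivization F (Fin n → F)) (x : Fin n → F) :
    Projectivization F (Fin n → F) :=
  if h : x = 0 then a else Projectivization.mk F x h

theorem pt_of_ne (a : Projectivization F (Fin n → F)) {x : Fin n → F} (h : x ≠ 0) :
    pt a x = Projectivization.mk F x h := by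
  unfold pt
  exact dif_neg h

/-- For a permutation `s` of the points induced by an injective semilinear map `f`, the number
of pairs `(x, y) ∈ X × Y` of vectors with `s [x] = [y]` is `(q - 1) * #{x ∈ X | f x ∈ Y}`,
provided `Y` is a cone of nonzero vectors. -/
theorem card_pairs_eq [Fintype F] [DecidableEq F] [DecidableEq (Projectivization F (Fin n → F))]
    (a : Projectivization F (Fin n → F))
    (s : Equiv.Perm (Projectivization F (Fin n → F))) (σ : F ≃+* F)
    (f : (Fin n → F) →ₛₗ[(σ : F →+* F)] (Fin n → F)) (hf : Function.Injective f)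
    (hs : ∀ p, s p = Projectivization.map f hf p)
    (X Y : Finset (Fin n → F)) (hX : ∀ x ∈ X, x ≠ 0) (hY0 : ∀ y ∈ Y, y ≠ 0)
    (hY : ∀ y ∈ Y, ∀ c : Fˣ, c • y ∈ Y) :
    ((X ×ˢ Y).filter (fun xy : (Fin n → F) × (Fin n → F) => s (pt a xy.1) = pt a xy.2)).card
      = (Fintype.card F - 1) * (X.filter (fun x => f x ∈ Y)).card := by
  classical
  rw [Finset.card_filter, Finset.sum_product]
  have key : ∀ x ∈ X, (∑ y ∈ Y, if s (pt a x) = pt a y then 1 else 0)
      = if f x ∈ Y then (Fintype.card F - 1) else 0 := by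
    intro x hx
    have hx0 := hX x hx
    have hfx0 : f x ≠ 0 := fun h0 => hx0 (hf (by rw [h0, map_zero]))
    have hsx : s (pt a x) = Projectivization.mk F (f x) hfx0 := by
      rw [pt_of_ne a hx0, hs, Projectivization.map_mk]
    rw [← Finset.card_filter, hsx]
    split_ifs with hmem
    · have himg : Y.filter (fun y => Projectivization.mk F (f x) hfx0 = pt a y)
          = Finset.univ.image (fun c : Fˣ => c • f x) := by
        ext y
        simp only [Finset.mem_filter, Finset.mem_image, Finset.mem_univ, true_and]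
        constructor
        · rintro ⟨hy, hpy⟩
          have hy0 := hY0 y hy
          rw [pt_of_ne a hy0, Projectivization.mk_eq_mk_iff] at hpy
          obtain ⟨c, hc⟩ := hpy
          refine ⟨c⁻¹, ?_⟩
          rw [← hc, smul_smul, inv_mul_cancel, one_smul]
        · rintro ⟨c, rfl⟩
          have hy := hY _ hmem c
          refine ⟨hy, ?_⟩
          rw [pt_of_ne a (hY0 _ hy), Projectivization.mk_eq_mk_iff]
          exact ⟨c⁻¹, by rw [smul_smul, inv_mul_cancel, one_smul]⟩
      rw [himg, Finset.card_image_of_injective, Finset.card_univ, Fintype.card_units]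
      intro c c' hcc
      have hcc' : (c : F) • f x = (c' : F) • f x := hcc
      exact Units.ext (smul_left_injective F hfx0 hcc')
    · rw [Finset.card_eq_zero, Finset.filter_eq_empty_iff]
      intro y hy hpy
      have hy0 := hY0 y hy
      rw [pt_of_ne a hy0, Projectivization.mk_eq_mk_iff] at hpy
      obtain ⟨c, hc⟩ := hpy
      exact hmem (hc ▸ hY y hy c)
  rw [Finset.sum_congr rfl key, Finset.sum_ite, Finset.sum_const, Finset.sum_const_zero, add_zero,
    smul_eq_mul, mul_comm]

/-- The cardinality of a nonzero subspace is divisible by `q`. -/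
theorem dvd_card_submodule [Fintype F] [DecidableEq F] (K : Submodule F (Fin n → F))
    (hK : ∃ x ∈ K, x ≠ 0) (Kf : Finset (Fin n → F)) (hKf : ∀ x, x ∈ Kf ↔ x ∈ K) :
    Fintype.card F ∣ Kf.card := by
  classical
  have h1 : Kf.card = Fintype.card K := (Fintype.card_of_subtype Kf hKf).symm
  rw [h1, Module.card_eq_pow_finrank (K := F) (V := K)]
  apply dvd_pow_self
  obtain ⟨x, hx, hx0⟩ := hK
  have : 0 < Module.finrank F K :=
    Module.finrank_pos_iff_exists_ne_zero.mpr ⟨⟨x, hx⟩, fun h => hx0 (congrArg Subtype.val h)⟩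
  omega

/-- The subspace `{x | x i0 = 0 ∧ (f x) i0 = 0}` for a semilinear `f`. -/
def ksub (i0 : Fin n) (σ : F ≃+* F) (f : (Fin n → F) →ₛₗ[(σ : F →+* F)] (Fin n → F)) :
    Submodule F (Fin n → F) where
  carrier := {x | x i0 = 0 ∧ (f x) i0 = 0}
  add_mem' := by
    intro x y hx hy
    simp only [Set.mem_ofPred_eq] at hx hy ⊢
    refine ⟨by rw [Pi.add_apply, hx.1, hy.1, add_zero], ?_⟩
    rw [map_add, Pi.add_apply, hx.2, hy.2, add_zero]
  zero_mem' := by
    simp only [Set.mem_ofPred_eq]
    exact ⟨rfl, by rw [map_zero]; rfl⟩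
  smul_mem' := by
    intro c x hx
    simp only [Set.mem_ofPred_eq] at hx ⊢
    refine ⟨by rw [Pi.smul_apply, hx.1, smul_zero], ?_⟩
    rw [map_smulₛₗ, Pi.smul_apply, hx.2, smul_zero]

theorem mem_ksub (i0 : Fin n) (σ : F ≃+* F) (f : (Fin n → F) →ₛₗ[(σ : F →+* F)] (Fin n → F))
    (x : Fin n → F) : x ∈ ksub i0 σ f ↔ x i0 = 0 ∧ (f x) i0 = 0 := Iff.rfl

/-- `ksub` is nonzero when `n ≥ 3`. -/
theorem ksub_ne_bot (hn : 3 ≤ n) (σ : F ≃+* F)
    (f : (Fin n → F) →ₛₗ[(σ : F →+* F)] (Fin n → F)) :
    ∃ x ∈ ksub (⟨0, by omega⟩ : Fin n) σ f, x ≠ 0 := by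
  classical
  set i0 : Fin n := ⟨0, by omega⟩ with hi0
  set i1 : Fin n := ⟨1, by omega⟩ with hi1
  set i2 : Fin n := ⟨2, by omega⟩ with hi2
  have h01 : i1 ≠ i0 := by simp [hi0, hi1, Fin.ext_iff]
  have h02 : i2 ≠ i0 := by simp [hi0, hi2, Fin.ext_iff]
  have h12 : i2 ≠ i1 := by simp [hi1, hi2, Fin.ext_iff]
  set e1 : Fin n → F := Pi.single i1 1 with he1
  set e2 : Fin n → F := Pi.single i2 1 with he2
  by_cases hg : (f e1) i0 = 0
  · refine ⟨e1, ⟨?_, hg⟩, ?_⟩
    · rw [he1, Pi.single_apply, if_neg h01.symm]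
    · intro h
      have := congrFun h i1
      rw [he1, Pi.single_eq_same] at this
      exact one_ne_zero this
  · set c : F := σ.symm ((f e2) i0 / (f e1) i0) with hc
    refine ⟨e2 - c • e1, ⟨?_, ?_⟩, ?_⟩
    · rw [Pi.sub_apply, Pi.smul_apply, he1, he2, Pi.single_apply, Pi.single_apply, if_neg h02.symm,
        if_neg h01.symm, smul_zero, sub_zero]
    · rw [map_sub, map_smulₛₗ, Pi.sub_apply, Pi.smul_apply, hc]
      simp only [RingEquiv.coe_toRingHom, RingEquiv.apply_symm_apply, smul_eq_mul]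
      rw [div_mul_cancel₀ _ hg, sub_self]
    · intro h
      have := congrFun h i2
      rw [Pi.sub_apply, Pi.smul_apply, he1, he2, Pi.single_eq_same, Pi.single_apply,
        if_neg h12, smul_zero, sub_zero] at this
      exact one_ne_zero this

end Cfsg.Agent.Lib.Helper5.Sharp2T
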