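import Cfsg.Agent.Lib.Helper5.Sharp2T

set_option autoImplicit false

namespace Cfsg.Agent.Lib.Helper5.Sharp2T

open scoped BigOperators

set_option maxHeartbeats 1600000 in
theorem main {F : Type*} [Field F] [Finite F]
    (n : ℕ) (hn : 3 ≤ n) (S : Set (Equiv.Perm (Projectivization F (Fin n → F))))
    (hS : ∀ s ∈ S, ∃ (σ : F ≃+* F) (f : (Fin n → F) →ₛₗ[(σ : F →+* F)] (Fin n → F))
      (hf : Function.Injective f), ∀ x, s x = Projectivization.map f hf x) :
    ¬ (∀ a b c d : Projectivization F (Fin n → F), a ≠ b → c ≠ d →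
        ∃! s, s ∈ S ∧ s a = c ∧ s b = d) := by
  classical
  intro H
  have : Fintype F := Fintype.ofFinite F
  have : Fintype (Projectivization F (Fin n → F)) := Fintype.ofFinite _
  set q := Fintype.card F with hq
  have hq2 : 2 ≤ q := Fintype.one_lt_card
  set i0 : Fin n := ⟨0, by omega⟩ with hi0
  set i1 : Fin n := ⟨1, by omega⟩ with hi1
  have h01 : i1 ≠ i0 := by simp [hi0, hi1, Fin.ext_iff]
  set e0 : Fin n → F := Pi.single i0 1 with he0
  have he0ne : e0 ≠ 0 := by
    intro h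
    have := congrFun h i0
    rw [he0, Pi.single_eq_same] at this
    exact one_ne_zero this
  set a := Projectivization.mk F e0 he0ne with ha
  set T : Finset (Equiv.Perm (Projectivization F (Fin n → F))) :=
    Finset.univ.filter (fun s => s ∈ S ∧ s a = a) with hTdef
  have hT : ∀ x y, x ≠ a → y ≠ a → ∃! s, s ∈ T ∧ s x = y := by
    intro x y hx hy
    obtain ⟨s, ⟨h1, h2, h3⟩, hu⟩ := H a x a y (Ne.symm hx) (Ne.symm hy)
    refine ⟨s, ⟨by rw [hTdef, Finset.mem_filter]; exact ⟨Finset.mem_univ _, h1, h2⟩, h3⟩, ?_⟩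
    rintro t ⟨ht, ht3⟩
    rw [hTdef, Finset.mem_filter] at ht
    exact hu t ⟨ht.2.1, ht.2.2, ht3⟩
  have hTmem : ∀ s ∈ T, s ∈ S ∧ s a = a := by
    intro s hs
    rw [hTdef, Finset.mem_filter] at hs
    exact hs.2
  -- vectors in the hyperplane give points different from `a`
  have hW : ∀ x : Fin n → F, x ≠ 0 → x i0 = 0 → pt a x ≠ a := by
    intro x hx0 hxi h
    rw [pt_of_ne a hx0, ha, Projectivization.mk_eq_mk_iff] at h
    obtain ⟨c, hc⟩ := h
    have := congrFun hc i0
    rw [Units.smul_def, Pi.smul_apply, he0, Pi.single_eq_same, smul_eq_mul, mul_one, hxi] at this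
    exact c.ne_zero this
  -- Step 1
  set B : Finset (Projectivization F (Fin n → F)) := Finset.univ.erase a with hB
  have hstep1 : T.card * B.card = B.card * B.card := by
    have h := sum_card_pairs T (fun x => x) B B
      (fun x hx y hy => hT x y (Finset.ne_of_mem_erase hx) (Finset.ne_of_mem_erase hy))
    rw [← h, Finset.card_eq_sum_ones T, Finset.sum_mul]
    apply Finset.sum_congr rfl
    intro s hs
    rw [one_mul]
    have hsa := (hTmem s hs).2
    have himg : (B ×ˢ B).filter (fun xy => s xy.1 = xy.2) = B.image (fun x => (x, s x)) := by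
      ext ⟨x, y⟩
      simp only [Finset.mem_filter, Finset.mem_product, Finset.mem_image, Prod.mk.injEq]
      constructor
      · rintro ⟨⟨hx, _⟩, hxy⟩
        exact ⟨x, hx, rfl, hxy⟩
      · rintro ⟨x', hx', rfl, rfl⟩
        refine ⟨⟨hx', ?_⟩, rfl⟩
        exact Finset.mem_erase.mpr ⟨fun h => (Finset.ne_of_mem_erase hx')
          (s.injective (h.trans hsa.symm)), Finset.mem_univ _⟩
    rw [himg, Finset.card_image_of_injective]
    intro x y hxy
    exact (Prod.ext_iff.mp hxy).1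
  set e1 : Fin n → F := Pi.single i1 1 with he1
  have he1ne : e1 ≠ 0 := by
    intro h
    have := congrFun h i1
    rw [he1, Pi.single_eq_same] at this
    exact one_ne_zero this
  have he1i0 : e1 i0 = 0 := by rw [he1, Pi.single_apply, if_neg h01.symm]
  have hBpos : 0 < B.card := by
    apply Finset.card_pos.mpr
    exact ⟨pt a e1, Finset.mem_erase.mpr ⟨hW e1 he1ne he1i0, Finset.mem_univ _⟩⟩
  have hTB : T.card = B.card := Nat.eq_of_mul_eq_mul_right hBpos hstep1
  set v := Fintype.card (Projectivization F (Fin n → F)) with hv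
  have hBv : B.card + 1 = v := by
    rw [hB, Finset.card_erase_of_mem (Finset.mem_univ _), Finset.card_univ]
    have : 0 < v := Fintype.card_pos_iff.mpr ⟨a⟩
    omega
  have hcard : q ^ n = v * (q - 1) + 1 := by
    have := Projectivization.card' F (Fin n → F)
    rw [Nat.card_eq_fintype_card, Nat.card_eq_fintype_card, Nat.card_eq_fintype_card,
      Fintype.card_fun, Fintype.card_fin] at this
    exact this
  have hTq : (q : ℤ) ∣ (T.card : ℤ) := by
    have h1 : ((q : ℤ)) ^ n = (v : ℤ) * ((q : ℤ) - 1) + 1 := by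
      have := congrArg (Nat.cast : ℕ → ℤ) hcard
      push_cast [Nat.cast_sub (by omega : 1 ≤ q)] at this
      exact this
    have h2 : (T.card : ℤ) + 1 = (v : ℤ) := by
      rw [hTB]; exact_mod_cast hBv
    obtain ⟨m, rfl⟩ : ∃ m, n = m + 1 := ⟨n - 1, by omega⟩
    refine ⟨(v : ℤ) - (q : ℤ) ^ m, ?_⟩
    rw [pow_succ] at h1
    linear_combination h2 + h1
  -- Step 2
  set W0 : Finset (Fin n → F) := Finset.univ.filter (fun x => x ≠ 0 ∧ x i0 = 0) with hW0
  have hW0mem : ∀ x, x ∈ W0 ↔ x ≠ 0 ∧ x i0 = 0 := by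
    intro x; rw [hW0, Finset.mem_filter]; simp
  have hstep2 := sum_card_pairs T (pt a) W0 W0
    (fun x hx y hy => hT _ _ (hW x ((hW0mem x).mp hx).1 ((hW0mem x).mp hx).2)
      (hW y ((hW0mem y).mp hy).1 ((hW0mem y).mp hy).2))
  -- Step 3
  have h3 : ∀ s ∈ T, ∃ k : ℕ, q ∣ k ∧ 1 ≤ k ∧
      ((W0 ×ˢ W0).filter (fun xy : (Fin n → F) × (Fin n → F) => s (pt a xy.1) = pt a xy.2)).card
        = (q - 1) * (k - 1) := by
    intro s hs
    obtain ⟨σ, f, hf, hsf⟩ := hS s (hTmem s hs).1
    set Kf : Finset (Fin n → F) := Finset.univ.filter (fun x => x i0 = 0 ∧ (f x) i0 = 0) with hKf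
    have hKfmem : ∀ x, x ∈ Kf ↔ x i0 = 0 ∧ (f x) i0 = 0 := by
      intro x; rw [hKf, Finset.mem_filter]; simp
    have h0K : (0 : Fin n → F) ∈ Kf := by
      rw [hKfmem]; exact ⟨rfl, by rw [map_zero]; rfl⟩
    refine ⟨Kf.card, ?_, Finset.card_pos.mpr ⟨0, h0K⟩, ?_⟩
    · exact dvd_card_submodule (ksub i0 σ f) (ksub_ne_bot hn σ f) Kf
        (fun x => by rw [hKfmem, mem_ksub])
    · rw [card_pairs_eq a s σ f hf hsf W0 W0 (fun x hx => ((hW0mem x).mp hx).1)
        (fun x hx => ((hW0mem x).mp hx).1)]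
      · congr 1
        rw [← Finset.card_erase_of_mem h0K]
        congr 1
        ext x
        rw [Finset.mem_filter, Finset.mem_erase, hW0mem, hW0mem, hKfmem]
        constructor
        · rintro ⟨⟨hx0, hxi⟩, _, hfx⟩
          exact ⟨hx0, hxi, hfx⟩
        · rintro ⟨hx0, hxi, hfx⟩
          exact ⟨⟨hx0, hxi⟩, fun h0 => hx0 (hf (by rw [h0, map_zero])), hfx⟩
      · intro y hy c
        rw [hW0mem] at hy ⊢
        refine ⟨fun h => hy.1 ?_, ?_⟩
        · have := congrArg (fun z => c⁻¹ • z) h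
          simpa [smul_smul] using this
        · rw [Units.smul_def, Pi.smul_apply, hy.2, smul_zero]
  choose! k hk using h3
  -- Step 4
  set Wf : Finset (Fin n → F) := Finset.univ.filter (fun x => x i0 = 0) with hWf
  have hWfmem : ∀ x, x ∈ Wf ↔ x i0 = 0 := by
    intro x; rw [hWf, Finset.mem_filter]; simp
  have h0W : (0 : Fin n → F) ∈ Wf := by rw [hWfmem]; rfl
  have hwq : q ∣ Wf.card := by
    refine dvd_card_submodule (ksub i0 (RingEquiv.refl F) 0) (ksub_ne_bot hn _ _) Wf
      (fun x => ?_)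
    rw [hWfmem, mem_ksub]
    constructor
    · intro h; exact ⟨h, rfl⟩
    · intro h; exact h.1
  have hW0card : W0.card + 1 = Wf.card := by
    have : W0 = Wf.erase 0 := by
      ext x
      rw [hW0mem, Finset.mem_erase, hWfmem]
    rw [this, Finset.card_erase_of_mem h0W]
    have : 0 < Wf.card := Finset.card_pos.mpr ⟨0, h0W⟩
    omega
  -- Step 5: arithmetic
  have hsumk : (q : ℤ) ∣ ∑ s ∈ T, (k s : ℤ) := by
    apply Finset.dvd_sum
    intro s hs
    exact_mod_cast (hk s hs).1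
  have hmain : ((q : ℤ) - 1) * (∑ s ∈ T, (k s : ℤ)) - ((q : ℤ) - 1) * (T.card : ℤ)
      = ((Wf.card : ℤ) - 1) * ((Wf.card : ℤ) - 1) := by
    have h1 : ((W0.card : ℤ)) = (Wf.card : ℤ) - 1 := by
      have := congrArg (Nat.cast : ℕ → ℤ) hW0card
      push_cast at this
      linarith
    rw [← h1]
    have h2 := congrArg (Nat.cast : ℕ → ℤ) hstep2
    push_cast at h2
    rw [← h2, Finset.mul_sum, Finset.card_eq_sum_ones T]
    push_cast
    rw [Finset.mul_sum, ← Finset.sum_sub_distrib]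
    apply Finset.sum_congr rfl
    intro s hs
    obtain ⟨_, hk1, hk2⟩ := hk s hs
    rw [hk2]
    push_cast [Nat.cast_sub hk1, Nat.cast_sub (by omega : 1 ≤ q)]
    ring
  obtain ⟨A, hA⟩ := hsumk
  obtain ⟨Bq, hBq⟩ := hTq
  obtain ⟨C, hC⟩ : (q : ℤ) ∣ (Wf.card : ℤ) := by exact_mod_cast hwq
  have hone : (q : ℤ) * (((q : ℤ) - 1) * A - ((q : ℤ) - 1) * Bq - C * (Wf.card : ℤ) + 2 * C) = 1 := by
    rw [hA, hBq] at hmain
    have hC' := hC
    linear_combination hmain + ((Wf.card : ℤ) - 2) * hC'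
  have hq1 : (q : ℤ) = 1 := Int.eq_one_of_mul_eq_one_right (by positivity) hone
  have : q = 1 := by exact_mod_cast hq1
  omega

end Cfsg.Agent.Lib.Helper5.Sharp2T
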