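import Cfsg.Agent.Lib.Helper5.SidkiP2b

/-!
# S3048 piece (P2): a minimal counterexample to the Sidki pair problem has no nontrivial
abelian normal subgroup
-/

set_option autoImplicit false
set_option linter.style.haveILetI false
set_option linter.unusedSectionVars false

namespace Cfsg.Agent.Lib.Helper5.Sidki

open Cfsg.Agent.H2.Sidki

universe u
variable {G : Type u} [Group G] [Finite G] {V : Subgroup G}

/-- The case of a minimal abelian normal subgroup. -/
theorem no_abelian_normal_of_min (c : Ctx V) (N : Subgroup G) (hN : N.Normal)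
    (hab : ∀ a ∈ N, ∀ b ∈ N, a * b = b * a)
    (hmin : ∀ N' : Subgroup G, N'.Normal → N' ≤ N → N' = ⊥ ∨ N' = N) : N = ⊥ := by
  by_contra hN1
  have hinvN := noInv c N hN hab
  have hVN : V ⊓ N = ⊥ := by
    rw [eq_bot_iff]
    rintro x ⟨hxV, hxN⟩
    exact Subgroup.mem_bot.2 (hinvN x hxN (c.sq x hxV))
  haveI := hN
  obtain ⟨C, hCdef⟩ : ∃ C : Subgroup G, C = Subgroup.centralizer (N : Set G) := ⟨_, rfl⟩
  have hCn : C.Normal := by rw [hCdef]; infer_instance
  have hNC : N ≤ C := by
    intro n hn
    rw [hCdef, Subgroup.mem_centralizer_iff]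
    intro m hm
    exact hab m hm n hn
  -- (a)
  have hCV : C ⊔ V = ⊤ := by
    by_contra hne
    haveI := hCn
    obtain ⟨x, hxV, hx1, hxc⟩ := c.exists_centralizing C V hCn.isSubnormal le_rfl c.ne
      (by rw [Subgroup.normalizer_eq_top]; exact le_top) hne
      (fun h _ v hv ho hinv => c.sidki h v hv ho hinv)
    have hxC : x ∈ C := by
      rw [hCdef, Subgroup.mem_centralizer_iff]
      intro n hn
      exact (hxc n (hNC hn)).symm
    have hZn : (C ⊓ Subgroup.centralizer (C : Set G)).Normal := inferInstance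
    have hZab : ∀ a ∈ C ⊓ Subgroup.centralizer (C : Set G),
        ∀ b ∈ C ⊓ Subgroup.centralizer (C : Set G), a * b = b * a := by
      intro a ha b hb
      exact Subgroup.mem_centralizer_iff.1 hb.2 a ha.1
    have hxZ : x ∈ C ⊓ Subgroup.centralizer (C : Set G) := by
      refine Subgroup.mem_inf.2 ⟨hxC, ?_⟩
      rw [Subgroup.mem_centralizer_iff]
      intro y hy
      exact (hxc y hy).symm
    exact hx1 (noInv c _ hZn hZab x hxZ (c.sq x hxV))
  -- (b)
  have hdich : ∀ v ∈ V, v ∈ C ∨ ∀ n ∈ N, v * n * v⁻¹ = n⁻¹ := by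
    intro v hv
    have hvv := c.sq v hv
    have hvinv : v⁻¹ = v := inv_eq_of_mul_eq_one_left hvv
    have hFn : (N ⊓ Subgroup.centralizer ({v} : Set G)).Normal := by
      constructor
      intro n hn g
      obtain ⟨hnN, hnv⟩ := Subgroup.mem_inf.1 hn
      have hg : g ∈ C ⊔ V := by rw [hCV]; trivial
      haveI := hCn
      rw [← SetLike.mem_coe, Subgroup.normal_mul] at hg
      obtain ⟨a, ha, w, hw, rfl⟩ := Set.mem_mul.1 hg
      have h1 : w * n * w⁻¹ ∈ N := hN.conj_mem n hnN w
      have h2 : a * w * n * (a * w)⁻¹ = w * n * w⁻¹ := by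
        have ha' := ha
        rw [SetLike.mem_coe, hCdef] at ha'
        have := Subgroup.mem_centralizer_iff.1 ha' (w * n * w⁻¹) h1
        calc a * w * n * (a * w)⁻¹ = a * (w * n * w⁻¹) * a⁻¹ := by group
          _ = (w * n * w⁻¹) * a * a⁻¹ := by rw [this]
          _ = w * n * w⁻¹ := by group
      rw [h2]
      refine Subgroup.mem_inf.2 ⟨h1, ?_⟩
      rw [Subgroup.mem_centralizer_iff]
      intro x hx
      rw [Set.mem_singleton_iff] at hx
      subst hx
      have hvn : x * n = n * x := Subgroup.mem_centralizer_iff.1 hnv x rfl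
      have hvw : x * w = w * x := c.comm x hv w hw
      have hvw' : x * w⁻¹ = w⁻¹ * x := c.comm x hv w⁻¹ (V.inv_mem hw)
      calc x * (w * n * w⁻¹) = (x * w) * n * w⁻¹ := by group
        _ = w * (x * n) * w⁻¹ := by rw [hvw]; group
        _ = w * (n * x) * w⁻¹ := by rw [hvn]
        _ = w * n * (x * w⁻¹) := by group
        _ = w * n * (w⁻¹ * x) := by rw [hvw']
        _ = w * n * w⁻¹ * x := by group
    rcases hmin _ hFn inf_le_left with h0 | h0
    · right
      intro n hn
      have hm : n * (v * n * v⁻¹) ∈ N ⊓ Subgroup.centralizer ({v} : Set G) := by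
        have h1 : v * n * v⁻¹ ∈ N := hN.conj_mem n hn v
        refine Subgroup.mem_inf.2 ⟨N.mul_mem hn h1, ?_⟩
        rw [Subgroup.mem_centralizer_iff]
        intro x hx
        rw [Set.mem_singleton_iff] at hx
        subst hx
        have hc := hab n hn (x * n * x⁻¹) h1
        calc x * (n * (x * n * x⁻¹)) = (x * n * x⁻¹) * ((x * x) * n * x⁻¹) := by group
          _ = (x * n * x⁻¹) * (n * x⁻¹) := by rw [hvv, one_mul]
          _ = ((x * n * x⁻¹) * n) * x⁻¹ := by group
          _ = (n * (x * n * x⁻¹)) * x⁻¹ := by rw [hc]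
          _ = (n * (x * n * x⁻¹)) * x := by rw [hvinv]
      rw [h0, Subgroup.mem_bot] at hm
      exact (eq_inv_of_mul_eq_one_right hm)
    · left
      rw [hCdef, Subgroup.mem_centralizer_iff]
      intro n hn
      have : n ∈ N ⊓ Subgroup.centralizer ({v} : Set G) := by rw [h0]; exact hn
      exact (Subgroup.mem_centralizer_iff.1 this.2 v rfl).symm
  by_cases hVC : V ≤ C
  · -- central case
    have hCtop : C = ⊤ := by rw [← hCV]; exact (sup_eq_left.2 hVC).symm
    refine central_case c N hN hN1 ?_ hVN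
    intro n hn g
    have hg : g ∈ C := by rw [hCtop]; trivial
    rw [hCdef] at hg
    exact (Subgroup.mem_centralizer_iff.1 hg n hn).symm
  · obtain ⟨u₀, hu₀V, hu₀C⟩ := SetLike.not_le_iff_exists.1 hVC
    have hu₀inv := (hdich u₀ hu₀V).resolve_left hu₀C
    obtain ⟨h, hhN, hh1⟩ : ∃ h ∈ N, h ≠ 1 := by
      by_contra hcon
      apply hN1
      rw [eq_bot_iff]
      intro x hx
      by_contra hx1
      exact hcon ⟨x, hx, fun h => hx1 (Subgroup.mem_bot.2 h)⟩
    have hhodd : Odd (orderOf h) := odd_orderOf_of_noInv N hinvN h hhN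
    obtain ⟨w, hwV, hw1, hwh⟩ := c.sidki h u₀ hu₀V hhodd (hu₀inv h hhN)
    have hwC : w ∈ C := by
      rcases hdich w hwV with hC | hinv
      · exact hC
      · exfalso
        have h1 : w * h * w⁻¹ = h := by rw [hwh]; group
        have h2 : h = h⁻¹ := by rw [← hinv h hhN, h1]
        have h3 : h * h = 1 := by
          calc h * h = h * h⁻¹ := by rw [← h2]
            _ = 1 := mul_inv_cancel h
        exact hh1 (hinvN h hhN h3)
    have hne1 : V ⊓ C ≠ V := by
      intro h
      have hmem : u₀ ∈ V ⊓ C := by rw [h]; exact hu₀V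
      exact hu₀C hmem.2
    have hne2 : V ⊓ C ≠ ⊥ := by
      intro h
      have : w ∈ V ⊓ C := ⟨hwV, hwC⟩
      rw [h, Subgroup.mem_bot] at this
      exact hw1 this
    exact c.small (V ⊓ C) inf_le_left hne1 hne2
      (sidki_inf c N hinvN C hCdef hCn hCV hdich h hhN hh1)

/-- (P2) no nontrivial abelian normal subgroup. -/
theorem no_abelian_normal (c : Ctx V) (N : Subgroup G) (hN : N.Normal)
    (hab : ∀ a ∈ N, ∀ b ∈ N, a * b = b * a) : N = ⊥ := by
  have key : ∀ n : ℕ, ∀ N : Subgroup G, Nat.card N = n → N.Normal →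
      (∀ a ∈ N, ∀ b ∈ N, a * b = b * a) → N = ⊥ := by
    intro n
    induction n using Nat.strong_induction_on with
    | _ n ih =>
      intro N hcard hN hab
      apply no_abelian_normal_of_min c N hN hab
      intro N' hN' hle
      by_cases heq : N' = N
      · exact Or.inr heq
      · left
        have hlt : Nat.card N' < Nat.card N := by
          have hlt' : N' < N := lt_of_le_of_ne hle heq
          exact Set.Finite.card_lt_card (Set.toFinite (N : Set G))
            (SetLike.coe_ssubset_coe.2 hlt')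
        exact ih (Nat.card N') (hcard ▸ hlt) N' rfl hN'
          (fun a ha b hb => hab a (hle ha) b (hle hb))
  exact key _ N rfl hN hab

end Cfsg.Agent.Lib.Helper5.Sidki
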