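import Cfsg.Agent.H2.SidkiT

/-!
# S3048 piece (P2), part a: basic lemmas (no involutions in abelian normal subgroups,
odd order elements, central case)
-/

set_option autoImplicit false
set_option linter.style.haveILetI false

namespace Cfsg.Agent.Lib.Helper5.Sidki

open Cfsg.Agent.H2.Sidki

universe u
variable {G : Type u} [Group G] [Finite G] {V : Subgroup G}

/-- The elements of square one of an abelian subgroup. -/
def sqOne (A : Subgroup G) (hab : ∀ a ∈ A, ∀ b ∈ A, a * b = b * a) : Subgroup G where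
  carrier := {x | x ∈ A ∧ x * x = 1}
  one_mem' := ⟨A.one_mem, by simp⟩
  mul_mem' := by
    rintro x y ⟨hx, hxx⟩ ⟨hy, hyy⟩
    refine ⟨A.mul_mem hx hy, ?_⟩
    have hc := hab y hy x hx
    calc x * y * (x * y) = x * (y * x) * y := by group
      _ = x * (x * y) * y := by rw [hc]
      _ = (x * x) * (y * y) := by group
      _ = 1 := by rw [hxx, hyy, one_mul]
  inv_mem' := by
    rintro x ⟨hx, hxx⟩
    refine ⟨A.inv_mem hx, ?_⟩
    have : x⁻¹ * x⁻¹ = (x * x)⁻¹ := by group
    rw [this, hxx, inv_one]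

/-- An abelian normal subgroup has no involution. -/
theorem noInv (c : Ctx V) (A : Subgroup G) (hA : A.Normal)
    (hab : ∀ a ∈ A, ∀ b ∈ A, a * b = b * a) : ∀ a ∈ A, a * a = 1 → a = 1 := by
  intro a ha haa
  haveI : Fact (Nat.Prime 2) := ⟨Nat.prime_two⟩
  have hTn : (sqOne A hab).Normal := by
    constructor
    intro x hx g
    obtain ⟨hxA, hxx⟩ := hx
    refine ⟨hA.conj_mem x hxA g, ?_⟩
    calc g * x * g⁻¹ * (g * x * g⁻¹) = g * (x * x) * g⁻¹ := by group
      _ = 1 := by rw [hxx]; group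
  have hT2 : IsPGroup 2 (sqOne A hab) := by
    rintro ⟨x, hx⟩
    refine ⟨1, ?_⟩
    apply Subtype.ext
    have h2 : x ^ 2 ^ 1 = x * x := by rw [pow_one, pow_two]
    show ((⟨x, hx⟩ : sqOne A hab) ^ 2 ^ 1 : sqOne A hab).1 = 1
    rw [Subgroup.coe_pow]
    show x ^ 2 ^ 1 = 1
    rw [h2]; exact hx.2
  have hle : sqOne A hab ≤ Cfsg.pCore 2 G :=
    Cfsg.Agent.H1.le_pCore_of_isSubnormal hTn.isSubnormal hT2
  rw [c.o2] at hle
  have hmem : a ∈ sqOne A hab := ⟨ha, haa⟩
  exact Subgroup.mem_bot.1 (hle hmem)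

/-- An element of odd order whose square lies in a subgroup lies in the subgroup. -/
theorem mem_of_sq_mem_of_odd (C : Subgroup G) (g : G) (hodd : Odd (orderOf g)) (h : g * g ∈ C) :
    g ∈ C := by
  obtain ⟨k, hk⟩ := hodd
  have h1 : g ^ (2 * k + 1) = 1 := by rw [← hk]; exact pow_orderOf_eq_one g
  have h2 : g = (g * g) ^ (k + 1) := by
    calc g = g ^ (2 * k + 1) * g := by rw [h1, one_mul]
      _ = g ^ (2 * (k + 1)) := by rw [← pow_succ]; congr 1
      _ = (g ^ 2) ^ (k + 1) := by rw [pow_mul]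
      _ = (g * g) ^ (k + 1) := by rw [pow_two]
  rw [h2]
  exact C.pow_mem h _

/-- An element of odd order with `h * h = 1` is trivial. -/
theorem eq_one_of_sq_of_odd (h : G) (hodd : Odd (orderOf h)) (hh : h * h = 1) : h = 1 := by
  have : h ∈ (⊥ : Subgroup G) := mem_of_sq_mem_of_odd ⊥ h hodd (by rw [hh]; exact Subgroup.one_mem _)
  exact Subgroup.mem_bot.1 this

/-- If `G = C V` with `C` normal and `V` of exponent two, the odd order elements lie in `C`. -/
theorem mem_of_odd_of_sup_eq_top (c : Ctx V) (C : Subgroup G) (hC : C.Normal) (hCV : C ⊔ V = ⊤)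
    (g : G) (hodd : Odd (orderOf g)) : g ∈ C := by
  apply mem_of_sq_mem_of_odd C g hodd
  have hg : g ∈ C ⊔ V := by rw [hCV]; trivial
  haveI := hC
  rw [← SetLike.mem_coe, Subgroup.normal_mul] at hg
  obtain ⟨a, ha, v, hv, rfl⟩ := Set.mem_mul.1 hg
  have hvv : v * v = 1 := c.sq v hv
  have hvinv : v⁻¹ = v := inv_eq_of_mul_eq_one_left hvv
  have h1 : v * a * v⁻¹ ∈ C := hC.conj_mem a ha v
  have : a * v * (a * v) = a * (v * a * v⁻¹) := by
    rw [hvinv]; group
  rw [this]
  exact C.mul_mem ha h1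

end Cfsg.Agent.Lib.Helper5.Sidki
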