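import Cfsg.Agent.Lib.Helper5.SidkiP2a

/-!
# S3048 piece (P2), part b: the central case and the Sidki property of `V ⊓ C`
-/

set_option autoImplicit false
set_option linter.style.haveILetI false
set_option linter.unusedSectionVars false

namespace Cfsg.Agent.Lib.Helper5.Sidki

open Cfsg.Agent.H2.Sidki

universe u
variable {G : Type u} [Group G] [Finite G] {V : Subgroup G}

/-- In a subgroup without involutions every element has odd order. -/
theorem odd_orderOf_of_noInv (N : Subgroup G) (hinvN : ∀ a ∈ N, a * a = 1 → a = 1) (h : G)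
    (hh : h ∈ N) : Odd (orderOf h) := by
  by_contra hne
  rw [Nat.not_odd_iff_even] at hne
  obtain ⟨k, hk⟩ := hne
  have hpos : 0 < orderOf h := orderOf_pos h
  have h1 : h ^ k * h ^ k = 1 := by rw [← pow_add, ← hk, pow_orderOf_eq_one]
  have h2 : h ^ k = 1 := hinvN _ (N.pow_mem hh k) h1
  have h3 : orderOf h ∣ k := orderOf_dvd_of_pow_eq_one h2
  have : orderOf h ≤ k := Nat.le_of_dvd (by omega) h3
  omega

/-- The central case: a nontrivial central subgroup without involutions is impossible. -/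
theorem central_case (c : Ctx V) (N : Subgroup G) (hN : N.Normal) (hN1 : N ≠ ⊥)
    (hcent : ∀ n ∈ N, ∀ g : G, g * n = n * g) (hVN : V ⊓ N = ⊥) : False := by
  haveI : Fact (Nat.Prime 2) := ⟨Nat.prime_two⟩
  obtain ⟨R, hRn, hNR, hR2, v, hvV, hv1, hvR⟩ := c.quot N hN hN1 hVN
  haveI := hRn
  haveI := hN
  have hker : (QuotientGroup.mk' (N.subgroupOf R)).ker ≤ Subgroup.center R := by
    rw [QuotientGroup.ker_mk']
    intro x hx
    rw [Subgroup.mem_center_iff]
    intro y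
    apply Subtype.ext
    show y.1 * x.1 = x.1 * y.1
    exact hcent x.1 (Subgroup.mem_subgroupOf.1 hx) y.1
  have hQ2 : IsPGroup 2 (↥R ⧸ N.subgroupOf R) := by
    intro x
    induction x using QuotientGroup.induction_on with
    | H r =>
      obtain ⟨k, hk⟩ := hR2 r.1 r.2
      refine ⟨k, ?_⟩
      rw [← QuotientGroup.mk_pow, QuotientGroup.eq_one_iff, Subgroup.mem_subgroupOf]
      simpa using hk
  haveI hQnil : Group.IsNilpotent (↥R ⧸ N.subgroupOf R) := hQ2.isNilpotent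
  haveI hnil : Group.IsNilpotent ↥R := Subgroup.isNilpotent_of_ker_le_center _ hker
  -- a Sylow 2-subgroup containing v
  have hv'1 : (⟨v, hvR⟩ : R) ≠ 1 := fun h => hv1 (congrArg Subtype.val h)
  have hv'2 : (⟨v, hvR⟩ : R) ^ 2 = 1 := by
    apply Subtype.ext
    show v ^ 2 = 1
    rw [pow_two]; exact c.sq v hvV
  have hord : orderOf (⟨v, hvR⟩ : R) = 2 := orderOf_eq_prime hv'2 hv'1
  have hz2 : IsPGroup 2 (Subgroup.zpowers (⟨v, hvR⟩ : R)) := by
    apply IsPGroup.of_card (n := 1)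
    rw [Nat.card_zpowers, hord, pow_one]
  obtain ⟨Q, hQ⟩ := hz2.exists_le_sylow
  haveI hQn : (Q : Subgroup R).Normal := inferInstance
  haveI hQc : (Q : Subgroup R).Characteristic := Sylow.characteristic_of_normal Q hQn
  have hmapn : ((Q : Subgroup R).map R.subtype).Normal := inferInstance
  have hmap2 : IsPGroup 2 ((Q : Subgroup R).map R.subtype) := Q.isPGroup'.map _
  have hle : (Q : Subgroup R).map R.subtype ≤ Cfsg.pCore 2 G :=
    Cfsg.Agent.H1.le_pCore_of_isSubnormal hmapn.isSubnormal hmap2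
  rw [c.o2] at hle
  have hvmem : v ∈ (Q : Subgroup R).map R.subtype :=
    ⟨⟨v, hvR⟩, hQ (Subgroup.mem_zpowers _), rfl⟩
  exact hv1 (Subgroup.mem_bot.1 (hle hvmem))

/-- The key computation: `V ⊓ C` is again a Sidki pair. -/
theorem sidki_inf (c : Ctx V) (N : Subgroup G)
    (hinvN : ∀ a ∈ N, a * a = 1 → a = 1)
    (C : Subgroup G) (hCdef : C = Subgroup.centralizer (N : Set G)) (hCn : C.Normal)
    (hCV : C ⊔ V = ⊤)
    (hdich : ∀ v ∈ V, v ∈ C ∨ ∀ n ∈ N, v * n * v⁻¹ = n⁻¹)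
    (h : G) (hhN : h ∈ N) (hh1 : h ≠ 1) : Cfsg.IsSidkiPair (V ⊓ C) := by
  intro g u hu hgodd hug
  by_contra hno
  replace hno : ∀ w ∈ V ⊓ C, w ≠ 1 → w * g ≠ g * w := by
    intro w hw hw1 hwg
    exact hno ⟨w, hw, hw1, hwg⟩
  obtain ⟨w, hwV, hw1, hwg⟩ := c.sidki g u hu.1 hgodd hug
  have hwC : w ∉ C := fun hwC => hno w ⟨hwV, hwC⟩ hw1 hwg
  have hwinv : ∀ n ∈ N, w * n * w⁻¹ = n⁻¹ := (hdich w hwV).resolve_left hwC
  have hgC : g ∈ C := mem_of_odd_of_sup_eq_top c C hCn hCV g hgodd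
  have hgh : g * h = h * g := by
    rw [hCdef] at hgC; exact (Subgroup.mem_centralizer_iff.1 hgC h hhN).symm
  have huh : u * h = h * u := by
    have := hu.2
    rw [hCdef] at this; exact (Subgroup.mem_centralizer_iff.1 this h hhN).symm
  have hhodd : Odd (orderOf h) := odd_orderOf_of_noInv N hinvN h hhN
  have hghodd : Odd (orderOf (g * h)) := by
    have hd : orderOf (g * h) ∣ orderOf g * orderOf h :=
      Commute.orderOf_mul_dvd_mul_orderOf hgh
    exact Odd.of_dvd_nat (hgodd.mul hhodd) hd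
  have e1 : w * (g * h) * w⁻¹ = g * h⁻¹ := by
    calc w * (g * h) * w⁻¹ = (w * g) * w⁻¹ * (w * h * w⁻¹) := by group
      _ = (g * w) * w⁻¹ * h⁻¹ := by rw [hwg, hwinv h hhN]
      _ = g * h⁻¹ := by group
  have e2 : u * (g * h⁻¹) * u⁻¹ = g⁻¹ * h⁻¹ := by
    calc u * (g * h⁻¹) * u⁻¹ = (u * g * u⁻¹) * (u * h * u⁻¹)⁻¹ := by group
      _ = g⁻¹ * (h * u * u⁻¹)⁻¹ := by rw [hug, huh]
      _ = g⁻¹ * h⁻¹ := by group
  have huw : (u * w) * (g * h) * (u * w)⁻¹ = (g * h)⁻¹ := by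
    calc (u * w) * (g * h) * (u * w)⁻¹ = u * (w * (g * h) * w⁻¹) * u⁻¹ := by group
      _ = g⁻¹ * h⁻¹ := by rw [e1, e2]
      _ = (h * g)⁻¹ := by group
      _ = (g * h)⁻¹ := by rw [hgh]
  obtain ⟨w', hw'V, hw'1, hw'gh⟩ :=
    c.sidki (g * h) (u * w) (V.mul_mem hu.1 hwV) hghodd huw
  by_cases hw'C : w' ∈ C
  · have hw'h : w' * h = h * w' := by
      have := hw'C
      rw [hCdef] at this; exact (Subgroup.mem_centralizer_iff.1 this h hhN).symm
    have hw'g : w' * g = g * w' := by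
      have : w' * g * h = g * w' * h := by
        calc w' * g * h = w' * (g * h) := by group
          _ = (g * h) * w' := hw'gh
          _ = g * (h * w') := by group
          _ = g * (w' * h) := by rw [hw'h]
          _ = g * w' * h := by group
      exact mul_right_cancel this
    exact hno w' ⟨hw'V, hw'C⟩ hw'1 hw'g
  · have hw'inv := (hdich w' hw'V).resolve_left hw'C
    have e3 : w' * g * w'⁻¹ = g * h * h := by
      have : w' * g * w'⁻¹ * h⁻¹ = g * h := by
        calc w' * g * w'⁻¹ * h⁻¹ = w' * g * w'⁻¹ * (w' * h * w'⁻¹) := by rw [hw'inv h hhN]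
          _ = w' * (g * h) * w'⁻¹ := by group
          _ = (g * h) * w' * w'⁻¹ := by rw [hw'gh]
          _ = g * h := by group
      calc w' * g * w'⁻¹ = (w' * g * w'⁻¹ * h⁻¹) * h := by group
        _ = g * h * h := by rw [this]
    have htV : w * w' ∈ V := V.mul_mem hwV hw'V
    have htC : w * w' ∈ C := by
      rw [hCdef, Subgroup.mem_centralizer_iff]
      intro n hn
      have : (w * w') * n * (w * w')⁻¹ = n := by
        calc (w * w') * n * (w * w')⁻¹ = w * (w' * n * w'⁻¹) * w⁻¹ := by group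
          _ = w * n⁻¹ * w⁻¹ := by rw [hw'inv n hn]
          _ = (w * n * w⁻¹)⁻¹ := by group
          _ = n := by rw [hwinv n hn, inv_inv]
      calc n * (w * w') = ((w * w') * n * (w * w')⁻¹) * (w * w') := by rw [this]
        _ = (w * w') * n := by group
    have e4 : (w * w') * g * (w * w')⁻¹ = g * h⁻¹ * h⁻¹ := by
      calc (w * w') * g * (w * w')⁻¹ = w * (w' * g * w'⁻¹) * w⁻¹ := by group
        _ = w * (g * h * h) * w⁻¹ := by rw [e3]
        _ = (w * g) * w⁻¹ * (w * h * w⁻¹) * (w * h * w⁻¹) := by group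
        _ = (g * w) * w⁻¹ * h⁻¹ * h⁻¹ := by rw [hwg, hwinv h hhN]
        _ = g * h⁻¹ * h⁻¹ := by group
    by_cases ht1 : w * w' = 1
    · rw [ht1] at e4
      have h5 : g = g * h⁻¹ * h⁻¹ := by
        rw [← e4]; group
      have h6 : g * 1 = g * (h⁻¹ * h⁻¹) := by rw [mul_one, ← mul_assoc]; exact h5
      have h7 : 1 = h⁻¹ * h⁻¹ := mul_left_cancel h6
      have : h * h = 1 := by
        calc h * h = (h⁻¹ * h⁻¹)⁻¹ := by rw [mul_inv_rev, inv_inv]
          _ = 1 := by rw [← h7, inv_one]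
      exact hh1 (hinvN h hhN this)
    · have htt : (w * w') * (w * w') = 1 := c.sq _ htV
      have hth : (w * w') * h = h * (w * w') := by
        have := htC
        rw [hCdef] at this; exact (Subgroup.mem_centralizer_iff.1 this h hhN).symm
      have e5 : g = g * h⁻¹ * h⁻¹ * h⁻¹ * h⁻¹ := by
        calc g = ((w * w') * (w * w')) * g * ((w * w') * (w * w'))⁻¹ := by rw [htt]; group
          _ = (w * w') * ((w * w') * g * (w * w')⁻¹) * (w * w')⁻¹ := by group
          _ = (w * w') * (g * h⁻¹ * h⁻¹) * (w * w')⁻¹ := by rw [e4]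
          _ = ((w * w') * g * (w * w')⁻¹) * ((w * w') * h * (w * w')⁻¹)⁻¹ *
                ((w * w') * h * (w * w')⁻¹)⁻¹ := by group
          _ = (g * h⁻¹ * h⁻¹) * (h * (w * w') * (w * w')⁻¹)⁻¹ *
                (h * (w * w') * (w * w')⁻¹)⁻¹ := by rw [e4, hth]
          _ = g * h⁻¹ * h⁻¹ * h⁻¹ * h⁻¹ := by group
      have h6 : g * 1 = g * (h⁻¹ * h⁻¹ * h⁻¹ * h⁻¹) := by
        rw [mul_one]
        calc g = g * h⁻¹ * h⁻¹ * h⁻¹ * h⁻¹ := e5
          _ = g * (h⁻¹ * h⁻¹ * h⁻¹ * h⁻¹) := by group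
      have h7 : 1 = h⁻¹ * h⁻¹ * h⁻¹ * h⁻¹ := mul_left_cancel h6
      have h8 : (h * h) * (h * h) = 1 := by
        calc (h * h) * (h * h) = (h⁻¹ * h⁻¹ * h⁻¹ * h⁻¹)⁻¹ := by
              simp only [mul_inv_rev, inv_inv, mul_assoc]
          _ = 1 := by rw [← h7, inv_one]
      have h9 : h * h = 1 := hinvN (h * h) (N.mul_mem hhN hhN) h8
      exact hh1 (hinvN h hhN h9)

end Cfsg.Agent.Lib.Helper5.Sidki
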