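import Mathlib
import Cfsg.Agent.S2234
import Cfsg.Agent.S0246
import Cfsg.Agent.Lib.Helper5.Grp.AntiComm
import Cfsg.Prelude.Def_Classical
import Cfsg.Prelude.Def_EvenType

set_option autoImplicit false

/-!
Bound on subgroups of `Sp_{2m}(F)` (odd characteristic) in which all squares and commutators are `±1`:
their order is at most `m * 2^(m+2)`.  Consequently the 2-rank of `PSp_{2m}(F)` is smaller than `2m`
when `m ≥ 3`.
-/

namespace Cfsg.Agent.Lib.Helper5.SpProj

open Matrix Module
open Cfsg.Agent.S2234 Cfsg.Agent.Lib.Helper5.JointEigen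

variable {F : Type*} [Field F]

/-- `-1` as an element of the symplectic group -/
def negOne (m : ℕ) : symplecticGroup (Fin m) F :=
  ⟨-1, SymplecticGroup.neg_mem (Submonoid.one_mem _)⟩

theorem negOne_val (m : ℕ) :
    ((negOne m : symplecticGroup (Fin m) F) : Matrix (Fin m ⊕ Fin m) (Fin m ⊕ Fin m) F) = -1 := rfl

theorem negOne_comm (m : ℕ) (g : symplecticGroup (Fin m) F) : g * negOne m = negOne m * g := by
  apply Subtype.ext
  simp [negOne_val]

theorem negOne_sq (m : ℕ) : (negOne m : symplecticGroup (Fin m) F) * negOne m = 1 := by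
  apply Subtype.ext
  simp [negOne_val]

theorem negOne_ne_one (h2 : (2:F) ≠ 0) (m : ℕ) (hm : 1 ≤ m) :
    (negOne m : symplecticGroup (Fin m) F) ≠ 1 := by
  intro h
  have h1 := congrArg (fun g : symplecticGroup (Fin m) F =>
    (g : Matrix (Fin m ⊕ Fin m) (Fin m ⊕ Fin m) F) (Sum.inl ⟨0, hm⟩) (Sum.inl ⟨0, hm⟩)) h
  simp only [negOne_val] at h1
  simp at h1
  exact neg_one_ne_one h2 h1

/-- the coordinates of a joint eigenbasis are multiplied by the eigenvalues -/
theorem coord_mulVec {n : Type*} [Fintype n] [DecidableEq n] {κ : Type*} [Fintype κ] [DecidableEq κ]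
    (b : Basis κ F (n → F)) (M : Matrix n n F) (c : κ → F) (h : ∀ j, M *ᵥ b j = c j • b j)
    (w : n → F) (j : κ) : b.repr (M *ᵥ w) j = c j * b.repr w j := by
  have h1 : (Finsupp.lapply j ∘ₗ (b.repr : (n → F) →ₗ[F] (κ →₀ F))) ∘ₗ Matrix.toLin' M =
      c j • (Finsupp.lapply j ∘ₗ (b.repr : (n → F) →ₗ[F] (κ →₀ F))) := by
    apply b.ext
    intro k
    simp only [LinearMap.comp_apply, Matrix.toLin'_apply, h k, LinearMap.smul_apply, map_smul,
      LinearEquiv.coe_coe, Basis.repr_self, Finsupp.lapply_apply,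
      Finsupp.single_apply, smul_eq_mul]
    by_cases hkj : k = j
    · subst hkj; simp
    · simp [hkj]
  have h2 := LinearMap.congr_fun h1 w
  simpa using h2

theorem card_le_mul_centralizer [Fintype F] (h2 : (2:F) ≠ 0) (m : ℕ) (hm : 1 ≤ m)
    (E T C : Subgroup (symplecticGroup (Fin m) F))
    (hTc : ∀ a ∈ T, ∀ b ∈ T, a * b = b * a) (hT2 : ∀ a ∈ T, a * a = 1)
    (hP2 : ∀ g ∈ E, ∀ a ∈ T, g * a = a * g ∨ g * a = negOne m * (a * g))
    (hC : ∀ g ∈ E, (∀ a ∈ T, g * a = a * g) → g ∈ C) :
    Nat.card E ≤ m * Nat.card C := by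
  classical
  have hfinG : Finite ↥(symplecticGroup (Fin m) F) := Subtype.finite
  obtain ⟨b, c, hbc, hpm, -, -⟩ := exists_eigenbasis_matrix h2
    (fun a : T => (a.1.1 : Matrix (Fin m ⊕ Fin m) (Fin m ⊕ Fin m) F))
    (fun a a' => by
      have := hTc a.1 a.2 a'.1 a'.2
      have h1 := congrArg (fun x : ↥(symplecticGroup (Fin m) F) =>
        (x.1 : Matrix (Fin m ⊕ Fin m) (Fin m ⊕ Fin m) F)) this
      simpa using h1)
    (fun a => by
      have := hT2 a.1 a.2
      have h1 := congrArg (fun x : ↥(symplecticGroup (Fin m) F) =>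
        (x.1 : Matrix (Fin m ⊕ Fin m) (Fin m ⊕ Fin m) F)) this
      simpa using h1)
  have hne := neg_one_ne_one h2
  have hpart : ∀ j, ∃ k, k ≠ j ∧ ∀ a, c a k = c a j := by
    intro j
    obtain ⟨k, hk⟩ := exists_partner m b (b j) (b.ne_zero j)
    refine ⟨k, ?_, ?_⟩
    · rintro rfl
      exact hk (sform_self h2 m _)
    · intro a
      have h3 := sform_inv m a.1.1 a.1.2 (b j) (b k)
      rw [hbc a j, hbc a k, sform_smul] at h3
      have h4 : c a j * c a k = 1 := by
        have : (c a j * c a k - 1) * sform m (b j) (b k) = 0 := by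
          rw [sub_mul, h3, one_mul, sub_self]
        rcases mul_eq_zero.1 this with h | h
        · exact sub_eq_zero.1 h
        · exact absurd h hk
      rcases hpm a j with h5 | h5 <;> rcases hpm a k with h6 | h6 <;> rw [h5, h6] at h4 ⊢
      · rw [one_mul] at h4; exact absurd h4 hne
      · rw [mul_one] at h4; exact absurd h4 hne
  choose π hπ hπc using hpart
  have hfr : Module.finrank F (Fin m ⊕ Fin m → F) = m + m := by simp
  -- the set of columns
  let col : Fin (finrank F (Fin m ⊕ Fin m → F)) → (T → F) := fun j a => c a j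
  let X : Finset (T → F) := Finset.image col Finset.univ
  have hX : 2 * X.card ≤ Fintype.card (Fin (finrank F (Fin m ⊕ Fin m → F))) := by
    have h1 := Finset.card_eq_sum_card_image col (Finset.univ : Finset (Fin (finrank F (Fin m ⊕ Fin m → F))))
    rw [Finset.card_univ] at h1
    rw [h1]
    have h2' : ∀ x ∈ X, 2 ≤ (Finset.univ.filter (fun j => col j = x)).card := by
      intro x hx
      obtain ⟨j, -, rfl⟩ := Finset.mem_image.1 hx
      have : 1 < (Finset.univ.filter (fun k => col k = col j)).card := by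
        rw [Finset.one_lt_card]
        refine ⟨j, by simp, π j, ?_, (hπ j).symm⟩
        simp only [Finset.mem_filter, Finset.mem_univ, true_and]
        funext a
        exact hπc j a
      exact this
    calc 2 * X.card = ∑ _x ∈ X, 2 := by rw [Finset.sum_const, smul_eq_mul, mul_comm]
      _ ≤ _ := Finset.sum_le_sum h2'
  have hXm : X.card ≤ m := by
    rw [Fintype.card_fin, hfr] at hX
    omega
  -- the base vector
  have hpos : 0 < finrank F (Fin m ⊕ Fin m → F) := by rw [hfr]; omega
  let j0 : Fin (finrank F (Fin m ⊕ Fin m → F)) := ⟨0, hpos⟩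
  -- the character of g v
  let ψ : E → (T → F) := fun g a => if g.1 * a.1 = a.1 * g.1 then c a j0 else - c a j0
  have hψX : ∀ g : E, ψ g ∈ X := by
    intro g
    set w : Fin m ⊕ Fin m → F := (g.1.1 : Matrix (Fin m ⊕ Fin m) (Fin m ⊕ Fin m) F) *ᵥ b j0 with hw
    have hw0 : w ≠ 0 := by
      intro h0
      have h1 : ((g.1⁻¹ * g.1 : symplecticGroup (Fin m) F) :
          Matrix (Fin m ⊕ Fin m) (Fin m ⊕ Fin m) F) *ᵥ b j0 = 0 := by
        rw [Submonoid.coe_mul, ← Matrix.mulVec_mulVec, ← hw, h0, Matrix.mulVec_zero]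
      rw [inv_mul_cancel] at h1
      simp only [Submonoid.coe_one, Matrix.one_mulVec] at h1
      exact b.ne_zero j0 h1
    have hw1 : ∀ a : T, (a.1.1 : Matrix (Fin m ⊕ Fin m) (Fin m ⊕ Fin m) F) *ᵥ w = ψ g a • w := by
      intro a
      rcases hP2 g.1 g.2 a.1 a.2 with h | h
      · have hm' := congrArg (fun x : ↥(symplecticGroup (Fin m) F) =>
          (x.1 : Matrix (Fin m ⊕ Fin m) (Fin m ⊕ Fin m) F)) h
        simp only [Submonoid.coe_mul] at hm'
        show _ = (if g.1 * a.1 = a.1 * g.1 then c a j0 else - c a j0) • w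
        rw [if_pos h, hw, Matrix.mulVec_mulVec, ← hm', ← Matrix.mulVec_mulVec, hbc a j0,
          Matrix.mulVec_smul]
      · have hm' := congrArg (fun x : ↥(symplecticGroup (Fin m) F) =>
          (x.1 : Matrix (Fin m ⊕ Fin m) (Fin m ⊕ Fin m) F)) h
        simp only [Submonoid.coe_mul, negOne_val, neg_mul, one_mul] at hm'
        have hne' : ¬ (g.1 * a.1 = a.1 * g.1) := by
          intro h'
          rw [h'] at h
          have h3 : negOne m = (1 : symplecticGroup (Fin m) F) := by
            have := mul_right_cancel (a := 1) (b := a.1 * g.1) (c := negOne m)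
              (by rw [one_mul]; exact h)
            exact this.symm
          exact negOne_ne_one h2 m hm h3
        show _ = (if g.1 * a.1 = a.1 * g.1 then c a j0 else - c a j0) • w
        rw [if_neg hne', hw, Matrix.mulVec_mulVec]
        have : (a.1.1 : Matrix (Fin m ⊕ Fin m) (Fin m ⊕ Fin m) F) * g.1.1 =
            -((g.1.1 : Matrix (Fin m ⊕ Fin m) (Fin m ⊕ Fin m) F) * a.1.1) := by
          rw [hm', neg_neg]
        rw [this, Matrix.neg_mulVec, ← Matrix.mulVec_mulVec, hbc a j0, Matrix.mulVec_smul, neg_smul]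
    -- some coordinate of w is nonzero
    have hex : ∃ j, b.repr w j ≠ 0 := by
      by_contra hall
      push Not at hall
      apply hw0
      have : b.repr w = 0 := by
        ext j
        exact hall j
      exact (LinearEquiv.map_eq_zero_iff _).1 this
    obtain ⟨j, hj⟩ := hex
    refine Finset.mem_image.2 ⟨j, Finset.mem_univ _, ?_⟩
    funext a
    have h1 := coord_mulVec b (a.1.1 : Matrix (Fin m ⊕ Fin m) (Fin m ⊕ Fin m) F)
      (fun k => c a k) (fun k => hbc a k) w j
    rw [hw1 a, map_smul, Finsupp.smul_apply, smul_eq_mul] at h1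
    exact (mul_right_cancel₀ hj h1).symm
  -- fibres
  have hfib : ∀ g h : E, ψ g = ψ h → (g.1)⁻¹ * h.1 ∈ C := by
    intro g h hgh
    apply hC _ (E.mul_mem (E.inv_mem g.2) h.2)
    intro a ha
    have h0 := congrFun hgh ⟨a, ha⟩
    have hc0 : c ⟨a, ha⟩ j0 ≠ - c ⟨a, ha⟩ j0 := by
      rcases hpm ⟨a, ha⟩ j0 with h5 | h5 <;> rw [h5]
      · exact fun h => hne h.symm
      · rw [neg_neg]; exact hne
    have hiff : (g.1 * a = a * g.1) ↔ (h.1 * a = a * h.1) := by
      simp only [ψ] at h0
      by_cases h1 : g.1 * a = a * g.1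
      · rw [if_pos h1] at h0
        by_cases h2' : h.1 * a = a * h.1
        · exact ⟨fun _ => h2', fun _ => h1⟩
        · rw [if_neg h2'] at h0
          exact absurd h0 hc0
      · rw [if_neg h1] at h0
        by_cases h2' : h.1 * a = a * h.1
        · rw [if_pos h2'] at h0
          exact absurd h0.symm hc0
        · exact ⟨fun h' => absurd h' h1, fun h' => absurd h' h2'⟩
    by_cases h1 : g.1 * a = a * g.1
    · have h2' := hiff.1 h1
      have h3 : (g.1)⁻¹ * a = a * (g.1)⁻¹ := by
        have : a = (g.1)⁻¹ * (a * g.1) := by rw [← h1]; group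
        calc (g.1)⁻¹ * a = (g.1)⁻¹ * (a * g.1) * (g.1)⁻¹ := by group
          _ = a * (g.1)⁻¹ := by rw [← this]
      calc (g.1)⁻¹ * h.1 * a = (g.1)⁻¹ * (h.1 * a) := by group
        _ = (g.1)⁻¹ * (a * h.1) := by rw [h2']
        _ = ((g.1)⁻¹ * a) * h.1 := by group
        _ = a * (g.1)⁻¹ * h.1 := by rw [h3]
        _ = a * ((g.1)⁻¹ * h.1) := by group
    · have h2' : ¬ (h.1 * a = a * h.1) := fun h' => h1 (hiff.2 h')
      have hg := (hP2 g.1 g.2 a ha).resolve_left h1
      have hh := (hP2 h.1 h.2 a ha).resolve_left h2'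
      have h3 : (g.1)⁻¹ * a = negOne m * (a * (g.1)⁻¹) := by
        have e1 : a = negOne m * ((g.1)⁻¹ * (a * g.1)) := by
          calc a = (g.1)⁻¹ * (g.1 * a) := by group
            _ = (g.1)⁻¹ * (negOne m * (a * g.1)) := by rw [hg]
            _ = ((g.1)⁻¹ * negOne m) * (a * g.1) := by group
            _ = (negOne m * (g.1)⁻¹) * (a * g.1) := by rw [negOne_comm]
            _ = negOne m * ((g.1)⁻¹ * (a * g.1)) := by group
        calc (g.1)⁻¹ * a = negOne m * (negOne m * ((g.1)⁻¹ * a)) := by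
              rw [← mul_assoc, negOne_sq, one_mul]
          _ = negOne m * ((negOne m * ((g.1)⁻¹ * (a * g.1))) * (g.1)⁻¹) := by group
          _ = negOne m * (a * (g.1)⁻¹) := by rw [← e1]
      calc (g.1)⁻¹ * h.1 * a = (g.1)⁻¹ * (h.1 * a) := by group
        _ = (g.1)⁻¹ * (negOne m * (a * h.1)) := by rw [hh]
        _ = ((g.1)⁻¹ * negOne m) * (a * h.1) := by group
        _ = (negOne m * (g.1)⁻¹) * (a * h.1) := by rw [negOne_comm]
        _ = negOne m * (((g.1)⁻¹ * a) * h.1) := by group
        _ = negOne m * ((negOne m * (a * (g.1)⁻¹)) * h.1) := by rw [h3]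
        _ = (negOne m * negOne m) * (a * ((g.1)⁻¹ * h.1)) := by group
        _ = a * ((g.1)⁻¹ * h.1) := by rw [negOne_sq, one_mul]
  -- counting
  have hGfin : Fintype ↥(symplecticGroup (Fin m) F) := Fintype.ofFinite _
  let Efs : Finset ↥(symplecticGroup (Fin m) F) := Finset.univ.filter (fun g => g ∈ E)
  let Cfs : Finset ↥(symplecticGroup (Fin m) F) := Finset.univ.filter (fun g => g ∈ C)
  have hEc : Nat.card E = Efs.card := by
    rw [Nat.card_eq_fintype_card, Fintype.card_subtype]
  have hCc : Nat.card C = Cfs.card := by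
    rw [Nat.card_eq_fintype_card, Fintype.card_subtype]
  let ψ' : ↥(symplecticGroup (Fin m) F) → (T → F) :=
    fun g a => if g * a.1 = a.1 * g then c a j0 else - c a j0
  have hψ' : ∀ g : E, ψ' g.1 = ψ g := fun g => rfl
  have himg : Efs.image ψ' ⊆ X := by
    intro x hx
    obtain ⟨g, hg, rfl⟩ := Finset.mem_image.1 hx
    have hgE : g ∈ E := (Finset.mem_filter.1 hg).2
    exact hψX ⟨g, hgE⟩
  have hcount := Finset.card_le_mul_card_image (f := ψ') Efs Cfs.card (by
    intro x hx
    obtain ⟨g, hg, rfl⟩ := Finset.mem_image.1 hx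
    have hgE : g ∈ E := (Finset.mem_filter.1 hg).2
    apply Finset.card_le_card_of_injOn (fun h => g⁻¹ * h)
    · intro h hh
      have hh' := Finset.mem_filter.1 (Finset.mem_coe.1 hh)
      have hhE : h ∈ E := (Finset.mem_filter.1 hh'.1).2
      refine Finset.mem_coe.2 (Finset.mem_filter.2 ⟨Finset.mem_univ _, ?_⟩)
      exact hfib ⟨g, hgE⟩ ⟨h, hhE⟩ hh'.2.symm
    · intro h _ h' _ hhh
      exact mul_left_cancel hhh)
  rw [hEc, hCc]
  calc Efs.card ≤ Cfs.card * (Efs.image ψ').card := hcount
    _ ≤ Cfs.card * m := Nat.mul_le_mul_left _ ((Finset.card_le_card himg).trans hXm)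
    _ = m * Cfs.card := mul_comm _ _


/-- the main bound -/
theorem card_le_of_pm [Fintype F] (h2 : (2:F) ≠ 0) (m : ℕ) (hm : 1 ≤ m)
    (E : Subgroup (symplecticGroup (Fin m) F)) (hz : negOne m ∈ E)
    (hP1 : ∀ x ∈ E, x * x = 1 ∨ x * x = negOne m)
    (hP2 : ∀ x ∈ E, ∀ y ∈ E, x * y = y * x ∨ x * y = negOne m * (y * x)) :
    Nat.card E ≤ m * (4 * 2 ^ m) := by
  classical
  have hfinG : Finite ↥(symplecticGroup (Fin m) F) := Subtype.finite
  obtain ⟨T, hTE, hzT, hTc, hT2, hmax⟩ :=
    Cfsg.Agent.Lib.Helper5.AntiComm.exists_maximal_elem E (negOne m) hz (negOne_sq m)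
  let C : Subgroup (symplecticGroup (Fin m) F) := E ⊓ Subgroup.centralizer (T : Set _)
  have hTC : T ≤ C := by
    intro t ht
    refine ⟨hTE ht, ?_⟩
    show t ∈ Subgroup.centralizer (T : Set _)
    rw [Subgroup.mem_centralizer_iff]
    intro a ha
    exact hTc a ha t ht
  have h1 : Nat.card E ≤ m * Nat.card C := by
    apply card_le_mul_centralizer h2 m hm E T C hTc hT2
    · intro g hg a ha
      exact hP2 g hg a (hTE ha)
    · intro g hg hga
      refine ⟨hg, ?_⟩
      show g ∈ Subgroup.centralizer (T : Set _)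
      rw [Subgroup.mem_centralizer_iff]
      intro a ha
      exact (hga a ha).symm
  have h3 : Nat.card C ≤ 4 * Nat.card T := by
    apply Cfsg.Agent.Lib.Helper5.AntiComm.card_le_of_anticomm C T (negOne m)
      (negOne_ne_one h2 m hm) (negOne_comm m) (negOne_sq m) hTC
    intro x hx hxT
    rcases hP1 x hx.1 with h | h
    · exfalso
      apply hxT
      apply hmax x hx.1 h
      intro a ha
      have : x ∈ Subgroup.centralizer (T : Set _) := hx.2
      rw [Subgroup.mem_centralizer_iff] at this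
      exact (this a ha).symm
    · exact h
  have h4 : Nat.card T ≤ 2 ^ m := by
    apply upper h2 m T
    · exact ⟨⟨fun a b => Subtype.ext (hTc a.1 a.2 b.1 b.2)⟩⟩
    · intro a ha
      rw [pow_two]
      exact hT2 a ha
  calc Nat.card E ≤ m * Nat.card C := h1
    _ ≤ m * (4 * Nat.card T) := Nat.mul_le_mul_left _ h3
    _ ≤ m * (4 * 2 ^ m) := Nat.mul_le_mul_left _ (Nat.mul_le_mul_left _ h4)


/-- central elements are `±1` -/
theorem center_cases (m : ℕ) (hm : 1 ≤ m) (z : symplecticGroup (Fin m) F)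
    (hz : z ∈ Subgroup.center (symplecticGroup (Fin m) F)) : z = 1 ∨ z = negOne m := by
  obtain ⟨a, ha⟩ := Cfsg.Agent.S0246.center_eq_smul_one m z hz
  have hmem := z.2
  rw [ha, SymplecticGroup.mem_iff] at hmem
  simp only [Matrix.smul_mul, Matrix.one_mul, Matrix.transpose_smul, Matrix.transpose_one,
    Matrix.mul_smul, Matrix.mul_one, smul_smul] at hmem
  have h2 := congrFun (congrFun hmem (Sum.inr ⟨0, hm⟩)) (Sum.inl ⟨0, hm⟩)
  simp [Matrix.J, Matrix.fromBlocks] at h2
  rcases mul_self_eq_one_iff.1 h2 with h | h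
  · left
    apply Subtype.ext
    rw [ha, h, one_smul]; rfl
  · right
    apply Subtype.ext
    rw [ha, h, negOne_val]
    simp

theorem negOne_mem_center (m : ℕ) :
    (negOne m : symplecticGroup (Fin m) F) ∈ Subgroup.center (symplecticGroup (Fin m) F) := by
  rw [Subgroup.mem_center_iff]
  intro g
  exact negOne_comm m g

theorem two_mul_lt_two_pow (m : ℕ) (hm : 3 ≤ m) : 2 * m < 2 ^ m := by
  induction m, hm using Nat.le_induction with
  | base => norm_num
  | succ n hn ih => rw [pow_succ]; omega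

/-- the 2-rank of `PSp_{2m}(q)`, `q` odd, `m ≥ 3`, is smaller than `2m` -/
theorem not_prank_psp [Fintype F] (hodd : Odd (Fintype.card F)) (m : ℕ) (hm : 3 ≤ m) :
    ¬ Cfsg.PRankAtLeast 2 (2 * m) (Cfsg.PSp m F) := by
  classical
  rintro ⟨A, hAc, hA2, hAcard⟩
  have h2 : (2:F) ≠ 0 := two_ne_zero_of_odd hodd
  have hm1 : 1 ≤ m := by omega
  have hfinG : Finite ↥(symplecticGroup (Fin m) F) := Subtype.finite
  let Z := Subgroup.center (symplecticGroup (Fin m) F)
  let π := QuotientGroup.mk' Z
  let E : Subgroup (symplecticGroup (Fin m) F) := A.comap π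
  have hzE : negOne m ∈ E := by
    show π (negOne m) ∈ A
    have : π (negOne m) = 1 := (QuotientGroup.eq_one_iff _).2 (negOne_mem_center m)
    rw [this]
    exact A.one_mem
  have hP1 : ∀ x ∈ E, x * x = 1 ∨ x * x = negOne m := by
    intro x hx
    have h1 : π x ^ 2 = 1 := hA2 _ hx
    have h3 : x * x ∈ Z := by
      rw [← QuotientGroup.eq_one_iff]
      show π (x * x) = 1
      rw [map_mul, ← pow_two, h1]
    exact center_cases m hm1 _ h3
  have hP2 : ∀ x ∈ E, ∀ y ∈ E, x * y = y * x ∨ x * y = negOne m * (y * x) := by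
    intro x hx y hy
    have h1 : π x * π y = π y * π x := by
      have := hAc.is_comm.comm ⟨π x, hx⟩ ⟨π y, hy⟩
      exact congrArg Subtype.val this
    have h3 : (y * x)⁻¹ * (x * y) ∈ Z := by
      rw [← QuotientGroup.eq_one_iff]
      show π ((y * x)⁻¹ * (x * y)) = 1
      rw [map_mul, map_inv, map_mul, map_mul, h1, inv_mul_cancel]
    rcases center_cases m hm1 _ h3 with h | h
    · left
      have := congrArg (fun t => (y * x) * t) h
      simp only [mul_inv_cancel_left, mul_one] at this
      exact this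
    · right
      have := congrArg (fun t => (y * x) * t) h
      simp only [mul_inv_cancel_left] at this
      rw [this, negOne_comm]
  have hbound := card_le_of_pm h2 m hm1 E hzE hP1 hP2
  -- |E| = 2 |A|
  have hZ : Nat.card Z = 2 := by
    have := Cfsg.Agent.S0246.result (F := F) rfl m hm1
    rw [this]
    obtain ⟨k, hk⟩ := hodd
    rw [hk]
    have : 2 * k + 1 - 1 = 2 * k := by omega
    rw [this]
    exact Nat.gcd_mul_right_right _ _ |>.symm ▸ (by simp)
  have hsurj : Function.Surjective π := QuotientGroup.mk'_surjective Z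
  have hidx : E.index = A.index := Subgroup.index_comap_of_surjective A hsurj
  have h5 := Subgroup.card_mul_index E
  have h6 := Subgroup.card_mul_index A
  have h7 := Subgroup.card_eq_card_quotient_mul_card_subgroup Z
  have hpos : 0 < A.index := by
    have : Finite (Cfsg.PSp m F) := by
      show Finite (symplecticGroup (Fin m) F ⧸ Z)
      infer_instance
    exact Nat.pos_of_ne_zero (Subgroup.index_ne_zero_of_finite)
  have hE : Nat.card E = 2 * Nat.card A := by
    have h8 : Nat.card E * A.index = (Nat.card A * 2) * A.index := by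
      rw [← hidx, h5, h7, hZ, ← h6, hidx]
      ring
    have := Nat.eq_of_mul_eq_mul_right hpos h8
    rw [this, mul_comm]
  have h9 := two_mul_lt_two_pow m hm
  have h10 : 2 ^ (2 * m) = 2 ^ m * 2 ^ m := by rw [two_mul, pow_add]
  rw [h10] at hAcard
  have h11 : 2 * (2 ^ m * 2 ^ m) ≤ m * (4 * 2 ^ m) := by
    calc 2 * (2 ^ m * 2 ^ m) ≤ 2 * Nat.card A := Nat.mul_le_mul_left _ hAcard
      _ = Nat.card E := hE.symm
      _ ≤ _ := hbound
  have hp : 0 < 2 ^ m := Nat.pos_of_ne_zero (by positivity)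
  have h12 : m * (4 * 2 ^ m) = (2 * (2 * m)) * 2 ^ m := by ring
  have h13 : 2 * (2 ^ m * 2 ^ m) = (2 * 2 ^ m) * 2 ^ m := by ring
  rw [h12, h13] at h11
  have := Nat.le_of_mul_le_mul_right h11 hp
  omega

end Cfsg.Agent.Lib.Helper5.SpProj
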