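import Mathlib

/-! # Two small lemmas on central extensions: involution lifts and twisting a section by a sign

Used for the seed word of the O'Nan multiplier certificate: two involutions over the same element
differ by a central element of square one, and a section `s : H →* E` can be twisted by a
homomorphism `χ : H →* Multiplicative (ZMod 2)` and a central element of square one. -/

set_option autoImplicit false

namespace Cfsg.Agent.Lib.Helper5.StemTwist

/-- two elements of square one over the same element differ by a central element of square one -/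
theorem exists_central_of_sq_one {E G : Type*} [Group E] [Group G] (σ : E →* G)
    (hc : σ.ker ≤ Subgroup.center E) {u v : E} (hu : u * u = 1) (hv : v * v = 1)
    (huv : σ u = σ v) : ∃ k : E, k ∈ σ.ker ∧ k * k = 1 ∧ u = v * k := by
  refine ⟨v⁻¹ * u, ?_, ?_, by group⟩
  · rw [MonoidHom.mem_ker, map_mul, map_inv, huv, inv_mul_cancel]
  · have hk : v⁻¹ * u ∈ Subgroup.center E := hc (by
      rw [MonoidHom.mem_ker, map_mul, map_inv, huv, inv_mul_cancel])
    have hcomm : ∀ x : E, x * (v⁻¹ * u) = (v⁻¹ * u) * x := fun x =>
      Subgroup.mem_center_iff.mp hk x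
    have hvi : v⁻¹ = v := inv_eq_of_mul_eq_one_left hv
    calc v⁻¹ * u * (v⁻¹ * u) = v⁻¹ * (u * (v⁻¹ * u)) := by group
      _ = v⁻¹ * ((v⁻¹ * u) * u) := by rw [hcomm u]
      _ = v⁻¹ * v⁻¹ * (u * u) := by group
      _ = 1 := by rw [hu, hvi, hv, mul_one]

/-- the homomorphism from the group of order two given by an element of square one -/
def signHom {E : Type*} [Group E] (k : E) (hk2 : k * k = 1) : Multiplicative (ZMod 2) →* E where
  toFun x := if x = 1 then 1 else k
  map_one' := by simp
  map_mul' := by
    intro x y
    have h2 : ∀ z : Multiplicative (ZMod 2), z = 1 ∨ z = Multiplicative.ofAdd (1 : ZMod 2) := by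
      intro z
      have : ∀ t : ZMod 2, t = 0 ∨ t = 1 := by decide
      rcases this (Multiplicative.toAdd z) with h | h
      · left; exact Multiplicative.toAdd.injective h
      · right; exact Multiplicative.toAdd.injective h
    have hne : (Multiplicative.ofAdd (1 : ZMod 2)) ≠ 1 := by
      intro h
      have : (1 : ZMod 2) = 0 := Multiplicative.ofAdd.injective h
      exact absurd this (by decide)
    have hsq : (Multiplicative.ofAdd (1 : ZMod 2)) * (Multiplicative.ofAdd (1 : ZMod 2)) = 1 := by
      rw [← ofAdd_add]
      have : (1 : ZMod 2) + 1 = 0 := by decide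
      rw [this]; rfl
    rcases h2 x with rfl | rfl <;> rcases h2 y with rfl | rfl
    · simp
    · simp
    · simp
    · rw [hsq]; simp [hne, hk2]

theorem signHom_one {E : Type*} [Group E] (k : E) (hk2 : k * k = 1) :
    signHom k hk2 1 = 1 := by simp [signHom]

theorem signHom_of_ne {E : Type*} [Group E] (k : E) (hk2 : k * k = 1)
    {x : Multiplicative (ZMod 2)} (hx : x ≠ 1) : signHom k hk2 x = k := by simp [signHom, hx]

/-- a section twisted by a sign and a central element of square one -/
def twist {H E : Type*} [Group H] [Group E] (s : H →* E) (χ : H →* Multiplicative (ZMod 2))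
    (k : E) (hk : k ∈ Subgroup.center E) (hk2 : k * k = 1) : H →* E where
  toFun h := s h * signHom k hk2 (χ h)
  map_one' := by simp
  map_mul' := by
    intro a b
    have hcen : ∀ x : Multiplicative (ZMod 2), signHom k hk2 x ∈ Subgroup.center E := by
      intro x
      by_cases hx : x = 1
      · rw [hx, signHom_one]; exact Subgroup.one_mem _
      · rw [signHom_of_ne k hk2 hx]; exact hk
    have hcomm : s b * signHom k hk2 (χ a) = signHom k hk2 (χ a) * s b :=
      Subgroup.mem_center_iff.mp (hcen (χ a)) (s b)
    calc s (a * b) * signHom k hk2 (χ (a * b))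
        = s a * s b * (signHom k hk2 (χ a) * signHom k hk2 (χ b)) := by
          rw [map_mul, map_mul, map_mul]
      _ = s a * (s b * signHom k hk2 (χ a)) * signHom k hk2 (χ b) := by group
      _ = s a * (signHom k hk2 (χ a) * s b) * signHom k hk2 (χ b) := by rw [hcomm]
      _ = s a * signHom k hk2 (χ a) * (s b * signHom k hk2 (χ b)) := by group

theorem twist_apply_of_one {H E : Type*} [Group H] [Group E] (s : H →* E)
    (χ : H →* Multiplicative (ZMod 2)) (k : E) (hk : k ∈ Subgroup.center E) (hk2 : k * k = 1)
    {h : H} (hh : χ h = 1) : twist s χ k hk hk2 h = s h := by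
  show s h * signHom k hk2 (χ h) = s h
  rw [hh, signHom_one, mul_one]

theorem twist_apply_of_ne {H E : Type*} [Group H] [Group E] (s : H →* E)
    (χ : H →* Multiplicative (ZMod 2)) (k : E) (hk : k ∈ Subgroup.center E) (hk2 : k * k = 1)
    {h : H} (hh : χ h ≠ 1) : twist s χ k hk hk2 h = s h * k := by
  show s h * signHom k hk2 (χ h) = s h * k
  rw [signHom_of_ne k hk2 hh]

/-- the twisted map is still a section when `k` lies in the kernel -/
theorem twist_section {H E G : Type*} [Group H] [Group E] [Group G] (σ : E →* G) (ι : H →* G)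
    (s : H →* E) (hs : ∀ h, σ (s h) = ι h) (χ : H →* Multiplicative (ZMod 2)) (k : E)
    (hk : k ∈ Subgroup.center E) (hk2 : k * k = 1) (hkσ : σ k = 1) (h : H) :
    σ (twist s χ k hk hk2 h) = ι h := by
  by_cases hh : χ h = 1
  · rw [twist_apply_of_one s χ k hk hk2 hh, hs]
  · rw [twist_apply_of_ne s χ k hk hk2 hh, map_mul, hs, hkσ, mul_one]

end Cfsg.Agent.Lib.Helper5.StemTwist
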