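import Cfsg.Agent.Lib.Helper5.SuzukiSylow
import Mathlib

set_option autoImplicit false
open Cfsg
open scoped Matrix Pointwise commutatorElement
open Cfsg.Agent.S0335

/-!
# Field lemmas for the minimal degree of the Suzuki groups
-/

namespace Cfsg.Agent.Lib.Helper5.Suzuki

section fieldchar
variable {F : Type*} [Field F] [Fintype F] [CharP F 2] (m : ℕ)
set_option linter.unusedSectionVars false

/-- the additive map `u ↦ σ(u) + u` -/
def trHom : F →+ F where
  toFun u := sg m u + u
  map_zero' := by rw [sg_zero, add_zero]
  map_add' a b := by rw [sg_add]; ring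

theorem trHom_apply (u : F) : trHom m u = sg m u + u := rfl

variable (hF : Fintype.card F = 2 ^ (2 * m + 1))
include hF

theorem mem_ker_trHom (u : F) : u ∈ (trHom m : F →+ F).ker ↔ u = 0 ∨ u = 1 := by
  have h2 := two_eq_zero' (F := F)
  rw [AddMonoidHom.mem_ker, trHom_apply]
  constructor
  · intro h
    apply sg_eq_self m hF
    linear_combination h - u * h2
  · rintro (rfl | rfl)
    · rw [sg_zero, add_zero]
    · rw [sg_one]
      linear_combination h2

theorem card_ker_trHom : Nat.card (trHom m : F →+ F).ker = 2 := by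
  classical
  have : ((trHom m : F →+ F).ker : Set F) = {0, 1} := by
    ext u
    rw [SetLike.mem_coe, mem_ker_trHom m hF]
    simp
  have h : Nat.card (trHom m : F →+ F).ker = Nat.card ((trHom m : F →+ F).ker : Set F) := rfl
  rw [h, Nat.card_coe_set_eq, this, Set.ncard_pair zero_ne_one]

theorem index_range_trHom : (trHom m : F →+ F).range.index = 2 := by
  have h1 := AddSubgroup.card_mul_index (trHom m : F →+ F).ker
  rw [AddSubgroup.index_ker, card_ker_trHom m hF] at h1
  have h2 := AddSubgroup.card_mul_index (trHom m : F →+ F).range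
  have hpos : 0 < Nat.card (trHom m : F →+ F).range := Nat.card_pos
  rw [← h1] at h2
  have h3 : Nat.card (trHom m : F →+ F).range * (trHom m : F →+ F).range.index
      = Nat.card (trHom m : F →+ F).range * 2 := by rw [h2]; ring
  exact Nat.eq_of_mul_eq_mul_left hpos h3

theorem one_not_mem_range : (1 : F) ∉ (trHom m : F →+ F).range := by
  rintro ⟨t, ht⟩
  exact sg_add_ne_one m hF t ht

theorem add_mem_range_of_not_mem {x y : F} (hx : x ∉ (trHom m : F →+ F).range)
    (hy : y ∉ (trHom m : F →+ F).range) : x + y ∈ (trHom m : F →+ F).range := by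
  rw [AddSubgroup.add_mem_iff_of_index_two (index_range_trHom m hF)]
  exact ⟨fun h => absurd h hx, fun h => absurd h hy⟩

/-- a nonzero multiplier stabilising `H` does not lie in `H` -/
theorem not_mem_of_stable {e : F} (he : e ≠ 0)
    (hst : ∀ h ∈ (trHom m : F →+ F).range, e * h ∈ (trHom m : F →+ F).range) :
    e ∉ (trHom m : F →+ F).range := by
  intro hmem
  have hpow : ∀ k : ℕ, ∀ h ∈ (trHom m : F →+ F).range, e ^ k * h ∈ (trHom m : F →+ F).range := by
    intro k
    induction k with
    | zero => intro h hh; rwa [pow_zero, one_mul]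
    | succ k ih =>
      intro h hh
      rw [pow_succ, mul_assoc]
      exact ih _ (hst h hh)
  have hq : e ^ (Fintype.card F - 1) = 1 := FiniteField.pow_card_sub_one_eq_one e he
  have hcard : 2 ≤ Fintype.card F := by
    rw [hF]
    calc 2 = 2 ^ 1 := by norm_num
      _ ≤ 2 ^ (2 * m + 1) := Nat.pow_le_pow_right (by norm_num) (by omega)
  have h1 : e ^ (Fintype.card F - 2) * e = 1 := by
    rw [← pow_succ]
    have : Fintype.card F - 2 + 1 = Fintype.card F - 1 := by omega
    rw [this, hq]
  have := hpow (Fintype.card F - 2) e hmem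
  rw [h1] at this
  exact one_not_mem_range m hF this

/-- the only nonzero multiplier stabilising `H` is `1` -/
theorem eq_one_of_stable {e : F} (he : e ≠ 0)
    (hst : ∀ h ∈ (trHom m : F →+ F).range, e * h ∈ (trHom m : F →+ F).range) : e = 1 := by
  have h2 := two_eq_zero' (F := F)
  by_contra hne
  have h1 := not_mem_of_stable m hF he hst
  have he1 : e + 1 ≠ 0 := by
    intro h
    apply hne
    linear_combination h - h2
  have hst1 : ∀ h ∈ (trHom m : F →+ F).range, (e + 1) * h ∈ (trHom m : F →+ F).range := by
    intro h hh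
    rw [add_mul, one_mul]
    exact add_mem (hst h hh) hh
  have h3 := not_mem_of_stable m hF he1 hst1
  exact h3 (add_mem_range_of_not_mem m hF h1 (one_not_mem_range m hF))

/-- two scalings of `H` inside a proper subgroup coincide -/
theorem scale_unique (K : AddSubgroup F) (hK : K ≠ ⊤) {e e' : F} (he : e ≠ 0) (he' : e' ≠ 0)
    (h1 : ∀ h ∈ (trHom m : F →+ F).range, e * h ∈ K)
    (h2 : ∀ h ∈ (trHom m : F →+ F).range, e' * h ∈ K) : e = e' := by
  have hr : e / e' ≠ 0 := div_ne_zero he he'
  have hst : ∀ h ∈ (trHom m : F →+ F).range, e / e' * h ∈ (trHom m : F →+ F).range := by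
    intro h hh
    by_contra hnot
    apply hK
    rw [eq_top_iff]
    intro x _
    have key : ∀ y : F, e' * y ∈ K := by
      intro y
      by_cases hy : y ∈ (trHom m : F →+ F).range
      · exact h2 y hy
      · have h3 := add_mem_range_of_not_mem m hF hy hnot
        have h4 := h2 _ h3
        have h5 : e' * (e / e' * h) ∈ K := by
          have : e' * (e / e' * h) = e * h := by field_simp
          rw [this]
          exact h1 h hh
        have h6 : e' * y = e' * (y + e / e' * h) - e' * (e / e' * h) := by ring
        rw [h6]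
        exact sub_mem h4 h5
    have : x = e' * (x / e') := by field_simp
    rw [this]
    exact key _
  have := eq_one_of_stable m hF hr hst
  field_simp at this
  exact this

/-- at most one nonzero `a` has all the values `σ(s) a + σ(a) s` in a proper subgroup -/
theorem roots_unique (K : AddSubgroup F) (hK : K ≠ ⊤) {a a' : F} (ha : a ≠ 0) (ha' : a' ≠ 0)
    (h1 : ∀ s : F, sg m s * a + sg m a * s ∈ K)
    (h2 : ∀ s : F, sg m s * a' + sg m a' * s ∈ K) : a = a' := by
  have hsa : sg m a ≠ 0 := fun h => ha (sg_eq_zero m a h)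
  have hsa' : sg m a' ≠ 0 := fun h => ha' (sg_eq_zero m a' h)
  have key : ∀ b : F, (∀ s : F, sg m s * b + sg m b * s ∈ K) →
      ∀ h ∈ (trHom m : F →+ F).range, (sg m b * b) * h ∈ K := by
    intro b hb h hh
    obtain ⟨u, rfl⟩ := hh
    have := hb (b * u)
    rw [sg_mul] at this
    rw [trHom_apply]
    have e : sg m b * b * (sg m u + u) = sg m b * sg m u * b + sg m b * (b * u) := by ring
    rw [e]
    exact this
  have h3 := scale_unique m hF K hK (mul_ne_zero hsa ha) (mul_ne_zero hsa' ha') (key a h1) (key a' h2)
  have h4 : sg m (a / a') * (a / a') = 1 := by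
    rw [sg_div]
    field_simp
    linear_combination h3
  have h5 := sg_mul_self_eq_one m hF _ h4
  field_simp at h5
  exact h5

/-- injectivity of `α ↦ σ(α) α` -/
theorem sg_mul_self_inj {a a' : F} (ha' : a' ≠ 0) (h : sg m a * a = sg m a' * a') : a = a' := by
  have hsa' : sg m a' ≠ 0 := fun h => ha' (sg_eq_zero m a' h)
  have h4 : sg m (a / a') * (a / a') = 1 := by
    rw [sg_div]
    field_simp
    linear_combination h
  have h5 := sg_mul_self_eq_one m hF _ h4
  field_simp at h5
  exact h5

end fieldchar

end Cfsg.Agent.Lib.Helper5.Suzuki
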