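import Cfsg.Agent.Lib.Helper5.SuzukiZass
import Mathlib

set_option autoImplicit false
open Cfsg
open scoped Matrix Pointwise commutatorElement
open Cfsg.Agent.S0335

namespace Cfsg.Agent.Lib.Helper5.Suzuki

section field
variable {F : Type*} [Field F] [Fintype F] [CharP F 2] (m : ℕ)
set_option linter.unusedSectionVars false
variable (hF : Fintype.card F = 2 ^ (2 * m + 1))
include hF

theorem sg_eq_self (a : F) (h : sg m a = a) : a = 0 ∨ a = 1 := by
  have h1 := congrArg (sg m) h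
  rw [sg_sg m hF, h] at h1
  have : a * (a - 1) = 0 := by linear_combination h1
  rcases mul_eq_zero.1 this with h' | h'
  · exact Or.inl h'
  · exact Or.inr (sub_eq_zero.1 h')

theorem sg_add_ne_one (t : F) : sg m t + t ≠ 1 := by
  have h2 := two_eq_zero' (F := F)
  intro h
  have h1 : sg m t = t + 1 := by linear_combination h - t * h2
  have h3 : t ^ 2 = t := by
    have := congrArg (sg m) h1
    rw [sg_sg m hF, sg_add, sg_one, h1] at this
    linear_combination this + h2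
  have h4 : sg m t = t := by
    have : t * (t - 1) = 0 := by linear_combination h3
    rcases mul_eq_zero.1 this with h' | h'
    · rw [h', sg_zero]
    · rw [sub_eq_zero.1 h', sg_one]
  rw [h4] at h1
  have : (1 : F) = 0 := by linear_combination -h1
  exact one_ne_zero this

theorem exists_ne_zero_one (hm : 1 ≤ m) : ∃ κ : F, κ ≠ 0 ∧ κ ≠ 1 := by
  obtain ⟨α, hα⟩ := exists_unit_ne_one m hF hm
  exact ⟨α, α.ne_zero, fun h => hα (Units.ext h)⟩

theorem exists_sg_mul_self (e : F) (he : e ≠ 0) : ∃ α : Fˣ, sg m (α : F) * α = e := by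
  have hs : sg m e ≠ 0 := fun h => he (sg_eq_zero m e h)
  refine ⟨Units.mk0 (sg m e / e) (div_ne_zero hs he), ?_⟩
  rw [Units.val_mk0, sg_div, sg_sg m hF]
  field_simp

/-- a pair with non-symmetric product -/
theorem exists_noncomm (hm : 1 ≤ m) (a : F) (ha : a ≠ 0) :
    ∃ a' : F, sg m a * a' ≠ sg m a' * a := by
  by_cases h : sg m a = a
  · rcases sg_eq_self m hF a h with h' | h'
    · exact absurd h' ha
    · obtain ⟨κ, hκ0, hκ1⟩ := exists_ne_zero_one m hF hm
      refine ⟨κ, ?_⟩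
      rw [h', sg_one, one_mul, mul_one]
      intro hκ
      rcases sg_eq_self m hF κ hκ.symm with h'' | h''
      · exact hκ0 h''
      · exact hκ1 h''
  · refine ⟨1, ?_⟩
    rw [sg_one, mul_one, one_mul]
    exact h

/-- every element is a value of the commutator form -/
theorem exists_comm_form (hm : 1 ≤ m) (d : F) :
    ∃ a a' : F, sg m a * a' + sg m a' * a = d := by
  by_cases hd : d = 0
  · exact ⟨0, 0, by rw [hd, sg_zero]; ring⟩
  obtain ⟨κ, hκ0, hκ1⟩ := exists_ne_zero_one m hF hm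
  have hh : sg m κ + κ ≠ 0 := by
    intro h
    have h2 := two_eq_zero' (F := F)
    have : sg m κ = κ := by linear_combination h - κ * h2
    rcases sg_eq_self m hF κ this with h' | h'
    · exact hκ0 h'
    · exact hκ1 h'
  obtain ⟨α, hα⟩ := exists_sg_mul_self m hF (d / (sg m κ + κ)) (div_ne_zero hd hh)
  refine ⟨α * κ, α, ?_⟩
  rw [sg_mul]
  have : sg m (α : F) * sg m κ * α + sg m (α : F) * (α * κ) = sg m (α : F) * α * (sg m κ + κ) := by ring
  rw [this, hα]
  field_simp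

end field


section twogroup
variable {F : Type*} [Field F] [Fintype F] [CharP F 2] (m : ℕ)
set_option linter.unusedSectionVars false
variable (hF : Fintype.card F = 2 ^ (2 * m + 1))
variable {P : Type*} [Group P] (τ : F → F → P)
  (hmul : ∀ a b a' b' : F, τ a b * τ a' b' = τ (a + a') (b + b' + sg m a * a'))
  (hbij : Function.Bijective (fun p : F × F => τ p.1 p.2))
include hmul

theorem tau_zero : τ 0 0 = 1 := by
  have := hmul 0 0 0 0
  simp only [add_zero, sg_zero, mul_zero] at this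
  exact mul_eq_left.1 this

theorem tau_inv (a b : F) : (τ a b)⁻¹ = τ a (b + sg m a * a) := by
  have h2 := two_eq_zero' (F := F)
  rw [inv_eq_iff_mul_eq_one, hmul, ← tau_zero m τ hmul]
  congr 1
  · linear_combination a * h2
  · linear_combination (b + sg m a * a) * h2

theorem tau_sq (a b : F) : τ a b * τ a b = τ 0 (sg m a * a) := by
  have h2 := two_eq_zero' (F := F)
  rw [hmul]
  congr 1
  · linear_combination a * h2
  · linear_combination b * h2

theorem tau_comm (a b a' b' : F) :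
    ⁅τ a b, τ a' b'⁆ = τ 0 (sg m a * a' + sg m a' * a) := by
  have h2 := two_eq_zero' (F := F)
  rw [commutatorElement_def, tau_inv m τ hmul, tau_inv m τ hmul, hmul, hmul, hmul]
  congr 1
  · linear_combination (a + a') * h2
  · simp only [sg_add]
    linear_combination (b + b' + sg m a * a' + sg m a * a + sg m a' * a') * h2

include hbij

theorem tau_inj {a b a' b' : F} (h : τ a b = τ a' b') : a = a' ∧ b = b' := by
  have := hbij.1 (a₁ := (a, b)) (a₂ := (a', b')) h
  exact ⟨congrArg Prod.fst this, congrArg Prod.snd this⟩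

theorem tau_surj (x : P) : ∃ a b, x = τ a b := by
  obtain ⟨⟨a, b⟩, h⟩ := hbij.2 x
  exact ⟨a, b, h.symm⟩

/-- the central subgroup -/
def zSub : Subgroup P where
  carrier := {x | ∃ c, x = τ 0 c}
  mul_mem' := by
    rintro _ _ ⟨c, rfl⟩ ⟨c', rfl⟩
    refine ⟨c + c', ?_⟩
    rw [hmul]
    congr 1
    · rw [add_zero]
    · rw [sg_zero, zero_mul, add_zero]
  one_mem' := ⟨0, (tau_zero m τ hmul).symm⟩
  inv_mem' := by
    rintro _ ⟨c, rfl⟩
    refine ⟨c, ?_⟩
    rw [tau_inv m τ hmul, sg_zero, zero_mul, add_zero]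

include hF

theorem center_eq_zSub (hm : 1 ≤ m) : Subgroup.center P = zSub m τ hmul := by
  ext x
  rw [Subgroup.mem_center_iff]
  constructor
  · intro hx
    obtain ⟨a, b, rfl⟩ := tau_surj m τ hmul hbij x
    by_cases ha : a = 0
    · exact ⟨b, by rw [ha]⟩
    · exfalso
      obtain ⟨a', ha'⟩ := exists_noncomm m hF hm a ha
      have := hx (τ a' 0)
      rw [hmul, hmul] at this
      have h2 := (tau_inj m τ hmul hbij this).2
      apply ha'
      linear_combination -h2
  · rintro ⟨c, rfl⟩ y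
    obtain ⟨a, b, rfl⟩ := tau_surj m τ hmul hbij y
    rw [hmul, hmul]
    congr 1
    · ring
    · rw [sg_zero]; ring

theorem commutator_eq_zSub (hm : 1 ≤ m) : commutator P = zSub m τ hmul := by
  apply le_antisymm
  · rw [commutator_def, Subgroup.commutator_def, Subgroup.closure_le]
    rintro _ ⟨x, _, y, _, rfl⟩
    obtain ⟨a, b, rfl⟩ := tau_surj m τ hmul hbij x
    obtain ⟨a', b', rfl⟩ := tau_surj m τ hmul hbij y
    exact ⟨_, tau_comm m τ hmul a b a' b'⟩
  · rintro _ ⟨d, rfl⟩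
    obtain ⟨a, a', h⟩ := exists_comm_form m hF hm d
    rw [← h, ← tau_comm m τ hmul a 0 a' 0, commutator_def]
    exact Subgroup.commutator_mem_commutator (Subgroup.mem_top _) (Subgroup.mem_top _)

theorem card_zSub : Nat.card (zSub m τ hmul) = 2 ^ (2 * m + 1) := by
  have e : F ≃ zSub m τ hmul := Equiv.ofBijective (fun c => ⟨τ 0 c, c, rfl⟩) ⟨by
    intro c c' h
    exact (tau_inj m τ hmul hbij (congrArg Subtype.val h)).2, by
    rintro ⟨_, c, rfl⟩
    exact ⟨c, rfl⟩⟩
  rw [← Nat.card_congr e, Nat.card_eq_fintype_card, hF]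

theorem card_of_tau : Nat.card P = (2 ^ (2 * m + 1)) ^ 2 := by
  rw [← Nat.card_congr (Equiv.ofBijective _ hbij), Nat.card_prod, Nat.card_eq_fintype_card, hF]
  ring

theorem exponent_of_tau : Monoid.exponent P = 4 := by
  have h4 : Monoid.exponent P ∣ 2 ^ 2 := by
    apply Monoid.exponent_dvd_of_forall_pow_eq_one
    intro x
    obtain ⟨a, b, rfl⟩ := tau_surj m τ hmul hbij x
    rw [show (2 : ℕ) ^ 2 = 2 * 2 by norm_num, pow_mul, pow_two, pow_two, tau_sq m τ hmul,
      tau_sq m τ hmul, sg_zero, zero_mul, tau_zero m τ hmul]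
  have h2 : ¬ Monoid.exponent P ∣ 2 := by
    intro h
    have := (Monoid.exponent_dvd_iff_forall_pow_eq_one (G := P)).1 h (τ 1 0)
    rw [pow_two, tau_sq m τ hmul, ← tau_zero m τ hmul] at this
    have := (tau_inj m τ hmul hbij this).2
    rw [sg_one, mul_one] at this
    exact one_ne_zero this
  obtain ⟨k, hk, hk'⟩ := (Nat.dvd_prime_pow Nat.prime_two).1 h4
  interval_cases k
  · rw [hk'] at h2; exact absurd (by norm_num) h2
  · rw [hk'] at h2; exact absurd (by norm_num) h2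
  · rw [hk']; norm_num

theorem suzuki_two_group (hm : 1 ≤ m) :
    Nat.card P = (2 ^ (2 * m + 1)) ^ 2 ∧ Monoid.exponent P = 4 ∧
      Subgroup.center P = commutator P ∧ Nat.card (Subgroup.center P) = 2 ^ (2 * m + 1) := by
  refine ⟨card_of_tau m hF τ hmul hbij, exponent_of_tau m hF τ hmul hbij, ?_, ?_⟩
  · rw [center_eq_zSub m hF τ hmul hbij hm, commutator_eq_zSub m hF τ hmul hbij hm]
  · rw [center_eq_zSub m hF τ hmul hbij hm, card_zSub m hF τ hmul hbij]

end twogroup


section sylow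
variable {F : Type*} [Field F] [Fintype F] [CharP F 2] (m : ℕ)
set_option linter.unusedSectionVars false
variable (hF : Fintype.card F = 2 ^ (2 * m + 1))

/-- the unipotent subgroup -/
def uSub : Subgroup (Sz F m) where
  carrier := {g | ∃ a b, g = tT m hF a b}
  mul_mem' := by
    rintro _ _ ⟨a, b, rfl⟩ ⟨a', b', rfl⟩
    exact ⟨_, _, tT_mul m hF a b a' b'⟩
  one_mem' := ⟨0, 0, (tT_zero m hF).symm⟩
  inv_mem' := by
    rintro _ ⟨a, b, rfl⟩
    exact ⟨_, _, tT_inv m hF a b⟩

theorem mem_uSub (g : Sz F m) : g ∈ uSub m hF ↔ ∃ a b, g = tT m hF a b := Iff.rfl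

include hF

theorem card_uSub : Nat.card (uSub m hF) = (2 ^ (2 * m + 1)) ^ 2 := by
  have e : F × F ≃ uSub m hF := Equiv.ofBijective (fun p => ⟨tT m hF p.1 p.2, p.1, p.2, rfl⟩) ⟨by
    rintro ⟨a, b⟩ ⟨a', b'⟩ h
    obtain ⟨rfl, rfl⟩ := tT_inj m hF (congrArg Subtype.val h)
    rfl, by
    rintro ⟨_, a, b, rfl⟩
    exact ⟨(a, b), rfl⟩⟩
  rw [← Nat.card_congr e, Nat.card_prod, Nat.card_eq_fintype_card, hF]
  ring

omit hF in
theorem odd_part_coprime : Nat.Coprime 2 (((2 ^ (2 * m + 1)) ^ 2 + 1) * (2 ^ (2 * m + 1) - 1)) := by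
  rw [Nat.coprime_two_left]
  apply Odd.mul
  · exact Even.add_one (Even.pow_of_ne_zero (Even.pow_of_ne_zero even_two (by omega)) (by norm_num))
  · have : 1 ≤ 2 ^ (2 * m + 1) := Nat.one_le_two_pow
    apply Nat.Even.sub_odd this (Even.pow_of_ne_zero even_two (by omega)) odd_one

theorem two_pow_dvd_card (hm : 1 ≤ m) (k : ℕ) (h : 2 ^ k ∣ Nat.card (Sz F m)) :
    2 ^ k ≤ (2 ^ (2 * m + 1)) ^ 2 := by
  rw [card_Sz m hF hm, mul_assoc] at h
  have hc : Nat.Coprime (2 ^ k) (((2 ^ (2 * m + 1)) ^ 2 + 1) * (2 ^ (2 * m + 1) - 1)) :=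
    Nat.Coprime.pow_left k (odd_part_coprime m)
  exact Nat.le_of_dvd (by positivity) (hc.dvd_of_dvd_mul_right h)

theorem sylow_eq_uSub (hm : 1 ≤ m) : ∃ Q : Sylow 2 (Sz F m), (Q : Subgroup (Sz F m)) = uSub m hF := by
  have : Fact (Nat.Prime 2) := ⟨Nat.prime_two⟩
  have hp : IsPGroup 2 (uSub m hF) := by
    apply IsPGroup.of_card (n := 2 * (2 * m + 1))
    rw [card_uSub m hF, ← pow_mul, mul_comm]
  obtain ⟨Q, hQ⟩ := hp.exists_le_sylow
  refine ⟨Q, ?_⟩
  symm
  apply Subgroup.eq_of_le_of_card_ge hQ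
  obtain ⟨k, hk⟩ := (IsPGroup.iff_card.1 Q.2)
  rw [card_uSub m hF, hk]
  apply two_pow_dvd_card m hF hm k
  rw [← hk]
  exact Subgroup.card_subgroup_dvd_card _

theorem sylow_conj (hm : 1 ≤ m) (P : Sylow 2 (Sz F m)) :
    ∃ g : Sz F m, ∀ x : Sz F m, x ∈ (P : Subgroup (Sz F m)) ↔ ∃ a b, x = g * tT m hF a b * g⁻¹ := by
  have : Fact (Nat.Prime 2) := ⟨Nat.prime_two⟩
  obtain ⟨Q, hQ⟩ := sylow_eq_uSub m hF hm
  obtain ⟨g, hg⟩ := MulAction.exists_smul_eq (Sz F m) Q P
  refine ⟨g, fun x => ?_⟩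
  rw [← hg, Sylow.coe_subgroup_smul, hQ]
  constructor
  · intro hx
    rw [Subgroup.mem_pointwise_smul_iff_inv_smul_mem] at hx
    obtain ⟨a, b, h⟩ := hx
    refine ⟨a, b, ?_⟩
    rw [← h, MulAut.smul_def, MulAut.conj_inv_apply]
    group
  · rintro ⟨a, b, rfl⟩
    rw [Subgroup.mem_pointwise_smul_iff_inv_smul_mem]
    refine ⟨a, b, ?_⟩
    rw [MulAut.smul_def, MulAut.conj_inv_apply]
    group

theorem sylow_structure (hm : 1 ≤ m) (P : Sylow 2 (Sz F m)) :
    Nat.card P = (2 ^ (2 * m + 1)) ^ 2 ∧ Monoid.exponent P = 4 ∧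
      Subgroup.center P = commutator P ∧ Nat.card (Subgroup.center P) = 2 ^ (2 * m + 1) := by
  obtain ⟨g, hg⟩ := sylow_conj m hF hm P
  let τ : F → F → P := fun a b => ⟨g * tT m hF a b * g⁻¹, (hg _).2 ⟨a, b, rfl⟩⟩
  apply suzuki_two_group m hF τ
  · intro a b a' b'
    apply Subtype.ext
    change g * tT m hF a b * g⁻¹ * (g * tT m hF a' b' * g⁻¹) = g * tT m hF _ _ * g⁻¹
    rw [← tT_mul]
    group
  · constructor
    · rintro ⟨a, b⟩ ⟨a', b'⟩ h
      have h' : g * tT m hF a b * g⁻¹ = g * tT m hF a' b' * g⁻¹ := congrArg Subtype.val h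
      have := mul_left_cancel (mul_right_cancel h')
      obtain ⟨rfl, rfl⟩ := tT_inj m hF this
      rfl
    · rintro ⟨x, hx⟩
      obtain ⟨a, b, rfl⟩ := (hg x).1 hx
      exact ⟨(a, b), rfl⟩
  · exact hm

end sylow

end Cfsg.Agent.Lib.Helper5.Suzuki
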