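import Cfsg.Agent.S0335
import Mathlib

set_option autoImplicit false
open Cfsg
open scoped Matrix Pointwise
open Cfsg.Agent.S0335

namespace Cfsg.Agent.Lib.Helper5.Suzuki

section basic
variable {F : Type*} [Field F] [Fintype F] [CharP F 2] (m : ℕ)
set_option linter.unusedSectionVars false

theorem vec_ne_zero (x y : F) : vec m x y ≠ 0 := by
  intro h
  have := congrFun h 3
  simp [vec] at this

theorem e0_ne_zero : (e0 : Fin 4 → F) ≠ 0 := by
  intro h
  have := congrFun h 0
  simp [e0] at this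

/-- the point at infinity -/
noncomputable def pinf : Projectivization F (Fin 4 → F) := Projectivization.mk F e0 e0_ne_zero

/-- the affine points -/
noncomputable def pt (x y : F) : Projectivization F (Fin 4 → F) :=
  Projectivization.mk F (vec m x y) (vec_ne_zero m x y)

theorem pinf_eq : (pinf : Projectivization F (Fin 4 → F)) = suzukiPointInfinity F := rfl

theorem pt_zero_eq : pt m (0 : F) 0 = suzukiPointZero F := by
  unfold pt suzukiPointZero
  congr 1
  unfold vec ff
  simp [sg_zero]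

theorem mem_ovoid_iff (p : Projectivization F (Fin 4 → F)) :
    p ∈ suzukiOvoid F m ↔ p = pinf ∨ ∃ x y, p = pt m x y := by
  constructor
  · rintro ⟨v, hv, rfl, h | ⟨x, y, h⟩⟩
    · left
      subst h
      rfl
    · right
      refine ⟨x, y, ?_⟩
      subst h
      unfold pt
      congr 1
      unfold vec
      rw [ff_eq]
  · rintro (rfl | ⟨x, y, rfl⟩)
    · exact ⟨_, e0_ne_zero, rfl, Or.inl rfl⟩
    · refine ⟨_, vec_ne_zero m x y, rfl, Or.inr ⟨x, y, ?_⟩⟩
      unfold vec
      rw [ff_eq]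

theorem pinf_mem : (pinf : Projectivization F (Fin 4 → F)) ∈ suzukiOvoid F m :=
  (mem_ovoid_iff m _).2 (Or.inl rfl)

theorem pt_mem (x y : F) : pt m x y ∈ suzukiOvoid F m :=
  (mem_ovoid_iff m _).2 (Or.inr ⟨x, y, rfl⟩)

theorem pt_ne_pinf (x y : F) : pt m x y ≠ pinf := by
  intro h
  unfold pt pinf at h
  rw [Projectivization.mk_eq_mk_iff'] at h
  obtain ⟨t, ht⟩ := h
  have h3 := congrFun ht 3
  simp [vec, e0] at h3

theorem pt_inj {x y x' y' : F} (h : pt m x y = pt m x' y') : x = x' ∧ y = y' := by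
  unfold pt at h
  rw [Projectivization.mk_eq_mk_iff'] at h
  obtain ⟨t, ht⟩ := h
  have h3 := congrFun ht 3
  have h2 := congrFun ht 2
  have h1 := congrFun ht 1
  simp [vec] at h3 h2 h1
  rw [h3, one_mul] at h2 h1
  exact ⟨h2.symm, h1.symm⟩

theorem smul_mk (g : Matrix.SpecialLinearGroup (Fin 4) F) (v : Fin 4 → F) (hv : v ≠ 0)
    (hv' : g.1 *ᵥ v ≠ 0) :
    g • Projectivization.mk F v hv = Projectivization.mk F (g.1 *ᵥ v) hv' := by
  rw [Projectivization.smul_mk]
  rfl

theorem mulVec_ne_zero (g : Matrix.SpecialLinearGroup (Fin 4) F) (v : Fin 4 → F) (hv : v ≠ 0) :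
    g.1 *ᵥ v ≠ 0 := by
  intro h
  apply hv
  have : (g⁻¹).1 *ᵥ (g.1 *ᵥ v) = v := by
    rw [Matrix.mulVec_mulVec, ← Matrix.SpecialLinearGroup.coe_mul, inv_mul_cancel]
    simp
  rw [← this, h, Matrix.mulVec_zero]

/-- the action on a point, given the action on a representative -/
theorem smul_mk_of_eq (g : Matrix.SpecialLinearGroup (Fin 4) F) (v w : Fin 4 → F) (hv : v ≠ 0)
    (hw : w ≠ 0) (c : F) (h : g.1 *ᵥ v = c • w) :
    g • Projectivization.mk F v hv = Projectivization.mk F w hw := by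
  rw [smul_mk g v hv (mulVec_ne_zero g v hv)]
  have hc : c ≠ 0 := by
    rintro rfl
    rw [zero_smul] at h
    exact mulVec_ne_zero g v hv h
  rw [Projectivization.mk_eq_mk_iff']
  exact ⟨c, h.symm⟩

theorem ovoid_finite : (suzukiOvoid F m).Finite := Set.toFinite _

/-- criterion for membership in the Suzuki group -/
theorem mem_Sz_of (g : Matrix.SpecialLinearGroup (Fin 4) F)
    (h0 : g • (pinf : Projectivization F (Fin 4 → F)) ∈ suzukiOvoid F m)
    (h1 : ∀ x y : F, g • pt m x y ∈ suzukiOvoid F m) : g ∈ Sz F m := by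
  rw [MulAction.mem_stabilizer_set_iff_smul_set_subset (ovoid_finite m)]
  rintro _ ⟨p, hp, rfl⟩
  rcases (mem_ovoid_iff m p).1 hp with rfl | ⟨x, y, rfl⟩
  · exact h0
  · exact h1 x y

theorem smul_mem_of_mem_Sz {g : Matrix.SpecialLinearGroup (Fin 4) F} (hg : g ∈ Sz F m)
    {p : Projectivization F (Fin 4 → F)} (hp : p ∈ suzukiOvoid F m) :
    g • p ∈ suzukiOvoid F m := by
  have := MulAction.mem_stabilizer_iff.1 hg
  rw [← this]
  exact Set.smul_mem_smul_set hp

end basic


section mats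
variable {F : Type*} [Field F] [Fintype F] [CharP F 2] (m : ℕ)
set_option linter.unusedSectionVars false

/-- the translation matrices -/
def Tm (a b : F) : Matrix (Fin 4) (Fin 4) F :=
  !![1, a, sg m a * a + b, ff m a b; 0, 1, sg m a, b; 0, 0, 1, a; 0, 0, 0, 1]

/-- the inversion matrix -/
def Wm : Matrix (Fin 4) (Fin 4) F :=
  !![0, 0, 0, 1; 0, 0, 1, 0; 0, 1, 0, 0; 1, 0, 0, 0]

/-- the torus matrices -/
def Dm (α : Fˣ) : Matrix (Fin 4) (Fin 4) F :=
  Matrix.diagonal ![(α : F) ^ (2 ^ m + 1), (α : F) ^ (2 ^ m), ((α⁻¹ : Fˣ) : F) ^ (2 ^ m),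
    ((α⁻¹ : Fˣ) : F) ^ (2 ^ m + 1)]

theorem det_Tm (a b : F) : (Tm m a b).det = 1 := by
  rw [Matrix.det_of_isUpperTriangular]
  · simp [Fin.prod_univ_four, Tm]
  · intro i j hij
    fin_cases i <;> fin_cases j <;> first | rfl | (exfalso; revert hij; decide)

theorem Wm_mul_Wm : (Wm : Matrix (Fin 4) (Fin 4) F) * Wm = 1 := by
  ext i j
  fin_cases i <;> fin_cases j <;> simp [Wm, Matrix.mul_apply, Fin.sum_univ_four]

theorem sq_inj_char2 {x y : F} (h : x ^ 2 = y ^ 2) : x = y := by
  have h2 := two_eq_zero' (F := F)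
  have : (x - y) ^ 2 = 0 := by linear_combination h - x * y * h2 + y ^ 2 * h2
  exact sub_eq_zero.1 (pow_eq_zero_iff (by norm_num) |>.1 this)

theorem det_Wm : (Wm : Matrix (Fin 4) (Fin 4) F).det = 1 := by
  have h := congrArg Matrix.det (Wm_mul_Wm (F := F))
  rw [Matrix.det_mul, Matrix.det_one] at h
  apply sq_inj_char2
  rw [one_pow, pow_two, h]

theorem det_Dm (α : Fˣ) : (Dm m α).det = 1 := by
  unfold Dm
  rw [Matrix.det_diagonal, Fin.prod_univ_four]
  simp only [Matrix.cons_val_zero, Matrix.cons_val_one, Matrix.cons_val]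
  rw [Units.val_inv_eq_inv_val]
  have hα : (α : F) ≠ 0 := α.ne_zero
  have : (α : F) ^ (2 ^ m + 1) * (α : F) ^ 2 ^ m * ((α : F)⁻¹) ^ 2 ^ m * ((α : F)⁻¹) ^ (2 ^ m + 1) =
      ((α : F) * (α : F)⁻¹) ^ (2 ^ m + 1) * ((α : F) * (α : F)⁻¹) ^ 2 ^ m := by
    rw [mul_pow, mul_pow]; ring
  rw [this, mul_inv_cancel₀ hα, one_pow, one_pow, one_mul]

theorem Tm_e0 (a b : F) : Tm m a b *ᵥ e0 = e0 := by
  funext i
  fin_cases i <;> simp [Tm, e0, Matrix.mulVec, dotProduct, Fin.sum_univ_four]

variable (hF : Fintype.card F = 2 ^ (2 * m + 1))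
include hF

theorem Tm_vec (a b x y : F) :
    Tm m a b *ᵥ S0335.vec m x y = S0335.vec m (x + a) (y + sg m a * x + b) := by
  unfold S0335.vec
  rw [ff_translate m hF]
  funext i
  fin_cases i <;> simp [Tm, Matrix.mulVec, dotProduct, Fin.sum_univ_four]


omit hF in
theorem Wm_e0 : (Wm : Matrix (Fin 4) (Fin 4) F) *ᵥ e0 = S0335.vec m 0 0 := by
  funext i
  fin_cases i <;> simp [Wm, e0, S0335.vec, ff, sg_zero, Matrix.mulVec, dotProduct, Fin.sum_univ_four]

omit hF in
theorem Wm_vec_zero : (Wm : Matrix (Fin 4) (Fin 4) F) *ᵥ S0335.vec m 0 0 = e0 := by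
  funext i
  fin_cases i <;> simp [Wm, e0, S0335.vec, ff, sg_zero, Matrix.mulVec, dotProduct, Fin.sum_univ_four]

theorem Wm_vec (x y : F) (h : ff m x y ≠ 0) :
    (Wm : Matrix (Fin 4) (Fin 4) F) *ᵥ S0335.vec m x y =
      ff m x y • S0335.vec m (y / ff m x y) (x / ff m x y) := by
  unfold S0335.vec
  rw [ff_invert m hF x y h]
  funext i
  fin_cases i <;> simp [Wm, Matrix.mulVec, dotProduct, Fin.sum_univ_four] <;> field_simp

omit hF in
theorem Dm_e0 (α : Fˣ) : Dm m α *ᵥ e0 = ((α : F) ^ (2 ^ m + 1)) • e0 := by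
  funext i
  fin_cases i <;> simp [Dm, e0, Matrix.mulVec_diagonal]

omit hF in
theorem sg_eq_pow (t : F) : sg m t = (t ^ 2 ^ m) ^ 2 := by
  unfold sg
  rw [← pow_mul, pow_succ]

theorem ff_scale (α x y : F) :
    ff m (α * x) (sg m α * α * y) = sg m α * α ^ 2 * ff m x y := by
  unfold ff
  rw [sg_mul, sg_mul, sg_mul, sg_sg m hF]
  ring

theorem Dm_vec (α : Fˣ) (x y : F) :
    Dm m α *ᵥ S0335.vec m x y =
      (((α⁻¹ : Fˣ) : F) ^ (2 ^ m + 1)) • S0335.vec m (α * x) (sg m (α : F) * α * y) := by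
  have hα : (α : F) ≠ 0 := α.ne_zero
  unfold S0335.vec
  rw [ff_scale m hF, sg_eq_pow]
  funext i
  fin_cases i <;> simp [Dm, Matrix.mulVec_diagonal] <;> field_simp <;> ring


theorem Tm_mul (a b a' b' : F) :
    Tm m a b * Tm m a' b' = Tm m (a + a') (b + b' + sg m a * a') := by
  have h2 := two_eq_zero' (F := F)
  have h03 := ff_translate m hF a b a' b'
  rw [add_comm a' a, show b' + sg m a * a' + b = b + b' + sg m a * a' by ring] at h03
  ext i j
  fin_cases i <;> fin_cases j <;> simp [Tm, Matrix.mul_apply, Fin.sum_univ_four, sg_add] <;>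
    first | ring1 | linear_combination (-(sg m a * a')) * h2 | exact h03.symm

omit hF in
theorem Tm_zero : Tm m (0 : F) 0 = 1 := by
  ext i j
  fin_cases i <;> fin_cases j <;> simp [Tm, sg_zero, ff]

omit hF in
theorem Dm_mul (α β : Fˣ) : Dm m α * Dm m β = Dm m (α * β) := by
  unfold Dm
  rw [Matrix.diagonal_mul_diagonal]
  congr 1
  funext i
  fin_cases i <;> simp [mul_pow]
  · ring
  · ring

omit hF in
theorem Dm_one : Dm m (1 : Fˣ) = 1 := by
  unfold Dm
  rw [← Matrix.diagonal_one]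
  congr 1
  funext i
  fin_cases i <;> simp

theorem Dm_mul_Tm (α : Fˣ) (a b : F) :
    Dm m α * Tm m a b = Tm m (α * a) (sg m (α : F) * α * b) * Dm m α := by
  have hα : (α : F) ≠ 0 := α.ne_zero
  have hs := sg_eq_pow m (α : F)
  have hff := ff_scale m hF (α : F) a b
  have hA : (α : F) ^ 2 ^ m ≠ 0 := pow_ne_zero _ hα
  ext i j
  fin_cases i <;> fin_cases j <;>
    simp [Dm, Tm, Matrix.diagonal_mul, Matrix.mul_diagonal] <;>
    (try rw [hff]) <;>
    simp only [sg_mul, hs, pow_succ] <;>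
    generalize (α : F) ^ 2 ^ m = A at hA ⊢ <;> field_simp

omit hF in
theorem Wm_mul_Dm (α : Fˣ) : (Wm : Matrix (Fin 4) (Fin 4) F) * Dm m α = Dm m α⁻¹ * Wm := by
  ext i j
  fin_cases i <;> fin_cases j <;>
    simp [Dm, Wm, Matrix.diagonal_mul, Matrix.mul_diagonal]


end mats

section elems
variable {F : Type*} [Field F] [Fintype F] [CharP F 2] (m : ℕ)
set_option linter.unusedSectionVars false

/-- translations in `SL₄` -/
def tS (a b : F) : Matrix.SpecialLinearGroup (Fin 4) F := ⟨Tm m a b, det_Tm m a b⟩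

/-- the inversion in `SL₄` -/
def wS : Matrix.SpecialLinearGroup (Fin 4) F := ⟨Wm, det_Wm⟩

/-- the torus in `SL₄` -/
def dS (α : Fˣ) : Matrix.SpecialLinearGroup (Fin 4) F := ⟨Dm m α, det_Dm m α⟩

theorem tS_pinf (a b : F) : tS m a b • (pinf : Projectivization F (Fin 4 → F)) = pinf :=
  smul_mk_of_eq _ _ _ _ _ (1 : F) (by rw [one_smul]; exact Tm_e0 m a b)

theorem wS_pinf : (wS : Matrix.SpecialLinearGroup (Fin 4) F) • pinf = pt m (0 : F) 0 :=
  smul_mk_of_eq _ _ _ _ _ (1 : F) (by rw [one_smul]; exact Wm_e0 m)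

theorem wS_pt_zero : (wS : Matrix.SpecialLinearGroup (Fin 4) F) • pt m (0 : F) 0 = pinf :=
  smul_mk_of_eq _ _ _ _ _ (1 : F) (by rw [one_smul]; exact Wm_vec_zero m)

theorem dS_pinf (α : Fˣ) : dS m α • (pinf : Projectivization F (Fin 4 → F)) = pinf :=
  smul_mk_of_eq _ _ _ _ _ _ (Dm_e0 m α)

variable (hF : Fintype.card F = 2 ^ (2 * m + 1))
include hF

theorem tS_pt (a b x y : F) : tS m a b • pt m x y = pt m (x + a) (y + sg m a * x + b) :=
  smul_mk_of_eq _ _ _ _ _ (1 : F) (by rw [one_smul]; exact Tm_vec m hF a b x y)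

theorem wS_pt (x y : F) (h : ff m x y ≠ 0) :
    (wS : Matrix.SpecialLinearGroup (Fin 4) F) • pt m x y = pt m (y / ff m x y) (x / ff m x y) :=
  smul_mk_of_eq _ _ _ _ _ _ (Wm_vec m hF x y h)

theorem dS_pt (α : Fˣ) (x y : F) : dS m α • pt m x y = pt m (α * x) (sg m (α : F) * α * y) :=
  smul_mk_of_eq _ _ _ _ _ _ (Dm_vec m hF α x y)

theorem tS_mem (a b : F) : tS m a b ∈ Sz F m := by
  apply mem_Sz_of
  · rw [tS_pinf]; exact pinf_mem m
  · intro x y
    rw [tS_pt m hF]; exact pt_mem m _ _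

theorem wS_mem : (wS : Matrix.SpecialLinearGroup (Fin 4) F) ∈ Sz F m := by
  apply mem_Sz_of
  · rw [wS_pinf m]; exact pt_mem m _ _
  · intro x y
    by_cases h : ff m x y = 0
    · obtain ⟨rfl, rfl⟩ := ff_eq_zero m hF x y h
      rw [wS_pt_zero]; exact pinf_mem m
    · rw [wS_pt m hF x y h]; exact pt_mem m _ _

theorem dS_mem (α : Fˣ) : dS m α ∈ Sz F m := by
  apply mem_Sz_of
  · rw [dS_pinf]; exact pinf_mem m
  · intro x y
    rw [dS_pt m hF]; exact pt_mem m _ _

theorem tS_mul (a b a' b' : F) :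
    tS m a b * tS m a' b' = tS m (a + a') (b + b' + sg m a * a') :=
  Subtype.ext (Tm_mul m hF a b a' b')

omit hF in
theorem tS_zero : tS m (0 : F) 0 = 1 := Subtype.ext (Tm_zero m)

omit hF in
theorem dS_mul (α β : Fˣ) : dS m α * dS m β = dS m (α * β) := Subtype.ext (Dm_mul m α β)

omit hF in
theorem dS_one : dS m (1 : Fˣ) = 1 := Subtype.ext (Dm_one m)

theorem dS_mul_tS (α : Fˣ) (a b : F) :
    dS m α * tS m a b = tS m (α * a) (sg m (α : F) * α * b) * dS m α :=
  Subtype.ext (Dm_mul_Tm m hF α a b)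

omit hF in
theorem wS_mul_dS (α : Fˣ) : wS * dS m α = dS m α⁻¹ * wS := Subtype.ext (Wm_mul_Dm m α)

omit hF in
theorem wS_mul_wS : (wS : Matrix.SpecialLinearGroup (Fin 4) F) * wS = 1 := Subtype.ext Wm_mul_Wm

end elems

section poly
variable {F : Type*} [Field F] [Fintype F] [CharP F 2] (m : ℕ)
set_option linter.unusedSectionVars false
variable (hF : Fintype.card F = 2 ^ (2 * m + 1))
include hF

theorem poly4 (hm : 1 ≤ m) (c₁ c₂ c₃ c₄ : F)
    (h : ∀ x : F, c₁ * (sg m x * x ^ 2) + c₂ * sg m x + c₃ * x ^ 2 + c₄ * x = 0) :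
    c₁ = 0 ∧ c₂ = 0 ∧ c₃ = 0 ∧ c₄ = 0 := by
  classical
  set σ := 2 ^ (m + 1) with hσ
  have hσ4 : 4 ≤ σ := by
    rw [hσ]
    calc 4 = 2 ^ 2 := by norm_num
      _ ≤ 2 ^ (m + 1) := Nat.pow_le_pow_right (by norm_num) (by omega)
  have hcard : σ + 2 < Fintype.card F := by
    rw [hF, show 2 * m + 1 = (m + 1) + m by ring, pow_add, ← hσ]
    have : 2 ≤ 2 ^ m := by
      calc 2 = 2 ^ 1 := by norm_num
        _ ≤ 2 ^ m := Nat.pow_le_pow_right (by norm_num) hm
    nlinarith
  let P : Polynomial F := Polynomial.C c₁ * Polynomial.X ^ (σ + 2) + Polynomial.C c₂ * Polynomial.X ^ σ +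
    Polynomial.C c₃ * Polynomial.X ^ 2 + Polynomial.C c₄ * Polynomial.X
  have hdeg : P.natDegree ≤ σ + 2 := by
    simp only [P]
    compute_degree
  have hP : P = 0 := by
    apply Polynomial.eq_zero_of_natDegree_lt_card_of_eval_eq_zero' P Finset.univ
    · intro x _
      simp only [P, Polynomial.eval_add, Polynomial.eval_mul, Polynomial.eval_C, Polynomial.eval_pow,
        Polynomial.eval_X]
      rw [← h x]
      unfold sg
      rw [← hσ, pow_add]
    · rw [Finset.card_univ]
      omega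
  have hc : ∀ k, P.coeff k = 0 := fun k => by rw [hP, Polynomial.coeff_zero]
  have e1 := hc (σ + 2)
  have e2 := hc σ
  have e3 := hc 2
  have e4 := hc 1
  simp only [P, Polynomial.coeff_add, Polynomial.coeff_C_mul, Polynomial.coeff_X_pow,
    Polynomial.coeff_X] at e1 e2 e3 e4
  have n5 : ¬ (σ = 2) := by omega
  have n6 : ¬ (1 = σ) := by omega
  have n8 : ¬ (2 = σ) := by omega
  have n0 : ¬ (σ = 0) := by omega
  simp [n0, n5, n6, n8] at e1 e2 e3 e4
  exact ⟨e1, e2, e3, e4⟩

theorem rigid (hm : 1 ≤ m) (A B C E L P R : F)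
    (h : ∀ x y, ff m (A * x + B * y) (C * x + E * y) = L * ff m x y + P * y + R * x) :
    B = 0 ∧ C = 0 ∧ P = 0 ∧ R = 0 ∧ L = sg m A * A ^ 2 ∧ sg m E = L ∧ A * E = L := by
  have h2 := two_eq_zero' (F := F)
  obtain ⟨e1, e2, e3, e4⟩ := poly4 m hF hm (sg m A * A ^ 2 - L) (sg m C) (A * C) (-R) (by
    intro x
    have := h x 0
    unfold ff at this
    simp only [mul_zero, add_zero, sg_zero, sg_mul] at this
    linear_combination this)
  obtain ⟨f1, f2, f3, f4⟩ := poly4 m hF hm (sg m B * B ^ 2) (sg m E - L) (B * E) (-P) (by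
    intro y
    have := h 0 y
    unfold ff at this
    simp only [mul_zero, zero_add, add_zero, sg_zero, sg_mul, zero_mul,
      ne_eq, OfNat.ofNat_ne_zero, not_false_eq_true, zero_pow] at this
    linear_combination this)
  have hB : B = 0 := by
    rcases mul_eq_zero.1 f1 with h' | h'
    · exact sg_eq_zero m B h'
    · exact pow_eq_zero_iff (by norm_num) |>.1 h'
  have hC : C = 0 := sg_eq_zero m C e2
  have hL : L = sg m A * A ^ 2 := by linear_combination -e1
  have hE : sg m E = L := by linear_combination f2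
  refine ⟨hB, hC, by linear_combination -f4, by linear_combination -e4, hL, hE, ?_⟩
  have := h 1 1
  rw [hB, hC] at this
  unfold ff at this
  simp only [mul_one, add_zero, zero_add, sg_one, one_pow] at this
  rw [hE] at this
  have hP : P = 0 := by linear_combination -f4
  have hR : R = 0 := by linear_combination -e4
  rw [hP, hR] at this
  linear_combination this + hL

end poly

section twopoint
variable {F : Type*} [Field F] [Fintype F] [CharP F 2] (m : ℕ)
set_option linter.unusedSectionVars false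

theorem mulVec_vec (M : Matrix (Fin 4) (Fin 4) F) (x y : F) (i : Fin 4) :
    (M *ᵥ S0335.vec m x y) i = M i 0 * ff m x y + M i 1 * y + M i 2 * x + M i 3 := by
  simp [Matrix.mulVec, dotProduct, Fin.sum_univ_four, S0335.vec]

theorem mulVec_e0 (M : Matrix (Fin 4) (Fin 4) F) (i : Fin 4) : (M *ᵥ e0) i = M i 0 := by
  simp [Matrix.mulVec, dotProduct, Fin.sum_univ_four, e0]

theorem smul_pinf_eq (g : Matrix.SpecialLinearGroup (Fin 4) F)
    (h : g • (pinf : Projectivization F (Fin 4 → F)) = pinf) : ∃ t : F, g.1 *ᵥ e0 = t • e0 := by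
  unfold pinf at h
  rw [smul_mk g _ _ (mulVec_ne_zero g _ e0_ne_zero), Projectivization.mk_eq_mk_iff'] at h
  obtain ⟨t, ht⟩ := h
  exact ⟨t, ht.symm⟩

theorem smul_pt_eq (g : Matrix.SpecialLinearGroup (Fin 4) F) (x y x' y' : F)
    (h : g • pt m x y = pt m x' y') : ∃ t : F, g.1 *ᵥ S0335.vec m x y = t • S0335.vec m x' y' := by
  unfold pt at h
  rw [smul_mk g _ _ (mulVec_ne_zero g _ (vec_ne_zero m x y)), Projectivization.mk_eq_mk_iff'] at h
  obtain ⟨t, ht⟩ := h
  exact ⟨t, ht.symm⟩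

variable (hF : Fintype.card F = 2 ^ (2 * m + 1))
include hF

theorem two_point (hm : 1 ≤ m) (g : Matrix.SpecialLinearGroup (Fin 4) F) (hg : g ∈ Sz F m)
    (hinf : g • (pinf : Projectivization F (Fin 4 → F)) = pinf)
    (hzero : g • pt m (0 : F) 0 = pt m 0 0) : ∃ α : Fˣ, g = dS m α := by
  have h2 := two_eq_zero' (F := F)
  set M := g.1 with hM
  obtain ⟨lam, hlam⟩ := smul_pinf_eq g hinf
  obtain ⟨mu, hmu⟩ := smul_pt_eq m g 0 0 0 0 hzero
  have hff0 : ff m (0 : F) 0 = 0 := by unfold ff; simp [sg_zero]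
  -- column 0
  have c00 : M 0 0 = lam := by have := congrFun hlam 0; rw [mulVec_e0] at this; simpa [e0] using this
  have c10 : M 1 0 = 0 := by have := congrFun hlam 1; rw [mulVec_e0] at this; simpa [e0] using this
  have c20 : M 2 0 = 0 := by have := congrFun hlam 2; rw [mulVec_e0] at this; simpa [e0] using this
  have c30 : M 3 0 = 0 := by have := congrFun hlam 3; rw [mulVec_e0] at this; simpa [e0] using this
  -- column 3
  have c03 : M 0 3 = 0 := by
    have := congrFun hmu 0; rw [mulVec_vec] at this; simpa [S0335.vec, hff0] using this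
  have c13 : M 1 3 = 0 := by
    have := congrFun hmu 1; rw [mulVec_vec] at this; simpa [S0335.vec, hff0] using this
  have c23 : M 2 3 = 0 := by
    have := congrFun hmu 2; rw [mulVec_vec] at this; simpa [S0335.vec, hff0] using this
  have c33 : M 3 3 = mu := by
    have := congrFun hmu 3; rw [mulVec_vec] at this; simpa [S0335.vec, hff0] using this
  -- the images of the affine points
  have himg : ∀ x y : F, ∃ (c x' y' : F), c ≠ 0 ∧ M *ᵥ S0335.vec m x y = c • S0335.vec m x' y' := by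
    intro x y
    have hmem := smul_mem_of_mem_Sz m hg (pt_mem m x y)
    rcases (mem_ovoid_iff m _).1 hmem with h | ⟨x', y', h⟩
    · exfalso
      rw [← hinf] at h
      exact pt_ne_pinf m x y (smul_left_cancel g h)
    · obtain ⟨c, hc⟩ := smul_pt_eq m g x y x' y' h
      refine ⟨c, x', y', ?_, hc⟩
      rintro rfl
      rw [zero_smul] at hc
      exact mulVec_ne_zero g _ (vec_ne_zero m x y) hc
  have hmu0 : mu ≠ 0 := by
    rintro rfl
    rw [zero_smul] at hmu
    exact mulVec_ne_zero g _ (vec_ne_zero m 0 0) hmu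
  have hlam0 : lam ≠ 0 := by
    rintro rfl
    rw [zero_smul] at hlam
    exact mulVec_ne_zero g _ e0_ne_zero hlam
  -- last row
  have hrow3 : ∀ x y : F, M 3 1 * y + M 3 2 * x + mu ≠ 0 := by
    intro x y
    obtain ⟨c, x', y', hc, h⟩ := himg x y
    have := congrFun h 3
    rw [mulVec_vec, c30, c33] at this
    simp only [S0335.vec, Pi.smul_apply, smul_eq_mul, Matrix.cons_val] at this
    intro h'
    apply hc
    rw [zero_mul, zero_add, h'] at this
    simpa using this.symm
  have c31 : M 3 1 = 0 := by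
    by_contra h
    apply hrow3 0 (mu / M 3 1)
    field_simp
    linear_combination mu * h2
  have c32 : M 3 2 = 0 := by
    by_contra h
    apply hrow3 (mu / M 3 2) 0
    field_simp
    linear_combination mu * h2
  -- the functional equation
  have hfe : ∀ x y : F, ff m (M 2 2 / mu * x + M 2 1 / mu * y) (M 1 2 / mu * x + M 1 1 / mu * y) =
      lam / mu * ff m x y + M 0 1 / mu * y + M 0 2 / mu * x := by
    intro x y
    obtain ⟨c, x', y', hc, h⟩ := himg x y
    have e3 := congrFun h 3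
    have e2 := congrFun h 2
    have e1 := congrFun h 1
    have e0' := congrFun h 0
    rw [mulVec_vec] at e3 e2 e1 e0'
    simp only [S0335.vec, Pi.smul_apply, smul_eq_mul, Matrix.cons_val, Matrix.cons_val_zero,
      Matrix.cons_val_one] at e3 e2 e1 e0'
    rw [c30, c31, c32, c33] at e3
    have hcmu : c = mu := by linear_combination -e3
    subst hcmu
    rw [c20, c23] at e2
    rw [c10, c13] at e1
    rw [c00, c03] at e0'
    have hx' : x' = M 2 2 / c * x + M 2 1 / c * y := by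
      field_simp
      linear_combination -e2
    have hy' : y' = M 1 2 / c * x + M 1 1 / c * y := by
      field_simp
      linear_combination -e1
    rw [← hx', ← hy']
    field_simp
    linear_combination -e0'
  obtain ⟨r1, r2, r3, r4, r5, r6, r7⟩ := rigid m hF hm _ _ _ _ _ _ _ hfe
  have c21 : M 2 1 = 0 := by
    rcases div_eq_zero_iff.1 r1 with h | h
    · exact h
    · exact absurd h hmu0
  have c12 : M 1 2 = 0 := by
    rcases div_eq_zero_iff.1 r2 with h | h
    · exact h
    · exact absurd h hmu0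
  have c01 : M 0 1 = 0 := by
    rcases div_eq_zero_iff.1 r3 with h | h
    · exact h
    · exact absurd h hmu0
  have c02 : M 0 2 = 0 := by
    rcases div_eq_zero_iff.1 r4 with h | h
    · exact h
    · exact absurd h hmu0
  set A := M 2 2 / mu with hA
  set E := M 1 1 / mu with hE
  have hA0 : A ≠ 0 := by
    intro h
    rw [h, sg_zero, zero_mul] at r5
    rcases div_eq_zero_iff.1 r5 with h | h
    · exact hlam0 h
    · exact hmu0 h
  have e22 : M 2 2 = mu * A := by rw [hA]; field_simp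
  have e11 : M 1 1 = mu * E := by rw [hE]; field_simp
  have e00 : lam = mu * (sg m A * A ^ 2) := by rw [← r5]; field_simp
  have hEA : E = sg m A * A := by
    have : A * E = A * (sg m A * A) := by rw [r7, r5]; ring
    exact mul_left_cancel₀ hA0 this
  -- the matrix is diagonal
  have hdiag : M = Matrix.diagonal ![lam, mu * E, mu * A, mu] := by
    ext i j
    fin_cases i <;> fin_cases j <;> simp [c00, c01, c02, c03, c10, e11, c12, c13, c20, c21, e22, c23,
      c30, c31, c32, c33]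
  have hdet : M.det = 1 := g.2
  rw [hdiag, Matrix.det_diagonal, Fin.prod_univ_four] at hdet
  simp only [Matrix.cons_val_zero, Matrix.cons_val_one, Matrix.cons_val] at hdet
  rw [e00, hEA, sg_eq_pow m A] at hdet
  have hmuA : mu * A ^ (2 ^ m + 1) = 1 := by
    apply sq_inj_char2
    apply sq_inj_char2
    rw [one_pow, one_pow, ← hdet, pow_succ]
    ring
  refine ⟨Units.mk0 A hA0, ?_⟩
  apply Subtype.ext
  change M = Dm m (Units.mk0 A hA0)
  rw [hdiag]
  unfold Dm
  congr 1
  have hmu' : mu = (A⁻¹) ^ (2 ^ m + 1) := by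
    rw [inv_pow]
    exact eq_inv_of_mul_eq_one_left hmuA
  have hAr : A ^ 2 ^ m ≠ 0 := pow_ne_zero _ hA0
  funext i
  fin_cases i
  · simp only [Fin.zero_eta, Fin.isValue, Matrix.cons_val_zero, Units.val_mk0]
    rw [e00, hmu', sg_eq_pow m A, pow_succ, pow_succ, inv_pow]
    field_simp
    ring
  · simp only [Fin.mk_one, Fin.isValue, Matrix.cons_val_one, Matrix.cons_val_zero, Units.val_mk0]
    rw [hEA, hmu', sg_eq_pow m A, pow_succ, inv_pow]
    field_simp
  · simp only [Fin.reduceFinMk, Fin.isValue, Matrix.cons_val, Units.val_inv_eq_inv_val, Units.val_mk0]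
    rw [hmu', pow_succ, inv_pow]
    field_simp
  · simp only [Fin.reduceFinMk, Fin.isValue, Matrix.cons_val, Units.val_inv_eq_inv_val, Units.val_mk0]
    rw [hmu']

end twopoint

end Cfsg.Agent.Lib.Helper5.Suzuki
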