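import Cfsg.Agent.Lib.Helper5.SuzukiFix
import Mathlib

set_option autoImplicit false
open Cfsg
open scoped Matrix Pointwise commutatorElement
open Cfsg.Agent.S0335

namespace Cfsg.Agent.Lib.Helper5.Suzuki

section fieldaut
variable {F : Type*} [Field F] [Fintype F] [CharP F 2] (m : ℕ)
set_option linter.unusedSectionVars false

theorem sg_map (ψ : F →+* F) (a : F) : ψ (sg m a) = sg m (ψ a) := by
  unfold sg
  rw [map_pow]

theorem ff_map (ψ : F →+* F) (a b : F) : ψ (ff m a b) = ff m (ψ a) (ψ b) := by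
  unfold ff
  simp only [map_add, map_mul, map_pow, sg_map]

theorem Tm_map (ψ : F →+* F) (a b : F) : (Tm m a b).map ψ = Tm m (ψ a) (ψ b) := by
  ext i j
  fin_cases i <;> fin_cases j <;> simp [Tm, sg_map, ff_map]

theorem Wm_map (ψ : F →+* F) : (Wm : Matrix (Fin 4) (Fin 4) F).map ψ = Wm := by
  ext i j
  fin_cases i <;> fin_cases j <;> simp [Wm]

theorem Dm_map (ψ : F →+* F) (α : Fˣ) :
    (Dm m α).map ψ = Dm m (Units.map (ψ : F →* F) α) := by
  have h1 : ((Units.map (ψ : F →* F) α : Fˣ) : F) = ψ α := rfl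
  have h2 : (((Units.map (ψ : F →* F) α)⁻¹ : Fˣ) : F) = ψ ((α⁻¹ : Fˣ) : F) := by
    rw [← map_inv]; rfl
  ext i j
  fin_cases i <;> fin_cases j <;> simp [Dm, h1, h2, Matrix.diagonal]

/-- the action of a field endomorphism on the special linear group -/
noncomputable def slMap (ψ : F →+* F) :
    Matrix.SpecialLinearGroup (Fin 4) F →* Matrix.SpecialLinearGroup (Fin 4) F :=
  Matrix.SpecialLinearGroup.map ψ

theorem slMap_tS (ψ : F →+* F) (a b : F) : slMap ψ (tS m a b) = tS m (ψ a) (ψ b) := by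
  apply Subtype.ext
  change (Matrix.SpecialLinearGroup.map ψ (tS m a b)).1 = _
  rw [Matrix.SpecialLinearGroup.map_apply_coe, RingHom.mapMatrix_apply]
  exact Tm_map m ψ a b

theorem slMap_wS (ψ : F →+* F) : slMap ψ (wS : Matrix.SpecialLinearGroup (Fin 4) F) = wS := by
  apply Subtype.ext
  change (Matrix.SpecialLinearGroup.map ψ wS).1 = _
  rw [Matrix.SpecialLinearGroup.map_apply_coe, RingHom.mapMatrix_apply]
  exact Wm_map ψ

theorem slMap_dS (ψ : F →+* F) (α : Fˣ) :
    slMap ψ (dS m α) = dS m (Units.map (ψ : F →* F) α) := by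
  apply Subtype.ext
  change (Matrix.SpecialLinearGroup.map ψ (dS m α)).1 = _
  rw [Matrix.SpecialLinearGroup.map_apply_coe, RingHom.mapMatrix_apply]
  exact Dm_map m ψ α

variable (hF : Fintype.card F = 2 ^ (2 * m + 1))
include hF

theorem slMap_mem (hm : 1 ≤ m) (ψ : F →+* F) (g : Sz F m) : slMap ψ g.1 ∈ Sz F m := by
  rcases cases m hF hm g with ⟨a, b, α, rfl⟩ | ⟨a, b, a', b', α, rfl⟩
  · change slMap ψ (tS m a b * dS m α) ∈ Sz F m
    rw [map_mul, slMap_tS, slMap_dS]
    exact (Sz F m).mul_mem (tS_mem m hF _ _) (dS_mem m hF _)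
  · change slMap ψ (tS m a b * wS * tS m a' b' * dS m α) ∈ Sz F m
    rw [map_mul, map_mul, map_mul, slMap_tS, slMap_tS, slMap_dS, slMap_wS]
    exact (Sz F m).mul_mem ((Sz F m).mul_mem ((Sz F m).mul_mem (tS_mem m hF _ _) (wS_mem m hF))
      (tS_mem m hF _ _)) (dS_mem m hF _)

/-- the endomorphism of the Suzuki group induced by a field endomorphism -/
noncomputable def fieldHom (hm : 1 ≤ m) (ψ : F →+* F) : Sz F m →* Sz F m :=
  ((slMap ψ).comp (Sz F m).subtype).codRestrict (Sz F m) (fun g => slMap_mem m hF hm ψ g)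

theorem fieldHom_tT (hm : 1 ≤ m) (ψ : F →+* F) (a b : F) :
    fieldHom m hF hm ψ (tT m hF a b) = tT m hF (ψ a) (ψ b) :=
  Subtype.ext (slMap_tS m ψ a b)

theorem fieldHom_wW (hm : 1 ≤ m) (ψ : F →+* F) :
    fieldHom m hF hm ψ (wW m hF) = wW m hF :=
  Subtype.ext (slMap_wS ψ)

theorem fieldHom_dD (hm : 1 ≤ m) (ψ : F →+* F) (α : Fˣ) :
    fieldHom m hF hm ψ (dD m hF α) = dD m hF (Units.map (ψ : F →* F) α) :=
  Subtype.ext (slMap_dS m ψ α)

/-- two endomorphisms agreeing on the generators agree -/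
theorem hom_ext_gen (hm : 1 ≤ m) {H : Type*} [Group H] (f₁ f₂ : Sz F m →* H)
    (ht : ∀ a b, f₁ (tT m hF a b) = f₂ (tT m hF a b))
    (hd : ∀ α, f₁ (dD m hF α) = f₂ (dD m hF α))
    (hw : f₁ (wW m hF) = f₂ (wW m hF)) : f₁ = f₂ := by
  ext g
  rcases cases m hF hm g with ⟨a, b, α, rfl⟩ | ⟨a, b, a', b', α, rfl⟩
  · rw [map_mul, map_mul, ht, hd]
  · rw [map_mul, map_mul, map_mul, map_mul, map_mul, map_mul, ht, ht, hd, hw]

theorem fieldHom_comp (hm : 1 ≤ m) (ψ ψ' : F →+* F) :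
    (fieldHom m hF hm ψ).comp (fieldHom m hF hm ψ') = fieldHom m hF hm (ψ.comp ψ') := by
  apply hom_ext_gen m hF hm
  · intro a b
    rw [MonoidHom.comp_apply, fieldHom_tT, fieldHom_tT, fieldHom_tT]; rfl
  · intro α
    rw [MonoidHom.comp_apply, fieldHom_dD, fieldHom_dD, fieldHom_dD]; rfl
  · rw [MonoidHom.comp_apply, fieldHom_wW, fieldHom_wW, fieldHom_wW]

theorem fieldHom_id (hm : 1 ≤ m) : fieldHom m hF hm (RingHom.id F) = MonoidHom.id _ := by
  apply hom_ext_gen m hF hm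
  · intro a b
    rw [fieldHom_tT]; rfl
  · intro α
    rw [fieldHom_dD]; rfl
  · rw [fieldHom_wW]; rfl

/-- the automorphism of the Suzuki group induced by a field automorphism -/
noncomputable def fieldAut (hm : 1 ≤ m) (ψ : F ≃+* F) : MulAut (Sz F m) :=
  { toFun := fieldHom m hF hm (ψ : F →+* F)
    invFun := fieldHom m hF hm (ψ.symm : F →+* F)
    left_inv := by
      intro g
      have := fieldHom_comp m hF hm (ψ.symm : F →+* F) (ψ : F →+* F)
      have h2 : (ψ.symm : F →+* F).comp (ψ : F →+* F) = RingHom.id F := by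
        ext x; simp
      rw [h2, fieldHom_id] at this
      exact congrArg (fun f => f g) this
    right_inv := by
      intro g
      have := fieldHom_comp m hF hm (ψ : F →+* F) (ψ.symm : F →+* F)
      have h2 : (ψ : F →+* F).comp (ψ.symm : F →+* F) = RingHom.id F := by
        ext x; simp
      rw [h2, fieldHom_id] at this
      exact congrArg (fun f => f g) this
    map_mul' := map_mul _ }

theorem fieldAut_tT (hm : 1 ≤ m) (ψ : F ≃+* F) (a b : F) :
    fieldAut m hF hm ψ (tT m hF a b) = tT m hF (ψ a) (ψ b) :=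
  fieldHom_tT m hF hm _ a b

theorem fieldAut_wW (hm : 1 ≤ m) (ψ : F ≃+* F) :
    fieldAut m hF hm ψ (wW m hF) = wW m hF :=
  fieldHom_wW m hF hm _

theorem fieldAut_dD (hm : 1 ≤ m) (ψ : F ≃+* F) (α : Fˣ) :
    fieldAut m hF hm ψ (dD m hF α) = dD m hF (Units.map ((ψ : F →+* F) : F →* F) α) :=
  fieldHom_dD m hF hm _ α

end fieldaut

end Cfsg.Agent.Lib.Helper5.Suzuki
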