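import Cfsg.Agent.Lib.Helper5.SuzukiAut
import Mathlib

set_option autoImplicit false
open Cfsg
open scoped Matrix Pointwise commutatorElement
open Cfsg.Agent.S0335

namespace Cfsg.Agent.Lib.Helper5.Suzuki

section autnorm
variable {F : Type*} [Field F] [Fintype F] [CharP F 2] (m : ℕ)
set_option linter.unusedSectionVars false
variable (hF : Fintype.card F = 2 ^ (2 * m + 1))
include hF

/-- elements of the point stabiliser normalise the unipotent Sylow subgroup -/
theorem conj_smul_sylow (hm : 1 ≤ m) (Q₀ : Sylow 2 (Sz F m))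
    (hQ₀ : (Q₀ : Subgroup (Sz F m)) = uSub m hF) (k : Sz F m)
    (hk : k • (oinf m : suzukiOvoid F m) = oinf m) : MulAut.conj k • Q₀ = Q₀ := by
  have hk' : k⁻¹ • (oinf m : suzukiOvoid F m) = oinf m := by rw [inv_smul_eq_iff, hk]
  apply Sylow.ext
  rw [Sylow.pointwise_smul_def, hQ₀]
  ext x
  rw [Subgroup.mem_pointwise_smul_iff_inv_smul_mem, MulAut.smul_def, ← map_inv,
    MulAut.conj_apply, inv_inv]
  constructor
  · intro h
    have := conj_mem_uSub m hF hm k (congrArg Subtype.val hk) _ h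
    have e : k * (k⁻¹ * x * k) * k⁻¹ = x := by group
    rwa [e] at this
  · intro h
    have := conj_mem_uSub m hF hm k⁻¹ (congrArg Subtype.val hk') _ h
    rwa [inv_inv] at this

/-- normalising an automorphism -/
theorem aut_normalize (hm : 1 ≤ m) (Q₀ : Sylow 2 (Sz F m))
    (hQ₀ : (Q₀ : Subgroup (Sz F m)) = uSub m hF) (α : MulAut (Sz F m)) :
    ∃ h : Sz F m, (MulAut.conj h * α) • Q₀ = Q₀ ∧
      (MulAut.conj h * α) • (MulAut.conj (wW m hF) • Q₀) = MulAut.conj (wW m hF) • Q₀ := by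
  have : Fact (Nat.Prime 2) := ⟨Nat.prime_two⟩
  obtain ⟨h₁, hh₁⟩ := MulAction.exists_smul_eq (Sz F m) (α • Q₀) Q₀
  rw [Sylow.smul_def, ← mul_smul] at hh₁
  obtain ⟨g₂, hg₂⟩ := MulAction.exists_smul_eq (Sz F m) Q₀
    ((MulAut.conj h₁ * α) • (MulAut.conj (wW m hF) • Q₀))
  rw [Sylow.smul_def] at hg₂
  -- g₂ does not fix the point at infinity
  have hg₂inf : g₂ • (oinf m : suzukiOvoid F m) ≠ oinf m := by
    intro hfix
    rw [conj_smul_sylow m hF hm Q₀ hQ₀ g₂ hfix] at hg₂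
    have h1 : MulAut.conj (wW m hF) • Q₀ = Q₀ := by
      have h2 : (MulAut.conj h₁ * α) • (MulAut.conj (wW m hF) • Q₀) = (MulAut.conj h₁ * α) • Q₀ := by
        rw [← hg₂, hh₁]
      exact smul_left_cancel _ h2
    have h3 : MulAut.conj (wW m hF) • tT m hF (1 : F) 0 ∈
        ((MulAut.conj (wW m hF) • Q₀ : Sylow 2 (Sz F m)) : Subgroup (Sz F m)) := by
      rw [Sylow.pointwise_smul_def]
      apply Subgroup.smul_mem_pointwise_smul
      rw [hQ₀]
      exact ⟨1, 0, rfl⟩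
    rw [h1, hQ₀, MulAut.smul_def, MulAut.conj_apply] at h3
    obtain ⟨a, b, hab⟩ := h3
    have h4 : (wW m hF * tT m hF (1 : F) 0 * (wW m hF)⁻¹) • (oinf m : suzukiOvoid F m) = oinf m := by
      rw [hab, tT_oinf]
    rw [mul_smul, mul_smul, wW_inv, wW_oinf, tT_opt, smul_eq_iff_eq_inv_smul, wW_inv, wW_oinf] at h4
    have h5 := (opt_inj m h4).1
    rw [zero_add] at h5
    exact one_ne_zero (α := F) h5
  obtain ⟨x, y, hxy⟩ := (omega_cases m _).resolve_left hg₂inf
  let b : Sz F m := (tT m hF x y)⁻¹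
  have hb : b • (oinf m : suzukiOvoid F m) = oinf m := by
    rw [inv_smul_eq_iff, tT_oinf]
  have hk : (wW m hF * b * g₂) • (oinf m : suzukiOvoid F m) = oinf m := by
    rw [mul_smul, mul_smul, hxy, tT_inv_opt, wW_opt_zero]
  refine ⟨b * h₁, ?_, ?_⟩
  · rw [map_mul, mul_assoc, mul_smul, hh₁]
    exact conj_smul_sylow m hF hm Q₀ hQ₀ b hb
  · rw [map_mul, mul_assoc, mul_smul, ← hg₂, ← mul_smul, ← map_mul]
    have e : b * g₂ = wW m hF * (wW m hF * b * g₂) := by
      rw [← mul_assoc, ← mul_assoc, wW_mul_wW, one_mul]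
    rw [e, map_mul, mul_smul, conj_smul_sylow m hF hm Q₀ hQ₀ _ hk]

end autnorm

section autB
variable {F : Type*} [Field F] [Fintype F] [CharP F 2] (m : ℕ)
set_option linter.unusedSectionVars false
variable (hF : Fintype.card F = 2 ^ (2 * m + 1))

/-- a normalised automorphism: it preserves the two opposite unipotent subgroups -/
structure NormAut (α : MulAut (Sz F m)) : Prop where
  e0 : ∀ a b, ∃ a' b', α (tT m hF a b) = tT m hF a' b'
  e0' : ∀ a' b', ∃ a b, α (tT m hF a b) = tT m hF a' b'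
  e1 : ∀ a b, ∃ a' b', α (wW m hF * tT m hF a b * wW m hF) = wW m hF * tT m hF a' b' * wW m hF
  e1' : ∀ a' b', ∃ a b, α (wW m hF * tT m hF a b * wW m hF) = wW m hF * tT m hF a' b' * wW m hF

include hF

theorem w_conj_w (x : Sz F m) : wW m hF * (wW m hF * x * wW m hF) * wW m hF = x := by
  have h := wW_mul_wW m hF
  calc wW m hF * (wW m hF * x * wW m hF) * wW m hF
      = (wW m hF * wW m hF) * x * (wW m hF * wW m hF) := by group
    _ = x := by rw [h, one_mul, mul_one]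

theorem mem_conj_w (Q₀ : Sylow 2 (Sz F m)) (hQ₀ : (Q₀ : Subgroup (Sz F m)) = uSub m hF)
    (x : Sz F m) :
    x ∈ ((MulAut.conj (wW m hF) • Q₀ : Sylow 2 (Sz F m)) : Subgroup (Sz F m)) ↔
      ∃ a b, x = wW m hF * tT m hF a b * wW m hF := by
  rw [Sylow.pointwise_smul_def, Subgroup.mem_pointwise_smul_iff_inv_smul_mem, MulAut.smul_def,
    ← map_inv, MulAut.conj_apply, inv_inv, wW_inv, hQ₀]
  constructor
  · rintro ⟨a, b, h⟩
    refine ⟨a, b, ?_⟩
    rw [← h, w_conj_w]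
  · rintro ⟨a, b, rfl⟩
    refine ⟨a, b, ?_⟩
    rw [w_conj_w]

theorem smul_mem_of_smul_eq (β : MulAut (Sz F m)) (Q : Sylow 2 (Sz F m)) (h : β • Q = Q)
    (x : Sz F m) (hx : x ∈ (Q : Subgroup (Sz F m))) : β x ∈ (Q : Subgroup (Sz F m)) := by
  have : β • x ∈ ((β • Q : Sylow 2 (Sz F m)) : Subgroup (Sz F m)) := by
    rw [Sylow.pointwise_smul_def]
    exact Subgroup.smul_mem_pointwise_smul _ _ _ hx
  rwa [h, MulAut.smul_def] at this

theorem normAut_of_smul (Q₀ : Sylow 2 (Sz F m)) (hQ₀ : (Q₀ : Subgroup (Sz F m)) = uSub m hF)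
    (α : MulAut (Sz F m)) (H0 : α • Q₀ = Q₀)
    (H1 : α • (MulAut.conj (wW m hF) • Q₀) = MulAut.conj (wW m hF) • Q₀) : NormAut m hF α := by
  have H0' : α⁻¹ • Q₀ = Q₀ := by rw [inv_smul_eq_iff, H0]
  have H1' : α⁻¹ • (MulAut.conj (wW m hF) • Q₀) = MulAut.conj (wW m hF) • Q₀ := by
    rw [inv_smul_eq_iff, H1]
  refine ⟨?_, ?_, ?_, ?_⟩
  · intro a b
    have := smul_mem_of_smul_eq m hF α Q₀ H0 (tT m hF a b) (by rw [hQ₀]; exact ⟨a, b, rfl⟩)
    rw [hQ₀] at this
    exact this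
  · intro a' b'
    have := smul_mem_of_smul_eq m hF α⁻¹ Q₀ H0' (tT m hF a' b') (by rw [hQ₀]; exact ⟨a', b', rfl⟩)
    rw [hQ₀] at this
    obtain ⟨a, b, hab⟩ := this
    refine ⟨a, b, ?_⟩
    rw [← hab]
    exact MulEquiv.apply_symm_apply α _
  · intro a b
    have := smul_mem_of_smul_eq m hF α _ H1 (wW m hF * tT m hF a b * wW m hF)
      ((mem_conj_w m hF Q₀ hQ₀ _).2 ⟨a, b, rfl⟩)
    exact (mem_conj_w m hF Q₀ hQ₀ _).1 this
  · intro a' b'
    have := smul_mem_of_smul_eq m hF α⁻¹ _ H1' (wW m hF * tT m hF a' b' * wW m hF)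
      ((mem_conj_w m hF Q₀ hQ₀ _).2 ⟨a', b', rfl⟩)
    obtain ⟨a, b, hab⟩ := (mem_conj_w m hF Q₀ hQ₀ _).1 this
    refine ⟨a, b, ?_⟩
    rw [← hab]
    exact MulEquiv.apply_symm_apply α _

/-- non-identity elements of the opposite unipotent subgroup fix only the point zero -/
theorem wtw_fix_only {a b : F} (hab : ¬ (a = 0 ∧ b = 0)) (ω : suzukiOvoid F m)
    (h : (wW m hF * tT m hF a b * wW m hF) • ω = ω) : ω = opt m 0 0 := by
  rw [mul_smul, mul_smul, smul_eq_iff_eq_inv_smul, wW_inv] at h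
  have := tT_fix_only m hF hab _ h
  rw [← wW_opt_zero m hF] at this
  exact smul_left_cancel _ this

variable {α : MulAut (Sz F m)}

/-- a normalised automorphism preserves the point stabiliser -/
theorem NormAut.fix_inf (hα : NormAut m hF α) (hm : 1 ≤ m) (k : Sz F m)
    (hk : k • (oinf m : suzukiOvoid F m) = oinf m) :
    α k • (oinf m : suzukiOvoid F m) = oinf m := by
  obtain ⟨a, b, hab⟩ := hα.e0' 1 0
  obtain ⟨a₁, b₁, h1⟩ := conj_mem_uSub m hF hm k (congrArg Subtype.val hk) _ ⟨a, b, rfl⟩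
  obtain ⟨a₂, b₂, h2⟩ := hα.e0 a₁ b₁
  have hy : α k * tT m hF 1 0 * (α k)⁻¹ = tT m hF a₂ b₂ := by
    rw [← hab, ← map_inv, ← map_mul, ← map_mul, h1, h2]
  have hne : ¬ (a₂ = 0 ∧ b₂ = 0) := by
    intro h
    have h3 := (tT_eq_one_iff m hF a₂ b₂).2 h
    rw [← hy] at h3
    have h4 : tT m hF (1 : F) 0 = 1 := by
      have e : tT m hF (1 : F) 0 = (α k)⁻¹ * (α k * tT m hF 1 0 * (α k)⁻¹) * α k := by group
      rw [e, h3]; group
    exact one_ne_zero ((tT_eq_one_iff m hF (1 : F) 0).1 h4).1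
  apply tT_fix_only m hF hne
  rw [← hy, mul_smul, mul_smul, inv_smul_smul, tT_oinf]

/-- conjugating a normalised automorphism by the inversion -/
theorem NormAut.conj_w (hα : NormAut m hF α) :
    NormAut m hF (MulAut.conj (wW m hF) * α * MulAut.conj (wW m hF)) := by
  have hw : ∀ x : Sz F m, (MulAut.conj (wW m hF) * α * MulAut.conj (wW m hF)) x =
      wW m hF * α (wW m hF * x * wW m hF) * wW m hF := by
    intro x
    rw [MulAut.mul_apply, MulAut.mul_apply, MulAut.conj_apply, MulAut.conj_apply, wW_inv]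
  have hww : ∀ x : Sz F m, wW m hF * (wW m hF * x * wW m hF) * wW m hF = x :=
    w_conj_w m hF
  refine ⟨?_, ?_, ?_, ?_⟩
  · intro a b
    obtain ⟨a', b', h⟩ := hα.e1 a b
    exact ⟨a', b', by rw [hw, h, hww]⟩
  · intro a' b'
    obtain ⟨a, b, h⟩ := hα.e1' a' b'
    exact ⟨a, b, by rw [hw, h, hww]⟩
  · intro a b
    obtain ⟨a', b', h⟩ := hα.e0 a b
    exact ⟨a', b', by rw [hw, hww, h]⟩
  · intro a' b'
    obtain ⟨a, b, h⟩ := hα.e0' a' b'
    exact ⟨a, b, by rw [hw, hww, h]⟩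

theorem NormAut.fix_zero (hα : NormAut m hF α) (hm : 1 ≤ m) (k : Sz F m)
    (hk : k • opt m (0 : F) 0 = opt m 0 0) : α k • opt m (0 : F) 0 = opt m 0 0 := by
  have hk' : (wW m hF * k * wW m hF) • (oinf m : suzukiOvoid F m) = oinf m := by
    rw [mul_smul, mul_smul, wW_oinf, hk, wW_opt_zero]
  have := (hα.conj_w m hF).fix_inf m hF hm _ hk'
  rw [MulAut.mul_apply, MulAut.mul_apply, MulAut.conj_apply, MulAut.conj_apply, wW_inv] at this
  have e : wW m hF * (wW m hF * k * wW m hF) * wW m hF = k := w_conj_w m hF k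
  rw [e, mul_smul, mul_smul, wW_oinf, smul_eq_iff_eq_inv_smul, wW_inv, wW_oinf] at this
  exact this

/-- the image of the torus -/
theorem NormAut.map_dD (hα : NormAut m hF α) (hm : 1 ≤ m) (κ : Fˣ) :
    ∃ κ' : Fˣ, α (dD m hF κ) = dD m hF κ' := by
  apply two_point' m hF hm
  · exact congrArg Subtype.val (hα.fix_inf m hF hm _ (dD_oinf m hF κ))
  · have : dD m hF κ • opt m (0 : F) 0 = opt m 0 0 := by rw [dD_opt]; simp
    exact congrArg Subtype.val (hα.fix_zero m hF hm _ this)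

/-- the image of the inversion -/
theorem NormAut.map_wW (hα : NormAut m hF α) (hm : 1 ≤ m) :
    ∃ δ : Fˣ, α (wW m hF) = dD m hF δ * wW m hF := by
  -- α(w) maps ∞ to 0
  have h1 : α (wW m hF) • (oinf m : suzukiOvoid F m) = opt m 0 0 := by
    obtain ⟨a, b, hab⟩ := hα.e0' 1 0
    obtain ⟨a', b', h2⟩ := hα.e1 a b
    have hy : α (wW m hF) * tT m hF 1 0 * (α (wW m hF))⁻¹ =
        wW m hF * tT m hF a' b' * wW m hF := by
      rw [← hab, ← map_inv, ← map_mul, ← map_mul, wW_inv, h2]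
    have hne : ¬ (a' = 0 ∧ b' = 0) := by
      intro h
      have h3 : wW m hF * tT m hF a' b' * wW m hF = 1 := by
        rw [(tT_eq_one_iff m hF a' b').2 h, mul_one, wW_mul_wW]
      rw [← hy] at h3
      have h4 : tT m hF (1 : F) 0 = 1 := by
        have e : tT m hF (1 : F) 0 =
            (α (wW m hF))⁻¹ * (α (wW m hF) * tT m hF 1 0 * (α (wW m hF))⁻¹) * α (wW m hF) := by
          group
        rw [e, h3]; group
      exact one_ne_zero ((tT_eq_one_iff m hF (1 : F) 0).1 h4).1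
    apply wtw_fix_only m hF hne
    rw [← hy, mul_smul, mul_smul, inv_smul_smul, tT_oinf]
  -- α(w) maps 0 to ∞
  have h2 : α (wW m hF) • opt m (0 : F) 0 = oinf m := by
    obtain ⟨a, b, hab⟩ := hα.e1' 1 0
    obtain ⟨a', b', h2⟩ := hα.e0 a b
    have hy : α (wW m hF) * (wW m hF * tT m hF 1 0 * wW m hF) * (α (wW m hF))⁻¹ =
        tT m hF a' b' := by
      rw [← hab, ← map_inv, ← map_mul, ← map_mul, wW_inv]
      have e : wW m hF * (wW m hF * tT m hF a b * wW m hF) * wW m hF = tT m hF a b :=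
        w_conj_w m hF _
      rw [e, h2]
    have hne : ¬ (a' = 0 ∧ b' = 0) := by
      intro h
      have h3 := (tT_eq_one_iff m hF a' b').2 h
      rw [← hy] at h3
      have h4 : wW m hF * tT m hF (1 : F) 0 * wW m hF = 1 := by
        have e : wW m hF * tT m hF (1 : F) 0 * wW m hF =
            (α (wW m hF))⁻¹ * (α (wW m hF) * (wW m hF * tT m hF 1 0 * wW m hF) *
              (α (wW m hF))⁻¹) * α (wW m hF) := by
          group
        rw [e, h3]; group
      have h5 : tT m hF (1 : F) 0 = 1 := by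
        have e : tT m hF (1 : F) 0 = wW m hF * (wW m hF * tT m hF 1 0 * wW m hF) * wW m hF :=
          (w_conj_w m hF _).symm
        rw [e, h4, mul_one, wW_mul_wW]
      exact one_ne_zero ((tT_eq_one_iff m hF (1 : F) 0).1 h5).1
    apply tT_fix_only m hF hne
    rw [← hy, mul_smul, mul_smul, inv_smul_smul, mul_smul, mul_smul, wW_opt_zero, tT_oinf, wW_oinf]
  obtain ⟨δ, hδ⟩ := two_point' m hF hm (α (wW m hF) * wW m hF)
    (by
      have : (α (wW m hF) * wW m hF) • (oinf m : suzukiOvoid F m) = oinf m := by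
        rw [mul_smul, wW_oinf, h2]
      exact congrArg Subtype.val this)
    (by
      have : (α (wW m hF) * wW m hF) • opt m (0 : F) 0 = opt m 0 0 := by
        rw [mul_smul, wW_opt_zero, h1]
      exact congrArg Subtype.val this)
  refine ⟨δ, ?_⟩
  rw [← hδ, mul_assoc, wW_mul_wW, mul_one]

end autB

end Cfsg.Agent.Lib.Helper5.Suzuki
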