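import Cfsg.Agent.Lib.Helper5.SuzukiAutC
import Mathlib

set_option autoImplicit false
open Cfsg
open scoped Matrix Pointwise commutatorElement
open Cfsg.Agent.S0335

namespace Cfsg.Agent.Lib.Helper5.Suzuki

section autD
variable {F : Type*} [Field F] [Fintype F] [CharP F 2] (m : ℕ)
set_option linter.unusedSectionVars false
variable (hF : Fintype.card F = 2 ^ (2 * m + 1))
include hF

/-- every automorphism is inner times field -/
theorem aut_decomp (hm : 1 ≤ m) (α : MulAut (Sz F m)) :
    ∃ (g : Sz F m) (ψ : F ≃+* F), α = MulAut.conj g * fieldAut m hF hm ψ := by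
  obtain ⟨Q₀, hQ₀⟩ := sylow_eq_uSub m hF hm
  obtain ⟨h, H0, H1⟩ := aut_normalize m hF hm Q₀ hQ₀ α
  have hn := normAut_of_smul m hF Q₀ hQ₀ _ H0 H1
  obtain ⟨c₀, ψ, hdec⟩ := hn.decomp m hF hm
  refine ⟨h⁻¹ * dD m hF c₀, ψ, ?_⟩
  rw [map_mul, mul_assoc, ← hdec, ← mul_assoc, ← map_mul, inv_mul_cancel, map_one, one_mul]

/-- an element commuting with a translation and the inversion is trivial -/
theorem eq_one_of_commute (hm : 1 ≤ m) (h : Sz F m)
    (h1 : h * tT m hF 1 0 = tT m hF 1 0 * h) (h2 : h * wW m hF = wW m hF * h) : h = 1 := by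
  obtain ⟨a, b, rfl⟩ := cent_tT m hF hm (a := (1 : F)) (b := 0) (by simp) h h1
  have h3 : (tT m hF a b * wW m hF) • (oinf m : suzukiOvoid F m) =
      (wW m hF * tT m hF a b) • (oinf m : suzukiOvoid F m) := by rw [h2]
  rw [mul_smul, mul_smul, wW_oinf, tT_oinf, wW_oinf, tT_opt] at h3
  obtain ⟨e1, e2⟩ := opt_inj m h3
  rw [tT_eq_one_iff]
  constructor
  · rw [zero_add] at e1; exact e1
  · rw [zero_add, mul_zero, zero_add] at e2; exact e2

theorem center_eq_bot (hm : 1 ≤ m) : Subgroup.center (Sz F m) = ⊥ := by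
  rw [eq_bot_iff]
  intro z hz
  rw [Subgroup.mem_bot]
  rw [Subgroup.mem_center_iff] at hz
  exact eq_one_of_commute m hF hm z (hz _).symm (hz _).symm

/-- the parametrisation of the automorphism group -/
theorem aut_param_bijective (hm : 1 ≤ m) :
    Function.Bijective (fun p : Sz F m × (F ≃+* F) => MulAut.conj p.1 * fieldAut m hF hm p.2) := by
  constructor
  · rintro ⟨g, ψ⟩ ⟨g', ψ'⟩ heq
    change MulAut.conj g * fieldAut m hF hm ψ = MulAut.conj g' * fieldAut m hF hm ψ' at heq
    have key : ∀ x : Sz F m, g * fieldAut m hF hm ψ x * g⁻¹ = g' * fieldAut m hF hm ψ' x * g'⁻¹ := by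
      intro x
      have := DFunLike.congr_fun heq x
      rwa [MulAut.mul_apply, MulAut.mul_apply, MulAut.conj_apply, MulAut.conj_apply] at this
    have hg : g'⁻¹ * g = 1 := by
      apply eq_one_of_commute m hF hm
      · have := key (tT m hF 1 0)
        rw [fieldAut_tT, fieldAut_tT, map_one, map_zero, map_one, map_zero] at this
        have e : g'⁻¹ * g * tT m hF 1 0 = g'⁻¹ * (g * tT m hF 1 0 * g⁻¹) * g := by group
        rw [e, this]; group
      · have := key (wW m hF)
        rw [fieldAut_wW, fieldAut_wW] at this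
        have e : g'⁻¹ * g * wW m hF = g'⁻¹ * (g * wW m hF * g⁻¹) * g := by group
        rw [e, this]; group
    have hgg : g = g' := by
      have := inv_mul_eq_one.1 hg
      exact this.symm
    subst hgg
    have hψ : ψ = ψ' := by
      ext x
      have := key (tT m hF x 0)
      rw [fieldAut_tT, fieldAut_tT] at this
      have h3 := mul_left_cancel (mul_right_cancel this)
      exact (tT_inj m hF h3).1
    rw [hψ]
  · intro α
    obtain ⟨g, ψ, h⟩ := aut_decomp m hF hm α
    exact ⟨⟨g, ψ⟩, h.symm⟩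

omit hF in
theorem card_ringAut (hF : Fintype.card F = 2 ^ (2 * m + 1)) : Nat.card (F ≃+* F) = 2 * m + 1 := by
  letI : Algebra (ZMod 2) F := ZMod.algebra F 2
  have h1 : Module.finrank (ZMod 2) F = 2 * m + 1 := by
    have := Module.card_eq_pow_finrank (K := ZMod 2) (V := F)
    rw [hF, ZMod.card] at this
    exact (Nat.pow_right_injective (le_refl 2) this).symm
  have h2 := IsGalois.card_aut_eq_finrank (ZMod 2) F
  rw [h1] at h2
  rw [← h2]
  apply Nat.card_congr
  refine ⟨fun ψ => AlgEquiv.ofRingEquiv (f := ψ) (fun r => ?_), fun e => e.toRingEquiv, ?_, ?_⟩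
  · have : (ψ : F →+* F).comp (algebraMap (ZMod 2) F) = algebraMap (ZMod 2) F :=
      Subsingleton.elim _ _
    exact DFunLike.congr_fun this r
  · intro ψ; rfl
  · intro e; rfl

theorem card_mulAut (hm : 1 ≤ m) :
    Nat.card (MulAut (Sz F m)) = Nat.card (Sz F m) * (2 * m + 1) := by
  rw [← Nat.card_congr (Equiv.ofBijective _ (aut_param_bijective m hF hm)), Nat.card_prod,
    card_ringAut m hF]

end autD

end Cfsg.Agent.Lib.Helper5.Suzuki
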