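import Cfsg.Agent.Lib.Helper5.SuzukiReal
import Mathlib

set_option autoImplicit false
open Cfsg
open scoped Matrix Pointwise commutatorElement
open Cfsg.Agent.S0335

namespace Cfsg.Agent.Lib.Helper5.Suzuki

section simple
variable {F : Type*} [Field F] [Fintype F] [CharP F 2] (m : ℕ)
set_option linter.unusedSectionVars false
variable (hF : Fintype.card F = 2 ^ (2 * m + 1))
include hF

theorem center_mem_of_one (N : Subgroup (Sz F m)) (hN : N.Normal) (d : F) (hd : d ≠ 0)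
    (h : tT m hF 0 d ∈ N) (c : F) : tT m hF 0 c ∈ N := by
  by_cases hc : c = 0
  · rw [hc, tT_zero]; exact N.one_mem
  · obtain ⟨α, hα⟩ := exists_sg_mul_self m hF (c / d) (div_ne_zero hc hd)
    have := hN.conj_mem _ h (dD m hF α)
    rw [dD_conj, hα, mul_zero] at this
    have hcd : c / d * d = c := by field_simp
    rwa [hcd] at this

theorem exists_fixed_of_sq (x : Sz F m) (hx : x * x = 1) : ∃ ω : suzukiOvoid F m, x • ω = ω := by
  have hp : IsPGroup 2 (Subgroup.zpowers x) := by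
    intro y
    obtain ⟨k, hk⟩ := Subgroup.mem_zpowers_iff.1 y.2
    refine ⟨1, ?_⟩
    apply Subtype.ext
    rw [pow_one, Subgroup.coe_pow, ← hk, Subgroup.coe_one, pow_two, ← zpow_add, ← two_mul,
      zpow_mul, zpow_two, hx, one_zpow]
  have : Fact (Nat.Prime 2) := ⟨Nat.prime_two⟩
  obtain ⟨c, hc⟩ := hp.nonempty_fixed_point_of_prime_not_dvd_card (suzukiOvoid F m)
    (card_ovoid_odd m hF)
  exact ⟨c, hc ⟨x, Subgroup.mem_zpowers x⟩⟩

theorem involution_in_stab (hm : 1 ≤ m) (y : Sz F m) (hy : y * y = 1)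
    (hinf : y • (pinf : Projectivization F (Fin 4 → F)) = pinf) : ∃ b, y = tT m hF 0 b := by
  have h2 := two_eq_zero' (F := F)
  obtain ⟨a, b, α, rfl⟩ := stab_inf m hF hm y hinf
  have h1 : tT m hF a b * dD m hF α * (tT m hF a b * dD m hF α) =
      tT m hF (a + α * a) (b + sg m (α : F) * α * b + sg m a * (α * a)) * dD m hF (α * α) := by
    rw [mul_assoc, ← mul_assoc (dD m hF α), dD_mul_tT, mul_assoc, dD_mul, ← mul_assoc, tT_mul]
  rw [h1] at hy
  have h3 : tT m hF (0 : F) 0 * dD m hF 1 = 1 := by rw [tT_zero, dD_one, one_mul]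
  rw [← h3] at hy
  obtain ⟨e1, e2, e3⟩ := decomp_unique m hF hy
  have hα : α = 1 := by
    apply Units.ext
    rw [Units.val_one]
    apply sq_inj_char2
    rw [one_pow, pow_two, ← Units.val_mul, e3, Units.val_one]
  subst hα
  have ha : a = 0 := by
    rw [Units.val_one, sg_one, one_mul, one_mul, one_mul] at e2
    have : sg m a * a = 0 := by linear_combination e2 - b * h2
    rcases mul_eq_zero.1 this with h' | h'
    · exact sg_eq_zero m a h'
    · exact h'
  exact ⟨b, by rw [ha, dD_one, mul_one]⟩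

theorem involution_mem (hm : 1 ≤ m) (N : Subgroup (Sz F m)) (hN : N.Normal)
    (hZ : ∀ c, tT m hF 0 c ∈ N) (x : Sz F m) (hx : x * x = 1) : x ∈ N := by
  obtain ⟨ω, hω⟩ := exists_fixed_of_sq m hF x hx
  obtain ⟨g, hg⟩ := exists_to_inf m hF ω
  have hinf : (g * x * g⁻¹) • (pinf : Projectivization F (Fin 4 → F)) = pinf := by
    have : (g * x * g⁻¹) • oinf m = (oinf m : suzukiOvoid F m) := by
      rw [mul_smul, mul_smul, inv_smul_eq_iff.2 hg.symm, hω, hg]
    exact congrArg Subtype.val this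
  have hsq : g * x * g⁻¹ * (g * x * g⁻¹) = 1 := by
    have : g * x * g⁻¹ * (g * x * g⁻¹) = g * (x * x) * g⁻¹ := by group
    rw [this, hx, mul_one, mul_inv_cancel]
  obtain ⟨b, hb⟩ := involution_in_stab m hF hm (g * x * g⁻¹) hsq hinf
  have := hN.conj_mem _ (hZ b) g⁻¹
  rw [← hb] at this
  have e : g⁻¹ * (g * x * g⁻¹) * g⁻¹⁻¹ = x := by group
  rwa [e] at this

theorem dD_mem_of (hm : 1 ≤ m) (N : Subgroup (Sz F m)) (hN : N.Normal)
    (hZ : ∀ c, tT m hF 0 c ∈ N) (α : Fˣ) : dD m hF α ∈ N := by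
  have h1 : wW m hF ∈ N := involution_mem m hF hm N hN hZ _ (wW_mul_wW m hF)
  have h2 : wW m hF * dD m hF α ∈ N := by
    apply involution_mem m hF hm N hN hZ
    nth_rewrite 1 [wW_mul_dD]
    rw [mul_assoc, ← mul_assoc (wW m hF), wW_mul_wW, one_mul, dD_mul, inv_mul_cancel, dD_one]
  have := N.mul_mem h1 h2
  rwa [← mul_assoc, wW_mul_wW, one_mul] at this


theorem tT_mem_of (hm : 1 ≤ m) (N : Subgroup (Sz F m)) (hN : N.Normal)
    (hZ : ∀ c, tT m hF 0 c ∈ N) (a b : F) : tT m hF a b ∈ N := by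
  have h2 := two_eq_zero' (F := F)
  obtain ⟨α, hα⟩ := exists_unit_ne_one m hF hm
  have hα1 : (α : F) + 1 ≠ 0 := by
    intro h
    apply hα
    apply Units.ext
    rw [Units.val_one]
    linear_combination h - h2
  set a' := a / ((α : F) + 1) with ha'
  have h1 : dD m hF α * (tT m hF a' 0 * (dD m hF α)⁻¹ * (tT m hF a' 0)⁻¹) ∈ N :=
    N.mul_mem (dD_mem_of m hF hm N hN hZ α)
      (hN.conj_mem _ (N.inv_mem (dD_mem_of m hF hm N hN hZ α)) _)
  have e : dD m hF α * (tT m hF a' 0 * (dD m hF α)⁻¹ * (tT m hF a' 0)⁻¹) =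
      dD m hF α * tT m hF a' 0 * (dD m hF α)⁻¹ * (tT m hF a' 0)⁻¹ := by group
  rw [e, dD_conj, tT_inv, tT_mul] at h1
  have ha : (α : F) * a' + a' = a := by
    rw [ha']
    field_simp
  rw [ha] at h1
  have := N.mul_mem h1 (hZ (sg m (α : F) * α * 0 + (0 + sg m a' * a') + sg m (α * a') * a' + b))
  rw [tT_mul] at this
  convert this using 2
  · ring
  · linear_combination (-(sg m (α : F) * α * 0 + (0 + sg m a' * a') + sg m (α * a') * a')) * h2

theorem eq_top_of (hm : 1 ≤ m) (N : Subgroup (Sz F m)) (hN : N.Normal)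
    (hZ : ∀ c, tT m hF 0 c ∈ N) : N = ⊤ := by
  rw [eq_top_iff]
  intro g _
  have hw : wW m hF ∈ N := involution_mem m hF hm N hN hZ _ (wW_mul_wW m hF)
  rcases cases m hF hm g with ⟨a, b, α, rfl⟩ | ⟨a, b, a', b', α, rfl⟩
  · exact N.mul_mem (tT_mem_of m hF hm N hN hZ a b) (dD_mem_of m hF hm N hN hZ α)
  · exact N.mul_mem (N.mul_mem (N.mul_mem (tT_mem_of m hF hm N hN hZ a b) hw)
      (tT_mem_of m hF hm N hN hZ a' b')) (dD_mem_of m hF hm N hN hZ α)

theorem exists_center_mem (hm : 1 ≤ m) (N : Subgroup (Sz F m)) (hN : N.Normal) (hbot : N ≠ ⊥) :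
    ∃ d : F, d ≠ 0 ∧ tT m hF 0 d ∈ N := by
  have hfaith := faithful m hF hm
  have hZ := zassenhaus m hF hm
  -- a nontrivial element moving a point
  obtain ⟨⟨n, hnN⟩, hn1⟩ := (Subgroup.ne_bot_iff_exists_ne_one).1 hbot
  have hn1' : n ≠ 1 := fun h => hn1 (Subtype.ext h)
  have hmove : ∃ ω : suzukiOvoid F m, n • ω ≠ ω := by
    by_contra hcon
    push Not at hcon
    apply hn1'
    apply hfaith.eq_of_smul_eq_smul
    intro ω
    rw [hcon ω, one_smul]
  obtain ⟨ω, hω⟩ := hmove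
  -- transitivity
  have htrans : MulAction.IsPretransitive N (suzukiOvoid F m) := by
    constructor
    intro ω₁ ω₂
    by_cases h12 : ω₁ = ω₂
    · exact ⟨1, by rw [one_smul, h12]⟩
    · obtain ⟨g, hg1, hg2⟩ := (MulAction.is_two_pretransitive_iff.1 hZ.2.1) (Ne.symm hω) h12
      refine ⟨⟨g * n * g⁻¹, hN.conj_mem n hnN g⟩, ?_⟩
      change (g * n * g⁻¹) • ω₁ = ω₂
      rw [mul_smul, mul_smul, inv_smul_eq_iff.2 hg1.symm, hg2]
  obtain ⟨a, ha⟩ := hZ.2.2.2.2 N hN htrans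
  obtain ⟨⟨⟨n', hn'N⟩, hn'a⟩, hn'1⟩ := (Subgroup.ne_bot_iff_exists_ne_one).1 ha
  have hn'1' : n' ≠ 1 := fun h => hn'1 (Subtype.ext (Subtype.ext h))
  have hn'a' : n' • a = a := MulAction.mem_stabilizer_iff.1 hn'a
  obtain ⟨g, hg⟩ := exists_to_inf m hF a
  have hfix : (g * n' * g⁻¹) • (pinf : Projectivization F (Fin 4 → F)) = pinf := by
    have : (g * n' * g⁻¹) • oinf m = (oinf m : suzukiOvoid F m) := by
      rw [mul_smul, mul_smul, inv_smul_eq_iff.2 hg.symm, hn'a', hg]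
    exact congrArg Subtype.val this
  have hmem : g * n' * g⁻¹ ∈ N := hN.conj_mem n' hn'N g
  have hne : g * n' * g⁻¹ ≠ 1 := by
    intro h
    apply hn'1'
    have : n' = g⁻¹ * (g * n' * g⁻¹) * g := by group
    rw [this, h]
    group
  obtain ⟨a₁, b₁, α, hdec⟩ := stab_inf m hF hm _ hfix
  rw [hdec] at hmem hne
  by_cases hα : α = 1
  · subst hα
    rw [dD_one, mul_one] at hmem hne
    by_cases ha₁ : a₁ = 0
    · subst ha₁
      refine ⟨b₁, ?_, hmem⟩
      rintro rfl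
      exact hne (tT_zero m hF)
    · refine ⟨sg m a₁ * a₁, mul_ne_zero (fun h => ha₁ (sg_eq_zero m a₁ h)) ha₁, ?_⟩
      rw [← tT_sq]
      exact N.mul_mem hmem hmem
  · have hs : sg m (α : F) * α ≠ 1 := by
      intro h
      exact hα (Units.ext (sg_mul_self_eq_one m hF _ h))
    refine ⟨sg m (α : F) * α + 1, ?_, ?_⟩
    · intro h
      apply hs
      have h2 := two_eq_zero' (F := F)
      linear_combination h - h2
    · have h1 : tT m hF a₁ b₁ * dD m hF α *
          (tT m hF 0 1 * (tT m hF a₁ b₁ * dD m hF α)⁻¹ * (tT m hF 0 1)⁻¹) ∈ N :=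
        N.mul_mem hmem (hN.conj_mem _ (N.inv_mem hmem) _)
      have e : tT m hF a₁ b₁ * dD m hF α *
          (tT m hF 0 1 * (tT m hF a₁ b₁ * dD m hF α)⁻¹ * (tT m hF 0 1)⁻¹) =
          tT m hF a₁ b₁ * (dD m hF α * tT m hF 0 1 * (dD m hF α)⁻¹) * (tT m hF a₁ b₁)⁻¹ *
            (tT m hF 0 1)⁻¹ := by group
      rw [e, dD_conj, tT_conj, tT_inv, tT_mul] at h1
      convert h1 using 2
      · ring
      · simp only [mul_zero, sg_zero, zero_mul, add_zero, mul_one]


theorem isSimple (hm : 1 ≤ m) : IsSimpleGroup (Sz F m) := by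
  obtain ⟨α, hα⟩ := exists_unit_ne_one m hF hm
  haveI : Nontrivial (Sz F m) := ⟨⟨dD m hF α, 1, fun h => hα (dD_inj m hF (h.trans (dD_one m hF).symm))⟩⟩
  refine ⟨fun N hN => ?_⟩
  by_cases h : N = ⊥
  · exact Or.inl h
  · right
    obtain ⟨d, hd, hmem⟩ := exists_center_mem m hF hm N hN h
    exact eq_top_of m hF hm N hN (center_mem_of_one m hF N hN d hd hmem)

end simple

end Cfsg.Agent.Lib.Helper5.Suzuki
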