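import Cfsg.Agent.Lib.Helper5.SuzukiCharA
import Cfsg.Agent.Lib.Helper5.CharDeg
import Cfsg.Agent.Lib.Helper5.SuzukiSimple
import Mathlib

set_option autoImplicit false
open Cfsg
open scoped Matrix Pointwise commutatorElement
open Cfsg.Agent.S0335

/-!
# Irreducible characters of the Sylow 2-subgroup of the Suzuki groups
-/

namespace Cfsg.Agent.Lib.Helper5.Suzuki

open Cfsg.Agent.Lib.helper3.Irr Cfsg.Agent.Lib.helper3.Central Cfsg.Agent.Lib.helper3.CharBasic
open Cfsg.Agent.Lib.helper3.IndFun Cfsg.Agent.Lib.Helper5.CharDeg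

section uchar
variable {F : Type*} [Field F] [Fintype F] [CharP F 2] (m : ℕ)
set_option linter.unusedSectionVars false
variable (hF : Fintype.card F = 2 ^ (2 * m + 1))

/-- elements of the unipotent subgroup -/
def uT (a b : F) : ↥(uSub m hF) := ⟨tT m hF a b, a, b, rfl⟩

theorem uT_val (a b : F) : ((uT m hF a b : ↥(uSub m hF)) : Sz F m) = tT m hF a b := rfl

theorem exists_uT (x : ↥(uSub m hF)) : ∃ a b, x = uT m hF a b := by
  obtain ⟨a, b, h⟩ := x.2
  exact ⟨a, b, Subtype.ext h⟩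

theorem uT_mul (a b a' b' : F) :
    uT m hF a b * uT m hF a' b' = uT m hF (a + a') (b + b' + sg m a * a') :=
  Subtype.ext (tT_mul m hF a b a' b')

theorem uT_zero : uT m hF (0 : F) 0 = 1 := Subtype.ext (tT_zero m hF)

theorem uT_inj {a b a' b' : F} (h : uT m hF a b = uT m hF a' b') : a = a' ∧ b = b' :=
  tT_inj m hF (congrArg Subtype.val h)

theorem uT_central (b : F) : uT m hF 0 b ∈ Subgroup.center ↥(uSub m hF) := by
  rw [Subgroup.mem_center_iff]
  intro g
  obtain ⟨a, c, rfl⟩ := exists_uT m hF g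
  rw [uT_mul, uT_mul]
  congr 1
  · ring
  · rw [sg_zero]; ring

include hF in
theorem uT_conj (s a b : F) :
    uT m hF s 0 * uT m hF a b * (uT m hF s 0)⁻¹ =
      uT m hF a b * uT m hF 0 (sg m s * a + sg m a * s) := by
  apply Subtype.ext
  show tT m hF s 0 * tT m hF a b * (tT m hF s 0)⁻¹ = tT m hF a b * tT m hF 0 _
  rw [tT_conj m hF, tT_mul]
  congr 1
  · ring
  · ring

instance : Finite ↥(uSub m hF) := inferInstance

end uchar

section degree
variable {F : Type*} [Field F] [Fintype F] [CharP F 2] (m : ℕ)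
set_option linter.unusedSectionVars false
variable (hF : Fintype.card F = 2 ^ (2 * m + 1))

/-- multiplicativity of the central character -/
theorem uT_central_mul {ψ : ↥(uSub m hF) → ℂ} (hψ : IsIrrCharacter ↥(uSub m hF) ψ) (b b' : F) :
    ψ (uT m hF 0 (b + b')) * ψ 1 = ψ (uT m hF 0 b) * ψ (uT m hF 0 b') := by
  classical
  let _ : Fintype ↥(uSub m hF) := Fintype.ofFinite _
  have h := central_scalar hψ (uT_central m hF b) (uT m hF 0 b')
  rw [uT_mul, sg_zero, zero_mul, add_zero, add_zero] at h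
  rw [add_comm b b']
  exact h

/-- the kernel of the central character -/
def kerZ {ψ : ↥(uSub m hF) → ℂ} (hψ : IsIrrCharacter ↥(uSub m hF) ψ) : AddSubgroup F where
  carrier := {b | ψ (uT m hF 0 b) = ψ 1}
  zero_mem' := by
    show ψ (uT m hF 0 0) = ψ 1
    rw [uT_zero]
  add_mem' := by
    intro b b' hb hb'
    show ψ (uT m hF 0 (b + b')) = ψ 1
    have h := uT_central_mul m hF hψ b b'
    rw [show ψ (uT m hF 0 b) = ψ 1 from hb, show ψ (uT m hF 0 b') = ψ 1 from hb'] at h
    exact mul_right_cancel₀ (apply_one_ne_zero hψ) h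
  neg_mem' := by
    intro b hb
    show ψ (uT m hF 0 (-b)) = ψ 1
    rw [CharTwo.neg_eq]
    exact hb

theorem mem_kerZ {ψ : ↥(uSub m hF) → ℂ} (hψ : IsIrrCharacter ↥(uSub m hF) ψ) (b : F) :
    b ∈ kerZ m hF hψ ↔ ψ (uT m hF 0 b) = ψ 1 := Iff.rfl

include hF in
/-- the character vanishes at `uT a b` unless all commutators lie in the kernel -/
theorem uT_vanish {ψ : ↥(uSub m hF) → ℂ} (hψ : IsIrrCharacter ↥(uSub m hF) ψ) (a b s : F)
    (hs : sg m s * a + sg m a * s ∉ kerZ m hF hψ) : ψ (uT m hF a b) = 0 := by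
  classical
  let _ : Fintype ↥(uSub m hF) := Fintype.ofFinite _
  exact vanish_of_conj hψ (uT_central m hF _) (uT_conj m hF s a b) hs

include hF in
/-- nonlinear-type characters of the Sylow 2-subgroup have degree at least `2^m` -/
theorem uSub_degree_ge {ψ : ↥(uSub m hF) → ℂ} (hψ : IsIrrCharacter ↥(uSub m hF) ψ)
    (hne : ψ (uT m hF 0 1) ≠ ψ 1) {n : ℕ} (hn : ψ 1 = n) : 2 ^ m ≤ n := by
  classical
  let _ : Fintype ↥(uSub m hF) := Fintype.ofFinite _
  have hK : kerZ m hF hψ ≠ ⊤ := by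
    intro h
    apply hne
    rw [← mem_kerZ m hF hψ, h]
    trivial
  let A : Finset F := Finset.univ.filter (fun a => ∀ s : F, sg m s * a + sg m a * s ∈ kerZ m hF hψ)
  have hA : A.card ≤ 2 := by
    by_contra hcon
    push Not at hcon
    obtain ⟨x, y, z, hx, hy, hz, hxy, hxz, hyz⟩ := Finset.two_lt_card_iff.mp hcon
    have hx' := (Finset.mem_filter.mp hx).2
    have hy' := (Finset.mem_filter.mp hy).2
    have hz' := (Finset.mem_filter.mp hz).2
    by_cases hx0 : x = 0
    · have hy0 : y ≠ 0 := fun h => hxy (hx0.trans h.symm)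
      have hz0 : z ≠ 0 := fun h => hxz (hx0.trans h.symm)
      exact hyz (roots_unique m hF _ hK hy0 hz0 hy' hz')
    · by_cases hy0 : y = 0
      · have hz0 : z ≠ 0 := fun h => hyz (hy0.trans h.symm)
        exact hxz (roots_unique m hF _ hK hx0 hz0 hx' hz')
      · exact hxy (roots_unique m hF _ hK hx0 hy0 hx' hy')
  let S : Finset ↥(uSub m hF) := (A ×ˢ (Finset.univ : Finset F)).image (fun p => uT m hF p.1 p.2)
  have hS : ∀ x, x ∉ S → ψ x = 0 := by
    intro x hx
    obtain ⟨a, b, rfl⟩ := exists_uT m hF x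
    by_cases ha : a ∈ A
    · exfalso
      apply hx
      rw [Finset.mem_image]
      exact ⟨(a, b), Finset.mem_product.mpr ⟨ha, Finset.mem_univ _⟩, rfl⟩
    · have : ¬ ∀ s : F, sg m s * a + sg m a * s ∈ kerZ m hF hψ := by
        intro h
        exact ha (Finset.mem_filter.mpr ⟨Finset.mem_univ _, h⟩)
      push Not at this
      obtain ⟨s, hs⟩ := this
      exact uT_vanish m hF hψ a b s hs
  have hcard := card_le_of_vanish hψ S hS hn
  have hScard : S.card ≤ 2 * 2 ^ (2 * m + 1) := by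
    calc S.card ≤ (A ×ˢ (Finset.univ : Finset F)).card := Finset.card_image_le
      _ = A.card * Fintype.card F := by rw [Finset.card_product, Finset.card_univ]
      _ ≤ 2 * 2 ^ (2 * m + 1) := by rw [hF]; exact Nat.mul_le_mul_right _ hA
  rw [← Nat.card_eq_fintype_card, card_uSub m hF] at hcard
  have h1 : (2 ^ (2 * m + 1)) ^ 2 ≤ 2 * 2 ^ (2 * m + 1) * n ^ 2 :=
    hcard.trans (Nat.mul_le_mul_right _ hScard)
  have hq : 0 < 2 ^ (2 * m + 1) := by positivity
  have h2 : 2 ^ (2 * m + 1) ≤ 2 * n ^ 2 := by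
    have : 2 ^ (2 * m + 1) * 2 ^ (2 * m + 1) ≤ 2 ^ (2 * m + 1) * (2 * n ^ 2) := by
      calc 2 ^ (2 * m + 1) * 2 ^ (2 * m + 1) = (2 ^ (2 * m + 1)) ^ 2 := by ring
        _ ≤ 2 * 2 ^ (2 * m + 1) * n ^ 2 := h1
        _ = 2 ^ (2 * m + 1) * (2 * n ^ 2) := by ring
    exact Nat.le_of_mul_le_mul_left this hq
  have h3 : (2 ^ m) ^ 2 ≤ n ^ 2 := by
    have : 2 ^ (2 * m + 1) = 2 * (2 ^ m) ^ 2 := by
      rw [pow_succ, pow_mul, ← pow_mul, ← pow_mul, mul_comm 2 m]
      ring
    rw [this] at h2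
    omega
  exact (Nat.pow_le_pow_iff_left (by norm_num)).mp h3

end degree

end Cfsg.Agent.Lib.Helper5.Suzuki
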