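import Cfsg.Agent.Lib.Helper5.SuzukiCharB
import Mathlib

set_option autoImplicit false
open Cfsg
open scoped Matrix Pointwise commutatorElement
open Cfsg.Agent.S0335

/-!
# The minimal degree of the Suzuki groups
-/

namespace Cfsg.Agent.Lib.Helper5.Suzuki

open Cfsg.Agent.Lib.helper3.Irr Cfsg.Agent.Lib.helper3.Central Cfsg.Agent.Lib.helper3.CharBasic
open Cfsg.Agent.Lib.helper3.IndFun Cfsg.Agent.Lib.Helper5.CharDeg

section main
variable {F : Type*} [Field F] [Fintype F] [CharP F 2] (m : ℕ)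
set_option linter.unusedSectionVars false
variable (hF : Fintype.card F = 2 ^ (2 * m + 1))

/-- conjugation by the torus on the unipotent subgroup -/
def conjU (t : Fˣ) : ↥(uSub m hF) ≃* ↥(uSub m hF) where
  toFun x := ⟨dD m hF t * x * (dD m hF t)⁻¹, by
    obtain ⟨a, b, h⟩ := x.2
    rw [h, dD_conj m hF]
    exact ⟨_, _, rfl⟩⟩
  invFun x := ⟨(dD m hF t)⁻¹ * x * dD m hF t, by
    obtain ⟨a, b, h⟩ := x.2
    have e : (dD m hF t)⁻¹ * tT m hF a b * dD m hF t
        = dD m hF t⁻¹ * tT m hF a b * (dD m hF t⁻¹)⁻¹ := by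
      rw [dD_inv, dD_inv, inv_inv]
    rw [h, e, dD_conj m hF]
    exact ⟨_, _, rfl⟩⟩
  left_inv x := by
    apply Subtype.ext
    show (dD m hF t)⁻¹ * (dD m hF t * x * (dD m hF t)⁻¹) * dD m hF t = x
    group
  right_inv x := by
    apply Subtype.ext
    show dD m hF t * ((dD m hF t)⁻¹ * x * dD m hF t) * (dD m hF t)⁻¹ = x
    group
  map_mul' x y := by
    apply Subtype.ext
    show dD m hF t * (x * y : Sz F m) * (dD m hF t)⁻¹
      = dD m hF t * x * (dD m hF t)⁻¹ * (dD m hF t * y * (dD m hF t)⁻¹)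
    group

theorem conjU_val (t : Fˣ) (x : ↥(uSub m hF)) :
    ((conjU m hF t x : ↥(uSub m hF)) : Sz F m) = dD m hF t * x * (dD m hF t)⁻¹ := rfl

include hF in
theorem conjU_uT (t : Fˣ) (a b : F) :
    conjU m hF t (uT m hF a b) = uT m hF (t * a) (sg m (t : F) * t * b) := by
  apply Subtype.ext
  rw [conjU_val, uT_val, uT_val, dD_conj m hF]

include hF in
/-- every irreducible character of degree `≠ 1` of the Suzuki group has degree at least
  `2^m (q - 1)` -/
theorem degree_ge (hm : 1 ≤ m) {χ : Sz F m → ℂ} (hχ : IsIrrCharacter (Sz F m) χ) {k : ℕ}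
    (hk : χ 1 = k) (hk1 : k ≠ 1) : 2 ^ m * (2 ^ (2 * m + 1) - 1) ≤ k := by
  classical
  let _ : Fintype (Sz F m) := Fintype.ofFinite _
  let _ : Fintype ↥(uSub m hF) := Fintype.ofFinite _
  have := isSimple m hF hm
  have hc := isCharacter_of_isIrrCharacter hχ
  -- restriction
  set θ : ↥(uSub m hF) → ℂ := fun x => χ x with hθ
  have hθc : IsCharacter ↥(uSub m hF) θ := isCharacter_restrict hc (uSub m hF)
  have hθ1 : θ 1 = k := by
    show χ ((1 : ↥(uSub m hF)) : Sz F m) = k
    rw [OneMemClass.coe_one]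
    exact hk
  have hz0 : θ (uT m hF 0 1) ≠ θ 1 := by
    show χ (tT m hF 0 1) ≠ χ ((1 : ↥(uSub m hF)) : Sz F m)
    rw [OneMemClass.coe_one]
    apply apply_ne_of_simple hχ
    · rw [hk]
      exact_mod_cast hk1
    · intro h
      have := (tT_eq_one_iff m hF 0 1).1 h
      exact one_ne_zero this.2
  -- a constituent which is nontrivial on the centre
  obtain ⟨ψ, hψcons, hψne⟩ : ∃ ψ : IrrCharacter ↥(uSub m hF), classInner θ (ψ : _ → ℂ) ≠ 0 ∧
      (ψ : ↥(uSub m hF) → ℂ) (uT m hF 0 1) ≠ (ψ : ↥(uSub m hF) → ℂ) 1 := by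
    by_contra hcon
    push Not at hcon
    apply hz0
    have hdec := isCharacter_eq_sum_classInner hθc
    have h1 := congrFun hdec (uT m hF 0 1)
    have h2 := congrFun hdec 1
    rw [h1, h2]
    simp only [Finset.sum_apply, Pi.smul_apply, smul_eq_mul]
    apply Finset.sum_congr rfl
    intro ψ _
    by_cases h0 : classInner θ (ψ : _ → ℂ) = 0
    · rw [h0, zero_mul, zero_mul]
    · rw [hcon ψ h0]
  obtain ⟨d, hd⟩ := exists_nat_apply_one (isCharacter_of_isIrrCharacter ψ.2)
  have hdge : 2 ^ m ≤ d := uSub_degree_ge m hF ψ.2 hψne hd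
  have hinv : ∀ (t : Fˣ) (g : ↥(uSub m hF)), θ (conjU m hF t g) = θ g := by
    intro t g
    show χ (dD m hF t * g * (dD m hF t)⁻¹) = χ g
    exact isClassFunction_of_isCharacter hc g (dD m hF t)
  have h2 := two_eq_zero' (F := F)
  have hinj : Function.Injective
      (fun t : Fˣ => (fun g => (ψ : ↥(uSub m hF) → ℂ) (conjU m hF t g))) := by
    intro t t' h
    have hb : ∀ b : F, (ψ : ↥(uSub m hF) → ℂ) (uT m hF 0 (sg m (t : F) * t * b))
        = (ψ : ↥(uSub m hF) → ℂ) (uT m hF 0 (sg m (t' : F) * t' * b)) := by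
      intro b
      have := congrFun h (uT m hF 0 b)
      simp only [conjU_uT m hF, mul_zero] at this
      exact this
    by_contra hne
    have he : sg m (t : F) * t ≠ sg m (t' : F) * t' := by
      intro h'
      apply hne
      exact Units.ext (sg_mul_self_inj m hF t'.ne_zero h')
    apply hψne
    have hee : sg m (t : F) * t + sg m (t' : F) * t' ≠ 0 := by
      intro h0
      apply he
      linear_combination h0 - (sg m (t' : F) * t') * h2
    set e := sg m (t : F) * t with hedef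
    set e' := sg m (t' : F) * t' with hedef'
    have hb1 := hb (1 / (e + e'))
    have hmul := uT_central_mul m hF ψ.2 (e * (1 / (e + e'))) (e' * (1 / (e + e')))
    have hsq := uT_central_mul m hF ψ.2 (e * (1 / (e + e'))) (e * (1 / (e + e')))
    have hx1 : e * (1 / (e + e')) + e' * (1 / (e + e')) = 1 := by
      field_simp
    have hx2 : e * (1 / (e + e')) + e * (1 / (e + e')) = 0 := by
      linear_combination (e * (1 / (e + e'))) * h2
    rw [hx1, ← hb1] at hmul
    rw [hx2, uT_zero] at hsq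
    have hne1 := apply_one_ne_zero ψ.2
    apply mul_right_cancel₀ hne1
    rw [hmul, hsq]
  have hfin := orbit_degree_le hθc ψ.2 (conjU m hF) hinv hinj hψcons hθ1 hd
  have hcardU : Fintype.card Fˣ = 2 ^ (2 * m + 1) - 1 := by
    rw [Fintype.card_units, hF]
  rw [hcardU] at hfin
  calc 2 ^ m * (2 ^ (2 * m + 1) - 1) ≤ d * (2 ^ (2 * m + 1) - 1) := Nat.mul_le_mul_right _ hdge
    _ = (2 ^ (2 * m + 1) - 1) * d := Nat.mul_comm _ _
    _ ≤ k := hfin

end main

end Cfsg.Agent.Lib.Helper5.Suzuki
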