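import Cfsg.Agent.Lib.Helper5.SuzukiAutD
import Mathlib

set_option autoImplicit false
open Cfsg
open scoped Matrix Pointwise commutatorElement
open Cfsg.Agent.S0335

namespace Cfsg.Agent.Lib.Helper5.Suzuki

section cover
variable {F : Type*} [Field F] [Fintype F] [CharP F 2] (m : ℕ)
set_option linter.unusedSectionVars false
variable (hF : Fintype.card F = 2 ^ (2 * m + 1))
include hF

/-- elements commuting with a fixed-point-free element commute with each other -/
theorem comm_of_fixfree (hm : 1 ≤ m) (z : Sz F m) (hz : ∀ ω : suzukiOvoid F m, z • ω ≠ ω)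
    (x y : Sz F m) (hx : x * z = z * x) (hy : y * z = z * y) : x * y = y * x := by
  obtain ⟨p, z₀, hp, hpd, hzp, hz1, hzmem⟩ := fixfree_prime m hF hm z hz
  haveI : Fact p.Prime := ⟨hp⟩
  have hcomm : ∀ k : Sz F m, k * z = z * k → k * z₀ = z₀ * k := by
    intro k hk
    obtain ⟨j, rfl⟩ := Subgroup.mem_zpowers_iff.1 hzmem
    exact ((Commute.zpow_right (show Commute k z from hk) j)).eq
  have hcyc : IsCyclic (Subgroup.centralizer ({z₀} : Set (Sz F m))) := by
    apply cyclic_of_commute m hF hpd z₀ hzp hz1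
    intro k hk
    exact Subgroup.mem_centralizer_singleton_iff.1 hk
  letI : CommGroup (Subgroup.centralizer ({z₀} : Set (Sz F m))) := IsCyclic.commGroup
  have hxm : x ∈ Subgroup.centralizer ({z₀} : Set (Sz F m)) :=
    Subgroup.mem_centralizer_singleton_iff.2 (hcomm x hx)
  have hym : y ∈ Subgroup.centralizer ({z₀} : Set (Sz F m)) :=
    Subgroup.mem_centralizer_singleton_iff.2 (hcomm y hy)
  have := mul_comm (⟨x, hxm⟩ : Subgroup.centralizer ({z₀} : Set (Sz F m))) ⟨y, hym⟩
  exact congrArg Subtype.val this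

/-- a central non-identity element of a non-trivial nilpotent subgroup -/
theorem exists_central (A : Subgroup (Sz F m)) (hA : Group.IsNilpotent A) (x : Sz F m) (hx : x ∈ A)
    (hx1 : x ≠ 1) : ∃ z ∈ A, z ≠ 1 ∧ ∀ y ∈ A, y * z = z * y := by
  haveI : Nontrivial A := ⟨⟨⟨x, hx⟩, 1, fun h => hx1 (congrArg Subtype.val h)⟩⟩
  have hc := Group.IsNilpotent.center_ne_bot A
  obtain ⟨z, hz⟩ := Subgroup.ne_bot_iff_exists_ne_one.1 hc
  refine ⟨z.1.1, z.1.2, ?_, ?_⟩
  · intro h
    apply hz
    apply Subtype.ext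
    apply Subtype.ext
    exact h
  · intro y hy
    have := Subgroup.mem_center_iff.1 z.2 ⟨y, hy⟩
    exact congrArg Subtype.val this

/-- nilpotent subgroups containing a unipotent element -/
theorem nilp_unipotent (hm : 1 ≤ m) (A : Subgroup (Sz F m)) (hA : Group.IsNilpotent A)
    (h : Sz F m) (x : Sz F m) (hx : x ∈ A) (a b : F) (hab : ¬ (a = 0 ∧ b = 0))
    (he : h * x * h⁻¹ = tT m hF a b) (y : Sz F m) (hy : y ∈ A) :
    ∃ a' b', h * y * h⁻¹ = tT m hF a' b' := by
  have hx1 : x ≠ 1 := by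
    rintro rfl
    rw [mul_one, mul_inv_cancel] at he
    exact hab ((tT_eq_one_iff m hF a b).1 he.symm)
  obtain ⟨z, hzA, hz1, hzc⟩ := exists_central m hF A hA x hx hx1
  have h1 := conj_comm (h := h) (hzc x hx)
  rw [he] at h1
  -- h z h⁻¹ commutes with tT a b
  obtain ⟨a₁, b₁, hz'⟩ := cent_tT m hF hm hab (h * z * h⁻¹) h1.symm
  have hab₁ : ¬ (a₁ = 0 ∧ b₁ = 0) := by
    intro h0
    rw [(tT_eq_one_iff m hF a₁ b₁).2 h0] at hz'
    apply hz1
    have := mul_inv_eq_one.1 hz'
    exact mul_left_cancel (this.trans (mul_one h).symm)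
  have h2 := conj_comm (h := h) (hzc y hy)
  rw [hz'] at h2
  exact cent_tT m hF hm hab₁ _ h2

/-- nilpotent subgroups containing a diagonal element -/
theorem nilp_diagonal (hm : 1 ≤ m) (A : Subgroup (Sz F m)) (hA : Group.IsNilpotent A)
    (h : Sz F m) (x : Sz F m) (hx : x ∈ A) (α : Fˣ) (hα : α ≠ 1)
    (he : h * x * h⁻¹ = dD m hF α) (y : Sz F m) (hy : y ∈ A) :
    ∃ β, h * y * h⁻¹ = dD m hF β := by
  have hx1 : x ≠ 1 := by
    rintro rfl
    rw [mul_one, mul_inv_cancel] at he
    exact dD_ne_one m hF hα he.symm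
  obtain ⟨z, hzA, hz1, hzc⟩ := exists_central m hF A hA x hx hx1
  have h1 := conj_comm (h := h) (hzc x hx)
  rw [he] at h1
  obtain ⟨β₁, hz'⟩ := cent_dD m hF hm hα (h * z * h⁻¹) h1.symm
  have hβ₁ : β₁ ≠ 1 := by
    rintro rfl
    rw [dD_one] at hz'
    apply hz1
    have := mul_inv_eq_one.1 hz'
    exact mul_left_cancel (this.trans (mul_one h).symm)
  have h2 := conj_comm (h := h) (hzc y hy)
  rw [hz'] at h2
  exact cent_dD m hF hm hβ₁ _ h2

/-- nilpotent subgroups containing a fixed-point-free element -/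
theorem nilp_fixfree (hm : 1 ≤ m) (A : Subgroup (Sz F m)) (hA : Group.IsNilpotent A)
    (x : Sz F m) (hx : x ∈ A) (hfree : ∀ ω : suzukiOvoid F m, x • ω ≠ ω)
    (y : Sz F m) (hy : y ∈ A) : y * x = x * y := by
  have hx1 : x ≠ 1 := by
    rintro rfl
    exact hfree (oinf m) (one_smul _ _)
  obtain ⟨z, hzA, hz1, hzc⟩ := exists_central m hF A hA x hx hx1
  have hzfree := fixfree_pow m hF hm x hfree z hz1 (hzc x hx)
  exact comm_of_fixfree m hF hm z hzfree y x (hzc y hy) (hzc x hx)

/-- a smaller cover by proper subgroups exists for every nilpotent cover -/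
theorem exists_smaller_cover (hm : 1 ≤ m) (𝓐 : Finset (Subgroup (Sz F m)))
    (hcov : ∀ g : Sz F m, ∃ A ∈ 𝓐, g ∈ A) (hnil : ∀ A ∈ 𝓐, Group.IsNilpotent A) :
    ∃ 𝓑 : Finset (Subgroup (Sz F m)), (∀ B ∈ 𝓑, B ≠ ⊤) ∧ (∀ g : Sz F m, ∃ B ∈ 𝓑, g ∈ B) ∧
      𝓑.card < 𝓐.card := by
  classical
  haveI : Fintype (suzukiOvoid F m) := Fintype.ofFinite _
  let 𝒯 := {T : Subgroup (Sz F m) // ∃ g : Sz F m, (∀ ω : suzukiOvoid F m, g • ω ≠ ω) ∧
    T = Subgroup.centralizer ({g} : Set (Sz F m))}
  haveI : Fintype 𝒯 := Fintype.ofFinite _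
  let 𝓑 : Finset (Subgroup (Sz F m)) :=
    (Finset.univ : Finset (suzukiOvoid F m)).image (fun ω => MulAction.stabilizer (Sz F m) ω) ∪
      (Finset.univ : Finset 𝒯).image Subtype.val
  have h𝓑card : 𝓑.card ≤ Fintype.card (suzukiOvoid F m) + Fintype.card 𝒯 := by
    refine (Finset.card_union_le _ _).trans ?_
    exact Nat.add_le_add Finset.card_image_le Finset.card_image_le
  refine ⟨𝓑, ?_, ?_, ?_⟩
  · -- proper
    intro B hB
    rcases Finset.mem_union.1 hB with hB | hB
    · obtain ⟨ω, -, rfl⟩ := Finset.mem_image.1 hB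
      intro htop
      obtain ⟨k, hk⟩ := exists_to_inf m hF ω
      have hmem : k⁻¹ * wW m hF * k ∈ MulAction.stabilizer (Sz F m) ω := by
        rw [htop]; exact Subgroup.mem_top _
      rw [MulAction.mem_stabilizer_iff, mul_smul, mul_smul, hk, wW_oinf, inv_smul_eq_iff, hk] at hmem
      exact opt_ne_oinf m (0 : F) 0 hmem
    · obtain ⟨T, -, rfl⟩ := Finset.mem_image.1 hB
      obtain ⟨g, hg, hT⟩ := T.2
      intro htop
      rw [hT] at htop
      have hg1 : g = 1 := by
        apply eq_one_of_commute m hF hm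
        · have : tT m hF (1 : F) 0 ∈ Subgroup.centralizer ({g} : Set (Sz F m)) := by
            rw [htop]; exact Subgroup.mem_top _
          exact (Subgroup.mem_centralizer_singleton_iff.1 this).symm
        · have : wW m hF ∈ Subgroup.centralizer ({g} : Set (Sz F m)) := by
            rw [htop]; exact Subgroup.mem_top _
          exact (Subgroup.mem_centralizer_singleton_iff.1 this).symm
      apply hg (oinf m)
      rw [hg1, one_smul]
  · -- cover
    intro g
    by_cases hfix : ∃ ω : suzukiOvoid F m, g • ω = ω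
    · obtain ⟨ω, hω⟩ := hfix
      refine ⟨MulAction.stabilizer (Sz F m) ω, ?_, hω⟩
      apply Finset.mem_union_left
      exact Finset.mem_image.2 ⟨ω, Finset.mem_univ _, rfl⟩
    · push Not at hfix
      refine ⟨Subgroup.centralizer ({g} : Set (Sz F m)), ?_, ?_⟩
      · apply Finset.mem_union_right
        exact Finset.mem_image.2 ⟨⟨_, g, hfix, rfl⟩, Finset.mem_univ _, rfl⟩
      · exact Subgroup.mem_centralizer_singleton_iff.2 rfl
  · -- counting
    refine lt_of_le_of_lt h𝓑card ?_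
    -- choices
    choose k hk using exists_to_inf m hF
    let u : suzukiOvoid F m → Sz F m := fun ω => (k ω)⁻¹ * tT m hF 1 0 * k ω
    have hu : ∀ ω, k ω * u ω * (k ω)⁻¹ = tT m hF 1 0 := by
      intro ω
      change k ω * ((k ω)⁻¹ * tT m hF 1 0 * k ω) * (k ω)⁻¹ = _
      group
    have h10 : ¬ ((1 : F) = 0 ∧ (0 : F) = 0) := fun h => one_ne_zero h.1
    have hu_fix : ∀ ω ω₁, u ω • ω₁ = ω₁ → ω₁ = ω := by
      intro ω ω₁ h
      change ((k ω)⁻¹ * tT m hF 1 0 * k ω) • ω₁ = ω₁ at h
      rw [mul_smul, mul_smul, inv_smul_eq_iff] at h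
      have := tT_fix_only m hF h10 _ h
      rw [← hk ω] at this
      exact smul_left_cancel _ this
    choose A1 hA1 using fun ω => hcov (u ω)
    choose gT hgT using fun T : 𝒯 => T.2
    choose A2 hA2 using fun T : 𝒯 => hcov (gT T)
    obtain ⟨α₀, hα₀⟩ := exists_unit_ne_one m hF hm
    obtain ⟨A3, hA3, hA3'⟩ := hcov (dD m hF α₀)
    -- properties
    have P1 : ∀ ω y, y ∈ A1 ω → y • ω = ω := by
      intro ω y hy
      obtain ⟨a', b', h⟩ := nilp_unipotent m hF hm (A1 ω) (hnil _ (hA1 ω).1) (k ω) (u ω)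
        (hA1 ω).2 1 0 h10 (hu ω) y hy
      have h1 : (k ω * y * (k ω)⁻¹) • (oinf m : suzukiOvoid F m) = oinf m := by rw [h, tT_oinf]
      rw [mul_smul, mul_smul, ← hk ω, inv_smul_smul] at h1
      exact smul_left_cancel _ h1
    have P2 : ∀ T y, y ∈ A2 T → y * gT T = gT T * y := by
      intro T y hy
      exact nilp_fixfree m hF hm (A2 T) (hnil _ (hA2 T).1) (gT T) (hA2 T).2 (hgT T).1 y hy
    have P3 : ∀ y, y ∈ A3 → ∃ β, y = dD m hF β := by
      intro y hy
      obtain ⟨β, h⟩ := nilp_diagonal m hF hm A3 (hnil _ hA3) 1 (dD m hF α₀) hA3' α₀ hα₀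
        (by group) y hy
      exact ⟨β, by rw [← h]; group⟩
    let f : Option (suzukiOvoid F m ⊕ 𝒯) → Subgroup (Sz F m) := fun i =>
      match i with
      | none => A3
      | some (Sum.inl ω) => A1 ω
      | some (Sum.inr T) => A2 T
    have hmaps : Set.MapsTo f ↑(Finset.univ : Finset (Option (suzukiOvoid F m ⊕ 𝒯))) ↑𝓐 := by
      intro i _
      rcases i with _ | ω | T
      · exact hA3
      · exact (hA1 ω).1
      · exact (hA2 T).1
    -- separation facts
    have S13 : ∀ ω, A1 ω ≠ A3 := by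
      intro ω h
      obtain ⟨β, hβ⟩ := P3 (u ω) (by rw [← h]; exact (hA1 ω).2)
      have e1 := hu_fix ω (oinf m) (by rw [hβ, dD_oinf])
      have e2 := hu_fix ω (opt m 0 0) (by rw [hβ, dD_opt]; simp)
      exact opt_ne_oinf m (0 : F) 0 (e2.trans e1.symm)
    have S12 : ∀ ω T, A1 ω ≠ A2 T := by
      intro ω T h
      exact (hgT T).1 ω (P1 ω _ (by rw [h]; exact (hA2 T).2))
    have S23 : ∀ T, A2 T ≠ A3 := by
      intro T h
      obtain ⟨β, hβ⟩ := P3 (gT T) (by rw [← h]; exact (hA2 T).2)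
      apply (hgT T).1 (oinf m)
      rw [hβ, dD_oinf]
    have S11 : ∀ ω ω', A1 ω = A1 ω' → ω = ω' := by
      intro ω ω' h
      have := P1 ω (u ω') (by rw [h]; exact (hA1 ω').2)
      exact hu_fix ω' ω this
    have S22 : ∀ T T', A2 T = A2 T' → T = T' := by
      intro T T' h
      have hc := P2 T (gT T') (by rw [h]; exact (hA2 T').2)
      apply Subtype.ext
      rw [(hgT T).2, (hgT T').2]
      ext y
      rw [Subgroup.mem_centralizer_singleton_iff, Subgroup.mem_centralizer_singleton_iff]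
      constructor
      · intro hy
        exact comm_of_fixfree m hF hm (gT T) (hgT T).1 y (gT T') hy hc
      · intro hy
        exact comm_of_fixfree m hF hm (gT T') (hgT T').1 y (gT T) hy hc.symm
    have hinj : Set.InjOn f ↑(Finset.univ : Finset (Option (suzukiOvoid F m ⊕ 𝒯))) := by
      intro i _ j _ hij
      rcases i with _ | ω | T <;> rcases j with _ | ω' | T'
      · rfl
      · exact absurd hij.symm (S13 ω')
      · exact absurd hij.symm (S23 T')
      · exact absurd hij (S13 ω)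
      · rw [S11 ω ω' hij]
      · exact absurd hij (S12 ω T')
      · exact absurd hij (S23 T)
      · exact absurd hij.symm (S12 ω' T)
      · rw [S22 T T' hij]
    have := Finset.card_le_card_of_injOn f hmaps hinj
    rw [Finset.card_univ, Fintype.card_option, Fintype.card_sum] at this
    omega

end cover

end Cfsg.Agent.Lib.Helper5.Suzuki
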