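import Cfsg.Agent.Lib.Helper5.SuzukiInv
import Mathlib

set_option autoImplicit false
open Cfsg
open scoped Matrix Pointwise commutatorElement
open Cfsg.Agent.S0335
open Cfsg.Agent.Lib.Helper5.FixCount

namespace Cfsg.Agent.Lib.Helper5.Suzuki

section evenA
variable {F : Type*} [Field F] [Fintype F] [CharP F 2] (m : ℕ)
set_option linter.unusedSectionVars false
variable (hF : Fintype.card F = 2 ^ (2 * m + 1))
include hF

/-- `x ↦ x^θ · x` is injective -/
theorem sgmul_inj {x y : F} (h : sg m x * x = sg m y * y) : x = y := by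
  have key : ∀ z : F, sg m (sg m z * z) = z * (sg m z * z) := by
    intro z
    rw [sg_mul, sg_sg m hF]
    ring
  by_cases hx : x = 0
  · subst hx
    rw [sg_zero, zero_mul] at h
    rcases mul_eq_zero.1 h.symm with h' | h'
    · exact (sg_eq_zero m y h').symm
    · exact h'.symm
  · have hb : sg m x * x ≠ 0 := mul_ne_zero (fun h' => hx (sg_eq_zero m x h')) hx
    have h1 := key x
    have h2 := key y
    rw [← h] at h2
    rw [h1] at h2
    exact mul_right_cancel₀ hb h2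

variable (M : Subgroup (Sz F m))

/-- the diagonal parts of the elements of `M` fixing the point at infinity -/
def gam : Subgroup Fˣ where
  carrier := {κ | ∃ a b, tT m hF a b * dD m hF κ ∈ M}
  mul_mem' := by
    rintro κ κ' ⟨a, b, h⟩ ⟨a', b', h'⟩
    refine ⟨a + κ * a', b + sg m (κ : F) * κ * b' + sg m a * (κ * a'), ?_⟩
    have e : tT m hF a b * dD m hF κ * (tT m hF a' b' * dD m hF κ') =
        tT m hF (a + κ * a') (b + sg m (κ : F) * κ * b' + sg m a * (κ * a')) *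
          dD m hF (κ * κ') := by
      rw [mul_assoc, ← mul_assoc (dD m hF κ), dD_mul_tT, mul_assoc, dD_mul, ← mul_assoc, tT_mul]
    rw [← e]
    exact M.mul_mem h h'
  one_mem' := ⟨0, 0, by rw [tT_zero, dD_one, mul_one]; exact M.one_mem⟩
  inv_mem' := by
    rintro κ ⟨a, b, h⟩
    refine ⟨((κ⁻¹ : Fˣ) : F) * a,
      sg m ((κ⁻¹ : Fˣ) : F) * ((κ⁻¹ : Fˣ) : F) * (b + sg m a * a), ?_⟩
    have e : (tT m hF a b * dD m hF κ)⁻¹ =
        tT m hF (((κ⁻¹ : Fˣ) : F) * a)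
          (sg m ((κ⁻¹ : Fˣ) : F) * ((κ⁻¹ : Fˣ) : F) * (b + sg m a * a)) * dD m hF κ⁻¹ := by
      rw [mul_inv_rev, dD_inv, tT_inv, dD_mul_tT]
    rw [← e]
    exact M.inv_mem h

theorem mem_gam (κ : Fˣ) : κ ∈ gam m hF M ↔ ∃ a b, tT m hF a b * dD m hF κ ∈ M := Iff.rfl

/-- the central involutions of `M` fixing the point at infinity -/
def lam : AddSubgroup F where
  carrier := {b | tT m hF 0 b ∈ M}
  add_mem' := by
    intro b b' h h'
    have e : tT m hF 0 b * tT m hF 0 b' = tT m hF 0 (b + b') := by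
      rw [tT_mul, sg_zero, zero_mul, add_zero, add_zero]
    change tT m hF 0 (b + b') ∈ M
    rw [← e]
    exact M.mul_mem h h'
  zero_mem' := by
    change tT m hF 0 0 ∈ M
    rw [tT_zero]
    exact M.one_mem
  neg_mem' := by
    intro b h
    rw [CharTwo.neg_eq]
    exact h

theorem mem_lam (b : F) : b ∈ lam m hF M ↔ tT m hF 0 b ∈ M := Iff.rfl

/-- conjugating a central involution by an element of the stabiliser -/
theorem stab_conj_central (a b : F) (κ : Fˣ) (c : F) :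
    (tT m hF a b * dD m hF κ) * tT m hF 0 c * (tT m hF a b * dD m hF κ)⁻¹ =
      tT m hF 0 (sg m (κ : F) * κ * c) := by
  have e : (tT m hF a b * dD m hF κ) * tT m hF 0 c * (tT m hF a b * dD m hF κ)⁻¹ =
      tT m hF a b * (dD m hF κ * tT m hF 0 c * (dD m hF κ)⁻¹) * (tT m hF a b)⁻¹ := by group
  rw [e, dD_conj, tT_conj, mul_zero, sg_zero, zero_mul, mul_zero, add_zero, add_zero]

theorem gam_smul_lam {κ : Fˣ} (hκ : κ ∈ gam m hF M) {c : F} (hc : c ∈ lam m hF M) :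
    sg m (κ : F) * κ * c ∈ lam m hF M := by
  obtain ⟨a, b, h⟩ := hκ
  change tT m hF 0 _ ∈ M
  rw [← stab_conj_central m hF a b κ c]
  exact M.mul_mem (M.mul_mem h hc) (M.inv_mem h)

theorem tT_sq_eq_one (b : F) : tT m hF 0 b * tT m hF 0 b = 1 := by
  rw [tT_sq, sg_zero, zero_mul, tT_zero]

theorem tT_central_ne_one {b : F} (hb : b ≠ 0) : tT m hF 0 b ≠ 1 := by
  rw [tT_ne_one_iff]
  rintro ⟨-, h⟩
  exact hb h

/-- hypotheses on a normalised subgroup of even order without a global fixed point -/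
structure NormSub : Prop where
  t0 : tT m hF 0 1 ∈ M
  other : ∃ t' ∈ M, t' ≠ 1 ∧ t' * t' = 1 ∧ t' • (oinf m : suzukiOvoid F m) ≠ oinf m

variable {M}

/-- any involution of `M` fixing the point at infinity is conjugate in `M` to the other
involution -/
theorem NormSub.conj_other (hM : NormSub m hF M) (hm : 1 ≤ m) {t : Sz F m} (htM : t ∈ M)
    (ht1 : t ≠ 1) (ht : t * t = 1) {ω : suzukiOvoid F m} (hω : t • ω = ω) :
    ∃ s ∈ M, s * tT m hF 0 1 * s⁻¹ = t ∧ s • (oinf m : suzukiOvoid F m) = ω := by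
  have h01 : tT m hF (0 : F) 1 ≠ 1 := tT_central_ne_one m hF one_ne_zero
  have hsq := tT_sq_eq_one m hF (1 : F)
  have hfix : tT m hF (0 : F) 1 • (oinf m : suzukiOvoid F m) = oinf m := tT_oinf m hF 0 1
  by_cases hne : (oinf m : suzukiOvoid F m) = ω
  · -- go through the other involution
    obtain ⟨t', ht'M, ht'1, ht', hmove⟩ := hM.other
    obtain ⟨ω', hω', -⟩ := exists_unique_fix m hF hm ht'1 (pow_four_of_sq m ht')
    have hne' : (oinf m : suzukiOvoid F m) ≠ ω' := by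
      intro h
      rw [← h] at hω'
      exact hmove hω'
    obtain ⟨s₁, hs₁M, -, hs₁, hs₁ω, -⟩ :=
      invol_swap m hF hm M hM.t0 ht'M h01 hsq ht'1 ht' hfix hω' hne'
    rw [← hne] at hω
    obtain ⟨s₂, hs₂M, -, hs₂, -, hs₂ω⟩ :=
      invol_swap m hF hm M htM ht'M ht1 ht ht'1 ht' hω hω' hne'
    refine ⟨s₂⁻¹ * s₁, M.mul_mem (M.inv_mem hs₂M) hs₁M, ?_, ?_⟩
    · have e : s₂⁻¹ * s₁ * tT m hF 0 1 * (s₂⁻¹ * s₁)⁻¹ =
          s₂⁻¹ * (s₁ * tT m hF 0 1 * s₁⁻¹) * s₂ := by group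
      rw [e, hs₁, ← hs₂]
      group
    · rw [mul_smul, hs₁ω, inv_smul_eq_iff, ← hne]
      -- s₂ • ∞ = ω'
      have := invol_fix_unique m hF hm ht'1 (pow_four_of_sq m ht')
        (by rw [← hs₂]; exact conj_fix m hF hω) hω'
      exact this.symm
  · obtain ⟨s, hsM, -, hs, hsω, -⟩ :=
      invol_swap m hF hm M hM.t0 htM h01 hsq ht1 ht hfix hω hne
    exact ⟨s, hsM, hs, hsω⟩

/-- the non-zero elements of `lam` are the `θ+1`-powers of elements of `gam` -/
theorem NormSub.lam_eq_gam (hM : NormSub m hF M) (hm : 1 ≤ m) {b : F} (hb : b ∈ lam m hF M)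
    (hb0 : b ≠ 0) : ∃ κ ∈ gam m hF M, b = sg m (κ : F) * κ := by
  obtain ⟨s, hsM, hs, hsω⟩ := hM.conj_other m hF hm hb (tT_central_ne_one m hF hb0)
    (tT_sq_eq_one m hF b) (tT_oinf m hF 0 b)
  obtain ⟨a', b', κ, rfl⟩ := stab_inf m hF hm s (congrArg Subtype.val hsω)
  refine ⟨κ, ⟨a', b', hsM⟩, ?_⟩
  rw [stab_conj_central, mul_one] at hs
  exact (tT_inj m hF hs).2.symm


theorem NormSub.lam_mul (hM : NormSub m hF M) (hm : 1 ≤ m) {b b' : F} (hb : b ∈ lam m hF M)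
    (hb' : b' ∈ lam m hF M) : b * b' ∈ lam m hF M := by
  by_cases hb0 : b = 0
  · rw [hb0, zero_mul]
    exact (lam m hF M).zero_mem
  · obtain ⟨κ, hκ, rfl⟩ := hM.lam_eq_gam m hF hm hb hb0
    exact gam_smul_lam m hF M hκ hb'

theorem NormSub.lam_one (hM : NormSub m hF M) : (1 : F) ∈ lam m hF M := hM.t0

theorem NormSub.lam_inv (hM : NormSub m hF M) (hm : 1 ≤ m) {b : F} (hb : b ∈ lam m hF M) :
    b⁻¹ ∈ lam m hF M := by
  by_cases hb0 : b = 0
  · rw [hb0, inv_zero]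
    exact (lam m hF M).zero_mem
  · obtain ⟨κ, hκ, rfl⟩ := hM.lam_eq_gam m hF hm hb hb0
    have h1 := gam_smul_lam m hF M ((gam m hF M).inv_mem hκ) hM.lam_one
    rw [mul_one] at h1
    have e : (sg m (κ : F) * κ)⁻¹ = sg m ((κ⁻¹ : Fˣ) : F) * ((κ⁻¹ : Fˣ) : F) := by
      rw [Units.val_inv_eq_inv_val, sg_inv, mul_inv]
    rw [e]
    exact h1

theorem NormSub.lam_pow (hM : NormSub m hF M) (hm : 1 ≤ m) {b : F} (hb : b ∈ lam m hF M)
    (n : ℕ) : b ^ n ∈ lam m hF M := by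
  induction n with
  | zero => rw [pow_zero]; exact hM.lam_one m hF
  | succ n ih => rw [pow_succ]; exact hM.lam_mul m hF hm ih hb

theorem NormSub.lam_sg (hM : NormSub m hF M) (hm : 1 ≤ m) {b : F} (hb : b ∈ lam m hF M) :
    sg m b ∈ lam m hF M := hM.lam_pow m hF hm hb _

theorem NormSub.gam_sub_lam (hM : NormSub m hF M) (hm : 1 ≤ m) {κ : Fˣ}
    (hκ : κ ∈ gam m hF M) : (κ : F) ∈ lam m hF M := by
  have h1 := gam_smul_lam m hF M hκ hM.lam_one
  rw [mul_one] at h1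
  have h2 : sg m (sg m (κ : F) * κ) = κ * (sg m (κ : F) * κ) := by
    rw [sg_mul, sg_sg m hF]
    ring
  have hne : sg m (κ : F) * κ ≠ 0 :=
    mul_ne_zero (fun h' => κ.ne_zero (sg_eq_zero m _ h')) κ.ne_zero
  have e : (κ : F) = sg m (sg m (κ : F) * κ) * (sg m (κ : F) * κ)⁻¹ := by
    rw [h2, mul_assoc, mul_inv_cancel₀ hne, mul_one]
  rw [e]
  exact hM.lam_mul m hF hm (hM.lam_sg m hF hm h1) (hM.lam_inv m hF hm h1)

theorem NormSub.lam_sub_gam (hM : NormSub m hF M) (hm : 1 ≤ m) {b : F} (hb : b ∈ lam m hF M)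
    (hb0 : b ≠ 0) : ∃ κ ∈ gam m hF M, (κ : F) = b := by
  have h1 : sg m b * b ∈ lam m hF M := hM.lam_mul m hF hm (hM.lam_sg m hF hm hb) hb
  have hne : sg m b * b ≠ 0 := mul_ne_zero (fun h' => hb0 (sg_eq_zero m _ h')) hb0
  obtain ⟨κ, hκ, h⟩ := hM.lam_eq_gam m hF hm h1 hne
  exact ⟨κ, hκ, (sgmul_inj m hF h).symm⟩

/-- the subfield attached to a normalised subgroup -/
def NormSub.field (hM : NormSub m hF M) (hm : 1 ≤ m) : Subfield F where
  carrier := lam m hF M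
  mul_mem' := fun hb hb' => hM.lam_mul m hF hm hb hb'
  one_mem' := hM.lam_one m hF
  add_mem' := fun hb hb' => (lam m hF M).add_mem hb hb'
  zero_mem' := (lam m hF M).zero_mem
  neg_mem' := fun hb => (lam m hF M).neg_mem hb
  inv_mem' := fun _ hb => hM.lam_inv m hF hm hb

theorem NormSub.mem_field (hM : NormSub m hF M) (hm : 1 ≤ m) (b : F) :
    b ∈ hM.field m hF hm ↔ tT m hF 0 b ∈ M := Iff.rfl

end evenA

end Cfsg.Agent.Lib.Helper5.Suzuki
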