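import Cfsg.Agent.Lib.Helper5.SuzukiEvenA
import Mathlib

set_option autoImplicit false
open Cfsg
open scoped Matrix Pointwise commutatorElement
open Cfsg.Agent.S0335
open Cfsg.Agent.Lib.Helper5.FixCount

namespace Cfsg.Agent.Lib.Helper5.Suzuki

section zp

theorem mem_zpowers_invol {G : Type*} [Group G] {t : G} (ht : t * t = 1) (x : G) :
    x ∈ Subgroup.zpowers t ↔ x = 1 ∨ x = t := by
  constructor
  · rintro ⟨k, rfl⟩
    rcases Int.even_or_odd' k with ⟨j, hj | hj⟩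
    · left
      change t ^ k = 1
      rw [hj, zpow_mul, zpow_two, ht, one_zpow]
    · right
      change t ^ k = t
      rw [hj, zpow_add, zpow_mul, zpow_two, ht, one_zpow, one_mul, zpow_one]
  · rintro (rfl | rfl)
    · exact Subgroup.one_mem _
    · exact Subgroup.mem_zpowers _

end zp

section evenB
variable {F : Type*} [Field F] [Fintype F] [CharP F 2] (m : ℕ)
set_option linter.unusedSectionVars false
variable (hF : Fintype.card F = 2 ^ (2 * m + 1))
include hF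
variable {M : Subgroup (Sz F m)}

/-- elements of `M` fixing infinity are unipotent when `gam` is trivial -/
theorem stab_uni (hm : 1 ≤ m) (hΓ : ∀ κ ∈ gam m hF M, κ = 1) {x : Sz F m} (hx : x ∈ M)
    (hfix : x • (oinf m : suzukiOvoid F m) = oinf m) : ∃ a b, x = tT m hF a b := by
  obtain ⟨a, b, κ, rfl⟩ := stab_inf m hF hm x (congrArg Subtype.val hfix)
  have := hΓ κ ⟨a, b, hx⟩
  subst this
  exact ⟨a, b, by rw [dD_one, mul_one]⟩

theorem NormSub.invol_inf (hM : NormSub m hF M) (hm : 1 ≤ m) (hΓ : ∀ κ ∈ gam m hF M, κ = 1)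
    {t : Sz F m} (htM : t ∈ M) (ht1 : t ≠ 1) (ht : t * t = 1)
    (hfix : t • (oinf m : suzukiOvoid F m) = oinf m) : t = tT m hF 0 1 := by
  obtain ⟨b, rfl⟩ := involution_in_stab m hF hm t ht (congrArg Subtype.val hfix)
  have hb0 : b ≠ 0 := by
    rintro rfl
    exact ht1 (tT_zero m hF)
  obtain ⟨κ, hκ, rfl⟩ := hM.lam_eq_gam m hF hm htM hb0
  rw [hΓ κ hκ, Units.val_one, sg_one, mul_one]

/-- two involutions of `M` with the same fixed point are equal when `gam` is trivial -/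
theorem NormSub.invol_eq (hM : NormSub m hF M) (hm : 1 ≤ m) (hΓ : ∀ κ ∈ gam m hF M, κ = 1)
    {t t' : Sz F m} (htM : t ∈ M) (ht1 : t ≠ 1) (ht : t * t = 1) (htM' : t' ∈ M) (ht1' : t' ≠ 1)
    (ht' : t' * t' = 1) {ω : suzukiOvoid F m} (hω : t • ω = ω) (hω' : t' • ω = ω) : t = t' := by
  obtain ⟨s, hsM, hs, hsω⟩ := hM.conj_other m hF hm htM ht1 ht hω
  have h1 : s⁻¹ * t' * s = tT m hF 0 1 := by
    apply hM.invol_inf m hF hm hΓ (M.mul_mem (M.mul_mem (M.inv_mem hsM) htM') hsM)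
    · intro h
      apply ht1'
      have e : t' = s * (s⁻¹ * t' * s) * s⁻¹ := by group
      rw [e, h]
      group
    · have e : s⁻¹ * t' * s * (s⁻¹ * t' * s) = s⁻¹ * (t' * t') * s := by group
      rw [e, ht']
      group
    · rw [mul_smul, mul_smul, hsω, hω', ← hsω, inv_smul_smul]
  rw [← hs, ← h1]
  group

variable (M) in
/-- the stabiliser of infinity in `M`, as a subgroup of `M` -/
noncomputable def stabM : Subgroup M :=
  (MulAction.stabilizer (Sz F m) (oinf m : suzukiOvoid F m)).subgroupOf M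

omit hF in
theorem mem_stabM (x : M) : x ∈ stabM m M ↔ (x : Sz F m) • (oinf m : suzukiOvoid F m) = oinf m := by
  unfold stabM
  rw [Subgroup.mem_subgroupOf, MulAction.mem_stabilizer_iff]

/-- the stabiliser of infinity in `M` is a trivial-intersection subgroup -/
theorem stabM_ti (hm : 1 ≤ m) (hΓ : ∀ κ ∈ gam m hF M, κ = 1) {n a : M} (ha : a ∈ stabM m M)
    (ha1 : a ≠ 1) (hna : n * a * n⁻¹ ∈ stabM m M) : n ∈ stabM m M := by
  rw [mem_stabM] at ha hna ⊢
  obtain ⟨α, β, hab⟩ := stab_uni m hF hm hΓ a.2 ha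
  have ha1' : (a : Sz F m) ≠ 1 := fun h => ha1 (Subtype.ext h)
  have h4 : ((n : Sz F m) * a * (n : Sz F m)⁻¹) ^ 4 = 1 := by
    rw [conj_pow, hab, tT_pow_four, mul_one, mul_inv_cancel]
  have hne : (n : Sz F m) * a * (n : Sz F m)⁻¹ ≠ 1 := by
    intro h
    apply ha1'
    have e : (a : Sz F m) = (n : Sz F m)⁻¹ * ((n : Sz F m) * a * (n : Sz F m)⁻¹) * n := by group
    rw [e, h]
    group
  have h1 : ((n : Sz F m) * a * (n : Sz F m)⁻¹) • ((n : Sz F m) • (oinf m : suzukiOvoid F m)) =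
      (n : Sz F m) • oinf m := conj_fix m hF ha
  exact invol_fix_unique m hF hm hne h4 h1 hna

theorem normalizer_stabM (hM : NormSub m hF M) (hm : 1 ≤ m) (hΓ : ∀ κ ∈ gam m hF M, κ = 1) :
    Subgroup.normalizer ((stabM m M : Subgroup M) : Set M) = stabM m M := by
  apply le_antisymm
  · intro n hn
    have h0 : (⟨tT m hF 0 1, hM.t0⟩ : M) ∈ stabM m M := by
      rw [mem_stabM]
      exact tT_oinf m hF 0 1
    have h01 : (⟨tT m hF 0 1, hM.t0⟩ : M) ≠ 1 := by
      intro h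
      exact tT_central_ne_one m hF one_ne_zero (congrArg Subtype.val h)
    exact stabM_ti m hF hm hΓ h0 h01 ((Subgroup.mem_normalizer_iff.1 hn _).1 h0)
  · exact Subgroup.le_normalizer

/-- first count: the non-identity `2`-elements of `M` -/
theorem count_two (hM : NormSub m hF M) (hm : 1 ≤ m) (hΓ : ∀ κ ∈ gam m hF M, κ = 1) :
    (clsSet (stabM m M)).ncard * Nat.card (stabM m M) =
      Nat.card M * (Nat.card (stabM m M) - 1) := by
  have h := ti_class_count (stabM m M) (by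
    rintro n ⟨a, ha, ha1, hna⟩
    exact Subgroup.le_normalizer (stabM_ti m hF hm hΓ ha ha1 hna))
  rw [normalizer_stabM m hF hM hm hΓ, Nat.card_coe_set_eq] at h
  exact h

/-- second count: the involutions of `M` -/
theorem count_invol (hM : NormSub m hF M) (hm : 1 ≤ m) (hΓ : ∀ κ ∈ gam m hF M, κ = 1) :
    ({t : M | t ≠ 1 ∧ t * t = 1} : Set M).ncard * Nat.card (stabM m M) = Nat.card M := by
  set t₀ : M := ⟨tT m hF 0 1, hM.t0⟩ with ht₀
  have ht₀sq : t₀ * t₀ = 1 := Subtype.ext (tT_sq_eq_one m hF 1)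
  have ht₀1 : t₀ ≠ 1 := by
    intro h
    exact tT_central_ne_one m hF one_ne_zero (congrArg Subtype.val h)
  have hcomm : ∀ n : M, n * t₀ * n⁻¹ = t₀ ↔ n ∈ stabM m M := by
    intro n
    rw [mem_stabM]
    constructor
    · intro h
      have h' : (n : Sz F m) * tT m hF 0 1 = tT m hF 0 1 * n := by
        have := congrArg Subtype.val h
        simp only [Subgroup.coe_mul, Subgroup.coe_inv, ht₀] at this
        rw [mul_inv_eq_iff_eq_mul] at this
        exact this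
      exact comm_fix m hF hm (tT_central_ne_one m hF one_ne_zero)
        (pow_four_of_sq m (tT_sq_eq_one m hF 1)) (tT_oinf m hF 0 1) h'
    · intro h
      obtain ⟨a, b, hab⟩ := stab_uni m hF hm hΓ n.2 h
      apply Subtype.ext
      simp only [Subgroup.coe_mul, Subgroup.coe_inv, ht₀]
      rw [hab, tT_conj, mul_zero, sg_zero, zero_mul, add_zero, add_zero]
  have hnorm : Subgroup.normalizer ((Subgroup.zpowers t₀ : Subgroup M) : Set M) = stabM m M := by
    ext n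
    rw [← hcomm, Subgroup.mem_normalizer_iff]
    constructor
    · intro h
      have h1 := (h t₀).1 (Subgroup.mem_zpowers _)
      rw [mem_zpowers_invol ht₀sq] at h1
      rcases h1 with h1 | h1
      · exfalso
        apply ht₀1
        have e : t₀ = n⁻¹ * (n * t₀ * n⁻¹) * n := by group
        rw [e, h1]
        group
      · exact h1
    · intro h x
      rw [mem_zpowers_invol ht₀sq, mem_zpowers_invol ht₀sq]
      constructor
      · rintro (rfl | rfl)
        · left; group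
        · right; exact h
      · rintro (h1 | h1)
        · left
          have e : x = n⁻¹ * (n * x * n⁻¹) * n := by group
          rw [e, h1]
          group
        · right
          have : n * x * n⁻¹ = n * t₀ * n⁻¹ := h1.trans h.symm
          exact mul_left_cancel (mul_right_cancel this)
  have hcls : clsSet (Subgroup.zpowers t₀) = ({t : M | t ≠ 1 ∧ t * t = 1} : Set M) := by
    ext x
    rw [mem_clsSet, Set.mem_ofPred_eq]
    constructor
    · rintro ⟨hx1, h, hh⟩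
      refine ⟨hx1, ?_⟩
      rw [mem_zpowers_invol ht₀sq] at hh
      rcases hh with hh | hh
      · exfalso
        apply hx1
        have e : x = h * (h⁻¹ * x * h) * h⁻¹ := by group
        rw [e, hh]
        group
      · have e : x = h * (h⁻¹ * x * h) * h⁻¹ := by group
        rw [e, hh]
        have e2 : h * t₀ * h⁻¹ * (h * t₀ * h⁻¹) = h * (t₀ * t₀) * h⁻¹ := by group
        rw [e2, ht₀sq]
        group
    · rintro ⟨hx1, hxsq⟩
      refine ⟨hx1, ?_⟩
      have hx1' : (x : Sz F m) ≠ 1 := fun h => hx1 (Subtype.ext h)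
      have hxsq' : (x : Sz F m) * x = 1 := congrArg Subtype.val hxsq
      obtain ⟨ω, hω, -⟩ := exists_unique_fix m hF hm hx1' (pow_four_of_sq m hxsq')
      obtain ⟨s, hsM, hs, -⟩ := hM.conj_other m hF hm x.2 hx1' hxsq' hω
      refine ⟨⟨s, hsM⟩, ?_⟩
      rw [mem_zpowers_invol ht₀sq]
      right
      apply Subtype.ext
      simp only [Subgroup.coe_mul, Subgroup.coe_inv, ht₀]
      rw [← hs]
      group
  have hcard : Nat.card (Subgroup.zpowers t₀) = 2 := by
    have : Fact (Nat.Prime 2) := ⟨Nat.prime_two⟩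
    rw [Nat.card_zpowers]
    apply orderOf_eq_prime _ ht₀1
    rw [pow_two, ht₀sq]
  have h := ti_class_count (Subgroup.zpowers t₀) (by
    rintro n ⟨a, ha, ha1, hna⟩
    rw [hnorm, ← hcomm]
    rw [mem_zpowers_invol ht₀sq] at ha hna
    rcases ha with rfl | rfl
    · exact (ha1 rfl).elim
    · rcases hna with hna | hna
      · exfalso
        apply ht₀1
        have e : t₀ = n⁻¹ * (n * t₀ * n⁻¹) * n := by group
        rw [e, hna]
        group
      · exact hna)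
  rw [hnorm, hcls, hcard, Nat.card_coe_set_eq] at h
  simpa using h


/-- a product of two involutions of `M` is not a non-identity `2`-element -/
theorem prod_invol_not_cls (hM : NormSub m hF M) (hm : 1 ≤ m) (hΓ : ∀ κ ∈ gam m hF M, κ = 1)
    {t t' : M} (ht1 : t ≠ 1) (ht : t * t = 1) (ht1' : t' ≠ 1) (ht' : t' * t' = 1) :
    t * t' ∉ clsSet (stabM m M) := by
  rintro ⟨hy1, h, hh⟩
  have ht1G : (t : Sz F m) ≠ 1 := fun h => ht1 (Subtype.ext h)
  have ht1G' : (t' : Sz F m) ≠ 1 := fun h => ht1' (Subtype.ext h)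
  have htG : (t : Sz F m) * t = 1 := congrArg Subtype.val ht
  have htG' : (t' : Sz F m) * t' = 1 := congrArg Subtype.val ht'
  obtain ⟨ω, hω, -⟩ := exists_unique_fix m hF hm ht1G (pow_four_of_sq m htG)
  obtain ⟨ω', hω', -⟩ := exists_unique_fix m hF hm ht1G' (pow_four_of_sq m htG')
  have hne : ω ≠ ω' := by
    rintro rfl
    have := hM.invol_eq m hF hm hΓ t.2 ht1G htG t'.2 ht1G' htG' hω hω'
    apply hy1
    have : t = t' := Subtype.ext this
    rw [← this, ht]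
  obtain ⟨j, hj⟩ := invol_prod_odd m hF hm ht1G htG ht1G' htG' hω hω' hne
  rw [mem_stabM] at hh
  obtain ⟨α, β, hab⟩ := stab_uni m hF hm hΓ (h⁻¹ * (t * t') * h).2 hh
  have hab' : (h : Sz F m)⁻¹ * ((t : Sz F m) * t') * h = tT m hF α β := hab
  have h4 : ((t : Sz F m) * t') ^ 4 = 1 := by
    have e : (t : Sz F m) * t' = h * ((h : Sz F m)⁻¹ * ((t : Sz F m) * t') * h) * (h : Sz F m)⁻¹ := by
      group
    rw [e, hab', conj_pow, tT_pow_four, mul_one, mul_inv_cancel]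
  have : (t : Sz F m) * t' = 1 :=
    eq_one_of_pow_coprime h4 hj (cop_four (by omega))
  exact hy1 (Subtype.ext this)

omit hF in
theorem clsSet_conj_iff {G : Type*} [Group G] (A : Subgroup G) (s y : G) :
    s * y * s⁻¹ ∈ clsSet A ↔ y ∈ clsSet A := by
  rw [mem_clsSet, mem_clsSet]
  constructor
  · rintro ⟨h1, h, hh⟩
    refine ⟨?_, s⁻¹ * h, ?_⟩
    · rintro rfl
      apply h1
      group
    · have e : (s⁻¹ * h)⁻¹ * y * (s⁻¹ * h) = h⁻¹ * (s * y * s⁻¹) * h := by group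
      rwa [e]
  · rintro ⟨h1, h, hh⟩
    refine ⟨?_, s * h, ?_⟩
    · intro h'
      apply h1
      have e : y = s⁻¹ * (s * y * s⁻¹) * s := by group
      rw [e, h']
      group
    · have e : (s * h)⁻¹ * (s * y * s⁻¹) * (s * h) = h⁻¹ * y * h := by group
      rwa [e]

/-- every element of `M` which is not a non-identity `2`-element is the product of any given
involution with another involution or the identity -/
theorem odd_eq_prod (hM : NormSub m hF M) (hm : 1 ≤ m) (hΓ : ∀ κ ∈ gam m hF M, κ = 1)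
    {t : M} (ht1 : t ≠ 1) (ht : t * t = 1) {y : M} (hy : y ∉ clsSet (stabM m M)) :
    ∃ t' : M, t' ≠ 1 ∧ t' * t' = 1 ∧ y = t * t' := by
  set t₀ : M := ⟨tT m hF 0 1, hM.t0⟩ with ht₀
  have ht₀sq : t₀ * t₀ = 1 := Subtype.ext (tT_sq_eq_one m hF 1)
  have ht₀1 : t₀ ≠ 1 := by
    intro h
    exact tT_central_ne_one m hF one_ne_zero (congrArg Subtype.val h)
  -- the statement for `t₀`, by counting
  have key : ∀ y : M, y ∉ clsSet (stabM m M) →
      ∃ t' : M, (t' ≠ 1 ∧ t' * t' = 1) ∧ y = t₀ * t' := by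
    have hc1 := count_two m hF hM hm hΓ
    have hc2 := count_invol m hF hM hm hΓ
    have hqpos : 0 < Nat.card (stabM m M) := Nat.card_pos
    have hcompl : ((clsSet (stabM m M))ᶜ : Set M).ncard =
        ({t : M | t ≠ 1 ∧ t * t = 1} : Set M).ncard := by
      rw [Set.ncard_compl]
      obtain ⟨q, hq⟩ : ∃ q, Nat.card (stabM m M) = q + 1 :=
        ⟨_, (Nat.sub_add_cancel hqpos).symm⟩
      rw [hq] at hc1 hc2
      simp only [Nat.add_sub_cancel] at hc1
      have hle : (clsSet (stabM m M)).ncard ≤ Nat.card M := by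
        rw [← Nat.card_coe_set_eq]
        exact Finite.card_subtype_le _
      have : (clsSet (stabM m M)).ncard + ({t : M | t ≠ 1 ∧ t * t = 1} : Set M).ncard =
          Nat.card M := by
        have h3 : ((clsSet (stabM m M)).ncard + ({t : M | t ≠ 1 ∧ t * t = 1} : Set M).ncard) *
            (q + 1) = Nat.card M * (q + 1) := by
          rw [add_mul, hc1, hc2]
          ring
        exact Nat.eq_of_mul_eq_mul_right (Nat.succ_pos q) h3
      omega
    let f : {t : M // t ≠ 1 ∧ t * t = 1} → {y : M // y ∉ clsSet (stabM m M)} :=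
      fun t' => ⟨t₀ * t'.1, prod_invol_not_cls m hF hM hm hΓ ht₀1 ht₀sq t'.2.1 t'.2.2⟩
    have hinj : Function.Injective f := by
      intro a b hab
      have : t₀ * a.1 = t₀ * b.1 := congrArg Subtype.val hab
      exact Subtype.ext (mul_left_cancel this)
    have hcard : Nat.card {y : M // y ∉ clsSet (stabM m M)} ≤
        Nat.card {t : M // t ≠ 1 ∧ t * t = 1} := by
      have e1 : Nat.card {y : M // y ∉ clsSet (stabM m M)} =
          ((clsSet (stabM m M))ᶜ : Set M).ncard := Nat.card_coe_set_eq _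
      have e2 : Nat.card {t : M // t ≠ 1 ∧ t * t = 1} =
          ({t : M | t ≠ 1 ∧ t * t = 1} : Set M).ncard := Nat.card_coe_set_eq _
      rw [e1, e2, hcompl]
    have hbij := hinj.bijective_of_nat_card_le hcard
    intro y hy
    obtain ⟨t', ht'⟩ := hbij.2 ⟨y, hy⟩
    exact ⟨t'.1, t'.2, (congrArg Subtype.val ht').symm⟩
  -- transport to `t`
  have ht1G : (t : Sz F m) ≠ 1 := fun h => ht1 (Subtype.ext h)
  have htG : (t : Sz F m) * t = 1 := congrArg Subtype.val ht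
  obtain ⟨ω, hω, -⟩ := exists_unique_fix m hF hm ht1G (pow_four_of_sq m htG)
  obtain ⟨s, hsM, hs, -⟩ := hM.conj_other m hF hm t.2 ht1G htG hω
  have hs' : (⟨s, hsM⟩ : M) * t₀ * (⟨s, hsM⟩ : M)⁻¹ = t := Subtype.ext hs
  have hy' : (⟨s, hsM⟩ : M)⁻¹ * y * ((⟨s, hsM⟩ : M)⁻¹)⁻¹ ∉ clsSet (stabM m M) := by
    rw [clsSet_conj_iff]
    exact hy
  obtain ⟨t', ⟨ht'1, ht'sq⟩, hyt⟩ := key _ hy'
  refine ⟨(⟨s, hsM⟩ : M) * t' * (⟨s, hsM⟩ : M)⁻¹, ?_, ?_, ?_⟩
  · intro h
    apply ht'1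
    have e : t' = (⟨s, hsM⟩ : M)⁻¹ * ((⟨s, hsM⟩ : M) * t' * (⟨s, hsM⟩ : M)⁻¹) * (⟨s, hsM⟩ : M) := by
      group
    rw [e, h]
    group
  · have e : (⟨s, hsM⟩ : M) * t' * (⟨s, hsM⟩ : M)⁻¹ * ((⟨s, hsM⟩ : M) * t' * (⟨s, hsM⟩ : M)⁻¹) =
        (⟨s, hsM⟩ : M) * (t' * t') * (⟨s, hsM⟩ : M)⁻¹ := by group
    rw [e, ht'sq]
    group
  · rw [← hs']
    have e : y = (⟨s, hsM⟩ : M) * ((⟨s, hsM⟩ : M)⁻¹ * y * ((⟨s, hsM⟩ : M)⁻¹)⁻¹) *
        (⟨s, hsM⟩ : M)⁻¹ := by group
    rw [e, hyt]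
    group


/-- the elements of `M` which are not non-identity `2`-elements form a subgroup -/
noncomputable def oddSub (hM : NormSub m hF M) (hm : 1 ≤ m) (hΓ : ∀ κ ∈ gam m hF M, κ = 1) :
    Subgroup M where
  carrier := (clsSet (stabM m M))ᶜ
  one_mem' := fun h => h.1 rfl
  mul_mem' := by
    intro y₁ y₂ h₁ h₂
    have ht₀sq : (⟨tT m hF 0 1, hM.t0⟩ : M) * ⟨tT m hF 0 1, hM.t0⟩ = 1 :=
      Subtype.ext (tT_sq_eq_one m hF 1)
    have ht₀1 : (⟨tT m hF 0 1, hM.t0⟩ : M) ≠ 1 := by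
      intro h
      exact tT_central_ne_one m hF one_ne_zero (congrArg Subtype.val h)
    obtain ⟨t₁, ht₁1, ht₁sq, rfl⟩ := odd_eq_prod m hF hM hm hΓ ht₀1 ht₀sq h₁
    obtain ⟨t₂, ht₂1, ht₂sq, rfl⟩ := odd_eq_prod m hF hM hm hΓ ht₁1 ht₁sq h₂
    have e : (⟨tT m hF 0 1, hM.t0⟩ : M) * t₁ * (t₁ * t₂) = ⟨tT m hF 0 1, hM.t0⟩ * t₂ := by
      rw [mul_assoc, ← mul_assoc t₁, ht₁sq, one_mul]
    rw [e]
    exact prod_invol_not_cls m hF hM hm hΓ ht₀1 ht₀sq ht₂1 ht₂sq
  inv_mem' := by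
    intro y h
    have ht₀sq : (⟨tT m hF 0 1, hM.t0⟩ : M) * ⟨tT m hF 0 1, hM.t0⟩ = 1 :=
      Subtype.ext (tT_sq_eq_one m hF 1)
    have ht₀1 : (⟨tT m hF 0 1, hM.t0⟩ : M) ≠ 1 := by
      intro h
      exact tT_central_ne_one m hF one_ne_zero (congrArg Subtype.val h)
    obtain ⟨t₁, ht₁1, ht₁sq, rfl⟩ := odd_eq_prod m hF hM hm hΓ ht₀1 ht₀sq h
    rw [mul_inv_rev, inv_of_sq ht₁sq, inv_of_sq ht₀sq]
    exact prod_invol_not_cls m hF hM hm hΓ ht₁1 ht₁sq ht₀1 ht₀sq

theorem mem_oddSub (hM : NormSub m hF M) (hm : 1 ≤ m) (hΓ : ∀ κ ∈ gam m hF M, κ = 1) (y : M) :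
    y ∈ oddSub m hF hM hm hΓ ↔ y ∉ clsSet (stabM m M) := Iff.rfl

theorem invol_mem_cls (hM : NormSub m hF M) (hm : 1 ≤ m) {y : M} (hy1 : y ≠ 1)
    (hysq : y * y = 1) : y ∈ clsSet (stabM m M) := by
  refine ⟨hy1, ?_⟩
  have hy1G : (y : Sz F m) ≠ 1 := fun h => hy1 (Subtype.ext h)
  have hyG : (y : Sz F m) * y = 1 := congrArg Subtype.val hysq
  obtain ⟨ω, hω, -⟩ := exists_unique_fix m hF hm hy1G (pow_four_of_sq m hyG)
  obtain ⟨s, hsM, hs, -⟩ := hM.conj_other m hF hm y.2 hy1G hyG hω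
  refine ⟨⟨s, hsM⟩, ?_⟩
  rw [mem_stabM]
  have e : (((⟨s, hsM⟩ : M)⁻¹ * y * ⟨s, hsM⟩ : M) : Sz F m) = tT m hF 0 1 := by
    simp only [Subgroup.coe_mul, Subgroup.coe_inv]
    rw [← hs]
    group
  rw [e]
  exact tT_oinf m hF 0 1

theorem oddSub_card_odd (hM : NormSub m hF M) (hm : 1 ≤ m) (hΓ : ∀ κ ∈ gam m hF M, κ = 1) :
    Nat.card (oddSub m hF hM hm hΓ) % 2 = 1 := by
  by_contra h
  have h2 : 2 ∣ Nat.card (oddSub m hF hM hm hΓ) := by omega
  have : Fact (Nat.Prime 2) := ⟨Nat.prime_two⟩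
  obtain ⟨y, hy⟩ := exists_prime_orderOf_dvd_card' 2 h2
  have hy1 : y ≠ 1 := by
    rintro rfl
    rw [orderOf_one] at hy
    omega
  have hysq : y * y = 1 := by
    rw [← pow_two, ← hy, pow_orderOf_eq_one]
  have hy1' : (y : M) ≠ 1 := fun h => hy1 (Subtype.ext h)
  have hysq' : (y : M) * y = 1 := congrArg Subtype.val hysq
  exact y.2 (invol_mem_cls m hF hM hm hy1' hysq')

/-- a normalised subgroup with trivial `gam` normalises a maximal torus -/
theorem NormSub.of_trivial_gam (hM : NormSub m hF M) (hm : 1 ≤ m)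
    (hΓ : ∀ κ ∈ gam m hF M, κ = 1) :
    ∃ T : Subgroup (Sz F m), IsMT m hF T ∧ M ≤ Subgroup.normalizer (T : Set (Sz F m)) := by
  have ht₀sq : (⟨tT m hF 0 1, hM.t0⟩ : M) * ⟨tT m hF 0 1, hM.t0⟩ = 1 :=
    Subtype.ext (tT_sq_eq_one m hF 1)
  have ht₀1 : (⟨tT m hF 0 1, hM.t0⟩ : M) ≠ 1 := by
    intro h
    exact tT_central_ne_one m hF one_ne_zero (congrArg Subtype.val h)
  obtain ⟨t', ht'M, ht'1, ht'sq, hmove⟩ := hM.other
  have ht'1' : (⟨t', ht'M⟩ : M) ≠ 1 := fun h => ht'1 (congrArg Subtype.val h)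
  have ht'sq' : (⟨t', ht'M⟩ : M) * ⟨t', ht'M⟩ = 1 := Subtype.ext ht'sq
  have hk : (⟨tT m hF 0 1, hM.t0⟩ : M) * ⟨t', ht'M⟩ ∈ oddSub m hF hM hm hΓ :=
    prod_invol_not_cls m hF hM hm hΓ ht₀1 ht₀sq ht'1' ht'sq'
  have hk1 : tT m hF 0 1 * t' ≠ 1 := by
    intro h
    apply hmove
    have : t' = tT m hF 0 1 := by
      have h' := eq_inv_of_mul_eq_one_right h
      rw [h', inv_of_sq (tT_sq_eq_one m hF 1)]
    rw [this]
    exact tT_oinf m hF 0 1
  have hKodd : Nat.card ((oddSub m hF hM hm hΓ).map M.subtype) % 2 = 1 := by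
    rw [Subgroup.card_map_of_injective M.subtype_injective]
    exact oddSub_card_odd m hF hM hm hΓ
  have hy₀ : tT m hF 0 1 * t' ∈ (oddSub m hF hM hm hΓ).map M.subtype := by
    rw [Subgroup.mem_map]
    refine ⟨_, hk, ?_⟩
    simp only [map_mul, Subgroup.subtype_apply]
  have hle := odd_le_centralizer m hF _ hm hKodd hy₀ hk1
  have hT := isMT_centralizer m hF hm
    (pow_four_ne_of_odd m hF hKodd (pow_card_of_mem m hy₀) hk1)
  refine ⟨_, hT, ?_⟩
  intro x hx
  have h1 : x * (tT m hF 0 1 * t') * x⁻¹ ∈ (oddSub m hF hM hm hΓ).map M.subtype := by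
    rw [Subgroup.mem_map]
    refine ⟨(⟨x, hx⟩ : M) * ((⟨tT m hF 0 1, hM.t0⟩ : M) * ⟨t', ht'M⟩) * (⟨x, hx⟩ : M)⁻¹, ?_, ?_⟩
    · rw [mem_oddSub, clsSet_conj_iff]
      exact hk
    · simp only [map_mul, map_inv, Subgroup.subtype_apply]
  have h2 := hle h1
  have h3 : x * (tT m hF 0 1 * t') * x⁻¹ ≠ 1 := by
    intro h
    apply hk1
    have e : tT m hF 0 1 * t' = x⁻¹ * (x * (tT m hF 0 1 * t') * x⁻¹) * x := by group
    rw [e, h]
    group
  have h4 := hT.cent m hF hm h2 h3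
  rw [centralizer_conj] at h4
  exact mem_normalizer_of_conjSub_eq h4

end evenB

end Cfsg.Agent.Lib.Helper5.Suzuki
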