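import Cfsg.Agent.Lib.Helper5.SuzukiEvenB
import Cfsg.Agent.Lib.Helper5.SuzukiAutC
import Mathlib

set_option autoImplicit false
open Cfsg
open scoped Matrix Pointwise commutatorElement
open Cfsg.Agent.S0335
open Cfsg.Agent.Lib.Helper5.FixCount

namespace Cfsg.Agent.Lib.Helper5.Suzuki

section evenC
variable {F : Type*} [Field F] [Fintype F] [CharP F 2] (m : ℕ)
set_option linter.unusedSectionVars false
variable (hF : Fintype.card F = 2 ^ (2 * m + 1))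
include hF
variable {M : Subgroup (Sz F m)}

theorem tT_smul_zero (x y : F) : tT m hF x y • opt m (0 : F) 0 = opt m x y := by
  rw [tT_opt, zero_add, mul_zero, add_zero, zero_add]

/-- the commutator of a unipotent element with a diagonal element -/
theorem comm_tT_dD (x y : F) (κ : Fˣ) :
    tT m hF x y * dD m hF κ * (tT m hF x y)⁻¹ * (dD m hF κ)⁻¹ =
      tT m hF (x + κ * x) (y + sg m (κ : F) * κ * (y + sg m x * x) + sg m x * (κ * x)) := by
  have e : tT m hF x y * dD m hF κ * (tT m hF x y)⁻¹ * (dD m hF κ)⁻¹ =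
      tT m hF x y * (dD m hF κ * (tT m hF x y)⁻¹ * (dD m hF κ)⁻¹) := by group
  rw [e, tT_inv, dD_conj, tT_mul]

/-- (a) every element of the stabiliser of infinity in `M` outside the unipotent part fixes a
second point in the unipotent orbit of zero -/
theorem exists_fix_in_Q (hm : 1 ≤ m) (hN3 : ∀ a b κ, tT m hF a b * dD m hF κ ∈ M → dD m hF κ ∈ M)
    {a b : F} {κ : Fˣ} (hκ : κ ≠ 1) (h : tT m hF a b * dD m hF κ ∈ M) :
    ∃ x y, tT m hF x y ∈ M ∧ (tT m hF a b * dD m hF κ) • opt m x y = opt m x y := by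
  have hc : dD m hF κ ∈ M := hN3 a b κ h
  have hab : tT m hF a b ∈ M := by
    have e : tT m hF a b = tT m hF a b * dD m hF κ * (dD m hF κ)⁻¹ := by group
    rw [e]
    exact M.mul_mem h (M.inv_mem hc)
  let Qt := {u : Sz F m // u ∈ M ∧ ∃ x y, u = tT m hF x y}
  let f : Qt → Qt := fun u =>
    ⟨u.1 * dD m hF κ * u.1⁻¹ * (dD m hF κ)⁻¹,
      M.mul_mem (M.mul_mem (M.mul_mem u.2.1 hc) (M.inv_mem u.2.1)) (M.inv_mem hc), by
        obtain ⟨x, y, hxy⟩ := u.2.2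
        rw [hxy, comm_tT_dD]
        exact ⟨_, _, rfl⟩⟩
  have hinj : Function.Injective f := by
    intro u u' huu
    have h1 : u.1 * dD m hF κ * u.1⁻¹ * (dD m hF κ)⁻¹ =
        u'.1 * dD m hF κ * u'.1⁻¹ * (dD m hF κ)⁻¹ := congrArg Subtype.val huu
    have h2 : (u'.1⁻¹ * u.1) * dD m hF κ = dD m hF κ * (u'.1⁻¹ * u.1) := by
      have h3 := mul_right_cancel h1
      have e1 : (u'.1⁻¹ * u.1) * dD m hF κ = u'.1⁻¹ * (u.1 * dD m hF κ * u.1⁻¹) * u.1 := by group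
      rw [e1, h3]
      group
    obtain ⟨β, hβ⟩ := cent_dD m hF hm hκ _ h2
    obtain ⟨x, y, hxy⟩ := u.2.2
    obtain ⟨x', y', hxy'⟩ := u'.2.2
    have h4 : u'.1⁻¹ * u.1 ∈ uSub m hF :=
      (uSub m hF).mul_mem ((uSub m hF).inv_mem ⟨x', y', hxy'⟩) ⟨x, y, hxy⟩
    obtain ⟨x'', y'', h5⟩ := h4
    have h6 : tT m hF x'' y'' * dD m hF 1 = tT m hF 0 0 * dD m hF β := by
      rw [dD_one, mul_one, tT_zero, one_mul, ← h5, hβ]
    obtain ⟨rfl, rfl, -⟩ := decomp_unique m hF h6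
    rw [tT_zero] at h5
    apply Subtype.ext
    have e : u.1 = u'.1 * (u'.1⁻¹ * u.1) := by group
    rw [e, h5, mul_one]
  have hsurj : Function.Surjective f := Finite.injective_iff_surjective.1 hinj
  obtain ⟨u, hu⟩ := hsurj ⟨tT m hF a b, hab, a, b, rfl⟩
  have hu' : u.1 * dD m hF κ * u.1⁻¹ * (dD m hF κ)⁻¹ = tT m hF a b := congrArg Subtype.val hu
  obtain ⟨x, y, hxy⟩ := u.2.2
  refine ⟨x, y, ?_, ?_⟩
  · rw [← hxy]
    exact u.2.1
  · have e : tT m hF a b * dD m hF κ = u.1 * dD m hF κ * u.1⁻¹ := by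
      rw [← hu']
      group
    rw [e, ← tT_smul_zero m hF x y, ← hxy, mul_smul, mul_smul, inv_smul_smul]
    congr 1
    rw [dD_opt]
    simp


/-- (b) the orbit of infinity under `M` lies in the unipotent orbit of zero -/
theorem orbit_in_Q (hM : NormSub m hF M) (hm : 1 ≤ m)
    (hN3 : ∀ a b κ, tT m hF a b * dD m hF κ ∈ M → dD m hF κ ∈ M)
    (hΓ : ∃ κ ∈ gam m hF M, κ ≠ 1) {x : Sz F m} (hx : x ∈ M)
    (hmove : x • (oinf m : suzukiOvoid F m) ≠ oinf m) :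
    ∃ a b, tT m hF a b ∈ M ∧ x • (oinf m : suzukiOvoid F m) = opt m a b := by
  obtain ⟨κ₁, hκ₁, hκ₁1⟩ := hΓ
  have hb₂ : sg m (κ₁ : F) * κ₁ ∈ lam m hF M := by
    have := gam_smul_lam m hF M hκ₁ (hM.lam_one m hF)
    rwa [mul_one] at this
  have hb₂0 : sg m (κ₁ : F) * κ₁ ≠ 0 :=
    mul_ne_zero (fun h' => κ₁.ne_zero (sg_eq_zero m _ h')) κ₁.ne_zero
  have hb₂1 : sg m (κ₁ : F) * κ₁ ≠ 1 := by
    intro h
    apply hκ₁1
    apply Units.ext
    rw [Units.val_one]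
    apply sgmul_inj m hF
    rw [h, sg_one, mul_one]
  -- the involution fixing `x • ∞`
  have ht'M : x * tT m hF 0 1 * x⁻¹ ∈ M := M.mul_mem (M.mul_mem hx hM.t0) (M.inv_mem hx)
  have ht'1 : x * tT m hF 0 1 * x⁻¹ ≠ 1 := by
    intro h
    apply tT_central_ne_one m hF (one_ne_zero (α := F))
    have e : tT m hF (0 : F) 1 = x⁻¹ * (x * tT m hF 0 1 * x⁻¹) * x := by group
    rw [e, h]
    group
  have ht'sq : x * tT m hF 0 1 * x⁻¹ * (x * tT m hF 0 1 * x⁻¹) = 1 := by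
    have e : x * tT m hF 0 1 * x⁻¹ * (x * tT m hF 0 1 * x⁻¹) =
        x * (tT m hF 0 1 * tT m hF 0 1) * x⁻¹ := by group
    rw [e, tT_sq_eq_one]
    group
  have ht'fix : (x * tT m hF 0 1 * x⁻¹) • (x • (oinf m : suzukiOvoid F m)) = x • oinf m :=
    conj_fix m hF (tT_oinf m hF 0 1)
  obtain ⟨s₁, hs₁M, hs₁sq, hs₁, hs₁a, hs₁b⟩ := invol_swap m hF hm M hM.t0 ht'M
    (tT_central_ne_one m hF one_ne_zero) (tT_sq_eq_one m hF 1) ht'1 ht'sq (tT_oinf m hF 0 1)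
    ht'fix (Ne.symm hmove)
  obtain ⟨s₂, hs₂M, hs₂sq, hs₂, hs₂a, hs₂b⟩ := invol_swap m hF hm M hb₂ ht'M
    (tT_central_ne_one m hF hb₂0) (tT_sq_eq_one m hF _) ht'1 ht'sq (tT_oinf m hF 0 _)
    ht'fix (Ne.symm hmove)
  have hh1 : s₁ * s₂ ≠ 1 := by
    intro h
    have h' : s₂ = s₁ := by
      have := eq_inv_of_mul_eq_one_right h
      rw [this, inv_of_sq hs₁sq]
    rw [h'] at hs₂
    have := hs₁.trans hs₂.symm
    have h3 := mul_left_cancel (mul_right_cancel this)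
    exact hb₂1 (tT_inj m hF h3).2.symm
  have hhinf : (s₁ * s₂) • (oinf m : suzukiOvoid F m) = oinf m := by
    rw [mul_smul, hs₂a, hs₁b]
  have hhδ : (s₁ * s₂) • (x • (oinf m : suzukiOvoid F m)) = x • oinf m := by
    rw [mul_smul, hs₂b, hs₁a]
  have hhM : s₁ * s₂ ∈ M := M.mul_mem hs₁M hs₂M
  obtain ⟨a, b, κ, hdec⟩ := stab_inf m hF hm _ (congrArg Subtype.val hhinf)
  rw [hdec] at hh1 hhδ hhM hhinf
  have hκ1 : κ ≠ 1 := by
    rintro rfl
    rw [dD_one, mul_one] at hh1 hhδ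
    rw [tT_ne_one_iff] at hh1
    exact hmove (tT_fix_only m hF hh1 _ hhδ)
  obtain ⟨x', y', hxyM, hxyfix⟩ := exists_fix_in_Q m hF hm hN3 hκ1 hhM
  refine ⟨x', y', hxyM, ?_⟩
  by_contra hne
  exact hh1 (fix_three m hF hm _ (oinf m) (x • oinf m) (opt m x' y') (Ne.symm hmove) hne
    (opt_ne_oinf m x' y').symm hhinf hhδ hxyfix)


/-- (c) `M` contains an involution swapping infinity and zero -/
theorem exists_swap (hM : NormSub m hF M) (hm : 1 ≤ m)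
    (hN3 : ∀ a b κ, tT m hF a b * dD m hF κ ∈ M → dD m hF κ ∈ M)
    (hΓ : ∃ κ ∈ gam m hF M, κ ≠ 1) : ∃ μ : Fˣ, dD m hF μ * wW m hF ∈ M := by
  obtain ⟨t', ht'M, ht'1, ht'sq, hmove⟩ := hM.other
  obtain ⟨a, b, habM, hab⟩ := orbit_in_Q m hF hM hm hN3 hΓ ht'M hmove
  have hyM : (tT m hF a b)⁻¹ * t' ∈ M := M.mul_mem (M.inv_mem habM) ht'M
  have hy : ((tT m hF a b)⁻¹ * t') • (oinf m : suzukiOvoid F m) = opt m 0 0 := by
    rw [mul_smul, hab, tT_inv_opt]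
  set y := (tT m hF a b)⁻¹ * t' with hydef
  have ht''M : y * tT m hF 0 1 * y⁻¹ ∈ M := M.mul_mem (M.mul_mem hyM hM.t0) (M.inv_mem hyM)
  have ht''1 : y * tT m hF 0 1 * y⁻¹ ≠ 1 := by
    intro h
    apply tT_central_ne_one m hF (one_ne_zero (α := F))
    have e : tT m hF (0 : F) 1 = y⁻¹ * (y * tT m hF 0 1 * y⁻¹) * y := by group
    rw [e, h]
    group
  have ht''sq : y * tT m hF 0 1 * y⁻¹ * (y * tT m hF 0 1 * y⁻¹) = 1 := by
    have e : y * tT m hF 0 1 * y⁻¹ * (y * tT m hF 0 1 * y⁻¹) =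
        y * (tT m hF 0 1 * tT m hF 0 1) * y⁻¹ := by group
    rw [e, tT_sq_eq_one]
    group
  have ht''fix : (y * tT m hF 0 1 * y⁻¹) • (opt m (0 : F) 0 : suzukiOvoid F m) = opt m 0 0 := by
    have := conj_fix m hF (x := y) (tT_oinf m hF 0 1)
    rwa [hy] at this
  obtain ⟨s, hsM, -, -, hsa, hsb⟩ := invol_swap m hF hm M hM.t0 ht''M
    (tT_central_ne_one m hF one_ne_zero) (tT_sq_eq_one m hF 1) ht''1 ht''sq (tT_oinf m hF 0 1)
    ht''fix (opt_ne_oinf m 0 0).symm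
  have h1 : (s * wW m hF) • (oinf m : suzukiOvoid F m) = oinf m := by
    rw [mul_smul, wW_oinf, hsb]
  have h2 : (s * wW m hF) • (opt m (0 : F) 0 : suzukiOvoid F m) = opt m 0 0 := by
    rw [mul_smul, wW_opt_zero, hsa]
  obtain ⟨μ, hμ⟩ := two_point' m hF hm _ (congrArg Subtype.val h1) (congrArg Subtype.val h2)
  refine ⟨μ, ?_⟩
  rw [← hμ, mul_assoc, wW_mul_wW, mul_one]
  exact hsM

/-- (d) the first coordinate of a unipotent element of `M` lies in `lam` -/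
theorem first_coord_mem (hM : NormSub m hF M) (hm : 1 ≤ m) {a b : F} (h : tT m hF a b ∈ M) :
    a ∈ lam m hF M := by
  by_cases ha : a = 0
  · rw [ha]
    exact (lam m hF M).zero_mem
  · have h1 : sg m a * a ∈ lam m hF M := by
      change tT m hF 0 (sg m a * a) ∈ M
      rw [← tT_sq]
      exact M.mul_mem h h
    have hne : sg m a * a ≠ 0 := mul_ne_zero (fun h' => ha (sg_eq_zero m _ h')) ha
    obtain ⟨κ, hκ, hκa⟩ := hM.lam_eq_gam m hF hm h1 hne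
    rw [sgmul_inj m hF hκa]
    exact hM.gam_sub_lam m hF hm hκ

omit hF in
theorem ff_zero_one : ff m (0 : F) 1 = 1 := by
  unfold ff
  rw [sg_zero, sg_one]
  ring

/-- (e) the swapping involution has parameter in `lam` -/
theorem swap_param (hM : NormSub m hF M) (hm : 1 ≤ m)
    (hN3 : ∀ a b κ, tT m hF a b * dD m hF κ ∈ M → dD m hF κ ∈ M)
    (hΓ : ∃ κ ∈ gam m hF M, κ ≠ 1) {μ : Fˣ} (hs : dD m hF μ * wW m hF ∈ M) :
    tT m hF (μ : F) 0 ∈ M ∧ (μ : F) ∈ lam m hF M := by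
  have hxM : dD m hF μ * wW m hF * tT m hF 0 1 * (dD m hF μ * wW m hF) ∈ M :=
    M.mul_mem (M.mul_mem hs hM.t0) hs
  have hx : (dD m hF μ * wW m hF * tT m hF 0 1 * (dD m hF μ * wW m hF)) •
      (oinf m : suzukiOvoid F m) = opt m (μ : F) 0 := by
    have hne : ff m (0 : F) 1 ≠ 0 := by rw [ff_zero_one]; exact one_ne_zero
    rw [mul_smul, mul_smul, mul_smul, mul_smul, wW_oinf, dD_opt, mul_zero, mul_zero,
      tT_smul_zero, wW_opt m hF 0 1 hne, ff_zero_one, dD_opt]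
    simp
  have hmove : (dD m hF μ * wW m hF * tT m hF 0 1 * (dD m hF μ * wW m hF)) •
      (oinf m : suzukiOvoid F m) ≠ oinf m := by
    rw [hx]
    exact opt_ne_oinf m _ _
  obtain ⟨a, b, habM, hab⟩ := orbit_in_Q m hF hM hm hN3 hΓ hxM hmove
  rw [hx] at hab
  obtain ⟨rfl, rfl⟩ := opt_inj m hab
  exact ⟨habM, first_coord_mem m hF hM hm habM⟩

theorem dD_mem_of_lam (hM : NormSub m hF M) (hm : 1 ≤ m)
    (hN3 : ∀ a b κ, tT m hF a b * dD m hF κ ∈ M → dD m hF κ ∈ M) {μ : Fˣ}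
    (hμ : (μ : F) ∈ lam m hF M) : dD m hF μ ∈ M := by
  obtain ⟨κ, hκ, hκμ⟩ := hM.lam_sub_gam m hF hm hμ μ.ne_zero
  have : κ = μ := Units.ext hκμ
  subst this
  obtain ⟨a, b, hab⟩ := hκ
  exact hN3 a b κ hab

theorem wW_mem (hM : NormSub m hF M) (hm : 1 ≤ m)
    (hN3 : ∀ a b κ, tT m hF a b * dD m hF κ ∈ M → dD m hF κ ∈ M)
    (hΓ : ∃ κ ∈ gam m hF M, κ ≠ 1) : wW m hF ∈ M := by
  obtain ⟨μ, hs⟩ := exists_swap m hF hM hm hN3 hΓ
  obtain ⟨-, hμ⟩ := swap_param m hF hM hm hN3 hΓ hs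
  have hd := dD_mem_of_lam m hF hM hm hN3 hμ
  have e : wW m hF = (dD m hF μ)⁻¹ * (dD m hF μ * wW m hF) := by group
  rw [e]
  exact M.mul_mem (M.inv_mem hd) hs


/-- (f) the second coordinate of a unipotent element of `M` lies in `lam` -/
theorem second_coord_mem (hM : NormSub m hF M) (hm : 1 ≤ m)
    (hN3 : ∀ a b κ, tT m hF a b * dD m hF κ ∈ M → dD m hF κ ∈ M)
    (hΓ : ∃ κ ∈ gam m hF M, κ ≠ 1) {a b : F} (h : tT m hF a b ∈ M) : b ∈ lam m hF M := by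
  have h2 := two_eq_zero' (F := F)
  obtain ⟨κ, hκ, hκ1⟩ := hΓ
  have hκL : (κ : F) ∈ lam m hF M := hM.gam_sub_lam m hF hm hκ
  have hκ1' : (κ : F) ≠ 1 := fun h => hκ1 (Units.ext h)
  have h1κ : (1 + (κ : F)) ∈ lam m hF M := (lam m hF M).add_mem (hM.lam_one m hF) hκL
  have h1κ0 : 1 + (κ : F) ≠ 0 := by
    intro h'
    apply hκ1'
    linear_combination h' - h2
  obtain ⟨κ₂, hκ₂, hκ₂v⟩ := hM.lam_sub_gam m hF hm h1κ h1κ0
  have hd := dD_mem_of_lam m hF hM hm hN3 hκL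
  have hd₂ : dD m hF κ₂ ∈ M := dD_mem_of_lam m hF hM hm hN3 (by rw [hκ₂v]; exact h1κ)
  have hx₁ : tT m hF a b * (dD m hF κ * tT m hF a b * (dD m hF κ)⁻¹) ∈ M :=
    M.mul_mem h (M.mul_mem (M.mul_mem hd h) (M.inv_mem hd))
  have hx₂ : dD m hF κ₂ * tT m hF a b * (dD m hF κ₂)⁻¹ ∈ M :=
    M.mul_mem (M.mul_mem hd₂ h) (M.inv_mem hd₂)
  rw [dD_conj, tT_mul] at hx₁
  rw [dD_conj, hκ₂v] at hx₂
  have hprod := M.mul_mem hx₁ (M.inv_mem hx₂)
  rw [tT_inv, tT_mul] at hprod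
  have e1 : a + (κ : F) * a + (1 + (κ : F)) * a = 0 := by
    linear_combination (a + (κ : F) * a) * h2
  have e2 : b + sg m (κ : F) * κ * b + sg m a * (κ * a) +
      (sg m (1 + (κ : F)) * (1 + κ) * b + sg m ((1 + (κ : F)) * a) * ((1 + (κ : F)) * a)) +
      sg m (a + (κ : F) * a) * ((1 + (κ : F)) * a) =
      sg m a * κ * a + ((κ : F) + sg m (κ : F)) * b := by
    rw [sg_add, sg_one, sg_mul, sg_add, sg_one, sg_add, sg_mul]
    linear_combination (b + sg m (κ : F) * κ * b +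
      (sg m a + sg m (κ : F) * sg m a) * (1 + κ) * a) * h2
  rw [e1, e2] at hprod
  have ha := first_coord_mem m hF hM hm h
  have h3 : sg m a * κ * a ∈ lam m hF M :=
    hM.lam_mul m hF hm (hM.lam_mul m hF hm (hM.lam_sg m hF hm ha) hκL) ha
  have h4 : ((κ : F) + sg m (κ : F)) * b ∈ lam m hF M :=
    ((lam m hF M).add_mem_cancel_left h3).1 hprod
  have h5 : (κ : F) + sg m (κ : F) ∈ lam m hF M :=
    (lam m hF M).add_mem hκL (hM.lam_sg m hF hm hκL)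
  have h6 : (κ : F) + sg m (κ : F) ≠ 0 := by
    intro h'
    have : sg m (κ : F) = κ := by linear_combination h' - (κ : F) * h2
    rcases sg_eq_self m hF _ this with h'' | h''
    · exact κ.ne_zero h''
    · exact hκ1' h''
  have e3 : b = ((κ : F) + sg m (κ : F))⁻¹ * (((κ : F) + sg m (κ : F)) * b) := by
    rw [← mul_assoc, inv_mul_cancel₀ h6, one_mul]
  rw [e3]
  exact hM.lam_mul m hF hm (hM.lam_inv m hF hm h5) h4

/-- elements of `M` fixing infinity have all parameters in `lam` -/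
theorem stab_decomp (hM : NormSub m hF M) (hm : 1 ≤ m)
    (hN3 : ∀ a b κ, tT m hF a b * dD m hF κ ∈ M → dD m hF κ ∈ M)
    (hΓ : ∃ κ ∈ gam m hF M, κ ≠ 1) {x : Sz F m} (hx : x ∈ M)
    (hfix : x • (oinf m : suzukiOvoid F m) = oinf m) :
    ∃ (a b : F) (κ : Fˣ), x = tT m hF a b * dD m hF κ ∧ a ∈ lam m hF M ∧ b ∈ lam m hF M ∧
      (κ : F) ∈ lam m hF M := by
  obtain ⟨a, b, κ, rfl⟩ := stab_inf m hF hm x (congrArg Subtype.val hfix)
  have hκ : κ ∈ gam m hF M := ⟨a, b, hx⟩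
  have hd := hN3 a b κ hx
  have hab : tT m hF a b ∈ M := by
    have e : tT m hF a b = tT m hF a b * dD m hF κ * (dD m hF κ)⁻¹ := by group
    rw [e]
    exact M.mul_mem hx (M.inv_mem hd)
  exact ⟨a, b, κ, rfl, first_coord_mem m hF hM hm hab,
    second_coord_mem m hF hM hm hN3 hΓ hab, hM.gam_sub_lam m hF hm hκ⟩

/-- (g) every element of `M` is a word in generators with parameters in `lam` -/
theorem M_decomp (hM : NormSub m hF M) (hm : 1 ≤ m)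
    (hN3 : ∀ a b κ, tT m hF a b * dD m hF κ ∈ M → dD m hF κ ∈ M)
    (hΓ : ∃ κ ∈ gam m hF M, κ ≠ 1) {x : Sz F m} (hx : x ∈ M) :
    (∃ (a b : F) (κ : Fˣ), x = tT m hF a b * dD m hF κ ∧ a ∈ lam m hF M ∧ b ∈ lam m hF M ∧
      (κ : F) ∈ lam m hF M) ∨
    (∃ (a b a' b' : F) (κ : Fˣ), x = tT m hF a b * wW m hF * (tT m hF a' b' * dD m hF κ) ∧
      a ∈ lam m hF M ∧ b ∈ lam m hF M ∧ a' ∈ lam m hF M ∧ b' ∈ lam m hF M ∧
      (κ : F) ∈ lam m hF M) := by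
  by_cases hfix : x • (oinf m : suzukiOvoid F m) = oinf m
  · exact Or.inl (stab_decomp m hF hM hm hN3 hΓ hx hfix)
  · right
    obtain ⟨a, b, habM, hab⟩ := orbit_in_Q m hF hM hm hN3 hΓ hx hfix
    have hw := wW_mem m hF hM hm hN3 hΓ
    have hyM : wW m hF * (tT m hF a b)⁻¹ * x ∈ M :=
      M.mul_mem (M.mul_mem hw (M.inv_mem habM)) hx
    have hyfix : (wW m hF * (tT m hF a b)⁻¹ * x) • (oinf m : suzukiOvoid F m) = oinf m := by
      rw [mul_smul, mul_smul, hab, tT_inv_opt, wW_opt_zero]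
    obtain ⟨a', b', κ, hy, ha', hb', hκ⟩ := stab_decomp m hF hM hm hN3 hΓ hyM hyfix
    refine ⟨a, b, a', b', κ, ?_, first_coord_mem m hF hM hm habM,
      second_coord_mem m hF hM hm hN3 hΓ habM, ha', hb', hκ⟩
    rw [← hy]
    have e : tT m hF a b * wW m hF * (wW m hF * (tT m hF a b)⁻¹ * x) =
        tT m hF a b * (wW m hF * wW m hF) * (tT m hF a b)⁻¹ * x := by group
    rw [e, wW_mul_wW]
    group

/-- if `lam` is everything then so is `M` -/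
theorem eq_top_of_lam_top (hM : NormSub m hF M) (hm : 1 ≤ m)
    (hN3 : ∀ a b κ, tT m hF a b * dD m hF κ ∈ M → dD m hF κ ∈ M)
    (hΓ : ∃ κ ∈ gam m hF M, κ ≠ 1) (hall : ∀ b : F, b ∈ lam m hF M) : M = ⊤ := by
  have hd : ∀ κ : Fˣ, dD m hF κ ∈ M := fun κ => dD_mem_of_lam m hF hM hm hN3 (hall _)
  have hw := wW_mem m hF hM hm hN3 hΓ
  obtain ⟨μ, hs⟩ := exists_swap m hF hM hm hN3 hΓ
  obtain ⟨hμ0, -⟩ := swap_param m hF hM hm hN3 hΓ hs
  have ht0 : ∀ a : F, tT m hF a 0 ∈ M := by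
    intro a
    by_cases ha : a = 0
    · rw [ha, tT_zero]
      exact M.one_mem
    · have hne : a / (μ : F) ≠ 0 := div_ne_zero ha μ.ne_zero
      have := M.mul_mem (M.mul_mem (hd (Units.mk0 _ hne)) hμ0) (M.inv_mem (hd (Units.mk0 _ hne)))
      rw [dD_conj, mul_zero, Units.val_mk0, div_mul_cancel₀ _ μ.ne_zero] at this
      exact this
  have ht : ∀ a b : F, tT m hF a b ∈ M := by
    intro a b
    have e : tT m hF a b = tT m hF a 0 * tT m hF 0 b := by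
      rw [tT_mul, add_zero, zero_add, mul_zero, add_zero]
    rw [e]
    exact M.mul_mem (ht0 a) (hall b)
  rw [eq_top_iff]
  intro g _
  rcases cases m hF hm g with ⟨a, b, α, rfl⟩ | ⟨a, b, a', b', α, rfl⟩
  · exact M.mul_mem (ht a b) (hd α)
  · exact M.mul_mem (M.mul_mem (M.mul_mem (ht a b) hw) (ht a' b')) (hd α)

end evenC

end Cfsg.Agent.Lib.Helper5.Suzuki
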