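import Cfsg.Agent.Lib.Helper5.SuzukiTorus
import Mathlib

set_option autoImplicit false
open Cfsg
open scoped Matrix Pointwise commutatorElement
open Cfsg.Agent.S0335

namespace Cfsg.Agent.Lib.Helper5.Suzuki

section fix
variable {F : Type*} [Field F] [Fintype F] [CharP F 2] (m : ℕ)
set_option linter.unusedSectionVars false
variable (hF : Fintype.card F = 2 ^ (2 * m + 1))
include hF

theorem dD_ne_one {α : Fˣ} (hα : α ≠ 1) : dD m hF α ≠ 1 := by
  intro h
  rw [← dD_one m hF] at h
  exact hα (dD_inj m hF h)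

/-- the action of an element of the point stabiliser -/
theorem stab_opt (a b : F) (α : Fˣ) (x y : F) :
    (tT m hF a b * dD m hF α) • opt m x y =
      opt m (α * x + a) (sg m (α : F) * α * y + sg m a * (α * x) + b) := by
  rw [mul_smul, dD_opt, tT_opt]

/-- an element of the point stabiliser outside the unipotent radical has a second fixed point -/
theorem exists_second_fixed (a b : F) (α : Fˣ) (hα : α ≠ 1) :
    ∃ x y : F, (tT m hF a b * dD m hF α) • opt m x y = opt m x y := by
  have h2 := two_eq_zero' (F := F)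
  have h1 : (1 : F) + α ≠ 0 := by
    intro h
    apply hα
    apply Units.ext
    rw [Units.val_one]
    linear_combination h - h2
  have h3 : (1 : F) + sg m (α : F) * α ≠ 0 := by
    intro h
    apply hα
    apply Units.ext
    rw [Units.val_one]
    apply sg_mul_self_eq_one m hF
    linear_combination h - h2
  refine ⟨a / (1 + α), (sg m a * (α * (a / (1 + α))) + b) / (1 + sg m (α : F) * α), ?_⟩
  rw [stab_opt]
  congr 1
  · field_simp
    linear_combination (a * (α : F)) * h2
  · field_simp
    linear_combination ((α : F) ^ 2 * sg m (α : F) * sg m a * a +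
      (α : F) * sg m (α : F) * (1 + (α : F)) * b) * h2

/-- the three kinds of non-identity elements -/
theorem trichotomy (hm : 1 ≤ m) (g : Sz F m) (hg : g ≠ 1) :
    (∃ (h : Sz F m) (a b : F), ¬ (a = 0 ∧ b = 0) ∧ h * g * h⁻¹ = tT m hF a b) ∨
    (∃ (h : Sz F m) (α : Fˣ), α ≠ 1 ∧ h * g * h⁻¹ = dD m hF α) ∨
    (∀ ω : suzukiOvoid F m, g • ω ≠ ω) := by
  by_cases hfix : ∃ ω : suzukiOvoid F m, g • ω = ω
  · obtain ⟨ω, hω⟩ := hfix
    obtain ⟨h₁, hh₁⟩ := exists_to_inf m hF ω
    have hinf : (h₁ * g * h₁⁻¹) • (oinf m : suzukiOvoid F m) = oinf m := by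
      rw [mul_smul, mul_smul, inv_smul_eq_iff.2 hh₁.symm, hω, hh₁]
    obtain ⟨a, b, α, hdec⟩ := stab_inf m hF hm (h₁ * g * h₁⁻¹) (congrArg Subtype.val hinf)
    by_cases hα : α = 1
    · left
      refine ⟨h₁, a, b, ?_, ?_⟩
      · rintro ⟨rfl, rfl⟩
        rw [hα, tT_zero, dD_one, one_mul] at hdec
        apply hg
        have := mul_inv_eq_one.1 hdec
        exact mul_left_cancel (this.trans (mul_one h₁).symm)
      · rw [hdec, hα, dD_one, mul_one]
    · right; left
      obtain ⟨x, y, hxy⟩ := exists_second_fixed m hF a b α hα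
      rw [← hdec] at hxy
      have hinf2 : ((tT m hF x y)⁻¹ * (h₁ * g * h₁⁻¹) * ((tT m hF x y)⁻¹)⁻¹) •
          (oinf m : suzukiOvoid F m) = oinf m := by
        rw [inv_inv, mul_smul, mul_smul, tT_oinf, hinf, inv_smul_eq_iff, tT_oinf]
      have hzero2 : ((tT m hF x y)⁻¹ * (h₁ * g * h₁⁻¹) * ((tT m hF x y)⁻¹)⁻¹) •
          opt m (0 : F) 0 = opt m 0 0 := by
        rw [inv_inv, mul_smul, mul_smul, tT_opt, inv_smul_eq_iff, tT_opt]
        simp only [zero_add, mul_zero]
        rw [hxy]
      obtain ⟨α', hα'⟩ := two_point' m hF hm _ (congrArg Subtype.val hinf2)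
        (congrArg Subtype.val hzero2)
      refine ⟨(tT m hF x y)⁻¹ * h₁, α', ?_, ?_⟩
      · rintro rfl
        rw [dD_one] at hα'
        apply hg
        have h5 := mul_inv_eq_one.1 hα'
        have h6 := mul_left_cancel (h5.trans (mul_one _).symm)
        have h7 := mul_inv_eq_one.1 h6
        exact mul_left_cancel (h7.trans (mul_one h₁).symm)
      · rw [← hα']
        group
  · right; right
    push Not at hfix
    exact hfix

/-- a non-identity unipotent element fixes only the point at infinity -/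
theorem tT_fix_only {a b : F} (hab : ¬ (a = 0 ∧ b = 0)) (ω : suzukiOvoid F m)
    (h : tT m hF a b • ω = ω) : ω = oinf m := by
  have h2 := two_eq_zero' (F := F)
  rcases omega_cases m ω with rfl | ⟨x, y, rfl⟩
  · rfl
  · exfalso
    rw [tT_opt] at h
    obtain ⟨h1, h3⟩ := opt_inj m h
    have ha : a = 0 := by linear_combination h1
    apply hab
    refine ⟨ha, ?_⟩
    rw [ha, sg_zero] at h3
    linear_combination h3

/-- the centraliser of a non-identity unipotent element is unipotent -/
theorem cent_tT (hm : 1 ≤ m) {a b : F} (hab : ¬ (a = 0 ∧ b = 0)) (x : Sz F m)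
    (hx : x * tT m hF a b = tT m hF a b * x) : ∃ a' b', x = tT m hF a' b' := by
  have h2 := two_eq_zero' (F := F)
  have hinf : x • (oinf m : suzukiOvoid F m) = oinf m := by
    apply tT_fix_only m hF hab
    rw [← mul_smul, ← hx, mul_smul, tT_oinf]
  obtain ⟨a', b', β, rfl⟩ := stab_inf m hF hm x (congrArg Subtype.val hinf)
  have h1 : tT m hF a' b' * dD m hF β * tT m hF a b =
      tT m hF (a' + β * a) (b' + sg m (β : F) * β * b + sg m a' * (β * a)) * dD m hF β := by
    rw [mul_assoc, dD_mul_tT, ← mul_assoc, tT_mul]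
  have h3 : tT m hF a b * (tT m hF a' b' * dD m hF β) =
      tT m hF (a + a') (b + b' + sg m a * a') * dD m hF β := by
    rw [← mul_assoc, tT_mul]
  rw [h1, h3] at hx
  obtain ⟨e1, e2, -⟩ := decomp_unique m hF hx
  have hβ : (β : F) = 1 := by
    by_cases ha : a = 0
    · have hb : b ≠ 0 := fun hb => hab ⟨ha, hb⟩
      rw [ha, sg_zero] at e2
      have : (sg m (β : F) * β - 1) * b = 0 := by linear_combination e2
      rcases mul_eq_zero.1 this with h' | h'
      · exact sg_mul_self_eq_one m hF _ (sub_eq_zero.1 h')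
      · exact absurd h' hb
    · have : ((β : F) - 1) * a = 0 := by linear_combination e1
      rcases mul_eq_zero.1 this with h' | h'
      · exact sub_eq_zero.1 h'
      · exact absurd h' ha
  have : β = 1 := Units.ext hβ
  exact ⟨a', b', by rw [this, dD_one, mul_one]⟩

/-- the centraliser of a non-identity diagonal element is diagonal -/
theorem cent_dD (hm : 1 ≤ m) {α : Fˣ} (hα : α ≠ 1) (x : Sz F m)
    (hx : x * dD m hF α = dD m hF α * x) : ∃ β, x = dD m hF β := by
  have hzero : dD m hF α • opt m (0 : F) 0 = opt m 0 0 := by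
    rw [dD_opt]; simp
  have hfix : ∀ ω : suzukiOvoid F m, dD m hF α • ω = ω → ω = oinf m ∨ ω = opt m 0 0 := by
    intro ω hω
    by_contra hcon
    push Not at hcon
    exact dD_ne_one m hF hα (fix_three m hF hm (dD m hF α) (oinf m) (opt m 0 0) ω
      (opt_ne_oinf m 0 0).symm hcon.2.symm hcon.1.symm (dD_oinf m hF α) hzero hω)
  have h1 : dD m hF α • (x • (oinf m : suzukiOvoid F m)) = x • oinf m := by
    rw [← mul_smul, ← hx, mul_smul, dD_oinf]
  have h2 : dD m hF α • (x • opt m (0 : F) 0) = x • opt m 0 0 := by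
    rw [← mul_smul, ← hx, mul_smul, hzero]
  rcases hfix _ h1 with h3 | h3
  · rcases hfix _ h2 with h4 | h4
    · exfalso
      exact opt_ne_oinf m (0 : F) 0 (smul_left_cancel x (h4.trans h3.symm))
    · exact two_point' m hF hm x (congrArg Subtype.val h3) (congrArg Subtype.val h4)
  · rcases hfix _ h2 with h4 | h4
    · exfalso
      obtain ⟨β, hβ⟩ := two_point' m hF hm (x * wW m hF)
        (by
          have : (x * wW m hF) • (oinf m : suzukiOvoid F m) = oinf m := by
            rw [mul_smul, wW_oinf, h4]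
          exact congrArg Subtype.val this)
        (by
          have : (x * wW m hF) • opt m (0 : F) 0 = opt m 0 0 := by
            rw [mul_smul, wW_opt_zero, h3]
          exact congrArg Subtype.val this)
      have hxe : x = dD m hF β * wW m hF := by
        rw [← hβ, mul_assoc, wW_mul_wW, mul_one]
      rw [hxe, mul_assoc, wW_mul_dD, ← mul_assoc, ← mul_assoc, dD_mul, dD_mul] at hx
      have h5 := dD_inj m hF (mul_right_cancel hx)
      have h6 : α⁻¹ = α := by
        have : β * α⁻¹ = β * α := by rw [h5, mul_comm]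
        exact mul_left_cancel this
      apply hα
      apply Units.ext
      rw [Units.val_one]
      apply sq_inj_char2
      rw [one_pow, pow_two, ← Units.val_mul]
      nth_rewrite 1 [← h6]
      rw [inv_mul_cancel, Units.val_one]
    · exfalso
      exact opt_ne_oinf m (0 : F) 0 (smul_left_cancel x (h4.trans h3.symm))

omit hF in
theorem conj_comm {G : Type*} [Group G] {h x g : G} (hx : x * g = g * x) :
    (h * x * h⁻¹) * (h * g * h⁻¹) = (h * g * h⁻¹) * (h * x * h⁻¹) := by
  have h1 : (h * x * h⁻¹) * (h * g * h⁻¹) = h * (x * g) * h⁻¹ := by group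
  have h2 : (h * g * h⁻¹) * (h * x * h⁻¹) = h * (g * x) * h⁻¹ := by group
  rw [h1, h2, hx]

/-- powers of a fixed-point-free element are fixed-point-free or trivial -/
theorem fixfree_pow (hm : 1 ≤ m) (g : Sz F m) (hfree : ∀ ω : suzukiOvoid F m, g • ω ≠ ω)
    (z : Sz F m) (hz : z ≠ 1) (hgz : g * z = z * g) : ∀ ω : suzukiOvoid F m, z • ω ≠ ω := by
  rcases trichotomy m hF hm z hz with ⟨h, a, b, hab, he⟩ | ⟨h, α, hα, he⟩ | h
  · exfalso
    have hc := conj_comm (h := h) hgz
    rw [he] at hc
    obtain ⟨a', b', h1⟩ := cent_tT m hF hm hab _ hc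
    apply hfree (h⁻¹ • oinf m)
    have : (h * g * h⁻¹) • (oinf m : suzukiOvoid F m) = oinf m := by rw [h1, tT_oinf]
    rw [mul_smul, mul_smul] at this
    rw [smul_eq_iff_eq_inv_smul] at this
    exact this
  · exfalso
    have hc := conj_comm (h := h) hgz
    rw [he] at hc
    obtain ⟨β, h1⟩ := cent_dD m hF hm hα _ hc
    apply hfree (h⁻¹ • oinf m)
    have : (h * g * h⁻¹) • (oinf m : suzukiOvoid F m) = oinf m := by rw [h1, dD_oinf]
    rw [mul_smul, mul_smul] at this
    rw [smul_eq_iff_eq_inv_smul] at this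
    exact this
  · exact h

/-- a fixed-point-free element has a power of prime order dividing `q² + 1` -/
theorem fixfree_prime (hm : 1 ≤ m) (g : Sz F m) (hfree : ∀ ω : suzukiOvoid F m, g • ω ≠ ω) :
    ∃ (p : ℕ) (z : Sz F m), p.Prime ∧ p ∣ (2 ^ (2 * m + 1)) ^ 2 + 1 ∧ z ^ p = 1 ∧ z ≠ 1 ∧
      z ∈ Subgroup.zpowers g := by
  have hg1 : g ≠ 1 := by
    rintro rfl
    exact hfree (oinf m) (one_smul _ _)
  have hd1 : orderOf g ≠ 1 := fun h => hg1 (orderOf_eq_one_iff.1 h)
  have hd0 : 0 < orderOf g := orderOf_pos g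
  let p := (orderOf g).minFac
  have hp : p.Prime := Nat.minFac_prime hd1
  have hpd : p ∣ orderOf g := Nat.minFac_dvd _
  let z := g ^ (orderOf g / p)
  have hzp : z ^ p = 1 := by
    change (g ^ (orderOf g / p)) ^ p = 1
    rw [← pow_mul, Nat.div_mul_cancel hpd, pow_orderOf_eq_one]
  have hz1 : z ≠ 1 := by
    apply pow_ne_one_of_lt_orderOf
    · exact (Nat.div_pos (Nat.le_of_dvd hd0 hpd) hp.pos).ne'
    · exact Nat.div_lt_self hd0 hp.one_lt
  have hzmem : z ∈ Subgroup.zpowers g := Subgroup.pow_mem _ (Subgroup.mem_zpowers g) _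
  refine ⟨p, z, hp, ?_, hzp, hz1, hzmem⟩
  have hgz : g * z = z * g := by
    change g * g ^ (orderOf g / p) = g ^ (orderOf g / p) * g
    rw [← pow_succ, ← pow_succ']
  have hzfree := fixfree_pow m hF hm g hfree z hz1 hgz
  have : Fact p.Prime := ⟨hp⟩
  have hpg : IsPGroup p (Subgroup.zpowers z) := by
    intro y
    obtain ⟨k, hk⟩ := Subgroup.mem_zpowers_iff.1 y.2
    refine ⟨1, ?_⟩
    apply Subtype.ext
    rw [pow_one, Subgroup.coe_pow, ← hk, Subgroup.coe_one, ← zpow_natCast, ← zpow_mul, mul_comm,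
      zpow_mul, zpow_natCast, hzp, one_zpow]
  have hmod := hpg.card_modEq_card_fixedPoints (suzukiOvoid F m)
  have hempty : IsEmpty (MulAction.fixedPoints (Subgroup.zpowers z) (suzukiOvoid F m)) := by
    refine ⟨fun ω => ?_⟩
    exact hzfree ω.1 (ω.2 ⟨z, Subgroup.mem_zpowers z⟩)
  have h0 : Nat.card (MulAction.fixedPoints (Subgroup.zpowers z) (suzukiOvoid F m)) = 0 :=
    Nat.card_of_isEmpty
  rw [h0, Cfsg.Agent.S0326.result, hF] at hmod
  exact (Nat.modEq_zero_iff_dvd).1 hmod

end fix

end Cfsg.Agent.Lib.Helper5.Suzuki
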