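import Cfsg.Agent.Lib.Helper5.SuzukiSubgroups
import Mathlib

set_option autoImplicit false
open Cfsg
open scoped Matrix Pointwise commutatorElement
open Cfsg.Agent.S0335
open Cfsg.Agent.Lib.Helper5.FixCount

namespace Cfsg.Agent.Lib.Helper5.Suzuki

section fixgen
variable {S : Type*} [Group S] [Finite S] {Ω : Type*} [Finite Ω] [MulAction S Ω]

omit [Finite S] in
/-- if all `N`-conjugates of `k` lie in a point stabiliser, the `N`-orbit of the point consists
of fixed points of `k` -/
theorem card_le_two_mul (α : Ω) {k : S} (hk : Nat.card (MulAction.fixedBy Ω k) ≤ 2)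
    (N : Subgroup S) (hN : ∀ n ∈ N, n⁻¹ * k * n ∈ MulAction.stabilizer S α) :
    Nat.card N ≤ 2 * Nat.card (N ⊓ MulAction.stabilizer S α : Subgroup S) := by
  have e := MulAction.orbitProdStabilizerEquivGroup N α
  have h1 : Nat.card N = Nat.card (MulAction.orbit N α) * Nat.card (MulAction.stabilizer N α) := by
    rw [← Nat.card_prod]
    exact (Nat.card_congr e).symm
  have h2 : Nat.card (MulAction.orbit N α) ≤ Nat.card (MulAction.fixedBy Ω k) := by
    apply Nat.card_mono (Set.toFinite _)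
    rintro x ⟨n, rfl⟩
    rw [MulAction.mem_fixedBy]
    have := hN n n.2
    rw [MulAction.mem_stabilizer_iff, mul_smul, mul_smul] at this
    change k • ((n : S) • α) = (n : S) • α
    exact inv_smul_eq_iff.1 this
  have h3 : Nat.card (MulAction.stabilizer N α) =
      Nat.card (N ⊓ MulAction.stabilizer S α : Subgroup S) := by
    apply Nat.card_congr
    refine ⟨fun x => ⟨x.1.1, x.1.2, x.2⟩, fun y => ⟨⟨y.1, y.2.1⟩, y.2.2⟩, ?_, ?_⟩
    · intro x; rfl
    · intro y; rfl
  rw [h1, h3]
  exact Nat.mul_le_mul_right _ (h2.trans hk)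

omit [Finite S] in
/-- squares of elements of `N` lie in `H` when `N ⊓ H` has index at most two in `N` -/
theorem sq_mem_of_card_le [Finite S] {N H : Subgroup S}
    (h : Nat.card N ≤ 2 * Nat.card (N ⊓ H : Subgroup S)) {x : S} (hx : x ∈ N) : x * x ∈ H := by
  have hc : Nat.card (H.subgroupOf N) = Nat.card (N ⊓ H : Subgroup S) := by
    apply Nat.card_congr
    refine ⟨fun x => ⟨x.1.1, x.1.2, Subgroup.mem_subgroupOf.1 x.2⟩,
      fun y => ⟨⟨y.1, y.2.1⟩, Subgroup.mem_subgroupOf.2 y.2.2⟩, ?_, ?_⟩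
    · intro x; rfl
    · intro y; rfl
  have h1 := Subgroup.card_mul_index (H.subgroupOf N)
  rw [hc] at h1
  have hpos : 0 < Nat.card (N ⊓ H : Subgroup S) := Nat.card_pos
  have h2 : (H.subgroupOf N).index ≤ 2 := by
    by_contra hcon
    push Not at hcon
    have : 3 * Nat.card (N ⊓ H : Subgroup S) ≤ Nat.card N := by
      calc 3 * Nat.card (N ⊓ H : Subgroup S)
          ≤ (H.subgroupOf N).index * Nat.card (N ⊓ H : Subgroup S) :=
            Nat.mul_le_mul_right _ hcon
        _ = Nat.card N := by rw [mul_comm, h1]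
    omega
  have h3 : (H.subgroupOf N).index ≠ 0 := Subgroup.index_ne_zero_of_finite
  have h4 : (H.subgroupOf N).index = 1 ∨ (H.subgroupOf N).index = 2 := by omega
  rcases h4 with h4 | h4
  · rw [Subgroup.index_eq_one] at h4
    have : (⟨x, hx⟩ : N) ∈ H.subgroupOf N := by rw [h4]; trivial
    rw [Subgroup.mem_subgroupOf] at this
    exact H.mul_mem this this
  · have := Subgroup.mul_self_mem_of_index_two h4 (⟨x, hx⟩ : N)
    rw [Subgroup.mem_subgroupOf] at this
    exact this

end fixgen


section fixity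
variable {F : Type*} [Field F] [Fintype F] [CharP F 2] (m : ℕ)
set_option linter.unusedSectionVars false
variable (hF : Fintype.card F = 2 ^ (2 * m + 1))
include hF

/-- surjectivity of the commutator map with a non-identity diagonal element -/
theorem exists_comm {κ : Fˣ} (hκ : κ ≠ 1) (a b : F) :
    ∃ x y : F, tT m hF x y * dD m hF κ * (tT m hF x y)⁻¹ * (dD m hF κ)⁻¹ = tT m hF a b := by
  have h2 := two_eq_zero' (F := F)
  have h1κ : (1 : F) + κ ≠ 0 := by
    intro h
    apply hκ
    apply Units.ext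
    rw [Units.val_one]
    linear_combination h - h2
  have h1s : (1 : F) + sg m (κ : F) * κ ≠ 0 := by
    intro h
    apply hκ
    apply Units.ext
    rw [Units.val_one]
    apply sgmul_inj m hF
    rw [sg_one, mul_one]
    linear_combination h - h2
  let f : F × F → F × F := fun p =>
    (p.1 + κ * p.1, p.2 + sg m (κ : F) * κ * (p.2 + sg m p.1 * p.1) + sg m p.1 * (κ * p.1))
  have hinj : Function.Injective f := by
    rintro ⟨x, y⟩ ⟨x', y'⟩ h
    have e1 : x + κ * x = x' + κ * x' := congrArg Prod.fst h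
    have e2 : y + sg m (κ : F) * κ * (y + sg m x * x) + sg m x * (κ * x) =
        y' + sg m (κ : F) * κ * (y' + sg m x' * x') + sg m x' * (κ * x') := congrArg Prod.snd h
    have hx : x = x' := by
      have : ((1 : F) + κ) * (x - x') = 0 := by linear_combination e1
      rcases mul_eq_zero.1 this with h' | h'
      · exact (h1κ h').elim
      · exact sub_eq_zero.1 h'
    subst hx
    have hy : y = y' := by
      have : ((1 : F) + sg m (κ : F) * κ) * (y - y') = 0 := by linear_combination e2
      rcases mul_eq_zero.1 this with h' | h'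
      · exact (h1s h').elim
      · exact sub_eq_zero.1 h'
    rw [hy]
  obtain ⟨⟨x, y⟩, hxy⟩ := (Finite.injective_iff_surjective.1 hinj) (a, b)
  refine ⟨x, y, ?_⟩
  rw [comm_tT_dD]
  have e1 : x + κ * x = a := congrArg Prod.fst hxy
  have e2 : y + sg m (κ : F) * κ * (y + sg m x * x) + sg m x * (κ * x) = b :=
    congrArg Prod.snd hxy
  rw [e1, e2]

omit hF in
theorem exists_unit_sqrt (κ : Fˣ) : ∃ ν : Fˣ, ν * ν = κ := by
  have hinj : Function.Injective (fun ν : Fˣ => ν * ν) := by
    intro a b h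
    apply Units.ext
    apply sq_inj_char2
    have := congrArg (fun u : Fˣ => (u : F)) h
    simpa [pow_two] using this
  exact (Finite.injective_iff_surjective.1 hinj) κ

variable {Ω : Type*} [Fintype Ω] [MulAction (Sz F m) Ω]

/-- if a point stabiliser contains a central involution of the unipotent subgroup, it contains
the stabiliser of the point at infinity -/
theorem even_case (hm : 1 ≤ m)
    (hfix : ∀ g : Sz F m, g ≠ 1 → Nat.card (MulAction.fixedBy Ω g) ≤ 2) {α : Ω} {b : F}
    (hb : b ≠ 0) (ht : tT m hF 0 b ∈ MulAction.stabilizer (Sz F m) α) (x : Sz F m)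
    (hx : x • (oinf m : suzukiOvoid F m) = oinf m) : x ∈ MulAction.stabilizer (Sz F m) α := by
  have ht1 : tT m hF 0 b ≠ 1 := tT_central_ne_one m hF hb
  have hk := hfix _ ht1
  -- step 1: the centre of the unipotent subgroup
  have hcomm : ∀ x y : F, (tT m hF x y)⁻¹ * tT m hF 0 b * tT m hF x y = tT m hF 0 b := by
    intro x y
    have h := tT_conj m hF x y 0 b
    rw [mul_zero, sg_zero, zero_mul, add_zero, add_zero] at h
    have h' : tT m hF x y * tT m hF 0 b = tT m hF 0 b * tT m hF x y :=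
      mul_inv_eq_iff_eq_mul.1 h
    rw [mul_assoc, ← h', ← mul_assoc, inv_mul_cancel, one_mul]
  have h1 := card_le_two_mul α hk (uSub m hF) (by
    rintro _ ⟨x, y, rfl⟩
    rw [hcomm]
    exact ht)
  have hZ : ∀ c : F, tT m hF 0 c ∈ MulAction.stabilizer (Sz F m) α := by
    intro c
    by_cases hc : c = 0
    · rw [hc, tT_zero]
      exact Subgroup.one_mem _
    · obtain ⟨ν, hν⟩ := exists_sg_mul_self m hF c hc
      have := sq_mem_of_card_le h1 (x := tT m hF ν 0) ⟨ν, 0, rfl⟩
      rwa [tT_sq, hν] at this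
  -- step 2: the stabiliser of infinity
  have h2 := card_le_two_mul α hk (MulAction.stabilizer (Sz F m) (oinf m : suzukiOvoid F m)) (by
    intro n hn
    have hn' : n⁻¹ • (oinf m : suzukiOvoid F m) = oinf m := by
      rw [inv_smul_eq_iff]
      exact (MulAction.mem_stabilizer_iff.1 hn).symm
    obtain ⟨a', b', κ', hdec⟩ := stab_inf m hF hm n⁻¹ (congrArg Subtype.val hn')
    have e : n⁻¹ * tT m hF 0 b * n = n⁻¹ * tT m hF 0 b * (n⁻¹)⁻¹ := by rw [inv_inv]
    rw [e, hdec, stab_conj_central]
    exact hZ _)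
  have hsq : ∀ z : Sz F m, z • (oinf m : suzukiOvoid F m) = oinf m →
      z * z ∈ MulAction.stabilizer (Sz F m) α :=
    fun z hz => sq_mem_of_card_le h2 (MulAction.mem_stabilizer_iff.2 hz)
  have hD : ∀ κ : Fˣ, dD m hF κ ∈ MulAction.stabilizer (Sz F m) α := by
    intro κ
    obtain ⟨ν, hν⟩ := exists_unit_sqrt κ
    have := hsq (dD m hF ν) (dD_oinf m hF ν)
    rwa [dD_mul, hν] at this
  have hU : ∀ a c : F, tT m hF a c ∈ MulAction.stabilizer (Sz F m) α := by
    intro a c
    obtain ⟨κ, hκ⟩ := exists_unit_ne_one m hF hm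
    obtain ⟨ν, hν⟩ := exists_unit_sqrt κ
    obtain ⟨x, y, hxy⟩ := exists_comm m hF hκ a c
    have hz : (tT m hF x y * dD m hF ν * (tT m hF x y)⁻¹) • (oinf m : suzukiOvoid F m) =
        oinf m := by
      rw [mul_smul, mul_smul, inv_smul_eq_iff.2 (tT_oinf m hF x y).symm, dD_oinf, tT_oinf]
    have h3 := hsq _ hz
    have e : tT m hF x y * dD m hF ν * (tT m hF x y)⁻¹ *
        (tT m hF x y * dD m hF ν * (tT m hF x y)⁻¹) =
        tT m hF x y * (dD m hF ν * dD m hF ν) * (tT m hF x y)⁻¹ := by group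
    rw [e, dD_mul, hν] at h3
    rw [← hxy]
    exact Subgroup.mul_mem _ h3 (Subgroup.inv_mem _ (hD κ))
  obtain ⟨a, c, κ, rfl⟩ := stab_inf m hF hm x (congrArg Subtype.val hx)
  exact Subgroup.mul_mem _ (hU a c) (hD κ)

/-- in the even case the point stabiliser is exactly the stabiliser of the point at infinity -/
theorem stab_eq_of_even (hm : 1 ≤ m)
    (hfix : ∀ g : Sz F m, g ≠ 1 → Nat.card (MulAction.fixedBy Ω g) ≤ 2) {α : Ω} {b : F}
    (hb : b ≠ 0) (ht : tT m hF 0 b ∈ MulAction.stabilizer (Sz F m) α)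
    (hne : MulAction.stabilizer (Sz F m) α ≠ ⊤) (x : Sz F m) :
    x ∈ MulAction.stabilizer (Sz F m) α ↔ x • (oinf m : suzukiOvoid F m) = oinf m := by
  constructor
  · intro hx
    by_contra hmove
    apply hne
    have hB := even_case m hF hm hfix hb ht
    have hT : ∀ a c : F, tT m hF a c ∈ MulAction.stabilizer (Sz F m) α :=
      fun a c => hB _ (tT_oinf m hF a c)
    have hD : ∀ κ : Fˣ, dD m hF κ ∈ MulAction.stabilizer (Sz F m) α :=
      fun κ => hB _ (dD_oinf m hF κ)
    have hw : wW m hF ∈ MulAction.stabilizer (Sz F m) α := by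
      rcases cases m hF hm x with ⟨a, c, κ, rfl⟩ | ⟨a, c, a', c', κ, rfl⟩
      · exfalso
        apply hmove
        rw [mul_smul, dD_oinf, tT_oinf]
      · have e : wW m hF = (tT m hF a c)⁻¹ *
            (tT m hF a c * wW m hF * tT m hF a' c' * dD m hF κ) *
            (dD m hF κ)⁻¹ * (tT m hF a' c')⁻¹ := by group
        rw [e]
        exact Subgroup.mul_mem _ (Subgroup.mul_mem _ (Subgroup.mul_mem _
          (Subgroup.inv_mem _ (hT a c)) hx) (Subgroup.inv_mem _ (hD κ)))
          (Subgroup.inv_mem _ (hT a' c'))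
    rw [eq_top_iff]
    intro g _
    rcases cases m hF hm g with ⟨a, c, κ, rfl⟩ | ⟨a, c, a', c', κ, rfl⟩
    · exact Subgroup.mul_mem _ (hT a c) (hD κ)
    · exact Subgroup.mul_mem _ (Subgroup.mul_mem _ (Subgroup.mul_mem _ (hT a c) hw) (hT a' c'))
        (hD κ)
  · exact even_case m hF hm hfix hb ht x

/-- an action whose point stabiliser is the stabiliser of the point at infinity is equivalent
to the natural action -/
theorem natural_case (_hm : 1 ≤ m) (htr : MulAction.IsPretransitive (Sz F m) Ω) {α : Ω}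
    (hstab : ∀ x : Sz F m, x ∈ MulAction.stabilizer (Sz F m) α ↔
      x • (oinf m : suzukiOvoid F m) = oinf m) :
    Fintype.card Ω = (2 ^ (2 * m + 1)) ^ 2 + 1 ∧
      MulAction.IsMultiplyPretransitive (Sz F m) Ω 2 := by
  classical
  have hex : ∀ β : Ω, ∃ g : Sz F m, g • α = β := fun β => MulAction.exists_smul_eq _ α β
  choose gg hgg using hex
  let f : Ω → suzukiOvoid F m := fun β => gg β • oinf m
  have hP : ∀ (g : Sz F m) (β : Ω), g • α = β → f β = g • oinf m := by
    intro g β hg
    have h1 : (g⁻¹ * gg β) ∈ MulAction.stabilizer (Sz F m) α := by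
      rw [MulAction.mem_stabilizer_iff, mul_smul, hgg, ← hg, inv_smul_smul]
    rw [hstab, mul_smul, inv_smul_eq_iff] at h1
    exact h1
  have hequiv : ∀ (s : Sz F m) (β : Ω), f (s • β) = s • f β := by
    intro s β
    rw [hP (s * gg β) (s • β) (by rw [mul_smul, hgg]), mul_smul]
  have hinj : Function.Injective f := by
    intro β β' h
    have h1 : ((gg β')⁻¹ * gg β) • (oinf m : suzukiOvoid F m) = oinf m := by
      rw [mul_smul, inv_smul_eq_iff]
      exact h
    rw [← hstab, MulAction.mem_stabilizer_iff, mul_smul, inv_smul_eq_iff, hgg, hgg] at h1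
    exact h1
  have hsurj : Function.Surjective f := by
    intro ω
    obtain ⟨s, hs⟩ := exists_to_inf m hF ω
    refine ⟨s⁻¹ • α, ?_⟩
    rw [hP s⁻¹ _ rfl, inv_smul_eq_iff, hs]
  constructor
  · have h1 := Nat.card_congr (Equiv.ofBijective f ⟨hinj, hsurj⟩)
    rw [Cfsg.Agent.S0326.result, hF, Nat.card_eq_fintype_card] at h1
    exact h1
  · rw [MulAction.is_two_pretransitive_iff]
    intro a b c d hab hcd
    have h2 := two_transitive m hF
    rw [MulAction.is_two_pretransitive_iff] at h2
    obtain ⟨s, hs1, hs2⟩ := h2 (fun h => hab (hinj h)) (fun h => hcd (hinj h))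
    refine ⟨s, hinj ?_, hinj ?_⟩
    · rw [hequiv, hs1]
    · rw [hequiv, hs2]


/-- in the odd case the point stabiliser is a diagonal torus -/
theorem odd_case (hm : 1 ≤ m)
    (hfix : ∀ g : Sz F m, g ≠ 1 → Nat.card (MulAction.fixedBy Ω g) ≤ 2) {α : Ω}
    (hodd : Nat.card (MulAction.stabilizer (Sz F m) α) % 2 = 1) {g₀ : Sz F m}
    (hg₀ : g₀ ∈ MulAction.stabilizer (Sz F m) α) (hg₀1 : g₀ ≠ 1) :
    Nat.card (MulAction.stabilizer (Sz F m) α) = 2 ^ (2 * m + 1) - 1 := by
  have hle := odd_le_centralizer m hF _ hm hodd hg₀ hg₀1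
  have hT := isMT_centralizer m hF hm
    (pow_four_ne_of_odd m hF hodd (pow_card_of_mem m hg₀) hg₀1)
  have hk := hfix g₀ hg₀1
  have h1 := card_le_two_mul α hk (Subgroup.centralizer ({g₀} : Set (Sz F m))) (by
    intro c hc
    rw [Subgroup.mem_centralizer_singleton_iff] at hc
    have e : c⁻¹ * g₀ * c = g₀ := by
      rw [mul_assoc, ← hc, ← mul_assoc, inv_mul_cancel, one_mul]
    rw [e]
    exact hg₀)
  rw [inf_eq_right.2 hle] at h1
  have heq : MulAction.stabilizer (Sz F m) α = Subgroup.centralizer ({g₀} : Set (Sz F m)) := by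
    apply Subgroup.eq_of_le_of_card_ge hle
    obtain ⟨j, hj⟩ := Subgroup.card_dvd_of_le hle
    have hTodd := hT.card_odd m hF hm
    have hpos : 0 < Nat.card (MulAction.stabilizer (Sz F m) α) := Nat.card_pos
    have hj2 : j ≤ 2 := by
      by_contra hcon
      push Not at hcon
      have : 3 * Nat.card (MulAction.stabilizer (Sz F m) α) ≤
          Nat.card (Subgroup.centralizer ({g₀} : Set (Sz F m))) := by
        rw [hj, mul_comm]
        exact Nat.mul_le_mul_left _ hcon
      omega
    have hj1 : j ≠ 2 := by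
      rintro rfl
      rw [hj] at hTodd
      omega
    have hj0 : j ≠ 0 := by
      rintro rfl
      rw [hj] at hTodd
      omega
    have : j = 1 := by omega
    rw [hj, this, mul_one]
  have hgT : g₀ ∈ Subgroup.centralizer ({g₀} : Set (Sz F m)) := by
    rw [Subgroup.mem_centralizer_singleton_iff]
  have h2 := card_le_two_mul α hk
    (Subgroup.normalizer ((Subgroup.centralizer ({g₀} : Set (Sz F m)) : Subgroup (Sz F m)) :
      Set (Sz F m))) (by
    intro n hn
    rw [heq]
    have hn' := Subgroup.inv_mem _ hn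
    have := (Subgroup.mem_normalizer_iff.1 hn' g₀).1 hgT
    rwa [inv_inv] at this)
  rw [heq, inf_eq_right.2 Subgroup.le_normalizer] at h2
  rw [heq]
  rcases hT with ⟨c, hc⟩ | hT
  · rw [hc, card_conjSub, card_dSub]
  · exfalso
    rw [hT.card_normalizer m hF hm] at h2
    have hpos : 0 < Nat.card (Subgroup.centralizer ({g₀} : Set (Sz F m))) := Nat.card_pos
    omega

/-- faithful-free core of the classification of the fixity-two actions of the Suzuki groups -/
theorem fixity_core (hm : 1 ≤ m) (htr : MulAction.IsPretransitive (Sz F m) Ω)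
    (hfix : ∀ g : Sz F m, g ≠ 1 → Nat.card (MulAction.fixedBy Ω g) ≤ 2)
    (hex : ∃ g : Sz F m, g ≠ 1 ∧ Nat.card (MulAction.fixedBy Ω g) = 2) :
    (Fintype.card Ω = (2 ^ (2 * m + 1)) ^ 2 + 1 ∧
      MulAction.IsMultiplyPretransitive (Sz F m) Ω 2) ∨
    (Fintype.card Ω = (2 ^ (2 * m + 1)) ^ 2 * ((2 ^ (2 * m + 1)) ^ 2 + 1) ∧
      ∀ α : Ω, Nat.card (MulAction.stabilizer (Sz F m) α) = 2 ^ (2 * m + 1) - 1) := by
  classical
  have : Fact (Nat.Prime 2) := ⟨Nat.prime_two⟩
  obtain ⟨g₀, hg₀1, hg₀⟩ := hex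
  obtain ⟨α₀, β₀, hαβ, -⟩ := Nat.card_eq_two_iff.1 hg₀
  have hαβ' : (α₀ : Ω) ≠ β₀ := fun h => hαβ (Subtype.ext h)
  have hne : ∀ α : Ω, MulAction.stabilizer (Sz F m) α ≠ ⊤ := by
    intro α htop
    have hall : ∀ β : Ω, β = α := by
      intro β
      obtain ⟨s, hs⟩ := MulAction.exists_smul_eq (Sz F m) α β
      have : s ∈ MulAction.stabilizer (Sz F m) α := by rw [htop]; trivial
      rw [← hs]
      exact this
    exact hαβ' ((hall _).trans (hall _).symm)
  have hg₀α : g₀ ∈ MulAction.stabilizer (Sz F m) (α₀ : Ω) := α₀.2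
  rcases Nat.mod_two_eq_zero_or_one (Nat.card (MulAction.stabilizer (Sz F m) (α₀ : Ω)))
    with heven | hodd
  · left
    have h2 : 2 ∣ Nat.card (MulAction.stabilizer (Sz F m) (α₀ : Ω)) :=
      Nat.dvd_of_mod_eq_zero heven
    obtain ⟨t, ht⟩ := exists_prime_orderOf_dvd_card' 2 h2
    have ht1 : (t : Sz F m) ≠ 1 := by
      intro h
      have : t = 1 := Subtype.ext h
      rw [this, orderOf_one] at ht
      omega
    have htsq : (t : Sz F m) * t = 1 := by
      have : t * t = 1 := by rw [← pow_two, ← ht, pow_orderOf_eq_one]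
      exact congrArg Subtype.val this
    obtain ⟨ω, hω, -⟩ := exists_unique_fix m hF hm ht1 (pow_four_of_sq m htsq)
    obtain ⟨g, hg⟩ := exists_to_inf m hF ω
    have hτfix : (g * t * g⁻¹) • (oinf m : suzukiOvoid F m) = oinf m := by
      have := conj_fix m hF (x := g) hω
      rwa [hg] at this
    have hτsq : g * t * g⁻¹ * (g * t * g⁻¹) = 1 := by
      have e : g * t * g⁻¹ * (g * t * g⁻¹) = g * ((t : Sz F m) * t) * g⁻¹ := by group
      rw [e, htsq]
      group
    obtain ⟨b, hb⟩ := involution_in_stab m hF hm _ hτsq (congrArg Subtype.val hτfix)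
    have hb0 : b ≠ 0 := by
      rintro rfl
      rw [tT_zero] at hb
      apply ht1
      have e : (t : Sz F m) = g⁻¹ * (g * t * g⁻¹) * g := by group
      rw [e, hb]
      group
    have htα : tT m hF 0 b ∈ MulAction.stabilizer (Sz F m) (g • (α₀ : Ω)) := by
      rw [← hb, MulAction.mem_stabilizer_iff, mul_smul, mul_smul, inv_smul_smul]
      congr 1
      exact t.2
    exact natural_case m hF hm htr
      (stab_eq_of_even m hF hm hfix hb0 htα (hne _))
  · right
    have hcard := odd_case m hF hm hfix hodd hg₀α hg₀1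
    have hall : ∀ α : Ω, Nat.card (MulAction.stabilizer (Sz F m) α) = 2 ^ (2 * m + 1) - 1 := by
      intro α
      obtain ⟨s, hs⟩ := MulAction.exists_smul_eq (Sz F m) (α₀ : Ω) α
      rw [← hs, MulAction.stabilizer_smul_eq_stabilizer_map_conj,
        Subgroup.card_map_of_injective (MulAut.conj s).injective, hcard]
    refine ⟨?_, hall⟩
    have e := MulAction.orbitProdStabilizerEquivGroup (Sz F m) (α₀ : Ω)
    have h1 : Nat.card (Sz F m) = Nat.card (MulAction.orbit (Sz F m) (α₀ : Ω)) *
        Nat.card (MulAction.stabilizer (Sz F m) (α₀ : Ω)) := by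
      rw [← Nat.card_prod]
      exact (Nat.card_congr e).symm
    rw [MulAction.orbit_eq_univ, Nat.card_coe_set_eq, Set.ncard_univ, hcard, card_Sz m hF hm,
      Nat.card_eq_fintype_card] at h1
    have hq : 0 < 2 ^ (2 * m + 1) - 1 := by
      have : 2 ≤ 2 ^ (2 * m + 1) := by
        calc 2 = 2 ^ 1 := by norm_num
          _ ≤ 2 ^ (2 * m + 1) := Nat.pow_le_pow_right (by norm_num) (by omega)
      omega
    exact (Nat.eq_of_mul_eq_mul_right hq h1).symm

end fixity

end Cfsg.Agent.Lib.Helper5.Suzuki
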