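import Cfsg.Agent.Lib.Helper5.Suzuki
import Mathlib

set_option autoImplicit false
open Cfsg
open scoped Matrix Pointwise
open Cfsg.Agent.S0335

namespace Cfsg.Agent.Lib.Helper5.Suzuki

section group
variable {F : Type*} [Field F] [Fintype F] [CharP F 2] (m : ℕ)
set_option linter.unusedSectionVars false
variable (hF : Fintype.card F = 2 ^ (2 * m + 1))

/-- translations in the Suzuki group -/
def tT (a b : F) : Sz F m := ⟨tS m a b, tS_mem m hF a b⟩

/-- the inversion in the Suzuki group -/
def wW : Sz F m := ⟨wS, wS_mem m hF⟩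

/-- the torus in the Suzuki group -/
def dD (α : Fˣ) : Sz F m := ⟨dS m α, dS_mem m hF α⟩

theorem tT_pinf (a b : F) : tT m hF a b • (pinf : Projectivization F (Fin 4 → F)) = pinf :=
  tS_pinf m a b

theorem tT_pt (a b x y : F) : tT m hF a b • pt m x y = pt m (x + a) (y + sg m a * x + b) :=
  tS_pt m hF a b x y

theorem wW_pinf : wW m hF • (pinf : Projectivization F (Fin 4 → F)) = pt m 0 0 := wS_pinf m

theorem wW_pt_zero : wW m hF • pt m (0 : F) 0 = pinf := wS_pt_zero m

theorem wW_pt (x y : F) (h : ff m x y ≠ 0) :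
    wW m hF • pt m x y = pt m (y / ff m x y) (x / ff m x y) := wS_pt m hF x y h

theorem dD_pinf (α : Fˣ) : dD m hF α • (pinf : Projectivization F (Fin 4 → F)) = pinf :=
  dS_pinf m α

theorem dD_pt (α : Fˣ) (x y : F) : dD m hF α • pt m x y = pt m (α * x) (sg m (α : F) * α * y) :=
  dS_pt m hF α x y

theorem tT_mul (a b a' b' : F) :
    tT m hF a b * tT m hF a' b' = tT m hF (a + a') (b + b' + sg m a * a') :=
  Subtype.ext (tS_mul m hF a b a' b')

theorem tT_zero : tT m hF (0 : F) 0 = 1 := Subtype.ext (tS_zero m)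

theorem tT_inv (a b : F) : (tT m hF a b)⁻¹ = tT m hF a (b + sg m a * a) := by
  have h2 := two_eq_zero' (F := F)
  rw [inv_eq_iff_mul_eq_one, tT_mul, ← tT_zero m hF]
  congr 1
  · linear_combination a * h2
  · linear_combination (b + sg m a * a) * h2

theorem dD_mul (α β : Fˣ) : dD m hF α * dD m hF β = dD m hF (α * β) :=
  Subtype.ext (dS_mul m α β)

theorem dD_one : dD m hF (1 : Fˣ) = 1 := Subtype.ext (dS_one m)

theorem dD_inv (α : Fˣ) : (dD m hF α)⁻¹ = dD m hF α⁻¹ := by
  rw [inv_eq_iff_mul_eq_one, dD_mul, mul_inv_cancel, dD_one]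

theorem dD_mul_tT (α : Fˣ) (a b : F) :
    dD m hF α * tT m hF a b = tT m hF (α * a) (sg m (α : F) * α * b) * dD m hF α :=
  Subtype.ext (dS_mul_tS m hF α a b)

theorem wW_mul_dD (α : Fˣ) : wW m hF * dD m hF α = dD m hF α⁻¹ * wW m hF :=
  Subtype.ext (wS_mul_dS m α)

theorem wW_mul_wW : wW m hF * wW m hF = 1 := Subtype.ext wS_mul_wS

theorem wW_inv : (wW m hF)⁻¹ = wW m hF := by
  rw [inv_eq_iff_mul_eq_one, wW_mul_wW]

/-- the monoid homomorphism from the units -/
def dHom : Fˣ →* Sz F m where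
  toFun := dD m hF
  map_one' := dD_one m hF
  map_mul' α β := (dD_mul m hF α β).symm

theorem smul_mem_ovoid (g : Sz F m) {p : Projectivization F (Fin 4 → F)}
    (hp : p ∈ suzukiOvoid F m) : g • p ∈ suzukiOvoid F m :=
  smul_mem_of_mem_Sz m g.2 hp

theorem tT_inj {a b a' b' : F} (h : tT m hF a b = tT m hF a' b') : a = a' ∧ b = b' := by
  have := congrArg (fun g => g • pt m (0 : F) 0) h
  simp only [tT_pt, zero_add, mul_zero] at this
  exact pt_inj m this

theorem dD_inj {α β : Fˣ} (h : dD m hF α = dD m hF β) : α = β := by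
  have := congrArg (fun g => g • pt m (1 : F) 0) h
  simp only [dD_pt, mul_one] at this
  exact Units.ext (pt_inj m this).1

theorem two_point' (hm : 1 ≤ m) (g : Sz F m)
    (hinf : g • (pinf : Projectivization F (Fin 4 → F)) = pinf)
    (hzero : g • pt m (0 : F) 0 = pt m 0 0) : ∃ α : Fˣ, g = dD m hF α := by
  obtain ⟨α, hα⟩ := two_point m hF hm g.1 g.2 hinf hzero
  exact ⟨α, Subtype.ext hα⟩

theorem stab_inf (hm : 1 ≤ m) (g : Sz F m)
    (hinf : g • (pinf : Projectivization F (Fin 4 → F)) = pinf) :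
    ∃ (a b : F) (α : Fˣ), g = tT m hF a b * dD m hF α := by
  have hmem := smul_mem_ovoid m g (pt_mem m (0 : F) 0)
  rcases (mem_ovoid_iff m _).1 hmem with h | ⟨a, b, h⟩
  · exfalso
    rw [← hinf] at h
    exact pt_ne_pinf m 0 0 (smul_left_cancel g h)
  · obtain ⟨α, hα⟩ := two_point' m hF hm ((tT m hF a b)⁻¹ * g)
      (by rw [mul_smul, hinf, inv_smul_eq_iff, tT_pinf])
      (by rw [mul_smul, h, inv_smul_eq_iff, tT_pt]; simp)
    refine ⟨a, b, α, ?_⟩
    rw [← hα, mul_inv_cancel_left]

theorem cases (hm : 1 ≤ m) (g : Sz F m) :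
    (∃ (a b : F) (α : Fˣ), g = tT m hF a b * dD m hF α) ∨
    (∃ (a b a' b' : F) (α : Fˣ), g = tT m hF a b * wW m hF * tT m hF a' b' * dD m hF α) := by
  have hmem := smul_mem_ovoid m g (pinf_mem m)
  rcases (mem_ovoid_iff m _).1 hmem with h | ⟨a, b, h⟩
  · exact Or.inl (stab_inf m hF hm g h)
  · right
    obtain ⟨a', b', α, hα⟩ := stab_inf m hF hm ((tT m hF a b * wW m hF)⁻¹ * g)
      (by rw [mul_smul, h, inv_smul_eq_iff, mul_smul, wW_pinf, tT_pt]; simp)
    refine ⟨a, b, a', b', α, ?_⟩
    rw [mul_assoc, mul_assoc, ← hα, ← mul_assoc, mul_inv_cancel_left]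

theorem decomp_unique {a b a' b' : F} {α α' : Fˣ}
    (h : tT m hF a b * dD m hF α = tT m hF a' b' * dD m hF α') : a = a' ∧ b = b' ∧ α = α' := by
  have h1 := congrArg (fun g => g • pt m (0 : F) 0) h
  simp only [mul_smul, dD_pt, mul_zero, tT_pt, zero_add] at h1
  obtain ⟨rfl, rfl⟩ := pt_inj m h1
  refine ⟨rfl, rfl, ?_⟩
  exact dD_inj m hF (mul_left_cancel h)


end group

section form
variable {F : Type*} [Field F] [Fintype F] [CharP F 2] (m : ℕ)
set_option linter.unusedSectionVars false

theorem Tm_form (a b : F) : (Tm m a b).transpose * suzukiForm F * Tm m a b = suzukiForm F := by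
  have h2 := two_eq_zero' (F := F)
  ext i j
  fin_cases i <;> fin_cases j <;>
    simp [Tm, suzukiForm, Matrix.mul_apply, Fin.sum_univ_four] <;>
    first | ring1 | linear_combination a * h2 | linear_combination (sg m a * a + b) * h2 |
      linear_combination (ff m a b + a * b) * h2 | linear_combination (sg m a) * h2

theorem Wm_form : (Wm : Matrix (Fin 4) (Fin 4) F).transpose * suzukiForm F * Wm = suzukiForm F := by
  ext i j
  fin_cases i <;> fin_cases j <;>
    simp [Wm, suzukiForm, Matrix.mul_apply, Fin.sum_univ_four]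

theorem Dm_form (α : Fˣ) : (Dm m α).transpose * suzukiForm F * Dm m α = suzukiForm F := by
  have hα : (α : F) ≠ 0 := α.ne_zero
  have hA : (α : F) ^ 2 ^ m ≠ 0 := pow_ne_zero _ hα
  ext i j
  fin_cases i <;> fin_cases j <;>
    simp [Dm, suzukiForm, Matrix.mul_apply, Matrix.diagonal_apply]

theorem form_mul {A B : Matrix (Fin 4) (Fin 4) F}
    (hA : A.transpose * suzukiForm F * A = suzukiForm F)
    (hB : B.transpose * suzukiForm F * B = suzukiForm F) :
    (A * B).transpose * suzukiForm F * (A * B) = suzukiForm F := by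
  rw [Matrix.transpose_mul]
  calc B.transpose * A.transpose * suzukiForm F * (A * B)
      = B.transpose * (A.transpose * suzukiForm F * A) * B := by simp only [Matrix.mul_assoc]
    _ = suzukiForm F := by rw [hA, hB]

theorem form_of_mem (hF : Fintype.card F = 2 ^ (2 * m + 1)) (hm : 1 ≤ m)
    (g : Matrix.SpecialLinearGroup (Fin 4) F) (hg : g ∈ Sz F m) :
    (g : Matrix (Fin 4) (Fin 4) F).transpose * suzukiForm F * (g : Matrix (Fin 4) (Fin 4) F) =
      suzukiForm F := by
  rcases cases m hF hm ⟨g, hg⟩ with ⟨a, b, α, h⟩ | ⟨a, b, a', b', α, h⟩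
  · have h' : g = tS m a b * dS m α := congrArg Subtype.val h
    rw [h', Matrix.SpecialLinearGroup.coe_mul]
    exact form_mul (Tm_form m a b) (Dm_form m α)
  · have h' : g = tS m a b * wS * tS m a' b' * dS m α := congrArg Subtype.val h
    rw [h', Matrix.SpecialLinearGroup.coe_mul, Matrix.SpecialLinearGroup.coe_mul,
      Matrix.SpecialLinearGroup.coe_mul]
    exact form_mul (form_mul (form_mul (Tm_form m a b) Wm_form) (Tm_form m a' b')) (Dm_form m α)

end form

section charp

theorem charP_of_card {F : Type*} [Field F] [Fintype F] {m : ℕ}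
    (hF : Fintype.card F = 2 ^ (2 * m + 1)) : CharP F 2 := by
  have h2 : (2 : F) = 0 := by
    have := Nat.cast_card_eq_zero F
    rw [hF] at this
    push_cast at this
    exact pow_eq_zero_iff (by omega) |>.1 this
  have : ringChar F = 2 := CharP.ringChar_of_prime_eq_zero Nat.prime_two (by exact_mod_cast h2)
  exact ringChar.of_eq this

end charp

end Cfsg.Agent.Lib.Helper5.Suzuki
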