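import Cfsg.Agent.Lib.Helper5.SuzukiOdd
import Mathlib

set_option autoImplicit false
open Cfsg
open scoped Matrix Pointwise commutatorElement
open Cfsg.Agent.S0335
open Cfsg.Agent.Lib.Helper5.FixCount

namespace Cfsg.Agent.Lib.Helper5.Suzuki

section dihedral
variable {G : Type*} [Group G] {t t' : G}

theorem inv_of_sq (ht : t * t = 1) : t⁻¹ = t := inv_eq_of_mul_eq_one_left ht

theorem dih_conj_pow (ht : t * t = 1) (ht' : t' * t' = 1) (j : ℕ) :
    t * (t * t') ^ j * t = ((t * t') ^ j)⁻¹ := by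
  have hti := inv_of_sq ht
  have hti' := inv_of_sq ht'
  have h1 : t * (t * t') * t⁻¹ = (t * t')⁻¹ := by
    rw [mul_inv_rev, hti, hti']
    calc t * (t * t') * t = (t * t) * t' * t := by simp only [mul_assoc]
      _ = t' * t := by rw [ht, one_mul]
  have h2 : t * (t * t') ^ j * t⁻¹ = ((t * t') ^ j)⁻¹ := by
    rw [← conj_pow, h1, inv_pow]
  rwa [hti] at h2

theorem dih_flip (ht : t * t = 1) {K : G} (h1 : t * K * t = K⁻¹) : t * K⁻¹ = K * t := by
  calc t * K⁻¹ = t * (t * K * t) := by rw [h1]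
    _ = (t * t) * K * t := by simp only [mul_assoc]
    _ = K * t := by rw [ht, one_mul]

/-- in a dihedral group of twice odd order the two generating involutions are conjugate -/
theorem dih_conj (ht : t * t = 1) (ht' : t' * t' = 1) {j : ℕ} (hj : (t * t') ^ (2 * j + 1) = 1) :
    (t * t') ^ j * t * ((t * t') ^ j)⁻¹ = t' := by
  have hti := inv_of_sq ht
  have hti' := inv_of_sq ht'
  have h1 := dih_conj_pow ht ht' j
  have h3 : (t * t') ^ j * (t * t') ^ j = (t * t')⁻¹ := by
    rw [eq_inv_iff_mul_eq_one, ← pow_add, ← pow_succ]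
    have : j + j + 1 = 2 * j + 1 := by ring
    rw [this, hj]
  obtain ⟨K, hK⟩ : ∃ K, K = (t * t') ^ j := ⟨_, rfl⟩
  rw [← hK] at h1 h3 ⊢
  have h2 := dih_flip ht h1
  calc K * t * K⁻¹ = K * (t * K⁻¹) := by rw [mul_assoc]
    _ = K * K * t := by rw [h2, mul_assoc]
    _ = t' := by rw [h3, mul_inv_rev, hti, hti', mul_assoc, ht, mul_one]

/-- the involution of a dihedral group of twice odd order swapping the two generators -/
theorem dih_swap_sq (ht : t * t = 1) (ht' : t' * t' = 1) (j : ℕ) :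
    ((t * t') ^ j * t) * ((t * t') ^ j * t) = 1 := by
  have h1 := dih_conj_pow ht ht' j
  obtain ⟨K, hK⟩ : ∃ K, K = (t * t') ^ j := ⟨_, rfl⟩
  rw [← hK] at h1 ⊢
  calc (K * t) * (K * t) = K * (t * K * t) := by simp only [mul_assoc]
    _ = 1 := by rw [h1, mul_inv_cancel]

theorem dih_swap_conj (ht : t * t = 1) (ht' : t' * t' = 1) {j : ℕ}
    (hj : (t * t') ^ (2 * j + 1) = 1) :
    ((t * t') ^ j * t) * t * ((t * t') ^ j * t)⁻¹ = t' := by
  have hti := inv_of_sq ht
  have h0 := dih_conj ht ht' hj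
  obtain ⟨K, hK⟩ : ∃ K, K = (t * t') ^ j := ⟨_, rfl⟩
  rw [← hK] at h0 ⊢
  rw [mul_inv_rev, hti]
  calc K * t * t * (t * K⁻¹) = K * (t * t) * (t * K⁻¹) := by simp only [mul_assoc]
    _ = K * t * K⁻¹ := by rw [ht, mul_one, mul_assoc]
    _ = t' := h0

/-- in a dihedral group of order divisible by four there is a central involution -/
theorem dih_central (ht : t * t = 1) (ht' : t' * t' = 1) {j : ℕ} (hj0 : 0 < j)
    (hj : orderOf (t * t') = 2 * j) :
    (t * t') ^ j ≠ 1 ∧ (t * t') ^ j * (t * t') ^ j = 1 ∧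
      (t * t') ^ j * t = t * (t * t') ^ j ∧ (t * t') ^ j * t' = t' * (t * t') ^ j := by
  have hne : (t * t') ^ j ≠ 1 := by
    intro h
    have := orderOf_dvd_of_pow_eq_one h
    rw [hj] at this
    have := Nat.le_of_dvd hj0 this
    omega
  have hsq : (t * t') ^ j * (t * t') ^ j = 1 := by
    rw [← pow_add, ← two_mul, ← hj, pow_orderOf_eq_one]
  have hinv : ((t * t') ^ j)⁻¹ = (t * t') ^ j := inv_of_sq hsq
  have h1 := dih_conj_pow ht ht' j
  rw [hinv] at h1
  have hck : (t * t') ^ j * (t * t') = (t * t') * (t * t') ^ j := by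
    rw [← pow_succ, ← pow_succ']
  have e : t' = t * (t * t') := by rw [← mul_assoc, ht, one_mul]
  obtain ⟨K, hK⟩ : ∃ K, K = (t * t') ^ j := ⟨_, rfl⟩
  rw [← hK] at h1 hck hne hsq ⊢
  have hct : K * t = t * K := by
    calc K * t = (t * K * t) * t := by rw [h1]
      _ = t * K * (t * t) := by simp only [mul_assoc]
      _ = t * K := by rw [ht, mul_one]
  refine ⟨hne, hsq, hct, ?_⟩
  calc K * t' = K * (t * (t * t')) := by rw [← e]
    _ = (K * t) * (t * t') := by rw [mul_assoc]
    _ = t * (K * (t * t')) := by rw [hct, mul_assoc]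
    _ = t * ((t * t') * K) := by rw [hck]
    _ = (t * (t * t')) * K := by simp only [mul_assoc]
    _ = t' * K := by rw [← e]

end dihedral

section inv
variable {F : Type*} [Field F] [Fintype F] [CharP F 2] (m : ℕ)
set_option linter.unusedSectionVars false
variable (hF : Fintype.card F = 2 ^ (2 * m + 1))
include hF

omit hF in
theorem pow_four_of_sq {t : Sz F m} (ht : t * t = 1) : t ^ 4 = 1 := by
  have e : t ^ 4 = (t * t) * (t * t) := by
    simp only [pow_succ, pow_zero, one_mul, mul_assoc]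
  rw [e, ht, mul_one]

/-- the fixed point of an involution is unique -/
theorem invol_fix_unique (hm : 1 ≤ m) {t : Sz F m} (ht1 : t ≠ 1) (ht : t ^ 4 = 1)
    {ω ω' : suzukiOvoid F m} (h : t • ω = ω) (h' : t • ω' = ω') : ω = ω' := by
  obtain ⟨ω₀, -, huniq⟩ := exists_unique_fix m hF hm ht1 ht
  rw [huniq ω h, huniq ω' h']

/-- an element commuting with a non-identity 2-element fixes its fixed point -/
theorem comm_fix (hm : 1 ≤ m) {t x : Sz F m} (ht1 : t ≠ 1) (ht : t ^ 4 = 1)
    {ω : suzukiOvoid F m} (h : t • ω = ω) (hx : x * t = t * x) : x • ω = ω := by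
  apply invol_fix_unique m hF hm ht1 ht _ h
  rw [← mul_smul, ← hx, mul_smul, h]

/-- a conjugate of a 2-element fixes the translated point -/
theorem conj_fix {t x : Sz F m} {ω : suzukiOvoid F m} (h : t • ω = ω) :
    (x * t * x⁻¹) • (x • ω) = x • ω := by
  rw [mul_smul, mul_smul, inv_smul_smul, h]

/-- the product of two involutions with different fixed points has odd order -/
theorem invol_prod_odd (hm : 1 ≤ m) {t t' : Sz F m} (ht1 : t ≠ 1) (ht : t * t = 1)
    (ht1' : t' ≠ 1) (ht' : t' * t' = 1) {ω ω' : suzukiOvoid F m} (h : t • ω = ω)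
    (h' : t' • ω' = ω') (hne : ω ≠ ω') : ∃ j : ℕ, (t * t') ^ (2 * j + 1) = 1 := by
  have hpos : 0 < orderOf (t * t') := orderOf_pos _
  rcases Nat.even_or_odd' (orderOf (t * t')) with ⟨j, hj | hj⟩
  · exfalso
    have hj0 : 0 < j := by omega
    obtain ⟨hz1, hzsq, hzt, hzt'⟩ := dih_central ht ht' hj0 hj
    have hz4 := pow_four_of_sq m hzsq
    have h1 := comm_fix m hF hm ht1 (pow_four_of_sq m ht) h hzt
    have h2 := comm_fix m hF hm ht1' (pow_four_of_sq m ht') h' hzt'
    exact hne (invol_fix_unique m hF hm hz1 hz4 h1 h2)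
  · exact ⟨j, by rw [← hj, pow_orderOf_eq_one]⟩

/-- two involutions with different fixed points are conjugate under an involution of the
subgroup they generate, which swaps their fixed points -/
theorem invol_swap (hm : 1 ≤ m) (M : Subgroup (Sz F m)) {t t' : Sz F m} (htM : t ∈ M)
    (htM' : t' ∈ M) (ht1 : t ≠ 1) (ht : t * t = 1)
    (ht1' : t' ≠ 1) (ht' : t' * t' = 1) {ω ω' : suzukiOvoid F m} (h : t • ω = ω)
    (h' : t' • ω' = ω') (hne : ω ≠ ω') :
    ∃ s ∈ M, s * s = 1 ∧ s * t * s⁻¹ = t' ∧ s • ω = ω' ∧ s • ω' = ω := by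
  obtain ⟨j, hj⟩ := invol_prod_odd m hF hm ht1 ht ht1' ht' h h' hne
  have hs := dih_swap_sq ht ht' j
  have hc := dih_swap_conj ht ht' hj
  have h1 : ((t * t') ^ j * t) • ω = ω' := by
    apply invol_fix_unique m hF hm ht1' (pow_four_of_sq m ht') _ h'
    have := conj_fix m hF (x := (t * t') ^ j * t) h
    rwa [hc] at this
  refine ⟨(t * t') ^ j * t, M.mul_mem (M.pow_mem (M.mul_mem htM htM') _) htM, hs, hc, h1, ?_⟩
  rw [← h1, ← mul_smul, hs, one_smul]

end inv

end Cfsg.Agent.Lib.Helper5.Suzuki
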