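import Cfsg.Agent.Lib.Helper5.SuzukiBridge
import Cfsg.Agent.H9.PingPongSL2
import Mathlib

set_option autoImplicit false
open Cfsg
open scoped Matrix Polynomial
open Cfsg.Agent.S0335
open Cfsg.Agent.Lib.Helper5.Suzuki
open Polynomial

namespace Cfsg.Agent.Lib.Helper5.SuzukiLaw

section generic
variable {R : Type*} [CommRing R]

/-- the formal translation matrix -/
def TT (a A : R) : Matrix (Fin 4) (Fin 4) R :=
  !![1, a, A * a, A * a ^ 2; 0, 1, A, 0; 0, 0, 1, a; 0, 0, 0, 1]

/-- its inverse -/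
def TTinv (a A : R) : Matrix (Fin 4) (Fin 4) R :=
  !![1, a, 0, A * a ^ 2; 0, 1, A, A * a; 0, 0, 1, a; 0, 0, 0, 1]

/-- the formal inversion matrix -/
def WW : Matrix (Fin 4) (Fin 4) R :=
  !![0, 0, 0, 1; 0, 0, 1, 0; 0, 1, 0, 0; 1, 0, 0, 0]

theorem TT_mul_TTinv (h2 : (2 : R) = 0) (a A : R) : TT a A * TTinv a A = 1 := by
  apply Matrix.ext
  intro i j
  fin_cases i <;> fin_cases j <;> simp [TT, TTinv, Matrix.mul_apply, Fin.sum_univ_four]
  · linear_combination a * h2
  · linear_combination (A * a) * h2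
  · linear_combination (2 * A * a ^ 2) * h2
  · linear_combination A * h2
  · linear_combination (A * a) * h2
  · linear_combination a * h2

theorem WW_mul_WW : (WW : Matrix (Fin 4) (Fin 4) R) * WW = 1 := by
  apply Matrix.ext
  intro i j
  fin_cases i <;> fin_cases j <;> simp [WW, Matrix.mul_apply, Fin.sum_univ_four]

theorem det_TT (a A : R) : (TT a A).det = 1 := by
  rw [Matrix.det_of_isUpperTriangular]
  · simp [Fin.prod_univ_four, TT]
  · intro i j hij
    fin_cases i <;> fin_cases j <;> first | rfl | (exfalso; revert hij; decide)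

theorem det_TTinv (a A : R) : (TTinv a A).det = 1 := by
  rw [Matrix.det_of_isUpperTriangular]
  · simp [Fin.prod_univ_four, TTinv]
  · intro i j hij
    fin_cases i <;> fin_cases j <;> first | rfl | (exfalso; revert hij; decide)

theorem TT_map {S : Type*} [CommRing S] (f : R →+* S) (a A : R) :
    (TT a A).map f = TT (f a) (f A) := by
  apply Matrix.ext
  intro i j
  fin_cases i <;> fin_cases j <;> simp [TT]

theorem TTinv_map {S : Type*} [CommRing S] (f : R →+* S) (a A : R) :
    (TTinv a A).map f = TTinv (f a) (f A) := by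
  apply Matrix.ext
  intro i j
  fin_cases i <;> fin_cases j <;> simp [TTinv]

theorem WW_map {S : Type*} [CommRing S] (f : R →+* S) :
    (WW : Matrix (Fin 4) (Fin 4) R).map f = WW := by
  apply Matrix.ext
  intro i j
  fin_cases i <;> fin_cases j <;> simp [WW]

/-- embedding of 2-vectors -/
def iota (v : Fin 2 → R) : Fin 4 → R := ![v 0, v 1, 0, 0]

theorem iota_injective : Function.Injective (iota : (Fin 2 → R) → (Fin 4 → R)) := by
  intro v v' h
  funext i
  fin_cases i
  · exact congrFun h 0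
  · exact congrFun h 1

/-- with `A = 0` the generator acts on the first two coordinates as the `SL₂` generator -/
theorem gen_mulVec_iota (a : R) (v : Fin 2 → R) :
    (TT a 0 * WW * TT a 0 * WW) *ᵥ iota v = iota (!![1 + a ^ 2, a; a, 1] *ᵥ v) := by
  funext i
  fin_cases i <;>
    simp [TT, WW, iota, Matrix.mul_apply, Matrix.mulVec, dotProduct, Fin.sum_univ_four,
      Fin.sum_univ_two] <;> ring

end generic

section poly
variable {F : Type*} [Field F] [Fintype F] [CharP F 2] (s : ℕ)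

local notation "SL4X" => Matrix.SpecialLinearGroup (Fin 4) F[X]

theorem two_eq_zero_poly : (2 : F[X]) = 0 := CharTwo.two_eq_zero

theorem det_WW_poly : (WW : Matrix (Fin 4) (Fin 4) F[X]).det = 1 := by
  have h1 : (WW : Matrix (Fin 4) (Fin 4) F[X]) = (C : F →+* F[X]).mapMatrix Wm := by
    apply Matrix.ext
    intro i j
    fin_cases i <;> fin_cases j <;> simp [WW, Wm]
  rw [h1, ← RingHom.map_det, det_Wm, map_one]

/-- the formal translations -/
noncomputable def TS (n : ℕ) : SL4X := ⟨TT (X ^ n) (X ^ (s * n)), det_TT _ _⟩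

/-- their inverses -/
noncomputable def TSinv (n : ℕ) : SL4X := ⟨TTinv (X ^ n) (X ^ (s * n)), det_TTinv _ _⟩

/-- the formal inversion -/
noncomputable def WS : SL4X := ⟨WW, det_WW_poly⟩

theorem TS_inv (n : ℕ) : (TS (F := F) s n)⁻¹ = TSinv s n :=
  inv_eq_of_mul_eq_one_right (Subtype.ext (TT_mul_TTinv two_eq_zero_poly _ _))

theorem WS_inv : (WS : SL4X)⁻¹ = WS :=
  inv_eq_of_mul_eq_one_right (Subtype.ext WW_mul_WW)

/-- the formal generators -/
noncomputable def GS (n : ℕ) : SL4X := TS s n * WS * TS s n * WS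

theorem GS_inv (n : ℕ) : (GS (F := F) s n)⁻¹ = WS * TSinv s n * WS * TSinv s n := by
  rw [GS, mul_inv_rev, mul_inv_rev, mul_inv_rev, TS_inv, WS_inv]
  simp only [mul_assoc]

/-- the formal evaluation of words -/
noncomputable def Phi : FreeGroup ℕ →* SL4X := FreeGroup.lift (fun i => GS s (i + 1))

/-- all entries have degree at most `d` -/
def EntriesLE4 (M : Matrix (Fin 4) (Fin 4) F[X]) (d : ℕ) : Prop := ∀ i j, (M i j).natDegree ≤ d

theorem entriesLE4_mul {A B : Matrix (Fin 4) (Fin 4) F[X]} {dA dB : ℕ} (hA : EntriesLE4 A dA)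
    (hB : EntriesLE4 B dB) : EntriesLE4 (A * B) (dA + dB) := by
  intro i j
  rw [Matrix.mul_apply]
  apply natDegree_sum_le_of_forall_le
  intro k _
  exact natDegree_mul_le.trans (add_le_add (hA i k) (hB k j))

theorem entriesLE4_one : EntriesLE4 (1 : Matrix (Fin 4) (Fin 4) F[X]) 0 := by
  intro i j
  by_cases h : i = j
  · rw [h, Matrix.one_apply_eq]
    simp
  · rw [Matrix.one_apply_ne h]
    simp

theorem entriesLE4_WW : EntriesLE4 (WW : Matrix (Fin 4) (Fin 4) F[X]) 0 := by
  intro i j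
  fin_cases i <;> fin_cases j <;> simp [WW]

theorem deg_aux (n : ℕ) :
    (X ^ n : F[X]).natDegree ≤ s * n + 2 * n ∧ (X ^ (s * n) : F[X]).natDegree ≤ s * n + 2 * n ∧
    (X ^ (s * n) * X ^ n : F[X]).natDegree ≤ s * n + 2 * n ∧
    (X ^ (s * n) * (X ^ n) ^ 2 : F[X]).natDegree ≤ s * n + 2 * n ∧
    (1 : F[X]).natDegree ≤ s * n + 2 * n ∧ (0 : F[X]).natDegree ≤ s * n + 2 * n := by
  refine ⟨?_, ?_, ?_, ?_, ?_, ?_⟩
  · exact (natDegree_X_pow_le _).trans (by omega)
  · exact (natDegree_X_pow_le _).trans (by omega)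
  · rw [← pow_add]
    exact (natDegree_X_pow_le _).trans (by omega)
  · rw [← pow_mul, ← pow_add]
    exact (natDegree_X_pow_le _).trans (by omega)
  · simp
  · simp

theorem entriesLE4_TT (n : ℕ) :
    EntriesLE4 (TT (X ^ n) (X ^ (s * n)) : Matrix (Fin 4) (Fin 4) F[X]) (s * n + 2 * n) := by
  obtain ⟨h1, h2, h3, h4, h5, h6⟩ := deg_aux (F := F) s n
  intro i j
  fin_cases i <;> fin_cases j <;> simp [TT]
  all_goals first | omega | (generalize s * n = k; omega)

theorem entriesLE4_TTinv (n : ℕ) :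
    EntriesLE4 (TTinv (X ^ n) (X ^ (s * n)) : Matrix (Fin 4) (Fin 4) F[X]) (s * n + 2 * n) := by
  obtain ⟨h1, h2, h3, h4, h5, h6⟩ := deg_aux (F := F) s n
  intro i j
  fin_cases i <;> fin_cases j <;> simp [TTinv]
  all_goals first | omega | (generalize s * n = k; omega)

theorem entriesLE4_GS (n : ℕ) : EntriesLE4 (GS (F := F) s n).1 ((s + 2) * (2 * n)) := by
  have h := entriesLE4_mul (entriesLE4_mul (entriesLE4_mul (entriesLE4_TT (F := F) s n)
    entriesLE4_WW) (entriesLE4_TT s n)) entriesLE4_WW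
  have e : s * n + 2 * n + 0 + (s * n + 2 * n) + 0 = (s + 2) * (2 * n) := by ring
  rw [e] at h
  exact h

theorem entriesLE4_GSinv (n : ℕ) : EntriesLE4 ((GS (F := F) s n)⁻¹).1 ((s + 2) * (2 * n)) := by
  rw [GS_inv]
  have h := entriesLE4_mul (entriesLE4_mul (entriesLE4_mul entriesLE4_WW
    (entriesLE4_TTinv (F := F) s n)) entriesLE4_WW) (entriesLE4_TTinv s n)
  have e : 0 + (s * n + 2 * n) + 0 + (s * n + 2 * n) = (s + 2) * (2 * n) := by ring
  rw [e] at h
  exact h

open Cfsg.Agent.H9.PingPongSL2 in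
theorem entriesLE4_prod (L : List (ℕ × Bool)) :
    EntriesLE4 ((L.map fun x => cond x.2 (GS (F := F) s (x.1 + 1)) (GS s (x.1 + 1))⁻¹).prod :
      SL4X).1 ((s + 2) * bnd L) := by
  induction L with
  | nil =>
    simp only [List.map_nil, List.prod_nil, bnd, List.sum_nil, mul_zero]
    exact entriesLE4_one
  | cons x L ih =>
    rw [List.map_cons, List.prod_cons]
    have hb : bnd (x :: L) = 2 * (x.1 + 1) + bnd L := by
      simp [bnd]
    rw [hb, mul_add]
    change EntriesLE4 (_ * _) _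
    apply entriesLE4_mul _ ih
    cases x.2
    · rw [cond_false]
      exact entriesLE4_GSinv s _
    · rw [cond_true]
      exact entriesLE4_GS s _

open Cfsg.Agent.H9.PingPongSL2 in
theorem entriesLE4_Phi (w : FreeGroup ℕ) :
    EntriesLE4 (Phi (F := F) s w).1 ((s + 2) * bnd w.toWord) := by
  have h : Phi (F := F) s w =
      (w.toWord.map fun x => cond x.2 (GS s (x.1 + 1)) (GS s (x.1 + 1))⁻¹).prod := by
    conv_lhs => rw [← FreeGroup.mk_toWord (x := w)]
    rfl
  rw [h]
  exact entriesLE4_prod s _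

/-- a matrix of small degree evaluating to the identity everywhere is the identity -/
theorem eq_one_of_eval (M : SL4X) (d : ℕ) (hd : EntriesLE4 M.1 d) (hdF : d < Fintype.card F)
    (h : ∀ x : F, Matrix.SpecialLinearGroup.map (Polynomial.evalRingHom x) M = 1) : M = 1 := by
  apply Subtype.ext
  apply Matrix.ext
  intro i j
  apply Polynomial.eq_of_natDegree_lt_card_of_eval_eq' _ _ (Finset.univ : Finset F)
  · intro x _
    have h1 := congrArg (fun N : Matrix.SpecialLinearGroup (Fin 4) F => N.1 i j) (h x)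
    simp only [Matrix.SpecialLinearGroup.map_apply_coe, RingHom.mapMatrix_apply, Matrix.map_apply,
      Polynomial.coe_evalRingHom, Matrix.SpecialLinearGroup.coe_one] at h1
    rw [h1, Matrix.SpecialLinearGroup.coe_one]
    by_cases hij : i = j
    · rw [hij, Matrix.one_apply_eq, Matrix.one_apply_eq, eval_one]
    · rw [Matrix.one_apply_ne hij, Matrix.one_apply_ne hij, eval_zero]
  · rw [Finset.card_univ]
    refine lt_of_le_of_lt (max_le (hd i j) ?_) hdF
    rw [Matrix.SpecialLinearGroup.coe_one]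
    exact (entriesLE4_one i j).trans (Nat.zero_le _)

section quot
open Cfsg.Agent.H9.PingPongSL2

/-- the subgroup of compatible pairs -/
def compat (Q : Type*) [CommRing Q] :
    Subgroup (Matrix.SpecialLinearGroup (Fin 4) Q × Matrix.SpecialLinearGroup (Fin 2) Q) where
  carrier := {p | ∀ v : Fin 2 → Q, p.1.1 *ᵥ iota v = iota (p.2.1 *ᵥ v)}
  mul_mem' := by
    intro p q hp hq v
    change (p.1.1 * q.1.1) *ᵥ iota v = iota ((p.2.1 * q.2.1) *ᵥ v)
    rw [← Matrix.mulVec_mulVec, hq v, hp, Matrix.mulVec_mulVec]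
  one_mem' := by
    intro v
    change (1 : Matrix (Fin 4) (Fin 4) Q) *ᵥ iota v = iota ((1 : Matrix (Fin 2) (Fin 2) Q) *ᵥ v)
    rw [Matrix.one_mulVec, Matrix.one_mulVec]
  inv_mem' := by
    intro p hp v
    have h1 := hp ((p.2⁻¹).1 *ᵥ v)
    rw [Matrix.mulVec_mulVec, ← Matrix.SpecialLinearGroup.coe_mul, mul_inv_cancel,
      Matrix.SpecialLinearGroup.coe_one, Matrix.one_mulVec] at h1
    change (p.1⁻¹).1 *ᵥ iota v = iota ((p.2⁻¹).1 *ᵥ v)
    rw [← h1, Matrix.mulVec_mulVec, ← Matrix.SpecialLinearGroup.coe_mul, inv_mul_cancel,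
      Matrix.SpecialLinearGroup.coe_one, Matrix.one_mulVec]

theorem Phi_ne_one (hs : 1 ≤ s) (w : FreeGroup ℕ) (hw : w ≠ 1) (hb : bnd w.toWord < s) :
    Phi (F := F) s w ≠ 1 := by
  intro hcon
  let I : Ideal F[X] := Ideal.span {X ^ s}
  let π : F[X] →+* F[X] ⧸ I := Ideal.Quotient.mk I
  have hπ : ∀ p : F[X], π p = 0 ↔ X ^ s ∣ p := fun p => by
    rw [Ideal.Quotient.eq_zero_iff_mem, Ideal.mem_span_singleton]
  let ψ4 := Matrix.SpecialLinearGroup.map (n := Fin 4) π
  let ψ2 := Matrix.SpecialLinearGroup.map (n := Fin 2) π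
  have hgen : ∀ n : ℕ, 1 ≤ n → (ψ4 (GS s n), ψ2 (gen F n)) ∈ compat (F[X] ⧸ I) := by
    intro n hn v
    have hA : π (X ^ (s * n)) = 0 := by
      rw [hπ]
      exact pow_dvd_pow X (Nat.le_mul_of_pos_right s hn)
    have h4 : (ψ4 (GS s n)).1 = TT (π (X ^ n)) 0 * WW * TT (π (X ^ n)) 0 * WW := by
      change π.mapMatrix (TT (X ^ n) (X ^ (s * n)) * WW * TT (X ^ n) (X ^ (s * n)) * WW) = _
      rw [map_mul, map_mul, map_mul, RingHom.mapMatrix_apply, RingHom.mapMatrix_apply, TT_map,
        WW_map, hA]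
    have h2 : (ψ2 (gen F n)).1 = !![1 + (π (X ^ n)) ^ 2, π (X ^ n); π (X ^ n), 1] := by
      change π.mapMatrix (gen F n).1 = _
      rw [coe_gen, RingHom.mapMatrix_apply]
      apply Matrix.ext
      intro i j
      fin_cases i <;> fin_cases j <;> simp [pow_mul, pow_two, ← pow_add, two_mul]
    change (ψ4 (GS s n)).1 *ᵥ iota v = iota ((ψ2 (gen F n)).1 *ᵥ v)
    rw [h4, h2]
    exact gen_mulVec_iota _ v
  let Ψ : FreeGroup ℕ →* Matrix.SpecialLinearGroup (Fin 4) (F[X] ⧸ I) ×
      Matrix.SpecialLinearGroup (Fin 2) (F[X] ⧸ I) :=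
    MonoidHom.prod (ψ4.comp (Phi s)) (ψ2.comp (phi F))
  have hΨ : ∀ u : FreeGroup ℕ, Ψ u ∈ compat (F[X] ⧸ I) := by
    intro u
    induction u using FreeGroup.induction_on with
    | C1 =>
      rw [map_one]
      exact (compat _).one_mem
    | of x =>
      have h1 : Phi (F := F) s (FreeGroup.of x) = GS s (x + 1) := by simp [Phi]
      have h2 : phi F (FreeGroup.of x) = gen F (x + 1) := by simp [phi]
      have : Ψ (FreeGroup.of x) = (ψ4 (GS s (x + 1)), ψ2 (gen F (x + 1))) := by
        change (ψ4 (Phi s (FreeGroup.of x)), ψ2 (phi F (FreeGroup.of x))) = _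
        rw [h1, h2]
      rw [this]
      exact hgen (x + 1) (by omega)
    | inv_of x ih =>
      rw [map_inv]
      exact (compat _).inv_mem ih
    | mul x y ihx ihy =>
      rw [map_mul]
      exact (compat _).mul_mem ihx ihy
  have hall : ∀ u : FreeGroup ℕ, (ψ4 (Phi s u), ψ2 (phi F u)) ∈ compat (F[X] ⧸ I) := hΨ
  have h1 := hall w
  rw [hcon, map_one] at h1
  have h2 : ∀ v : Fin 2 → F[X] ⧸ I, (ψ2 (phi F w)).1 *ᵥ v = v := by
    intro v
    have := h1 v
    change (1 : Matrix (Fin 4) (Fin 4) (F[X] ⧸ I)) *ᵥ iota v = _ at this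
    rw [Matrix.one_mulVec] at this
    exact (iota_injective this).symm
  have h3 : (ψ2 (phi F w)).1 = 1 := by
    apply Matrix.ext
    intro i j
    have := congrFun (h2 (Pi.single j 1)) i
    rw [Matrix.mulVec_single_one] at this
    rw [Matrix.one_apply]
    simpa [Pi.single_apply, eq_comm] using this
  apply hw
  apply phi_injective F
  rw [map_one]
  apply Subtype.ext
  apply Matrix.ext
  intro i j
  have h4 : π ((phi F w).1 i j - (1 : Matrix (Fin 2) (Fin 2) F[X]) i j) = 0 := by
    have := congrFun (congrFun h3 i) j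
    change π ((phi F w).1 i j) = _ at this
    rw [map_sub, this]
    by_cases hij : i = j
    · rw [hij, Matrix.one_apply_eq, Matrix.one_apply_eq, map_one, sub_self]
    · rw [Matrix.one_apply_ne hij, Matrix.one_apply_ne hij, map_zero, sub_self]
  rw [hπ] at h4
  have hdeg : ((phi F w).1 i j - (1 : Matrix (Fin 2) (Fin 2) F[X]) i j).natDegree < (X ^ s : F[X]).natDegree := by
    rw [natDegree_X_pow]
    refine lt_of_le_of_lt ((natDegree_sub_le _ _).trans (max_le (entriesLE_phi F w i j) ?_)) hb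
    exact (entriesLE_one F i j).trans (Nat.zero_le _)
  have := Polynomial.eq_zero_of_dvd_of_natDegree_lt h4 hdeg
  rw [Matrix.SpecialLinearGroup.coe_one]
  exact sub_eq_zero.1 this

end quot

end poly

section evalsec
variable {F : Type*} [Field F] [Fintype F] [CharP F 2] (m : ℕ)
variable (hF : Fintype.card F = 2 ^ (2 * m + 1))

theorem Tm_eq_TT (a : F) : Tm m a 0 = TT a (sg m a) := by
  apply Matrix.ext
  intro i j
  fin_cases i <;> fin_cases j <;> simp [Tm, TT, ff, sg_zero m]

theorem ev_TS (x : F) (n : ℕ) :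
    Matrix.SpecialLinearGroup.map (Polynomial.evalRingHom x) (TS (2 ^ (m + 1)) n) =
      tS m (x ^ n) 0 := by
  apply Subtype.ext
  change (Polynomial.evalRingHom x).mapMatrix (TT (X ^ n) (X ^ (2 ^ (m + 1) * n))) = Tm m (x ^ n) 0
  rw [RingHom.mapMatrix_apply, TT_map, Tm_eq_TT]
  congr 1
  · simp
  · simp only [coe_evalRingHom, eval_pow, eval_X, sg]
    rw [← pow_mul, mul_comm]

theorem ev_WS (x : F) :
    Matrix.SpecialLinearGroup.map (Polynomial.evalRingHom x) (WS : Matrix.SpecialLinearGroup (Fin 4) F[X]) =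
      wS := by
  apply Subtype.ext
  change (Polynomial.evalRingHom x).mapMatrix WW = Wm
  rw [RingHom.mapMatrix_apply, WW_map]
  rfl

theorem ev_GS (x : F) (n : ℕ) :
    Matrix.SpecialLinearGroup.map (Polynomial.evalRingHom x) (GS (2 ^ (m + 1)) n) =
      tS m (x ^ n) 0 * wS * tS m (x ^ n) 0 * wS := by
  rw [GS, map_mul, map_mul, map_mul, ev_TS, ev_WS]

/-- the Suzuki group elements to be substituted -/
noncomputable def gT (x : F) (n : ℕ) : Sz F m :=
  tT m hF (x ^ n) 0 * wW m hF * tT m hF (x ^ n) 0 * wW m hF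

theorem ev_Phi (x : F) (w : FreeGroup ℕ) :
    Matrix.SpecialLinearGroup.map (Polynomial.evalRingHom x) (Phi (2 ^ (m + 1)) w) =
      ((FreeGroup.lift (fun i => gT m hF x (i + 1)) w : Sz F m) :
        Matrix.SpecialLinearGroup (Fin 4) F) := by
  have h : (Matrix.SpecialLinearGroup.map (Polynomial.evalRingHom x)).comp (Phi (2 ^ (m + 1))) =
      (Sz F m).subtype.comp (FreeGroup.lift (fun i => gT m hF x (i + 1))) := by
    apply FreeGroup.ext_hom
    intro i
    simp only [MonoidHom.comp_apply, Phi, FreeGroup.lift_apply_of, Subgroup.coe_subtype]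
    rw [ev_GS]
    rfl
  exact DFunLike.congr_fun h w

include hF in
open Cfsg.Agent.H9.PingPongSL2 in
/-- for large `m` some substitution of Suzuki group elements does not satisfy the law `w` -/
theorem exists_ne_one (hm : 1 ≤ m) (w : FreeGroup ℕ) (hw : w ≠ 1) (hN : 4 * bnd w.toWord + 1 ≤ m) :
    ∃ f : ℕ → Sz F m, FreeGroup.lift f w ≠ 1 := by
  set b := bnd w.toWord with hb
  set s := 2 ^ (m + 1) with hs
  have hs1 : m + 1 < s := Nat.lt_two_pow_self
  have hsb : 4 * b < s := by omega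
  have hcard : (s + 2) * b < Fintype.card F := by
    rw [hF, show 2 * m + 1 = (m + 1) + m by ring, pow_add, ← hs]
    have h2m : s = 2 * 2 ^ m := by rw [hs, pow_succ]; ring
    have h1 : (s + 2) * b ≤ 2 * s * b := by
      apply Nat.mul_le_mul_right
      omega
    have h3 : 2 * b < 2 ^ m := by omega
    calc (s + 2) * b ≤ 2 * s * b := h1
      _ = s * (2 * b) := by ring
      _ < s * 2 ^ m := Nat.mul_lt_mul_of_pos_left h3 (by omega)
  have hne := Phi_ne_one (F := F) s (by omega) w hw (by omega)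
  by_contra hcon
  push Not at hcon
  apply hne
  apply eq_one_of_eval _ _ (entriesLE4_Phi s w) hcard
  intro x
  rw [hs, ev_Phi m hF x w, hcon]
  rfl

end evalsec

end Cfsg.Agent.Lib.Helper5.SuzukiLaw
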