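import Cfsg.Agent.Lib.Helper5.SuzukiPartition
import Mathlib

set_option autoImplicit false
open Cfsg
open scoped Matrix Pointwise commutatorElement
open Cfsg.Agent.S0335
open Cfsg.Agent.Lib.Helper5.FixCount

namespace Cfsg.Agent.Lib.Helper5.Suzuki

section mt
variable {F : Type*} [Field F] [Fintype F] [CharP F 2] (m : ℕ)
set_option linter.unusedSectionVars false
variable (hF : Fintype.card F = 2 ^ (2 * m + 1))
include hF

/-- a non-identity diagonal element fixes only the two standard points -/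
theorem dD_fix_two (hm : 1 ≤ m) {α : Fˣ} (hα : α ≠ 1) (ω : suzukiOvoid F m)
    (hω : dD m hF α • ω = ω) : ω = oinf m ∨ ω = opt m 0 0 := by
  have hzero : dD m hF α • opt m (0 : F) 0 = opt m 0 0 := by
    rw [dD_opt]; simp
  by_contra hcon
  push Not at hcon
  exact dD_ne_one m hF hα (fix_three m hF hm (dD m hF α) (oinf m) (opt m 0 0) ω
    (opt_ne_oinf m 0 0).symm hcon.2.symm hcon.1.symm (dD_oinf m hF α) hzero hω)

theorem dD_pow (α : Fˣ) (n : ℕ) : (dD m hF α) ^ n = dD m hF (α ^ n) := by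
  induction n with
  | zero => rw [pow_zero, pow_zero, dD_one]
  | succ n ih => rw [pow_succ, ih, dD_mul, pow_succ]

/-- non-identity elements of exponent four are unipotent -/
theorem uni_of_pow_four (hm : 1 ≤ m) {g : Sz F m} (hg : g ≠ 1) (h4 : g ^ 4 = 1) :
    ∃ (h : Sz F m) (a b : F), ¬ (a = 0 ∧ b = 0) ∧ h * g * h⁻¹ = tT m hF a b := by
  rcases trichotomy m hF hm g hg with ⟨h, a, b, hab, he⟩ | ⟨h, α, hα, he⟩ | hff
  · exact ⟨h, a, b, hab, he⟩
  · exfalso
    have h1 : (h * g * h⁻¹) ^ 4 = 1 := by rw [conj_pow, h4, mul_one, mul_inv_cancel]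
    rw [he, dD_pow, ← dD_one m hF] at h1
    exact hα (unit_pow_four _ (dD_inj m hF h1))
  · exfalso
    have hT : IsTorus m (Subgroup.centralizer ({g} : Set (Sz F m))) := ⟨g, hff, rfl⟩
    have hgV : g ∈ Subgroup.centralizer ({g} : Set (Sz F m)) := by
      rw [Subgroup.mem_centralizer_singleton_iff]
    have hodd : Nat.card (Subgroup.centralizer ({g} : Set (Sz F m))) % 2 = 1 := by
      obtain ⟨d, hd⟩ := hT.card_dvd m hF hm
      have := N_odd m
      rw [hd, Nat.mul_mod] at this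
      rcases Nat.mod_two_eq_zero_or_one (Nat.card (Subgroup.centralizer ({g} : Set (Sz F m))))
        with h | h
      · rw [h] at this; simp at this
      · exact h
    exact hg (eq_one_of_pow_coprime h4 (pow_card_of_mem m hgV) (cop_four hodd))

/-- a non-identity element of exponent four fixes exactly one point -/
theorem exists_unique_fix (hm : 1 ≤ m) {g : Sz F m} (hg : g ≠ 1) (h4 : g ^ 4 = 1) :
    ∃ ω : suzukiOvoid F m, g • ω = ω ∧ ∀ ω' : suzukiOvoid F m, g • ω' = ω' → ω' = ω := by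
  obtain ⟨h, a, b, hab, he⟩ := uni_of_pow_four m hF hm hg h4
  have hg' : g = h⁻¹ * tT m hF a b * h := by rw [← he]; group
  refine ⟨h⁻¹ • oinf m, ?_, ?_⟩
  · rw [hg', mul_smul, mul_smul, smul_inv_smul, tT_oinf]
  · intro ω' hω'
    rw [eq_inv_smul_iff]
    apply tT_fix_only m hF hab
    rw [← he, mul_smul, mul_smul, inv_smul_smul, hω']

/-- maximal tori: conjugates of the diagonal subgroup and centralisers of fixed-point-free
elements -/
def IsMT (T : Subgroup (Sz F m)) : Prop :=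
  (∃ c : Sz F m, T = conjSub c (dSub m hF)) ∨ IsTorus m T

theorem centralizer_dD (hm : 1 ≤ m) {α : Fˣ} (hα : α ≠ 1) :
    Subgroup.centralizer ({dD m hF α} : Set (Sz F m)) = dSub m hF := by
  ext x
  rw [Subgroup.mem_centralizer_singleton_iff, mem_dSub]
  constructor
  · intro h
    exact cent_dD m hF hm hα x h
  · rintro ⟨β, rfl⟩
    rw [dD_mul, dD_mul, mul_comm]

variable {T : Subgroup (Sz F m)}

theorem IsMT.conj (hT : IsMT m hF T) (c : Sz F m) : IsMT m hF (conjSub c T) := by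
  rcases hT with ⟨d, rfl⟩ | hT
  · exact Or.inl ⟨c * d, conjSub_conjSub c d _⟩
  · exact Or.inr (hT.conj m hF c)

theorem IsMT.isCyclic (hT : IsMT m hF T) (hm : 1 ≤ m) : IsCyclic T := by
  rcases hT with ⟨d, rfl⟩ | hT
  · have := isCyclic_dSub m hF
    exact isCyclic_conjSub _ _
  · exact hT.isCyclic m hF hm

theorem IsMT.card_mem (hT : IsMT m hF T) (hm : 1 ≤ m) :
    Nat.card T = 2 ^ (2 * m + 1) - 1 ∨ Nat.card T = 2 ^ (2 * m + 1) + 2 ^ (m + 1) + 1 ∨
      Nat.card T = 2 ^ (2 * m + 1) - 2 ^ (m + 1) + 1 := by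
  rcases hT with ⟨d, rfl⟩ | hT
  · left
    rw [card_conjSub, card_dSub]
  · right
    obtain ⟨A₁, A₂, h₁, h₂, c₁, c₂, -, -, hconj⟩ := tori_main m hF hm
    rcases hconj _ hT with ⟨c, hc⟩ | ⟨c, hc⟩
    · left
      rw [hc, card_conjSub, c₁]
    · right
      rw [hc, card_conjSub, c₂]

theorem IsMT.card_odd (hT : IsMT m hF T) (hm : 1 ≤ m) : Nat.card T % 2 = 1 := by
  rcases hT.card_mem m hF hm with h | h | h
  · rw [h]; exact k1_odd m
  · rw [h]; exact k2_odd m
  · rw [h]; exact k3_odd m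

theorem IsMT.cent (hT : IsMT m hF T) (hm : 1 ≤ m) {a : Sz F m} (ha : a ∈ T) (ha1 : a ≠ 1) :
    Subgroup.centralizer {a} = T := by
  rcases hT with ⟨d, rfl⟩ | hT
  · rw [mem_conjSub] at ha
    obtain ⟨α, hα⟩ := ha
    have hα1 : α ≠ 1 := by
      rintro rfl
      rw [dD_one] at hα
      apply ha1
      have e : a = d * (d⁻¹ * a * d) * d⁻¹ := by group
      rw [e, hα]
      group
    have e : a = d * dD m hF α * d⁻¹ := by rw [← hα]; group
    rw [e, centralizer_conj, centralizer_dD m hF hm hα1]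
  · exact hT.cent m hF hm ha ha1

theorem isMT_centralizer (hm : 1 ≤ m) {g : Sz F m} (hg : g ^ 4 ≠ 1) :
    IsMT m hF (Subgroup.centralizer ({g} : Set (Sz F m))) := by
  have hg1 : g ≠ 1 := by
    rintro rfl
    exact hg (one_pow 4)
  rcases trichotomy m hF hm g hg1 with ⟨h, a, b, hab, he⟩ | ⟨h, α, hα, he⟩ | hff
  · exfalso
    apply hg
    have hg' : g = h⁻¹ * tT m hF a b * (h⁻¹)⁻¹ := by rw [← he]; group
    rw [hg', conj_pow, tT_pow_four, mul_one, mul_inv_cancel]
  · left
    refine ⟨h⁻¹, ?_⟩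
    have hg' : g = h⁻¹ * dD m hF α * (h⁻¹)⁻¹ := by rw [← he]; group
    rw [hg', centralizer_conj, centralizer_dD m hF hm hα]
  · exact Or.inr ⟨g, hff, rfl⟩

theorem IsTorus.card_normalizer (hA : IsTorus m T) (hm : 1 ≤ m) :
    Nat.card (Subgroup.normalizer (T : Set (Sz F m))) = 4 * Nat.card T := by
  obtain ⟨A₁, A₂, h₁, h₂, -, -, n₁, n₂, hconj⟩ := tori_main m hF hm
  rcases hconj _ hA with ⟨c, rfl⟩ | ⟨c, rfl⟩
  · rw [normalizer_conjSub, card_conjSub, card_conjSub, n₁]
  · rw [normalizer_conjSub, card_conjSub, card_conjSub, n₂]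

/-- the fourth power of an element normalising the diagonal subgroup is diagonal -/
theorem dSub_pow_four (hm : 1 ≤ m) {n : Sz F m}
    (hn : n ∈ Subgroup.normalizer ((dSub m hF : Subgroup (Sz F m)) : Set (Sz F m))) :
    n ^ 4 ∈ dSub m hF := by
  obtain ⟨α, hα⟩ := exists_unit_ne_one m hF hm
  have h1 : n * dD m hF α * n⁻¹ ∈ dSub m hF :=
    (Subgroup.mem_normalizer_iff.1 hn _).1 ⟨α, rfl⟩
  obtain ⟨β, hβ⟩ := h1
  have hβ1 : β ≠ 1 := by
    rintro rfl
    rw [dD_one] at hβ
    apply dD_ne_one m hF hα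
    have e : dD m hF α = n⁻¹ * (n * dD m hF α * n⁻¹) * n := by group
    rw [e, hβ]
    group
  have hfix : ∀ ω : suzukiOvoid F m, dD m hF α • ω = ω → dD m hF β • (n • ω) = n • ω := by
    intro ω hω
    rw [← hβ, mul_smul, mul_smul, inv_smul_smul, hω]
  have hzero : dD m hF α • opt m (0 : F) 0 = opt m 0 0 := by
    rw [dD_opt]; simp
  have hinf' := dD_fix_two m hF hm hβ1 _ (hfix _ (dD_oinf m hF α))
  have h0 := dD_fix_two m hF hm hβ1 _ (hfix _ hzero)
  have hne : n • (oinf m : suzukiOvoid F m) ≠ n • opt m 0 0 := by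
    intro h
    exact (opt_ne_oinf m 0 0).symm (smul_left_cancel n h)
  have hI : (n * n) • (oinf m : suzukiOvoid F m) = oinf m := by
    rcases hinf' with h | h
    · rw [mul_smul, h, h]
    · rcases h0 with h' | h'
      · rw [mul_smul, h, h']
      · exact (hne (h.trans h'.symm)).elim
  have hZ : (n * n) • (opt m (0 : F) 0 : suzukiOvoid F m) = opt m 0 0 := by
    rcases h0 with h | h
    · rcases hinf' with h' | h'
      · exact (hne (h'.trans h.symm)).elim
      · rw [mul_smul, h, h']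
    · rw [mul_smul, h, h]
  have hsq : ∃ γ : Fˣ, n * n = dD m hF γ :=
    two_point' m hF hm _ (congrArg Subtype.val hI) (congrArg Subtype.val hZ)
  obtain ⟨γ, hγ⟩ := hsq
  have e : n ^ 4 = (n * n) * (n * n) := by
    simp only [pow_succ, pow_zero, one_mul, mul_assoc]
  rw [e, hγ, dD_mul]
  exact ⟨_, rfl⟩

theorem IsMT.pow_four_mem (hT : IsMT m hF T) (hm : 1 ≤ m) {n : Sz F m}
    (hn : n ∈ Subgroup.normalizer (T : Set (Sz F m))) : n ^ 4 ∈ T := by
  rcases hT with ⟨d, rfl⟩ | hT
  · rw [normalizer_conjSub, mem_conjSub] at hn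
    rw [mem_conjSub]
    have := dSub_pow_four m hF hm hn
    have e : d⁻¹ * n ^ 4 * d = (d⁻¹ * n * d) ^ 4 := by
      have := conj_pow (a := d⁻¹) (b := n) (i := 4)
      rw [inv_inv] at this
      exact this.symm
    rwa [e]
  · have hcard := hT.card_normalizer m hF hm
    have hidx : (T.subgroupOf (Subgroup.normalizer (T : Set (Sz F m)))).index = 4 := by
      have h1 := Subgroup.card_mul_index (T.subgroupOf (Subgroup.normalizer (T : Set (Sz F m))))
      rw [hcard, Nat.card_congr (Subgroup.subgroupOfEquivOfLe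
        (Subgroup.le_normalizer (H := T))).toEquiv, mul_comm] at h1
      have hpos : 0 < Nat.card T := Nat.card_pos
      exact Nat.eq_of_mul_eq_mul_right hpos h1
    have hnorm : (T.subgroupOf (Subgroup.normalizer (T : Set (Sz F m)))).Normal :=
      Subgroup.normal_in_normalizer
    have := Subgroup.pow_index_mem (T.subgroupOf (Subgroup.normalizer (T : Set (Sz F m))))
      (⟨n, hn⟩ : Subgroup.normalizer (T : Set (Sz F m)))
    rw [hidx, Subgroup.mem_subgroupOf] at this
    exact this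

end mt

end Cfsg.Agent.Lib.Helper5.Suzuki
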