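import Cfsg.Agent.Lib.Helper5.SuzukiSimple
import Mathlib

set_option autoImplicit false
open Cfsg
open scoped Matrix Pointwise commutatorElement
open Cfsg.Agent.S0335

namespace Cfsg.Agent.Lib.Helper5.Suzuki

section abstractmax

/-- an abstract maximality criterion for normalisers of Sylow subgroups in simple doubly
transitive groups -/
theorem sylow_normalizer_max {G Ω : Type*} [Group G] [MulAction G Ω]
    (h2t : MulAction.IsMultiplyPretransitive G Ω 2) (hs : IsSimpleGroup G)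
    (P : Subgroup G) (hP : P ≠ ⊥) (ω : Ω)
    (H1 : ∀ x ∈ P, x • ω = ω)
    (H2 : ∀ ω₁ ω₂ : Ω, ω₁ ≠ ω → ω₂ ≠ ω → ∃ x ∈ P, x • ω₁ = ω₂)
    (H3 : MulAction.stabilizer G ω ≤ Subgroup.normalizer (P : Set G))
    (h3 : ∃ ω₁ ω₂ : Ω, ω₁ ≠ ω ∧ ω₂ ≠ ω ∧ ω₁ ≠ ω₂) :
    IsCoatom (Subgroup.normalizer (P : Set G)) ∧
    ∀ M : Subgroup G, IsCoatom M → P ≤ M → M = Subgroup.normalizer (P : Set G) := by
  rw [MulAction.is_two_pretransitive_iff] at h2t
  obtain ⟨ω₁, ω₂, h1, h2, h12⟩ := h3
  have hNS : Subgroup.normalizer (P : Set G) = MulAction.stabilizer G ω := by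
    apply le_antisymm _ H3
    intro n hn
    rw [MulAction.mem_stabilizer_iff]
    by_contra hne
    have hfix : ∀ x ∈ P, x • (n • ω) = n • ω := by
      intro x hx
      have hn' : n⁻¹ ∈ Subgroup.normalizer (P : Set G) := Subgroup.inv_mem _ hn
      have := (Subgroup.mem_normalizer_iff.1 hn' x).1 hx
      rw [inv_inv] at this
      have h' := H1 _ this
      rw [mul_smul, mul_smul, inv_smul_eq_iff] at h'
      exact h'
    by_cases h : ω₁ = n • ω
    · obtain ⟨x, hx, hx'⟩ := H2 (n • ω) ω₂ hne h2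
      rw [hfix x hx] at hx'
      exact h12 (h.trans hx')
    · obtain ⟨x, hx, hx'⟩ := H2 (n • ω) ω₁ hne h1
      rw [hfix x hx] at hx'
      exact h hx'.symm
  have hcoatom : IsCoatom (MulAction.stabilizer G ω) := by
    constructor
    · intro htop
      obtain ⟨g, hg, _⟩ := h2t (Ne.symm h1) h1
      have : g ∈ MulAction.stabilizer G ω := by rw [htop]; exact Subgroup.mem_top g
      rw [MulAction.mem_stabilizer_iff] at this
      exact h1 (hg.symm.trans this)
    · intro K hK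
      obtain ⟨hle, k, hkK, hk⟩ := SetLike.lt_iff_le_and_exists.1 hK
      rw [MulAction.mem_stabilizer_iff] at hk
      rw [eq_top_iff]
      intro g _
      by_cases hg : g • ω = ω
      · exact hle (MulAction.mem_stabilizer_iff.2 hg)
      · obtain ⟨h, hh1, hh2⟩ := h2t (Ne.symm hk) (Ne.symm hg)
        have hhK : h ∈ K := hle (MulAction.mem_stabilizer_iff.2 hh1)
        have : g⁻¹ * h * k ∈ K := by
          apply hle
          rw [MulAction.mem_stabilizer_iff, mul_smul, mul_smul, hh2, inv_smul_smul]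
        have e : g = h * k * (g⁻¹ * h * k)⁻¹ := by group
        rw [e]
        exact K.mul_mem (K.mul_mem hhK hkK) (K.inv_mem this)
  rw [hNS]
  refine ⟨hcoatom, fun M hM hPM => ?_⟩
  by_cases hle : M ≤ MulAction.stabilizer G ω
  · exact ((hM.le_iff_eq hcoatom.1).1 hle).symm
  · exfalso
    obtain ⟨x, hxM, hx⟩ := SetLike.not_le_iff_exists.1 hle
    rw [MulAction.mem_stabilizer_iff] at hx
    have htr : ∀ ω' : Ω, ∃ k ∈ M, k • ω = ω' := by
      intro ω'
      by_cases h : ω' = ω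
      · exact ⟨1, M.one_mem, by rw [one_smul, h]⟩
      · obtain ⟨y, hy, hy'⟩ := H2 (x • ω) ω' hx h
        exact ⟨y * x, M.mul_mem (hPM hy) hxM, by rw [mul_smul, hy']⟩
    have hconj : ∀ y : G, ∀ u ∈ P, y * u * y⁻¹ ∈ M := by
      intro y u hu
      obtain ⟨k, hkM, hk⟩ := htr (y • ω)
      have hc : k⁻¹ * y ∈ Subgroup.normalizer (P : Set G) := by
        apply H3
        rw [MulAction.mem_stabilizer_iff, mul_smul, ← hk, inv_smul_smul]
      have := (Subgroup.mem_normalizer_iff.1 hc u).1 hu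
      have e : y * u * y⁻¹ = k * (k⁻¹ * y * u * (k⁻¹ * y)⁻¹) * k⁻¹ := by group
      rw [e]
      exact M.mul_mem (M.mul_mem hkM (hPM this)) (M.inv_mem hkM)
    have hncl : Subgroup.normalClosure (P : Set G) ≤ M := by
      rw [Subgroup.normalClosure, Subgroup.closure_le]
      intro z hz
      rw [Group.mem_conjugatesOfSet_iff] at hz
      obtain ⟨u, hu, huz⟩ := hz
      rw [isConj_iff] at huz
      obtain ⟨c, rfl⟩ := huz
      exact hconj c u hu
    have hntop : Subgroup.normalClosure (P : Set G) = ⊤ := by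
      rcases hs.eq_bot_or_eq_top_of_normal _ Subgroup.normalClosure_normal with h | h
      · exfalso
        apply hP
        rw [eq_bot_iff, ← h]
        exact Subgroup.le_normalClosure
      · exact h
    rw [hntop, top_le_iff] at hncl
    exact hM.1 hncl

end abstractmax

section maxsz
variable {F : Type*} [Field F] [Fintype F] [CharP F 2] (m : ℕ)
set_option linter.unusedSectionVars false
variable (hF : Fintype.card F = 2 ^ (2 * m + 1))
include hF

theorem conj_mem_uSub (hm : 1 ≤ m) (c : Sz F m)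
    (hc : c • (pinf : Projectivization F (Fin 4 → F)) = pinf) (u : Sz F m) (hu : u ∈ uSub m hF) :
    c * u * c⁻¹ ∈ uSub m hF := by
  obtain ⟨a, b, α, rfl⟩ := stab_inf m hF hm c hc
  obtain ⟨x, y, rfl⟩ := hu
  have e : tT m hF a b * dD m hF α * tT m hF x y * (tT m hF a b * dD m hF α)⁻¹ =
      tT m hF a b * (dD m hF α * tT m hF x y * (dD m hF α)⁻¹) * (tT m hF a b)⁻¹ := by group
  rw [e, dD_conj, tT_conj]
  exact ⟨_, _, rfl⟩

theorem normalizer_sylow_max (hm : 1 ≤ m) (P : Sylow 2 (Sz F m)) :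
    IsCoatom (Subgroup.normalizer ((P : Subgroup (Sz F m)) : Set (Sz F m))) ∧
    ∀ M : Subgroup (Sz F m), IsCoatom M → (P : Subgroup (Sz F m)) ≤ M →
      M = Subgroup.normalizer ((P : Subgroup (Sz F m)) : Set (Sz F m)) := by
  have h2 := two_eq_zero' (F := F)
  obtain ⟨g, hg⟩ := sylow_conj m hF hm P
  apply sylow_normalizer_max (two_transitive m hF) (isSimple m hF hm) (P : Subgroup (Sz F m)) _
    (g • oinf m)
  · -- H1
    intro x hx
    obtain ⟨a, b, rfl⟩ := (hg x).1 hx
    rw [mul_smul, mul_smul, inv_smul_smul, tT_oinf]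
  · -- H2
    intro ω₁ ω₂ h1 h2'
    have h1' : g⁻¹ • ω₁ ≠ oinf m := fun h => h1 (inv_smul_eq_iff.1 h)
    have h2'' : g⁻¹ • ω₂ ≠ oinf m := fun h => h2' (inv_smul_eq_iff.1 h)
    obtain ⟨x₁, y₁, e1⟩ := (omega_cases m _).resolve_left h1'
    obtain ⟨x₂, y₂, e2⟩ := (omega_cases m _).resolve_left h2''
    refine ⟨g * tT m hF (x₁ + x₂) (y₂ + y₁ + sg m (x₁ + x₂) * x₁) * g⁻¹, (hg _).2 ⟨_, _, rfl⟩, ?_⟩
    rw [mul_smul, mul_smul, e1, tT_opt, inv_smul_eq_iff.1 e2]
    congr 2
    · linear_combination x₁ * h2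
    · linear_combination (y₁ + sg m (x₁ + x₂) * x₁) * h2
  · -- H3
    intro s hs
    rw [MulAction.mem_stabilizer_iff] at hs
    have hc : ∀ c : Sz F m, c • (oinf m : suzukiOvoid F m) = oinf m →
        c • (pinf : Projectivization F (Fin 4 → F)) = pinf := fun c h => congrArg Subtype.val h
    have hc1 : (g⁻¹ * s * g) • (oinf m : suzukiOvoid F m) = oinf m := by
      rw [mul_smul, mul_smul, hs, inv_smul_smul]
    have hc2 : (g⁻¹ * s * g)⁻¹ • (oinf m : suzukiOvoid F m) = oinf m := by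
      rw [inv_smul_eq_iff, hc1]
    rw [Subgroup.mem_normalizer_iff]
    intro h
    constructor
    · intro hh
      obtain ⟨a, b, rfl⟩ := (hg h).1 hh
      obtain ⟨a', b', h'⟩ := conj_mem_uSub m hF hm _ (hc _ hc1) _ ⟨a, b, rfl⟩
      apply (hg _).2
      refine ⟨a', b', ?_⟩
      rw [← h']
      group
    · intro hh
      obtain ⟨a, b, h'⟩ := (hg _).1 hh
      obtain ⟨a', b', h''⟩ := conj_mem_uSub m hF hm _ (hc _ hc2) _ ⟨a, b, rfl⟩
      apply (hg _).2
      refine ⟨a', b', ?_⟩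
      rw [← h'']
      have : tT m hF a b = g⁻¹ * (s * h * s⁻¹) * g := by rw [h']; group
      rw [this]
      group
  · -- h3
    refine ⟨g • opt m 0 0, g • opt m 1 0, ?_, ?_, ?_⟩
    · intro h
      exact opt_ne_oinf m 0 0 (smul_left_cancel g h)
    · intro h
      exact opt_ne_oinf m 1 0 (smul_left_cancel g h)
    · intro h
      exact opt_one_ne m (smul_left_cancel g h).symm
  · -- P ≠ ⊥
    intro h
    have : g * tT m hF 1 0 * g⁻¹ ∈ (P : Subgroup (Sz F m)) := (hg _).2 ⟨1, 0, rfl⟩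
    rw [h, Subgroup.mem_bot] at this
    have h' : tT m hF (1 : F) 0 = 1 := by
      have e : tT m hF (1 : F) 0 = g⁻¹ * (g * tT m hF 1 0 * g⁻¹) * g := by group
      rw [e, this]
      group
    exact one_ne_zero ((tT_eq_one_iff m hF 1 0).1 h').1

end maxsz

end Cfsg.Agent.Lib.Helper5.Suzuki
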