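import Cfsg.Agent.Lib.Helper5.SuzukiMT
import Mathlib

set_option autoImplicit false
open Cfsg
open scoped Matrix Pointwise commutatorElement
open Cfsg.Agent.S0335
open Cfsg.Agent.Lib.Helper5.FixCount

namespace Cfsg.Agent.Lib.Helper5.Suzuki

section oddgen

theorem mem_of_pow_mem_of_coprime {G : Type*} [Group G] (T : Subgroup G) {n : G} {a k : ℕ}
    (hk : n ^ k = 1) (hcop : Nat.Coprime a k) (h : n ^ a ∈ T) : n ∈ T := by
  have h1 : (1 : ℤ) = a * Nat.gcdA a k + k * Nat.gcdB a k := by
    have := Nat.gcd_eq_gcd_ab a k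
    rw [hcop] at this
    exact_mod_cast this
  have h2 : n = (n ^ a) ^ (Nat.gcdA a k) * (n ^ k) ^ (Nat.gcdB a k) := by
    rw [← zpow_natCast, ← zpow_natCast, ← zpow_mul, ← zpow_mul, ← zpow_add, ← h1, zpow_one]
  rw [h2, hk, one_zpow, mul_one]
  exact T.zpow_mem h _

/-- an element conjugating a maximal-torus-like subgroup to itself normalises it -/
theorem mem_normalizer_of_conjSub_eq {G : Type*} [Group G] {T : Subgroup G} {n : G}
    (h : conjSub n T = T) : n ∈ Subgroup.normalizer (T : Set G) := by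
  rw [Subgroup.mem_normalizer_iff]
  intro x
  constructor
  · intro hx
    rw [← h]
    exact conj_mem_conjSub n T hx
  · intro hx
    rw [← h, mem_conjSub] at hx
    have e : n⁻¹ * (n * x * n⁻¹) * n = x := by group
    rwa [e] at hx

end oddgen

section odd
variable {F : Type*} [Field F] [Fintype F] [CharP F 2] (m : ℕ)
set_option linter.unusedSectionVars false
variable (hF : Fintype.card F = 2 ^ (2 * m + 1))
include hF

/-- an element of odd order which is not the identity has non-trivial fourth power -/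
theorem pow_four_ne_of_odd {g : Sz F m} {k : ℕ} (hk : k % 2 = 1) (hgk : g ^ k = 1) (hg : g ≠ 1) :
    g ^ 4 ≠ 1 := fun h => hg (eq_one_of_pow_coprime h hgk (cop_four hk))

/-- an odd-order element normalising a maximal torus lies in it -/
theorem IsMT.mem_of_conj (hm : 1 ≤ m) {T : Subgroup (Sz F m)} (hT : IsMT m hF T) {n a : Sz F m}
    {k : ℕ} (hk : k % 2 = 1) (hnk : n ^ k = 1) (ha : a ∈ T) (ha1 : a ≠ 1)
    (hna : n * a * n⁻¹ ∈ T) : n ∈ T := by
  have hna1 : n * a * n⁻¹ ≠ 1 := by
    intro h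
    apply ha1
    have e : a = n⁻¹ * (n * a * n⁻¹) * n := by group
    rw [e, h]
    group
  have h1 := hT.cent m hF hm ha ha1
  have h2 := hT.cent m hF hm hna hna1
  rw [centralizer_conj, h1] at h2
  have h3 := hT.pow_four_mem m hF hm (mem_normalizer_of_conjSub_eq h2)
  exact mem_of_pow_mem_of_coprime T hnk (cop_four hk) h3

variable (M : Subgroup (Sz F m))

/-- in an odd-order subgroup, centralisers are self-normalising with trivial intersections -/
theorem odd_cent_ti (hm : 1 ≤ m) (hodd : Nat.card M % 2 = 1) {y : M} (hy : y ≠ 1) {n a : M}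
    (ha : a ∈ Subgroup.centralizer ({y} : Set M)) (ha1 : a ≠ 1)
    (hna : n * a * n⁻¹ ∈ Subgroup.centralizer ({y} : Set M)) :
    n ∈ Subgroup.centralizer ({y} : Set M) := by
  have hy1 : (y : Sz F m) ≠ 1 := fun h => hy (Subtype.ext h)
  have hyk : (y : Sz F m) ^ Nat.card M = 1 := pow_card_of_mem m y.2
  have hT := isMT_centralizer m hF hm (pow_four_ne_of_odd m hF hodd hyk hy1)
  rw [Subgroup.mem_centralizer_singleton_iff] at ha hna ⊢
  have ha' : (a : Sz F m) ∈ Subgroup.centralizer ({(y : Sz F m)} : Set (Sz F m)) := by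
    rw [Subgroup.mem_centralizer_singleton_iff]
    exact congrArg Subtype.val ha
  have hna' : (n : Sz F m) * a * (n : Sz F m)⁻¹ ∈
      Subgroup.centralizer ({(y : Sz F m)} : Set (Sz F m)) := by
    rw [Subgroup.mem_centralizer_singleton_iff]
    exact congrArg Subtype.val hna
  have ha1' : (a : Sz F m) ≠ 1 := fun h => ha1 (Subtype.ext h)
  have := hT.mem_of_conj m hF hm hodd (pow_card_of_mem m n.2) ha' ha1' hna'
  rw [Subgroup.mem_centralizer_singleton_iff] at this
  exact Subtype.ext this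

theorem odd_normalizer_cent (hm : 1 ≤ m) (hodd : Nat.card M % 2 = 1) {y : M} (hy : y ≠ 1) :
    Subgroup.normalizer ((Subgroup.centralizer ({y} : Set M) : Subgroup M) : Set M) =
      Subgroup.centralizer ({y} : Set M) := by
  apply le_antisymm
  · intro n hn
    have hyy : y ∈ Subgroup.centralizer ({y} : Set M) := by
      rw [Subgroup.mem_centralizer_singleton_iff]
    exact odd_cent_ti m hF M hm hodd hy hyy hy ((Subgroup.mem_normalizer_iff.1 hn y).1 hyy)
  · exact Subgroup.le_normalizer

/-- the class count for a centraliser in an odd-order subgroup -/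
theorem odd_cls_count (hm : 1 ≤ m) (hodd : Nat.card M % 2 = 1) {y : M} (hy : y ≠ 1) :
    (clsSet (Subgroup.centralizer ({y} : Set M))).ncard *
        Nat.card (Subgroup.centralizer ({y} : Set M)) =
      Nat.card M * (Nat.card (Subgroup.centralizer ({y} : Set M)) - 1) := by
  have h := ti_class_count (Subgroup.centralizer ({y} : Set M)) (by
    rintro n ⟨a, ha, ha1, hna⟩
    exact Subgroup.le_normalizer (odd_cent_ti m hF M hm hodd hy ha ha1 hna))
  rw [odd_normalizer_cent m hF M hm hodd hy, Nat.card_coe_set_eq] at h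
  exact h

theorem odd_card_cent (hm : 1 ≤ m) (hodd : Nat.card M % 2 = 1) {y : M} (hy : y ≠ 1) :
    3 ≤ Nat.card (Subgroup.centralizer ({y} : Set M)) := by
  have h1 : Nat.card (Subgroup.centralizer ({y} : Set M)) ∣ Nat.card M :=
    Subgroup.card_subgroup_dvd_card _
  have h2 : 1 < Nat.card (Subgroup.centralizer ({y} : Set M)) := by
    rw [Finite.one_lt_card_iff_nontrivial]
    refine ⟨⟨⟨y, ?_⟩, 1, ?_⟩⟩
    · rw [Subgroup.mem_centralizer_singleton_iff]
    · intro h
      exact hy (congrArg Subtype.val h)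
  obtain ⟨d, hd⟩ := h1
  have h3 : Nat.card (Subgroup.centralizer ({y} : Set M)) % 2 = 1 := by
    rcases Nat.mod_two_eq_zero_or_one (Nat.card (Subgroup.centralizer ({y} : Set M))) with h | h
    · rw [hd, Nat.mul_mod, h] at hodd
      simp at hodd
    · exact h
  omega

theorem odd_cls_large (hm : 1 ≤ m) (hodd : Nat.card M % 2 = 1) {y : M} (hy : y ≠ 1) :
    2 * Nat.card M ≤ 3 * (clsSet (Subgroup.centralizer ({y} : Set M))).ncard := by
  have h1 := odd_cls_count m hF M hm hodd hy
  have h2 := odd_card_cent m hF M hm hodd hy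
  obtain ⟨a, ha⟩ : ∃ a, Nat.card (Subgroup.centralizer ({y} : Set M)) = a + 3 :=
    ⟨_, (Nat.sub_add_cancel h2).symm⟩
  rw [ha] at h1
  have e : a + 3 - 1 = a + 2 := by omega
  rw [e] at h1
  nlinarith

/-- if a non-identity element is not conjugate into the centraliser of `x`, the classes are
disjoint -/
theorem odd_cls_disjoint (hm : 1 ≤ m) (hodd : Nat.card M % 2 = 1) {x z : M} (hx : x ≠ 1)
    (hz : z ≠ 1) (hzx : z ∉ clsSet (Subgroup.centralizer ({x} : Set M))) :
    Disjoint (clsSet (Subgroup.centralizer ({x} : Set M)))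
      (clsSet (Subgroup.centralizer ({z} : Set M))) := by
  rw [Set.disjoint_left]
  rintro w ⟨hw1, h, hh⟩ ⟨-, k, hk⟩
  apply hzx
  have hx1 : (x : Sz F m) ≠ 1 := fun h => hx (Subtype.ext h)
  have hz1 : (z : Sz F m) ≠ 1 := fun h => hz (Subtype.ext h)
  have hTx := isMT_centralizer m hF hm
    (pow_four_ne_of_odd m hF hodd (pow_card_of_mem m x.2) hx1)
  have hTz := isMT_centralizer m hF hm
    (pow_four_ne_of_odd m hF hodd (pow_card_of_mem m z.2) hz1)
  rw [Subgroup.mem_centralizer_singleton_iff] at hh hk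
  have hh' : (h : Sz F m)⁻¹ * w * h ∈ Subgroup.centralizer ({(x : Sz F m)} : Set (Sz F m)) := by
    rw [Subgroup.mem_centralizer_singleton_iff]
    exact congrArg Subtype.val hh
  have hk' : (k : Sz F m)⁻¹ * w * k ∈ Subgroup.centralizer ({(z : Sz F m)} : Set (Sz F m)) := by
    rw [Subgroup.mem_centralizer_singleton_iff]
    exact congrArg Subtype.val hk
  have hw1' : (w : Sz F m) ≠ 1 := fun h => hw1 (Subtype.ext h)
  have hh1 : (h : Sz F m)⁻¹ * w * h ≠ 1 := by
    intro h'
    apply hw1'
    have e : (w : Sz F m) = h * ((h : Sz F m)⁻¹ * w * h) * (h : Sz F m)⁻¹ := by group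
    rw [e, h']
    group
  have hk1 : (k : Sz F m)⁻¹ * w * k ≠ 1 := by
    intro h'
    apply hw1'
    have e : (w : Sz F m) = k * ((k : Sz F m)⁻¹ * w * k) * (k : Sz F m)⁻¹ := by group
    rw [e, h']
    group
  have e1 := hTx.cent m hF hm hh' hh1
  have e2 := hTz.cent m hF hm hk' hk1
  have c1 : Subgroup.centralizer ({(w : Sz F m)} : Set (Sz F m)) =
      conjSub (h : Sz F m) (Subgroup.centralizer ({(x : Sz F m)} : Set (Sz F m))) := by
    rw [← e1, ← centralizer_conj]
    congr 2
    group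
  have c2 : Subgroup.centralizer ({(w : Sz F m)} : Set (Sz F m)) =
      conjSub (k : Sz F m) (Subgroup.centralizer ({(z : Sz F m)} : Set (Sz F m))) := by
    rw [← e2, ← centralizer_conj]
    congr 2
    group
  have hzz : (z : Sz F m) ∈ Subgroup.centralizer ({(z : Sz F m)} : Set (Sz F m)) := by
    rw [Subgroup.mem_centralizer_singleton_iff]
  have h3 := conj_mem_conjSub (k : Sz F m) _ hzz
  rw [← c2, c1, mem_conjSub, Subgroup.mem_centralizer_singleton_iff] at h3
  refine ⟨hz, k⁻¹ * h, ?_⟩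
  rw [Subgroup.mem_centralizer_singleton_iff]
  apply Subtype.ext
  simp only [Subgroup.coe_mul, Subgroup.coe_inv]
  have e3 : ((k : Sz F m)⁻¹ * h)⁻¹ * z * ((k : Sz F m)⁻¹ * h) =
      (h : Sz F m)⁻¹ * (k * z * (k : Sz F m)⁻¹) * h := by group
  rw [e3]
  exact h3

/-- subgroups of odd order are contained in the centraliser of each non-identity element -/
theorem odd_le_centralizer (hm : 1 ≤ m) (hodd : Nat.card M % 2 = 1) {x : Sz F m} (hx : x ∈ M)
    (hx1 : x ≠ 1) : M ≤ Subgroup.centralizer {x} := by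
  have hx1' : (⟨x, hx⟩ : M) ≠ 1 := fun h => hx1 (congrArg Subtype.val h)
  have hsub : ∀ y : M, y ≠ 1 → clsSet (Subgroup.centralizer ({y} : Set M)) ⊆ {w : M | w ≠ 1} :=
    fun y _ w hw => hw.1
  have hN1 : ({w : M | w ≠ 1} : Set M).ncard = Nat.card M - 1 := by
    have : ({w : M | w ≠ 1} : Set M) = ({1} : Set M)ᶜ := by
      ext w; simp
    rw [this, Set.ncard_compl, Set.ncard_singleton]
  have hNpos : 0 < Nat.card M := Nat.card_pos
  -- every non-identity element is conjugate into the centraliser of `x`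
  have hall : ∀ z : M, z ≠ 1 → z ∈ clsSet (Subgroup.centralizer ({(⟨x, hx⟩ : M)} : Set M)) := by
    intro z hz
    by_contra hzx
    have hd := odd_cls_disjoint m hF M hm hodd hx1' hz hzx
    have h1 := odd_cls_large m hF M hm hodd hx1'
    have h2 := odd_cls_large m hF M hm hodd hz
    have h3 : (clsSet (Subgroup.centralizer ({(⟨x, hx⟩ : M)} : Set M)) ∪
        clsSet (Subgroup.centralizer ({z} : Set M))).ncard ≤ Nat.card M - 1 := by
      rw [← hN1]
      exact Set.ncard_le_ncard (Set.union_subset (hsub _ hx1') (hsub _ hz)) (Set.toFinite _)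
    rw [Set.ncard_union_eq hd (Set.toFinite _) (Set.toFinite _)] at h3
    omega
  have hcls : clsSet (Subgroup.centralizer ({(⟨x, hx⟩ : M)} : Set M)) = {w : M | w ≠ 1} :=
    Set.Subset.antisymm (hsub _ hx1') (fun z hz => hall z hz)
  have hcount := odd_cls_count m hF M hm hodd hx1'
  rw [hcls, hN1] at hcount
  have h3 := odd_card_cent m hF M hm hodd hx1'
  have hcard : Nat.card (Subgroup.centralizer ({(⟨x, hx⟩ : M)} : Set M)) = Nat.card M := by
    obtain ⟨a, ha⟩ : ∃ a, Nat.card (Subgroup.centralizer ({(⟨x, hx⟩ : M)} : Set M)) = a + 1 :=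
      ⟨_, (Nat.sub_add_cancel (by omega)).symm⟩
    obtain ⟨n, hn⟩ : ∃ n, Nat.card M = n + 1 := ⟨_, (Nat.sub_add_cancel hNpos).symm⟩
    rw [ha, hn] at hcount ⊢
    simp only [Nat.add_sub_cancel] at hcount
    nlinarith
  have htop := Subgroup.eq_top_of_card_eq _ hcard
  intro z hz
  have : (⟨z, hz⟩ : M) ∈ Subgroup.centralizer ({(⟨x, hx⟩ : M)} : Set M) := by
    rw [htop]; trivial
  rw [Subgroup.mem_centralizer_singleton_iff] at this ⊢
  exact congrArg Subtype.val this

end odd

end Cfsg.Agent.Lib.Helper5.Suzuki
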