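import Cfsg.Agent.Lib.Helper5.SuzukiCover
import Mathlib

set_option autoImplicit false
open Cfsg
open scoped Matrix Pointwise commutatorElement
open Cfsg.Agent.S0335

namespace Cfsg.Agent.Lib.Helper5.Suzuki

section primegraph
variable {F : Type*} [Field F] [Fintype F] [CharP F 2] (m : ℕ)
set_option linter.unusedSectionVars false

/-- the action on `k`-tuples of vectors, as automorphisms of the multiplicative copy -/
def matAct (k : ℕ) : Sz F m →* MulAut (Multiplicative (Fin k → Fin 4 → F)) where
  toFun g :=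
    { toFun := fun M => Multiplicative.ofAdd (fun i => matHom m g *ᵥ (Multiplicative.toAdd M i))
      invFun := fun M => Multiplicative.ofAdd (fun i => matHom m g⁻¹ *ᵥ (Multiplicative.toAdd M i))
      left_inv := by
        intro M
        change Multiplicative.ofAdd (fun i => matHom m g⁻¹ *ᵥ (matHom m g *ᵥ (Multiplicative.toAdd M i))) = M
        simp only [Matrix.mulVec_mulVec, ← map_mul, inv_mul_cancel, map_one, Matrix.one_mulVec]
        rfl
      right_inv := by
        intro M
        change Multiplicative.ofAdd (fun i => matHom m g *ᵥ (matHom m g⁻¹ *ᵥ (Multiplicative.toAdd M i))) = M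
        simp only [Matrix.mulVec_mulVec, ← map_mul, mul_inv_cancel, map_one, Matrix.one_mulVec]
        rfl
      map_mul' := by
        intro M N
        change Multiplicative.ofAdd (fun i => matHom m g *ᵥ (Multiplicative.toAdd M i + Multiplicative.toAdd N i)) = _
        simp only [Matrix.mulVec_add]
        rfl }
  map_one' := by
    apply MulEquiv.ext
    intro M
    change Multiplicative.ofAdd (fun i => matHom m 1 *ᵥ (Multiplicative.toAdd M i)) = M
    simp only [map_one, Matrix.one_mulVec]
    rfl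
  map_mul' := by
    intro g h
    apply MulEquiv.ext
    intro M
    change Multiplicative.ofAdd (fun i => matHom m (g * h) *ᵥ (Multiplicative.toAdd M i)) =
      Multiplicative.ofAdd (fun i => matHom m g *ᵥ (matHom m h *ᵥ (Multiplicative.toAdd M i)))
    simp only [map_mul, Matrix.mulVec_mulVec]

theorem matAct_apply (k : ℕ) (g : Sz F m) (M : Multiplicative (Fin k → Fin 4 → F)) :
    matAct m k g M = Multiplicative.ofAdd (fun i => matHom m g *ᵥ (Multiplicative.toAdd M i)) := rfl

variable (hF : Fintype.card F = 2 ^ (2 * m + 1))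
include hF

/-- an element with a non-zero fixed vector has a fixed point, a `2`-power order, or ... : the
diagonal case -/
theorem Dm_fixed (α : Fˣ) (v : Fin 4 → F) (hv : v ≠ 0) (h : Dm m α *ᵥ v = v) : α = 1 := by
  have hq : (α : F) ^ (2 ^ (2 * m + 1)) = α := by
    rw [← hF]; exact FiniteField.pow_card _
  have hα0 : (α : F) ≠ 0 := α.ne_zero
  have hinv : ((α⁻¹ : Fˣ) : F) = (α : F)⁻¹ := Units.val_inv_eq_inv_val α
  -- α^(2^m) = 1 implies α = 1
  have key1 : (α : F) ^ (2 ^ m) = 1 → (α : F) = 1 := by
    intro h1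
    have h2 : ((α : F) ^ (2 ^ m)) ^ (2 ^ (m + 1)) = 1 := by rw [h1, one_pow]
    rw [← pow_mul, ← pow_add] at h2
    have : m + (m + 1) = 2 * m + 1 := by ring
    rw [this, hq] at h2
    exact h2
  -- α^(2^m+1) = 1 implies α = 1
  have key2 : (α : F) ^ (2 ^ m + 1) = 1 → (α : F) = 1 := by
    intro h1
    have h3 : (α : F) ^ (2 ^ m) = (α : F)⁻¹ := by
      rw [pow_succ] at h1
      exact eq_inv_of_mul_eq_one_left h1
    have h4 : ((α : F) ^ (2 ^ m)) ^ (2 ^ m) = α := by
      rw [h3, inv_pow, h3, inv_inv]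
    have h5 : (((α : F) ^ (2 ^ m)) ^ (2 ^ m)) ^ 2 = (α : F) ^ 2 := by rw [h4]
    rw [← pow_mul, ← pow_mul] at h5
    have : 2 ^ m * (2 ^ m * 2) = 2 ^ (2 * m + 1) := by ring
    rw [this, hq] at h5
    have h6 : (α : F) * ((α : F) - 1) = 0 := by linear_combination -h5
    rcases mul_eq_zero.1 h6 with h7 | h7
    · exact absurd h7 hα0
    · exact sub_eq_zero.1 h7
  have hcoord : ∃ i, v i ≠ 0 := by
    by_contra hcon
    push Not at hcon
    exact hv (funext hcon)
  obtain ⟨i, hi⟩ := hcoord
  have hi' := congrFun h i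
  unfold Dm at hi'
  rw [Matrix.mulVec_diagonal] at hi'
  have hone : (![(α : F) ^ (2 ^ m + 1), (α : F) ^ (2 ^ m), ((α⁻¹ : Fˣ) : F) ^ (2 ^ m),
      ((α⁻¹ : Fˣ) : F) ^ (2 ^ m + 1)] : Fin 4 → F) i = 1 := by
    have : ((![(α : F) ^ (2 ^ m + 1), (α : F) ^ (2 ^ m), ((α⁻¹ : Fˣ) : F) ^ (2 ^ m),
      ((α⁻¹ : Fˣ) : F) ^ (2 ^ m + 1)] : Fin 4 → F) i - 1) * v i = 0 := by linear_combination hi'
    rcases mul_eq_zero.1 this with h' | h'
    · exact sub_eq_zero.1 h'
    · exact absurd h' hi
  apply Units.ext
  rw [Units.val_one]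
  fin_cases i
  · exact key2 hone
  · exact key1 hone
  · simp only [hinv] at hone
    apply key1
    have : ((α : F)⁻¹) ^ (2 ^ m) = 1 := hone
    rw [inv_pow, inv_eq_one] at this
    exact this
  · simp only [hinv] at hone
    apply key2
    have : ((α : F)⁻¹) ^ (2 ^ m + 1) = 1 := hone
    rw [inv_pow, inv_eq_one] at this
    exact this

/-- an element of odd prime order has no non-zero fixed vector -/
theorem no_fixed_vector (hm : 1 ≤ m) (g : Sz F m) (p : ℕ) (hp : p.Prime) (hp2 : p ≠ 2)
    (hg : orderOf g = p) (v : Fin 4 → F) (hv : matHom m g *ᵥ v = v) : v = 0 := by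
  by_contra hv0
  have hg1 : g ≠ 1 := by
    rintro rfl
    rw [orderOf_one] at hg
    exact hp.one_lt.ne hg
  rcases trichotomy m hF hm g hg1 with ⟨h, a, b, hab, he⟩ | ⟨h, α, hα, he⟩ | hfree
  · -- order divides 4
    have h4 : (h * g * h⁻¹) ^ 4 = 1 := by
      rw [he]
      have : (tT m hF a b) ^ 4 = (tT m hF a b * tT m hF a b) * (tT m hF a b * tT m hF a b) := by
        rw [← pow_two, ← pow_two, ← pow_mul]
      rw [this, tT_sq, tT_sq, sg_zero, zero_mul, tT_zero]
    rw [conj_pow] at h4
    have h5 : g ^ 4 = 1 := by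
      have h6 := mul_inv_eq_one.1 h4
      exact mul_left_cancel (h6.trans (mul_one h).symm)
    have h7 := orderOf_dvd_of_pow_eq_one h5
    rw [hg] at h7
    have h8 : p ∣ 2 ^ 2 := h7
    exact hp2 ((Nat.prime_dvd_prime_iff_eq hp Nat.prime_two).1 (hp.dvd_of_dvd_pow h8))
  · -- diagonal
    apply hα
    apply Dm_fixed m hF α (matHom m h *ᵥ v)
    · intro h0
      apply hv0
      have : matHom m h⁻¹ *ᵥ (matHom m h *ᵥ v) = 0 := by rw [h0, Matrix.mulVec_zero]
      rwa [Matrix.mulVec_mulVec, ← map_mul, inv_mul_cancel, map_one, Matrix.one_mulVec] at this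
    · have h1 : Dm m α = matHom m (h * g * h⁻¹) := by rw [he]; rfl
      rw [h1, Matrix.mulVec_mulVec, ← map_mul]
      have h2 : h * g * h⁻¹ * h = h * g := by group
      rw [h2, map_mul, ← Matrix.mulVec_mulVec, hv]
  · -- fixed-point-free
    obtain ⟨p', z, hp', hpd, hzp, hz1, hzmem⟩ := fixfree_prime m hF hm g hfree
    haveI : Fact p'.Prime := ⟨hp'⟩
    have hq2 : 2 ≤ 2 ^ (2 * m + 1) := by
      calc 2 = 2 ^ 1 := by norm_num
        _ ≤ 2 ^ (2 * m + 1) := Nat.pow_le_pow_right (by norm_num) (by omega)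
    obtain ⟨-, h0, h1, h2, h3⟩ := Torus.arith_of_dvd hq2
      (Even.pow_of_ne_zero even_two (by omega)) hp' hpd
    rw [← hF] at h0 h1 h2 h3
    have hzm : (matHom m z) ^ p' = 1 := by rw [← map_pow, hzp, map_one]
    have hzm1 : matHom m z ≠ 1 := by
      intro h
      apply hz1
      apply matHom_injective m
      rw [h, map_one]
    have hirr := Torus.irreducible_of_pow_prime h0 h1 h2 h3 (matHom m z) hzm hzm1
    -- v is fixed by z
    have hzv : matHom m z *ᵥ v = v := by
      obtain ⟨j, rfl⟩ := Subgroup.mem_zpowers_iff.1 hzmem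
      have hnat : ∀ n : ℕ, matHom m (g ^ n) *ᵥ v = v := by
        intro n
        induction n with
        | zero => rw [pow_zero, map_one, Matrix.one_mulVec]
        | succ n ih => rw [pow_succ, map_mul, ← Matrix.mulVec_mulVec, hv, ih]
      have hmod : g ^ j = g ^ (j % (orderOf g : ℤ)).toNat := by
        rw [← zpow_natCast, Int.toNat_of_nonneg (Int.emod_nonneg _ (by
          have := orderOf_pos g; omega)), zpow_mod_orderOf]
      rw [hmod]
      exact hnat _
    rcases hirr (Torus.fixSub (matHom m z)) (by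
      intro w hw
      rw [Torus.mem_fixSub] at hw ⊢
      rw [hw, hw]) with hbot | htop
    · have : v ∈ Torus.fixSub (matHom m z) := (Torus.mem_fixSub _ _).2 hzv
      rw [hbot, Submodule.mem_bot] at this
      exact hv0 this
    · apply hzm1
      have : ∀ w, (matHom m z - 1) *ᵥ w = 0 := by
        intro w
        have hw : w ∈ Torus.fixSub (matHom m z) := by rw [htop]; exact Submodule.mem_top
        rw [Torus.mem_fixSub] at hw
        rw [Matrix.sub_mulVec, hw, Matrix.one_mulVec, sub_self]
      exact sub_eq_zero.1 (Torus.eq_zero_of_mulVec _ this)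

omit hF in
theorem mulN_self (k : ℕ) (n : Multiplicative (Fin k → Fin 4 → F)) : n * n = 1 := by
  have h2 := two_eq_zero' (F := F)
  change Multiplicative.ofAdd (Multiplicative.toAdd n + Multiplicative.toAdd n) = Multiplicative.ofAdd 0
  congr 1
  funext i j
  change Multiplicative.toAdd n i j + Multiplicative.toAdd n i j = 0
  linear_combination (Multiplicative.toAdd n i j) * h2

omit hF in
/-- a power of an element of the semidirect product lying in the kernel is a fixed vector -/
theorem semidirect_pow (k : ℕ) (y : Multiplicative (Fin k → Fin 4 → F) ⋊[matAct m k] Sz F m)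
    (j : ℕ) (hj : y.right ^ j = 1) :
    ∃ n' : Multiplicative (Fin k → Fin 4 → F), y ^ j = SemidirectProduct.inl n' ∧
      matAct m k y.right n' = n' := by
  have hker : y ^ j ∈ (SemidirectProduct.rightHom :
      Multiplicative (Fin k → Fin 4 → F) ⋊[matAct m k] Sz F m →* Sz F m).ker := by
    rw [MonoidHom.mem_ker, map_pow]
    exact hj
  rw [← SemidirectProduct.range_inl_eq_ker_rightHom] at hker
  obtain ⟨n', hn'⟩ := hker
  refine ⟨n', hn'.symm, ?_⟩
  have hcomm : y * y ^ j = y ^ j * y := by rw [← pow_succ, ← pow_succ']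
  rw [← hn'] at hcomm
  have h1 := congrArg SemidirectProduct.left hcomm
  rw [SemidirectProduct.mul_left, SemidirectProduct.mul_left, SemidirectProduct.left_inl,
    SemidirectProduct.right_inl, map_one, MulAut.one_apply, mul_comm n'] at h1
  exact mul_left_cancel h1

theorem semidirect_fixed (hm : 1 ≤ m) (k : ℕ) (g : Sz F m) (p : ℕ) (hp : p.Prime) (hp2 : p ≠ 2)
    (hg : orderOf g = p) (n' : Multiplicative (Fin k → Fin 4 → F))
    (h : matAct m k g n' = n') : n' = 1 := by
  rw [matAct_apply] at h
  have h1 : ∀ i, matHom m g *ᵥ (Multiplicative.toAdd n' i) = Multiplicative.toAdd n' i := by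
    intro i
    have := congrArg (fun M : Multiplicative (Fin k → Fin 4 → F) => Multiplicative.toAdd M i) h
    exact this
  change Multiplicative.ofAdd (Multiplicative.toAdd n') = Multiplicative.ofAdd 0
  congr 1
  funext i
  exact no_fixed_vector m hF hm g p hp hp2 hg _ (h1 i)

/-- element orders `r s` in the semidirect product come from the Suzuki group -/
theorem semidirect_order (hm : 1 ≤ m) (k : ℕ) (r s : ℕ) (hr : r.Prime) (hs : s.Prime)
    (hrs : r ≠ s) (y : Multiplicative (Fin k → Fin 4 → F) ⋊[matAct m k] Sz F m)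
    (hy : orderOf y = r * s) : ∃ x : Sz F m, orderOf x = r * s := by
  have hdvd : orderOf y.right ∣ r * s := by
    have := orderOf_map_dvd (SemidirectProduct.rightHom :
      Multiplicative (Fin k → Fin 4 → F) ⋊[matAct m k] Sz F m →* Sz F m) y
    rw [hy] at this
    exact this
  -- a prime power bound
  have hprime : ∀ p p' : ℕ, p.Prime → p'.Prime → p ≠ p' → orderOf y = p * p' →
      orderOf y.right = p → False := by
    intro p p' hp hp' hpp' hy' hg
    obtain ⟨n', hn', hfix⟩ := semidirect_pow m k y p (by rw [← hg]; exact pow_orderOf_eq_one _)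
    by_cases hp2 : p = 2
    · have h4 : y ^ 4 = 1 := by
        have : y ^ 4 = (y ^ p) * (y ^ p) := by rw [hp2, ← pow_add]
        rw [this, hn', ← map_mul, mulN_self, map_one]
      have h5 := orderOf_dvd_of_pow_eq_one h4
      rw [hy'] at h5
      have h6 : p' ∣ 2 ^ 2 := (Dvd.intro_left p rfl).trans h5
      have h7 := (Nat.prime_dvd_prime_iff_eq hp' Nat.prime_two).1 (hp'.dvd_of_dvd_pow h6)
      exact hpp' (hp2.trans h7.symm)
    · have h1 := semidirect_fixed m hF hm k y.right p hp hp2 hg n' hfix
      rw [h1, map_one] at hn'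
      have h5 := orderOf_dvd_of_pow_eq_one hn'
      rw [hy'] at h5
      have h6 : p * p' ≤ p := Nat.le_of_dvd hp.pos h5
      have h7 : p * 2 ≤ p * p' := Nat.mul_le_mul_left p hp'.two_le
      have := hp.pos
      omega
  obtain ⟨a, b, ha, hb, hab⟩ := (Nat.dvd_mul).1 hdvd
  rcases (Nat.dvd_prime hr).1 ha with ha' | ha' <;> rcases (Nat.dvd_prime hs).1 hb with hb' | hb' <;>
    rw [ha', hb'] at hab
  · -- order 1
    exfalso
    rw [one_mul] at hab
    obtain ⟨n', hn', -⟩ := semidirect_pow m k y 1 (by rw [pow_one]; exact orderOf_eq_one_iff.1 hab.symm)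
    rw [pow_one] at hn'
    have h2 : y ^ 2 = 1 := by rw [pow_two, hn', ← map_mul, mulN_self, map_one]
    have h5 := orderOf_dvd_of_pow_eq_one h2
    rw [hy] at h5
    have h6 := Nat.le_of_dvd (by norm_num) h5
    have := Nat.mul_le_mul hr.two_le hs.two_le
    omega
  · exfalso
    rw [one_mul] at hab
    exact hprime s r hs hr hrs.symm (by rw [hy, mul_comm]) hab.symm
  · exfalso
    rw [mul_one] at hab
    exact hprime r s hr hs hrs hy hab.symm
  · exact ⟨y.right, hab.symm⟩

theorem semidirect_card (k : ℕ) :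
    Nat.card (Multiplicative (Fin k → Fin 4 → F) ⋊[matAct m k] Sz F m) =
      ((2 ^ (2 * m + 1)) ^ 4) ^ k * Nat.card (Sz F m) := by
  rw [Nat.card_congr SemidirectProduct.equivProd, Nat.card_prod]
  congr 1
  rw [Nat.card_congr Multiplicative.toAdd, Nat.card_eq_fintype_card, Fintype.card_fun, Fintype.card_fun,
    Fintype.card_fin, Fintype.card_fin, hF]

end primegraph

end Cfsg.Agent.Lib.Helper5.Suzuki

namespace Cfsg.Agent.Lib.Helper5.Suzuki

/-- a copy of `Fin n` without algebraic instances -/
def FinCopy (n : ℕ) : Type := Fin n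

instance (n : ℕ) : Fintype (FinCopy n) := inferInstanceAs (Fintype (Fin n))

theorem card_finCopy (n : ℕ) : Fintype.card (FinCopy n) = n := Fintype.card_fin n

/-- every finite group has a copy in the lowest universe -/
theorem exists_small_copy (H : Type*) [Group H] [Finite H] :
    ∃ (H' : Type) (_ : Group H') (_ : Fintype H'), Fintype.card H' = Nat.card H ∧
      Nonempty (H' ≃* H) := by
  let eqv : FinCopy (Nat.card H) ≃ H := (Finite.equivFin H).symm
  letI : Group (FinCopy (Nat.card H)) := eqv.group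
  refine ⟨FinCopy (Nat.card H), inferInstance, inferInstance, card_finCopy _, ⟨?_⟩⟩
  exact
    { eqv with
      map_mul' := by
        intro a b
        change eqv (eqv.symm (eqv a * eqv b)) = eqv a * eqv b
        rw [Equiv.apply_symm_apply] }

end Cfsg.Agent.Lib.Helper5.Suzuki
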