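import Cfsg.Agent.Lib.Helper5.SuzukiSylow
import Mathlib

set_option autoImplicit false
open Cfsg
open scoped Matrix Pointwise commutatorElement
open Cfsg.Agent.S0335

namespace Cfsg.Agent.Lib.Helper5.Suzuki

section real
variable {F : Type*} [Field F] [Fintype F] [CharP F 2] (m : ℕ)
set_option linter.unusedSectionVars false
variable (hF : Fintype.card F = 2 ^ (2 * m + 1))
include hF

theorem tT_conj (a' b' x y : F) :
    tT m hF a' b' * tT m hF x y * (tT m hF a' b')⁻¹ =
      tT m hF x (y + sg m a' * x + sg m x * a') := by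
  have h2 := two_eq_zero' (F := F)
  rw [tT_inv, tT_mul, tT_mul]
  congr 1
  · linear_combination a' * h2
  · rw [sg_add]
    linear_combination (b' + sg m a' * a') * h2

theorem dD_conj (α : Fˣ) (a b : F) :
    dD m hF α * tT m hF a b * (dD m hF α)⁻¹ = tT m hF (α * a) (sg m (α : F) * α * b) := by
  rw [dD_mul_tT, mul_assoc, mul_inv_cancel, mul_one]

theorem tT_sq (a b : F) : tT m hF a b * tT m hF a b = tT m hF 0 (sg m a * a) := by
  have h2 := two_eq_zero' (F := F)
  rw [tT_mul]
  congr 1
  · linear_combination a * h2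
  · linear_combination b * h2

theorem tT_eq_one_iff (a b : F) : tT m hF a b = 1 ↔ a = 0 ∧ b = 0 := by
  rw [← tT_zero m hF]
  constructor
  · intro h
    exact tT_inj m hF h
  · rintro ⟨rfl, rfl⟩
    rfl

theorem orderOf_tT_eq_two_iff (a b : F) (hab : ¬ (a = 0 ∧ b = 0)) :
    orderOf (tT m hF a b) = 2 ↔ a = 0 := by
  constructor
  · intro h
    have := pow_orderOf_eq_one (tT m hF a b)
    rw [h, pow_two, tT_sq, tT_eq_one_iff] at this
    rcases mul_eq_zero.1 this.2 with h' | h'
    · exact sg_eq_zero m a h'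
    · exact h'
  · rintro rfl
    have : Fact (Nat.Prime 2) := ⟨Nat.prime_two⟩
    apply orderOf_eq_prime
    · rw [pow_two, tT_sq, sg_zero, zero_mul, tT_zero]
    · rw [Ne, tT_eq_one_iff]
      exact hab

/-- a nontrivial translation with `a ≠ 0` fixes only the point at infinity -/
theorem tT_fixed (a b : F) (ha : a ≠ 0) (p : Projectivization F (Fin 4 → F))
    (hp : p ∈ suzukiOvoid F m) (h : tT m hF a b • p = p) : p = pinf := by
  rcases (mem_ovoid_iff m p).1 hp with rfl | ⟨x, y, rfl⟩
  · rfl
  · exfalso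
    rw [tT_pt] at h
    have := (pt_inj m h).1
    apply ha
    linear_combination this

theorem isConj_tT_inv_iff (hm : 1 ≤ m) (a b : F) :
    IsConj (tT m hF a b) (tT m hF a b)⁻¹ ↔ a = 0 := by
  have h2 := two_eq_zero' (F := F)
  constructor
  · intro h
    by_contra ha
    rw [isConj_iff] at h
    obtain ⟨c, hc⟩ := h
    have hfix : (tT m hF a b)⁻¹ • (c • (pinf : Projectivization F (Fin 4 → F))) = c • pinf := by
      rw [← hc, ← mul_smul, inv_mul_cancel_right, mul_smul, tT_pinf]
    rw [tT_inv] at hfix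
    have hcinf := tT_fixed m hF a _ ha _ (smul_mem_ovoid m c (pinf_mem m)) hfix
    obtain ⟨a', b', α, rfl⟩ := stab_inf m hF hm c hcinf
    rw [mul_inv_rev, ← mul_assoc, mul_assoc (tT m hF a' b'), mul_assoc (tT m hF a' b'),
      dD_conj, tT_conj, tT_inv] at hc
    obtain ⟨h1, h3⟩ := tT_inj m hF hc
    have hα : (α : F) = 1 := by
      have : ((α : F) - 1) * a = 0 := by linear_combination h1
      rcases mul_eq_zero.1 this with h' | h'
      · exact sub_eq_zero.1 h'
      · exact absurd h' ha
    rw [hα, sg_one, one_mul, one_mul, one_mul] at h3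
    have hs : sg m a ≠ 0 := fun h' => ha (sg_eq_zero m a h')
    apply sg_add_ne_one m hF (a' / a)
    rw [sg_div]
    field_simp
    linear_combination h3
  · rintro rfl
    rw [tT_inv, sg_zero, zero_mul, add_zero]

end real

end Cfsg.Agent.Lib.Helper5.Suzuki
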