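import Cfsg.Agent.Lib.Helper5.SuzukiSubgroups
import Mathlib

set_option autoImplicit false
open Cfsg
open scoped Matrix Pointwise commutatorElement
open Cfsg.Agent.S0335
open Cfsg.Agent.Lib.Helper5.FixCount

namespace Cfsg.Agent.Lib.Helper5.Suzuki

section gen
variable {G : Type*} [Group G]

/-- a subgroup with a solvable normal subgroup modulo which it is commutative is solvable -/
theorem solvable_of_comm_mod (K H : Subgroup G) (hKH : K ≤ H)
    (hn : H ≤ Subgroup.normalizer (K : Set G)) (hK : Group.IsSolvable K)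
    (hc : ∀ x ∈ H, ∀ y ∈ H, x * y * x⁻¹ * y⁻¹ ∈ K) : Group.IsSolvable H := by
  have hnorm : (K.subgroupOf H).Normal := (Subgroup.normal_subgroupOf_iff_le_normalizer hKH).2 hn
  have h1 : Group.IsSolvable (K.subgroupOf H) :=
    Group.isSolvable_of_isSolvable_injective (f := (Subgroup.subgroupOfEquivOfLe hKH).toMonoidHom)
      (Subgroup.subgroupOfEquivOfLe hKH).injective
  have h2 : Group.IsSolvable (H ⧸ K.subgroupOf H) := by
    apply Group.isSolvable_of_comm
    intro a b
    induction a using QuotientGroup.induction_on with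
    | H a =>
      induction b using QuotientGroup.induction_on with
      | H b =>
        rw [← QuotientGroup.mk_mul, ← QuotientGroup.mk_mul, QuotientGroup.eq]
        rw [Subgroup.mem_subgroupOf]
        have := hc b⁻¹ (H.inv_mem b.2) a⁻¹ (H.inv_mem a.2)
        simp only [inv_inv] at this
        have e : (((a * b)⁻¹ * (b * a) : H) : G) = (b : G)⁻¹ * (a : G)⁻¹ * b * a := by
          simp only [Subgroup.coe_mul, Subgroup.coe_inv, mul_inv_rev, mul_assoc]
        rw [e]
        exact this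
  exact Group.isSolvable_of_ker_le_range (K.subgroupOf H).subtype (QuotientGroup.mk' (K.subgroupOf H))
    (by simp)

theorem comm_of_card_two_or_four {Q : Type*} [Group Q]
    (h : Nat.card Q = 2 ∨ Nat.card Q = 4) (a b : Q) : a * b = b * a := by
  have : Fact (Nat.Prime 2) := ⟨Nat.prime_two⟩
  rcases h with h | h
  · have := isCyclic_of_prime_card (α := Q) (p := 2) h
    exact (IsCyclic.isMulCommutative (α := Q)).is_comm.comm a b
  · have h' : Nat.card Q = 2 ^ 2 := by rw [h]; norm_num
    exact (IsPGroup.isMulCommutative_of_card_eq_prime_sq h').is_comm.comm a b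

/-- commutators of a subgroup `N` lie in a normal subgroup of index `2` or `4` -/
theorem comm_mem_of_index {T N : Subgroup G} (hTN : T ≤ N)
    (hn : N ≤ Subgroup.normalizer (T : Set G)) [Finite G] {w : ℕ} (hw : w = 2 ∨ w = 4)
    (hcard : Nat.card N = w * Nat.card T) {x y : G} (hx : x ∈ N) (hy : y ∈ N) :
    x * y * x⁻¹ * y⁻¹ ∈ T := by
  have hnorm : (T.subgroupOf N).Normal := (Subgroup.normal_subgroupOf_iff_le_normalizer hTN).2 hn
  have hidx : Nat.card (N ⧸ T.subgroupOf N) = w := by
    have h1 := Subgroup.card_mul_index (T.subgroupOf N)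
    rw [hcard, Nat.card_congr (Subgroup.subgroupOfEquivOfLe hTN).toEquiv, mul_comm] at h1
    have hpos : 0 < Nat.card T := Nat.card_pos
    exact Nat.eq_of_mul_eq_mul_right hpos h1
  have hcomm := comm_of_card_two_or_four (Q := N ⧸ T.subgroupOf N) (by rw [hidx]; exact hw)
  have h1 : ((⟨x, hx⟩ * ⟨y, hy⟩ * ⟨x, hx⟩⁻¹ * ⟨y, hy⟩⁻¹ : N) : N ⧸ T.subgroupOf N) = 1 := by
    rw [QuotientGroup.mk_mul, QuotientGroup.mk_mul, QuotientGroup.mk_mul, QuotientGroup.mk_inv,
      QuotientGroup.mk_inv, hcomm (↑(⟨x, hx⟩ : N)) (↑(⟨y, hy⟩ : N))]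
    group
  rw [QuotientGroup.eq_one_iff, Subgroup.mem_subgroupOf] at h1
  exact h1

end gen

section stab
variable {F : Type*} [Field F] [Fintype F] [CharP F 2] (m : ℕ)
set_option linter.unusedSectionVars false
variable (hF : Fintype.card F = 2 ^ (2 * m + 1))
include hF

/-- commutators in the stabiliser of the point at infinity are unipotent -/
theorem stab_inf_comm (hm : 1 ≤ m) {g h : Sz F m}
    (hg : g • (oinf m : suzukiOvoid F m) = oinf m) (hh : h • (oinf m : suzukiOvoid F m) = oinf m) :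
    g * h * g⁻¹ * h⁻¹ ∈ uSub m hF := by
  obtain ⟨a, b, α, rfl⟩ := stab_inf m hF hm g (congrArg Subtype.val hg)
  obtain ⟨a', b', α', rfl⟩ := stab_inf m hF hm h (congrArg Subtype.val hh)
  have hc : dD m hF α' * (dD m hF α)⁻¹ = (dD m hF α)⁻¹ * dD m hF α' := by
    rw [dD_inv, dD_mul, dD_mul, mul_comm]
  have e : tT m hF a b * dD m hF α * (tT m hF a' b' * dD m hF α') * (tT m hF a b * dD m hF α)⁻¹ *
      (tT m hF a' b' * dD m hF α')⁻¹ =
      tT m hF a b * (dD m hF α * tT m hF a' b' * (dD m hF α)⁻¹) *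
        (dD m hF α' * (tT m hF a b)⁻¹ * (dD m hF α')⁻¹) * (tT m hF a' b')⁻¹ := by
    simp only [mul_inv_rev, mul_assoc]
    rw [← mul_assoc (dD m hF α') (dD m hF α)⁻¹, hc, mul_assoc]
  rw [e, dD_conj, tT_inv, tT_inv, dD_conj, tT_mul, tT_mul, tT_mul]
  exact ⟨_, _, rfl⟩

/-- commutators in a point stabiliser lie in the corresponding Sylow `2`-subgroup -/
theorem stab_comm (hm : 1 ≤ m) (c : Sz F m) {g h : Sz F m}
    (hg : g • (c • (oinf m : suzukiOvoid F m)) = c • oinf m)
    (hh : h • (c • (oinf m : suzukiOvoid F m)) = c • oinf m) :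
    g * h * g⁻¹ * h⁻¹ ∈ conjSub c (uSub m hF) := by
  rw [mem_conjSub]
  have hg' : (c⁻¹ * g * c) • (oinf m : suzukiOvoid F m) = oinf m := by
    rw [mul_smul, mul_smul, hg, inv_smul_smul]
  have hh' : (c⁻¹ * h * c) • (oinf m : suzukiOvoid F m) = oinf m := by
    rw [mul_smul, mul_smul, hh, inv_smul_smul]
  have := stab_inf_comm m hF hm hg' hh'
  have e : c⁻¹ * g * c * (c⁻¹ * h * c) * (c⁻¹ * g * c)⁻¹ * (c⁻¹ * h * c)⁻¹ =
      c⁻¹ * (g * h * g⁻¹ * h⁻¹) * c := by group
  rwa [e] at this

theorem solvable_uSub : Group.IsSolvable (uSub m hF) := by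
  have : Fact (Nat.Prime 2) := ⟨Nat.prime_two⟩
  have hp : IsPGroup 2 (uSub m hF) := by
    apply IsPGroup.of_card (n := 2 * (2 * m + 1))
    rw [card_uSub, ← pow_mul, mul_comm]
  have := hp.isNilpotent
  infer_instance

/-- a subgroup fixing a point is solvable -/
theorem solvable_of_fix (hm : 1 ≤ m) (M : Subgroup (Sz F m)) (ω : suzukiOvoid F m)
    (hfix : ∀ x ∈ M, x • ω = ω) : Group.IsSolvable M := by
  obtain ⟨g, hg⟩ := exists_to_inf m hF ω
  have hω : ω = g⁻¹ • oinf m := by rw [← hg, inv_smul_smul]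
  have hle : M ≤ MulAction.stabilizer (Sz F m) ω := fun x hx => hfix x hx
  have hs : Group.IsSolvable (MulAction.stabilizer (Sz F m) ω) := by
    apply solvable_of_comm_mod (conjSub g⁻¹ (uSub m hF))
    · intro x hx
      rw [mem_conjSub, inv_inv] at hx
      obtain ⟨a, b, hab⟩ := hx
      rw [MulAction.mem_stabilizer_iff, hω]
      have e : x = g⁻¹ * tT m hF a b * g := by rw [← hab]; group
      rw [e, mul_smul, mul_smul, smul_inv_smul, tT_oinf]
    · intro x hx
      rw [MulAction.mem_stabilizer_iff, hω] at hx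
      rw [normalizer_conjSub, mem_conjSub, inv_inv]
      apply mem_normalizer_of_conjSub_eq
      apply conjSub_uSub_of_fix m hF hm
      rw [mul_smul, mul_smul, hx, smul_inv_smul]
    · have := solvable_uSub m hF
      exact Group.isSolvable_of_isSolvable_injective
        (f := (conjSubEquiv g⁻¹ (uSub m hF)).toMonoidHom) (conjSubEquiv g⁻¹ (uSub m hF)).injective
    · intro x hx y hy
      rw [MulAction.mem_stabilizer_iff, hω] at hx hy
      exact stab_comm m hF hm g⁻¹ hx hy
  exact Group.isSolvable_of_isSolvable_injective (f := Subgroup.inclusion hle)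
    (Subgroup.inclusion_injective hle)

theorem wW_not_mem_dSub : wW m hF ∉ dSub m hF := by
  rintro ⟨α, hα⟩
  have h1 := wW_oinf m hF
  rw [hα, dD_oinf] at h1
  exact opt_ne_oinf m 0 0 h1.symm

theorem wW_mem_normalizer_dSub :
    wW m hF ∈ Subgroup.normalizer ((dSub m hF : Subgroup (Sz F m)) : Set (Sz F m)) := by
  apply mem_normalizer_of_conjSub_eq
  apply Subgroup.eq_of_le_of_card_ge
  · intro x hx
    rw [mem_conjSub] at hx
    obtain ⟨α, hα⟩ := hx
    have e : x = wW m hF * dD m hF α * (wW m hF)⁻¹ := by rw [← hα]; group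
    rw [e, wW_mul_dD, mul_assoc, wW_inv, wW_mul_wW, mul_one]
    exact ⟨_, rfl⟩
  · rw [card_conjSub]

/-- an element normalising the diagonal subgroup is diagonal or becomes diagonal after
multiplication with the Weyl element -/
theorem normalizer_dSub_cases (hm : 1 ≤ m) {n : Sz F m}
    (hn : n ∈ Subgroup.normalizer ((dSub m hF : Subgroup (Sz F m)) : Set (Sz F m))) :
    n ∈ dSub m hF ∨ n * wW m hF ∈ dSub m hF := by
  obtain ⟨α, hα⟩ := exists_unit_ne_one m hF hm
  have h1 : n * dD m hF α * n⁻¹ ∈ dSub m hF :=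
    (Subgroup.mem_normalizer_iff.1 hn _).1 ⟨α, rfl⟩
  obtain ⟨β, hβ⟩ := h1
  have hβ1 : β ≠ 1 := by
    rintro rfl
    rw [dD_one] at hβ
    apply dD_ne_one m hF hα
    have e : dD m hF α = n⁻¹ * (n * dD m hF α * n⁻¹) * n := by group
    rw [e, hβ]
    group
  have hfix : ∀ ω : suzukiOvoid F m, dD m hF α • ω = ω → dD m hF β • (n • ω) = n • ω := by
    intro ω hω
    rw [← hβ, mul_smul, mul_smul, inv_smul_smul, hω]
  have hzero : dD m hF α • opt m (0 : F) 0 = opt m 0 0 := by
    rw [dD_opt]; simp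
  have hinf' := dD_fix_two m hF hm hβ1 _ (hfix _ (dD_oinf m hF α))
  have h0 := dD_fix_two m hF hm hβ1 _ (hfix _ hzero)
  have hne : n • (oinf m : suzukiOvoid F m) ≠ n • opt m 0 0 := by
    intro h
    exact (opt_ne_oinf m 0 0).symm (smul_left_cancel n h)
  rcases hinf' with h | h
  · rcases h0 with h' | h'
    · exact (hne (h.trans h'.symm)).elim
    · left
      exact two_point' m hF hm n (congrArg Subtype.val h) (congrArg Subtype.val h')
  · rcases h0 with h' | h'
    · right
      apply two_point' m hF hm (n * wW m hF)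
      · have : (n * wW m hF) • (oinf m : suzukiOvoid F m) = oinf m := by
          rw [mul_smul, wW_oinf, h']
        exact congrArg Subtype.val this
      · have : (n * wW m hF) • (opt m 0 0 : suzukiOvoid F m) = opt m 0 0 := by
          rw [mul_smul, wW_opt_zero, h]
        exact congrArg Subtype.val this
    · exact (hne (h.trans h'.symm)).elim

theorem card_normalizer_dSub (hm : 1 ≤ m) :
    Nat.card (Subgroup.normalizer ((dSub m hF : Subgroup (Sz F m)) : Set (Sz F m))) =
      2 * Nat.card (dSub m hF) := by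
  have hidx : ((dSub m hF).subgroupOf
      (Subgroup.normalizer ((dSub m hF : Subgroup (Sz F m)) : Set (Sz F m)))).index = 2 := by
    rw [Subgroup.index_eq_two_iff_exists_notMem_and]
    refine ⟨⟨wW m hF, wW_mem_normalizer_dSub m hF⟩, ?_, ?_⟩
    · rw [Subgroup.mem_subgroupOf]
      exact wW_not_mem_dSub m hF
    · rintro ⟨b, hb⟩
      rw [Subgroup.mem_subgroupOf, Subgroup.mem_subgroupOf]
      rcases normalizer_dSub_cases m hF hm hb with h | h
      · exact Or.inr h
      · exact Or.inl h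
  have h1 := Subgroup.card_mul_index ((dSub m hF).subgroupOf
      (Subgroup.normalizer ((dSub m hF : Subgroup (Sz F m)) : Set (Sz F m))))
  rw [hidx, Nat.card_congr (Subgroup.subgroupOfEquivOfLe
    (Subgroup.le_normalizer (H := dSub m hF))).toEquiv] at h1
  rw [← h1, mul_comm]

variable {T : Subgroup (Sz F m)}

theorem IsMT.card_normalizer' (hT : IsMT m hF T) (hm : 1 ≤ m) :
    ∃ w : ℕ, (w = 2 ∨ w = 4) ∧
      Nat.card (Subgroup.normalizer (T : Set (Sz F m))) = w * Nat.card T := by
  rcases hT with ⟨d, rfl⟩ | hT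
  · refine ⟨2, Or.inl rfl, ?_⟩
    rw [normalizer_conjSub, card_conjSub, card_conjSub, card_normalizer_dSub m hF hm]
  · exact ⟨4, Or.inr rfl, hT.card_normalizer m hF hm⟩

theorem IsMT.comm_mem (hT : IsMT m hF T) (hm : 1 ≤ m) {x y : Sz F m}
    (hx : x ∈ Subgroup.normalizer (T : Set (Sz F m)))
    (hy : y ∈ Subgroup.normalizer (T : Set (Sz F m))) : x * y * x⁻¹ * y⁻¹ ∈ T := by
  obtain ⟨w, hw, hcard⟩ := hT.card_normalizer' m hF hm
  exact comm_mem_of_index Subgroup.le_normalizer le_rfl hw hcard hx hy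

theorem IsMT.solvable_normalizer (hT : IsMT m hF T) (hm : 1 ≤ m) :
    Group.IsSolvable (Subgroup.normalizer (T : Set (Sz F m))) := by
  apply solvable_of_comm_mod T _ Subgroup.le_normalizer le_rfl
  · have := hT.isCyclic m hF hm
    have := IsCyclic.commGroup (α := T)
    infer_instance
  · intro x hx y hy
    exact hT.comm_mem m hF hm hx hy

theorem IsMT.eq_of_mem {T' : Subgroup (Sz F m)} (hT : IsMT m hF T) (hT' : IsMT m hF T')
    (hm : 1 ≤ m) {a : Sz F m} (ha : a ∈ T) (ha' : a ∈ T') (ha1 : a ≠ 1) : T = T' := by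
  rw [← hT.cent m hF hm ha ha1, ← hT'.cent m hF hm ha' ha1]

/-- a non-identity element of a maximal torus has non-trivial fourth power -/
theorem IsMT.pow_four_ne (hT : IsMT m hF T) (hm : 1 ≤ m) {a : Sz F m} (ha : a ∈ T)
    (ha1 : a ≠ 1) : a ^ 4 ≠ 1 :=
  pow_four_ne_of_odd m hF (hT.card_odd m hF hm) (pow_card_of_mem m ha) ha1

/-- Suzuki's subgroup theorem, in the form: fixed point, maximal torus normaliser or
subfield subgroup -/
theorem subgroup_structure' (hm : 1 ≤ m) (M : Subgroup (Sz F m)) (hMtop : M ≠ ⊤) :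
    (∃ ω : suzukiOvoid F m, ∀ x ∈ M, x • ω = ω) ∨
    (∃ T : Subgroup (Sz F m), IsMT m hF T ∧ M ≤ Subgroup.normalizer (T : Set (Sz F m))) ∨
    (∃ (K : Type) (_ : Field K) (_ : Fintype K) (k : ℕ), 1 ≤ k ∧ k < m ∧
      Fintype.card K = 2 ^ (2 * k + 1) ∧ 2 * k + 1 ∣ 2 * m + 1 ∧
      ∃ S : Subgroup (Sz F m), Nonempty (S ≃* Sz K k) ∧ M ≤ S) := by
  classical
  have : Fact (Nat.Prime 2) := ⟨Nat.prime_two⟩
  rcases Nat.mod_two_eq_zero_or_one (Nat.card M) with heven | hodd
  · -- even order
    have h2 : 2 ∣ Nat.card M := Nat.dvd_of_mod_eq_zero heven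
    obtain ⟨t, ht⟩ := exists_prime_orderOf_dvd_card' 2 h2
    have ht1 : (t : Sz F m) ≠ 1 := by
      intro h
      have : t = 1 := Subtype.ext h
      rw [this, orderOf_one] at ht
      omega
    have htsq : (t : Sz F m) * t = 1 := by
      have : t * t = 1 := by rw [← pow_two, ← ht, pow_orderOf_eq_one]
      exact congrArg Subtype.val this
    obtain ⟨ω₀, hω₀, -⟩ := exists_unique_fix m hF hm ht1 (pow_four_of_sq m htsq)
    by_cases hall : ∀ t' ∈ M, t' ≠ 1 → t' * t' = 1 → t' • ω₀ = ω₀
    · -- a global fixed point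
      left
      refine ⟨ω₀, ?_⟩
      intro x hx
      have h1 : x * t * x⁻¹ ≠ 1 := by
        intro h
        apply ht1
        have e : (t : Sz F m) = x⁻¹ * (x * t * x⁻¹) * x := by group
        rw [e, h]
        group
      have h2 : x * t * x⁻¹ * (x * t * x⁻¹) = 1 := by
        have e : x * t * x⁻¹ * (x * t * x⁻¹) = x * ((t : Sz F m) * t) * x⁻¹ := by group
        rw [e, htsq]
        group
      have h3 := hall _ (M.mul_mem (M.mul_mem hx t.2) (M.inv_mem hx)) h1 h2
      exact invol_fix_unique m hF hm h1 (pow_four_of_sq m h2) (conj_fix m hF hω₀) h3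
    · push Not at hall
      obtain ⟨t', ht'M, ht'1, ht'sq, hmove⟩ := hall
      obtain ⟨ω', hω', -⟩ := exists_unique_fix m hF hm ht'1 (pow_four_of_sq m ht'sq)
      have hne : ω₀ ≠ ω' := by
        rintro rfl
        exact hmove hω'
      obtain ⟨c, hc⟩ := exists_normalize m hF hm M t.2 ht1 htsq ht'M ht'1 ht'sq hω₀ hω' hne
      by_cases hΓ : ∀ κ ∈ gam m hF (conjSub c M), κ = 1
      · right; left
        obtain ⟨T, hT, hle⟩ := hc.of_trivial_gam m hF hm hΓ
        have h1 := le_of_conjSub_le hle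
        rw [← normalizer_conjSub] at h1
        exact ⟨_, hT.conj m hF c⁻¹, h1⟩
      · push Not at hΓ
        obtain ⟨v, hv, hN3, hΓ'⟩ := exists_normalize3 m hF hm hc hΓ
        right; right
        rw [conjSub_conjSub] at hv hN3 hΓ'
        have htop : conjSub (v * c) M ≠ ⊤ := fun h => hMtop (eq_top_of_conjSub_eq_top h)
        obtain ⟨K, iK, iK', k, hk1, hkm, hKcard, hdiv, S, ⟨e⟩, hle⟩ :=
          subfield_case m hF hv hm hN3 hΓ' htop
        refine ⟨K, iK, iK', k, hk1, hkm, hKcard, hdiv, conjSub (v * c)⁻¹ S, ⟨?_⟩,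
          le_of_conjSub_le hle⟩
        exact (conjSubEquiv (v * c)⁻¹ S).trans e
  · -- odd order
    by_cases hbot : M = ⊥
    · left
      refine ⟨oinf m, ?_⟩
      intro x hx
      rw [hbot, Subgroup.mem_bot] at hx
      rw [hx, one_smul]
    · right; left
      obtain ⟨x, hx1⟩ := (Subgroup.ne_bot_iff_exists_ne_one.1 hbot)
      have hx1' : (x : Sz F m) ≠ 1 := fun h => hx1 (Subtype.ext h)
      have hle := odd_le_centralizer m hF M hm hodd x.2 hx1'
      have hT := isMT_centralizer m hF hm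
        (pow_four_ne_of_odd m hF hodd (pow_card_of_mem m x.2) hx1')
      exact ⟨_, hT, hle.trans Subgroup.le_normalizer⟩

/-- when `2m+1` is prime, proper subgroups fix a point or normalise a maximal torus -/
theorem proper_cases (hm : 1 ≤ m) (hp : (2 * m + 1).Prime) (M : Subgroup (Sz F m))
    (hMtop : M ≠ ⊤) :
    (∃ ω : suzukiOvoid F m, ∀ x ∈ M, x • ω = ω) ∨
    (∃ T : Subgroup (Sz F m), IsMT m hF T ∧ M ≤ Subgroup.normalizer (T : Set (Sz F m))) := by
  rcases subgroup_structure' m hF hm M hMtop with h | h | ⟨K, _, _, k, hk1, hkm, -, hdiv, -⟩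
  · exact Or.inl h
  · exact Or.inr h
  · exfalso
    rcases (Nat.dvd_prime hp).1 hdiv with h | h <;> omega

theorem not_solvable_top (hm : 1 ≤ m) : ¬ Group.IsSolvable (Sz F m) := by
  intro hs
  have := isSimple m hF hm
  have hcomm := (IsSimpleGroup.comm_iff_isSolvable (G := Sz F m)).2 hs
  obtain ⟨α, hα⟩ := exists_unit_ne_one m hF hm
  have h1 := hcomm (tT m hF 1 0) (dD m hF α)
  rw [dD_mul_tT] at h1
  obtain ⟨e1, -, -⟩ := decomp_unique m hF h1
  apply hα
  apply Units.ext
  rw [Units.val_one, e1, mul_one]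

theorem sol_iff (hm : 1 ≤ m) (hp : (2 * m + 1).Prime) (M : Subgroup (Sz F m)) :
    Group.IsSolvable M ↔ M ≠ ⊤ := by
  constructor
  · rintro hs rfl
    apply not_solvable_top m hF hm
    exact Group.isSolvable_of_isSolvable_injective
      (f := (Subgroup.topEquiv (G := Sz F m)).symm.toMonoidHom)
      (Subgroup.topEquiv (G := Sz F m)).symm.injective
  · intro hM
    rcases proper_cases m hF hm hp M hM with ⟨ω, hω⟩ | ⟨T, hT, hle⟩
    · exact solvable_of_fix m hF hm M ω hω
    · have := hT.solvable_normalizer m hF hm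
      exact Group.isSolvable_of_isSolvable_injective (f := Subgroup.inclusion hle)
        (Subgroup.inclusion_injective hle)

/-- the characterisation of the solubilizer -/
theorem sol_char (hm : 1 ≤ m) (hp : (2 * m + 1).Prime) (x y : Sz F m) :
    Group.IsSolvable (Subgroup.closure ({x, y} : Set (Sz F m))) ↔
      (∃ ω : suzukiOvoid F m, x • ω = ω ∧ y • ω = ω) ∨
      (∃ T : Subgroup (Sz F m), IsMT m hF T ∧ x ∈ Subgroup.normalizer (T : Set (Sz F m)) ∧
        y ∈ Subgroup.normalizer (T : Set (Sz F m))) := by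
  have hxc : x ∈ Subgroup.closure ({x, y} : Set (Sz F m)) :=
    Subgroup.subset_closure (Set.mem_insert _ _)
  have hyc : y ∈ Subgroup.closure ({x, y} : Set (Sz F m)) :=
    Subgroup.subset_closure (Set.mem_insert_of_mem _ rfl)
  constructor
  · intro hs
    rcases proper_cases m hF hm hp _ ((sol_iff m hF hm hp _).1 hs) with ⟨ω, hω⟩ | ⟨T, hT, hle⟩
    · exact Or.inl ⟨ω, hω x hxc, hω y hyc⟩
    · exact Or.inr ⟨T, hT, hle hxc, hle hyc⟩
  · rintro (⟨ω, hxω, hyω⟩ | ⟨T, hT, hxT, hyT⟩)
    · apply solvable_of_fix m hF hm _ ω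
      have hle : Subgroup.closure ({x, y} : Set (Sz F m)) ≤ MulAction.stabilizer (Sz F m) ω := by
        rw [Subgroup.closure_le]
        rintro z (rfl | rfl)
        · exact hxω
        · exact hyω
      exact fun z hz => hle hz
    · have hle : Subgroup.closure ({x, y} : Set (Sz F m)) ≤
          Subgroup.normalizer (T : Set (Sz F m)) := by
        rw [Subgroup.closure_le]
        rintro z (rfl | rfl)
        · exact hxT
        · exact hyT
      have := hT.solvable_normalizer m hF hm
      exact Group.isSolvable_of_isSolvable_injective (f := Subgroup.inclusion hle)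
        (Subgroup.inclusion_injective hle)

end stab

end Cfsg.Agent.Lib.Helper5.Suzuki
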