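import Cfsg.Agent.Lib.Helper5.SuzukiSolA
import Mathlib

set_option autoImplicit false
open Cfsg
open scoped Matrix Pointwise commutatorElement
open Cfsg.Agent.S0335
open Cfsg.Agent.Lib.Helper5.FixCount

namespace Cfsg.Agent.Lib.Helper5.Suzuki

section gen
variable {G H : Type*} [Group G] [Group H]

/-- solvability of a two-generator subgroup is invariant under isomorphisms -/
theorem sol_equiv_iff (e : G ≃* H) (x y : G) :
    Group.IsSolvable (Subgroup.closure ({e x, e y} : Set H)) ↔
      Group.IsSolvable (Subgroup.closure ({x, y} : Set G)) := by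
  have himg : Subgroup.closure ({e x, e y} : Set H) =
      (Subgroup.closure ({x, y} : Set G)).map e.toMonoidHom := by
    rw [MonoidHom.map_closure]
    congr 1
    ext z
    simp only [Set.mem_insert_iff, Set.mem_singleton_iff, Set.mem_image, MulEquiv.coe_toMonoidHom]
    constructor
    · rintro (rfl | rfl)
      · exact ⟨x, Or.inl rfl, rfl⟩
      · exact ⟨y, Or.inr rfl, rfl⟩
    · rintro ⟨w, rfl | rfl, rfl⟩
      · exact Or.inl rfl
      · exact Or.inr rfl
  rw [himg]
  let ψ := (Subgroup.closure ({x, y} : Set G)).equivMapOfInjective e.toMonoidHom e.injective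
  constructor
  · intro h
    exact Group.isSolvable_of_isSolvable_injective (f := ψ.toMonoidHom) ψ.injective
  · intro h
    exact Group.isSolvable_of_isSolvable_injective (f := ψ.symm.toMonoidHom) ψ.symm.injective

/-- the solubilizer sizes are invariant under isomorphisms -/
theorem sol_card_equiv (e : G ≃* H) (x : G) :
    Nat.card {y : H // Group.IsSolvable (Subgroup.closure ({e x, y} : Set H))} =
      Nat.card {y : G // Group.IsSolvable (Subgroup.closure ({x, y} : Set G))} := by
  symm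
  apply Nat.card_congr
  refine Equiv.subtypeEquiv e.toEquiv ?_
  intro y
  exact (sol_equiv_iff e x y).symm

end gen

section odd
variable {F : Type*} [Field F] [Fintype F] [CharP F 2] (m : ℕ)
set_option linter.unusedSectionVars false
variable (hF : Fintype.card F = 2 ^ (2 * m + 1))
include hF

theorem dD_pow_card (α : Fˣ) : (dD m hF α) ^ (2 ^ (2 * m + 1) - 1) = 1 := by
  rw [dD_pow]
  have h1 : Nat.card Fˣ = 2 ^ (2 * m + 1) - 1 := by
    rw [Nat.card_units, Nat.card_eq_fintype_card, hF]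
  have h2 : α ^ (2 ^ (2 * m + 1) - 1) = 1 := by
    rw [← h1]
    exact pow_card_eq_one'
  rw [h2, dD_one]

/-- the order of a torus containing an element of given exponent -/
theorem IsTorus.card_eq_of_pow (hm : 1 ≤ m) {A : Subgroup (Sz F m)} (hA : IsTorus m A)
    {x : Sz F m} (hx : x ∈ A) (hx1 : x ≠ 1) {k : ℕ}
    (hk : k = 2 ^ (2 * m + 1) + 2 ^ (m + 1) + 1 ∨ k = 2 ^ (2 * m + 1) - 2 ^ (m + 1) + 1)
    (hxk : x ^ k = 1) : Nat.card A = k := by
  have hcard : Nat.card A = 2 ^ (2 * m + 1) + 2 ^ (m + 1) + 1 ∨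
      Nat.card A = 2 ^ (2 * m + 1) - 2 ^ (m + 1) + 1 := by
    obtain ⟨A₁, A₂, h₁, h₂, c₁, c₂, -, -, hconj⟩ := tori_main m hF hm
    rcases hconj _ hA with ⟨c, hc⟩ | ⟨c, hc⟩
    · left
      rw [hc, card_conjSub, c₁]
    · right
      rw [hc, card_conjSub, c₂]
  by_contra hne
  apply hx1
  apply eq_one_of_pow_coprime (pow_card_of_mem m hx) hxk
  apply types_coprime m _ _ hne
  · rcases hcard with h | h
    · exact Or.inr (Or.inr (Or.inl h))
    · exact Or.inr (Or.inr (Or.inr h))
  · rcases hk with h | h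
    · exact Or.inr (Or.inr (Or.inl h))
    · exact Or.inr (Or.inr (Or.inr h))

theorem isFF_of_pow (hm : 1 ≤ m) {x : Sz F m} (hx1 : x ≠ 1) {k : ℕ}
    (hk : k = 2 ^ (2 * m + 1) + 2 ^ (m + 1) + 1 ∨ k = 2 ^ (2 * m + 1) - 2 ^ (m + 1) + 1)
    (hxk : x ^ k = 1) : IsFF m x := by
  have hk' : k = 4 ∨ k = 2 ^ (2 * m + 1) - 1 ∨ k = 2 ^ (2 * m + 1) + 2 ^ (m + 1) + 1 ∨
      k = 2 ^ (2 * m + 1) - 2 ^ (m + 1) + 1 := by
    rcases hk with h | h
    · exact Or.inr (Or.inr (Or.inl h))
    · exact Or.inr (Or.inr (Or.inr h))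
  have hkodd : k % 2 = 1 := by
    rcases hk with h | h
    · rw [h]; exact k2_odd m
    · rw [h]; exact k3_odd m
  rcases trichotomy m hF hm x hx1 with ⟨h, a, b, hab, he⟩ | ⟨h, α, hα, he⟩ | hff
  · exfalso
    apply hx1
    have hx' : x = h⁻¹ * tT m hF a b * (h⁻¹)⁻¹ := by rw [← he]; group
    have h4 : x ^ 4 = 1 := by
      rw [hx', conj_pow, tT_pow_four, mul_one, mul_inv_cancel]
    exact eq_one_of_pow_coprime h4 hxk (cop_four hkodd)
  · exfalso
    apply hx1
    have hx' : x = h⁻¹ * dD m hF α * (h⁻¹)⁻¹ := by rw [← he]; group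
    have h4 : x ^ (2 ^ (2 * m + 1) - 1) = 1 := by
      rw [hx', conj_pow, dD_pow_card, mul_one, mul_inv_cancel]
    apply eq_one_of_pow_coprime h4 hxk
    apply types_coprime m (Or.inr (Or.inl rfl)) hk'
    have h1 := k1_odd m
    have hr := r_le_q m
    have hr2 : 2 ^ 2 ≤ 2 ^ (m + 1) := Nat.pow_le_pow_right (by norm_num) (by omega)
    have hq : 2 ^ 3 ≤ 2 ^ (2 * m + 1) := Nat.pow_le_pow_right (by norm_num) (by omega)
    rcases hk with h | h <;> omega
  · exact hff

theorem exists_conj_dD_of_pow (hm : 1 ≤ m) {x : Sz F m} (hx1 : x ≠ 1)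
    (hxk : x ^ (2 ^ (2 * m + 1) - 1) = 1) :
    ∃ (h : Sz F m) (α : Fˣ), α ≠ 1 ∧ h * x * h⁻¹ = dD m hF α := by
  rcases trichotomy m hF hm x hx1 with ⟨h, a, b, hab, he⟩ | ⟨h, α, hα, he⟩ | hff
  · exfalso
    apply hx1
    have hx' : x = h⁻¹ * tT m hF a b * (h⁻¹)⁻¹ := by rw [← he]; group
    have h4 : x ^ 4 = 1 := by
      rw [hx', conj_pow, tT_pow_four, mul_one, mul_inv_cancel]
    exact eq_one_of_pow_coprime h4 hxk (cop_four (k1_odd m))
  · exact ⟨h, α, hα, he⟩
  · exfalso
    apply hx1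
    have hT : IsTorus m (Subgroup.centralizer ({x} : Set (Sz F m))) := ⟨x, hff, rfl⟩
    have hxT : x ∈ Subgroup.centralizer ({x} : Set (Sz F m)) := by
      rw [Subgroup.mem_centralizer_singleton_iff]
    have hcard := (IsMT.card_mem m hF (Or.inr hT) hm)
    apply eq_one_of_pow_coprime (pow_card_of_mem m hxT) hxk
    have h1 := k1_odd m
    have h2 := k2_odd m
    have h3 := k3_odd m
    rcases hcard with h | h | h
    · exfalso
      have hd := hT.card_dvd m hF hm
      rw [h] at hd
      have hc := cop_k1_N m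
      have := Nat.eq_one_of_dvd_coprimes hc dvd_rfl hd
      have hq : 8 ≤ 2 ^ (2 * m + 1) := by
        have : 2 ^ 3 ≤ 2 ^ (2 * m + 1) := Nat.pow_le_pow_right (by norm_num) (by omega)
        omega
      omega
    · rw [h]; exact (cop_k1_k2 m).symm
    · rw [h]; exact (cop_k1_k3 m).symm

/-- for an element of odd order, the maximal tori whose normaliser contains it -/
theorem odd_mt_iff (hm : 1 ≤ m) {x : Sz F m} {k : ℕ} (hk : k % 2 = 1) (hxk : x ^ k = 1)
    (hx1 : x ≠ 1) (y : Sz F m) :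
    (∃ T : Subgroup (Sz F m), IsMT m hF T ∧ x ∈ Subgroup.normalizer (T : Set (Sz F m)) ∧
        y ∈ Subgroup.normalizer (T : Set (Sz F m))) ↔
      y ∈ Subgroup.normalizer
        ((Subgroup.centralizer ({x} : Set (Sz F m)) : Subgroup (Sz F m)) : Set (Sz F m)) := by
  have hx4 := pow_four_ne_of_odd m hF hk hxk hx1
  have hC := isMT_centralizer m hF hm hx4
  have hxC : x ∈ Subgroup.centralizer ({x} : Set (Sz F m)) := by
    rw [Subgroup.mem_centralizer_singleton_iff]
  constructor
  · rintro ⟨T, hT, hxT, hyT⟩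
    have h1 := hT.pow_four_mem m hF hm hxT
    have h2 := mem_of_pow_mem_of_coprime T hxk (cop_four hk) h1
    rw [hT.cent m hF hm h2 hx1]
    exact hyT
  · intro hy
    exact ⟨_, hC, Subgroup.le_normalizer hxC, hy⟩

/-- the solubilizer of a non-identity element of a non-split torus -/
theorem sol_card_torus (hm : 1 ≤ m) (hp : (2 * m + 1).Prime) {x : Sz F m} (hx1 : x ≠ 1) {k : ℕ}
    (hk : k = 2 ^ (2 * m + 1) + 2 ^ (m + 1) + 1 ∨ k = 2 ^ (2 * m + 1) - 2 ^ (m + 1) + 1)
    (hxk : x ^ k = 1) :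
    Nat.card {y : Sz F m // Group.IsSolvable (Subgroup.closure ({x, y} : Set (Sz F m)))} =
      4 * k := by
  have hff := isFF_of_pow m hF hm hx1 hk hxk
  have hkodd : k % 2 = 1 := by
    rcases hk with h | h
    · rw [h]; exact k2_odd m
    · rw [h]; exact k3_odd m
  have hT : IsTorus m (Subgroup.centralizer ({x} : Set (Sz F m))) := ⟨x, hff, rfl⟩
  have hxT : x ∈ Subgroup.centralizer ({x} : Set (Sz F m)) := by
    rw [Subgroup.mem_centralizer_singleton_iff]
  have hiff : ∀ y : Sz F m, Group.IsSolvable (Subgroup.closure ({x, y} : Set (Sz F m))) ↔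
      y ∈ Subgroup.normalizer
        ((Subgroup.centralizer ({x} : Set (Sz F m)) : Subgroup (Sz F m)) : Set (Sz F m)) := by
    intro y
    rw [sol_char m hF hm hp, odd_mt_iff m hF hm hkodd hxk hx1]
    constructor
    · rintro (⟨ω, hω, -⟩ | h)
      · exact (hff ω hω).elim
      · exact h
    · intro h
      exact Or.inr h
  rw [Nat.card_congr (Equiv.subtypeEquivRight hiff)]
  change Nat.card (Subgroup.normalizer
    ((Subgroup.centralizer ({x} : Set (Sz F m)) : Subgroup (Sz F m)) : Set (Sz F m))) = 4 * k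
  rw [hT.card_normalizer m hF hm, hT.card_eq_of_pow m hF hm hxT hx1 hk hxk]

omit hF in
theorem stab_oinf_eq :
    MulAction.stabilizer (Sz F m) (oinf m : suzukiOvoid F m) =
      MulAction.stabilizer (Sz F m) (pinf : Projectivization F (Fin 4 → F)) := by
  ext x
  rw [MulAction.mem_stabilizer_iff, MulAction.mem_stabilizer_iff]
  constructor
  · intro h
    exact congrArg Subtype.val h
  · intro h
    exact Subtype.ext h

/-- the order of a point stabiliser -/
theorem card_stab (hm : 1 ≤ m) (ω : suzukiOvoid F m) :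
    Nat.card (MulAction.stabilizer (Sz F m) ω) =
      (2 ^ (2 * m + 1)) ^ 2 * (2 ^ (2 * m + 1) - 1) := by
  obtain ⟨g, hg⟩ := exists_to_inf m hF ω
  have h1 : MulAction.stabilizer (Sz F m) ω =
      conjSub g⁻¹ (MulAction.stabilizer (Sz F m) (oinf m : suzukiOvoid F m)) := by
    ext x
    rw [mem_conjSub, inv_inv, MulAction.mem_stabilizer_iff, MulAction.mem_stabilizer_iff, ← hg,
      mul_smul, mul_smul, inv_smul_smul]
    constructor
    · intro h
      rw [h]
    · intro h
      exact smul_left_cancel g h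
  rw [h1, card_conjSub, stab_oinf_eq m, card_stab_inf m hF hm]

theorem sol_card_dD (hm : 1 ≤ m) (hp : (2 * m + 1).Prime) {α : Fˣ} (hα : α ≠ 1) :
    Nat.card {y : Sz F m //
      Group.IsSolvable (Subgroup.closure ({dD m hF α, y} : Set (Sz F m)))} =
      2 * (2 ^ (2 * m + 1)) ^ 2 * (2 ^ (2 * m + 1) - 1) := by
  have hx1 := dD_ne_one m hF hα
  have hxk := dD_pow_card m hF α
  have hzero : dD m hF α • opt m (0 : F) 0 = opt m 0 0 := by
    rw [dD_opt]; simp
  set A : Set (Sz F m) := {y | y • (oinf m : suzukiOvoid F m) = oinf m} with hA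
  set B : Set (Sz F m) := {y | y • (opt m 0 0 : suzukiOvoid F m) = opt m 0 0} with hB
  set C : Set (Sz F m) := {y | y * wW m hF ∈ dSub m hF} with hC
  have hS : {y : Sz F m |
      Group.IsSolvable (Subgroup.closure ({dD m hF α, y} : Set (Sz F m)))} = (A ∪ B) ∪ C := by
    ext y
    rw [Set.mem_ofPred_eq, sol_char m hF hm hp, odd_mt_iff m hF hm (k1_odd m) hxk hx1,
      centralizer_dD m hF hm hα]
    constructor
    · rintro (⟨ω, hω, hyω⟩ | h)
      · rcases dD_fix_two m hF hm hα ω hω with rfl | rfl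
        · exact Or.inl (Or.inl hyω)
        · exact Or.inl (Or.inr hyω)
      · rcases normalizer_dSub_cases m hF hm h with h' | h'
        · obtain ⟨β, rfl⟩ := h'
          exact Or.inl (Or.inl (dD_oinf m hF β))
        · exact Or.inr h'
    · rintro ((h | h) | h)
      · exact Or.inl ⟨_, dD_oinf m hF α, h⟩
      · exact Or.inl ⟨_, hzero, h⟩
      · right
        have e : y = (y * wW m hF) * (wW m hF)⁻¹ := by group
        rw [e]
        exact Subgroup.mul_mem _ (Subgroup.le_normalizer h)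
          (Subgroup.inv_mem _ (wW_mem_normalizer_dSub m hF))
  have hAB : A ∩ B = (dSub m hF : Set (Sz F m)) := by
    ext y
    constructor
    · rintro ⟨h1, h2⟩
      exact two_point' m hF hm y (congrArg Subtype.val h1) (congrArg Subtype.val h2)
    · rintro ⟨β, rfl⟩
      refine ⟨dD_oinf m hF β, ?_⟩
      change dD m hF β • opt m (0 : F) 0 = opt m 0 0
      rw [dD_opt]; simp
  have hCc : C.ncard = 2 ^ (2 * m + 1) - 1 := by
    have : C = (fun z => z * (wW m hF)⁻¹) '' (dSub m hF : Set (Sz F m)) := by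
      ext y
      constructor
      · intro h
        exact ⟨y * wW m hF, h, by group⟩
      · rintro ⟨z, hz, rfl⟩
        change z * (wW m hF)⁻¹ * wW m hF ∈ dSub m hF
        rw [inv_mul_cancel_right]
        exact hz
    rw [this, Set.ncard_image_of_injective _ (mul_left_injective _), ← Nat.card_coe_set_eq]
    exact card_dSub m hF
  have hdisj : Disjoint (A ∪ B) C := by
    rw [Set.disjoint_left]
    rintro y (h | h) ⟨β, hβ⟩
    · have e : y = dD m hF β * wW m hF := by
        rw [← hβ, mul_assoc, wW_mul_wW, mul_one]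
      have h1 : y • (oinf m : suzukiOvoid F m) = opt m 0 0 := by
        rw [e, mul_smul, wW_oinf, dD_opt]; simp
      rw [h] at h1
      exact opt_ne_oinf m 0 0 h1.symm
    · have e : y = dD m hF β * wW m hF := by
        rw [← hβ, mul_assoc, wW_mul_wW, mul_one]
      have h1 : y • (opt m 0 0 : suzukiOvoid F m) = oinf m := by
        rw [e, mul_smul, wW_opt_zero, dD_oinf]
      rw [h] at h1
      exact opt_ne_oinf m 0 0 h1
  have hAc : A.ncard = (2 ^ (2 * m + 1)) ^ 2 * (2 ^ (2 * m + 1) - 1) := by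
    rw [← card_stab m hF hm (oinf m), ← Nat.card_coe_set_eq]
    rfl
  have hBc : B.ncard = (2 ^ (2 * m + 1)) ^ 2 * (2 ^ (2 * m + 1) - 1) := by
    rw [← card_stab m hF hm (opt m 0 0), ← Nat.card_coe_set_eq]
    rfl
  have h1 := Set.ncard_union_add_ncard_inter A B
  rw [hAB, hAc, hBc] at h1
  have h2 : ((dSub m hF : Subgroup (Sz F m)) : Set (Sz F m)).ncard = 2 ^ (2 * m + 1) - 1 := by
    rw [← Nat.card_coe_set_eq]
    exact card_dSub m hF
  rw [h2] at h1
  have h3 : Nat.card {y : Sz F m //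
      Group.IsSolvable (Subgroup.closure ({dD m hF α, y} : Set (Sz F m)))} =
      Set.ncard {y : Sz F m |
        Group.IsSolvable (Subgroup.closure ({dD m hF α, y} : Set (Sz F m)))} :=
    Nat.card_coe_set_eq _
  rw [h3, hS, Set.ncard_union_eq hdisj, hCc]
  rw [h1]
  ring

omit hF in
/-- conjugation invariance of the solubilizer size -/
theorem sol_card_conj (h x : Sz F m) :
    Nat.card {y : Sz F m //
      Group.IsSolvable (Subgroup.closure ({h * x * h⁻¹, y} : Set (Sz F m)))} =
    Nat.card {y : Sz F m // Group.IsSolvable (Subgroup.closure ({x, y} : Set (Sz F m)))} :=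
  sol_card_equiv (MulAut.conj h) x

/-- the solubilizer of a non-identity element of a split torus -/
theorem sol_card_split (hm : 1 ≤ m) (hp : (2 * m + 1).Prime) {x : Sz F m} (hx1 : x ≠ 1)
    (hxk : x ^ (2 ^ (2 * m + 1) - 1) = 1) :
    Nat.card {y : Sz F m // Group.IsSolvable (Subgroup.closure ({x, y} : Set (Sz F m)))} =
      2 * (2 ^ (2 * m + 1)) ^ 2 * (2 ^ (2 * m + 1) - 1) := by
  obtain ⟨h, α, hα, he⟩ := exists_conj_dD_of_pow m hF hm hx1 hxk
  rw [← sol_card_conj m h x, he]
  exact sol_card_dD m hF hm hp hα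

end odd

end Cfsg.Agent.Lib.Helper5.Suzuki
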