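import Cfsg.Agent.Lib.Helper5.SuzukiSolB
import Mathlib

set_option autoImplicit false
open Cfsg
open scoped Matrix Pointwise commutatorElement
open Cfsg.Agent.S0335
open Cfsg.Agent.Lib.Helper5.FixCount

namespace Cfsg.Agent.Lib.Helper5.Suzuki

section gen

/-- counting a set through a map with fibres of constant size -/
theorem card_fiber_const {α β : Type*} [Finite α] [Finite β] (f : α → β) (P : α → Prop)
    (Q : β → Prop) (n : ℕ) (hmap : ∀ a, P a → Q (f a))
    (hfib : ∀ b, Q b → Nat.card {a : α // P a ∧ f a = b} = n) :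
    Nat.card {a : α // P a} = n * Nat.card {b : β // Q b} := by
  classical
  let g : {a : α // P a} → {b : β // Q b} := fun a => ⟨f a.1, hmap a.1 a.2⟩
  have _ : Fintype {b : β // Q b} := Fintype.ofFinite _
  rw [← Nat.card_congr (Equiv.sigmaFiberEquiv g), Nat.card_sigma]
  have h1 : ∀ b : {b : β // Q b}, Nat.card {x : {a : α // P a} // g x = b} = n := by
    intro b
    rw [← hfib b.1 b.2]
    apply Nat.card_congr
    refine ⟨fun x => ⟨x.1.1, x.1.2, congrArg Subtype.val x.2⟩,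
      fun x => ⟨⟨x.1, x.2.1⟩, Subtype.ext x.2.2⟩, fun x => rfl, fun x => rfl⟩
  simp_rw [h1]
  rw [Finset.sum_const, Finset.card_univ, smul_eq_mul, Nat.card_eq_fintype_card, mul_comm]

theorem card_or_disj {α : Type*} [Finite α] (P Q : α → Prop) (h : ∀ a, P a → ¬ Q a) :
    Nat.card {a : α // P a ∨ Q a} = Nat.card {a : α // P a} + Nat.card {a : α // Q a} := by
  have e1 : Nat.card {a : α // P a ∨ Q a} = Set.ncard ({a : α | P a} ∪ {a : α | Q a}) :=
    Nat.card_coe_set_eq _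
  have e2 : Nat.card {a : α // P a} = Set.ncard {a : α | P a} := Nat.card_coe_set_eq _
  have e3 : Nat.card {a : α // Q a} = Set.ncard {a : α | Q a} := Nat.card_coe_set_eq _
  rw [e1, e2, e3]
  refine Set.ncard_union_eq ?_ (Set.toFinite _) (Set.toFinite _)
  rw [Set.disjoint_left]
  intro a ha ha'
  exact h a ha ha'

theorem card_split {α : Type*} [Finite α] (P Q : α → Prop) :
    Nat.card {a : α // P a} =
      Nat.card {a : α // P a ∧ ¬ Q a} + Nat.card {a : α // P a ∧ Q a} := by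
  rw [← card_or_disj (fun a => P a ∧ ¬ Q a) (fun a => P a ∧ Q a) (fun a h h' => h.2 h'.2)]
  apply Nat.card_congr
  apply Equiv.subtypeEquivRight
  intro a
  by_cases hQ : Q a
  · simp [hQ]
  · simp [hQ]

end gen

section unip
variable {F : Type*} [Field F] [Fintype F] [CharP F 2] (m : ℕ)
set_option linter.unusedSectionVars false
variable (hF : Fintype.card F = 2 ^ (2 * m + 1))
include hF
variable {T : Subgroup (Sz F m)} {x : Sz F m}

/-- a non-identity `2`-element does not commute with non-identity elements of a maximal torus -/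
theorem IsMT.not_comm (hT : IsMT m hF T) (hm : 1 ≤ m) (hx1 : x ≠ 1) (hx4 : x ^ 4 = 1)
    {a : Sz F m} (ha : a ∈ T) (hxa : x * a = a * x) : a = 1 := by
  by_contra ha1
  apply hx1
  have hxT : x ∈ T := by
    rw [← hT.cent m hF hm ha ha1, Subgroup.mem_centralizer_singleton_iff]
    exact hxa
  exact eq_one_of_pow_coprime hx4 (pow_card_of_mem m hxT) (cop_four (hT.card_odd m hF hm))

/-- the commutator map with `x` is injective on a maximal torus -/
theorem IsMT.comm_inj (hT : IsMT m hF T) (hm : 1 ≤ m) (hx1 : x ≠ 1) (hx4 : x ^ 4 = 1)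
    {u u' : Sz F m} (hu : u ∈ T) (hu' : u' ∈ T)
    (h : u * x * u⁻¹ * x⁻¹ = u' * x * u'⁻¹ * x⁻¹) : u = u' := by
  have h1 : x * (u'⁻¹ * u) = (u'⁻¹ * u) * x := by
    have h2 : u * x * u⁻¹ = u' * x * u'⁻¹ := mul_right_cancel h
    calc x * (u'⁻¹ * u) = u'⁻¹ * (u' * x * u'⁻¹) * u := by group
      _ = u'⁻¹ * (u * x * u⁻¹) * u := by rw [h2]
      _ = (u'⁻¹ * u) * x := by group
  have h3 := hT.not_comm m hF hm hx1 hx4 (T.mul_mem (T.inv_mem hu') hu) h1
  calc u = u' * (u'⁻¹ * u) := by group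
    _ = u' := by rw [h3, mul_one]

/-- the commutator map with `x` is surjective on a maximal torus normalised by `x` -/
theorem IsMT.comm_surj (hT : IsMT m hF T) (hm : 1 ≤ m) (hx1 : x ≠ 1) (hx4 : x ^ 4 = 1)
    (hxT : x ∈ Subgroup.normalizer (T : Set (Sz F m))) {v : Sz F m} (hv : v ∈ T) :
    ∃ u ∈ T, u * x * u⁻¹ * x⁻¹ = v := by
  let φ : T → T := fun u => ⟨u.1 * x * u.1⁻¹ * x⁻¹, by
    have h1 : x * u.1⁻¹ * x⁻¹ ∈ T :=
      (Subgroup.mem_normalizer_iff.1 hxT _).1 (T.inv_mem u.2)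
    have e : u.1 * x * u.1⁻¹ * x⁻¹ = u.1 * (x * u.1⁻¹ * x⁻¹) := by group
    rw [e]
    exact T.mul_mem u.2 h1⟩
  have hinj : Function.Injective φ := by
    intro u u' h
    apply Subtype.ext
    exact hT.comm_inj m hF hm hx1 hx4 u.2 u'.2 (congrArg Subtype.val h)
  obtain ⟨u, hu⟩ := (Finite.injective_iff_surjective.1 hinj) ⟨v, hv⟩
  exact ⟨u.1, u.2, congrArg Subtype.val hu⟩

/-- the normaliser of a maximal torus splits over the centraliser of `x` -/
theorem IsMT.card_cent_mul (hT : IsMT m hF T) (hm : 1 ≤ m) (hx1 : x ≠ 1) (hx4 : x ^ 4 = 1)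
    (hxT : x ∈ Subgroup.normalizer (T : Set (Sz F m))) :
    Nat.card T * Nat.card ↥(Subgroup.centralizer ({x} : Set (Sz F m)) ⊓
      Subgroup.normalizer (T : Set (Sz F m))) =
    Nat.card (Subgroup.normalizer (T : Set (Sz F m))) := by
  rw [← Nat.card_prod]
  apply Nat.card_congr
  refine Equiv.ofBijective (fun p => ⟨p.1.1 * p.2.1,
    Subgroup.mul_mem _ (Subgroup.le_normalizer p.1.2) p.2.2.2⟩) ⟨?_, ?_⟩
  · rintro ⟨u, c⟩ ⟨u', c'⟩ h
    have h1 : u.1 * c.1 = u'.1 * c'.1 := congrArg Subtype.val h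
    have h2 : u'.1⁻¹ * u.1 = c'.1 * c.1⁻¹ := by
      calc u'.1⁻¹ * u.1 = u'.1⁻¹ * (u.1 * c.1) * c.1⁻¹ := by group
        _ = u'.1⁻¹ * (u'.1 * c'.1) * c.1⁻¹ := by rw [h1]
        _ = c'.1 * c.1⁻¹ := by group
    have h3 : c'.1 * c.1⁻¹ ∈ Subgroup.centralizer ({x} : Set (Sz F m)) :=
      Subgroup.mul_mem _ c'.2.1 (Subgroup.inv_mem _ c.2.1)
    rw [← h2, Subgroup.mem_centralizer_singleton_iff] at h3
    have h4 := hT.not_comm m hF hm hx1 hx4 (T.mul_mem (T.inv_mem u'.2) u.2) h3.symm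
    have hu : u.1 = u'.1 := by
      calc u.1 = u'.1 * (u'.1⁻¹ * u.1) := by group
        _ = u'.1 := by rw [h4, mul_one]
    have hc : c.1 = c'.1 := by
      rw [hu] at h1
      exact mul_left_cancel h1
    exact Prod.ext (Subtype.ext hu) (Subtype.ext hc)
  · rintro ⟨y, hy⟩
    have h1 := hT.comm_mem m hF hm hy hxT
    obtain ⟨u, hu, huv⟩ := hT.comm_surj m hF hm hx1 hx4 hxT h1
    have h2 : u * x * u⁻¹ = y * x * y⁻¹ := mul_right_cancel huv
    have h3 : u⁻¹ * y ∈ Subgroup.centralizer ({x} : Set (Sz F m)) := by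
      rw [Subgroup.mem_centralizer_singleton_iff]
      calc u⁻¹ * y * x = u⁻¹ * (y * x * y⁻¹) * y := by group
        _ = u⁻¹ * (u * x * u⁻¹) * y := by rw [h2]
        _ = x * (u⁻¹ * y) := by group
    have h4 : u⁻¹ * y ∈ Subgroup.normalizer (T : Set (Sz F m)) :=
      Subgroup.mul_mem _ (Subgroup.inv_mem _ (Subgroup.le_normalizer hu)) hy
    refine ⟨⟨⟨u, hu⟩, ⟨u⁻¹ * y, h3, h4⟩⟩, ?_⟩
    apply Subtype.ext
    change u * (u⁻¹ * y) = y
    group

/-- the fibres of the commutator map on the normaliser of a maximal torus -/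
theorem IsMT.fiber_card (hT : IsMT m hF T) (hm : 1 ≤ m) (hx1 : x ≠ 1) (hx4 : x ^ 4 = 1)
    (hxT : x ∈ Subgroup.normalizer (T : Set (Sz F m))) {v : Sz F m} (hv : v ∈ T) {w : ℕ}
    (hcard : Nat.card (Subgroup.normalizer (T : Set (Sz F m))) = w * Nat.card T) :
    Nat.card {y : Sz F m // y ∈ Subgroup.normalizer (T : Set (Sz F m)) ∧
      y * x * y⁻¹ * x⁻¹ = v} = w := by
  have h1 := hT.card_cent_mul m hF hm hx1 hx4 hxT
  rw [hcard, mul_comm] at h1
  have hpos : 0 < Nat.card T := Nat.card_pos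
  have h2 := Nat.eq_of_mul_eq_mul_right hpos h1
  rw [← h2]
  obtain ⟨u, hu, huv⟩ := hT.comm_surj m hF hm hx1 hx4 hxT hv
  symm
  apply Nat.card_congr
  refine Equiv.ofBijective (fun c => ⟨u * c.1,
    Subgroup.mul_mem _ (Subgroup.le_normalizer hu) c.2.2, ?_⟩) ⟨?_, ?_⟩
  · have hc : c.1 * x = x * c.1 := Subgroup.mem_centralizer_singleton_iff.1 c.2.1
    rw [← huv]
    calc u * c.1 * x * (u * c.1)⁻¹ * x⁻¹ = u * (c.1 * x) * c.1⁻¹ * u⁻¹ * x⁻¹ := by group
      _ = u * (x * c.1) * c.1⁻¹ * u⁻¹ * x⁻¹ := by rw [hc]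
      _ = u * x * u⁻¹ * x⁻¹ := by group
  · intro c c' h
    apply Subtype.ext
    have : u * c.1 = u * c'.1 := congrArg Subtype.val h
    exact mul_left_cancel this
  · rintro ⟨y, hy, hyv⟩
    have h3 : u * x * u⁻¹ = y * x * y⁻¹ := mul_right_cancel (huv.trans hyv.symm)
    have h4 : u⁻¹ * y ∈ Subgroup.centralizer ({x} : Set (Sz F m)) := by
      rw [Subgroup.mem_centralizer_singleton_iff]
      calc u⁻¹ * y * x = u⁻¹ * (y * x * y⁻¹) * y := by group
        _ = u⁻¹ * (u * x * u⁻¹) * y := by rw [h3]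
        _ = x * (u⁻¹ * y) := by group
    have h5 : u⁻¹ * y ∈ Subgroup.normalizer (T : Set (Sz F m)) :=
      Subgroup.mul_mem _ (Subgroup.inv_mem _ (Subgroup.le_normalizer hu)) hy
    refine ⟨⟨u⁻¹ * y, h4, h5⟩, ?_⟩
    apply Subtype.ext
    change u * (u⁻¹ * y) = y
    group

theorem conj_uSub_pow_four (c : Sz F m) {z : Sz F m} (hz : z ∈ conjSub c (uSub m hF)) :
    z ^ 4 = 1 := by
  rw [mem_conjSub] at hz
  obtain ⟨a, b, hab⟩ := hz
  have e : z = c * tT m hF a b * c⁻¹ := by rw [← hab]; group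
  rw [e, conj_pow, tT_pow_four, mul_one, mul_inv_cancel]

omit hF in
/-- the elements whose centraliser is a maximal torus normalised by `x` -/
def InV (x v : Sz F m) : Prop :=
  v ^ 4 ≠ 1 ∧ x ∈ Subgroup.normalizer
    ((Subgroup.centralizer ({v} : Set (Sz F m)) : Subgroup (Sz F m)) : Set (Sz F m))

omit hF in
theorem self_mem_centralizer (v : Sz F m) : v ∈ Subgroup.centralizer ({v} : Set (Sz F m)) := by
  rw [Subgroup.mem_centralizer_singleton_iff]

theorem card_normalizer_cent_ff (hm : 1 ≤ m) {v : Sz F m} (hv : IsFF m v) :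
    Nat.card (Subgroup.normalizer
      ((Subgroup.centralizer ({v} : Set (Sz F m)) : Subgroup (Sz F m)) : Set (Sz F m))) =
      4 * Nat.card (Subgroup.centralizer ({v} : Set (Sz F m))) :=
  IsTorus.card_normalizer m hF ⟨v, hv, rfl⟩ hm

theorem card_normalizer_cent_fix (hm : 1 ≤ m) {v : Sz F m} (hv4 : v ^ 4 ≠ 1)
    (hv : ¬ IsFF m v) :
    Nat.card (Subgroup.normalizer
      ((Subgroup.centralizer ({v} : Set (Sz F m)) : Subgroup (Sz F m)) : Set (Sz F m))) =
      2 * Nat.card (Subgroup.centralizer ({v} : Set (Sz F m))) := by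
  have hv1 : v ≠ 1 := by
    rintro rfl
    exact hv4 (one_pow 4)
  rcases trichotomy m hF hm v hv1 with ⟨h, a, b, hab, he⟩ | ⟨h, α, hα, he⟩ | hff
  · exfalso
    apply hv4
    have hv' : v = h⁻¹ * tT m hF a b * (h⁻¹)⁻¹ := by rw [← he]; group
    rw [hv', conj_pow, tT_pow_four, mul_one, mul_inv_cancel]
  · have hv' : v = h⁻¹ * dD m hF α * (h⁻¹)⁻¹ := by rw [← he]; group
    rw [hv', centralizer_conj, centralizer_dD m hF hm hα, normalizer_conjSub, card_conjSub,
      card_conjSub, card_normalizer_dSub m hF hm]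
  · exact (hv hff).elim

/-- the solubilizer of a non-identity `2`-element, in terms of the maximal tori it normalises -/
theorem sol_card_unip (hm : 1 ≤ m) (hp : (2 * m + 1).Prime) {x : Sz F m} (hx1 : x ≠ 1)
    (hx4 : x ^ 4 = 1) :
    Nat.card {y : Sz F m // Group.IsSolvable (Subgroup.closure ({x, y} : Set (Sz F m)))} =
      (2 ^ (2 * m + 1)) ^ 2 * (2 ^ (2 * m + 1) - 1)
      + 2 * Nat.card {v : Sz F m // InV m x v ∧ ¬ IsFF m v}
      + 4 * Nat.card {v : Sz F m // InV m x v ∧ IsFF m v} := by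
  classical
  obtain ⟨ω₀, hω₀, huniq⟩ := exists_unique_fix m hF hm hx1 hx4
  obtain ⟨g, hg⟩ := exists_to_inf m hF ω₀
  have hω : ω₀ = g⁻¹ • oinf m := by rw [← hg, inv_smul_smul]
  let Φ : Sz F m → Sz F m := fun y => y * x * y⁻¹ * x⁻¹
  let Wp : Sz F m → Prop := fun y => InV m x (Φ y) ∧ y ∈ Subgroup.normalizer
    ((Subgroup.centralizer ({Φ y} : Set (Sz F m)) : Subgroup (Sz F m)) : Set (Sz F m))
  have hS : ∀ y : Sz F m, Group.IsSolvable (Subgroup.closure ({x, y} : Set (Sz F m))) ↔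
      (y • ω₀ = ω₀ ∨ Wp y) := by
    intro y
    rw [sol_char m hF hm hp]
    constructor
    · rintro (⟨ω, hxω, hyω⟩ | ⟨T, hT, hxT, hyT⟩)
      · left
        rw [← huniq ω hxω]
        exact hyω
      · by_cases h1 : Φ y = 1
        · left
          have hc : y * x = x * y := by
            have : y * x * y⁻¹ * x⁻¹ = 1 := h1
            calc y * x = (y * x * y⁻¹ * x⁻¹) * x * y := by group
              _ = x * y := by rw [this, one_mul]
          exact comm_fix m hF hm hx1 hx4 hω₀ hc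
        · right
          have h2 : Φ y ∈ T := hT.comm_mem m hF hm hyT hxT
          have h3 := hT.cent m hF hm h2 h1
          refine ⟨⟨hT.pow_four_ne m hF hm h2 h1, ?_⟩, ?_⟩
          · rw [h3]; exact hxT
          · rw [h3]; exact hyT
    · rintro (h | ⟨⟨h4, hxN⟩, hyN⟩)
      · exact Or.inl ⟨ω₀, hω₀, h⟩
      · exact Or.inr ⟨_, isMT_centralizer m hF hm h4, hxN, hyN⟩
  have hdisj : ∀ y : Sz F m, y • ω₀ = ω₀ → ¬ Wp y := by
    rintro y hy ⟨⟨h4, -⟩, -⟩
    apply h4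
    rw [hω] at hy hω₀
    exact conj_uSub_pow_four m hF g⁻¹ (stab_comm m hF hm g⁻¹ hy hω₀)
  -- the cardinality of the union
  have h1 : Nat.card {y : Sz F m // Group.IsSolvable (Subgroup.closure ({x, y} : Set (Sz F m)))} =
      Nat.card {y : Sz F m // y • ω₀ = ω₀} + Nat.card {y : Sz F m // Wp y} := by
    rw [Nat.card_congr (Equiv.subtypeEquivRight hS)]
    exact card_or_disj _ _ hdisj
  have h2 : Nat.card {y : Sz F m // y • ω₀ = ω₀} =
      (2 ^ (2 * m + 1)) ^ 2 * (2 ^ (2 * m + 1) - 1) := card_stab m hF hm ω₀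
  have h3 : Nat.card {y : Sz F m // Wp y} =
      Nat.card {y : Sz F m // Wp y ∧ ¬ IsFF m (Φ y)} +
        Nat.card {y : Sz F m // Wp y ∧ IsFF m (Φ y)} :=
    card_split Wp (fun y => IsFF m (Φ y))
  have h4 : Nat.card {y : Sz F m // Wp y ∧ ¬ IsFF m (Φ y)} =
      2 * Nat.card {v : Sz F m // InV m x v ∧ ¬ IsFF m v} := by
    apply card_fiber_const Φ
    · rintro y ⟨⟨hV, -⟩, hff⟩
      exact ⟨hV, hff⟩
    · rintro v ⟨⟨hv4, hxN⟩, hff⟩
      refine Eq.trans ?_ (IsMT.fiber_card m hF (isMT_centralizer m hF hm hv4) hm hx1 hx4 hxN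
        (self_mem_centralizer m v) (card_normalizer_cent_fix m hF hm hv4 hff))
      apply Nat.card_congr
      apply Equiv.subtypeEquivRight
      intro y
      constructor
      · rintro ⟨⟨⟨-, hyN⟩, -⟩, rfl⟩
        exact ⟨hyN, rfl⟩
      · rintro ⟨hyN, rfl⟩
        exact ⟨⟨⟨⟨hv4, hxN⟩, hyN⟩, hff⟩, rfl⟩
  have h5 : Nat.card {y : Sz F m // Wp y ∧ IsFF m (Φ y)} =
      4 * Nat.card {v : Sz F m // InV m x v ∧ IsFF m v} := by
    apply card_fiber_const Φ
    · rintro y ⟨⟨hV, -⟩, hff⟩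
      exact ⟨hV, hff⟩
    · rintro v ⟨⟨hv4, hxN⟩, hff⟩
      refine Eq.trans ?_ (IsMT.fiber_card m hF (isMT_centralizer m hF hm hv4) hm hx1 hx4 hxN
        (self_mem_centralizer m v) (card_normalizer_cent_ff m hF hm hff))
      apply Nat.card_congr
      apply Equiv.subtypeEquivRight
      intro y
      constructor
      · rintro ⟨⟨⟨-, hyN⟩, -⟩, rfl⟩
        exact ⟨hyN, rfl⟩
      · rintro ⟨hyN, rfl⟩
        exact ⟨⟨⟨⟨hv4, hxN⟩, hyN⟩, hff⟩, rfl⟩
  rw [h1, h2, h3, h4, h5, add_assoc]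

end unip

end Cfsg.Agent.Lib.Helper5.Suzuki
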