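import Cfsg.Agent.Lib.Helper5.SuzukiSolC
import Mathlib

set_option autoImplicit false
open Cfsg
open scoped Matrix Pointwise commutatorElement
open Cfsg.Agent.S0335
open Cfsg.Agent.Lib.Helper5.FixCount

namespace Cfsg.Agent.Lib.Helper5.Suzuki

section invol
variable {F : Type*} [Field F] [Fintype F] [CharP F 2] (m : ℕ)
set_option linter.unusedSectionVars false
variable (hF : Fintype.card F = 2 ^ (2 * m + 1))
include hF

/-- the pointwise stabiliser of two points is a conjugate of the diagonal subgroup -/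
theorem two_point_stab (hm : 1 ≤ m) (a b : suzukiOvoid F m) (hab : a ≠ b) :
    ∃ c : Sz F m, c • (oinf m : suzukiOvoid F m) = a ∧ c • (opt m 0 0 : suzukiOvoid F m) = b ∧
      ∀ v : Sz F m, (v • a = a ∧ v • b = b) ↔ v ∈ conjSub c (dSub m hF) := by
  obtain ⟨g, hga, hgb⟩ := exists_pair m hF a b hab
  have ha : g⁻¹ • (oinf m : suzukiOvoid F m) = a := by rw [← hga, inv_smul_smul]
  have hb : g⁻¹ • (opt m 0 0 : suzukiOvoid F m) = b := by rw [← hgb, inv_smul_smul]
  refine ⟨g⁻¹, ha, hb, ?_⟩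
  intro v
  rw [mem_conjSub, inv_inv]
  constructor
  · rintro ⟨h1, h2⟩
    apply two_point' m hF hm
    · have : (g * v * g⁻¹) • (oinf m : suzukiOvoid F m) = oinf m := by
        rw [mul_smul, mul_smul, ha, h1, hga]
      exact congrArg Subtype.val this
    · have : (g * v * g⁻¹) • (opt m 0 0 : suzukiOvoid F m) = opt m 0 0 := by
        rw [mul_smul, mul_smul, hb, h2, hgb]
      exact congrArg Subtype.val this
  · rintro ⟨β, hβ⟩
    have e : v = g⁻¹ * dD m hF β * g := by rw [← hβ]; group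
    constructor
    · rw [e, mul_smul, mul_smul, hga, dD_oinf, ha]
    · rw [e, mul_smul, mul_smul, hgb, dD_opt, ← hb]
      simp

/-- the number of non-identity elements fixing two given points -/
theorem card_two_point_stab (hm : 1 ≤ m) (a b : suzukiOvoid F m) (hab : a ≠ b) :
    Nat.card {v : Sz F m // v ≠ 1 ∧ v • a = a ∧ v • b = b} + 1 = 2 ^ (2 * m + 1) - 1 := by
  obtain ⟨c, -, -, hc⟩ := two_point_stab m hF hm a b hab
  have h1 : Nat.card {v : Sz F m // v • a = a ∧ v • b = b} = 2 ^ (2 * m + 1) - 1 := by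
    rw [Nat.card_congr (Equiv.subtypeEquivRight hc)]
    rw [card_conjSub, card_dSub]
  rw [← h1, card_split (fun v : Sz F m => v • a = a ∧ v • b = b) (fun v => v = 1)]
  have h2 : Nat.card {v : Sz F m // (v • a = a ∧ v • b = b) ∧ v = 1} = 1 := by
    rw [Nat.card_eq_one_iff_unique]
    refine ⟨⟨?_⟩, ⟨⟨1, ⟨one_smul _ _, one_smul _ _⟩, rfl⟩⟩⟩
    rintro ⟨v, -, rfl⟩ ⟨v', -, rfl⟩
    rfl
  rw [h2]
  congr 1
  apply Nat.card_congr
  apply Equiv.subtypeEquivRight
  intro v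
  tauto

omit hF in
theorem centralizer_inv (v : Sz F m) :
    Subgroup.centralizer ({v⁻¹} : Set (Sz F m)) = Subgroup.centralizer {v} := by
  ext y
  rw [Subgroup.mem_centralizer_singleton_iff, Subgroup.mem_centralizer_singleton_iff]
  constructor
  · intro h
    calc y * v = v * (v⁻¹ * y) * v := by group
      _ = v * (y * v⁻¹) * v := by rw [h]
      _ = v * y := by group
  · intro h
    calc y * v⁻¹ = v⁻¹ * (v * y) * v⁻¹ := by group
      _ = v⁻¹ * (y * v) * v⁻¹ := by rw [h]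
      _ = v⁻¹ * y := by group

/-- an involution normalises the centraliser of `v` exactly when it inverts `v` -/
theorem invol_normalizes_iff (hm : 1 ≤ m) {x v : Sz F m} (hx1 : x ≠ 1) (hx : x * x = 1)
    (hv4 : v ^ 4 ≠ 1) :
    x ∈ Subgroup.normalizer
      ((Subgroup.centralizer ({v} : Set (Sz F m)) : Subgroup (Sz F m)) : Set (Sz F m)) ↔
      x * v * x⁻¹ = v⁻¹ := by
  have hT := isMT_centralizer m hF hm hv4
  have hvT := self_mem_centralizer m v
  constructor
  · intro hxN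
    have h1 : x * v * x⁻¹ ∈ Subgroup.centralizer ({v} : Set (Sz F m)) :=
      (Subgroup.mem_normalizer_iff.1 hxN v).1 hvT
    have hc : v * (x * v * x⁻¹) = (x * v * x⁻¹) * v :=
      (Subgroup.mem_centralizer_singleton_iff.1 h1).symm
    have hxi : x⁻¹ = x := inv_eq_of_mul_eq_one_left hx
    have h2 : x * (v * (x * v * x⁻¹)) = (v * (x * v * x⁻¹)) * x := by
      calc x * (v * (x * v * x⁻¹)) = (x * v * x⁻¹) * (x * x) * v * x⁻¹ := by group
        _ = (x * v * x⁻¹) * v * x⁻¹ := by rw [hx, mul_one]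
        _ = v * (x * v * x⁻¹) * x⁻¹ := by rw [← hc]
        _ = (v * (x * v * x⁻¹)) * x := by rw [hxi]
    have h3 := hT.not_comm m hF hm hx1 (pow_four_of_sq m hx)
      ((Subgroup.centralizer ({v} : Set (Sz F m))).mul_mem hvT h1) h2
    exact (eq_inv_of_mul_eq_one_right h3)
  · intro h
    apply mem_normalizer_of_conjSub_eq
    rw [← centralizer_conj, h, centralizer_inv]

/-- the elements of square one fixing a given point -/
theorem card_sq_one_fix (hm : 1 ≤ m) (ω : suzukiOvoid F m) :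
    Nat.card {z : Sz F m // z * z = 1 ∧ z • ω = ω} = 2 ^ (2 * m + 1) := by
  obtain ⟨g, hg⟩ := exists_to_inf m hF ω
  have hω : ω = g⁻¹ • oinf m := by rw [← hg, inv_smul_smul]
  rw [← hF, ← Nat.card_eq_fintype_card]
  symm
  apply Nat.card_congr
  refine Equiv.ofBijective (fun b => ⟨g⁻¹ * tT m hF 0 b * g, ?_, ?_⟩) ⟨?_, ?_⟩
  · have e : g⁻¹ * tT m hF 0 b * g * (g⁻¹ * tT m hF 0 b * g) =
        g⁻¹ * (tT m hF 0 b * tT m hF 0 b) * g := by group
    rw [e, tT_sq, mul_zero, tT_zero, mul_one, inv_mul_cancel]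
  · rw [mul_smul, mul_smul, hg, tT_oinf, hω]
  · intro b b' h
    have h1 : g⁻¹ * tT m hF 0 b * g = g⁻¹ * tT m hF 0 b' * g := congrArg Subtype.val h
    have h2 : tT m hF 0 b = tT m hF 0 b' := by
      have := mul_right_cancel h1
      exact mul_left_cancel this
    exact (tT_inj m hF h2).2
  · rintro ⟨z, hz, hzω⟩
    have h1 : (g * z * g⁻¹) * (g * z * g⁻¹) = 1 := by
      have e : (g * z * g⁻¹) * (g * z * g⁻¹) = g * (z * z) * g⁻¹ := by group
      rw [e, hz, mul_one, mul_inv_cancel]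
    have h2 : (g * z * g⁻¹) • (oinf m : suzukiOvoid F m) = oinf m := by
      rw [mul_smul, mul_smul, ← hω, hzω, hg]
    obtain ⟨b, hb⟩ := involution_in_stab m hF hm _ h1 (congrArg Subtype.val h2)
    refine ⟨b, ?_⟩
    apply Subtype.ext
    change g⁻¹ * tT m hF 0 b * g = z
    rw [← hb]
    group

/-- the involutions fixing a given point -/
theorem card_invol_fix (hm : 1 ≤ m) (ω : suzukiOvoid F m) :
    Nat.card {z : Sz F m // (z * z = 1 ∧ z • ω = ω) ∧ ¬ z = 1} + 1 = 2 ^ (2 * m + 1) := by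
  rw [← card_sq_one_fix m hF hm ω,
    card_split (fun z : Sz F m => z * z = 1 ∧ z • ω = ω) (fun z => z = 1)]
  have h2 : Nat.card {z : Sz F m // (z * z = 1 ∧ z • ω = ω) ∧ z = 1} = 1 := by
    rw [Nat.card_eq_one_iff_unique]
    refine ⟨⟨?_⟩, ⟨⟨1, ⟨one_mul _, one_smul _ _⟩, rfl⟩⟩⟩
    rintro ⟨v, -, rfl⟩ ⟨v', -, rfl⟩
    rfl
  rw [h2]

/-- the number of involutions -/
theorem card_invol (hm : 1 ≤ m) :
    Nat.card {z : Sz F m // z * z = 1 ∧ z ≠ 1} =
      (2 ^ (2 * m + 1) - 1) * ((2 ^ (2 * m + 1)) ^ 2 + 1) := by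
  classical
  let f : Sz F m → suzukiOvoid F m := fun z =>
    if h : z ≠ 1 ∧ z ^ 4 = 1 then Classical.choose (exists_unique_fix m hF hm h.1 h.2) else oinf m
  have hf : ∀ z : Sz F m, z * z = 1 → z ≠ 1 → ∀ ω : suzukiOvoid F m, f z = ω ↔ z • ω = ω := by
    intro z hz hz1 ω
    have h : z ≠ 1 ∧ z ^ 4 = 1 := ⟨hz1, pow_four_of_sq m hz⟩
    have hfz : f z = Classical.choose (exists_unique_fix m hF hm h.1 h.2) := dif_pos h
    obtain ⟨h1, h2⟩ := Classical.choose_spec (exists_unique_fix m hF hm h.1 h.2)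
    rw [hfz]
    constructor
    · rintro rfl
      exact h1
    · intro hω
      exact (h2 ω hω).symm
  have h1 := card_fiber_const f (fun z : Sz F m => z * z = 1 ∧ z ≠ 1) (fun _ => True)
    (2 ^ (2 * m + 1) - 1) (fun _ _ => trivial) (by
      intro ω _
      have h2 := card_invol_fix m hF hm ω
      have h3 : Nat.card {z : Sz F m // (z * z = 1 ∧ z ≠ 1) ∧ f z = ω} =
          Nat.card {z : Sz F m // (z * z = 1 ∧ z • ω = ω) ∧ ¬ z = 1} := by
        apply Nat.card_congr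
        apply Equiv.subtypeEquivRight
        intro z
        constructor
        · rintro ⟨⟨hz, hz1⟩, hfz⟩
          exact ⟨⟨hz, (hf z hz hz1 ω).1 hfz⟩, hz1⟩
        · rintro ⟨⟨hz, hzω⟩, hz1⟩
          exact ⟨⟨hz, hz1⟩, (hf z hz hz1 ω).2 hzω⟩
      rw [h3]
      omega)
  rw [h1]
  congr 1
  rw [← hF, ← Cfsg.Agent.S0326.result m]
  apply Nat.card_congr
  exact Equiv.subtypeUnivEquiv (fun _ => trivial)

/-- the elements of square one whose product with the involution `x` is a `2`-element are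
those fixing the fixed point of `x` -/
theorem sq_one_comm_iff (hm : 1 ≤ m) {x z : Sz F m} (hx1 : x ≠ 1) (hx : x * x = 1)
    {ω₀ : suzukiOvoid F m} (hω₀ : x • ω₀ = ω₀) (hz : z * z = 1) :
    (x * z) ^ 4 = 1 ↔ z • ω₀ = ω₀ := by
  have hxi : x⁻¹ = x := inv_eq_of_mul_eq_one_left hx
  constructor
  · intro h4
    by_cases hp1 : x * z = 1
    · have : z = x := by
        rw [← hxi]
        exact (inv_eq_of_mul_eq_one_right hp1).symm
      rw [this]
      exact hω₀
    · obtain ⟨ω', hω', -⟩ := exists_unique_fix m hF hm hp1 h4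
      have hinv : x * (x * z) * x⁻¹ = (x * z)⁻¹ := by
        rw [eq_inv_iff_mul_eq_one]
        calc x * (x * z) * x⁻¹ * (x * z) = (x * x) * z * (x⁻¹ * x) * z := by group
          _ = 1 := by rw [hx, inv_mul_cancel, one_mul, mul_one, hz]
      have h1 : (x * z)⁻¹ • (x • ω') = x • ω' := by
        rw [← hinv]
        exact conj_fix m hF hω'
      have h2 : (x * z) • (x • ω') = x • ω' := by
        rw [inv_smul_eq_iff] at h1
        exact h1.symm
      have h3 : x • ω' = ω' := invol_fix_unique m hF hm hp1 h4 h2 hω'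
      have h5 : ω' = ω₀ := invol_fix_unique m hF hm hx1 (pow_four_of_sq m hx) h3 hω₀
      rw [h5] at hω'
      have : z = x⁻¹ * (x * z) := by group
      rw [this, mul_smul, hω', hxi, hω₀]
  · intro hzω
    obtain ⟨g, hg⟩ := exists_to_inf m hF ω₀
    have hω : ω₀ = g⁻¹ • oinf m := by rw [← hg, inv_smul_smul]
    have key : ∀ t : Sz F m, t * t = 1 → t • ω₀ = ω₀ → ∃ b, g * t * g⁻¹ = tT m hF 0 b := by
      intro t ht htω
      have h1 : (g * t * g⁻¹) * (g * t * g⁻¹) = 1 := by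
        have e : (g * t * g⁻¹) * (g * t * g⁻¹) = g * (t * t) * g⁻¹ := by group
        rw [e, ht, mul_one, mul_inv_cancel]
      have h2 : (g * t * g⁻¹) • (oinf m : suzukiOvoid F m) = oinf m := by
        rw [mul_smul, mul_smul, ← hω, htω, hg]
      obtain ⟨b, hb⟩ := involution_in_stab m hF hm _ h1 (congrArg Subtype.val h2)
      exact ⟨b, hb⟩
    obtain ⟨b, hb⟩ := key x hx hω₀
    obtain ⟨b', hb'⟩ := key z hz hzω
    apply conj_uSub_pow_four m hF g⁻¹
    rw [mem_conjSub, inv_inv]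
    have e : g * (x * z) * g⁻¹ = (g * x * g⁻¹) * (g * z * g⁻¹) := by group
    rw [e, hb, hb', tT_mul]
    exact ⟨_, _, rfl⟩

/-- the number of elements inverted by an involution -/
theorem card_V_invol (hm : 1 ≤ m) {x : Sz F m} (hx1 : x ≠ 1) (hx : x * x = 1) :
    Nat.card {v : Sz F m // InV m x v} + 2 ^ (2 * m + 1) =
      (2 ^ (2 * m + 1) - 1) * ((2 ^ (2 * m + 1)) ^ 2 + 1) + 1 := by
  have hxi : x⁻¹ = x := inv_eq_of_mul_eq_one_left hx
  obtain ⟨ω₀, hω₀, -⟩ := exists_unique_fix m hF hm hx1 (pow_four_of_sq m hx)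
  have h1 : Nat.card {v : Sz F m // InV m x v} =
      Nat.card {z : Sz F m // z * z = 1 ∧ ¬ (x * z) ^ 4 = 1} := by
    apply Nat.card_congr
    refine Equiv.subtypeEquiv (Equiv.mulLeft x) ?_
    intro v
    change InV m x v ↔ (x * v) * (x * v) = 1 ∧ ¬ (x * (x * v)) ^ 4 = 1
    have e : x * (x * v) = v := by rw [← mul_assoc, hx, one_mul]
    rw [e]
    constructor
    · rintro ⟨hv4, hN⟩
      refine ⟨?_, hv4⟩
      have h2 := (invol_normalizes_iff m hF hm hx1 hx hv4).1 hN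
      calc x * v * (x * v) = (x * v * x⁻¹) * v := by rw [hxi]; group
        _ = 1 := by rw [h2, inv_mul_cancel]
    · rintro ⟨hsq, hv4⟩
      refine ⟨hv4, (invol_normalizes_iff m hF hm hx1 hx hv4).2 ?_⟩
      rw [eq_inv_iff_mul_eq_one]
      calc x * v * x⁻¹ * v = x * v * (x * v) := by rw [hxi]; group
        _ = 1 := hsq
  have h2 : Nat.card {z : Sz F m // z * z = 1 ∧ (x * z) ^ 4 = 1} = 2 ^ (2 * m + 1) := by
    rw [← card_sq_one_fix m hF hm ω₀]
    apply Nat.card_congr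
    apply Equiv.subtypeEquivRight
    intro z
    constructor
    · rintro ⟨hz, h4⟩
      exact ⟨hz, (sq_one_comm_iff m hF hm hx1 hx hω₀ hz).1 h4⟩
    · rintro ⟨hz, hzω⟩
      exact ⟨hz, (sq_one_comm_iff m hF hm hx1 hx hω₀ hz).2 hzω⟩
  have h3 := card_split (fun z : Sz F m => z * z = 1) (fun z => (x * z) ^ 4 = 1)
  have h4 := card_split (fun z : Sz F m => z * z = 1) (fun z => z = 1)
  have h5 : Nat.card {z : Sz F m // z * z = 1 ∧ z = 1} = 1 := by
    rw [Nat.card_eq_one_iff_unique]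
    refine ⟨⟨?_⟩, ⟨⟨1, one_mul _, rfl⟩⟩⟩
    rintro ⟨v, -, rfl⟩ ⟨v', -, rfl⟩
    rfl
  have h6 : Nat.card {z : Sz F m // z * z = 1 ∧ ¬ z = 1} =
      (2 ^ (2 * m + 1) - 1) * ((2 ^ (2 * m + 1)) ^ 2 + 1) := card_invol m hF hm
  rw [h2] at h3
  rw [h5, h6] at h4
  rw [h1]
  omega

/-- elements of `InV` do not fix the fixed point of `x` -/
theorem inV_not_fix (hm : 1 ≤ m) {x v : Sz F m} (hx1 : x ≠ 1) (hx4 : x ^ 4 = 1)
    {ω₀ : suzukiOvoid F m} (hω₀ : x • ω₀ = ω₀) (hv : InV m x v) : v • ω₀ ≠ ω₀ := by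
  intro hvω
  obtain ⟨hv4, hxN⟩ := hv
  have hT := isMT_centralizer m hF hm hv4
  have hvT := self_mem_centralizer m v
  obtain ⟨g, hg⟩ := exists_to_inf m hF ω₀
  have hω : ω₀ = g⁻¹ • oinf m := by rw [← hg, inv_smul_smul]
  have h1 : v * x * v⁻¹ * x⁻¹ ∈ Subgroup.centralizer ({v} : Set (Sz F m)) :=
    hT.comm_mem m hF hm (Subgroup.le_normalizer hvT) hxN
  have h2 : (v * x * v⁻¹ * x⁻¹) ^ 4 = 1 := by
    rw [hω] at hvω hω₀
    exact conj_uSub_pow_four m hF g⁻¹ (stab_comm m hF hm g⁻¹ hvω hω₀)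
  have h3 : v * x * v⁻¹ * x⁻¹ = 1 := by
    by_contra hne
    exact hT.pow_four_ne m hF hm h1 hne h2
  have h4 : x * v = v * x := by
    calc x * v = (v * x * v⁻¹ * x⁻¹)⁻¹ * (v * x) := by group
      _ = v * x := by rw [h3, inv_one, one_mul]
  have h5 := hT.not_comm m hF hm hx1 hx4 hvT h4
  apply hv4
  rw [h5, one_pow]

/-- an element of a split torus fixes exactly two points -/
theorem card_fixed_two (hm : 1 ≤ m) {v : Sz F m} (hv4 : v ^ 4 ≠ 1) (hv : ¬ IsFF m v) :
    Nat.card {a : suzukiOvoid F m // v • a = a} = 2 := by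
  have hv1 : v ≠ 1 := by
    rintro rfl
    exact hv4 (one_pow 4)
  rcases trichotomy m hF hm v hv1 with ⟨h, a, b, hab, he⟩ | ⟨h, α, hα, he⟩ | hff
  · exfalso
    apply hv4
    have hv' : v = h⁻¹ * tT m hF a b * (h⁻¹)⁻¹ := by rw [← he]; group
    rw [hv', conj_pow, tT_pow_four, mul_one, mul_inv_cancel]
  · have hv' : v = h⁻¹ * dD m hF α * h := by rw [← he]; group
    have hzero : dD m hF α • opt m (0 : F) 0 = opt m 0 0 := by
      rw [dD_opt]; simp
    rw [Nat.card_eq_two_iff]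
    refine ⟨⟨h⁻¹ • oinf m, ?_⟩, ⟨h⁻¹ • opt m 0 0, ?_⟩, ?_, ?_⟩
    · rw [hv', mul_smul, mul_smul, smul_inv_smul, dD_oinf]
    · rw [hv', mul_smul, mul_smul, smul_inv_smul, hzero]
    · intro hcon
      have := congrArg Subtype.val hcon
      exact (opt_ne_oinf m 0 0) (smul_left_cancel h⁻¹ this).symm
    · rw [Set.eq_univ_iff_forall]
      rintro ⟨a', ha'⟩
      have h1 : dD m hF α • (h • a') = h • a' := by
        rw [← he, mul_smul, mul_smul, inv_smul_smul, ha']
      rcases dD_fix_two m hF hm hα _ h1 with h2 | h2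
      · left
        apply Subtype.ext
        change a' = h⁻¹ • oinf m
        rw [← h2, inv_smul_smul]
      · right
        apply Subtype.ext
        change a' = h⁻¹ • opt m 0 0
        rw [← h2, inv_smul_smul]
  · exact (hv hff).elim

/-- the elements of `InV` fixing a given point, for an involution `x` -/
theorem inV_fix_iff (hm : 1 ≤ m) {x v : Sz F m} (hx1 : x ≠ 1) (hx : x * x = 1)
    {ω₀ a : suzukiOvoid F m} (hω₀ : x • ω₀ = ω₀) (ha : a ≠ ω₀) :
    (InV m x v ∧ v • a = a) ↔ (v ≠ 1 ∧ v • a = a ∧ v • (x • a) = x • a) := by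
  have hxi : x⁻¹ = x := inv_eq_of_mul_eq_one_left hx
  have hxx : x • (x • a) = a := by rw [← mul_smul, hx, one_smul]
  have hxa : x • a ≠ a := by
    intro h
    exact ha (invol_fix_unique m hF hm hx1 (pow_four_of_sq m hx) h hω₀)
  constructor
  · rintro ⟨⟨hv4, hN⟩, hva⟩
    refine ⟨?_, hva, ?_⟩
    · rintro rfl
      exact hv4 (one_pow 4)
    · have h1 := (invol_normalizes_iff m hF hm hx1 hx hv4).1 hN
      have h2 : v⁻¹ • (x • a) = x • a := by
        rw [← h1, mul_smul, mul_smul, inv_smul_smul, hva]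
      rw [inv_smul_eq_iff] at h2
      exact h2.symm
  · rintro ⟨hv1, hva, hvxa⟩
    have hv4 : v ^ 4 ≠ 1 := by
      intro h4
      exact hxa (invol_fix_unique m hF hm hv1 h4 hvxa hva)
    refine ⟨⟨hv4, ?_⟩, hva⟩
    obtain ⟨c, -, -, hc⟩ := two_point_stab m hF hm a (x • a) hxa.symm
    have hD : IsMT m hF (conjSub c (dSub m hF)) := Or.inl ⟨c, rfl⟩
    have hvD : v ∈ conjSub c (dSub m hF) := (hc v).1 ⟨hva, hvxa⟩
    rw [hD.cent m hF hm hvD hv1, Subgroup.mem_normalizer_iff]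
    intro d
    rw [← hc, ← hc]
    constructor
    · rintro ⟨h1, h2⟩
      constructor
      · rw [mul_smul, mul_smul, hxi, h2, hxx]
      · rw [mul_smul, mul_smul, hxi, hxx, h1]
    · rintro ⟨h1, h2⟩
      constructor
      · have := h2
        rw [mul_smul, mul_smul, hxi, hxx] at this
        exact smul_left_cancel x this
      · have := h1
        rw [mul_smul, mul_smul, hxi] at this
        have h3 : x • (d • (x • a)) = x • (x • a) := by rw [this, hxx]
        exact smul_left_cancel x h3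

theorem card_ne_point (ω₀ : suzukiOvoid F m) :
    Nat.card {a : suzukiOvoid F m // ¬ a = ω₀} = (2 ^ (2 * m + 1)) ^ 2 := by
  have h1 := card_split (fun _ : suzukiOvoid F m => True) (fun a => a = ω₀)
  have h2 : Nat.card {a : suzukiOvoid F m // True ∧ a = ω₀} = 1 := by
    rw [Nat.card_eq_one_iff_unique]
    refine ⟨⟨?_⟩, ⟨⟨ω₀, trivial, rfl⟩⟩⟩
    rintro ⟨v, -, rfl⟩ ⟨v', -, h⟩
    exact Subtype.ext h.symm
  have h3 : Nat.card {a : suzukiOvoid F m // True} = (2 ^ (2 * m + 1)) ^ 2 + 1 := by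
    rw [← hF, ← Cfsg.Agent.S0326.result m]
    apply Nat.card_congr
    exact Equiv.subtypeUnivEquiv (fun _ => trivial)
  have h4 : Nat.card {a : suzukiOvoid F m // True ∧ ¬ a = ω₀} =
      Nat.card {a : suzukiOvoid F m // ¬ a = ω₀} := by
    apply Nat.card_congr
    apply Equiv.subtypeEquivRight
    intro a
    simp
  rw [h2, h3, h4] at h1
  omega

/-- the number of point-fixing elements inverted by an involution -/
theorem card_V0_invol (hm : 1 ≤ m) {x : Sz F m} (hx1 : x ≠ 1) (hx : x * x = 1) :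
    2 * Nat.card {v : Sz F m // InV m x v ∧ ¬ IsFF m v} =
      (2 ^ (2 * m + 1) - 2) * (2 ^ (2 * m + 1)) ^ 2 := by
  obtain ⟨ω₀, hω₀, -⟩ := exists_unique_fix m hF hm hx1 (pow_four_of_sq m hx)
  have hA := card_fiber_const (α := Sz F m × suzukiOvoid F m) Prod.fst
    (fun p => InV m x p.1 ∧ p.1 • p.2 = p.2) (fun v => InV m x v ∧ ¬ IsFF m v) 2
    (by
      rintro ⟨v, a⟩ ⟨hV, hva⟩
      exact ⟨hV, fun hff => hff a hva⟩)
    (by
      rintro v ⟨hV, hff⟩
      rw [← card_fixed_two m hF hm hV.1 hff]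
      apply Nat.card_congr
      refine ⟨fun p => ⟨p.1.2, ?_⟩, fun a => ⟨(v, a.1), ⟨hV, a.2⟩, rfl⟩, ?_, ?_⟩
      · obtain ⟨⟨v', a⟩, ⟨-, h1⟩, h2⟩ := p
        change v' = v at h2
        subst h2
        exact h1
      · rintro ⟨⟨v', a⟩, ⟨-, h1⟩, h2⟩
        change v' = v at h2
        subst h2
        rfl
      · intro a
        rfl)
  have hB := card_fiber_const (α := Sz F m × suzukiOvoid F m) Prod.snd
    (fun p => InV m x p.1 ∧ p.1 • p.2 = p.2) (fun a => ¬ a = ω₀) (2 ^ (2 * m + 1) - 2)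
    (by
      rintro ⟨v, a⟩ ⟨hV, hva⟩ rfl
      exact inV_not_fix m hF hm hx1 (pow_four_of_sq m hx) hω₀ hV hva)
    (by
      intro a ha
      have h1 := card_two_point_stab m hF hm a (x • a) (by
        intro h
        exact ha (invol_fix_unique m hF hm hx1 (pow_four_of_sq m hx) h.symm hω₀))
      have h2 : Nat.card {p : Sz F m × suzukiOvoid F m //
          (InV m x p.1 ∧ p.1 • p.2 = p.2) ∧ p.2 = a} =
          Nat.card {v : Sz F m // v ≠ 1 ∧ v • a = a ∧ v • (x • a) = x • a} := by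
        apply Nat.card_congr
        refine ⟨fun p => ⟨p.1.1, ?_⟩, fun v => ⟨(v.1, a), ?_, rfl⟩, ?_, ?_⟩
        · obtain ⟨⟨v, a'⟩, ⟨hV, h1'⟩, h2⟩ := p
          change a' = a at h2
          subst h2
          exact (inV_fix_iff m hF hm hx1 hx hω₀ ha).1 ⟨hV, h1'⟩
        · exact (inV_fix_iff m hF hm hx1 hx hω₀ ha).2 v.2
        · rintro ⟨⟨v, a'⟩, ⟨-, h1⟩, h2⟩
          change a' = a at h2
          subst h2
          rfl
        · intro v
          rfl
      rw [h2]
      omega)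
  rw [card_ne_point m hF ω₀] at hB
  rw [← hA, hB]

/-- the solubilizer of an involution -/
theorem sol_card_invol (hm : 1 ≤ m) (hp : (2 * m + 1).Prime) {x : Sz F m} (hx1 : x ≠ 1)
    (hx : x * x = 1) :
    Nat.card {y : Sz F m // Group.IsSolvable (Subgroup.closure ({x, y} : Set (Sz F m)))} =
      (2 ^ (2 * m + 1)) ^ 2 * (4 * 2 ^ (2 * m + 1) - 3) := by
  have h1 := sol_card_unip m hF hm hp hx1 (pow_four_of_sq m hx)
  have h2 := card_split (InV m x) (IsFF m)
  have h3 := card_V_invol m hF hm hx1 hx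
  have h4 := card_V0_invol m hF hm hx1 hx
  have hq : 2 ^ 3 ≤ 2 ^ (2 * m + 1) := Nat.pow_le_pow_right (by norm_num) (by omega)
  obtain ⟨k, hk⟩ : ∃ k, 2 ^ (2 * m + 1) = k + 2 := ⟨2 ^ (2 * m + 1) - 2, by omega⟩
  rw [h1]
  rw [h2] at h3
  rw [hk] at h3 h4 ⊢
  have e1 : k + 2 - 1 = k + 1 := by omega
  have e2 : k + 2 - 2 = k := by omega
  have e3 : 4 * (k + 2) - 3 = 4 * k + 5 := by omega
  rw [e1] at h3 ⊢
  rw [e2] at h4
  rw [e3]
  nlinarith [h3, h4]

end invol

end Cfsg.Agent.Lib.Helper5.Suzuki
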