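import Cfsg.Agent.Lib.Helper5.SuzukiSolD
import Mathlib

set_option autoImplicit false
open Cfsg
open scoped Matrix Pointwise commutatorElement
open Cfsg.Agent.S0335
open Cfsg.Agent.Lib.Helper5.FixCount

namespace Cfsg.Agent.Lib.Helper5.Suzuki

section gen

/-- in a group of order four, an involution has either no or exactly two square roots, the
former only if all squares are trivial -/
theorem four_group_roots {S : Type*} [Group S] (h4 : Nat.card S = 4) (t : S) (ht1 : t ≠ 1)
    (ht : t * t = 1) : (∀ s : S, s * s = 1) ∨ Nat.card {y : S // y * y = t} = 2 := by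
  classical
  by_cases hall : ∀ s : S, s * s = 1
  · exact Or.inl hall
  right
  push Not at hall
  obtain ⟨s, hs⟩ := hall
  have : Finite S := Nat.finite_of_card_ne_zero (by rw [h4]; norm_num)
  have hs4 : s ^ 4 = 1 := by rw [← h4]; exact pow_card_eq_one'
  have hs1 : s ≠ 1 := by
    rintro rfl
    exact hs (one_mul 1)
  have hs2 : s ^ 2 ≠ 1 := by rwa [pow_two]
  have hs3 : s ^ 3 ≠ 1 := by
    intro h
    apply hs1
    calc s = s ^ 4 * (s ^ 3)⁻¹ := by group
      _ = 1 := by rw [hs4, h, inv_one, one_mul]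
  -- the four powers are distinct
  let f : Fin 4 → S := fun i => s ^ (i : ℕ)
  have hf : Function.Injective f := by
    have key : ∀ i j : Fin 4, i < j → s ^ (i : ℕ) ≠ s ^ (j : ℕ) := by
      intro i j hij h
      have hd : s ^ ((j : ℕ) - (i : ℕ)) = 1 := by
        have hle : (i : ℕ) ≤ (j : ℕ) := le_of_lt hij
        have : s ^ (j : ℕ) = s ^ ((j : ℕ) - (i : ℕ)) * s ^ (i : ℕ) := by
          rw [← pow_add, Nat.sub_add_cancel hle]
        rw [← h] at this
        exact (mul_eq_right.1 this.symm)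
      have hlt : (i : ℕ) < (j : ℕ) := hij
      have hj := j.2
      have : (j : ℕ) - (i : ℕ) = 1 ∨ (j : ℕ) - (i : ℕ) = 2 ∨ (j : ℕ) - (i : ℕ) = 3 := by omega
      rcases this with h' | h' | h'
      · rw [h', pow_one] at hd; exact hs1 hd
      · rw [h'] at hd; exact hs2 hd
      · rw [h'] at hd; exact hs3 hd
    intro i j h
    by_contra hne
    rcases lt_or_gt_of_ne hne with h' | h'
    · exact key i j h' h
    · exact key j i h' h.symm
  have hbij : Function.Bijective f := by
    apply Function.Injective.bijective_of_nat_card_le hf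
    rw [h4, Nat.card_eq_fintype_card, Fintype.card_fin]
  have hsurj : ∀ y : S, y = 1 ∨ y = s ∨ y = s ^ 2 ∨ y = s ^ 3 := by
    intro y
    obtain ⟨i, hi⟩ := hbij.2 y
    fin_cases i
    · left; rw [← hi]; simp [f]
    · right; left; rw [← hi]; simp [f]
    · right; right; left; rw [← hi]
    · right; right; right; rw [← hi]
  have hs6 : s ^ 3 * s ^ 3 = s ^ 2 := by
    calc s ^ 3 * s ^ 3 = s ^ 4 * s ^ 2 := by group
      _ = s ^ 2 := by rw [hs4, one_mul]
  have ht2 : t = s ^ 2 := by
    rcases hsurj t with h | h | h | h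
    · exact (ht1 h).elim
    · rw [h] at ht; exact (hs ht).elim
    · exact h
    · rw [h, hs6] at ht; exact (hs2 ht).elim
  rw [Nat.card_eq_two_iff]
  refine ⟨⟨s, by rw [ht2, pow_two]⟩, ⟨s ^ 3, by rw [ht2, hs6]⟩, ?_, ?_⟩
  · intro h
    have h' : s = s ^ 3 := congrArg Subtype.val h
    apply hs2
    calc s ^ 2 = s ^ 3 * s⁻¹ := by group
      _ = 1 := by rw [← h', mul_inv_cancel]
  · rw [Set.eq_univ_iff_forall]
    rintro ⟨y, hy⟩
    rcases hsurj y with h | h | h | h
    · exfalso
      rw [h, one_mul] at hy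
      exact ht1 hy.symm
    · left
      exact Subtype.ext h
    · exfalso
      rw [h, ht2] at hy
      have : s ^ 2 * s ^ 2 = 1 := by
        calc s ^ 2 * s ^ 2 = s ^ 4 := by group
          _ = 1 := hs4
      rw [this] at hy
      exact hs2 hy.symm
    · right
      exact Subtype.ext h

end gen

section four
variable {F : Type*} [Field F] [Fintype F] [CharP F 2] (m : ℕ)
set_option linter.unusedSectionVars false
variable (hF : Fintype.card F = 2 ^ (2 * m + 1))
include hF

/-- an involution normalising a non-split torus has exactly two square roots in its normaliser -/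
theorem card_roots_normalizer (hm : 1 ≤ m) {t v : Sz F m} (ht1 : t ≠ 1) (ht : t * t = 1)
    (hV : InV m t v) (hff : IsFF m v) :
    Nat.card {y : Sz F m // y * y = t ∧ y ∈ Subgroup.normalizer
      ((Subgroup.centralizer ({v} : Set (Sz F m)) : Subgroup (Sz F m)) : Set (Sz F m))} = 2 := by
  classical
  obtain ⟨hv4, htN⟩ := hV
  have hT : IsMT m hF (Subgroup.centralizer ({v} : Set (Sz F m))) := Or.inr ⟨v, hff, rfl⟩
  set S : Subgroup (Sz F m) := Subgroup.centralizer ({t} : Set (Sz F m)) ⊓
    Subgroup.normalizer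
      ((Subgroup.centralizer ({v} : Set (Sz F m)) : Subgroup (Sz F m)) : Set (Sz F m)) with hS
  have h4 : Nat.card S = 4 := by
    have h1 := hT.card_cent_mul m hF hm ht1 (pow_four_of_sq m ht) htN
    rw [card_normalizer_cent_ff m hF hm hff, mul_comm] at h1
    have hpos : 0 < Nat.card (Subgroup.centralizer ({v} : Set (Sz F m))) := Nat.card_pos
    exact Nat.eq_of_mul_eq_mul_right hpos h1
  have htS : t ∈ S := ⟨self_mem_centralizer m t, htN⟩
  have ht1' : (⟨t, htS⟩ : S) ≠ 1 := fun h => ht1 (congrArg Subtype.val h)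
  have ht' : (⟨t, htS⟩ : S) * ⟨t, htS⟩ = 1 := Subtype.ext ht
  rcases four_group_roots h4 ⟨t, htS⟩ ht1' ht' with hall | hcard
  · exfalso
    have : Finite S := Nat.finite_of_card_ne_zero (by rw [h4]; norm_num)
    have _ : Fintype S := Fintype.ofFinite _
    have h3 : 2 < Fintype.card S := by rw [← Nat.card_eq_fintype_card, h4]; norm_num
    obtain ⟨a, b, c, hab, hac, hbc⟩ := Fintype.two_lt_card_iff.1 h3
    have hex : ∃ s : S, s ≠ 1 ∧ s ≠ ⟨t, htS⟩ := by
      by_contra hcon
      push Not at hcon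
      have ha := hcon a
      have hb := hcon b
      have hc := hcon c
      by_cases ha1 : a = 1 <;> by_cases hb1 : b = 1 <;> by_cases hc1 : c = 1
      · exact hab (ha1.trans hb1.symm)
      · exact hab (ha1.trans hb1.symm)
      · exact hac (ha1.trans hc1.symm)
      · exact hbc ((hb hb1).trans (hc hc1).symm)
      · exact hbc (hb1.trans hc1.symm)
      · exact hac ((ha ha1).trans (hc hc1).symm)
      · exact hab ((ha ha1).trans (hb hb1).symm)
      · exact hab ((ha ha1).trans (hb hb1).symm)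
    obtain ⟨⟨s, hsS⟩, hs1, hst⟩ := hex
    have hs1' : s ≠ 1 := fun h => hs1 (Subtype.ext h)
    have hst' : s ≠ t := fun h => hst (Subtype.ext h)
    have hss : s * s = 1 := congrArg Subtype.val (hall ⟨s, hsS⟩)
    have hcomm : s * t = t * s := Subgroup.mem_centralizer_singleton_iff.1 hsS.1
    have hsN := hsS.2
    have hti : t⁻¹ = t := inv_eq_of_mul_eq_one_left ht
    have hp1 : s * t ≠ 1 := by
      intro h
      apply hst'
      rw [← hti]
      exact eq_inv_of_mul_eq_one_left h
    have hpp : (s * t) * (s * t) = 1 := by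
      calc (s * t) * (s * t) = s * (t * s) * t := by group
        _ = s * (s * t) * t := by rw [hcomm]
        _ = (s * s) * (t * t) := by group
        _ = 1 := by rw [hss, ht, one_mul]
    have hpN : s * t ∈ Subgroup.normalizer
        ((Subgroup.centralizer ({v} : Set (Sz F m)) : Subgroup (Sz F m)) : Set (Sz F m)) :=
      Subgroup.mul_mem _ hsN htN
    have e1 := (invol_normalizes_iff m hF hm hs1' hss hv4).1 hsN
    have e2 := (invol_normalizes_iff m hF hm ht1 ht hv4).1 htN
    have e3 := (invol_normalizes_iff m hF hm hp1 hpp hv4).1 hpN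
    have e4 : s * t * v * (s * t)⁻¹ = v := by
      calc s * t * v * (s * t)⁻¹ = s * (t * v * t⁻¹) * s⁻¹ := by group
        _ = s * v⁻¹ * s⁻¹ := by rw [e2]
        _ = (s * v * s⁻¹)⁻¹ := by group
        _ = v := by rw [e1, inv_inv]
    rw [e4] at e3
    apply hv4
    have hvv : v * v = 1 := by
      calc v * v = v * v⁻¹ := by rw [← e3]
        _ = 1 := mul_inv_cancel v
    exact pow_four_of_sq m hvv
  · rw [← hcard]
    apply Nat.card_congr
    refine ⟨fun y => ⟨⟨y.1, ?_, y.2.2⟩, Subtype.ext y.2.1⟩,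
      fun y => ⟨y.1.1, congrArg Subtype.val y.2, y.1.2.2⟩, fun y => rfl, fun y => rfl⟩
    change y.1 ∈ Subgroup.centralizer ({t} : Set (Sz F m))
    rw [Subgroup.mem_centralizer_singleton_iff]
    obtain ⟨y, hy, -⟩ := y
    change y * t = t * y
    rw [← hy, mul_assoc]

/-- the additive map governing conjugation of elements of order four -/
theorem exists_phi (a : F) (ha : a ≠ 0) (δ : F) :
    ∃ c : F, sg m c * a + sg m a * c = δ ∨ sg m c * a + sg m a * c = δ + sg m a * a := by
  have h2 := two_eq_zero' (F := F)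
  have hsa : sg m a ≠ 0 := fun h => ha (sg_eq_zero m a h)
  let φ : F →+ F := AddMonoidHom.mk' (fun c => sg m c * a + sg m a * c) (by
    intro c c'
    change sg m (c + c') * a + sg m a * (c + c') = _
    rw [sg_add]
    ring)
  have hφ : ∀ c, φ c = sg m c * a + sg m a * c := fun c => rfl
  have hker : ∀ c, φ c = 0 ↔ c = 0 ∨ c = a := by
    intro c
    rw [hφ]
    constructor
    · intro h
      have h1 : sg m (c / a) = c / a := by
        rw [sg_div]
        field_simp
        linear_combination h - sg m a * c * h2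
      rcases sg_eq_self m hF _ h1 with h' | h'
      · left
        rcases div_eq_zero_iff.1 h' with h'' | h''
        · exact h''
        · exact (ha h'').elim
      · right
        field_simp at h'
        exact h'
    · rintro (rfl | rfl)
      · rw [sg_zero]; ring
      · linear_combination sg m c * c * h2
  have hkc : Nat.card φ.ker = 2 := by
    rw [Nat.card_eq_two_iff]
    refine ⟨⟨0, by rw [AddMonoidHom.mem_ker, map_zero]⟩,
      ⟨a, by rw [AddMonoidHom.mem_ker]; exact (hker a).2 (Or.inr rfl)⟩, ?_, ?_⟩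
    · intro h
      exact ha (congrArg Subtype.val h).symm
    · rw [Set.eq_univ_iff_forall]
      rintro ⟨c, hc⟩
      rw [AddMonoidHom.mem_ker] at hc
      rcases (hker c).1 hc with rfl | rfl
      · left; rfl
      · right; rfl
  have hidx : φ.range.index = 2 := by
    have h1 := AddSubgroup.card_mul_index φ.ker
    rw [AddSubgroup.index_ker, hkc] at h1
    have h3 := AddSubgroup.card_mul_index φ.range
    rw [← h1] at h3
    have hpos : 0 < Nat.card φ.range := Nat.card_pos
    have : Nat.card φ.range * φ.range.index = Nat.card φ.range * 2 := by rw [h3, mul_comm]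
    exact Nat.eq_of_mul_eq_mul_left hpos this
  have he : sg m a * a ∉ φ.range := by
    rintro ⟨c, hc⟩
    rw [hφ] at hc
    apply sg_add_ne_one m hF (c / a)
    rw [sg_div]
    field_simp
    linear_combination hc
  have h3 := AddSubgroup.add_mem_iff_of_index_two hidx (a := δ) (b := sg m a * a)
  by_cases hδ : δ ∈ φ.range
  · obtain ⟨c, hc⟩ := hδ
    exact ⟨c, Or.inl hc⟩
  · have : δ + sg m a * a ∈ φ.range := by
      rw [h3]
      exact ⟨fun h => (hδ h).elim, fun h => (he h).elim⟩
    obtain ⟨c, hc⟩ := this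
    exact ⟨c, Or.inr hc⟩

/-- an element of the point stabiliser whose square is unipotent is unipotent -/
theorem unipotent_of_sq (hm : 1 ≤ m) {y : Sz F m} {e : F}
    (hy : y * y = tT m hF 0 e) (hinf : y • (oinf m : suzukiOvoid F m) = oinf m) :
    ∃ a' b', y = tT m hF a' b' := by
  obtain ⟨a, b, α, rfl⟩ := stab_inf m hF hm y (congrArg Subtype.val hinf)
  have h1 : tT m hF a b * dD m hF α * (tT m hF a b * dD m hF α) =
      tT m hF (a + α * a) (b + sg m (α : F) * α * b + sg m a * (α * a)) * dD m hF (α * α) := by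
    rw [mul_assoc, ← mul_assoc (dD m hF α), dD_mul_tT, mul_assoc, dD_mul, ← mul_assoc, tT_mul]
  rw [h1] at hy
  have h3 : tT m hF (0 : F) e = tT m hF 0 e * dD m hF 1 := by rw [dD_one, mul_one]
  rw [h3] at hy
  obtain ⟨-, -, e3⟩ := decomp_unique m hF hy
  have hα : α = 1 := by
    apply Units.ext
    rw [Units.val_one]
    apply sq_inj_char2
    rw [one_pow, pow_two, ← Units.val_mul, e3, Units.val_one]
  exact ⟨a, b, by rw [hα, dD_one, mul_one]⟩

/-- an element of order four in standard position -/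
theorem order_four_param (hm : 1 ≤ m) {x : Sz F m} (hx4 : x ^ 4 = 1) (hxx : x * x ≠ 1) :
    ∃ (h : Sz F m) (a b : F), a ≠ 0 ∧ h * x * h⁻¹ = tT m hF a b := by
  have hx1 : x ≠ 1 := by
    rintro rfl
    exact hxx (one_mul 1)
  obtain ⟨h, a, b, hab, he⟩ := uni_of_pow_four m hF hm hx1 hx4
  have ht : (h * x * h⁻¹) * (h * x * h⁻¹) = tT m hF 0 (sg m a * a) := by
    rw [he, tT_sq]
  have ha : a ≠ 0 := by
    rintro rfl
    apply hxx
    rw [mul_zero, tT_zero] at ht
    have e : x * x = h⁻¹ * ((h * x * h⁻¹) * (h * x * h⁻¹)) * h := by group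
    rw [e, ht]
    group
  exact ⟨h, a, b, ha, he⟩

/-- the square roots of the square of an element of order four, in standard position -/
theorem sqrt_param (hm : 1 ≤ m) {x y h : Sz F m} {a b : F} (ha : a ≠ 0)
    (he : h * x * h⁻¹ = tT m hF a b) (hy : y * y = x * x) :
    ∃ b' : F, h * y * h⁻¹ = tT m hF a b' := by
  have ht : (h * x * h⁻¹) * (h * x * h⁻¹) = tT m hF 0 (sg m a * a) := by
    rw [he, tT_sq]
  have hy' : (h * y * h⁻¹) * (h * y * h⁻¹) = tT m hF 0 (sg m a * a) := by
    rw [← ht]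
    have e : (h * y * h⁻¹) * (h * y * h⁻¹) = h * (y * y) * h⁻¹ := by group
    rw [e, hy]
    group
  have hsa : sg m a ≠ 0 := fun h' => ha (sg_eq_zero m a h')
  have ht1 : tT m hF 0 (sg m a * a) ≠ 1 := by
    rw [tT_ne_one_iff]
    rintro ⟨-, h'⟩
    exact mul_ne_zero hsa ha h'
  have hcomm : (h * y * h⁻¹) * tT m hF 0 (sg m a * a) = tT m hF 0 (sg m a * a) * (h * y * h⁻¹) := by
    rw [← hy']
    group
  have hinf := comm_fix m hF hm ht1 (tT_pow_four m hF _ _) (tT_oinf m hF _ _) hcomm
  obtain ⟨a', b', hab'⟩ := unipotent_of_sq m hF hm hy' hinf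
  rw [hab', tT_sq] at hy'
  have h5 := (tT_inj m hF hy').2
  have haa : a' = a := by
    have h6 : sg m (a' / a) * (a' / a) = 1 := by
      rw [sg_div]
      field_simp
      exact h5
    have h7 := sg_mul_self_eq_one m hF _ h6
    field_simp at h7
    exact h7
  exact ⟨b', by rw [hab', haa]⟩

/-- square roots of the same involution are conjugate up to inversion -/
theorem sqrt_conj (hm : 1 ≤ m) {x y : Sz F m} (hx4 : x ^ 4 = 1) (hxx : x * x ≠ 1)
    (hy : y * y = x * x) : ∃ c : Sz F m, c * x * c⁻¹ = y ∨ c * x * c⁻¹ = y⁻¹ := by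
  have h2 := two_eq_zero' (F := F)
  obtain ⟨h, a, b, ha, he⟩ := order_four_param m hF hm hx4 hxx
  obtain ⟨b', hb'⟩ := sqrt_param m hF hm ha he hy
  obtain ⟨c₀, hc₀⟩ := exists_phi m hF a ha (b + b')
  refine ⟨h⁻¹ * tT m hF c₀ 0 * h, ?_⟩
  have e1 : h⁻¹ * tT m hF c₀ 0 * h * x * (h⁻¹ * tT m hF c₀ 0 * h)⁻¹ =
      h⁻¹ * (tT m hF c₀ 0 * (h * x * h⁻¹) * (tT m hF c₀ 0)⁻¹) * h := by group
  rw [e1, he, tT_conj]
  rcases hc₀ with hc | hc
  · left
    have e2 : b + sg m c₀ * a + sg m a * c₀ = b' := by linear_combination hc + b * h2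
    rw [e2, ← hb']
    group
  · right
    have e2 : b + sg m c₀ * a + sg m a * c₀ = b' + sg m a * a := by
      linear_combination hc + b * h2
    rw [e2, ← tT_inv, ← hb']
    group

/-- the number of square roots of the square of an element of order four -/
theorem card_sqrt (hm : 1 ≤ m) {x : Sz F m} (hx4 : x ^ 4 = 1) (hxx : x * x ≠ 1) :
    Nat.card {y : Sz F m // y * y = x * x} = 2 ^ (2 * m + 1) := by
  obtain ⟨h, a, b, ha, he⟩ := order_four_param m hF hm hx4 hxx
  rw [← hF, ← Nat.card_eq_fintype_card]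
  symm
  apply Nat.card_congr
  refine Equiv.ofBijective (fun b' => ⟨h⁻¹ * tT m hF a b' * h, ?_⟩) ⟨?_, ?_⟩
  · have e : h⁻¹ * tT m hF a b' * h * (h⁻¹ * tT m hF a b' * h) =
        h⁻¹ * (tT m hF a b' * tT m hF a b') * h := by group
    have e' : x * x = h⁻¹ * ((h * x * h⁻¹) * (h * x * h⁻¹)) * h := by group
    rw [e, e', he, tT_sq, tT_sq]
  · intro b₁ b₂ hb
    have h1 : h⁻¹ * tT m hF a b₁ * h = h⁻¹ * tT m hF a b₂ * h := congrArg Subtype.val hb
    have h2 : tT m hF a b₁ = tT m hF a b₂ := by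
      have := mul_right_cancel h1
      exact mul_left_cancel this
    exact (tT_inj m hF h2).2
  · rintro ⟨y, hy⟩
    obtain ⟨b', hb'⟩ := sqrt_param m hF hm ha he hy
    refine ⟨b', ?_⟩
    apply Subtype.ext
    change h⁻¹ * tT m hF a b' * h = y
    rw [← hb']
    group

/-- a torus normalised by an element of order four is non-split -/
theorem inV_ff_of_order_four (hm : 1 ≤ m) {x v : Sz F m} (hx4 : x ^ 4 = 1) (hxx : x * x ≠ 1)
    (hV : InV m x v) : IsFF m v := by
  by_contra hff
  obtain ⟨hv4, hxN⟩ := hV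
  have h1 := card_normalizer_cent_fix m hF hm hv4 hff
  have h2 := pow_card_of_mem m hxN
  rw [h1] at h2
  have hodd := (isMT_centralizer m hF hm hv4).card_odd m hF hm
  obtain ⟨j, hj⟩ : ∃ j, Nat.card (Subgroup.centralizer ({v} : Set (Sz F m))) = 2 * j + 1 :=
    ⟨Nat.card (Subgroup.centralizer ({v} : Set (Sz F m))) / 2, by omega⟩
  rw [hj] at h2
  apply hxx
  have e : x ^ (2 * (2 * j + 1)) = (x ^ 4) ^ j * (x * x) := by
    rw [← pow_mul, ← pow_two, ← pow_add]
    congr 1
    ring
  rw [e, hx4, one_pow, one_mul] at h2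
  exact h2

omit hF in
theorem inV_sq {y v : Sz F m} (hV : InV m y v) : InV m (y * y) v :=
  ⟨hV.1, Subgroup.mul_mem _ hV.2 hV.2⟩

omit hF in
theorem inV_inv_iff {y v : Sz F m} : InV m y⁻¹ v ↔ InV m y v := by
  unfold InV
  rw [Subgroup.inv_mem_iff]

omit hF in
theorem inV_conj_iff (c x v : Sz F m) : InV m (c * x * c⁻¹) (c * v * c⁻¹) ↔ InV m x v := by
  unfold InV
  rw [centralizer_conj, normalizer_conjSub, mem_conjSub]
  have e : c⁻¹ * (c * x * c⁻¹) * c = x := by group
  rw [e, conj_pow]
  constructor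
  · rintro ⟨h1, h2⟩
    refine ⟨?_, h2⟩
    intro h
    apply h1
    rw [h, mul_one, mul_inv_cancel]
  · rintro ⟨h1, h2⟩
    refine ⟨?_, h2⟩
    intro h
    apply h1
    have e' : v ^ 4 = c⁻¹ * (c * v ^ 4 * c⁻¹) * c := by group
    rw [e', h]
    group

omit hF in
theorem card_inV_conj (c x : Sz F m) :
    Nat.card {v : Sz F m // InV m (c * x * c⁻¹) v} = Nat.card {v : Sz F m // InV m x v} := by
  symm
  apply Nat.card_congr
  refine Equiv.subtypeEquiv (MulAut.conj c).toEquiv ?_
  intro v
  exact (inV_conj_iff m c x v).symm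

/-- all square roots of the square of `x` normalise equally many tori -/
theorem card_inV_sqrt (hm : 1 ≤ m) {x y : Sz F m} (hx4 : x ^ 4 = 1) (hxx : x * x ≠ 1)
    (hy : y * y = x * x) :
    Nat.card {v : Sz F m // InV m y v} = Nat.card {v : Sz F m // InV m x v} := by
  obtain ⟨c, hc | hc⟩ := sqrt_conj m hF hm hx4 hxx hy
  · rw [← hc, card_inV_conj]
  · rw [← card_inV_conj m c x, hc]
    apply Nat.card_congr
    apply Equiv.subtypeEquivRight
    intro v
    exact (inV_inv_iff m).symm

/-- the number of elements whose torus is normalised by an element of order four -/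
theorem card_V_order_four (hm : 1 ≤ m) {x : Sz F m} (hx4 : x ^ 4 = 1) (hxx : x * x ≠ 1) :
    Nat.card {v : Sz F m // InV m x v} = (2 ^ (2 * m + 1)) ^ 2 := by
  have ht : (x * x) * (x * x) = 1 := by
    rw [← hx4]
    simp only [pow_succ, pow_zero, one_mul, mul_assoc]
  have hA := card_fiber_const (α := Sz F m × Sz F m) Prod.fst
    (fun p => p.1 * p.1 = x * x ∧ InV m p.1 p.2) (fun y => y * y = x * x)
    (Nat.card {v : Sz F m // InV m x v})
    (by
      rintro ⟨y, v⟩ ⟨hy, -⟩
      exact hy)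
    (by
      intro y hy
      rw [← card_inV_sqrt m hF hm hx4 hxx hy]
      apply Nat.card_congr
      refine ⟨fun p => ⟨p.1.2, ?_⟩, fun v => ⟨(y, v.1), ⟨hy, v.2⟩, rfl⟩, ?_, ?_⟩
      · obtain ⟨⟨y', v⟩, ⟨-, h1⟩, h2⟩ := p
        change y' = y at h2
        subst h2
        exact h1
      · rintro ⟨⟨y', v⟩, ⟨-, h1⟩, h2⟩
        change y' = y at h2
        subst h2
        rfl
      · intro v
        rfl)
  have hB := card_fiber_const (α := Sz F m × Sz F m) Prod.snd
    (fun p => p.1 * p.1 = x * x ∧ InV m p.1 p.2) (fun v => InV m (x * x) v ∧ IsFF m v) 2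
    (by
      rintro ⟨y, v⟩ ⟨hy, hV⟩
      have hy4 : y ^ 4 = 1 := by
        have e : y ^ 4 = (y * y) * (y * y) := by
          simp only [pow_succ, pow_zero, one_mul, mul_assoc]
        rw [e]
        change (y * y) * (y * y) = 1
        have hy' : y * y = x * x := hy
        rw [hy', ht]
      have hyy : y * y ≠ 1 := by
        have hy' : y * y = x * x := hy
        rw [hy']
        exact hxx
      refine ⟨?_, inV_ff_of_order_four m hF hm hy4 hyy hV⟩
      have := inV_sq m hV
      have hy' : y * y = x * x := hy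
      rwa [hy'] at this)
    (by
      rintro v ⟨hV, hff⟩
      rw [← card_roots_normalizer m hF hm hxx ht hV hff]
      apply Nat.card_congr
      refine ⟨fun p => ⟨p.1.1, ?_⟩, fun y => ⟨(y.1, v), ⟨y.2.1, hV.1, y.2.2⟩, rfl⟩, ?_, ?_⟩
      · obtain ⟨⟨y, v'⟩, ⟨h0, h1⟩, h2⟩ := p
        change v' = v at h2
        subst h2
        exact ⟨h0, h1.2⟩
      · rintro ⟨⟨y, v'⟩, ⟨-, h1⟩, h2⟩
        change v' = v at h2
        subst h2
        rfl
      · intro y
        rfl)
  rw [card_sqrt m hF hm hx4 hxx] at hA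
  have h2 := card_split (InV m (x * x)) (IsFF m)
  have h3 := card_V_invol m hF hm hxx ht
  have h4 := card_V0_invol m hF hm hxx ht
  have hq : 2 ^ 3 ≤ 2 ^ (2 * m + 1) := Nat.pow_le_pow_right (by norm_num) (by omega)
  obtain ⟨k, hk⟩ : ∃ k, 2 ^ (2 * m + 1) = k + 2 := ⟨2 ^ (2 * m + 1) - 2, by omega⟩
  rw [hA] at hB
  rw [h2] at h3
  rw [hk] at h3 h4 hB ⊢
  have e1 : k + 2 - 1 = k + 1 := by omega
  have e2 : k + 2 - 2 = k := by omega
  rw [e1] at h3
  rw [e2] at h4
  have hpos : 0 < k + 2 := by omega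
  apply Nat.eq_of_mul_eq_mul_right hpos
  nlinarith [h3, h4, hB]

/-- the solubilizer of an element of order four -/
theorem sol_card_order_four (hm : 1 ≤ m) (hp : (2 * m + 1).Prime) {x : Sz F m}
    (hx4 : x ^ 4 = 1) (hxx : x * x ≠ 1) :
    Nat.card {y : Sz F m // Group.IsSolvable (Subgroup.closure ({x, y} : Set (Sz F m)))} =
      (2 ^ (2 * m + 1)) ^ 2 * (2 ^ (2 * m + 1) + 3) := by
  have hx1 : x ≠ 1 := by
    rintro rfl
    exact hxx (one_mul 1)
  have h1 := sol_card_unip m hF hm hp hx1 hx4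
  have h2 := card_split (InV m x) (IsFF m)
  have h3 := card_V_order_four m hF hm hx4 hxx
  have h4 : Nat.card {v : Sz F m // InV m x v ∧ ¬ IsFF m v} = 0 := by
    have : IsEmpty {v : Sz F m // InV m x v ∧ ¬ IsFF m v} :=
      ⟨fun v => v.2.2 (inV_ff_of_order_four m hF hm hx4 hxx v.2.1)⟩
    exact Nat.card_of_isEmpty
  rw [h4, zero_add] at h2
  rw [h1, h4, ← h2, h3]
  have hq : 2 ^ 3 ≤ 2 ^ (2 * m + 1) := Nat.pow_le_pow_right (by norm_num) (by omega)
  obtain ⟨k, hk⟩ : ∃ k, 2 ^ (2 * m + 1) = k + 1 := ⟨2 ^ (2 * m + 1) - 1, by omega⟩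
  rw [hk]
  have e1 : k + 1 - 1 = k := by omega
  rw [e1]
  ring

end four

end Cfsg.Agent.Lib.Helper5.Suzuki
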