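import Cfsg.Agent.Lib.Helper5.SuzukiAutD
import Mathlib

set_option autoImplicit false
open Cfsg
open scoped Matrix Pointwise commutatorElement
open Cfsg.Agent.S0335

namespace Cfsg.Agent.Lib.Helper5.Suzuki

section sub
variable {F : Type*} [Field F] [Fintype F] [CharP F 2] (m : ℕ)
variable {K : Type*} [Field K] [Fintype K] [CharP K 2] (k : ℕ)
set_option linter.unusedSectionVars false

omit [Fintype F] [CharP F 2] in
theorem pow_card_pow (s : ℕ) (x : F) (hx : x ^ s = x) (j : ℕ) : x ^ (s ^ j) = x := by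
  induction j with
  | zero => rw [pow_zero, pow_one]
  | succ j ih => rw [pow_succ, pow_mul, ih, hx]

omit [Fintype F] [CharP F 2] in
/-- compatibility of the two Frobenius twists on the subfield -/
theorem twist_compat (j : ℕ) (hmk : m = k + (2 * k + 1) * j) (x : F)
    (hx : x ^ (2 ^ (2 * k + 1)) = x) :
    x ^ (2 ^ (m + 1)) = x ^ (2 ^ (k + 1)) ∧ x ^ (2 ^ m) = x ^ (2 ^ k) := by
  have h1 := pow_card_pow (2 ^ (2 * k + 1)) x hx j
  constructor
  · have : 2 ^ (m + 1) = (2 ^ (2 * k + 1)) ^ j * 2 ^ (k + 1) := by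
      rw [hmk, ← pow_mul, ← pow_add]
      congr 1
      ring
    rw [this, pow_mul, h1]
  · have : 2 ^ m = (2 ^ (2 * k + 1)) ^ j * 2 ^ k := by
      rw [← pow_mul, ← pow_add]
      congr 1
      rw [hmk]; ring
    rw [this, pow_mul, h1]

omit [Fintype F] [CharP F 2] [CharP K 2] in
theorem map_pow_card (hK : Fintype.card K = 2 ^ (2 * k + 1)) (ψ : K →+* F) (a : K) :
    (ψ a) ^ (2 ^ (2 * k + 1)) = ψ a := by
  rw [← map_pow, ← hK, FiniteField.pow_card]

omit [Fintype F] [CharP F 2] [CharP K 2] in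
theorem sg_map' (hK : Fintype.card K = 2 ^ (2 * k + 1)) (j : ℕ) (hmk : m = k + (2 * k + 1) * j)
    (ψ : K →+* F) (a : K) : ψ (sg k a) = sg m (ψ a) := by
  unfold sg
  rw [map_pow, (twist_compat m k j hmk (ψ a) (map_pow_card k hK ψ a)).1]

omit [Fintype F] [CharP F 2] [CharP K 2] in
theorem ff_map' (hK : Fintype.card K = 2 ^ (2 * k + 1)) (j : ℕ) (hmk : m = k + (2 * k + 1) * j)
    (ψ : K →+* F) (a b : K) : ψ (ff k a b) = ff m (ψ a) (ψ b) := by
  unfold ff
  simp only [map_add, map_mul, map_pow, sg_map' m k hK j hmk]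

omit [Fintype F] [CharP F 2] [CharP K 2] in
theorem Tm_map' (hK : Fintype.card K = 2 ^ (2 * k + 1)) (j : ℕ) (hmk : m = k + (2 * k + 1) * j)
    (ψ : K →+* F) (a b : K) : (Tm k a b).map ψ = Tm m (ψ a) (ψ b) := by
  ext i l
  fin_cases i <;> fin_cases l <;> simp [Tm, sg_map' m k hK j hmk, ff_map' m k hK j hmk]

omit [Fintype F] [CharP F 2] [CharP K 2] in
theorem Dm_map' (hK : Fintype.card K = 2 ^ (2 * k + 1)) (j : ℕ) (hmk : m = k + (2 * k + 1) * j)
    (ψ : K →+* F) (α : Kˣ) :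
    (Dm k α).map ψ = Dm m (Units.map (ψ : K →* F) α) := by
  have h1 : ((Units.map (ψ : K →* F) α : Fˣ) : F) = ψ α := rfl
  have h2 : (((Units.map (ψ : K →* F) α)⁻¹ : Fˣ) : F) = ψ ((α⁻¹ : Kˣ) : K) := by
    rw [← map_inv]; rfl
  have c1 := (twist_compat m k j hmk (ψ α) (map_pow_card k hK ψ α)).2
  have c2 := (twist_compat m k j hmk (ψ ((α⁻¹ : Kˣ) : K)) (map_pow_card k hK ψ _)).2
  ext i l
  fin_cases i <;> fin_cases l <;> simp [Dm, h1, h2, Matrix.diagonal, pow_succ, c1]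

/-- the map on special linear groups induced by a field homomorphism -/
noncomputable def slMap' (ψ : K →+* F) :
    Matrix.SpecialLinearGroup (Fin 4) K →* Matrix.SpecialLinearGroup (Fin 4) F :=
  Matrix.SpecialLinearGroup.map ψ

theorem slMap'_tS (hK : Fintype.card K = 2 ^ (2 * k + 1)) (j : ℕ) (hmk : m = k + (2 * k + 1) * j)
    (ψ : K →+* F) (a b : K) : slMap' ψ (tS k a b) = tS m (ψ a) (ψ b) := by
  apply Subtype.ext
  change (Matrix.SpecialLinearGroup.map ψ (tS k a b)).1 = _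
  rw [Matrix.SpecialLinearGroup.map_apply_coe, RingHom.mapMatrix_apply]
  exact Tm_map' m k hK j hmk ψ a b

theorem slMap'_wS (ψ : K →+* F) :
    slMap' ψ (wS : Matrix.SpecialLinearGroup (Fin 4) K) = wS := by
  apply Subtype.ext
  change (Matrix.SpecialLinearGroup.map ψ wS).1 = _
  rw [Matrix.SpecialLinearGroup.map_apply_coe, RingHom.mapMatrix_apply]
  ext i l
  fin_cases i <;> fin_cases l <;> simp [wS, Wm]

theorem slMap'_dS (hK : Fintype.card K = 2 ^ (2 * k + 1)) (j : ℕ) (hmk : m = k + (2 * k + 1) * j)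
    (ψ : K →+* F) (α : Kˣ) :
    slMap' ψ (dS k α) = dS m (Units.map (ψ : K →* F) α) := by
  apply Subtype.ext
  change (Matrix.SpecialLinearGroup.map ψ (dS k α)).1 = _
  rw [Matrix.SpecialLinearGroup.map_apply_coe, RingHom.mapMatrix_apply]
  exact Dm_map' m k hK j hmk ψ α

theorem slMap'_mem (hF : Fintype.card F = 2 ^ (2 * m + 1)) (hK : Fintype.card K = 2 ^ (2 * k + 1)) (hk : 1 ≤ k) (j : ℕ) (hmk : m = k + (2 * k + 1) * j) (ψ : K →+* F)
    (g : Sz K k) : slMap' ψ g.1 ∈ Sz F m := by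
  rcases cases k hK hk g with ⟨a, b, α, rfl⟩ | ⟨a, b, a', b', α, rfl⟩
  · change slMap' ψ (tS k a b * dS k α) ∈ Sz F m
    rw [map_mul, slMap'_tS m k hK j hmk, slMap'_dS m k hK j hmk]
    exact (Sz F m).mul_mem (tS_mem m hF _ _) (dS_mem m hF _)
  · change slMap' ψ (tS k a b * wS * tS k a' b' * dS k α) ∈ Sz F m
    rw [map_mul, map_mul, map_mul, slMap'_tS m k hK j hmk, slMap'_tS m k hK j hmk,
      slMap'_dS m k hK j hmk, slMap'_wS]
    exact (Sz F m).mul_mem ((Sz F m).mul_mem ((Sz F m).mul_mem (tS_mem m hF _ _) (wS_mem m hF))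
      (tS_mem m hF _ _)) (dS_mem m hF _)

/-- the embedding of the smaller Suzuki group induced by a field homomorphism -/
noncomputable def embHom (hF : Fintype.card F = 2 ^ (2 * m + 1)) (hK : Fintype.card K = 2 ^ (2 * k + 1)) (hk : 1 ≤ k) (j : ℕ) (hmk : m = k + (2 * k + 1) * j) (ψ : K →+* F) :
    Sz K k →* Sz F m :=
  ((slMap' ψ).comp (Sz K k).subtype).codRestrict (Sz F m)
    (fun g => slMap'_mem m k hF hK hk j hmk ψ g)

theorem embHom_tT (hF : Fintype.card F = 2 ^ (2 * m + 1)) (hK : Fintype.card K = 2 ^ (2 * k + 1)) (hk : 1 ≤ k) (j : ℕ) (hmk : m = k + (2 * k + 1) * j) (ψ : K →+* F) (a b : K) :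
    embHom m k hF hK hk j hmk ψ (tT k hK a b) = tT m hF (ψ a) (ψ b) :=
  Subtype.ext (slMap'_tS m k hK j hmk ψ a b)

theorem embHom_wW (hF : Fintype.card F = 2 ^ (2 * m + 1)) (hK : Fintype.card K = 2 ^ (2 * k + 1)) (hk : 1 ≤ k) (j : ℕ) (hmk : m = k + (2 * k + 1) * j) (ψ : K →+* F) :
    embHom m k hF hK hk j hmk ψ (wW k hK) = wW m hF :=
  Subtype.ext (slMap'_wS ψ)

theorem embHom_dD (hF : Fintype.card F = 2 ^ (2 * m + 1)) (hK : Fintype.card K = 2 ^ (2 * k + 1)) (hk : 1 ≤ k) (j : ℕ) (hmk : m = k + (2 * k + 1) * j) (ψ : K →+* F) (α : Kˣ) :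
    embHom m k hF hK hk j hmk ψ (dD k hK α) = dD m hF (Units.map (ψ : K →* F) α) :=
  Subtype.ext (slMap'_dS m k hK j hmk ψ α)

theorem embHom_injective (hF : Fintype.card F = 2 ^ (2 * m + 1)) (hK : Fintype.card K = 2 ^ (2 * k + 1)) (hk : 1 ≤ k) (j : ℕ) (hmk : m = k + (2 * k + 1) * j) (ψ : K →+* F) :
    Function.Injective (embHom m k hF hK hk j hmk ψ) := by
  intro g g' h
  have h1 : (slMap' ψ g.1).1 = (slMap' ψ g'.1).1 := congrArg (fun x : Sz F m => x.1.1) h
  apply Subtype.ext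
  apply Subtype.ext
  change (Matrix.SpecialLinearGroup.map ψ g.1).1 = (Matrix.SpecialLinearGroup.map ψ g'.1).1 at h1
  rw [Matrix.SpecialLinearGroup.map_apply_coe, Matrix.SpecialLinearGroup.map_apply_coe,
    RingHom.mapMatrix_apply, RingHom.mapMatrix_apply] at h1
  ext i l
  have := congrFun (congrFun h1 i) l
  exact ψ.injective this

theorem exists_ringHom (hF : Fintype.card F = 2 ^ (2 * m + 1))
    (hK : Fintype.card K = 2 ^ (2 * k + 1)) (hdiv : 2 * k + 1 ∣ 2 * m + 1) :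
    Nonempty (K →+* F) := by
  letI : Algebra (ZMod 2) F := ZMod.algebra F 2
  letI : Algebra (ZMod 2) K := ZMod.algebra K 2
  have h1 : Module.finrank (ZMod 2) F = 2 * m + 1 := by
    have := Module.card_eq_pow_finrank (K := ZMod 2) (V := F)
    rw [hF, ZMod.card] at this
    exact (Nat.pow_right_injective (le_refl 2) this).symm
  have h2 : Module.finrank (ZMod 2) K = 2 * k + 1 := by
    have := Module.card_eq_pow_finrank (K := ZMod 2) (V := K)
    rw [hK, ZMod.card] at this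
    exact (Nat.pow_right_injective (le_refl 2) this).symm
  obtain ⟨f⟩ := FiniteField.nonempty_algHom_of_finrank_dvd (F := ZMod 2) (K := K) (L := F)
    (by rw [h1, h2]; exact hdiv)
  exact ⟨f.toRingHom⟩

theorem exists_j (hdiv : 2 * k + 1 ∣ 2 * m + 1) : ∃ j : ℕ, m = k + (2 * k + 1) * j := by
  obtain ⟨d, hd⟩ := hdiv
  have hodd : d % 2 = 1 := by
    have h1 : (2 * m + 1) % 2 = 1 := by omega
    rw [hd, Nat.mul_mod] at h1
    have h2 : (2 * k + 1) % 2 = 1 := by omega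
    rw [h2, one_mul, Nat.mod_mod] at h1
    exact h1
  refine ⟨d / 2, ?_⟩
  have hd2 : d = 2 * (d / 2) + 1 := by omega
  have : 2 * m + 1 = (2 * k + 1) * (2 * (d / 2) + 1) := by rw [← hd2]; exact hd
  have h3 : 2 * m + 1 = 2 * (k + (2 * k + 1) * (d / 2)) + 1 := by rw [this]; ring
  omega

omit [CharP F 2] [CharP K 2] in
/-- any two embeddings of the small field have the same image -/
theorem same_image (hK : Fintype.card K = 2 ^ (2 * k + 1)) (ψ₁ ψ₂ : K →+* F) (a : K) :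
    ∃ a' : K, ψ₁ a' = ψ₂ a := by
  classical
  have hs : 1 < 2 ^ (2 * k + 1) := Nat.one_lt_two_pow (by omega)
  set P : Polynomial F := Polynomial.X ^ (2 ^ (2 * k + 1)) - Polynomial.X with hP
  have hP0 : P ≠ 0 := FiniteField.X_pow_card_sub_X_ne_zero F hs
  have hdeg : P.natDegree = 2 ^ (2 * k + 1) := FiniteField.X_pow_card_sub_X_natDegree_eq F hs
  have hroot : ∀ ψ : K →+* F, ∀ x : K, ψ x ∈ P.roots.toFinset := by
    intro ψ x
    rw [Multiset.mem_toFinset, Polynomial.mem_roots hP0, Polynomial.IsRoot.def, hP]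
    simp only [Polynomial.eval_sub, Polynomial.eval_pow, Polynomial.eval_X]
    rw [map_pow_card k hK ψ x, sub_self]
  have hsub : (Finset.univ.image ψ₁) ⊆ P.roots.toFinset := by
    intro y hy
    obtain ⟨x, -, rfl⟩ := Finset.mem_image.1 hy
    exact hroot ψ₁ x
  have hcard : P.roots.toFinset.card ≤ (Finset.univ.image ψ₁).card := by
    rw [Finset.card_image_of_injective _ ψ₁.injective, Finset.card_univ, hK, ← hdeg]
    exact (Multiset.toFinset_card_le _).trans (Polynomial.card_roots' P)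
  have heq := Finset.eq_of_subset_of_card_le hsub hcard
  have := hroot ψ₂ a
  rw [← heq] at this
  obtain ⟨a', -, ha'⟩ := Finset.mem_image.1 this
  exact ⟨a', ha'⟩

/-- the image of the embedding does not depend on the field homomorphism -/
theorem embHom_range_le (hF : Fintype.card F = 2 ^ (2 * m + 1))
    (hK : Fintype.card K = 2 ^ (2 * k + 1)) (hk : 1 ≤ k) (j : ℕ)
    (hmk : m = k + (2 * k + 1) * j) (ψ₁ ψ₂ : K →+* F) :
    (embHom m k hF hK hk j hmk ψ₂).range ≤ (embHom m k hF hK hk j hmk ψ₁).range := by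
  have ht : ∀ a b, embHom m k hF hK hk j hmk ψ₂ (tT k hK a b) ∈
      (embHom m k hF hK hk j hmk ψ₁).range := by
    intro a b
    obtain ⟨a', ha'⟩ := same_image k hK ψ₁ ψ₂ a
    obtain ⟨b', hb'⟩ := same_image k hK ψ₁ ψ₂ b
    refine ⟨tT k hK a' b', ?_⟩
    rw [embHom_tT, embHom_tT, ha', hb']
  have hd : ∀ α, embHom m k hF hK hk j hmk ψ₂ (dD k hK α) ∈
      (embHom m k hF hK hk j hmk ψ₁).range := by
    intro α
    obtain ⟨a', ha'⟩ := same_image k hK ψ₁ ψ₂ (α : K)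
    have hne : a' ≠ 0 := by
      intro h
      rw [h, map_zero] at ha'
      exact α.ne_zero ((map_eq_zero ψ₂).1 ha'.symm)
    refine ⟨dD k hK (Units.mk0 a' hne), ?_⟩
    rw [embHom_dD, embHom_dD]
    congr 1
    apply Units.ext
    exact ha'
  have hw : embHom m k hF hK hk j hmk ψ₂ (wW k hK) ∈ (embHom m k hF hK hk j hmk ψ₁).range :=
    ⟨wW k hK, by rw [embHom_wW, embHom_wW]⟩
  rintro _ ⟨g, rfl⟩
  rcases cases k hK hk g with ⟨a, b, α, rfl⟩ | ⟨a, b, a', b', α, rfl⟩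
  · rw [map_mul]
    exact Subgroup.mul_mem _ (ht a b) (hd α)
  · rw [map_mul, map_mul, map_mul]
    exact Subgroup.mul_mem _ (Subgroup.mul_mem _ (Subgroup.mul_mem _ (ht a b) hw) (ht a' b')) (hd α)

theorem embHom_range_eq (hF : Fintype.card F = 2 ^ (2 * m + 1))
    (hK : Fintype.card K = 2 ^ (2 * k + 1)) (hk : 1 ≤ k) (j : ℕ)
    (hmk : m = k + (2 * k + 1) * j) (ψ₁ ψ₂ : K →+* F) :
    (embHom m k hF hK hk j hmk ψ₂).range = (embHom m k hF hK hk j hmk ψ₁).range :=
  le_antisymm (embHom_range_le m k hF hK hk j hmk ψ₁ ψ₂) (embHom_range_le m k hF hK hk j hmk ψ₂ ψ₁)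

end sub

end Cfsg.Agent.Lib.Helper5.Suzuki
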