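import Cfsg.Agent.Lib.Helper5.SuzukiSub
import Mathlib

set_option autoImplicit false
open Cfsg
open scoped Matrix Pointwise commutatorElement
open Cfsg.Agent.S0335

namespace Cfsg.Agent.Lib.Helper5.Suzuki

section subB
variable {F : Type*} [Field F] [Fintype F] [CharP F 2] (m : ℕ)
variable {K : Type*} [Field K] [Fintype K] [CharP K 2] (k : ℕ)
set_option linter.unusedSectionVars false
variable (hF : Fintype.card F = 2 ^ (2 * m + 1)) (hK : Fintype.card K = 2 ^ (2 * k + 1))

/-- a normalised embedding of a small Suzuki group into a big one -/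
structure NormHom (θ : Sz K k →* Sz F m) : Prop where
  inj : Function.Injective θ
  t0 : ∀ a b, ∃ a' b', θ (tT k hK a b) = tT m hF a' b'
  d0 : ∀ κ, ∃ κ', θ (dD k hK κ) = dD m hF κ'
  w0 : ∃ δ, θ (wW k hK) = dD m hF δ * wW m hF

variable {θ : Sz K k →* Sz F m}

set_option maxHeartbeats 1600000 in
/-- a normalised embedding is a diagonal conjugate of a field embedding -/
theorem NormHom.decomp (hθ : NormHom m k hF hK θ) (hk : 1 ≤ k) (j : ℕ)
    (hmk : m = k + (2 * k + 1) * j) :
    ∃ (c₀ : Fˣ) (ψ : K →+* F),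
      θ = (MulAut.conj (dD m hF c₀)).toMonoidHom.comp (embHom m k hF hK hk j hmk ψ) := by
  have h2 := two_eq_zero' (F := F)
  have h2K := two_eq_zero' (F := K)
  choose f g hfg using hθ.t0
  choose μ hμ using hθ.d0
  obtain ⟨δ, hδ⟩ := hθ.w0
  -- (1)
  have hf0 : ∀ b, f 0 b = 0 := by
    intro b
    have h1 : tT k hK 0 b * tT k hK 0 b = 1 := by rw [tT_sq, sg_zero, zero_mul, tT_zero]
    have h3 := congrArg θ h1
    rw [map_mul, map_one, hfg, tT_sq, tT_eq_one_iff] at h3
    rcases mul_eq_zero.1 h3.2 with h | h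
    · exact sg_eq_zero m _ h
    · exact h
  -- (2)
  have hmul : ∀ a b a' b', f (a + a') (b + b' + sg k a * a') = f a b + f a' b' ∧
      g (a + a') (b + b' + sg k a * a') = g a b + g a' b' + sg m (f a b) * f a' b' := by
    intro a b a' b'
    have h1 := congrArg θ (tT_mul k hK a b a' b')
    rw [map_mul, hfg, hfg, hfg, tT_mul] at h1
    have := tT_inj m hF h1
    exact ⟨this.1.symm, this.2.symm⟩
  have h00 : f 0 0 = 0 ∧ g 0 0 = 0 := by
    have h1 := hfg 0 0
    rw [tT_zero, map_one, eq_comm, tT_eq_one_iff] at h1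
    exact h1
  -- (3)
  have hfa : ∀ a b, f a b = f a 0 := by
    intro a b
    have := (hmul a 0 0 b).1
    rw [add_zero, zero_add, mul_zero, add_zero, hf0, add_zero] at this
    exact this
  -- (4)
  have hlam_add : ∀ a a', f (a + a') 0 = f a 0 + f a' 0 := by
    intro a a'
    have := (hmul a 0 a' 0).1
    rw [hfa] at this
    exact this
  have hlam0 : f 0 0 = 0 := h00.1
  -- (5)
  have hgsplit : ∀ a b, g a b = g a 0 + g 0 b := by
    intro a b
    have := (hmul a 0 0 b).2
    rw [add_zero, zero_add, mul_zero, add_zero, hf0, mul_zero, add_zero] at this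
    exact this
  -- (8)
  have hμmul : ∀ κ κ', μ (κ * κ') = μ κ * μ κ' := by
    intro κ κ'
    have h1 := congrArg θ (dD_mul k hK κ κ')
    rw [map_mul, hμ, hμ, hμ, dD_mul] at h1
    exact (dD_inj m hF h1).symm
  -- (9)
  have hequiv : ∀ (κ : Kˣ) a b, f (κ * a) (sg k (κ : K) * κ * b) = μ κ * f a b ∧
      g (κ * a) (sg k (κ : K) * κ * b) = sg m (μ κ : F) * μ κ * g a b := by
    intro κ a b
    have h1 := congrArg θ (dD_conj k hK κ a b)
    rw [map_mul, map_mul, map_inv, hμ, hfg, hfg, dD_conj] at h1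
    have := tT_inj m hF h1
    exact ⟨this.1.symm, this.2.symm⟩
  -- (10)
  have hc : f 1 0 ≠ 0 := by
    intro h
    have h1 : θ (tT k hK 1 0 * tT k hK 1 0) = 1 := by
      rw [map_mul, hfg, h, tT_sq, sg_zero, zero_mul, tT_zero]
    rw [← map_one θ] at h1
    have h3 := hθ.inj h1
    rw [tT_sq, tT_eq_one_iff, sg_one, one_mul] at h3
    exact one_ne_zero h3.2
  obtain ⟨c, hcdef⟩ : ∃ c : F, c = f 1 0 := ⟨_, rfl⟩
  rw [← hcdef] at hc
  -- (11)
  have hlamκ : ∀ (κ : Kˣ) a, f (κ * a) 0 = μ κ * f a 0 := by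
    intro κ a
    have := (hequiv κ a 0).1
    rw [mul_zero] at this
    exact this
  let ψh : K →+* F :=
    { toFun := fun x => f x 0 / c
      map_one' := by
        change f 1 0 / c = 1
        rw [← hcdef]
        exact div_self hc
      map_mul' := by
        intro x y
        change f (x * y) 0 / c = f x 0 / c * (f y 0 / c)
        by_cases hx : x = 0
        · rw [hx, zero_mul, hlam0, zero_div, zero_mul]
        · have h1 := hlamκ (Units.mk0 x hx) y
          have h3 := hlamκ (Units.mk0 x hx) 1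
          rw [Units.val_mk0] at h1 h3
          rw [mul_one, ← hcdef] at h3
          rw [h1, h3]
          field_simp
      map_zero' := by
        change f 0 0 / c = 0
        rw [hlam0, zero_div]
      map_add' := by
        intro x y
        change f (x + y) 0 / c = f x 0 / c + f y 0 / c
        rw [hlam_add, add_div] }
  have hψdef : ∀ x, ψh x = f x 0 / c := fun x => rfl
  have hlamψ : ∀ x, f x 0 = c * ψh x := by
    intro x
    rw [hψdef]
    field_simp
  have hψμ : ∀ κ : Kˣ, ψh (κ : K) = μ κ := by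
    intro κ
    rw [hψdef]
    have := hlamκ κ 1
    rw [mul_one, ← hcdef] at this
    rw [this]
    field_simp
  -- (13)
  have hν0 : g 0 0 = 0 := h00.2
  have hνκ : ∀ (κ : Kˣ) b, g 0 (sg k (κ : K) * κ * b) = sg m (μ κ : F) * μ κ * g 0 b := by
    intro κ b
    have := (hequiv κ 0 b).2
    rw [mul_zero] at this
    exact this
  obtain ⟨c', hc'def⟩ : ∃ c' : F, c' = g 0 1 := ⟨_, rfl⟩
  have hν : ∀ x, g 0 x = c' * ψh x := by
    intro x
    by_cases hx : x = 0
    · rw [hx, hν0, map_zero, mul_zero]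
    · obtain ⟨κ, hκ⟩ := exists_sg_mul_self k hK x hx
      have h1 := hνκ κ 1
      rw [mul_one, hκ, ← hc'def] at h1
      rw [h1, ← hψμ, ← sg_map' m k hK j hmk, ← map_mul, hκ]
      ring
  -- (14)
  have hG0κ : ∀ (κ : Kˣ) a, g (κ * a) 0 = sg m (μ κ : F) * μ κ * g a 0 := by
    intro κ a
    have := (hequiv κ a 0).2
    rw [mul_zero] at this
    exact this
  have hc' : c' = sg m c * c := by
    have h1 := (hmul 1 0 1 0).2
    have h11 : (1 : K) + 1 = 0 := by linear_combination h2K
    simp only [h11, add_zero, zero_add, sg_one, one_mul] at h1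
    rw [← hc'def, ← hcdef] at h1
    linear_combination h1 + g 1 0 * h2
  have hcc' : c' ≠ 0 := by
    rw [hc']
    exact mul_ne_zero (fun h => hc (sg_eq_zero m _ h)) hc
  -- (16)
  have hb₀ : ((tT k hK 1 0 * wW k hK)⁻¹ * (wW k hK * tT k hK 0 1 * wW k hK)) •
      (oinf k : suzukiOvoid K k) = oinf k := by
    have hff : ff k (0 : K) 1 = 1 := by
      unfold ff
      rw [sg_zero, sg_one]
      ring
    rw [mul_smul, inv_smul_eq_iff, mul_smul, mul_smul, mul_smul, wW_oinf, tT_opt, tT_opt,
      wW_opt k hK _ _ (by rw [zero_add, sg_zero, zero_mul, zero_add, zero_add, hff]; exact one_ne_zero)]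
    simp only [zero_add, sg_zero, mul_zero, add_zero, hff, div_one]
  have hb₀' : θ ((tT k hK 1 0 * wW k hK)⁻¹ * (wW k hK * tT k hK 0 1 * wW k hK)) •
      (oinf m : suzukiOvoid F m) = oinf m := by
    obtain ⟨a, b, κ, hab⟩ := stab_inf k hK hk _ (congrArg Subtype.val hb₀)
    rw [hab, map_mul, hfg, hμ, mul_smul, dD_oinf, tT_oinf]
  have hrel : θ (wW k hK * tT k hK 0 1 * wW k hK) • (oinf m : suzukiOvoid F m) =
      θ (tT k hK 1 0 * wW k hK) • (oinf m : suzukiOvoid F m) := by
    have e : wW k hK * tT k hK 0 1 * wW k hK = (tT k hK 1 0 * wW k hK) *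
        ((tT k hK 1 0 * wW k hK)⁻¹ * (wW k hK * tT k hK 0 1 * wW k hK)) := by group
    rw [e, map_mul, mul_smul, hb₀']
  have hffc : ff m (0 : F) c' = sg m c' := by
    unfold ff
    rw [sg_zero]
    ring
  have hsc' : sg m c' ≠ 0 := fun h => hcc' (sg_eq_zero m _ h)
  have h01 : f 0 1 = 0 := hf0 1
  have hL : θ (wW k hK * tT k hK 0 1 * wW k hK) • (oinf m : suzukiOvoid F m) =
      opt m (δ * (c' / sg m c')) 0 := by
    rw [map_mul, map_mul, hδ, hfg, h01, ← hc'def]
    simp only [mul_smul]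
    rw [wW_oinf, dD_opt, mul_zero, mul_zero, tT_opt]
    simp only [zero_add, sg_zero, zero_mul]
    rw [wW_opt m hF 0 c' (by rw [hffc]; exact hsc'), hffc, zero_div, dD_opt, mul_zero]
  have hR : θ (tT k hK 1 0 * wW k hK) • (oinf m : suzukiOvoid F m) = opt m c (g 1 0) := by
    rw [map_mul, hδ, hfg, ← hcdef]
    simp only [mul_smul]
    rw [wW_oinf, dD_opt, mul_zero, mul_zero, tT_opt]
    simp only [zero_add, mul_zero]
  rw [hL, hR] at hrel
  obtain ⟨hr1, hr2⟩ := opt_inj m hrel
  have hG01 : g 1 0 = 0 := hr2.symm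
  have hG0 : ∀ x, g x 0 = 0 := by
    intro x
    by_cases hx : x = 0
    · rw [hx]; exact hν0
    · have := hG0κ (Units.mk0 x hx) 1
      rw [Units.val_mk0, mul_one, hG01, mul_zero] at this
      exact this
  -- (17)
  have hδc : (δ : F) = c * c := by
    have hsc : sg m c ≠ 0 := fun h => hc (sg_eq_zero m _ h)
    have h1 : (δ : F) * c' = c * sg m c' := by
      field_simp at hr1
      linear_combination hr1
    rw [hc', sg_mul, sg_sg m hF] at h1
    have h3 : ((δ : F) - c * c) * (sg m c * c) = 0 := by linear_combination h1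
    rcases mul_eq_zero.1 h3 with h | h
    · exact sub_eq_zero.1 h
    · exact absurd h (mul_ne_zero hsc hc)
  -- (18)
  refine ⟨Units.mk0 c hc, ψh, ?_⟩
  apply hom_ext_gen k hK hk
  · intro a b
    change θ (tT k hK a b) = MulAut.conj (dD m hF (Units.mk0 c hc))
      (embHom m k hF hK hk j hmk ψh (tT k hK a b))
    rw [embHom_tT, MulAut.conj_apply, dD_conj, hfg, hfa, hgsplit, hG0, hν,
      hlamψ, Units.val_mk0, hc', zero_add]
  · intro κ
    change θ (dD k hK κ) = MulAut.conj (dD m hF (Units.mk0 c hc))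
      (embHom m k hF hK hk j hmk ψh (dD k hK κ))
    rw [embHom_dD, MulAut.conj_apply, dD_inv, dD_mul, dD_mul, hμ]
    congr 1
    apply Units.ext
    rw [mul_comm, ← mul_assoc, inv_mul_cancel, one_mul, ← hψμ]
    rfl
  · change θ (wW k hK) = MulAut.conj (dD m hF (Units.mk0 c hc))
      (embHom m k hF hK hk j hmk ψh (wW k hK))
    rw [embHom_wW, MulAut.conj_apply, dD_inv, mul_assoc, wW_mul_dD, inv_inv,
      ← mul_assoc, dD_mul, hδ]
    congr 2
    apply Units.ext
    rw [Units.val_mul, Units.val_mk0, hδc]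

end subB

end Cfsg.Agent.Lib.Helper5.Suzuki
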