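import Cfsg.Agent.Lib.Helper5.SuzukiSubB
import Mathlib

set_option autoImplicit false
open Cfsg
open scoped Matrix Pointwise commutatorElement
open Cfsg.Agent.S0335

namespace Cfsg.Agent.Lib.Helper5.Suzuki

section subC
variable {F : Type*} [Field F] [Fintype F] [CharP F 2] (m : ℕ)
variable {K : Type*} [Field K] [Fintype K] [CharP K 2] (k : ℕ)
set_option linter.unusedSectionVars false
variable (hF : Fintype.card F = 2 ^ (2 * m + 1)) (hK : Fintype.card K = 2 ^ (2 * k + 1))

/-- a non-identity diagonal element fixes only the two standard points -/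
theorem dD_fix_only (hm : 1 ≤ m) {α : Fˣ} (hα : α ≠ 1) (ω : suzukiOvoid F m)
    (hω : dD m hF α • ω = ω) : ω = oinf m ∨ ω = opt m 0 0 := by
  have hzero : dD m hF α • opt m (0 : F) 0 = opt m 0 0 := by
    rw [dD_opt]; simp
  by_contra hcon
  push Not at hcon
  exact dD_ne_one m hF hα (fix_three m hF hm (dD m hF α) (oinf m) (opt m 0 0) ω
    (opt_ne_oinf m 0 0).symm hcon.2.symm hcon.1.symm (dD_oinf m hF α) hzero hω)

/-- composing with an inner automorphism -/
def conjHom (h : Sz F m) (θ : Sz K k →* Sz F m) : Sz K k →* Sz F m :=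
  (MulAut.conj h).toMonoidHom.comp θ

theorem conjHom_apply (h : Sz F m) (θ : Sz K k →* Sz F m) (x : Sz K k) :
    conjHom m k h θ x = h * θ x * h⁻¹ := rfl

theorem conjHom_injective (h : Sz F m) (θ : Sz K k →* Sz F m) (hθ : Function.Injective θ) :
    Function.Injective (conjHom m k h θ) := by
  intro x y hxy
  rw [conjHom_apply, conjHom_apply] at hxy
  exact hθ (mul_left_cancel (mul_right_cancel hxy))

theorem conjHom_conjHom (h h' : Sz F m) (θ : Sz K k →* Sz F m) :
    conjHom m k h (conjHom m k h' θ) = conjHom m k (h * h') θ := by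
  ext x
  rw [conjHom_apply, conjHom_apply, conjHom_apply]
  group

/-- step 1: move the image of the unipotent subgroup into the standard one -/
theorem norm_step1 (hm : 1 ≤ m) (θ : Sz K k →* Sz F m) :
    ∃ h : Sz F m, ∀ a b, ∃ a' b', conjHom m k h θ (tT k hK a b) = tT m hF a' b' := by
  have : Fact (Nat.Prime 2) := ⟨Nat.prime_two⟩
  have hp : IsPGroup 2 (uSub k hK) := by
    apply IsPGroup.of_card (n := 2 * (2 * k + 1))
    rw [card_uSub k hK, ← pow_mul, mul_comm]
  obtain ⟨Q, hQ⟩ := (hp.map θ).exists_le_sylow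
  obtain ⟨g, hg⟩ := sylow_conj m hF hm Q
  refine ⟨g⁻¹, fun a b => ?_⟩
  have h1 : θ (tT k hK a b) ∈ (Q : Subgroup (Sz F m)) :=
    hQ (Subgroup.mem_map_of_mem θ ⟨a, b, rfl⟩)
  obtain ⟨a', b', h2⟩ := (hg _).1 h1
  refine ⟨a', b', ?_⟩
  rw [conjHom_apply, h2]
  group

variable {θ : Sz K k →* Sz F m}

/-- step 2: the image of the torus fixes the point at infinity -/
theorem norm_step2 (hθ : Function.Injective θ)
    (t0 : ∀ a b, ∃ a' b', θ (tT k hK a b) = tT m hF a' b') (κ : Kˣ) :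
    θ (dD k hK κ) • (oinf m : suzukiOvoid F m) = oinf m := by
  obtain ⟨a₁, b₁, h1⟩ := t0 1 0
  obtain ⟨a₂, b₂, h2⟩ := t0 ((κ : K) * 1) (sg k (κ : K) * κ * 0)
  have hne : ¬ (a₂ = 0 ∧ b₂ = 0) := by
    intro h
    rw [(tT_eq_one_iff m hF a₂ b₂).2 h, ← map_one θ] at h2
    have h3 := (tT_eq_one_iff k hK _ _).1 (hθ h2)
    rw [mul_one] at h3
    exact κ.ne_zero h3.1
  have hc := congrArg θ (dD_conj k hK κ 1 0)
  rw [map_mul, map_mul, map_inv, h1, h2] at hc
  apply tT_fix_only m hF hne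
  rw [← hc, mul_smul, mul_smul, inv_smul_smul, tT_oinf]

/-- an element of order dividing four in the torus is trivial -/
theorem unit_pow_four (κ : Kˣ) (h : κ ^ 4 = 1) : κ = 1 := by
  apply Units.ext
  rw [Units.val_one]
  apply sq_inj_char2
  apply sq_inj_char2
  rw [one_pow, one_pow, ← pow_mul]
  have := congrArg (fun u : Kˣ => (u : K)) h
  simpa using this

theorem tT_pow_four (a b : F) : (tT m hF a b) ^ 4 = 1 := by
  have h2 := two_eq_zero' (F := F)
  have e : (tT m hF a b) ^ 4 = (tT m hF a b * tT m hF a b) * (tT m hF a b * tT m hF a b) := by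
    simp only [pow_succ, pow_zero, one_mul, mul_assoc]
  rw [e, tT_sq, tT_sq, sg_zero, zero_mul, tT_zero]

/-- step 3: after a further conjugation the torus maps into the torus -/
theorem norm_step3 (hm : 1 ≤ m) (hk : 1 ≤ k) (hθ : Function.Injective θ)
    (t0 : ∀ a b, ∃ a' b', θ (tT k hK a b) = tT m hF a' b') :
    ∃ h : Sz F m, (∀ a b, ∃ a' b', conjHom m k h θ (tT k hK a b) = tT m hF a' b') ∧
      (∀ κ, ∃ κ', conjHom m k h θ (dD k hK κ) = dD m hF κ') := by
  obtain ⟨κ₁, hκ₁⟩ := exists_unit_ne_one k hK hk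
  obtain ⟨a, b, α₁, hd₁⟩ := stab_inf m hF hm _
    (congrArg Subtype.val (norm_step2 m k hF hK hθ t0 κ₁))
  have hα₁ : α₁ ≠ 1 := by
    intro h
    rw [h, dD_one, mul_one] at hd₁
    have h4 : θ (dD k hK (κ₁ ^ 4)) = 1 := by
      have : dD k hK (κ₁ ^ 4) = (dD k hK κ₁) ^ 4 := by
        simp only [pow_succ, pow_zero, one_mul, dD_mul]
      rw [this, map_pow, hd₁, tT_pow_four]
    rw [← map_one θ] at h4
    have h5 := hθ h4
    rw [← dD_one k hK] at h5
    exact hκ₁ (unit_pow_four κ₁ (dD_inj k hK h5))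
  obtain ⟨x, y, hxy⟩ := exists_second_fixed m hF a b α₁ hα₁
  rw [← hd₁] at hxy
  refine ⟨(tT m hF x y)⁻¹, ?_, ?_⟩
  · intro a b
    obtain ⟨a', b', h1⟩ := t0 a b
    have : (tT m hF x y)⁻¹ * tT m hF a' b' * (tT m hF x y)⁻¹⁻¹ ∈ uSub m hF :=
      (uSub m hF).mul_mem ((uSub m hF).mul_mem ((uSub m hF).inv_mem ⟨x, y, rfl⟩) ⟨a', b', rfl⟩)
        ((uSub m hF).inv_mem ((uSub m hF).inv_mem ⟨x, y, rfl⟩))
    obtain ⟨a'', b'', h2⟩ := this
    exact ⟨a'', b'', by rw [conjHom_apply, h1, h2]⟩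
  · -- the image of κ₁ is diagonal and non-trivial
    have hinf : ∀ κ, conjHom m k (tT m hF x y)⁻¹ θ (dD k hK κ) • (oinf m : suzukiOvoid F m) =
        oinf m := by
      intro κ
      rw [conjHom_apply, mul_smul, mul_smul, inv_inv, tT_oinf, norm_step2 m k hF hK hθ t0 κ,
        inv_smul_eq_iff, tT_oinf]
    have hzero : conjHom m k (tT m hF x y)⁻¹ θ (dD k hK κ₁) • opt m (0 : F) 0 = opt m 0 0 := by
      rw [conjHom_apply, mul_smul, mul_smul, inv_inv, tT_opt]
      simp only [zero_add, mul_zero]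
      rw [hxy, tT_inv_opt]
    obtain ⟨β, hβ⟩ := two_point' m hF hm _ (congrArg Subtype.val (hinf κ₁))
      (congrArg Subtype.val hzero)
    have hβ1 : β ≠ 1 := by
      intro h
      rw [h, dD_one, ← map_one (conjHom m k (tT m hF x y)⁻¹ θ)] at hβ
      have h5 := conjHom_injective m k _ θ hθ hβ
      rw [← dD_one k hK] at h5
      exact hκ₁ (dD_inj k hK h5)
    intro κ
    apply cent_dD m hF hm hβ1
    rw [← hβ, ← map_mul, ← map_mul, dD_mul, dD_mul, mul_comm]

/-- step 4: the image of the inversion -/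
theorem norm_step4 (hm : 1 ≤ m) (hk : 1 ≤ k) (hθ : Function.Injective θ)
    (d0 : ∀ κ, ∃ κ', θ (dD k hK κ) = dD m hF κ') :
    ∃ δ, θ (wW k hK) = dD m hF δ * wW m hF := by
  obtain ⟨κ₁, hκ₁⟩ := exists_unit_ne_one k hK hk
  obtain ⟨β, hβ⟩ := d0 κ₁
  have hβ1 : β ≠ 1 := by
    intro h
    rw [h, dD_one, ← map_one θ] at hβ
    have h5 := hθ hβ
    rw [← dD_one k hK] at h5
    exact hκ₁ (dD_inj k hK h5)
  obtain ⟨t, ht⟩ : ∃ t, t = θ (wW k hK) := ⟨_, rfl⟩
  have htt : t * t = 1 := by rw [ht, ← map_mul, wW_mul_wW, map_one]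
  -- t * dD β = dD β⁻¹ * t
  have hrel : t * dD m hF β = dD m hF β⁻¹ * t := by
    have := congrArg θ (wW_mul_dD k hK κ₁)
    rw [map_mul, map_mul, hβ, ← dD_inv, map_inv, hβ, dD_inv, ← ht] at this
    exact this
  have hrel' : dD m hF β * t = t * dD m hF β⁻¹ := by
    have e : dD m hF β * t = dD m hF β * (t * dD m hF β) * dD m hF β⁻¹ := by
      rw [mul_assoc, mul_assoc, dD_mul, mul_inv_cancel, dD_one, mul_one]
    rw [e, hrel, ← mul_assoc, dD_mul, mul_inv_cancel, dD_one, one_mul]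
  have hzero : ∀ γ : Fˣ, dD m hF γ • opt m (0 : F) 0 = opt m 0 0 := by
    intro γ
    rw [dD_opt]; simp
  have h1 : dD m hF β • (t • (oinf m : suzukiOvoid F m)) = t • oinf m := by
    rw [← mul_smul, hrel', mul_smul, dD_oinf]
  rcases dD_fix_only m hF hm hβ1 _ h1 with h3 | h3
  · exfalso
    obtain ⟨b, hb⟩ := involution_in_stab m hF hm t htt (congrArg Subtype.val h3)
    rw [hb, dD_mul_tT] at hrel
    have e : tT m hF 0 b * dD m hF β = tT m hF 0 b * dD m hF β := rfl
    have h4 := (decomp_unique m hF hrel).2.2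
    apply hβ1
    apply Units.ext
    rw [Units.val_one]
    apply sq_inj_char2
    rw [one_pow, pow_two, ← Units.val_mul]
    nth_rewrite 1 [h4]
    rw [inv_mul_cancel, Units.val_one]
  · have h4 : t • opt m (0 : F) 0 = oinf m := by
      rw [← h3, ← mul_smul, htt, one_smul]
    obtain ⟨δ, hδ⟩ := two_point' m hF hm (t * wW m hF)
      (by
        have : (t * wW m hF) • (oinf m : suzukiOvoid F m) = oinf m := by
          rw [mul_smul, wW_oinf, h4]
        exact congrArg Subtype.val this)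
      (by
        have : (t * wW m hF) • opt m (0 : F) 0 = opt m 0 0 := by
          rw [mul_smul, wW_opt_zero, h3]
        exact congrArg Subtype.val this)
    refine ⟨δ, ?_⟩
    rw [← ht, ← hδ, mul_assoc, wW_mul_wW, mul_one]

/-- every embedding can be normalised by an inner automorphism -/
theorem exists_normHom (hm : 1 ≤ m) (hk : 1 ≤ k) (θ : Sz K k →* Sz F m)
    (hθ : Function.Injective θ) : ∃ h : Sz F m, NormHom m k hF hK (conjHom m k h θ) := by
  obtain ⟨h₁, t1⟩ := norm_step1 m k hF hK hm θ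
  have hinj1 := conjHom_injective m k h₁ θ hθ
  obtain ⟨h₂, t2, d2⟩ := norm_step3 m k hF hK hm hk hinj1 t1
  rw [conjHom_conjHom] at t2 d2
  have hinj2 := conjHom_injective m k (h₂ * h₁) θ hθ
  exact ⟨h₂ * h₁, hinj2, t2, d2, norm_step4 m k hF hK hm hk hinj2 d2⟩

end subC

end Cfsg.Agent.Lib.Helper5.Suzuki
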