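import Cfsg.Agent.Lib.Helper5.SuzukiEvenC
import Cfsg.Agent.Lib.Helper5.SuzukiSubC
import Mathlib

set_option autoImplicit false
open Cfsg
open scoped Matrix Pointwise commutatorElement
open Cfsg.Agent.S0335
open Cfsg.Agent.Lib.Helper5.FixCount

namespace Cfsg.Agent.Lib.Helper5.Suzuki

section conjgen
variable {G : Type*} [Group G]

theorem le_of_conjSub_le {M X : Subgroup G} {c : G} (h : conjSub c M ≤ X) :
    M ≤ conjSub c⁻¹ X := by
  intro x hx
  rw [mem_conjSub, inv_inv]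
  exact h (conj_mem_conjSub c M hx)

theorem eq_top_of_conjSub_eq_top {M : Subgroup G} {c : G} (h : conjSub c M = ⊤) : M = ⊤ := by
  rw [eq_top_iff]
  intro x _
  have h1 : c * x * c⁻¹ ∈ conjSub c M := by rw [h]; trivial
  rw [mem_conjSub] at h1
  have e : c⁻¹ * (c * x * c⁻¹) * c = x := by group
  rwa [e] at h1

/-- a conjugate subgroup is isomorphic to the original -/
noncomputable def conjSubEquiv (c : G) (X : Subgroup G) : conjSub c X ≃* X :=
  (X.equivMapOfInjective _ (MulAut.conj c).injective).symm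

end conjgen

section subgroups
variable {F : Type*} [Field F] [Fintype F] [CharP F 2] (m : ℕ)
set_option linter.unusedSectionVars false
variable (hF : Fintype.card F = 2 ^ (2 * m + 1))
include hF

/-- a normalised subgroup with parameters in the image of a subfield lies in the subfield
subgroup -/
theorem M_le_range {K : Type*} [Field K] [Fintype K] [CharP K 2] (k : ℕ)
    (hK : Fintype.card K = 2 ^ (2 * k + 1)) (hk : 1 ≤ k) (j : ℕ)
    (hmk : m = k + (2 * k + 1) * j) (ψ : K →+* F) {M : Subgroup (Sz F m)}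
    (hM : NormSub m hF M) (hm : 1 ≤ m)
    (hN3 : ∀ a b κ, tT m hF a b * dD m hF κ ∈ M → dD m hF κ ∈ M)
    (hΓ : ∃ κ ∈ gam m hF M, κ ≠ 1) (hψ : ∀ b ∈ lam m hF M, ∃ a' : K, ψ a' = b) :
    M ≤ (embHom m k hF hK hk j hmk ψ).range := by
  have ht : ∀ a b : F, a ∈ lam m hF M → b ∈ lam m hF M →
      tT m hF a b ∈ (embHom m k hF hK hk j hmk ψ).range := by
    intro a b ha hb
    obtain ⟨a', rfl⟩ := hψ a ha
    obtain ⟨b', rfl⟩ := hψ b hb
    exact ⟨tT k hK a' b', embHom_tT m k hF hK hk j hmk ψ a' b'⟩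
  have hd : ∀ κ : Fˣ, (κ : F) ∈ lam m hF M →
      dD m hF κ ∈ (embHom m k hF hK hk j hmk ψ).range := by
    intro κ hκ
    obtain ⟨c, hc⟩ := hψ _ hκ
    have hc0 : c ≠ 0 := by
      rintro rfl
      rw [map_zero] at hc
      exact κ.ne_zero hc.symm
    refine ⟨dD k hK (Units.mk0 c hc0), ?_⟩
    rw [embHom_dD]
    congr 1
    apply Units.ext
    simp [hc]
  have hw : wW m hF ∈ (embHom m k hF hK hk j hmk ψ).range :=
    ⟨wW k hK, embHom_wW m k hF hK hk j hmk ψ⟩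
  intro x hx
  rcases M_decomp m hF hM hm hN3 hΓ hx with ⟨a, b, κ, rfl, ha, hb, hκ⟩ |
    ⟨a, b, a', b', κ, rfl, ha, hb, ha', hb', hκ⟩
  · exact Subgroup.mul_mem _ (ht a b ha hb) (hd κ hκ)
  · exact Subgroup.mul_mem _ (Subgroup.mul_mem _ (ht a b ha hb) hw)
      (Subgroup.mul_mem _ (ht a' b' ha' hb') (hd κ hκ))

/-- the subfield case of the subgroup theorem, for a normalised subgroup -/
theorem subfield_case {M : Subgroup (Sz F m)} (hM : NormSub m hF M) (hm : 1 ≤ m)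
    (hN3 : ∀ a b κ, tT m hF a b * dD m hF κ ∈ M → dD m hF κ ∈ M)
    (hΓ : ∃ κ ∈ gam m hF M, κ ≠ 1) (hMtop : M ≠ ⊤) :
    ∃ (K : Type) (_ : Field K) (_ : Fintype K) (k : ℕ), 1 ≤ k ∧ k < m ∧
      Fintype.card K = 2 ^ (2 * k + 1) ∧ 2 * k + 1 ∣ 2 * m + 1 ∧
      ∃ S : Subgroup (Sz F m), Nonempty (S ≃* Sz K k) ∧ M ≤ S := by
  classical
  have : Fact (Nat.Prime 2) := ⟨Nat.prime_two⟩
  set E : Subfield F := hM.field m hF hm with hE
  let _ : Fintype E := Fintype.ofFinite E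
  have hpow := Module.card_eq_pow_finrank (K := E) (V := F)
  rw [hF] at hpow
  set d := Module.finrank E F with hd
  have hd0 : d ≠ 0 := by
    intro h
    rw [h, pow_zero] at hpow
    have : 1 < 2 ^ (2 * m + 1) := Nat.one_lt_two_pow (by omega)
    omega
  have hdvd : Fintype.card E ∣ 2 ^ (2 * m + 1) := by
    rw [hpow]
    exact dvd_pow_self _ hd0
  obtain ⟨ℓ, hℓle, hℓ⟩ := (Nat.dvd_prime_pow Nat.prime_two).1 hdvd
  rw [hℓ, ← pow_mul] at hpow
  have hmul : 2 * m + 1 = ℓ * d := Nat.pow_right_injective (le_refl 2) hpow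
  -- the field has at least three elements
  obtain ⟨κ, hκ, hκ1⟩ := hΓ
  have hκE : (κ : F) ∈ E := hM.gam_sub_lam m hF hm hκ
  have h3 : 2 < Fintype.card E := by
    rw [Fintype.two_lt_card_iff]
    refine ⟨0, 1, ⟨κ, hκE⟩, ?_, ?_, ?_⟩
    · exact zero_ne_one
    · intro h
      exact κ.ne_zero (congrArg Subtype.val h).symm
    · intro h
      apply hκ1
      apply Units.ext
      exact (congrArg Subtype.val h).symm
  have hℓ2 : 2 ≤ ℓ := by
    rw [hℓ] at h3
    by_contra hcon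
    push Not at hcon
    interval_cases ℓ <;> simp at h3
  have hℓodd : ℓ % 2 = 1 := by
    have h1 : (ℓ * d) % 2 = 1 := by rw [← hmul]; omega
    rcases Nat.mod_two_eq_zero_or_one ℓ with h | h
    · rw [Nat.mul_mod, h] at h1
      simp at h1
    · exact h
  obtain ⟨k, hk⟩ : ∃ k, ℓ = 2 * k + 1 := ⟨ℓ / 2, by omega⟩
  have hk1 : 1 ≤ k := by omega
  have hdiv : 2 * k + 1 ∣ 2 * m + 1 := ⟨d, by rw [hmul, hk]⟩
  -- the case of the full field
  by_cases hfull : ℓ = 2 * m + 1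
  · exfalso
    apply hMtop
    apply eq_top_of_lam_top m hF hM hm hN3 ⟨κ, hκ, hκ1⟩
    have hcard : Fintype.card E = Fintype.card F := by rw [hℓ, hF, hfull]
    have hbij : Function.Bijective (E.subtype : E → F) := by
      rw [Fintype.bijective_iff_injective_and_card]
      exact ⟨Subtype.val_injective, hcard⟩
    intro b
    obtain ⟨e, he⟩ := hbij.2 b
    rw [← he]
    exact e.2
  · have hkm : k < m := by
      have : ℓ < 2 * m + 1 := lt_of_le_of_ne hℓle hfull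
      omega
    let _ : Fintype (GaloisField 2 (2 * k + 1)) := Fintype.ofFinite _
    have hKcard : Fintype.card (GaloisField 2 (2 * k + 1)) = 2 ^ (2 * k + 1) := by
      rw [← Nat.card_eq_fintype_card, GaloisField.card 2 (2 * k + 1) (by omega)]
    let φ : GaloisField 2 (2 * k + 1) ≃+* E :=
      FiniteField.ringEquivOfCardEq (by rw [hKcard, hℓ, hk])
    let ψ : GaloisField 2 (2 * k + 1) →+* F := E.subtype.comp φ.toRingHom
    have hψ : ∀ b ∈ lam m hF M, ∃ a' : GaloisField 2 (2 * k + 1), ψ a' = b := by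
      intro b hb
      refine ⟨φ.symm ⟨b, hb⟩, ?_⟩
      change ((φ (φ.symm ⟨b, hb⟩) : E) : F) = b
      rw [RingEquiv.apply_symm_apply]
    obtain ⟨j, hmk⟩ := exists_j m k hdiv
    refine ⟨GaloisField 2 (2 * k + 1), inferInstance, inferInstance, k, hk1, hkm, hKcard, hdiv,
      (embHom m k hF hKcard hk1 j hmk ψ).range, ⟨?_⟩, ?_⟩
    · exact (MonoidHom.ofInjective (embHom_injective m k hF hKcard hk1 j hmk ψ)).symm
    · exact M_le_range m hF k hKcard hk1 j hmk ψ hM hm hN3 ⟨κ, hκ, hκ1⟩ hψ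


/-- first normalisation: a subgroup with two involutions with different fixed points has a
normalised conjugate -/
theorem exists_normalize (hm : 1 ≤ m) (M : Subgroup (Sz F m)) {t₁ t₂ : Sz F m}
    (ht₁M : t₁ ∈ M) (ht₁1 : t₁ ≠ 1) (ht₁ : t₁ * t₁ = 1) (ht₂M : t₂ ∈ M) (ht₂1 : t₂ ≠ 1)
    (ht₂ : t₂ * t₂ = 1) {ω₁ ω₂ : suzukiOvoid F m} (hω₁ : t₁ • ω₁ = ω₁) (hω₂ : t₂ • ω₂ = ω₂)
    (hne : ω₁ ≠ ω₂) : ∃ c : Sz F m, NormSub m hF (conjSub c M) := by
  obtain ⟨g₁, hg₁⟩ := exists_to_inf m hF ω₁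
  have hτfix : (g₁ * t₁ * g₁⁻¹) • (oinf m : suzukiOvoid F m) = oinf m := by
    have := conj_fix m hF (x := g₁) hω₁
    rwa [hg₁] at this
  have hτsq : g₁ * t₁ * g₁⁻¹ * (g₁ * t₁ * g₁⁻¹) = 1 := by
    have e : g₁ * t₁ * g₁⁻¹ * (g₁ * t₁ * g₁⁻¹) = g₁ * (t₁ * t₁) * g₁⁻¹ := by group
    rw [e, ht₁]
    group
  obtain ⟨b, hb⟩ := involution_in_stab m hF hm _ hτsq (congrArg Subtype.val hτfix)
  have hb0 : b ≠ 0 := by
    rintro rfl
    rw [tT_zero] at hb
    apply ht₁1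
    have e : t₁ = g₁⁻¹ * (g₁ * t₁ * g₁⁻¹) * g₁ := by group
    rw [e, hb]
    group
  obtain ⟨ν, hν⟩ := exists_sg_mul_self m hF b⁻¹ (inv_ne_zero hb0)
  have hc1 : (dD m hF ν * g₁) * t₁ * (dD m hF ν * g₁)⁻¹ = tT m hF 0 1 := by
    have e : (dD m hF ν * g₁) * t₁ * (dD m hF ν * g₁)⁻¹ =
        dD m hF ν * (g₁ * t₁ * g₁⁻¹) * (dD m hF ν)⁻¹ := by group
    rw [e, hb, dD_conj, mul_zero, hν, inv_mul_cancel₀ hb0]
  refine ⟨dD m hF ν * g₁, ?_, ?_⟩
  · rw [← hc1]
    exact conj_mem_conjSub _ M ht₁M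
  · refine ⟨(dD m hF ν * g₁) * t₂ * (dD m hF ν * g₁)⁻¹, conj_mem_conjSub _ M ht₂M, ?_, ?_, ?_⟩
    · intro h
      apply ht₂1
      have e : t₂ = (dD m hF ν * g₁)⁻¹ * ((dD m hF ν * g₁) * t₂ * (dD m hF ν * g₁)⁻¹) *
          (dD m hF ν * g₁) := by group
      rw [e, h]
      group
    · have e : (dD m hF ν * g₁) * t₂ * (dD m hF ν * g₁)⁻¹ *
          ((dD m hF ν * g₁) * t₂ * (dD m hF ν * g₁)⁻¹) =
          (dD m hF ν * g₁) * (t₂ * t₂) * (dD m hF ν * g₁)⁻¹ := by group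
      rw [e, ht₂]
      group
    · intro hfix
      have h4 : ((dD m hF ν * g₁) * t₂ * (dD m hF ν * g₁)⁻¹) ^ 4 = 1 := by
        rw [conj_pow, pow_four_of_sq m ht₂, mul_one, mul_inv_cancel]
      have h1 : (dD m hF ν * g₁) * t₂ * (dD m hF ν * g₁)⁻¹ ≠ 1 := by
        intro h
        apply ht₂1
        have e : t₂ = (dD m hF ν * g₁)⁻¹ * ((dD m hF ν * g₁) * t₂ * (dD m hF ν * g₁)⁻¹) *
            (dD m hF ν * g₁) := by group
        rw [e, h]
        group
      have h2 := invol_fix_unique m hF hm h1 h4 (conj_fix m hF (x := dD m hF ν * g₁) hω₂) hfix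
      have h3 : (dD m hF ν * g₁) • ω₁ = oinf m := by rw [mul_smul, hg₁, dD_oinf]
      rw [← h3] at h2
      exact hne (smul_left_cancel _ h2).symm

/-- second normalisation: making the diagonal part of the stabiliser split -/
theorem exists_normalize3 (hm : 1 ≤ m) {M : Subgroup (Sz F m)} (hM : NormSub m hF M)
    (hΓ : ∃ κ ∈ gam m hF M, κ ≠ 1) :
    ∃ v : Sz F m, NormSub m hF (conjSub v M) ∧
      (∀ a b κ, tT m hF a b * dD m hF κ ∈ conjSub v M → dD m hF κ ∈ conjSub v M) ∧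
      ∃ κ ∈ gam m hF (conjSub v M), κ ≠ 1 := by
  obtain ⟨⟨κ₀, hκ₀⟩, hgen⟩ := IsCyclic.exists_generator (α := gam m hF M)
  have hκ₀1 : κ₀ ≠ 1 := by
    rintro rfl
    obtain ⟨κ, hκ, hκ1⟩ := hΓ
    apply hκ1
    obtain ⟨j, hj⟩ := hgen ⟨κ, hκ⟩
    have := congrArg Subtype.val hj
    simpa using this.symm
  obtain ⟨a₀, b₀, h₀⟩ := hκ₀
  obtain ⟨x, y, hxy⟩ := exists_second_fixed m hF a₀ b₀ κ₀ hκ₀1
  -- conjugating by `tT x y` makes the element diagonal
  have hconj : (tT m hF x y)⁻¹ * (tT m hF a₀ b₀ * dD m hF κ₀) * tT m hF x y = dD m hF κ₀ := by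
    have h1 : ((tT m hF x y)⁻¹ * (tT m hF a₀ b₀ * dD m hF κ₀) * tT m hF x y) •
        (oinf m : suzukiOvoid F m) = oinf m := by
      rw [mul_smul, mul_smul, mul_smul, tT_oinf, dD_oinf, tT_oinf, inv_smul_eq_iff, tT_oinf]
    have h2 : ((tT m hF x y)⁻¹ * (tT m hF a₀ b₀ * dD m hF κ₀) * tT m hF x y) •
        (opt m (0 : F) 0 : suzukiOvoid F m) = opt m 0 0 := by
      rw [mul_smul, mul_smul, tT_smul_zero, hxy, tT_inv_opt]
    obtain ⟨β, hβ⟩ := two_point' m hF hm _ (congrArg Subtype.val h1) (congrArg Subtype.val h2)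
    have h3 : tT m hF a₀ b₀ * dD m hF κ₀ =
        tT m hF x y * dD m hF β * (tT m hF x y)⁻¹ * (dD m hF β)⁻¹ * dD m hF β := by
      rw [← hβ]
      group
    rw [comm_tT_dD] at h3
    obtain ⟨-, -, h4⟩ := decomp_unique m hF h3
    rw [hβ, h4]
  have hcomm : ∀ c : F, (tT m hF x y)⁻¹ * tT m hF 0 c * ((tT m hF x y)⁻¹)⁻¹ = tT m hF 0 c := by
    intro c
    have h := tT_conj m hF x y 0 c
    rw [mul_zero, sg_zero, zero_mul, add_zero, add_zero] at h
    have e : (tT m hF x y)⁻¹ * tT m hF 0 c * ((tT m hF x y)⁻¹)⁻¹ =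
        (tT m hF x y)⁻¹ * (tT m hF x y * tT m hF 0 c * (tT m hF x y)⁻¹) * tT m hF x y := by
      rw [h]
      group
    rw [e]
    group
  have hd₀ : dD m hF κ₀ ∈ conjSub (tT m hF x y)⁻¹ M := by
    rw [← hconj]
    have := conj_mem_conjSub (tT m hF x y)⁻¹ M h₀
    rwa [inv_inv] at this
  refine ⟨(tT m hF x y)⁻¹, ⟨?_, ?_⟩, ?_, ⟨κ₀, ⟨0, 0, ?_⟩, hκ₀1⟩⟩
  · rw [← hcomm 1]
    exact conj_mem_conjSub _ M hM.t0
  · obtain ⟨t', ht'M, ht'1, ht'sq, hmove⟩ := hM.other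
    refine ⟨(tT m hF x y)⁻¹ * t' * ((tT m hF x y)⁻¹)⁻¹, conj_mem_conjSub _ M ht'M, ?_, ?_, ?_⟩
    · intro h
      apply ht'1
      have e : t' = tT m hF x y * ((tT m hF x y)⁻¹ * t' * ((tT m hF x y)⁻¹)⁻¹) *
          (tT m hF x y)⁻¹ := by group
      rw [e, h]
      group
    · have e : (tT m hF x y)⁻¹ * t' * ((tT m hF x y)⁻¹)⁻¹ *
          ((tT m hF x y)⁻¹ * t' * ((tT m hF x y)⁻¹)⁻¹) =
          (tT m hF x y)⁻¹ * (t' * t') * ((tT m hF x y)⁻¹)⁻¹ := by group
      rw [e, ht'sq]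
      group
    · intro hfix
      apply hmove
      rw [inv_inv, mul_smul, mul_smul, tT_oinf, inv_smul_eq_iff, tT_oinf] at hfix
      exact hfix
  · intro a b κ h
    rw [mem_conjSub, inv_inv] at h
    -- the conjugate has the same diagonal part
    have e : tT m hF x y * (tT m hF a b * dD m hF κ) * (tT m hF x y)⁻¹ =
        tT m hF x y * tT m hF a b *
          (dD m hF κ * (tT m hF x y)⁻¹ * (dD m hF κ)⁻¹) * dD m hF κ := by group
    rw [e, tT_inv, dD_conj, tT_mul, tT_mul] at h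
    have hκ : κ ∈ gam m hF M := ⟨_, _, h⟩
    obtain ⟨j, hj⟩ := hgen ⟨κ, hκ⟩
    have hj' : κ₀ ^ j = κ := by
      have := congrArg Subtype.val hj
      simpa using this
    have e2 : dD m hF κ = (dD m hF κ₀) ^ j := by
      rw [← hj']
      exact map_zpow (dHom m hF) κ₀ j
    rw [e2]
    exact Subgroup.zpow_mem _ hd₀ j
  · rw [tT_zero, one_mul]
    exact hd₀


/-- a subgroup fixing a point lies in the normaliser of a Sylow `2`-subgroup -/
theorem le_normalizer_of_fix (hm : 1 ≤ m) (M : Subgroup (Sz F m)) (ω₀ : suzukiOvoid F m)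
    (hfix : ∀ x ∈ M, x • ω₀ = ω₀) :
    ∃ P : Sylow 2 (Sz F m),
      M ≤ Subgroup.normalizer ((P : Subgroup (Sz F m)) : Set (Sz F m)) := by
  obtain ⟨g, hg⟩ := exists_to_inf m hF ω₀
  obtain ⟨P, hP⟩ := exists_sylow_conjSub m hF hm g⁻¹
  refine ⟨P, ?_⟩
  rw [hP, normalizer_conjSub]
  apply le_of_conjSub_le
  intro y hy
  rw [mem_conjSub] at hy
  have h1 : y • (oinf m : suzukiOvoid F m) = oinf m := by
    have := hfix _ hy
    rw [mul_smul, mul_smul] at this
    rw [← hg]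
    rw [inv_smul_eq_iff] at this
    exact this
  exact mem_normalizer_of_conjSub_eq (conjSub_uSub_of_fix m hF hm y h1)

/-- the alternative of a maximal torus -/
theorem alt_torus (hm : 1 ≤ m) {M T : Subgroup (Sz F m)} (hT : IsMT m hF T)
    (h : M ≤ Subgroup.normalizer (T : Set (Sz F m))) :
    ∃ U : Subgroup (Sz F m), IsCyclic U ∧
      Nat.card U ∈ ({2 ^ (2 * m + 1) - 1, 2 ^ (2 * m + 1) + 2 ^ (m + 1) + 1,
        2 ^ (2 * m + 1) - 2 ^ (m + 1) + 1} : Set ℕ) ∧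
      M ≤ Subgroup.normalizer (U : Set (Sz F m)) := by
  refine ⟨T, hT.isCyclic m hF hm, ?_, h⟩
  rw [Set.mem_insert_iff, Set.mem_insert_iff, Set.mem_singleton_iff]
  exact hT.card_mem m hF hm

/-- Suzuki's theorem on the subgroups of the Suzuki groups -/
theorem subgroup_structure (hm : 1 ≤ m) (M : Subgroup (Sz F m)) (hMtop : M ≠ ⊤) :
    (∃ P : Sylow 2 (Sz F m),
      M ≤ Subgroup.normalizer ((P : Subgroup (Sz F m)) : Set (Sz F m))) ∨
    (∃ U : Subgroup (Sz F m), IsCyclic U ∧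
      Nat.card U ∈ ({2 ^ (2 * m + 1) - 1, 2 ^ (2 * m + 1) + 2 ^ (m + 1) + 1,
        2 ^ (2 * m + 1) - 2 ^ (m + 1) + 1} : Set ℕ) ∧
      M ≤ Subgroup.normalizer (U : Set (Sz F m))) ∨
    (∃ (K : Type) (_ : Field K) (_ : Fintype K) (k : ℕ), 1 ≤ k ∧ k < m ∧
      Fintype.card K = 2 ^ (2 * k + 1) ∧ 2 * k + 1 ∣ 2 * m + 1 ∧
      ∃ S : Subgroup (Sz F m), Nonempty (S ≃* Sz K k) ∧ M ≤ S) := by
  classical
  have : Fact (Nat.Prime 2) := ⟨Nat.prime_two⟩
  rcases Nat.mod_two_eq_zero_or_one (Nat.card M) with heven | hodd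
  · -- even order
    have h2 : 2 ∣ Nat.card M := Nat.dvd_of_mod_eq_zero heven
    obtain ⟨t, ht⟩ := exists_prime_orderOf_dvd_card' 2 h2
    have ht1 : (t : Sz F m) ≠ 1 := by
      intro h
      have : t = 1 := Subtype.ext h
      rw [this, orderOf_one] at ht
      omega
    have htsq : (t : Sz F m) * t = 1 := by
      have : t * t = 1 := by rw [← pow_two, ← ht, pow_orderOf_eq_one]
      exact congrArg Subtype.val this
    obtain ⟨ω₀, hω₀, -⟩ := exists_unique_fix m hF hm ht1 (pow_four_of_sq m htsq)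
    by_cases hall : ∀ t' ∈ M, t' ≠ 1 → t' * t' = 1 → t' • ω₀ = ω₀
    · -- a global fixed point
      left
      apply le_normalizer_of_fix m hF hm M ω₀
      intro x hx
      have h1 : x * t * x⁻¹ ≠ 1 := by
        intro h
        apply ht1
        have e : (t : Sz F m) = x⁻¹ * (x * t * x⁻¹) * x := by group
        rw [e, h]
        group
      have h2 : x * t * x⁻¹ * (x * t * x⁻¹) = 1 := by
        have e : x * t * x⁻¹ * (x * t * x⁻¹) = x * ((t : Sz F m) * t) * x⁻¹ := by group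
        rw [e, htsq]
        group
      have h3 := hall _ (M.mul_mem (M.mul_mem hx t.2) (M.inv_mem hx)) h1 h2
      exact invol_fix_unique m hF hm h1 (pow_four_of_sq m h2) (conj_fix m hF hω₀) h3
    · push Not at hall
      obtain ⟨t', ht'M, ht'1, ht'sq, hmove⟩ := hall
      obtain ⟨ω', hω', -⟩ := exists_unique_fix m hF hm ht'1 (pow_four_of_sq m ht'sq)
      have hne : ω₀ ≠ ω' := by
        rintro rfl
        exact hmove hω'
      obtain ⟨c, hc⟩ := exists_normalize m hF hm M t.2 ht1 htsq ht'M ht'1 ht'sq hω₀ hω' hne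
      by_cases hΓ : ∀ κ ∈ gam m hF (conjSub c M), κ = 1
      · right; left
        obtain ⟨T, hT, hle⟩ := hc.of_trivial_gam m hF hm hΓ
        have h1 := le_of_conjSub_le hle
        rw [← normalizer_conjSub] at h1
        exact alt_torus m hF hm (hT.conj m hF c⁻¹) h1
      · push Not at hΓ
        obtain ⟨v, hv, hN3, hΓ'⟩ := exists_normalize3 m hF hm hc hΓ
        right; right
        rw [conjSub_conjSub] at hv hN3 hΓ'
        have htop : conjSub (v * c) M ≠ ⊤ := fun h => hMtop (eq_top_of_conjSub_eq_top h)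
        obtain ⟨K, iK, iK', k, hk1, hkm, hKcard, hdiv, S, ⟨e⟩, hle⟩ :=
          subfield_case m hF hv hm hN3 hΓ' htop
        refine ⟨K, iK, iK', k, hk1, hkm, hKcard, hdiv, conjSub (v * c)⁻¹ S, ⟨?_⟩,
          le_of_conjSub_le hle⟩
        exact (conjSubEquiv (v * c)⁻¹ S).trans e
  · -- odd order
    by_cases hbot : M = ⊥
    · left
      obtain ⟨P, -⟩ := sylow_eq_uSub m hF hm
      exact ⟨P, by rw [hbot]; exact bot_le⟩
    · right; left
      obtain ⟨x, hx1⟩ := (Subgroup.ne_bot_iff_exists_ne_one.1 hbot)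
      have hx1' : (x : Sz F m) ≠ 1 := fun h => hx1 (Subtype.ext h)
      have hle := odd_le_centralizer m hF M hm hodd x.2 hx1'
      have hT := isMT_centralizer m hF hm
        (pow_four_ne_of_odd m hF hodd (pow_card_of_mem m x.2) hx1')
      exact alt_torus m hF hm hT (hle.trans Subgroup.le_normalizer)

end subgroups

end Cfsg.Agent.Lib.Helper5.Suzuki
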