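import Cfsg.Agent.Lib.Helper5.Torus
import Mathlib

set_option autoImplicit false

namespace Cfsg.Agent.Lib.Helper5.Torus

open scoped Matrix

section galois
variable {n : Type*} [Fintype n] [DecidableEq n] [Nonempty n] {F : Type*} [Field F] [Fintype F]
set_option linter.unusedSectionVars false

/-- conjugation by an invertible matrix, as an algebra automorphism -/
def conjAlg (g g' : Matrix n n F) (h1 : g * g' = 1) (h2 : g' * g = 1) :
    Matrix n n F ≃ₐ[F] Matrix n n F where
  toFun x := g * x * g'
  invFun x := g' * x * g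
  left_inv x := by
    change g' * (g * x * g') * g = x
    calc g' * (g * x * g') * g = (g' * g) * x * (g' * g) := by noncomm_ring
      _ = x := by rw [h2, one_mul, mul_one]
  right_inv x := by
    change g * (g' * x * g) * g' = x
    calc g * (g' * x * g) * g' = (g * g') * x * (g * g') := by noncomm_ring
      _ = x := by rw [h1, one_mul, mul_one]
  map_mul' x y := by
    change g * (x * y) * g' = g * x * g' * (g * y * g')
    calc g * (x * y) * g' = g * x * 1 * y * g' := by noncomm_ring
      _ = g * x * g' * (g * y * g') := by rw [← h2]; noncomm_ring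
  map_add' x y := by
    change g * (x + y) * g' = g * x * g' + g * y * g'
    noncomm_ring
  commutes' r := by
    change g * (algebraMap F (Matrix n n F) r) * g' = algebraMap F (Matrix n n F) r
    rw [← Algebra.commutes r g, mul_assoc, h1, mul_one]

theorem conjAlg_apply (g g' : Matrix n n F) (h1 : g * g' = 1) (h2 : g' * g = 1) (x : Matrix n n F) :
    conjAlg g g' h1 h2 x = g * x * g' := rfl

/-- a conjugate of an irreducible matrix that commutes with it is a Frobenius power -/
theorem conj_eq_frob_pow (z : Matrix n n F)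
    (hirr : ∀ W : Submodule F (n → F), (∀ v ∈ W, z *ᵥ v ∈ W) → W = ⊥ ∨ W = ⊤)
    (g g' : Matrix n n F) (h1 : g * g' = 1) (h2 : g' * g = 1)
    (hy : (g * z * g') * z = z * (g * z * g')) :
    ∃ i : ℕ, g * z * g' = z ^ (Fintype.card F ^ i) := by
  classical
  let C : Subalgebra F (Matrix n n F) := Subalgebra.centralizer F ({z} : Set (Matrix n n F))
  have hmemC : ∀ x : Matrix n n F, x ∈ C ↔ x * z = z * x := by
    intro x
    rw [Subalgebra.mem_centralizer_iff]
    simp [eq_comm]
  have : NoZeroDivisors C := by
    refine ⟨?_⟩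
    rintro ⟨x, hx⟩ ⟨y, hy⟩ hxy
    have hxy' : x * y = 0 := congrArg Subtype.val hxy
    by_cases hx0 : x = 0
    · left; exact Subtype.ext hx0
    · right
      apply Subtype.ext
      change y = 0
      have : ∀ v, y *ᵥ v = 0 := by
        intro v
        apply mulVec_injective_of_commute z hirr x ((hmemC x).1 hx) hx0
        rw [Matrix.mulVec_mulVec, hxy', Matrix.zero_mulVec]
      exact eq_zero_of_mulVec y this
  have : Nontrivial C := by
    refine ⟨⟨0, 1, ?_⟩⟩
    intro h
    have : (0 : Matrix n n F) = 1 := congrArg Subtype.val h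
    exact zero_ne_one this
  have hdom : IsDomain C := NoZeroDivisors.to_isDomain C
  have hfield : IsField C := Finite.isDomain_to_isField C
  let _ : Field C := hfield.toField
  let zc : C := ⟨z, (hmemC z).2 rfl⟩
  let yc : C := ⟨g * z * g', (hmemC _).2 hy⟩
  have hmin : minpoly F yc = minpoly F zc := by
    have e1 : minpoly F (C.val yc) = minpoly F yc := minpoly.algHom_eq C.val Subtype.val_injective yc
    have e2 : minpoly F (C.val zc) = minpoly F zc := minpoly.algHom_eq C.val Subtype.val_injective zc
    rw [← e1, ← e2]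
    change minpoly F (g * z * g') = minpoly F z
    rw [← conjAlg_apply g g' h1 h2 z, minpoly.algEquiv_eq]
  have hconj : IsConjRoot F yc zc := hmin
  obtain ⟨σ, hσ⟩ := hconj.exists_algEquiv
  obtain ⟨i, hi⟩ := (FiniteField.bijective_frobeniusAlgEquivOfAlgebraic_pow F C).2 σ
  refine ⟨i.1, ?_⟩
  have h3 : σ zc = zc ^ (Fintype.card F ^ i.1) := by
    rw [← hi]
    change (FiniteField.frobeniusAlgEquivOfAlgebraic F C ^ i.1) zc = _
    rw [AlgEquiv.coe_pow, FiniteField.coe_frobeniusAlgEquivOfAlgebraic_iterate]
  rw [hσ] at h3
  exact congrArg Subtype.val h3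

end galois

end Cfsg.Agent.Lib.Helper5.Torus
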