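import Cfsg.Agent.Lib.Helper5.SuzukiSubC
import Cfsg.Agent.Lib.Helper5.ConjSub
import Cfsg.Agent.Lib.Helper5.TorusGalois
import Mathlib

set_option autoImplicit false
open Cfsg
open scoped Matrix Pointwise commutatorElement
open Cfsg.Agent.S0335
open Cfsg.Agent.Lib.Helper5.FixCount

namespace Cfsg.Agent.Lib.Helper5.Suzuki

section tori
variable {F : Type*} [Field F] [Fintype F] [CharP F 2] (m : ℕ)
set_option linter.unusedSectionVars false

/-- fixed-point-free elements -/
def IsFF (g : Sz F m) : Prop := ∀ ω : suzukiOvoid F m, g • ω ≠ ω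

variable {m} in
theorem IsFF.ne_one {g : Sz F m} (h : IsFF m g) : g ≠ 1 := by
  rintro rfl
  exact h (oinf m) (one_smul _ _)

variable {m} in
theorem IsFF.conj {g : Sz F m} (h : IsFF m g) (c : Sz F m) : IsFF m (c * g * c⁻¹) := by
  intro ω hω
  apply h (c⁻¹ • ω)
  rw [mul_smul, mul_smul, smul_eq_iff_eq_inv_smul] at hω
  exact hω

/-- a maximal fixed-point-free torus -/
def IsTorus (A : Subgroup (Sz F m)) : Prop :=
  ∃ g : Sz F m, IsFF m g ∧ A = Subgroup.centralizer {g}

variable (hF : Fintype.card F = 2 ^ (2 * m + 1))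
include hF

theorem pretransitive : MulAction.IsPretransitive (Sz F m) (suzukiOvoid F m) := by
  refine ⟨fun a b => ?_⟩
  obtain ⟨g, hg⟩ := exists_to_inf m hF a
  obtain ⟨g', hg'⟩ := exists_to_inf m hF b
  exact ⟨g'⁻¹ * g, by rw [mul_smul, hg, inv_smul_eq_iff, hg']⟩

/-- the number of fixed-point-free elements -/
theorem card_FF (hm : 1 ≤ m) :
    (2 * Nat.card {g : Sz F m // IsFF m g} : ℤ) =
      (2 ^ (2 * m + 1) : ℤ) ^ 3 * ((2 ^ (2 * m + 1) : ℤ) - 1) ^ 2 := by
  classical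
  haveI := pretransitive m hF
  letI : Fintype (Sz F m) := Fintype.ofFinite _
  letI : Fintype (suzukiOvoid F m) := Fintype.ofFinite _
  have hN : Fintype.card (suzukiOvoid F m) = (2 ^ (2 * m + 1)) ^ 2 + 1 := by
    rw [← Nat.card_eq_fintype_card, Cfsg.Agent.S0326.result, hF]
  have hG : Fintype.card (Sz F m) =
      (2 ^ (2 * m + 1)) ^ 2 * ((2 ^ (2 * m + 1)) ^ 2 + 1) * (2 ^ (2 * m + 1) - 1) := by
    rw [← Nat.card_eq_fintype_card, card_Sz m hF hm]
  have h3 : ∀ g : Sz F m, g ≠ 1 → Fintype.card (MulAction.fixedBy (suzukiOvoid F m) g) ≤ 2 := by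
    intro g hg
    by_contra hcon
    push Not at hcon
    obtain ⟨a, b, c, hab, hac, hbc⟩ := Fintype.two_lt_card_iff.1 hcon
    exact hg (fix_three m hF hm g a.1 b.1 c.1 (fun h => hab (Subtype.ext h))
      (fun h => hbc (Subtype.ext h)) (fun h => hac (Subtype.ext h)) a.2 b.2 c.2)
  have := two_mul_card_fixfree (G := Sz F m) (Ω := suzukiOvoid F m) (two_transitive m hF)
    (by rw [hN]; have := Nat.one_le_two_pow (n := 2 * m + 1); nlinarith) h3
  rw [hN, hG] at this
  have hq1 : 1 ≤ 2 ^ (2 * m + 1) := Nat.one_le_two_pow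
  push_cast [Nat.cast_sub hq1] at this
  change (2 * (Nat.card {g : Sz F m // IsFF m g} : ℤ)) + _ = _ at this
  linear_combination this

variable {A : Subgroup (Sz F m)}

theorem IsTorus.isCyclic (hA : IsTorus m A) (hm : 1 ≤ m) : IsCyclic A := by
  obtain ⟨g, hg, rfl⟩ := hA
  obtain ⟨p, z, hp, hpd, hzp, hz1, hzmem⟩ := fixfree_prime m hF hm g hg
  haveI : Fact p.Prime := ⟨hp⟩
  apply cyclic_of_commute m hF hpd z hzp hz1
  intro k hk
  obtain ⟨j, rfl⟩ := Subgroup.mem_zpowers_iff.1 hzmem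
  have hkg : Commute k g := Subgroup.mem_centralizer_singleton_iff.1 hk
  exact hkg.zpow_right j

theorem IsTorus.ff (hA : IsTorus m A) (hm : 1 ≤ m) {a : Sz F m} (ha : a ∈ A) (ha1 : a ≠ 1) :
    IsFF m a := by
  obtain ⟨g, hg, rfl⟩ := hA
  have hag : a * g = g * a := Subgroup.mem_centralizer_singleton_iff.1 ha
  exact fixfree_pow m hF hm g hg a ha1 hag.symm

omit hF in
theorem comm_of_cyclic {G : Type*} [Group G] {H : Subgroup G} (hH : IsCyclic H) {x y : G}
    (hx : x ∈ H) (hy : y ∈ H) : x * y = y * x := by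
  letI := IsCyclic.commGroup (α := H)
  have := mul_comm (⟨x, hx⟩ : H) ⟨y, hy⟩
  exact congrArg Subtype.val this

theorem IsTorus.cent (hA : IsTorus m A) (hm : 1 ≤ m) {a : Sz F m} (ha : a ∈ A) (ha1 : a ≠ 1) :
    Subgroup.centralizer {a} = A := by
  have haff := hA.ff m hF hm ha ha1
  have hcA := hA.isCyclic m hF hm
  obtain ⟨g, hg, rfl⟩ := hA
  have hCa : IsTorus m (Subgroup.centralizer {a}) := ⟨a, haff, rfl⟩
  have hcCa := hCa.isCyclic m hF hm
  have hga : g ∈ Subgroup.centralizer {a} := by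
    rw [Subgroup.mem_centralizer_singleton_iff]
    exact (Subgroup.mem_centralizer_singleton_iff.1 ha).symm
  have hgg : g ∈ Subgroup.centralizer {g} := by
    rw [Subgroup.mem_centralizer_singleton_iff]
  apply le_antisymm
  · intro x hx
    rw [Subgroup.mem_centralizer_singleton_iff]
    exact comm_of_cyclic hcCa hx hga
  · intro x hx
    rw [Subgroup.mem_centralizer_singleton_iff]
    exact comm_of_cyclic hcA hx ha

theorem IsTorus.conj (hA : IsTorus m A) (c : Sz F m) : IsTorus m (conjSub c A) := by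
  obtain ⟨g, hg, rfl⟩ := hA
  exact ⟨c * g * c⁻¹, hg.conj c, (centralizer_conj c g).symm⟩

theorem IsTorus.ti (hA : IsTorus m A) (hm : 1 ≤ m) (n : Sz F m)
    (h : ∃ a ∈ A, a ≠ 1 ∧ n * a * n⁻¹ ∈ A) : n ∈ Subgroup.normalizer (A : Set (Sz F m)) := by
  obtain ⟨a, ha, ha1, hna⟩ := h
  have hna1 : n * a * n⁻¹ ≠ 1 := by
    intro h'
    apply ha1
    have e : a = n⁻¹ * (n * a * n⁻¹) * n := by group
    rw [e, h']
    group
  have h1 : conjSub n A = A := by
    rw [← hA.cent m hF hm ha ha1, ← centralizer_conj, hA.cent m hF hm hna hna1,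
      hA.cent m hF hm ha ha1]
  rw [Subgroup.mem_normalizer_iff]
  intro x
  have h2 := mem_conjSub n A (n * x * n⁻¹)
  rw [h1] at h2
  have e : n⁻¹ * (n * x * n⁻¹) * n = x := by group
  rw [e] at h2
  exact h2.symm

end tori

end Cfsg.Agent.Lib.Helper5.Suzuki
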