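import Cfsg.Agent.Lib.Helper5.SuzukiTori
import Mathlib

set_option autoImplicit false
open Cfsg
open scoped Matrix Pointwise commutatorElement
open Cfsg.Agent.S0335
open Cfsg.Agent.Lib.Helper5.FixCount

namespace Cfsg.Agent.Lib.Helper5.Suzuki

section arith

theorem q_mod_three (m : ℕ) : 2 ^ (2 * m + 1) % 3 = 2 := by
  induction m with
  | zero => norm_num
  | succ k ih =>
    have : 2 ^ (2 * (k + 1) + 1) = 4 * 2 ^ (2 * k + 1) := by ring
    rw [this, Nat.mul_mod, ih]

theorem N_mod_three (m : ℕ) : ((2 ^ (2 * m + 1)) ^ 2 + 1) % 3 = 2 := by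
  have h := q_mod_three m
  rw [Nat.add_mod, Nat.pow_mod, h]

theorem N_odd (m : ℕ) : ((2 ^ (2 * m + 1)) ^ 2 + 1) % 2 = 1 := by
  have : (2 ^ (2 * m + 1)) ^ 2 = 2 * (2 ^ (2 * m) * 2 ^ (2 * m + 1)) := by ring
  rw [this]
  omega

theorem card_mod_three (m : ℕ) :
    ((2 ^ (2 * m + 1)) ^ 2 * ((2 ^ (2 * m + 1)) ^ 2 + 1) * (2 ^ (2 * m + 1) - 1)) % 3 = 2 := by
  have h := q_mod_three m
  have hN := N_mod_three m
  generalize 2 ^ (2 * m + 1) = q at h hN
  have h1 : (q - 1) % 3 = 1 := by omega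
  rw [Nat.mul_mod, Nat.mul_mod (q ^ 2), hN, h1, Nat.pow_mod, h]

end arith

section toriB
variable {F : Type*} [Field F] [Fintype F] [CharP F 2] (m : ℕ)
set_option linter.unusedSectionVars false
variable (hF : Fintype.card F = 2 ^ (2 * m + 1))
include hF
variable {A : Subgroup (Sz F m)}

theorem IsTorus.card_dvd (hA : IsTorus m A) (hm : 1 ≤ m) :
    Nat.card A ∣ (2 ^ (2 * m + 1)) ^ 2 + 1 := by
  have h := card_dvd_of_free (H := A) (X := suzukiOvoid F m) (by
    intro a ha ω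
    have ha1 : (a : Sz F m) ≠ 1 := fun h' => ha (Subtype.ext h')
    exact hA.ff m hF hm a.2 ha1 ω)
  rwa [Cfsg.Agent.S0326.result, hF] at h

theorem IsTorus.one_lt (hA : IsTorus m A) : 1 < Nat.card A := by
  obtain ⟨g, hg, rfl⟩ := hA
  rw [Finite.one_lt_card_iff_nontrivial]
  refine ⟨⟨⟨g, ?_⟩, 1, ?_⟩⟩
  · rw [Subgroup.mem_centralizer_singleton_iff]
  · intro h
    exact hg.ne_one (congrArg Subtype.val h)

theorem IsTorus.five_le (hA : IsTorus m A) (hm : 1 ≤ m) : 5 ≤ Nat.card A := by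
  have h1 := hA.card_dvd m hF hm
  have h2 := hA.one_lt m hF
  have h3 := N_mod_three m
  have h4 := N_odd m
  obtain ⟨k, hk⟩ := h1
  rw [hk] at h3 h4
  by_contra hcon
  push Not at hcon
  interval_cases (Nat.card A)
  · omega
  · rw [Nat.mul_mod] at h3; omega
  · omega

/-- elements of prime order dividing `q² + 1` act irreducibly -/
theorem irr_of_prime {p : ℕ} [hp : Fact p.Prime] (hpd : p ∣ (2 ^ (2 * m + 1)) ^ 2 + 1)
    (z : Sz F m) (hz : z ^ p = 1) (hz1 : z ≠ 1)
    (W : Submodule F (Fin 4 → F)) (hW : ∀ v ∈ W, matHom m z *ᵥ v ∈ W) : W = ⊥ ∨ W = ⊤ := by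
  have hq2 : 2 ≤ 2 ^ (2 * m + 1) := by
    calc 2 = 2 ^ 1 := by norm_num
      _ ≤ 2 ^ (2 * m + 1) := Nat.pow_le_pow_right (by norm_num) (by omega)
  obtain ⟨hp2, h0, h1, h2, h3⟩ := Torus.arith_of_dvd hq2
    (Even.pow_of_ne_zero even_two (by omega)) hp.out hpd
  rw [← hF] at h0 h1 h2 h3
  have hzm : (matHom m z) ^ p = 1 := by
    rw [← map_pow, hz, map_one]
  have hzm1 : matHom m z ≠ 1 := by
    intro h
    apply hz1
    apply matHom_injective m
    rw [h, map_one]
  exact Torus.irreducible_of_pow_prime h0 h1 h2 h3 (matHom m z) hzm hzm1 W hW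

omit [CharP F 2] in
theorem pow_q_four {p : ℕ} (hpd : p ∣ (2 ^ (2 * m + 1)) ^ 2 + 1) (z : Sz F m) (hz : z ^ p = 1) :
    z ^ ((2 ^ (2 * m + 1)) ^ 4) = z := by
  obtain ⟨k, hk⟩ := hpd
  have hzN : z ^ ((2 ^ (2 * m + 1)) ^ 2 + 1) = 1 := by rw [hk, pow_mul, hz, one_pow]
  have hq1 : 1 ≤ (2 ^ (2 * m + 1)) ^ 2 := Nat.one_le_pow _ _ (by positivity)
  have e : (2 ^ (2 * m + 1)) ^ 4 = ((2 ^ (2 * m + 1)) ^ 2 + 1) * ((2 ^ (2 * m + 1)) ^ 2 - 1) + 1 := by
    have h4 : (2 ^ (2 * m + 1)) ^ 4 = ((2 ^ (2 * m + 1)) ^ 2) ^ 2 := by ring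
    rw [h4]
    obtain ⟨u, hu⟩ : ∃ u, (2 ^ (2 * m + 1)) ^ 2 = u + 1 :=
      ⟨(2 ^ (2 * m + 1)) ^ 2 - 1, (Nat.sub_add_cancel hq1).symm⟩
    rw [hu, Nat.add_sub_cancel]
    ring
  rw [e, pow_succ, pow_mul, hzN, one_pow, one_mul]

/-- the normaliser of a torus acts on its elements of prime order through the Frobenius -/
theorem IsTorus.conj_frob (hA : IsTorus m A) (hm : 1 ≤ m) {p : ℕ} [hp : Fact p.Prime]
    (hpd : p ∣ (2 ^ (2 * m + 1)) ^ 2 + 1) (z : Sz F m) (hzA : z ∈ A) (hz : z ^ p = 1) (hz1 : z ≠ 1)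
    (n : Sz F m) (hn : n ∈ Subgroup.normalizer (A : Set (Sz F m))) :
    ∃ i : Fin 4, n * z * n⁻¹ = z ^ ((2 ^ (2 * m + 1)) ^ i.1) := by
  have hy : n * z * n⁻¹ ∈ A := (Subgroup.mem_normalizer_iff.1 hn z).1 hzA
  have hcomm := comm_of_cyclic (hA.isCyclic m hF hm) hy hzA
  have h1 : matHom m n * matHom m n⁻¹ = 1 := by rw [← map_mul, mul_inv_cancel, map_one]
  have h2 : matHom m n⁻¹ * matHom m n = 1 := by rw [← map_mul, inv_mul_cancel, map_one]
  have hcm : (matHom m n * matHom m z * matHom m n⁻¹) * matHom m z =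
      matHom m z * (matHom m n * matHom m z * matHom m n⁻¹) := by
    rw [← map_mul, ← map_mul, ← map_mul, ← map_mul, hcomm]
  obtain ⟨i, hi⟩ := Torus.conj_eq_frob_pow (matHom m z) (irr_of_prime m hF hpd z hz hz1)
    (matHom m n) (matHom m n⁻¹) h1 h2 hcm
  rw [hF, ← map_mul, ← map_mul, ← map_pow] at hi
  have hi' := matHom_injective m hi
  -- reduce the exponent modulo four
  have hred : ∀ j : ℕ, z ^ ((2 ^ (2 * m + 1)) ^ j) = z ^ ((2 ^ (2 * m + 1)) ^ (j % 4)) := by
    intro j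
    induction j using Nat.strong_induction_on with
    | _ j ih =>
      by_cases hj : j < 4
      · rw [Nat.mod_eq_of_lt hj]
      · push Not at hj
        obtain ⟨k, rfl⟩ := Nat.exists_eq_add_of_le hj
        have e : (2 ^ (2 * m + 1)) ^ (4 + k) = (2 ^ (2 * m + 1)) ^ 4 * (2 ^ (2 * m + 1)) ^ k := by
          rw [pow_add]
        rw [e, pow_mul, pow_q_four m hF hpd z hz, ih k (by omega)]
        congr 2
        omega
  refine ⟨⟨i % 4, Nat.mod_lt _ (by norm_num)⟩, ?_⟩
  rw [hi', hred i]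

/-- the normaliser of a torus has index at most four -/
theorem IsTorus.card_normalizer_le (hA : IsTorus m A) (hm : 1 ≤ m) :
    Nat.card (Subgroup.normalizer (A : Set (Sz F m))) ≤ 4 * Nat.card A := by
  classical
  obtain ⟨g, hg, hAg⟩ := id hA
  obtain ⟨p, z, hp, hpd, hzp, hz1, hzmem⟩ := fixfree_prime m hF hm g hg
  haveI : Fact p.Prime := ⟨hp⟩
  have hzA : z ∈ A := by
    rw [hAg]
    obtain ⟨j, rfl⟩ := Subgroup.mem_zpowers_iff.1 hzmem
    rw [Subgroup.mem_centralizer_singleton_iff]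
    exact (Commute.refl g).zpow_left j
  have hcent := hA.cent m hF hm hzA hz1
  have hex := fun n : Subgroup.normalizer (A : Set (Sz F m)) =>
    hA.conj_frob m hF hm hpd z hzA hzp hz1 n.1 n.2
  choose f hf using hex
  letI : Fintype (Subgroup.normalizer (A : Set (Sz F m))) := Fintype.ofFinite _
  letI : Fintype A := Fintype.ofFinite _
  have hfib : ∀ i ∈ (Finset.univ : Finset (Subgroup.normalizer (A : Set (Sz F m)))).image f,
      ((Finset.univ : Finset (Subgroup.normalizer (A : Set (Sz F m)))).filter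
        (fun n => f n = i)).card ≤ Fintype.card A := by
    intro i hi
    obtain ⟨n₀, -, hn₀⟩ := Finset.mem_image.1 hi
    have hmem : ∀ n : Subgroup.normalizer (A : Set (Sz F m)), f n = i → n₀.1⁻¹ * n.1 ∈ A := by
      intro n hn
      have hgoal : n₀.1⁻¹ * n.1 ∈ Subgroup.centralizer {z} := by
        rw [Subgroup.mem_centralizer_singleton_iff]
        have e1 := hf n
        have e2 := hf n₀
        rw [hn] at e1
        rw [hn₀] at e2
        have e3 : n.1 * z * n.1⁻¹ = n₀.1 * z * n₀.1⁻¹ := by rw [e1, e2]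
        have e4 : n₀.1⁻¹ * n.1 * z = n₀.1⁻¹ * (n.1 * z * n.1⁻¹) * n.1 := by group
        rw [e4, e3]
        group
      rw [hcent] at hgoal
      exact hgoal
    rw [← Finset.card_univ (α := A)]
    apply Finset.card_le_card_of_injOn (fun n => if h : f n = i then ⟨n₀.1⁻¹ * n.1, hmem n h⟩ else 1)
    · intro n _
      exact Finset.mem_univ _
    · intro n hn n' hn' h
      rw [Finset.coe_filter] at hn hn'
      simp only [Set.mem_ofPred_eq] at hn hn'
      simp only [dif_pos hn.2, dif_pos hn'.2] at h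
      have := congrArg Subtype.val h
      exact Subtype.ext (mul_left_cancel this)
  have h1 := Finset.card_le_mul_card_image (Finset.univ : Finset (Subgroup.normalizer (A : Set (Sz F m))))
    (Fintype.card A) hfib
  have h2 : ((Finset.univ : Finset (Subgroup.normalizer (A : Set (Sz F m)))).image f).card ≤ 4 := by
    calc _ ≤ (Finset.univ : Finset (Fin 4)).card := Finset.card_le_card (Finset.subset_univ _)
      _ = 4 := by simp
  rw [Nat.card_eq_fintype_card, Nat.card_eq_fintype_card, ← Finset.card_univ]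
  calc _ ≤ Fintype.card A * _ := h1
    _ ≤ Fintype.card A * 4 := Nat.mul_le_mul_left _ h2
    _ = 4 * Fintype.card A := mul_comm _ _

theorem IsTorus.card_normalizer_eq (hA : IsTorus m A) (hm : 1 ≤ m) :
    ∃ w : ℕ, (w = 1 ∨ w = 2 ∨ w = 4) ∧
      Nat.card (Subgroup.normalizer (A : Set (Sz F m))) = w * Nat.card A := by
  have h1 := hA.card_normalizer_le m hF hm
  have h2 : Nat.card A ∣ Nat.card (Subgroup.normalizer (A : Set (Sz F m))) :=
    Subgroup.card_dvd_of_le Subgroup.le_normalizer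
  obtain ⟨w, hw⟩ := h2
  have hpos : 0 < Nat.card A := Nat.card_pos
  have h3 : Nat.card (Subgroup.normalizer (A : Set (Sz F m))) ∣ Nat.card (Sz F m) :=
    Subgroup.card_subgroup_dvd_card _
  rw [card_Sz m hF hm] at h3
  have h4 := card_mod_three m
  have hw3 : w ≠ 3 := by
    rintro rfl
    have : 3 ∣ (2 ^ (2 * m + 1)) ^ 2 * ((2 ^ (2 * m + 1)) ^ 2 + 1) * (2 ^ (2 * m + 1) - 1) :=
      (Dvd.intro_left _ hw.symm).trans h3
    omega
  have hw4 : w ≤ 4 := by
    rw [hw, mul_comm] at h1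
    exact Nat.le_of_mul_le_mul_right h1 hpos
  have hw0 : w ≠ 0 := by
    rintro rfl
    rw [mul_zero] at hw
    have : 0 < Nat.card (Subgroup.normalizer (A : Set (Sz F m))) := Nat.card_pos
    omega
  refine ⟨w, ?_, by rw [hw, mul_comm]⟩
  omega

/-- a torus contains a full Sylow subgroup for each prime dividing its order -/
theorem IsTorus.exists_sylow_le (hA : IsTorus m A) (hm : 1 ≤ m) {p : ℕ} [hp : Fact p.Prime]
    (hpA : p ∣ Nat.card A) : ∃ P : Sylow p (Sz F m), (P : Subgroup (Sz F m)) ≤ A := by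
  obtain ⟨z, hz⟩ := exists_prime_orderOf_dvd_card' p hpA
  have hz1 : (z : Sz F m) ≠ 1 := by
    intro h
    have : z = 1 := Subtype.ext h
    rw [this, orderOf_one] at hz
    exact hp.out.one_lt.ne hz
  have hzp : IsPGroup p (Subgroup.zpowers (z : Sz F m)) := by
    apply IsPGroup.of_card (n := 1)
    rw [Nat.card_zpowers, pow_one, Subgroup.orderOf_coe, hz]
  obtain ⟨P, hP⟩ := hzp.exists_le_sylow
  have hzP : (z : Sz F m) ∈ (P : Subgroup (Sz F m)) := hP (Subgroup.mem_zpowers _)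
  have hPnt : Nontrivial (P : Subgroup (Sz F m)) :=
    ⟨⟨⟨z, hzP⟩, 1, fun h => hz1 (congrArg Subtype.val h)⟩⟩
  have hcn := P.2.center_nontrivial
  obtain ⟨y, hy1⟩ := exists_ne (1 : Subgroup.center (P : Subgroup (Sz F m)))
  have hy1' : ((y : (P : Subgroup (Sz F m))) : Sz F m) ≠ 1 := by
    intro h
    apply hy1
    exact Subtype.ext (Subtype.ext h)
  have hyz : ((y : (P : Subgroup (Sz F m))) : Sz F m) * z = z * ((y : (P : Subgroup (Sz F m))) : Sz F m) := by
    have := Subgroup.mem_center_iff.1 y.2 ⟨z, hzP⟩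
    exact (congrArg Subtype.val this).symm
  have hyA : ((y : (P : Subgroup (Sz F m))) : Sz F m) ∈ A := by
    rw [← hA.cent m hF hm z.2 hz1, Subgroup.mem_centralizer_singleton_iff]
    exact hyz
  refine ⟨P, fun x hx => ?_⟩
  rw [← hA.cent m hF hm hyA hy1', Subgroup.mem_centralizer_singleton_iff]
  have := Subgroup.mem_center_iff.1 y.2 ⟨x, hx⟩
  exact congrArg Subtype.val this

/-- two tori whose orders have a common prime divisor are conjugate -/
theorem IsTorus.conj_of_prime {B : Subgroup (Sz F m)} (hA : IsTorus m A) (hB : IsTorus m B)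
    (hm : 1 ≤ m) {p : ℕ} [hp : Fact p.Prime] (hpA : p ∣ Nat.card A) (hpB : p ∣ Nat.card B) :
    ∃ c : Sz F m, B = conjSub c A := by
  obtain ⟨P, hP⟩ := hA.exists_sylow_le m hF hm hpA
  obtain ⟨Q, hQ⟩ := hB.exists_sylow_le m hF hm hpB
  obtain ⟨c, hc⟩ := MulAction.exists_smul_eq (Sz F m) P Q
  have hPne : (P : Subgroup (Sz F m)) ≠ ⊥ := by
    apply Sylow.ne_bot_of_dvd_card
    exact hpA.trans (Subgroup.card_subgroup_dvd_card A)
  obtain ⟨y, hy1⟩ := Subgroup.ne_bot_iff_exists_ne_one.1 hPne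
  have hy1' : (y : Sz F m) ≠ 1 := fun h => hy1 (Subtype.ext h)
  have hyA : (y : Sz F m) ∈ A := hP y.2
  have hcy : c * (y : Sz F m) * c⁻¹ ∈ (Q : Subgroup (Sz F m)) := by
    rw [← hc, Sylow.coe_subgroup_smul]
    have := Subgroup.smul_mem_pointwise_smul (y : Sz F m) (MulAut.conj c) (P : Subgroup (Sz F m)) y.2
    rwa [MulAut.smul_def, MulAut.conj_apply] at this
  have hcy1 : c * (y : Sz F m) * c⁻¹ ≠ 1 := by
    intro h'
    apply hy1'
    have e : (y : Sz F m) = c⁻¹ * (c * (y : Sz F m) * c⁻¹) * c := by group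
    rw [e, h']
    group
  refine ⟨c, ?_⟩
  rw [← hA.cent m hF hm hyA hy1', ← centralizer_conj, hB.cent m hF hm (hQ hcy) hcy1]

/-- every prime divisor of `q² + 1` divides the order of some torus -/
theorem exists_torus_of_prime (hm : 1 ≤ m) {p : ℕ} [hp : Fact p.Prime]
    (hpd : p ∣ (2 ^ (2 * m + 1)) ^ 2 + 1) :
    ∃ A : Subgroup (Sz F m), IsTorus m A ∧ p ∣ Nat.card A := by
  have hq2 : 2 ≤ 2 ^ (2 * m + 1) := by
    calc 2 = 2 ^ 1 := by norm_num
      _ ≤ 2 ^ (2 * m + 1) := Nat.pow_le_pow_right (by norm_num) (by omega)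
  obtain ⟨hp2, h0, h1, h2, h3⟩ := Torus.arith_of_dvd hq2
    (Even.pow_of_ne_zero even_two (by omega)) hp.out hpd
  have hpG : p ∣ Nat.card (Sz F m) := by
    rw [card_Sz m hF hm]
    exact (hpd.mul_left _).mul_right _
  obtain ⟨z, hz⟩ := exists_prime_orderOf_dvd_card' p hpG
  have hz1 : z ≠ 1 := by
    rintro rfl
    rw [orderOf_one] at hz
    exact hp.out.one_lt.ne hz
  have hzff : IsFF m z := by
    rcases trichotomy m hF hm z hz1 with ⟨h, a, b, hab, he⟩ | ⟨h, α, hα, he⟩ | h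
    · exfalso
      have h4 : (h * z * h⁻¹) ^ 4 = 1 := by rw [he, tT_pow_four]
      have h5 : z ^ 4 = 1 := by
        have e : (h * z * h⁻¹) ^ 4 = h * z ^ 4 * h⁻¹ := by
          simp only [pow_succ, pow_zero, one_mul]
          group
        rw [e] at h4
        have e2 : z ^ 4 = h⁻¹ * (h * z ^ 4 * h⁻¹) * h := by group
        rw [e2, h4]
        group
      have := orderOf_dvd_of_pow_eq_one h5
      rw [hz] at this
      have h6 : p ∣ 2 ^ 2 := by norm_num; exact this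
      exact hp2 ((Nat.prime_dvd_prime_iff_eq hp.out Nat.prime_two).1 (hp.out.dvd_of_dvd_pow h6))
    · exfalso
      have h4 : (h * z * h⁻¹) ^ (2 ^ (2 * m + 1) - 1) = 1 := by
        have hpw : dD m hF α ^ (2 ^ (2 * m + 1) - 1) = dD m hF (α ^ (2 ^ (2 * m + 1) - 1)) :=
          (map_pow (dHom m hF) α _).symm
        rw [he, hpw]
        have : α ^ (2 ^ (2 * m + 1) - 1) = 1 := by
          classical
          rw [← hF, ← Fintype.card_units]
          exact pow_card_eq_one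
        rw [this, dD_one]
      have h5 : z ^ (2 ^ (2 * m + 1) - 1) = 1 := by
        have e : (h * z * h⁻¹) ^ (2 ^ (2 * m + 1) - 1) = h * z ^ (2 ^ (2 * m + 1) - 1) * h⁻¹ := by
          rw [conj_pow]
        rw [e] at h4
        have e2 : z ^ (2 ^ (2 * m + 1) - 1) = h⁻¹ * (h * z ^ (2 ^ (2 * m + 1) - 1) * h⁻¹) * h := by
          group
        rw [e2, h4]
        group
      have := orderOf_dvd_of_pow_eq_one h5
      rw [hz] at this
      exact h1 this
    · exact h
  refine ⟨Subgroup.centralizer {z}, ⟨z, hzff, rfl⟩, ?_⟩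
  rw [← hz]
  have hzmem : z ∈ Subgroup.centralizer {z} := by
    rw [Subgroup.mem_centralizer_singleton_iff]
  have := orderOf_dvd_natCard (⟨z, hzmem⟩ : Subgroup.centralizer {z})
  rwa [← Subgroup.orderOf_coe] at this

end toriB

end Cfsg.Agent.Lib.Helper5.Suzuki
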