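import Cfsg.Agent.Lib.Helper5.SuzukiToriB
import Mathlib

set_option autoImplicit false
open Cfsg
open scoped Matrix Pointwise commutatorElement
open Cfsg.Agent.S0335
open Cfsg.Agent.Lib.Helper5.FixCount

namespace Cfsg.Agent.Lib.Helper5.Suzuki

section toriArith

theorem ar1 (Q n w : ℤ) (hQ : 8 ≤ Q) (hw : w = 1 ∨ w = 2 ∨ w = 4)
    (h1 : 2 * n = Q ^ 3 * (Q - 1) ^ 2)
    (h2 : n * w * (Q ^ 2 + 1) = Q ^ 2 * (Q ^ 2 + 1) * (Q - 1) * ((Q ^ 2 + 1) - 1)) : False := by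
  have hne : Q ^ 3 * (Q ^ 2 + 1) * (Q - 1) ≠ 0 := by
    have h3 : 0 < Q ^ 3 := by positivity
    have h4 : 0 < Q ^ 2 + 1 := by positivity
    have h5 : 0 < Q - 1 := by linarith
    positivity
  have h3 : (Q - 1) * w = 2 * Q := by
    apply mul_left_cancel₀ hne
    linear_combination (-(w * (Q ^ 2 + 1))) * h1 + 2 * h2
  rcases hw with rfl | rfl | rfl <;> linarith

theorem ar2 (G c w a : ℤ) (hG : 0 < G) (ha : 5 ≤ a) (hw : w = 1 ∨ w = 2 ∨ w = 4)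
    (h : c * w * a = G * (a - 1)) : G ≤ 5 * c := by
  by_contra hcon
  push Not at hcon
  rcases hw with rfl | rfl | rfl <;> nlinarith

theorem ar3 (Q n G c₁ c₂ c₃ : ℤ) (hQ : 8 ≤ Q) (h1 : 2 * n = Q ^ 3 * (Q - 1) ^ 2)
    (hG : G = Q ^ 2 * (Q ^ 2 + 1) * (Q - 1)) (hc : c₁ + c₂ + c₃ ≤ n)
    (h5₁ : G ≤ 5 * c₁) (h5₂ : G ≤ 5 * c₂) (h5₃ : G ≤ 5 * c₃) : False := by
  have h2 : 2 * n < G := by
    rw [h1, hG]
    have h3 : 0 < Q ^ 2 * (Q - 1) := by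
      have : 0 < Q - 1 := by linarith
      positivity
    nlinarith
  have hGpos : 0 < G := by
    rw [hG]
    have h4 : 0 < Q ^ 2 + 1 := by positivity
    have h5 : 0 < Q - 1 := by linarith
    positivity
  linarith

theorem ar4 (Q n c₁ c₂ w₁ w₂ a₁ a₂ : ℤ) (hQ : 8 ≤ Q)
    (hw₁ : w₁ = 1 ∨ w₁ = 2 ∨ w₁ = 4) (hw₂ : w₂ = 1 ∨ w₂ = 2 ∨ w₂ = 4)
    (ha₁ : 5 ≤ a₁) (ha₂ : 5 ≤ a₂) (hN : a₁ * a₂ = Q ^ 2 + 1) (hc : c₁ + c₂ = n)
    (h1 : 2 * n = Q ^ 3 * (Q - 1) ^ 2)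
    (e₁ : c₁ * w₁ * a₁ = Q ^ 2 * (Q ^ 2 + 1) * (Q - 1) * (a₁ - 1))
    (e₂ : c₂ * w₂ * a₂ = Q ^ 2 * (Q ^ 2 + 1) * (Q - 1) * (a₂ - 1)) :
    w₁ = 4 ∧ w₂ = 4 ∧ a₁ + a₂ = 2 * Q + 2 := by
  have hne : Q ^ 2 * (Q ^ 2 + 1) * (Q - 1) ≠ 0 := by
    have h4 : 0 < Q ^ 2 + 1 := by positivity
    have h5 : 0 < Q - 1 := by linarith
    positivity
  have star : Q * (Q - 1) * w₁ * w₂ =
      2 * (((Q ^ 2 + 1) - a₂) * w₂ + ((Q ^ 2 + 1) - a₁) * w₁) := by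
    apply mul_left_cancel₀ hne
    have e3 : Q ^ 2 * (Q ^ 2 + 1) * (Q - 1) * (Q * (Q - 1) * w₁ * w₂) =
        2 * n * w₁ * w₂ * (a₁ * a₂) := by
      rw [h1, hN]; ring
    rw [e3, ← hc]
    linear_combination (2 * w₂ * a₂) * e₁ + (2 * w₁ * a₁) * e₂ +
      (2 * Q ^ 2 * (Q ^ 2 + 1) * (Q - 1) * (w₂ + w₁)) * hN
  have h5a : 5 * a₂ ≤ Q ^ 2 + 1 := by nlinarith
  have h5b : 5 * a₁ ≤ Q ^ 2 + 1 := by nlinarith
  obtain ⟨QQ, hQQ⟩ : ∃ QQ : ℤ, QQ = Q * (Q - 1) := ⟨_, rfl⟩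
  obtain ⟨N, hNN⟩ : ∃ N : ℤ, N = Q ^ 2 + 1 := ⟨_, rfl⟩
  have hlt : QQ < N := by rw [hQQ, hNN]; nlinarith
  have hQQ2 : 2 * Q + 2 = 2 * N - 2 * QQ := by rw [hQQ, hNN]; ring
  rw [← hQQ, ← hNN] at star
  rw [← hNN] at h5a h5b
  rw [hQQ2]
  have hNpos : 0 < N := by rw [hNN]; positivity
  rcases hw₁ with rfl | rfl | rfl <;> rcases hw₂ with rfl | rfl | rfl <;>
    first
    | (exfalso; linarith)
    | (refine ⟨rfl, rfl, ?_⟩; linarith)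

theorem ar5 (m : ℕ) (a₁ a₂ : ℤ) (hs : a₁ + a₂ = 2 * (2 : ℤ) ^ (2 * m + 1) + 2)
    (hp : a₁ * a₂ = ((2 : ℤ) ^ (2 * m + 1)) ^ 2 + 1) :
    (a₁ = (2 : ℤ) ^ (2 * m + 1) + 2 ^ (m + 1) + 1 ∧ a₂ = (2 : ℤ) ^ (2 * m + 1) - 2 ^ (m + 1) + 1) ∨
    (a₂ = (2 : ℤ) ^ (2 * m + 1) + 2 ^ (m + 1) + 1 ∧ a₁ = (2 : ℤ) ^ (2 * m + 1) - 2 ^ (m + 1) + 1) := by
  have h1 : (a₁ - a₂) ^ 2 = (2 * (2 : ℤ) ^ (m + 1)) ^ 2 := by
    have e : (2 * (2 : ℤ) ^ (m + 1)) ^ 2 = 8 * (2 : ℤ) ^ (2 * m + 1) := by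
      rw [mul_pow, ← pow_mul]
      have : (m + 1) * 2 = 2 * m + 1 + 1 := by ring
      rw [this, pow_succ]
      ring
    rw [e]
    have : (a₁ - a₂) ^ 2 = (a₁ + a₂) ^ 2 - 4 * (a₁ * a₂) := by ring
    rw [this, hs, hp]
    ring
  rcases sq_eq_sq_iff_eq_or_eq_neg.1 h1 with h | h
  · left
    constructor <;> linarith
  · right
    constructor <;> linarith

theorem Q_ge (m : ℕ) (hm : 1 ≤ m) : (8 : ℤ) ≤ (2 : ℤ) ^ (2 * m + 1) := by
  have h : (2 : ℤ) ^ 3 ≤ 2 ^ (2 * m + 1) := pow_le_pow_right₀ (by norm_num) (by omega)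
  norm_num at h
  exact h

end toriArith

section toriC
variable {F : Type*} [Field F] [Fintype F] [CharP F 2] (m : ℕ)
set_option linter.unusedSectionVars false
variable (hF : Fintype.card F = 2 ^ (2 * m + 1))
include hF
variable {A : Subgroup (Sz F m)}

theorem IsTorus.cls_subset (hA : IsTorus m A) (hm : 1 ≤ m) {x : Sz F m} (hx : x ∈ clsSet A) :
    IsFF m x := by
  obtain ⟨hx1, h, hh⟩ := hx
  have h1 : h⁻¹ * x * h ≠ 1 := by
    intro h'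
    apply hx1
    have e : x = h * (h⁻¹ * x * h) * h⁻¹ := by group
    rw [e, h']
    group
  have := (hA.ff m hF hm hh h1).conj h
  have e : h * (h⁻¹ * x * h) * h⁻¹ = x := by group
  rwa [e] at this

omit hF in
theorem mem_cls_cent {g : Sz F m} (hg : IsFF m g) : g ∈ clsSet (Subgroup.centralizer {g}) := by
  refine ⟨hg.ne_one, 1, ?_⟩
  rw [inv_one, one_mul, mul_one, Subgroup.mem_centralizer_singleton_iff]

theorem IsTorus.cls_count (hA : IsTorus m A) (hm : 1 ≤ m) :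
    Nat.card (clsSet A) * Nat.card (Subgroup.normalizer (A : Set (Sz F m))) =
      Nat.card (Sz F m) * (Nat.card A - 1) :=
  ti_class_count A (hA.ti m hF hm)

/-- tori whose classes meet are conjugate -/
theorem IsTorus.conj_of_cls {B : Subgroup (Sz F m)} (hA : IsTorus m A) (hB : IsTorus m B)
    (hm : 1 ≤ m) {x : Sz F m} (hxA : x ∈ clsSet A) (hxB : x ∈ clsSet B) :
    ∃ c : Sz F m, B = conjSub c A := by
  obtain ⟨hx1, h, hh⟩ := hxA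
  obtain ⟨-, k, hk⟩ := hxB
  have h1 : h⁻¹ * x * h ≠ 1 := by
    intro h'
    apply hx1
    have e : x = h * (h⁻¹ * x * h) * h⁻¹ := by group
    rw [e, h']
    group
  have h2 : k⁻¹ * x * k ≠ 1 := by
    intro h'
    apply hx1
    have e : x = k * (k⁻¹ * x * k) * k⁻¹ := by group
    rw [e, h']
    group
  refine ⟨k⁻¹ * h, ?_⟩
  rw [← hA.cent m hF hm hh h1, ← centralizer_conj]
  have e : k⁻¹ * h * (h⁻¹ * x * h) * (k⁻¹ * h)⁻¹ = k⁻¹ * x * k := by group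
  rw [e, hB.cent m hF hm hk h2]

/-- the Hall property of tori -/
theorem IsTorus.hall (hA : IsTorus m A) (hm : 1 ≤ m) {p : ℕ} [hp : Fact p.Prime]
    (hpA : p ∣ Nat.card A) : ¬ p * Nat.card A ∣ (2 ^ (2 * m + 1)) ^ 2 + 1 := by
  intro hdvd
  obtain ⟨P, hP⟩ := hA.exists_sylow_le m hF hm hpA
  have hPc : Nat.card P ∣ Nat.card A := Subgroup.card_dvd_of_le hP
  rw [Sylow.card_eq_multiplicity] at hPc
  have hapos : Nat.card A ≠ 0 := Nat.card_pos.ne'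
  have hGpos : Nat.card (Sz F m) ≠ 0 := Nat.card_pos.ne'
  have h1 := (hp.out.pow_dvd_iff_le_factorization hapos).1 hPc
  have hNG : (2 ^ (2 * m + 1)) ^ 2 + 1 ∣ Nat.card (Sz F m) := by
    rw [card_Sz m hF hm]
    exact (dvd_mul_left _ _).mul_right _
  have h2 := (Nat.factorization_le_iff_dvd (mul_ne_zero hp.out.ne_zero hapos) hGpos).2 (hdvd.trans hNG) p
  rw [Nat.factorization_mul hp.out.ne_zero hapos, Finsupp.add_apply,
    hp.out.factorization_self] at h2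
  omega


/-- the `p`-part of a torus is the full `p`-part of `q² + 1` -/
theorem IsTorus.factorization_eq (hA : IsTorus m A) (hm : 1 ≤ m) {p : ℕ} [hp : Fact p.Prime]
    (hpA : p ∣ Nat.card A) :
    ((2 ^ (2 * m + 1)) ^ 2 + 1).factorization p = (Nat.card A).factorization p := by
  obtain ⟨P, hP⟩ := hA.exists_sylow_le m hF hm hpA
  have hPc : Nat.card P ∣ Nat.card A := Subgroup.card_dvd_of_le hP
  rw [Sylow.card_eq_multiplicity] at hPc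
  have hapos : Nat.card A ≠ 0 := Nat.card_pos.ne'
  have hGpos : Nat.card (Sz F m) ≠ 0 := Nat.card_pos.ne'
  have h1 := (hp.out.pow_dvd_iff_le_factorization hapos).1 hPc
  have hNG : (2 ^ (2 * m + 1)) ^ 2 + 1 ∣ Nat.card (Sz F m) := by
    rw [card_Sz m hF hm]
    exact (dvd_mul_left _ _).mul_right _
  have hNpos : (2 ^ (2 * m + 1)) ^ 2 + 1 ≠ 0 := by positivity
  have h2 := (Nat.factorization_le_iff_dvd hNpos hGpos).2 hNG p
  have h3 := (Nat.factorization_le_iff_dvd hapos hNpos).2 (hA.card_dvd m hF hm) p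
  omega

/-- the orders of the tori cover `q² + 1` -/
theorem cover_dvd (hm : 1 ≤ m) (d : ℕ) (hd0 : d ≠ 0)
    (h : ∀ B : Subgroup (Sz F m), IsTorus m B → Nat.card B ∣ d) :
    (2 ^ (2 * m + 1)) ^ 2 + 1 ∣ d := by
  have hNpos : (2 ^ (2 * m + 1)) ^ 2 + 1 ≠ 0 := by positivity
  rw [← Nat.factorization_le_iff_dvd hNpos hd0]
  intro p
  by_cases hp : p.Prime
  · by_cases hpd : p ∣ (2 ^ (2 * m + 1)) ^ 2 + 1
    · have := Fact.mk hp
      obtain ⟨B, hB, hpB⟩ := exists_torus_of_prime m hF hm hpd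
      rw [hB.factorization_eq m hF hm hpB]
      exact (Nat.factorization_le_iff_dvd Nat.card_pos.ne' hd0).2 (h B hB) p
    · rw [Nat.factorization_eq_zero_of_not_dvd hpd]
      exact Nat.zero_le _
  · rw [Nat.factorization_eq_zero_of_not_prime _ hp]
    exact Nat.zero_le _

theorem IsTorus.cls_count_int (hA : IsTorus m A) (hm : 1 ≤ m) :
    ∃ w : ℕ, (w = 1 ∨ w = 2 ∨ w = 4) ∧
      Nat.card (Subgroup.normalizer (A : Set (Sz F m))) = w * Nat.card A ∧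
      ((clsSet A).ncard : ℤ) * (w : ℤ) * (Nat.card A : ℤ) =
        ((2 : ℤ) ^ (2 * m + 1)) ^ 2 * (((2 : ℤ) ^ (2 * m + 1)) ^ 2 + 1) *
          ((2 : ℤ) ^ (2 * m + 1) - 1) * ((Nat.card A : ℤ) - 1) := by
  obtain ⟨w, hw, hN⟩ := hA.card_normalizer_eq m hF hm
  refine ⟨w, hw, hN, ?_⟩
  have h := hA.cls_count m hF hm
  rw [hN, card_Sz m hF hm, Nat.card_coe_set_eq] at h
  have h1 : 1 ≤ Nat.card A := Nat.card_pos
  have hq1 : 1 ≤ 2 ^ (2 * m + 1) := Nat.one_le_two_pow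
  have h' := congrArg (Nat.cast : ℕ → ℤ) h
  push_cast [Nat.cast_sub h1, Nat.cast_sub hq1] at h'
  linear_combination h'

theorem IsTorus.five_cls (hA : IsTorus m A) (hm : 1 ≤ m) :
    ((2 : ℤ) ^ (2 * m + 1)) ^ 2 * (((2 : ℤ) ^ (2 * m + 1)) ^ 2 + 1) *
      ((2 : ℤ) ^ (2 * m + 1) - 1) ≤ 5 * ((clsSet A).ncard : ℤ) := by
  obtain ⟨w, hw, -, h⟩ := hA.cls_count_int m hF hm
  have hQ := Q_ge m hm
  refine ar2 _ _ (w : ℤ) (Nat.card A : ℤ) ?_ ?_ ?_ h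
  · have h4 : (0 : ℤ) < ((2 : ℤ) ^ (2 * m + 1)) ^ 2 + 1 := by positivity
    have h5 : (0 : ℤ) < (2 : ℤ) ^ (2 * m + 1) - 1 := by linarith
    positivity
  · exact_mod_cast hA.five_le m hF hm
  · rcases hw with rfl | rfl | rfl <;> simp

theorem card_FF_ncard (hm : 1 ≤ m) :
    (2 * (({g | IsFF m g} : Set (Sz F m)).ncard : ℤ)) =
      (2 ^ (2 * m + 1) : ℤ) ^ 3 * ((2 ^ (2 * m + 1) : ℤ) - 1) ^ 2 := by
  have hn := card_FF m hF hm
  have hn' : Nat.card {g : Sz F m // IsFF m g} = ({g | IsFF m g} : Set (Sz F m)).ncard :=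
    Nat.card_coe_set_eq _
  rw [hn'] at hn
  exact hn

theorem three_classes_false (hm : 1 ≤ m) {A₁ A₂ A₃ : Subgroup (Sz F m)} (h₁ : IsTorus m A₁)
    (h₂ : IsTorus m A₂) (h₃ : IsTorus m A₃) (d12 : Disjoint (clsSet A₁) (clsSet A₂))
    (d13 : Disjoint (clsSet A₁) (clsSet A₃)) (d23 : Disjoint (clsSet A₂) (clsSet A₃)) : False := by
  have hsub : clsSet A₁ ∪ clsSet A₂ ∪ clsSet A₃ ⊆ ({g | IsFF m g} : Set (Sz F m)) := by
    intro x hx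
    rcases hx with (hx | hx) | hx
    · exact h₁.cls_subset m hF hm hx
    · exact h₂.cls_subset m hF hm hx
    · exact h₃.cls_subset m hF hm hx
  have hle := Set.ncard_le_ncard hsub (Set.toFinite _)
  rw [Set.ncard_union_eq (Set.disjoint_union_left.2 ⟨d13, d23⟩) (Set.toFinite _) (Set.toFinite _),
    Set.ncard_union_eq d12 (Set.toFinite _) (Set.toFinite _)] at hle
  exact ar3 ((2 : ℤ) ^ (2 * m + 1)) _ _ _ _ _ (Q_ge m hm) (card_FF_ncard m hF hm) rfl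
    (by exact_mod_cast hle) (h₁.five_cls m hF hm) (h₂.five_cls m hF hm) (h₃.five_cls m hF hm)

theorem one_class_false (hm : 1 ≤ m) {A₁ : Subgroup (Sz F m)} (h₁ : IsTorus m A₁)
    (hcov : ∀ g : Sz F m, IsFF m g → g ∈ clsSet A₁) : False := by
  have hconj : ∀ B : Subgroup (Sz F m), IsTorus m B → ∃ c, B = conjSub c A₁ := by
    intro B hB
    obtain ⟨g, hg, rfl⟩ := hB
    exact h₁.conj_of_cls m hF ⟨g, hg, rfl⟩ hm (hcov g hg) (mem_cls_cent m hg)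
  have hcard : ∀ B : Subgroup (Sz F m), IsTorus m B → Nat.card B ∣ Nat.card A₁ := by
    intro B hB
    obtain ⟨c, rfl⟩ := hconj B hB
    rw [card_conjSub]
  have hNd := cover_dvd m hF hm (Nat.card A₁) Nat.card_pos.ne' hcard
  have ha : Nat.card A₁ = (2 ^ (2 * m + 1)) ^ 2 + 1 :=
    Nat.dvd_antisymm (h₁.card_dvd m hF hm) hNd
  have hS : ({g | IsFF m g} : Set (Sz F m)) = clsSet A₁ :=
    Set.Subset.antisymm (fun g hg => hcov g hg) (fun g hg => h₁.cls_subset m hF hm hg)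
  obtain ⟨w, hw, -, h⟩ := h₁.cls_count_int m hF hm
  have hn := card_FF_ncard m hF hm
  rw [hS] at hn
  have ha' : (Nat.card A₁ : ℤ) = ((2 : ℤ) ^ (2 * m + 1)) ^ 2 + 1 := by
    rw [ha]; push_cast; ring
  rw [ha'] at h
  exact ar1 ((2 : ℤ) ^ (2 * m + 1)) _ (w : ℤ) (Q_ge m hm)
    (by rcases hw with rfl | rfl | rfl <;> simp) hn h

theorem two_classes (hm : 1 ≤ m) {A₁ A₂ : Subgroup (Sz F m)} (h₁ : IsTorus m A₁)
    (h₂ : IsTorus m A₂) (hdisj : Disjoint (clsSet A₁) (clsSet A₂))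
    (hcov : ∀ g : Sz F m, IsFF m g → g ∈ clsSet A₁ ∨ g ∈ clsSet A₂) :
    (Nat.card (Subgroup.normalizer (A₁ : Set (Sz F m))) = 4 * Nat.card A₁ ∧
      Nat.card (Subgroup.normalizer (A₂ : Set (Sz F m))) = 4 * Nat.card A₂) ∧
    ((Nat.card A₁ = 2 ^ (2 * m + 1) + 2 ^ (m + 1) + 1 ∧
        Nat.card A₂ = 2 ^ (2 * m + 1) - 2 ^ (m + 1) + 1) ∨
      (Nat.card A₂ = 2 ^ (2 * m + 1) + 2 ^ (m + 1) + 1 ∧
        Nat.card A₁ = 2 ^ (2 * m + 1) - 2 ^ (m + 1) + 1)) ∧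
    ∀ B : Subgroup (Sz F m), IsTorus m B →
      (∃ c, B = conjSub c A₁) ∨ (∃ c, B = conjSub c A₂) := by
  have hconj : ∀ B : Subgroup (Sz F m), IsTorus m B →
      (∃ c, B = conjSub c A₁) ∨ (∃ c, B = conjSub c A₂) := by
    intro B hB
    obtain ⟨g, hg, rfl⟩ := hB
    rcases hcov g hg with h | h
    · exact Or.inl (h₁.conj_of_cls m hF ⟨g, hg, rfl⟩ hm h (mem_cls_cent m hg))
    · exact Or.inr (h₂.conj_of_cls m hF ⟨g, hg, rfl⟩ hm h (mem_cls_cent m hg))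
  have hcop : Nat.Coprime (Nat.card A₁) (Nat.card A₂) := by
    by_contra hcon
    obtain ⟨p, hp, hp1, hp2⟩ := Nat.Prime.not_coprime_iff_dvd.1 hcon
    have := Fact.mk hp
    obtain ⟨c, hc⟩ := h₁.conj_of_prime m hF h₂ hm hp1 hp2
    obtain ⟨g, hg, hgA⟩ := h₂
    have hmem : g ∈ clsSet A₂ := by rw [hgA]; exact mem_cls_cent m hg
    have hmem1 : g ∈ clsSet A₁ := by rw [← clsSet_conjSub c A₁, ← hc]; exact hmem
    exact Set.disjoint_left.1 hdisj hmem1 hmem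
  have hmul : Nat.card A₁ * Nat.card A₂ = (2 ^ (2 * m + 1)) ^ 2 + 1 := by
    apply Nat.dvd_antisymm
    · exact hcop.mul_dvd_of_dvd_of_dvd (h₁.card_dvd m hF hm) (h₂.card_dvd m hF hm)
    · apply cover_dvd m hF hm _ (mul_ne_zero Nat.card_pos.ne' Nat.card_pos.ne')
      intro B hB
      rcases hconj B hB with ⟨c, rfl⟩ | ⟨c, rfl⟩
      · rw [card_conjSub]; exact dvd_mul_right _ _
      · rw [card_conjSub]; exact dvd_mul_left _ _
  have hS : ({g | IsFF m g} : Set (Sz F m)) = clsSet A₁ ∪ clsSet A₂ := by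
    apply Set.Subset.antisymm
    · intro g hg
      exact hcov g hg
    · intro g hg
      rcases hg with hg | hg
      · exact h₁.cls_subset m hF hm hg
      · exact h₂.cls_subset m hF hm hg
  have hn := card_FF_ncard m hF hm
  rw [hS, Set.ncard_union_eq hdisj (Set.toFinite _) (Set.toFinite _)] at hn
  obtain ⟨w₁, hw₁, hN₁, e₁⟩ := h₁.cls_count_int m hF hm
  obtain ⟨w₂, hw₂, hN₂, e₂⟩ := h₂.cls_count_int m hF hm
  have hw₁' : (w₁ : ℤ) = 1 ∨ (w₁ : ℤ) = 2 ∨ (w₁ : ℤ) = 4 := by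
    rcases hw₁ with rfl | rfl | rfl <;> simp
  have hw₂' : (w₂ : ℤ) = 1 ∨ (w₂ : ℤ) = 2 ∨ (w₂ : ℤ) = 4 := by
    rcases hw₂ with rfl | rfl | rfl <;> simp
  have hmul' : (Nat.card A₁ : ℤ) * (Nat.card A₂ : ℤ) = ((2 : ℤ) ^ (2 * m + 1)) ^ 2 + 1 := by
    have := congrArg (Nat.cast : ℕ → ℤ) hmul
    push_cast at this
    exact this
  obtain ⟨k1, k2, k3⟩ := ar4 ((2 : ℤ) ^ (2 * m + 1))
    ((((clsSet A₁).ncard + (clsSet A₂).ncard : ℕ)) : ℤ) ((clsSet A₁).ncard : ℤ)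
    ((clsSet A₂).ncard : ℤ) (w₁ : ℤ) (w₂ : ℤ) (Nat.card A₁ : ℤ) (Nat.card A₂ : ℤ) (Q_ge m hm)
    hw₁' hw₂' (by exact_mod_cast h₁.five_le m hF hm) (by exact_mod_cast h₂.five_le m hF hm)
    hmul' (by push_cast; rfl) hn e₁ e₂
  have k1' : w₁ = 4 := by exact_mod_cast k1
  have k2' : w₂ = 4 := by exact_mod_cast k2
  rw [k1'] at hN₁
  rw [k2'] at hN₂
  refine ⟨⟨hN₁, hN₂⟩, ?_, hconj⟩
  have hle : 2 ^ (m + 1) ≤ 2 ^ (2 * m + 1) := Nat.pow_le_pow_right (by norm_num) (by omega)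
  have hcast : ∀ a : ℕ, (a : ℤ) = (2 : ℤ) ^ (2 * m + 1) - 2 ^ (m + 1) + 1 →
      a = 2 ^ (2 * m + 1) - 2 ^ (m + 1) + 1 := by
    intro a ha
    apply Int.ofNat_injective
    simp only [Int.ofNat_eq_natCast]
    push_cast [Nat.cast_sub hle]
    exact ha
  have hcast' : ∀ a : ℕ, (a : ℤ) = (2 : ℤ) ^ (2 * m + 1) + 2 ^ (m + 1) + 1 →
      a = 2 ^ (2 * m + 1) + 2 ^ (m + 1) + 1 := by
    intro a ha
    exact_mod_cast ha
  rcases ar5 m (Nat.card A₁ : ℤ) (Nat.card A₂ : ℤ) k3 hmul' with ⟨e1, e2⟩ | ⟨e1, e2⟩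
  · exact Or.inl ⟨hcast' _ e1, hcast _ e2⟩
  · exact Or.inr ⟨hcast' _ e1, hcast _ e2⟩

/-- the structure of the tori of the Suzuki group -/
theorem tori_main (hm : 1 ≤ m) :
    ∃ A₁ A₂ : Subgroup (Sz F m), IsTorus m A₁ ∧ IsTorus m A₂ ∧
      Nat.card A₁ = 2 ^ (2 * m + 1) + 2 ^ (m + 1) + 1 ∧
      Nat.card A₂ = 2 ^ (2 * m + 1) - 2 ^ (m + 1) + 1 ∧
      Nat.card (Subgroup.normalizer (A₁ : Set (Sz F m))) = 4 * Nat.card A₁ ∧
      Nat.card (Subgroup.normalizer (A₂ : Set (Sz F m))) = 4 * Nat.card A₂ ∧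
      ∀ B : Subgroup (Sz F m), IsTorus m B →
        (∃ c, B = conjSub c A₁) ∨ (∃ c, B = conjSub c A₂) := by
  classical
  obtain ⟨A₁, h₁⟩ : ∃ A : Subgroup (Sz F m), IsTorus m A := by
    have hN2 : (2 ^ (2 * m + 1)) ^ 2 + 1 ≠ 1 := by
      have : 0 < (2 ^ (2 * m + 1)) ^ 2 := by positivity
      omega
    obtain ⟨p, hp, hpd⟩ := Nat.exists_prime_and_dvd hN2
    have := Fact.mk hp
    obtain ⟨A, hA, -⟩ := exists_torus_of_prime m hF hm hpd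
    exact ⟨A, hA⟩
  by_cases hall : ∀ g : Sz F m, IsFF m g → g ∈ clsSet A₁
  · exact (one_class_false m hF hm h₁ hall).elim
  push Not at hall
  obtain ⟨g₂, hg₂, hg₂A⟩ := hall
  have h₂ : IsTorus m (Subgroup.centralizer ({g₂} : Set (Sz F m))) := ⟨g₂, hg₂, rfl⟩
  have hdisj : Disjoint (clsSet A₁) (clsSet (Subgroup.centralizer ({g₂} : Set (Sz F m)))) := by
    rw [Set.disjoint_left]
    intro x hx1 hx2
    obtain ⟨c, hc⟩ := h₁.conj_of_cls m hF h₂ hm hx1 hx2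
    apply hg₂A
    rw [← clsSet_conjSub c A₁, ← hc]
    exact mem_cls_cent m hg₂
  by_cases hcov : ∀ g : Sz F m, IsFF m g →
      g ∈ clsSet A₁ ∨ g ∈ clsSet (Subgroup.centralizer ({g₂} : Set (Sz F m)))
  · obtain ⟨⟨n1, n2⟩, hor, hconj⟩ := two_classes m hF hm h₁ h₂ hdisj hcov
    rcases hor with ⟨e1, e2⟩ | ⟨e1, e2⟩
    · exact ⟨A₁, _, h₁, h₂, e1, e2, n1, n2, hconj⟩
    · exact ⟨_, A₁, h₂, h₁, e1, e2, n2, n1, fun B hB => (hconj B hB).symm⟩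
  · exfalso
    push Not at hcov
    obtain ⟨g₃, hg₃, hg₃1, hg₃2⟩ := hcov
    have h₃ : IsTorus m (Subgroup.centralizer ({g₃} : Set (Sz F m))) := ⟨g₃, hg₃, rfl⟩
    refine three_classes_false m hF hm h₁ h₂ h₃ hdisj ?_ ?_
    · rw [Set.disjoint_left]
      intro x hx1 hx2
      obtain ⟨c, hc⟩ := h₁.conj_of_cls m hF h₃ hm hx1 hx2
      apply hg₃1
      rw [← clsSet_conjSub c A₁, ← hc]
      exact mem_cls_cent m hg₃
    · rw [Set.disjoint_left]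
      intro x hx1 hx2
      obtain ⟨c, hc⟩ := h₂.conj_of_cls m hF h₃ hm hx1 hx2
      apply hg₃2
      rw [← clsSet_conjSub c (Subgroup.centralizer ({g₂} : Set (Sz F m))), ← hc]
      exact mem_cls_cent m hg₃

end toriC

end Cfsg.Agent.Lib.Helper5.Suzuki
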