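import Mathlib

open scoped Matrix

namespace Cfsg.Agent.Lib.Helper5.Torus

section irreducible

variable {n : Type*} [Fintype n] [DecidableEq n] [Nonempty n] {F : Type*} [Field F] [Finite F]

omit [Nonempty n] [Finite F] in
theorem eq_zero_of_mulVec (y : Matrix n n F) (h : ∀ v, y *ᵥ v = 0) : y = 0 := by
  ext i j
  have := congrFun (h (Pi.single j 1)) i
  simpa using this

omit [Nonempty n] [Finite F] in
/-- an element of the centraliser of an irreducible matrix is zero or injective -/
theorem mulVec_injective_of_commute (z : Matrix n n F)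
    (hirr : ∀ W : Submodule F (n → F), (∀ v ∈ W, z *ᵥ v ∈ W) → W = ⊥ ∨ W = ⊤)
    (a : Matrix n n F) (ha : a * z = z * a) (ha0 : a ≠ 0) (v : n → F) (hv : a *ᵥ v = 0) : v = 0 := by
  have hker : ∀ v ∈ LinearMap.ker (Matrix.mulVecLin a), z *ᵥ v ∈ LinearMap.ker (Matrix.mulVecLin a) := by
    intro v hv
    rw [LinearMap.mem_ker, Matrix.mulVecLin_apply] at hv ⊢
    rw [Matrix.mulVec_mulVec, ha, ← Matrix.mulVec_mulVec, hv, Matrix.mulVec_zero]
  rcases hirr _ hker with h | h
  · have : v ∈ LinearMap.ker (Matrix.mulVecLin a) := by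
      rw [LinearMap.mem_ker, Matrix.mulVecLin_apply]; exact hv
    rw [h] at this
    simpa using this
  · exfalso
    apply ha0
    have h1 : Matrix.mulVecLin a = 0 := LinearMap.ker_eq_top.1 h
    apply eq_zero_of_mulVec
    intro v
    have := congrArg (fun f => f v) h1
    simpa using this

/-- the centraliser ring of an irreducible matrix over a finite field is commutative -/
theorem centralizer_comm (z : Matrix n n F)
    (hirr : ∀ W : Submodule F (n → F), (∀ v ∈ W, z *ᵥ v ∈ W) → W = ⊥ ∨ W = ⊤)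
    (a b : Matrix n n F) (ha : a * z = z * a) (hb : b * z = z * b) : a * b = b * a := by
  classical
  let C : Subring (Matrix n n F) := Subring.centralizer {z}
  have hmemC : ∀ x : Matrix n n F, x ∈ C ↔ x * z = z * x := by
    intro x
    rw [Subring.mem_centralizer_iff]
    simp [eq_comm]
  have : NoZeroDivisors C := by
    refine ⟨?_⟩
    rintro ⟨x, hx⟩ ⟨y, hy⟩ hxy
    have hxy' : x * y = 0 := congrArg Subtype.val hxy
    by_cases hx0 : x = 0
    · left; exact Subtype.ext hx0
    · right
      apply Subtype.ext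
      change y = 0
      have : ∀ v, y *ᵥ v = 0 := by
        intro v
        apply mulVec_injective_of_commute z hirr x ((hmemC x).1 hx) hx0
        rw [Matrix.mulVec_mulVec, hxy', Matrix.zero_mulVec]
      exact eq_zero_of_mulVec y this
  have : Nontrivial C := by
    refine ⟨⟨0, 1, ?_⟩⟩
    intro h
    have : (0 : Matrix n n F) = 1 := congrArg Subtype.val h
    exact zero_ne_one this
  have : IsDomain C := NoZeroDivisors.to_isDomain C
  have hf := Finite.isDomain_to_isField C
  have := hf.mul_comm ⟨a, (hmemC a).2 ha⟩ ⟨b, (hmemC b).2 hb⟩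
  exact congrArg Subtype.val this

/-- the centraliser of an irreducible matrix, as a commutative ring -/
noncomputable abbrev centCommRing (z : Matrix n n F)
    (hirr : ∀ W : Submodule F (n → F), (∀ v ∈ W, z *ᵥ v ∈ W) → W = ⊥ ∨ W = ⊤) :
    CommRing (Subring.centralizer ({z} : Set (Matrix n n F))) :=
  { (inferInstance : Ring (Subring.centralizer ({z} : Set (Matrix n n F)))) with
    mul_comm := fun a b => Subtype.ext (centralizer_comm z hirr a.1 b.1
      (by have := Subring.mem_centralizer_iff.1 a.2 z rfl; exact this.symm)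
      (by have := Subring.mem_centralizer_iff.1 b.2 z rfl; exact this.symm)) }

theorem centralizer_isDomain (z : Matrix n n F)
    (hirr : ∀ W : Submodule F (n → F), (∀ v ∈ W, z *ᵥ v ∈ W) → W = ⊥ ∨ W = ⊤) :
    @IsDomain (Subring.centralizer ({z} : Set (Matrix n n F))) (centCommRing z hirr).toSemiring := by
  have hmemC : ∀ x : Matrix n n F, x ∈ Subring.centralizer ({z} : Set (Matrix n n F)) ↔
      x * z = z * x := by
    intro x
    rw [Subring.mem_centralizer_iff]
    simp [eq_comm]
  have : NoZeroDivisors (Subring.centralizer ({z} : Set (Matrix n n F))) := by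
    refine ⟨?_⟩
    rintro ⟨x, hx⟩ ⟨y, hy⟩ hxy
    have hxy' : x * y = 0 := congrArg Subtype.val hxy
    by_cases hx0 : x = 0
    · left; exact Subtype.ext hx0
    · right
      apply Subtype.ext
      change y = 0
      have : ∀ v, y *ᵥ v = 0 := by
        intro v
        apply mulVec_injective_of_commute z hirr x ((hmemC x).1 hx) hx0
        rw [Matrix.mulVec_mulVec, hxy', Matrix.zero_mulVec]
      exact eq_zero_of_mulVec y this
  have : Nontrivial (Subring.centralizer ({z} : Set (Matrix n n F))) := by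
    refine ⟨⟨0, 1, ?_⟩⟩
    intro h
    have : (0 : Matrix n n F) = 1 := congrArg Subtype.val h
    exact zero_ne_one this
  exact NoZeroDivisors.to_isDomain _

/-- a finite group of matrices commuting with an irreducible matrix is cyclic -/
theorem isCyclic_of_commute (z : Matrix n n F)
    (hirr : ∀ W : Submodule F (n → F), (∀ v ∈ W, z *ᵥ v ∈ W) → W = ⊥ ∨ W = ⊤)
    {G : Type*} [Group G] [Finite G] (f : G →* Matrix n n F) (hf : Function.Injective f)
    (hcomm : ∀ g, f g * z = z * f g) : IsCyclic G := by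
  letI := centCommRing z hirr
  have := centralizer_isDomain z hirr
  let f' : G →* Subring.centralizer ({z} : Set (Matrix n n F)) :=
    { toFun := fun g => ⟨f g, by
        rw [Subring.mem_centralizer_iff]
        intro x hx
        rw [Set.mem_singleton_iff] at hx
        rw [hx]; exact (hcomm g).symm⟩
      map_one' := Subtype.ext (map_one f)
      map_mul' := fun a b => Subtype.ext (map_mul f a b) }
  apply isCyclic_of_injective_ringHom f'
  intro a b hab
  exact hf (congrArg Subtype.val hab)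

end irreducible



section fixcount

variable {n : Type*} [Fintype n] [DecidableEq n] {F : Type*} [Field F] [Fintype F]

/-- the fixed space of a matrix -/
def fixSub (z : Matrix n n F) : Submodule F (n → F) where
  carrier := {v | z *ᵥ v = v}
  add_mem' := by
    intro a b ha hb
    simp only [Set.mem_ofPred_eq] at *
    rw [Matrix.mulVec_add, ha, hb]
  zero_mem' := by simp
  smul_mem' := by
    intro c v hv
    simp only [Set.mem_ofPred_eq] at *
    rw [Matrix.mulVec_smul, hv]

theorem mem_fixSub (z : Matrix n n F) (v : n → F) : v ∈ fixSub z ↔ z *ᵥ v = v := Iff.rfl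

theorem card_modEq_fix {p : ℕ} [hp : Fact p.Prime] (z : Matrix n n F) (hz : z ^ p = 1)
    (W : Submodule F (n → F)) (hW : ∀ v ∈ W, z *ᵥ v ∈ W) :
    Nat.card W ≡ Nat.card ↥(W ⊓ fixSub z) [MOD p] := by
  classical
  let f : Function.End ↥W := fun w => ⟨z *ᵥ w.1, hW w.1 w.2⟩
  have hpow : ∀ k : ℕ, ∀ w : ↥W, ((f ^ k) w).1 = (z ^ k) *ᵥ w.1 := by
    intro k
    induction k with
    | zero => intro w; rw [pow_zero, pow_zero, Matrix.one_mulVec]; rfl
    | succ k ih =>
      intro w
      rw [pow_succ]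
      change ((f ^ k) (f w)).1 = _
      rw [ih, pow_succ, ← Matrix.mulVec_mulVec]
  have hfp : f ^ p ^ 1 = 1 := by
    rw [pow_one]
    funext w
    apply Subtype.ext
    rw [hpow, hz, Matrix.one_mulVec]
    rfl
  have h1 := Equiv.Perm.card_fixedPoints_modEq (p := p) (n := 1) hfp
  rw [Nat.card_eq_fintype_card]
  refine h1.trans ?_
  rw [← Nat.card_eq_fintype_card]
  have : Nat.card ↑(Function.fixedPoints f) = Nat.card ↥(W ⊓ fixSub z) := by
    apply Nat.card_congr
    refine ⟨fun w => ⟨w.1.1, ⟨w.1.2, ?_⟩⟩, fun v => ⟨⟨v.1, v.2.1⟩, ?_⟩, ?_, ?_⟩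
    · have := w.2
      rw [Function.mem_fixedPoints_iff] at this
      exact congrArg Subtype.val this
    · rw [Function.mem_fixedPoints_iff]
      apply Subtype.ext
      exact v.2.2
    · intro w; rfl
    · intro v; rfl
  rw [this]

end fixcount



theorem pow_key {p q : ℕ} (hp : p.Prime) (h0 : ¬ p ∣ q) (h1 : ¬ p ∣ q - 1) (h2 : ¬ p ∣ q ^ 2 - 1)
    (h3 : ¬ p ∣ q ^ 3 - 1) (a b : ℕ) (hab : b ≤ a) (ha : a ≤ 4) (h : q ^ a ≡ q ^ b [MOD p]) :
    a = b ∨ (a = 4 ∧ b = 0) := by
  obtain ⟨c, rfl⟩ := Nat.exists_eq_add_of_le hab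
  have hq1 : 1 ≤ q := by
    rcases Nat.eq_zero_or_pos q with h | h
    · exfalso; apply h0; rw [h]; exact dvd_zero p
    · exact h
  have hcop : Nat.Coprime p (q ^ b) := by
    apply Nat.Coprime.pow_right
    exact (Nat.Prime.coprime_iff_not_dvd hp).2 h0
  have h' : q ^ b * q ^ c ≡ q ^ b * 1 [MOD p] := by
    rw [← pow_add, mul_one]; exact h
  have h'' : q ^ c ≡ 1 [MOD p] := Nat.ModEq.cancel_left_of_coprime (by rw [Nat.gcd_comm]; exact hcop.symm) h'
  have hdvd : p ∣ q ^ c - 1 := (Nat.modEq_iff_dvd' (Nat.one_le_pow _ _ hq1)).1 h''.symm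
  have hc : c ≤ 4 := by omega
  interval_cases c
  · left; rfl
  · exfalso; rw [pow_one] at hdvd; exact h1 hdvd
  · exfalso; exact h2 hdvd
  · exfalso; exact h3 hdvd
  · right; omega


section irr4

variable {F : Type*} [Field F] [Fintype F]

theorem card_sub_eq (W : Submodule F (Fin 4 → F)) :
    Nat.card W = Fintype.card F ^ Module.finrank F W := by
  classical
  rw [Nat.card_eq_fintype_card]
  exact Module.card_eq_pow_finrank

/-- a non-identity matrix of prime order `p` in dimension 4, with `q` of order 4 modulo `p`, acts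
irreducibly -/
theorem irreducible_of_pow_prime {p : ℕ} [hp : Fact p.Prime]
    (h0 : ¬ p ∣ Fintype.card F) (h1 : ¬ p ∣ Fintype.card F - 1)
    (h2 : ¬ p ∣ Fintype.card F ^ 2 - 1) (h3 : ¬ p ∣ Fintype.card F ^ 3 - 1)
    (z : Matrix (Fin 4) (Fin 4) F) (hz : z ^ p = 1) (hz1 : z ≠ 1)
    (W : Submodule F (Fin 4 → F)) (hW : ∀ v ∈ W, z *ᵥ v ∈ W) : W = ⊥ ∨ W = ⊤ := by
  have hfin4 : Module.finrank F (Fin 4 → F) = 4 := by simp
  have hle : ∀ W : Submodule F (Fin 4 → F), Module.finrank F W ≤ 4 := by
    intro W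
    have := Submodule.finrank_le W
    rw [hfin4] at this
    exact this
  -- no fixed vectors
  have hfix : fixSub z = ⊥ := by
    have h := card_modEq_fix (p := p) z hz ⊤ (fun v _ => Submodule.mem_top)
    rw [top_inf_eq, card_sub_eq, card_sub_eq] at h
    have hmono : Module.finrank F ↥(fixSub z) ≤ Module.finrank F ↥(⊤ : Submodule F (Fin 4 → F)) :=
      Submodule.finrank_mono le_top
    rcases pow_key hp.out h0 h1 h2 h3 _ _ hmono (hle _) h with h | ⟨-, h⟩
    · exfalso
      apply hz1
      have htop : fixSub z = ⊤ := by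
        apply Submodule.eq_top_of_finrank_eq
        rw [← h, finrank_top]
      have : ∀ v, (z - 1) *ᵥ v = 0 := by
        intro v
        have : v ∈ fixSub z := by rw [htop]; exact Submodule.mem_top
        rw [mem_fixSub] at this
        rw [Matrix.sub_mulVec, this, Matrix.one_mulVec, sub_self]
      have := eq_zero_of_mulVec _ this
      exact sub_eq_zero.1 this
    · exact Submodule.finrank_eq_zero.1 h
  have h := card_modEq_fix (p := p) z hz W hW
  rw [hfix, inf_bot_eq, card_sub_eq, card_sub_eq] at h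
  rcases pow_key hp.out h0 h1 h2 h3 _ _ (by simp) (hle _) h with h | ⟨h, -⟩
  · left
    rw [finrank_bot] at h
    exact Submodule.finrank_eq_zero.1 h
  · right
    apply Submodule.eq_top_of_finrank_eq
    rw [h, hfin4]

end irr4



theorem arith_of_dvd {q p : ℕ} (hq : 2 ≤ q) (hqe : Even q) (hp : p.Prime) (h : p ∣ q ^ 2 + 1) :
    p ≠ 2 ∧ ¬ p ∣ q ∧ ¬ p ∣ q - 1 ∧ ¬ p ∣ q ^ 2 - 1 ∧ ¬ p ∣ q ^ 3 - 1 := by
  have hp2 : p ≠ 2 := by
    rintro rfl
    obtain ⟨k, rfl⟩ := hqe
    have h1 : (k + k) ^ 2 + 1 = 2 * (2 * k * k) + 1 := by ring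
    rw [h1] at h
    omega
  have h2 : ¬ p ∣ q ^ 2 - 1 := by
    intro h'
    have h3 : p ∣ (q ^ 2 + 1) - (q ^ 2 - 1) := Nat.dvd_sub h h'
    have h4 : (q ^ 2 + 1) - (q ^ 2 - 1) = 2 := by
      have : 1 ≤ q ^ 2 := Nat.one_le_pow _ _ (by omega)
      omega
    rw [h4] at h3
    exact hp2 ((Nat.prime_dvd_prime_iff_eq hp Nat.prime_two).1 h3)
  have hfac : q ^ 2 - 1 = (q - 1) * (q + 1) := by
    obtain ⟨k, rfl⟩ := Nat.exists_eq_add_of_le (show 1 ≤ q by omega)
    simp only [Nat.add_sub_cancel_left]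
    have : (1 + k) ^ 2 = k * (1 + k + 1) + 1 := by ring
    rw [this, Nat.add_sub_cancel]
  refine ⟨hp2, ?_, ?_, h2, ?_⟩
  · intro h'
    have h3 : p ∣ q ^ 2 := dvd_pow h' (by norm_num)
    have h4 : p ∣ 1 := (Nat.dvd_add_right h3).1 h
    exact hp.one_lt.ne' (Nat.dvd_one.1 h4)
  · intro h'
    apply h2
    rw [hfac]
    exact Dvd.dvd.mul_right h' _
  · intro h'
    apply h2
    rw [hfac]
    apply Dvd.dvd.mul_left
    have h5 : q * (q ^ 2 + 1) = (q ^ 3 - 1) + (q + 1) := by
      have : 1 ≤ q ^ 3 := Nat.one_le_pow _ _ (by omega)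
      have h6 : q * (q ^ 2 + 1) = q ^ 3 + q := by ring
      omega
    have h6 : p ∣ (q ^ 3 - 1) + (q + 1) := by
      rw [← h5]; exact Dvd.dvd.mul_left h _
    exact (Nat.dvd_add_right h').1 h6

end Cfsg.Agent.Lib.Helper5.Torus
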