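import Cfsg.Agent.Lib.Helper5.SuzukiMax
import Cfsg.Agent.Lib.Helper5.Torus
import Mathlib

set_option autoImplicit false
open Cfsg
open scoped Matrix Pointwise commutatorElement
open Cfsg.Agent.S0335

namespace Cfsg.Agent.Lib.Helper5.Suzuki

section torus
variable {F : Type*} [Field F] [Fintype F] (m : ℕ)
set_option linter.unusedSectionVars false

/-- the matrix of an element of the Suzuki group -/
def matHom : Sz F m →* Matrix (Fin 4) (Fin 4) F where
  toFun := fun g => g.1.1
  map_one' := rfl
  map_mul' := fun _ _ => rfl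

theorem matHom_injective : Function.Injective (matHom (F := F) m) := by
  intro a b h
  exact Subtype.ext (Subtype.ext h)

variable (hF : Fintype.card F = 2 ^ (2 * m + 1))
include hF

/-- subgroups commuting with an element of prime order dividing `q² + 1` are cyclic -/
theorem cyclic_of_commute {p : ℕ} [hp : Fact p.Prime] (hpd : p ∣ (2 ^ (2 * m + 1)) ^ 2 + 1)
    (z : Sz F m) (hz : z ^ p = 1) (hz1 : z ≠ 1) (K : Subgroup (Sz F m))
    (hK : ∀ k ∈ K, k * z = z * k) : IsCyclic K := by
  have hq2 : 2 ≤ 2 ^ (2 * m + 1) := by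
    calc 2 = 2 ^ 1 := by norm_num
      _ ≤ 2 ^ (2 * m + 1) := Nat.pow_le_pow_right (by norm_num) (by omega)
  obtain ⟨hp2, h0, h1, h2, h3⟩ := Torus.arith_of_dvd hq2
    (Even.pow_of_ne_zero even_two (by omega)) hp.out hpd
  rw [← hF] at h0 h1 h2 h3
  have hzm : (matHom m z) ^ p = 1 := by
    rw [← map_pow, hz, map_one]
  have hzm1 : matHom m z ≠ 1 := by
    intro h
    apply hz1
    apply matHom_injective m
    rw [h, map_one]
  have hirr := Torus.irreducible_of_pow_prime h0 h1 h2 h3 (matHom m z) hzm hzm1
  apply Torus.isCyclic_of_commute (matHom m z) hirr ((matHom m).comp K.subtype)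
  · intro a b h
    exact Subtype.ext (matHom_injective m h)
  · intro g
    change matHom m g.1 * matHom m z = matHom m z * matHom m g.1
    rw [← map_mul, ← map_mul, hK g.1 g.2]

end torus

end Cfsg.Agent.Lib.Helper5.Suzuki
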