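import Cfsg.Agent.Lib.Helper5.SuzukiStab
import Mathlib

set_option autoImplicit false
open Cfsg
open scoped Matrix Pointwise
open Cfsg.Agent.S0335

namespace Cfsg.Agent.Lib.Helper5.Suzuki

section abstract

/-- an abstract criterion excluding regular normal subgroups -/
theorem no_regular_normal {G Ω : Type*} [Group G] [MulAction G Ω] [Finite Ω]
    (hodd : ¬ 2 ∣ Nat.card Ω) (h : G) (a b : Ω) (hab : a ≠ b) (ha : h • a = a) (hb : h • b = b)
    (hfix : ∀ c, h • c = c → c = a ∨ c = b) (N : Subgroup G) (hN : N.Normal)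
    (htrans : MulAction.IsPretransitive N Ω) : ∃ a : Ω, MulAction.stabilizer N a ≠ ⊥ := by
  by_contra hcon
  push Not at hcon
  have htriv : ∀ (n : G) (hn : n ∈ N) (c : Ω), n • c = c → n = 1 := by
    intro n hn c hc
    have : (⟨n, hn⟩ : N) ∈ MulAction.stabilizer N c := by
      rw [MulAction.mem_stabilizer_iff]
      exact hc
    rw [hcon c, Subgroup.mem_bot] at this
    exact congrArg Subtype.val this
  obtain ⟨⟨n₀, hn₀⟩, hn₀a⟩ := htrans.exists_smul_eq a b
  change n₀ • a = b at hn₀a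
  -- `h` commutes with `n₀`
  have hcomm : h * n₀ * h⁻¹ = n₀ := by
    have h1 : h * n₀ * h⁻¹ ∈ N := hN.conj_mem n₀ hn₀ h
    have h2 : (n₀⁻¹ * (h * n₀ * h⁻¹)) • a = a := by
      rw [mul_smul, mul_smul, mul_smul, inv_smul_eq_iff.2 ha.symm, hn₀a, hb, inv_smul_eq_iff, hn₀a]
    have := htriv _ (N.mul_mem (N.inv_mem hn₀) h1) a h2
    exact (inv_mul_eq_one.1 this).symm
  have hcomm' : h * n₀ = n₀ * h := by
    have := congrArg (· * h) hcomm
    simpa [mul_assoc] using this
  -- `n₀ • b` is fixed by `h`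
  have hfixb : h • (n₀ • b) = n₀ • b := by
    rw [← mul_smul, hcomm', mul_smul, hb]
  have hn₀b : n₀ • b = a := by
    rcases hfix _ hfixb with h' | h'
    · exact h'
    · exfalso
      rw [← hn₀a] at h'
      have := smul_left_cancel n₀ h'
      rw [hn₀a] at this
      exact hab this.symm
  -- `n₀` is an involution
  have hsq : n₀ * n₀ = 1 := by
    apply htriv _ (N.mul_mem hn₀ hn₀) a
    rw [mul_smul, hn₀a, hn₀b]
  -- `n₀` has a fixed point
  have hp : IsPGroup 2 (Subgroup.zpowers n₀) := by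
    intro x
    obtain ⟨k, hk⟩ := Subgroup.mem_zpowers_iff.1 x.2
    refine ⟨1, ?_⟩
    apply Subtype.ext
    rw [pow_one, Subgroup.coe_pow, ← hk, Subgroup.coe_one, pow_two, ← zpow_add, ← two_mul,
      zpow_mul, zpow_two, hsq, one_zpow]
  have : Fact (Nat.Prime 2) := ⟨Nat.prime_two⟩
  obtain ⟨c, hc⟩ := hp.nonempty_fixed_point_of_prime_not_dvd_card Ω hodd
  have hc' : n₀ • c = c := hc ⟨n₀, Subgroup.mem_zpowers n₀⟩
  have := htriv n₀ hn₀ c hc'
  rw [this, one_smul] at hn₀a
  exact hab hn₀a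

end abstract


section zass
variable {F : Type*} [Field F] [Fintype F] [CharP F 2] (m : ℕ)
set_option linter.unusedSectionVars false
variable (hF : Fintype.card F = 2 ^ (2 * m + 1))

/-- the point at infinity, as a point of the ovoid -/
noncomputable def oinf : suzukiOvoid F m := ⟨pinf, pinf_mem m⟩

/-- the affine points of the ovoid -/
noncomputable def opt (x y : F) : suzukiOvoid F m := ⟨pt m x y, pt_mem m x y⟩

theorem omega_cases (ω : suzukiOvoid F m) : ω = oinf m ∨ ∃ x y, ω = opt m x y := by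
  rcases (mem_ovoid_iff m ω.1).1 ω.2 with h | ⟨x, y, h⟩
  · exact Or.inl (Subtype.ext h)
  · exact Or.inr ⟨x, y, Subtype.ext h⟩

theorem opt_ne_oinf (x y : F) : opt m x y ≠ oinf m := fun h =>
  pt_ne_pinf m x y (congrArg Subtype.val h)

theorem opt_inj {x y x' y' : F} (h : opt m x y = opt m x' y') : x = x' ∧ y = y' :=
  pt_inj m (congrArg Subtype.val h)

theorem smul_oinf_eq (g : Sz F m) (p : Projectivization F (Fin 4 → F)) (h : g • pinf = p)
    (hp : p ∈ suzukiOvoid F m) : g • oinf m = ⟨p, hp⟩ := Subtype.ext h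

theorem smul_opt_eq (g : Sz F m) (x y : F) (p : Projectivization F (Fin 4 → F))
    (h : g • pt m x y = p) (hp : p ∈ suzukiOvoid F m) : g • opt m x y = ⟨p, hp⟩ := Subtype.ext h

include hF

theorem tT_oinf (a b : F) : tT m hF a b • (oinf m : suzukiOvoid F m) = oinf m := Subtype.ext (tT_pinf m hF a b)

theorem tT_opt (a b x y : F) : tT m hF a b • opt m x y = opt m (x + a) (y + sg m a * x + b) :=
  Subtype.ext (tT_pt m hF a b x y)

theorem wW_oinf : wW m hF • (oinf m : suzukiOvoid F m) = opt m 0 0 := Subtype.ext (wW_pinf m hF)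

theorem wW_opt_zero : wW m hF • opt m (0 : F) 0 = oinf m := Subtype.ext (wW_pt_zero m hF)

theorem dD_oinf (α : Fˣ) : dD m hF α • (oinf m : suzukiOvoid F m) = oinf m := Subtype.ext (dD_pinf m hF α)

theorem dD_opt (α : Fˣ) (x y : F) : dD m hF α • opt m x y = opt m (α * x) (sg m (α : F) * α * y) :=
  Subtype.ext (dD_pt m hF α x y)

theorem tT_inv_opt (x y : F) : (tT m hF x y)⁻¹ • opt m x y = opt m 0 0 := by
  rw [inv_smul_eq_iff, tT_opt]
  simp

theorem exists_to_inf (ω : suzukiOvoid F m) : ∃ g : Sz F m, g • ω = oinf m := by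
  rcases omega_cases m ω with rfl | ⟨x, y, rfl⟩
  · exact ⟨1, one_smul _ _⟩
  · exact ⟨wW m hF * (tT m hF x y)⁻¹, by rw [mul_smul, tT_inv_opt, wW_opt_zero]⟩

theorem exists_pair (a b : suzukiOvoid F m) (hab : a ≠ b) :
    ∃ g : Sz F m, g • a = oinf m ∧ g • b = opt m 0 0 := by
  obtain ⟨g₁, hg₁⟩ := exists_to_inf m hF a
  rcases omega_cases m (g₁ • b) with h | ⟨x, y, h⟩
  · exfalso
    rw [← hg₁] at h
    exact hab (smul_left_cancel g₁ h).symm
  · refine ⟨(tT m hF x y)⁻¹ * g₁, ?_, ?_⟩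
    · rw [mul_smul, hg₁, inv_smul_eq_iff, tT_oinf]
    · rw [mul_smul, h, tT_inv_opt]

theorem two_transitive : MulAction.IsMultiplyPretransitive (Sz F m) (suzukiOvoid F m) 2 := by
  rw [MulAction.is_two_pretransitive_iff]
  intro a b c d hab hcd
  obtain ⟨g, hga, hgb⟩ := exists_pair m hF a b hab
  obtain ⟨g', hgc, hgd⟩ := exists_pair m hF c d hcd
  refine ⟨g'⁻¹ * g, ?_, ?_⟩
  · rw [mul_smul, hga, inv_smul_eq_iff, hgc]
  · rw [mul_smul, hgb, inv_smul_eq_iff, hgd]

theorem sg_mul_self_eq_one (α : F) (h : sg m α * α = 1) : α = 1 := by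
  have hα : α ≠ 0 := by
    rintro rfl
    rw [mul_zero] at h
    exact zero_ne_one h
  have hs : sg m α ≠ 0 := fun h' => hα (sg_eq_zero m α h')
  have h1 := congrArg (sg m) h
  rw [sg_mul, sg_sg m hF, sg_one] at h1
  have : sg m α * α * (α - 1) = 0 := by linear_combination h1 - h
  rcases mul_eq_zero.1 this with h' | h'
  · exact absurd h' (mul_ne_zero hs hα)
  · exact sub_eq_zero.1 h'

theorem fix_three_std (hm : 1 ≤ m) (g : Sz F m) (hinf : g • (oinf m : suzukiOvoid F m) = oinf m)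
    (hzero : g • opt m (0 : F) 0 = opt m 0 0) (x y : F) (hxy : ¬ (x = 0 ∧ y = 0))
    (h : g • opt m x y = opt m x y) : g = 1 := by
  obtain ⟨α, rfl⟩ := two_point' m hF hm g (congrArg Subtype.val hinf) (congrArg Subtype.val hzero)
  rw [dD_opt] at h
  obtain ⟨h1, h2⟩ := opt_inj m h
  have hα : (α : F) = 1 := by
    by_cases hx : x = 0
    · have hy : y ≠ 0 := fun hy => hxy ⟨hx, hy⟩
      have : sg m (α : F) * α = 1 := by
        have : (sg m (α : F) * α - 1) * y = 0 := by linear_combination h2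
        rcases mul_eq_zero.1 this with h' | h'
        · exact sub_eq_zero.1 h'
        · exact absurd h' hy
      exact sg_mul_self_eq_one m hF _ this
    · have : ((α : F) - 1) * x = 0 := by linear_combination h1
      rcases mul_eq_zero.1 this with h' | h'
      · exact sub_eq_zero.1 h'
      · exact absurd h' hx
  have : α = 1 := Units.ext hα
  rw [this, dD_one]

theorem fix_three (hm : 1 ≤ m) (g : Sz F m) (a b c : suzukiOvoid F m) (hab : a ≠ b) (hbc : b ≠ c)
    (hac : a ≠ c) (ha : g • a = a) (hb : g • b = b) (hc : g • c = c) : g = 1 := by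
  obtain ⟨h, hha, hhb⟩ := exists_pair m hF a b hab
  rcases omega_cases m (h • c) with h' | ⟨x, y, h'⟩
  · exfalso
    rw [← hha] at h'
    exact hac (smul_left_cancel h h').symm
  · have hxy : ¬ (x = 0 ∧ y = 0) := by
      rintro ⟨rfl, rfl⟩
      rw [← hhb] at h'
      exact hbc (smul_left_cancel h h').symm
    have := fix_three_std m hF hm (h * g * h⁻¹)
      (by rw [mul_smul, mul_smul, inv_smul_eq_iff.2 hha.symm, ha, hha])
      (by rw [mul_smul, mul_smul, inv_smul_eq_iff.2 hhb.symm, hb, hhb]) x y hxy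
      (by rw [mul_smul, mul_smul, inv_smul_eq_iff.2 h'.symm, hc, h'])
    rw [mul_inv_eq_one] at this
    exact mul_left_cancel (this.trans (mul_one h).symm)

omit hF in
theorem opt_one_ne : opt m (1 : F) 0 ≠ opt m 0 0 := by
  intro h
  exact one_ne_zero (opt_inj m h).1

theorem faithful (hm : 1 ≤ m) : FaithfulSMul (Sz F m) (suzukiOvoid F m) := by
  constructor
  intro g g' h
  have key : ∀ ω : suzukiOvoid F m, (g'⁻¹ * g) • ω = ω := by
    intro ω
    rw [mul_smul, inv_smul_eq_iff, h]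
  have := fix_three m hF hm (g'⁻¹ * g) (oinf m) (opt m 0 0) (opt m 1 0) (opt_ne_oinf m 0 0).symm
    (opt_one_ne m).symm (opt_ne_oinf m 1 0).symm (key _) (key _) (key _)
  exact (inv_mul_eq_one.1 this).symm

theorem exists_unit_ne_one (hm : 1 ≤ m) : ∃ α : Fˣ, α ≠ 1 := by
  classical
  have : 1 < Fintype.card Fˣ := by
    rw [Fintype.card_units, hF]
    have : 2 ^ 3 ≤ 2 ^ (2 * m + 1) := Nat.pow_le_pow_right (by norm_num) (by omega)
    omega
  exact Fintype.exists_ne_of_one_lt_card this 1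

theorem card_ovoid_odd : ¬ 2 ∣ Nat.card (suzukiOvoid F m) := by
  rw [Cfsg.Agent.S0326.result, hF]
  intro h
  have h2 : 2 ∣ (2 ^ (2 * m + 1)) ^ 2 := by
    rw [← pow_mul]
    exact dvd_pow_self 2 (by omega)
  have := (Nat.dvd_add_right h2).1 h
  omega

theorem zassenhaus (hm : 1 ≤ m) : IsZassenhausGroup (Sz F m) (suzukiOvoid F m) := by
  refine ⟨faithful m hF hm, two_transitive m hF, ?_, ?_, ?_⟩
  · intro g a b c hab hbc hac ha hb hc
    exact fix_three m hF hm g a b c hab hbc hac ha hb hc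
  · obtain ⟨α, hα⟩ := exists_unit_ne_one m hF hm
    refine ⟨dD m hF α, ?_, oinf m, opt m 0 0, (opt_ne_oinf m 0 0).symm, dD_oinf m hF α, ?_⟩
    · intro h
      rw [← dD_one m hF] at h
      exact hα (dD_inj m hF h)
    · rw [dD_opt]; simp
  · intro N hN htrans
    obtain ⟨α, hα⟩ := exists_unit_ne_one m hF hm
    have hne : dD m hF α ≠ 1 := by
      intro h
      rw [← dD_one m hF] at h
      exact hα (dD_inj m hF h)
    refine no_regular_normal (card_ovoid_odd m hF) (dD m hF α) (oinf m) (opt m 0 0)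
      (opt_ne_oinf m 0 0).symm (dD_oinf m hF α) (by rw [dD_opt]; simp) ?_ N hN htrans
    intro c hc
    by_contra hcon
    push Not at hcon
    exact hne (fix_three m hF hm (dD m hF α) (oinf m) (opt m 0 0) c (opt_ne_oinf m 0 0).symm
      hcon.2.symm hcon.1.symm (dD_oinf m hF α) (by rw [dD_opt]; simp) hc)

end zass

end Cfsg.Agent.Lib.Helper5.Suzuki
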