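import Mathlib
import Cfsg.Agent.Lib.Helper5.SympCount

/-!
# Counting symplectic bases adapted to isotropic subspaces (helper5's shared lemmas)
-/

set_option autoImplicit false

namespace Cfsg.Agent.Lib.Helper5.SympFlag

open Cfsg.Agent.Lib.Helper5.SympCount

universe u v

section
variable {F : Type v} {V : Type u} [Field F] [AddCommGroup V] [Module F V]
  (B : LinearMap.BilinForm F V)

/-- symplectic families whose `e`-part is adapted to a family of subspaces -/
def IsASB (m : ℕ) (C : Fin m → Submodule F V) (p : (Fin m → V) × (Fin m → V)) : Prop :=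
  IsSB B m p ∧ ∀ i, p.1 i ∈ C i

/-- the type of adapted symplectic families -/
abbrev ASB (m : ℕ) (C : Fin m → Submodule F V) : Type u :=
  {p : (Fin m → V) × (Fin m → V) // IsASB B m C p}

/-- the constraints induced on the orthogonal complement of a pair -/
def tailC {m : ℕ} (C : Fin (m + 1) → Submodule F V) (e f : V) :
    Fin m → Submodule F (perp B e f) :=
  fun i => (C i.succ).comap (perp B e f).subtype

variable {B}

/-- first pair of an adapted symplectic family -/
def headA (m : ℕ) (C : Fin (m + 1) → Submodule F V) (x : ASB B (m + 1) C) :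
    {p : V × V // B p.1 p.2 = 1 ∧ p.1 ∈ C 0} :=
  ⟨(x.1.1 0, x.1.2 0), by have := x.2.1.1 0 0; simpa using this, x.2.2 0⟩

/-- the fibre of `headA` -/
def fiberEquivA (hA : B.IsAlt) (m : ℕ) (C : Fin (m + 1) → Submodule F V)
    (p : {p : V × V // B p.1 p.2 = 1 ∧ p.1 ∈ C 0}) :
    {x : ASB B (m + 1) C // headA m C x = p} ≃
      ASB (B.restrict (perp B p.1.1 p.1.2)) m (tailC B C p.1.1 p.1.2) where
  toFun x :=
    ⟨(fiberEquiv hA m ⟨p.1, p.2.1⟩
        ⟨⟨x.1.1, x.1.2.1⟩, Subtype.ext
          (show (headPair m _).1 = p.1 from congrArg Subtype.val x.2)⟩).1,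
      (fiberEquiv hA m ⟨p.1, p.2.1⟩
        ⟨⟨x.1.1, x.1.2.1⟩, Subtype.ext
          (show (headPair m _).1 = p.1 from congrArg Subtype.val x.2)⟩).2,
      fun i => x.1.2.2 i.succ⟩
  invFun y :=
    ⟨⟨_, isSB_cons hA m p.2.1 ⟨y.1, y.2.1⟩, fun i => by
      refine Fin.cases ?_ (fun j => ?_) i
      · simpa using p.2.2
      · simp only [Fin.cons_succ]
        exact y.2.2 j⟩, Subtype.ext rfl⟩
  left_inv := by
    rintro ⟨⟨⟨E, Fv⟩, hx⟩, hp⟩
    have he : E 0 = p.1.1 := congrArg (fun q => q.1.1) hp
    have hf : Fv 0 = p.1.2 := congrArg (fun q => q.1.2) hp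
    apply Subtype.ext
    apply Subtype.ext
    refine Prod.ext ?_ ?_
    · funext i
      refine Fin.cases ?_ (fun i => ?_) i
      · simp [he]
      · simp [fiberEquiv]
    · funext i
      refine Fin.cases ?_ (fun i => ?_) i
      · simp [hf]
      · simp [fiberEquiv]
  right_inv := by
    rintro ⟨⟨E, Fv⟩, hy⟩
    apply Subtype.ext
    refine Prod.ext ?_ ?_
    · funext i
      apply Subtype.ext
      simp [fiberEquiv]
    · funext i
      apply Subtype.ext
      simp [fiberEquiv]

/-- intersecting an isotropic subspace with the complement of a hyperbolic pair -/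
theorem finrank_comap_perp [FiniteDimensional F V] (hA : B.IsAlt) {e f : V} (hef : B e f = 1)
    (W : Submodule F V) (he : e ∈ W) (hW : ∀ u ∈ W, ∀ v ∈ W, B u v = 0) :
    Module.finrank F (W.comap (perp B e f).subtype) + 1 = Module.finrank F W := by
  have h1' : B f e = -1 := by rw [← hA.neg_eq e f, hef]
  let φ : W →ₗ[F] F := (B f).comp W.subtype
  have hφ : Function.Surjective φ := by
    intro c
    refine ⟨(-c) • ⟨e, he⟩, ?_⟩
    simp [φ, h1']
  have h2 := LinearMap.finrank_range_add_finrank_ker φ
  rw [LinearMap.range_eq_top.2 hφ] at h2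
  simp at h2
  have h3 : Module.finrank F (LinearMap.ker φ) =
      Module.finrank F (W.comap (perp B e f).subtype) := by
    apply LinearEquiv.finrank_eq
    exact
      { toFun := fun w => ⟨⟨w.1.1, by
          rw [mem_perp]
          exact ⟨hW e he w.1.1 w.1.2, LinearMap.mem_ker.1 w.2⟩⟩, w.1.2⟩
        map_add' := fun _ _ => rfl
        map_smul' := fun _ _ => rfl
        invFun := fun z => ⟨⟨z.1.1, z.2⟩, by
          rw [LinearMap.mem_ker]
          exact ((mem_perp B e f z.1.1).1 z.1.2).2⟩
        left_inv := fun _ => rfl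
        right_inv := fun _ => rfl }
  omega

end

section
variable {F : Type v} {V : Type u} [Field F] [Finite F] [AddCommGroup V] [Module F V]
  [FiniteDimensional F V] (B : LinearMap.BilinForm F V)

/-- number of hyperbolic pairs whose first vector lies in a given subspace -/
theorem card_hypPair_mem (hB : B.Nondegenerate) (n : ℕ) (hn : Module.finrank F V = n + 1)
    (W : Submodule F V) :
    Nat.card {p : V × V // B p.1 p.2 = 1 ∧ p.1 ∈ W} =
      (Nat.card F ^ (Module.finrank F W) - 1) * Nat.card F ^ n := by
  classical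
  have : Finite V := Module.finite_of_finite F
  have := Fintype.ofFinite W
  have hV : Nat.card V = Nat.card F ^ (n + 1) := by
    rw [Module.natCard_eq_pow_finrank (K := F), hn]
  have hWc : Nat.card W = Nat.card F ^ (Module.finrank F W) :=
    Module.natCard_eq_pow_finrank (K := F)
  have hq : 0 < Nat.card F := Nat.card_pos
  have e1 : {p : V × V // B p.1 p.2 = 1 ∧ p.1 ∈ W} ≃ Σ e : W, {f : V // B e f = 1} :=
    { toFun := fun p => ⟨⟨p.1.1, p.2.2⟩, ⟨p.1.2, p.2.1⟩⟩
      invFun := fun s => ⟨(s.1.1, s.2.1), s.2.2, s.1.2⟩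
      left_inv := fun _ => rfl
      right_inv := fun _ => rfl }
  rw [Nat.card_congr e1, Nat.card_sigma]
  have hfib : ∀ e : W, Nat.card {f : V // B e f = 1} = if e = 0 then 0 else Nat.card F ^ n := by
    intro e
    split_ifs with he
    · subst he
      rw [Nat.card_eq_zero]
      left
      exact ⟨fun f => by simpa using f.2⟩
    · have hne : B (e : V) ≠ 0 := fun h0 => he (Subtype.ext (hB.1 e (fun y => by rw [h0]; rfl)))
      have h1 := card_fiber (B (e : V)) hne 1
      rw [hV, pow_succ] at h1
      exact Nat.eq_of_mul_eq_mul_right hq h1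
  rw [Finset.sum_congr rfl (fun e _ => hfib e), ← Finset.sum_erase Finset.univ (a := (0 : W))
    (by simp)]
  rw [Finset.sum_congr rfl (fun e he => if_neg (Finset.ne_of_mem_erase he)), Finset.sum_const,
    Finset.card_erase_of_mem (Finset.mem_univ _), Finset.card_univ, smul_eq_mul,
    ← Nat.card_eq_fintype_card, hWc]

end

/-- number of symplectic bases adapted to a chain of subspaces, each isotropic or everything -/
theorem card_ASB {F : Type v} [Field F] [Finite F] : ∀ (m : ℕ) (V : Type u) [AddCommGroup V]
    [Module F V] [FiniteDimensional F V] (B : LinearMap.BilinForm F V), B.Nondegenerate → B.IsAlt →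
    Module.finrank F V = 2 * m → ∀ (C : Fin m → Submodule F V) (δ : Fin m → ℕ),
    (∀ i j, i ≤ j → C i ≤ C j) →
    (∀ i, (C i = ⊤ ∧ δ i = 2 * (m - i)) ∨
      ((∀ u ∈ C i, ∀ v ∈ C i, B u v = 0) ∧ Module.finrank F (C i) = δ i + i)) →
    Nat.card (ASB B m C) =
      ∏ i : Fin m, ((Nat.card F ^ (δ i) - 1) * Nat.card F ^ (2 * (m - i) - 1)) := by
  intro m
  induction m with
  | zero =>
    intro V _ _ _ B _ _ _ C δ _ _
    rw [Finset.univ_eq_empty, Finset.prod_empty]
    have : Unique (ASB B 0 C) :=
      { default := ⟨(Fin.elim0, Fin.elim0),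
          ⟨fun i => i.elim0, fun i => i.elim0, fun i => i.elim0⟩, fun i => i.elim0⟩
        uniq := fun x => Subtype.ext (Prod.ext (funext fun i => i.elim0) (funext fun i => i.elim0)) }
    exact Nat.card_unique
  | succ m ih =>
    intro V _ _ _ B hB hA hn C δ hmono hC
    have : Finite V := Module.finite_of_finite F
    have := Fintype.ofFinite {p : V × V // B p.1 p.2 = 1 ∧ p.1 ∈ C 0}
    rw [← Nat.card_congr (Equiv.sigmaFiberEquiv (headA (B := B) m C)), Nat.card_sigma]
    have hfib : ∀ p : {p : V × V // B p.1 p.2 = 1 ∧ p.1 ∈ C 0},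
        Nat.card {x : ASB B (m + 1) C // headA m C x = p} =
          ∏ i : Fin m, ((Nat.card F ^ (δ i.succ) - 1) * Nat.card F ^ (2 * (m - i) - 1)) := by
      intro p
      rw [Nat.card_congr (fiberEquivA hA m C p)]
      apply ih
      · exact restrict_perp_nondegenerate hB hA p.2.1
      · exact fun x => hA x
      · have := finrank_perp hA p.2.1
        omega
      · intro i j hij
        exact Submodule.comap_mono (hmono i.succ j.succ (Fin.succ_le_succ_iff.2 hij))
      · intro i
        rcases hC i.succ with ⟨h1, h2⟩ | ⟨h1, h2⟩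
        · left
          refine ⟨?_, ?_⟩
          · simp only [tailC, h1, Submodule.comap_top]
          · rw [h2, Fin.val_succ]
            omega
        · right
          refine ⟨?_, ?_⟩
          · intro u hu v hv
            exact h1 u hu v hv
          · have he : p.1.1 ∈ C i.succ := hmono 0 i.succ (Fin.zero_le _) p.2.2
            have := finrank_comap_perp hA p.2.1 (C i.succ) he h1
            rw [h2, Fin.val_succ] at this
            have h3 : Module.finrank F ((C i.succ).comap (perp B p.1.1 p.1.2).subtype) =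
                δ i.succ + i := by omega
            exact h3
    rw [Finset.sum_congr rfl (fun p _ => hfib p), Finset.sum_const, Finset.card_univ, smul_eq_mul,
      ← Nat.card_eq_fintype_card, card_hypPair_mem B hB (2 * m + 1) (by omega), Fin.prod_univ_succ]
    congr 1
    · congr 2
      · rcases hC 0 with ⟨h1, h2⟩ | ⟨h1, h2⟩
        · rw [h1, h2, finrank_top, hn]
          simp
        · rw [h2]
          simp
    · refine Finset.prod_congr rfl (fun i _ => ?_)
      rw [Fin.val_succ]
      congr 3
      omega

end Cfsg.Agent.Lib.Helper5.SympFlag
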