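import Mathlib
import Cfsg.Prelude.Def_Solvable
import Cfsg.Prelude.Def_Local
import Cfsg.Agent.H1.QuadThree
import Cfsg.Agent.H1.Cores
import Cfsg.Agent.S0022
import Cfsg.Agent.S0023
import Cfsg.Agent.S0026
import Cfsg.Agent.S0027

/-!
# TI Sylow subgroups of `p`-solvable groups: the minimal configuration

For a `p`-solvable group with a non-normal TI Sylow `p`-subgroup `P` we produce a `P`-invariant
`r`-subgroup `R` of `O_{p'}(G)` which is minimal subject to not being centralized by `P`.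
-/

set_option autoImplicit false
set_option linter.style.haveILetI false
set_option linter.unusedSectionVars false
set_option linter.unusedVariables false

namespace Cfsg.Agent.Lib.Helper5.TISyl

open scoped commutatorElement Pointwise

variable {G : Type*} [Group G]

/-- The minimal configuration: `P` acts on `R`, `C = C_R(P)` is central in `R`, contains every
proper `P`-invariant subgroup of `R`, and every nonidentity element of `P` fixes no coset of `C`
in `R` other than `C` itself. -/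
structure Config (P R C : Subgroup G) : Prop where
  norm : P ≤ Subgroup.normalizer (R : Set G)
  le : C ≤ R
  ne : C ≠ R
  central : ∀ c ∈ C, ∀ g ∈ R, c * g = g * c
  cent : ∀ c ∈ C, ∀ y ∈ P, c * y = y * c
  cop : (Nat.card R).Coprime (Nat.card P)
  min : ∀ M : Subgroup G, M ≤ R → M ≠ R → P ≤ Subgroup.normalizer (M : Set G) → M ≤ C
  fix : ∀ x ∈ P, x ≠ 1 → ∀ g ∈ R, g⁻¹ * (x * g * x⁻¹) ∈ C → g ∈ C
  comm : ⁅R, P⁆ = R
  gen : ∀ x ∈ P, x ≠ 1 → ⁅R, Subgroup.zpowers x⁆ ⊔ C = R
  der : ⁅R, R⁆ ≤ C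

theorem mem_normalizer_commutator {H₁ H₂ : Subgroup G} {y : G}
    (h1 : y ∈ Subgroup.normalizer (H₁ : Set G)) (h2 : y ∈ Subgroup.normalizer (H₂ : Set G)) :
    y ∈ Subgroup.normalizer ((⁅H₁, H₂⁆ : Subgroup G) : Set G) := by
  have key : ∀ z : G, z ∈ Subgroup.normalizer (H₁ : Set G) → z ∈ Subgroup.normalizer (H₂ : Set G) →
      ∀ r ∈ ⁅H₁, H₂⁆, z * r * z⁻¹ ∈ ⁅H₁, H₂⁆ := by
    intro z hz1 hz2 r hr
    have hmap : (⁅H₁, H₂⁆).map (MulAut.conj z).toMonoidHom ≤ ⁅H₁, H₂⁆ := by
      rw [Subgroup.commutator_def, MonoidHom.map_closure, Subgroup.closure_le]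
      rintro _ ⟨_, ⟨a, ha, b, hb, rfl⟩, rfl⟩
      have h1 : (MulAut.conj z).toMonoidHom ⁅a, b⁆ = ⁅z * a * z⁻¹, z * b * z⁻¹⁆ := by
        show z * ⁅a, b⁆ * z⁻¹ = ⁅z * a * z⁻¹, z * b * z⁻¹⁆
        rw [commutatorElement_def, commutatorElement_def]
        group
      rw [h1]
      exact Subgroup.subset_closure ⟨z * a * z⁻¹, (Subgroup.mem_normalizer_iff.mp hz1 a).mp ha,
        z * b * z⁻¹, (Subgroup.mem_normalizer_iff.mp hz2 b).mp hb, rfl⟩
    exact hmap ⟨r, hr, rfl⟩
  rw [Subgroup.mem_normalizer_iff]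
  intro r
  constructor
  · exact key y h1 h2 r
  · intro hr
    have := key y⁻¹ (Subgroup.inv_mem _ h1) (Subgroup.inv_mem _ h2) _ hr
    have e : y⁻¹ * (y * r * y⁻¹) * y⁻¹⁻¹ = r := by group
    rwa [e] at this

theorem commutator_le_of_le_normalizer {R P : Subgroup G}
    (h : P ≤ Subgroup.normalizer (R : Set G)) : ⁅R, P⁆ ≤ R := by
  rw [Subgroup.commutator_le]
  intro r hr y hy
  rw [commutatorElement_def]
  have h1 : y * r⁻¹ * y⁻¹ ∈ R := (Subgroup.mem_normalizer_iff.mp (h hy) r⁻¹).mp (R.inv_mem hr)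
  have e : r * y * r⁻¹ * y⁻¹ = r * (y * r⁻¹ * y⁻¹) := by group
  rw [e]
  exact R.mul_mem hr h1

theorem coprime_card_sylow {p : ℕ} [hp : Fact p.Prime] [Finite G] (P : Sylow p G) {K : Subgroup G}
    (hK : (Nat.card K).Coprime p) : (Nat.card K).Coprime (Nat.card (P : Subgroup G)) := by
  obtain ⟨n, hn⟩ := IsPGroup.iff_card.mp P.isPGroup'
  rw [hn]
  exact Nat.Coprime.pow_right n hK

/-- In a group with a TI Sylow `p`-subgroup `P`, an element of a normal `p'`-subgroup commuting
with a nonidentity element of `P` centralizes `P`. -/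
theorem mem_centralizer_of_comm {p : ℕ} [Fact p.Prime] [Finite G] (P : Sylow p G)
    (hTI : ∀ g : G, g ∉ Subgroup.normalizer ((P : Subgroup G) : Set G) →
      (P : Subgroup G) ⊓ (MulAut.conj g • (P : Subgroup G)) = ⊥)
    (K : Subgroup G) [hKn : K.Normal] (hK : (Nat.card K).Coprime p)
    {x : G} (hx : x ∈ (P : Subgroup G)) (hx1 : x ≠ 1) {c : G} (hc : c ∈ K) (hxc : x * c = c * x) :
    c ∈ Subgroup.centralizer ((P : Subgroup G) : Set G) := by
  have hcN : c ∈ Subgroup.normalizer ((P : Subgroup G) : Set G) := by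
    by_contra hcon
    have h1 := hTI c hcon
    have h2 : x ∈ (P : Subgroup G) ⊓ (MulAut.conj c • (P : Subgroup G)) := by
      refine ⟨hx, ?_⟩
      show x ∈ MulAut.conj c • (P : Subgroup G)
      rw [Subgroup.mem_pointwise_smul_iff_inv_smul_mem]
      have e : (MulAut.conj c)⁻¹ • x = x := by
        rw [MulAut.smul_def, MulAut.conj_inv_apply]
        calc c⁻¹ * x * c = c⁻¹ * (x * c) := by group
          _ = c⁻¹ * (c * x) := by rw [hxc]
          _ = x := by group
      rw [e]
      exact hx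
    rw [h1, Subgroup.mem_bot] at h2
    exact hx1 h2
  have hdisj : K ⊓ (P : Subgroup G) = ⊥ :=
    (Subgroup.disjoint_of_coprime_natCard (coprime_card_sylow P hK)).eq_bot
  have hcomm := Cfsg.Agent.H1.commute_of_normal_disjoint K (P : Subgroup G) c hc
    Subgroup.le_normalizer_of_normal hcN hdisj
  rw [Subgroup.mem_centralizer_iff]
  intro y hy
  exact hcomm y hy

/-- If every proper `P`-invariant subgroup of `R` lies in the proper subgroup `C` (coprime action
of a solvable group `P`), then `R` has prime power order. -/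
theorem isPGroup_of_min [Finite G] {P R C : Subgroup G}
    (hPR : P ≤ Subgroup.normalizer (R : Set G))
    (hcop : (Nat.card P).Coprime (Nat.card R)) (hPsolv : Group.IsSolvable P)
    (hCR : C ≤ R) (hne : C ≠ R)
    (hmin : ∀ M : Subgroup G, M ≤ R → M ≠ R → P ≤ Subgroup.normalizer (M : Set G) → M ≤ C) :
    ∃ r : ℕ, r.Prime ∧ IsPGroup r R := by
  by_contra hcon
  push Not at hcon
  apply hne
  apply Subgroup.eq_of_le_of_card_ge hCR
  apply Nat.le_of_dvd Nat.card_pos
  rw [← Nat.factorization_prime_le_iff_dvd Nat.card_pos.ne' Nat.card_pos.ne']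
  intro r hr
  haveI : Fact r.Prime := ⟨hr⟩
  obtain ⟨Q, hQ⟩ := Cfsg.Agent.S0023.result P R hPR hcop (Or.inl hPsolv) r
  have hSR : (Q : Subgroup R).map R.subtype ≤ R := by
    rintro _ ⟨y, _, rfl⟩
    exact y.2
  have hSne : (Q : Subgroup R).map R.subtype ≠ R := by
    intro h
    apply hcon r hr
    have h1 : IsPGroup r ((Q : Subgroup R).map R.subtype) := Q.isPGroup'.map _
    rw [h] at h1
    exact h1
  have hSC := hmin _ hSR hSne hQ
  have hcard : Nat.card ((Q : Subgroup R).map R.subtype) = r ^ (Nat.card R).factorization r := by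
    rw [Subgroup.card_map_of_injective R.subtype_injective]
    exact Q.card_eq_multiplicity
  have hdvd := Subgroup.card_dvd_of_le hSC
  rw [hcard] at hdvd
  exact (Nat.Prime.pow_dvd_iff_le_factorization hr Nat.card_pos.ne').mp hdvd

theorem mem_normalizer_of_commute {C : Subgroup G} {a : G} (h : ∀ c ∈ C, c * a = a * c) :
    a ∈ Subgroup.normalizer (C : Set G) := by
  rw [Subgroup.mem_normalizer_iff]
  intro c
  constructor
  · intro hc
    have e : a * c * a⁻¹ = c := by
      calc a * c * a⁻¹ = (a * c) * a⁻¹ := by group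
        _ = (c * a) * a⁻¹ := by rw [h c hc]
        _ = c := by group
    rw [e]
    exact hc
  · intro hc
    have h1 := h _ hc
    have e : a * c = a * (a * c * a⁻¹) := by
      rw [← h1]
      group
    have := mul_left_cancel e
    rw [this]
    exact hc

/-- Fixed cosets lift to fixed points: if `x` acts coprimely on `R`, `C` is central in `R`,
centralized by `x`, and contains `C_R(x)`, then the only coset `gC` fixed by `x` is `C`. -/
theorem mem_of_coset_fixed [Finite G] {R C : Subgroup G} {x : G}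
    (hxR : x ∈ Subgroup.normalizer (R : Set G))
    (hcop : (Nat.card (Subgroup.zpowers x)).Coprime (Nat.card R))
    (hCR : C ≤ R) (hcentral : ∀ c ∈ C, ∀ g ∈ R, c * g = g * c) (hxC : ∀ c ∈ C, c * x = x * c)
    (hfix : ∀ g ∈ R, x * g = g * x → g ∈ C)
    {g : G} (hg : g ∈ R) (h : g⁻¹ * (x * g * x⁻¹) ∈ C) : g ∈ C := by
  -- the subgroup of elements `a` normalizing `R`, centralizing `C`, with `g⁻¹ (a g a⁻¹) ∈ C`
  let T : Subgroup G :=
    { carrier := {a | a ∈ Subgroup.normalizer (R : Set G) ∧ (∀ c ∈ C, c * a = a * c) ∧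
        g⁻¹ * (a * g * a⁻¹) ∈ C}
      one_mem' := by
        refine ⟨Subgroup.one_mem _, fun c _ => by simp, ?_⟩
        simp
      mul_mem' := by
        rintro a b ⟨ha1, ha2, ha3⟩ ⟨hb1, hb2, hb3⟩
        refine ⟨Subgroup.mul_mem _ ha1 hb1, ?_, ?_⟩
        · intro c hc
          calc c * (a * b) = (c * a) * b := by group
            _ = (a * c) * b := by rw [ha2 c hc]
            _ = a * (c * b) := by group
            _ = a * (b * c) := by rw [hb2 c hc]
            _ = a * b * c := by group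
        · have e : g⁻¹ * (a * b * g * (a * b)⁻¹) =
              (g⁻¹ * (a * g * a⁻¹)) * (a * (g⁻¹ * (b * g * b⁻¹)) * a⁻¹) := by group
          rw [e]
          have h2 : a * (g⁻¹ * (b * g * b⁻¹)) * a⁻¹ = g⁻¹ * (b * g * b⁻¹) := by
            have := ha2 _ hb3
            calc a * (g⁻¹ * (b * g * b⁻¹)) * a⁻¹ = (a * (g⁻¹ * (b * g * b⁻¹))) * a⁻¹ := by group
              _ = ((g⁻¹ * (b * g * b⁻¹)) * a) * a⁻¹ := by rw [this]
              _ = g⁻¹ * (b * g * b⁻¹) := by group
          rw [h2]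
          exact C.mul_mem ha3 hb3
      inv_mem' := by
        rintro a ⟨ha1, ha2, ha3⟩
        refine ⟨Subgroup.inv_mem _ ha1, ?_, ?_⟩
        · intro c hc
          have := ha2 c hc
          calc c * a⁻¹ = a⁻¹ * (a * c) * a⁻¹ := by group
            _ = a⁻¹ * (c * a) * a⁻¹ := by rw [this]
            _ = a⁻¹ * c := by group
        · obtain ⟨c, hcdef⟩ : ∃ c, c = g⁻¹ * (a * g * a⁻¹) := ⟨_, rfl⟩
          rw [← hcdef] at ha3
          have hca := ha2 c ha3
          have h1 : a * g * a⁻¹ = g * c := by rw [hcdef]; group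
          have h2 : g = (a⁻¹ * g * a) * c := by
            calc g = a⁻¹ * (a * g * a⁻¹) * a := by group
              _ = a⁻¹ * (g * c) * a := by rw [h1]
              _ = a⁻¹ * g * (c * a) := by group
              _ = a⁻¹ * g * (a * c) := by rw [hca]
              _ = (a⁻¹ * g * a) * c := by group
          have h3 : a⁻¹ * g * a = g * c⁻¹ := by
            calc a⁻¹ * g * a = ((a⁻¹ * g * a) * c) * c⁻¹ := by group
              _ = g * c⁻¹ := by rw [← h2]
          have h4 : g⁻¹ * (a⁻¹ * g * a⁻¹⁻¹) = c⁻¹ := by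
            rw [inv_inv, h3]
            group
          rw [h4]
          exact C.inv_mem ha3 }
  have hxT : x ∈ T := ⟨hxR, hxC, h⟩
  have hzT : Subgroup.zpowers x ≤ T := by
    rw [Subgroup.zpowers_le]
    exact hxT
  have hAK : Subgroup.zpowers x ≤ Subgroup.normalizer (R : Set G) := fun a ha => (hzT ha).1
  have hsolv : Group.IsSolvable (Subgroup.zpowers x) := inferInstance
  have hRC : R ≤ Subgroup.normalizer (C : Set G) := by
    intro r hr
    apply mem_normalizer_of_commute
    intro c hc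
    exact hcentral c hc r hr
  have hAC : Subgroup.zpowers x ≤ Subgroup.normalizer (C : Set G) := by
    intro a ha
    exact mem_normalizer_of_commute (hzT ha).2.1
  have hfix' : ∀ a ∈ Subgroup.zpowers x, a * g * a⁻¹ * g⁻¹ ∈ C := by
    intro a ha
    have h3 := (hzT ha).2.2
    have := hcentral _ h3 g hg
    have e : a * g * a⁻¹ * g⁻¹ = (g * (g⁻¹ * (a * g * a⁻¹))) * g⁻¹ := by group
    rw [e, ← this]
    have e2 : g⁻¹ * (a * g * a⁻¹) * g * g⁻¹ = g⁻¹ * (a * g * a⁻¹) := by group
    rw [e2]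
    exact h3
  obtain ⟨c, hc, hgc⟩ := Cfsg.Agent.S0022.result (Subgroup.zpowers x) R hAK hcop (Or.inl hsolv)
    C hCR hRC hAC g hg hfix'
  have hcC : c ∈ C := by
    apply hfix c hc.1
    have := Subgroup.mem_centralizer_iff.mp hc.2 x (Subgroup.mem_zpowers x)
    exact this
  have e : g = c * (g⁻¹ * c)⁻¹ := by group
  rw [e]
  exact C.mul_mem hcC (C.inv_mem hgc)

/-- A `p`-solvable group with a non-normal TI Sylow `p`-subgroup contains the minimal
configuration. -/
theorem exists_config [Finite G] {p : ℕ} [hp : Fact p.Prime] (hsolv : Cfsg.IsPSolvable p G)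
    (P : Sylow p G)
    (hTI : ∀ g : G, g ∉ Subgroup.normalizer ((P : Subgroup G) : Set G) →
      (P : Subgroup G) ⊓ (MulAut.conj g • (P : Subgroup G)) = ⊥)
    (hnot : ¬ (P : Subgroup G).Normal) :
    ∃ R C : Subgroup G, Config (P : Subgroup G) R C := by
  classical
  -- `O_p(G) = 1`
  obtain ⟨g₀, hg₀⟩ : ∃ g₀ : G, g₀ ∉ Subgroup.normalizer ((P : Subgroup G) : Set G) := by
    by_contra hcon
    push Not at hcon
    apply hnot
    rw [← Subgroup.normalizer_eq_top_iff, Subgroup.eq_top_iff']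
    exact hcon
  have hOp : Cfsg.pCore p G = ⊥ := by
    rw [eq_bot_iff, ← hTI g₀ hg₀]
    refine le_inf (Cfsg.Agent.H1.pCore_le_sylow P) ?_
    intro z hz
    haveI : (Cfsg.pCore p G).Normal := Cfsg.Agent.H1.pCore_normal p
    rw [Subgroup.mem_pointwise_smul_iff_inv_smul_mem, MulAut.smul_def, MulAut.conj_inv_apply]
    apply Cfsg.Agent.H1.pCore_le_sylow P
    have := (inferInstance : (Cfsg.pCore p G).Normal).conj_mem z hz g₀⁻¹
    rwa [inv_inv] at this
  -- `K = O_{p'}(G)`
  obtain ⟨K, hKdef⟩ : ∃ K : Subgroup G, K = Cfsg.pPrimeCore p G := ⟨_, rfl⟩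
  haveI hKn : K.Normal := hKdef ▸ Cfsg.Agent.H1.pPrimeCore_normal p
  have hKcop : (Nat.card K).Coprime p := hKdef ▸ Cfsg.Agent.H1.pPrimeCore_coprime p
  have hCK : Subgroup.centralizer (K : Set G) ≤ K := by
    rw [hKdef]
    exact Cfsg.Agent.H1.centralizer_pPrimeCore_le hsolv hOp
  have hdisj : K ⊓ (P : Subgroup G) = ⊥ :=
    (Subgroup.disjoint_of_coprime_natCard (coprime_card_sylow P hKcop)).eq_bot
  have hPne : (P : Subgroup G) ≠ ⊥ := by
    intro h
    apply hnot
    rw [h]
    infer_instance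
  have hKnc : ¬ K ≤ Subgroup.centralizer ((P : Subgroup G) : Set G) := by
    intro h
    have h1 : (P : Subgroup G) ≤ K := (Subgroup.le_centralizer_iff.mp h).trans hCK
    apply hPne
    rw [eq_bot_iff, ← hdisj]
    exact le_inf h1 le_rfl
  -- minimal `R`
  let 𝒮 : Set (Subgroup G) := {M | M ≤ K ∧ (P : Subgroup G) ≤ Subgroup.normalizer (M : Set G) ∧
    ¬ M ≤ Subgroup.centralizer ((P : Subgroup G) : Set G)}
  have hK𝒮 : K ∈ 𝒮 := ⟨le_rfl, Subgroup.le_normalizer_of_normal, hKnc⟩
  obtain ⟨R, hR𝒮, hRmin⟩ := Set.exists_min_image 𝒮 (fun M => Nat.card M) (Set.toFinite 𝒮) ⟨K, hK𝒮⟩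
  obtain ⟨hRK, hPR, hRnc⟩ := hR𝒮
  obtain ⟨C, hCdef⟩ : ∃ C : Subgroup G,
    C = R ⊓ Subgroup.centralizer ((P : Subgroup G) : Set G) := ⟨_, rfl⟩
  have hCR : C ≤ R := hCdef ▸ inf_le_left
  have hCP : C ≤ Subgroup.centralizer ((P : Subgroup G) : Set G) := hCdef ▸ inf_le_right
  have hne : C ≠ R := by
    intro h
    apply hRnc
    rw [← h]
    exact hCP
  have hmin : ∀ M : Subgroup G, M ≤ R → M ≠ R →
      (P : Subgroup G) ≤ Subgroup.normalizer (M : Set G) → M ≤ C := by
    intro M hMR hMne hPM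
    by_contra hcon
    have hM𝒮 : M ∈ 𝒮 := by
      refine ⟨hMR.trans hRK, hPM, ?_⟩
      intro h
      apply hcon
      rw [hCdef]
      exact le_inf hMR h
    exact hMne (Subgroup.eq_of_le_of_card_ge hMR (hRmin M hM𝒮))
  have hRcop : (Nat.card R).Coprime p := Nat.Coprime.coprime_dvd_left (Subgroup.card_dvd_of_le hRK) hKcop
  have hcop : (Nat.card R).Coprime (Nat.card (P : Subgroup G)) := coprime_card_sylow P hRcop
  have hPsolv : Group.IsSolvable (P : Subgroup G) := by
    haveI := P.isPGroup'.isNilpotent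
    exact IsNilpotent.to_isSolvable
  have hcent : ∀ c ∈ C, ∀ y ∈ (P : Subgroup G), c * y = y * c := by
    intro c hc y hy
    exact (Subgroup.mem_centralizer_iff.mp (hCP hc) y hy).symm
  have hfix0 : ∀ x ∈ (P : Subgroup G), x ≠ 1 → ∀ g ∈ R, x * g = g * x → g ∈ C := by
    intro x hx hx1 g hg hxg
    rw [hCdef]
    exact ⟨hg, mem_centralizer_of_comm P hTI K hKcop hx hx1 (hRK hg) hxg⟩
  -- `[R, P] = R`
  have hcomm : ⁅R, (P : Subgroup G)⁆ = R := by
    by_contra hcon
    have hle : ⁅R, (P : Subgroup G)⁆ ≤ R := commutator_le_of_le_normalizer hPR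
    have hnorm : (P : Subgroup G) ≤ Subgroup.normalizer ((⁅R, (P : Subgroup G)⁆ : Subgroup G) : Set G) := by
      intro y hy
      exact mem_normalizer_commutator (hPR hy) (Subgroup.le_normalizer hy)
    have h1 := (hmin _ hle hcon hnorm).trans hCP
    have h2 : ⁅⁅R, (P : Subgroup G)⁆, (P : Subgroup G)⁆ = ⊥ :=
      Subgroup.commutator_eq_bot_iff_le_centralizer.mpr h1
    have h3 := Cfsg.Agent.S0027.result (P : Subgroup G) R hPR hcop.symm (Or.inl hPsolv)
    rw [h2] at h3
    apply hRnc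
    exact Subgroup.commutator_eq_bot_iff_le_centralizer.mp h3.symm
  -- `R` is an `r`-group, hence `[R, R] ≠ R`
  obtain ⟨r, hr, hRr⟩ := isPGroup_of_min hPR hcop.symm hPsolv hCR hne hmin
  have hRne : R ≠ ⊥ := by
    intro h
    apply hne
    rw [h] at hCR ⊢
    exact le_bot_iff.mp hCR
  have hder : ⁅R, R⁆ ≠ R := by
    intro h
    haveI : Fact r.Prime := ⟨hr⟩
    haveI : Group.IsNilpotent R := hRr.isNilpotent
    haveI : Group.IsSolvable R := IsNilpotent.to_isSolvable
    haveI : Nontrivial R := by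
      rw [Subgroup.nontrivial_iff_ne_bot]
      exact hRne
    have h1 := Group.IsSolvable.commutator_lt_top_of_nontrivial R
    have h2 : (commutator R).map R.subtype = (⊤ : Subgroup R).map R.subtype := by
      rw [commutator_def, Subgroup.map_commutator, ← MonoidHom.range_eq_map, Subgroup.range_subtype]
      exact h
    exact h1.ne (Subgroup.map_injective R.subtype_injective h2)
  have hderC : ⁅R, R⁆ ≤ C := by
    apply hmin _ (commutator_le_of_le_normalizer Subgroup.le_normalizer) hder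
    intro y hy
    exact mem_normalizer_commutator (hPR hy) (hPR hy)
  -- `C` is central in `R`
  have hRC : ⁅R, C⁆ = ⊥ := by
    have h1 : ⁅⁅(P : Subgroup G), C⁆, R⁆ = ⊥ := by
      have : ⁅(P : Subgroup G), C⁆ = ⊥ :=
        Subgroup.commutator_eq_bot_iff_le_centralizer.mpr (Subgroup.le_centralizer_iff.mp hCP)
      rw [this, Subgroup.commutator_bot_left]
    have h2 : ⁅⁅C, R⁆, (P : Subgroup G)⁆ = ⊥ := by
      rw [Subgroup.commutator_eq_bot_iff_le_centralizer]
      exact ((Subgroup.commutator_mono hCR le_rfl).trans hderC).trans hCP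
    have h3 := Subgroup.commutator_commutator_eq_bot_of_rotate h1 h2
    rwa [hcomm] at h3
  have hcentral : ∀ c ∈ C, ∀ g ∈ R, c * g = g * c := by
    intro c hc g hg
    have := Subgroup.commutator_eq_bot_iff_le_centralizer.mp hRC hg
    exact Subgroup.mem_centralizer_iff.mp this c hc
  have hzcop : ∀ x ∈ (P : Subgroup G), (Nat.card (Subgroup.zpowers x)).Coprime (Nat.card R) := by
    intro x hx
    have : Subgroup.zpowers x ≤ (P : Subgroup G) := by
      rw [Subgroup.zpowers_le]
      exact hx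
    exact Nat.Coprime.coprime_dvd_left (Subgroup.card_dvd_of_le this) hcop.symm
  refine ⟨R, C, hPR, hCR, hne, hcentral, hcent, hcop, hmin, ?_, hcomm, ?_, hderC⟩
  · intro x hx hx1 g hg h
    exact mem_of_coset_fixed (hPR hx) (hzcop x hx) hCR hcentral (fun c hc => hcent c hc x hx)
      (hfix0 x hx hx1) hg h
  · intro x hx hx1
    have hzR : Subgroup.zpowers x ≤ Subgroup.normalizer (R : Set G) := by
      rw [Subgroup.zpowers_le]
      exact hPR hx
    have h26 := Cfsg.Agent.S0026.result (Subgroup.zpowers x) R hzR (hzcop x hx)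
      (Or.inl inferInstance)
    have hC' : R ⊓ Subgroup.centralizer ((Subgroup.zpowers x : Subgroup G) : Set G) = C := by
      apply le_antisymm
      · intro g hg
        apply hfix0 x hx hx1 g hg.1
        exact Subgroup.mem_centralizer_iff.mp hg.2 x (Subgroup.mem_zpowers x)
      · refine le_inf hCR ?_
        intro c hc
        rw [Subgroup.mem_centralizer_iff]
        intro a ha
        obtain ⟨k, rfl⟩ := Subgroup.mem_zpowers_iff.mp ha
        have : Commute c x := hcent c hc x hx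
        exact (this.zpow_right k).eq.symm
    rw [hC'] at h26
    exact h26

end Cfsg.Agent.Lib.Helper5.TISyl
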