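import Mathlib
import Cfsg.Prelude.Def_Characters
import Cfsg.Agent.Lib.Helper5.TISyl1
import Cfsg.Agent.Lib.Helper5.TISyl2

/-!
# The character-theoretic endgame of the TI Sylow argument
-/

set_option autoImplicit false
set_option linter.style.haveILetI false
set_option linter.unusedSectionVars false
set_option linter.unusedVariables false

namespace Cfsg.Agent.Lib.Helper5.TISyl

open Cfsg Module Cfsg.Agent.Lib.helper3.CharBasic Cfsg.Agent.Lib.helper3.Irr
open Cfsg.Agent.Lib.helper3.Central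
open scoped ComplexConjugate commutatorElement

variable {G : Type*} [Group G]

theorem cjEquiv_one (R : Subgroup G) (s : R) :
    cjEquiv R 1 (Subgroup.one_mem _) s = s := by
  apply Subtype.ext
  rw [cjEquiv_coe]
  group

theorem cjEquiv_mul (R : Subgroup G) {a b : G} (ha : a ∈ Subgroup.normalizer (R : Set G))
    (hb : b ∈ Subgroup.normalizer (R : Set G)) (s : R) :
    cjEquiv R (a * b) (Subgroup.mul_mem _ ha hb) s = cjEquiv R a ha (cjEquiv R b hb s) := by
  apply Subtype.ext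
  rw [cjEquiv_coe, cjEquiv_coe, cjEquiv_coe]
  group

theorem cjEquiv_inv (R : Subgroup G) {a : G} (ha : a ∈ Subgroup.normalizer (R : Set G)) (s : R) :
    cjEquiv R a ha (cjEquiv R a⁻¹ (Subgroup.inv_mem _ ha) s) = s := by
  apply Subtype.ext
  rw [cjEquiv_coe, cjEquiv_coe]
  group

/-- A homomorphism to a commutative group, invariant under conjugation by `A`, kills `[R, A]`. -/
theorem commutator_le_ker {R A : Subgroup G} (hA : A ≤ Subgroup.normalizer (R : Set G))
    {M : Type*} [CommGroup M] (ψ : R →* M)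
    (hinv : ∀ a (ha : a ∈ A) (s : R), ψ (cjEquiv R a (hA ha) s) = ψ s) :
    ⁅R, A⁆ ≤ ψ.ker.map R.subtype := by
  rw [Subgroup.commutator_le]
  intro r hr a ha
  refine ⟨⟨r, hr⟩ * (cjEquiv R a (hA ha) ⟨r, hr⟩)⁻¹, ?_, ?_⟩
  · rw [SetLike.mem_coe, MonoidHom.mem_ker, map_mul, map_inv, hinv a ha, mul_inv_cancel]
  · show r * (a * r * a⁻¹)⁻¹ = ⁅r, a⁆
    rw [commutatorElement_def]
    group

/-- Case A: a nontrivial linear constituent has trivial stabilizer in `P`. -/
theorem caseA [Finite G] {P R C : Subgroup G} (h : Config P R C) (θ : R → ℂ)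
    (hθ : IsCharacter R θ) (hθ1 : θ 1 = 1) (hnt : ∃ r : R, θ r ≠ 1) {x : G} (hx : x ∈ P)
    (hx1 : x ≠ 1) (hinv : ∀ s : R, θ (cjEquiv R x (h.norm hx) s) = θ s) : False := by
  classical
  letI : Fintype P := Fintype.ofFinite P
  obtain ⟨θu, hθu⟩ : ∃ θu : R →* ℂˣ, ∀ r : R, (θu r : ℂ) = θ r :=
    ⟨(Cfsg.Agent.Lib.helper3.Lin.toHom hθ hθ1).toHomUnits, fun r => rfl⟩
  have hθu_ext : ∀ r s : R, θ r = θ s → θu r = θu s := by
    intro r s hrs
    apply Units.ext
    rw [hθu, hθu, hrs]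
  -- the stabilizer of `θ`
  let S : Subgroup G :=
    { carrier := {a | ∃ ha : a ∈ Subgroup.normalizer (R : Set G),
        ∀ s : R, θu (cjEquiv R a ha s) = θu s}
      one_mem' := ⟨Subgroup.one_mem _, fun s => by rw [cjEquiv_one]⟩
      mul_mem' := by
        rintro a b ⟨ha, ha'⟩ ⟨hb, hb'⟩
        refine ⟨Subgroup.mul_mem _ ha hb, fun s => ?_⟩
        rw [cjEquiv_mul R ha hb, ha', hb']
      inv_mem' := by
        rintro a ⟨ha, ha'⟩
        refine ⟨Subgroup.inv_mem _ ha, fun s => ?_⟩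
        rw [← ha' (cjEquiv R a⁻¹ (Subgroup.inv_mem _ ha) s), cjEquiv_inv] }
  have hxS : x ∈ S := ⟨h.norm hx, fun s => hθu_ext _ _ (hinv s)⟩
  have hzS : Subgroup.zpowers x ≤ S := by
    rw [Subgroup.zpowers_le]
    exact hxS
  have hzN : Subgroup.zpowers x ≤ Subgroup.normalizer (R : Set G) := fun a ha => (hzS ha).1
  have h1 : ⁅R, Subgroup.zpowers x⁆ ≤ θu.ker.map R.subtype :=
    commutator_le_ker hzN θu (fun a ha s => (hzS ha).2 s)
  -- the norm character
  let Θ : R →* ℂˣ := ∏ y : P, θu.comp (cjEquiv R y (h.norm y.2)).toMonoidHom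
  have hΘ : ∀ s : R, Θ s = ∏ y : P, θu (cjEquiv R y (h.norm y.2) s) := by
    intro s
    show (∏ y : P, θu.comp (cjEquiv R y (h.norm y.2)).toMonoidHom) s = _
    rw [MonoidHom.finsetProd_apply]
    rfl
  have hΘinv : ∀ z (hz : z ∈ P) (s : R), Θ (cjEquiv R z (h.norm hz) s) = Θ s := by
    intro z hz s
    rw [hΘ, hΘ]
    apply Fintype.prod_equiv (Equiv.mulRight (⟨z, hz⟩ : P))
    intro y
    have : cjEquiv R y (h.norm y.2) (cjEquiv R z (h.norm hz) s) =
        cjEquiv R ((y : G) * z) (Subgroup.mul_mem _ (h.norm y.2) (h.norm hz)) s :=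
      (cjEquiv_mul R (h.norm y.2) (h.norm hz) s).symm
    rw [this]
    rfl
  have h2 : ⁅R, P⁆ ≤ Θ.ker.map R.subtype := commutator_le_ker h.norm Θ hΘinv
  rw [h.comm] at h2
  have hC : C ≤ θu.ker.map R.subtype := by
    intro c hc
    have hcR : c ∈ R := h.le hc
    refine ⟨⟨c, hcR⟩, ?_, rfl⟩
    rw [SetLike.mem_coe, MonoidHom.mem_ker]
    have hΘc : Θ ⟨c, hcR⟩ = 1 := by
      obtain ⟨r, hr, hrc⟩ := h2 hcR
      have : r = ⟨c, hcR⟩ := Subtype.ext hrc
      rw [← this]
      exact hr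
    have hfix : ∀ y : P, cjEquiv R y (h.norm y.2) ⟨c, hcR⟩ = ⟨c, hcR⟩ := by
      intro y
      apply Subtype.ext
      rw [cjEquiv_coe]
      show (y : G) * c * (y : G)⁻¹ = c
      rw [← h.cent c hc y y.2]
      group
    rw [hΘ] at hΘc
    simp_rw [hfix] at hΘc
    rw [Finset.prod_const, Finset.card_univ, ← Nat.card_eq_fintype_card] at hΘc
    have hR : θu ⟨c, hcR⟩ ^ Nat.card R = 1 := by
      rw [← map_pow, pow_card_eq_one', map_one]
    have hd1 : orderOf (θu ⟨c, hcR⟩) ∣ Nat.card P := orderOf_dvd_of_pow_eq_one hΘc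
    have hd2 : orderOf (θu ⟨c, hcR⟩) ∣ Nat.card R := orderOf_dvd_of_pow_eq_one hR
    have hd3 := Nat.dvd_gcd hd2 hd1
    rw [h.cop] at hd3
    exact orderOf_eq_one_iff.mp (Nat.dvd_one.mp hd3)
  have hall : R ≤ θu.ker.map R.subtype := by
    have hg := h.gen x hx hx1
    intro r hr
    rw [← hg] at hr
    exact (sup_le h1 hC) hr
  obtain ⟨r, hr⟩ := hnt
  apply hr
  obtain ⟨r', hr', hrr'⟩ := hall r.2
  have : r' = r := Subtype.ext hrr'
  rw [this, SetLike.mem_coe, MonoidHom.mem_ker] at hr'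
  rw [← hθu, hr']
  rfl

theorem ker_mul {H : Type*} [Group H] [Finite H] {θ : H → ℂ} (hθ : IsCharacter H θ) {a b : H}
    (ha : θ a = θ 1) (hb : θ b = θ 1) : θ (a * b) = θ 1 := by
  obtain ⟨n, ρ, rfl⟩ := hθ
  rw [Representation.char_one, character_eq_finrank_iff] at ha hb ⊢
  rw [map_mul, ha, hb]
  rfl

theorem ker_inv {H : Type*} [Group H] [Finite H] {θ : H → ℂ} (hθ : IsCharacter H θ) {a : H}
    (ha : θ a = θ 1) : θ a⁻¹ = θ 1 := by
  obtain ⟨n, ρ, rfl⟩ := hθ
  rw [Representation.char_one, character_eq_finrank_iff] at ha ⊢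
  have h1 : ρ a⁻¹ * ρ a = 1 := by rw [← map_mul, inv_mul_cancel, map_one]
  rw [ha] at h1
  have h2 : ρ a⁻¹ * LinearMap.id = ρ a⁻¹ := mul_one _
  rw [← h2, h1]
  rfl

theorem le_normalizer_of_conj_mem {P Z : Subgroup G}
    (h : ∀ z ∈ P, ∀ g ∈ Z, z * g * z⁻¹ ∈ Z) : P ≤ Subgroup.normalizer (Z : Set G) := by
  intro z hz
  rw [Subgroup.mem_normalizer_iff]
  intro g
  constructor
  · exact h z hz g
  · intro hg
    have := h z⁻¹ (P.inv_mem hz) _ hg
    have e : z⁻¹ * (z * g * z⁻¹) * z⁻¹⁻¹ = g := by group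
    rwa [e] at this

/-- Case B: a nonlinear constituent vanishes off `C`, so its degree squared is `|R : C|`. -/
theorem caseB [Finite G] {P R C : Subgroup G} (h : Config P R C) (θ : R → ℂ)
    (hθ : IsIrrCharacter R θ) (n : ℕ) (hn : θ 1 = n) (hn1 : n ≠ 1) :
    n ^ 2 * Nat.card C = Nat.card R := by
  classical
  letI : Fintype R := Fintype.ofFinite R
  have hθc := isCharacter_of_isIrrCharacter hθ
  have hθcf := isClassFunction_of_isCharacter hθc
  -- the part of the kernel inside `C`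
  let M : Subgroup G :=
    { carrier := {c | ∃ hc : c ∈ C, θ ⟨c, h.le hc⟩ = θ 1}
      one_mem' := ⟨C.one_mem, rfl⟩
      mul_mem' := by
        rintro a b ⟨ha, ha'⟩ ⟨hb, hb'⟩
        exact ⟨C.mul_mem ha hb, ker_mul hθc ha' hb'⟩
      inv_mem' := by
        rintro a ⟨ha, ha'⟩
        exact ⟨C.inv_mem ha, ker_inv hθc ha'⟩ }
  have hMC : M ≤ C := fun c hc => hc.1
  let Z₂ : Subgroup G :=
    { carrier := {g | g ∈ R ∧ ∀ y ∈ R, ⁅g, y⁆ ∈ M}
      one_mem' := by
        refine ⟨R.one_mem, fun y _ => ?_⟩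
        rw [commutatorElement_one_left]
        exact M.one_mem
      mul_mem' := by
        rintro a b ⟨ha, ha'⟩ ⟨hb, hb'⟩
        refine ⟨R.mul_mem ha hb, fun y hy => ?_⟩
        have e : ⁅a * b, y⁆ = a * ⁅b, y⁆ * a⁻¹ * ⁅a, y⁆ := by
          simp only [commutatorElement_def]
          group
        have hc := h.central _ (hMC (hb' y hy)) a ha
        have e2 : a * ⁅b, y⁆ * a⁻¹ = ⁅b, y⁆ := by
          rw [← hc]
          group
        rw [e, e2]
        exact M.mul_mem (hb' y hy) (ha' y hy)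
      inv_mem' := by
        rintro a ⟨ha, ha'⟩
        refine ⟨R.inv_mem ha, fun y hy => ?_⟩
        have e : ⁅a⁻¹, y⁆ = a⁻¹ * ⁅a, y⁆⁻¹ * a := by
          simp only [commutatorElement_def]
          group
        have hc := h.central _ (hMC (M.inv_mem (ha' y hy))) a ha
        have e2 : a⁻¹ * ⁅a, y⁆⁻¹ * a = ⁅a, y⁆⁻¹ := by
          rw [mul_assoc, hc]
          group
        rw [e, e2]
        exact M.inv_mem (ha' y hy) }
  have hZR : Z₂ ≤ R := fun g hg => hg.1
  have hZP : P ≤ Subgroup.normalizer (Z₂ : Set G) := by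
    apply le_normalizer_of_conj_mem
    rintro z hz g ⟨hg, hg'⟩
    have hzR : z * g * z⁻¹ ∈ R := (Subgroup.mem_normalizer_iff.mp (h.norm hz) g).mp hg
    refine ⟨hzR, fun y hy => ?_⟩
    have hy' : z⁻¹ * y * z ∈ R := by
      have := (Subgroup.mem_normalizer_iff.mp (h.norm (P.inv_mem hz)) y).mp hy
      rwa [inv_inv] at this
    have e : ⁅z * g * z⁻¹, y⁆ = z * ⁅g, z⁻¹ * y * z⁆ * z⁻¹ := by
      simp only [commutatorElement_def]
      group
    have hm := hg' _ hy'
    have hc := h.cent _ (hMC hm) z hz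
    have e2 : z * ⁅g, z⁻¹ * y * z⁆ * z⁻¹ = ⁅g, z⁻¹ * y * z⁆ := by
      rw [← hc]
      group
    rw [e, e2]
    exact hm
  have hZne : Z₂ ≠ R := by
    intro hZ
    apply hn1
    have h1 : θ 1 = 1 := by
      apply apply_one_eq_one_of_commutator hθ
      intro a b
      have ha : (a : G) ∈ Z₂ := by rw [hZ]; exact a.2
      obtain ⟨hc, hc'⟩ := ha.2 b b.2
      exact hc'
    rw [hn] at h1
    exact_mod_cast h1
  have hZC : Z₂ ≤ C := h.min _ hZR hZne hZP
  have hcenter : ∀ g : R, (g : G) ∈ C → g ∈ Subgroup.center R := by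
    intro g hg
    rw [Subgroup.mem_center_iff]
    intro r
    apply Subtype.ext
    exact (h.central g hg r r.2).symm
  -- vanishing off `C`
  have hvanish : ∀ g : R, (g : G) ∉ C → θ g = 0 := by
    intro g hg
    have hgZ : (g : G) ∉ Z₂ := fun hh => hg (hZC hh)
    have : ¬ ∀ y ∈ R, ⁅(g : G), y⁆ ∈ M := fun hh => hgZ ⟨g.2, hh⟩
    push Not at this
    obtain ⟨y, hy, hyM⟩ := this
    have hcC : ⁅(g : G), y⁆ ∈ C := h.der (Subgroup.commutator_mem_commutator g.2 hy)
    have hcne : θ ⟨⁅(g : G), y⁆, h.le hcC⟩ ≠ θ 1 := fun hh => hyM ⟨hcC, hh⟩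
    obtain ⟨c, hcdef⟩ : ∃ c : R, c = ⟨⁅(g : G), y⁆, h.le hcC⟩ := ⟨_, rfl⟩
    rw [← hcdef] at hcne
    have hcC' : (c : G) ∈ C := by rw [hcdef]; exact hcC
    have hcz : c⁻¹ ∈ Subgroup.center R := Subgroup.inv_mem _ (hcenter c hcC')
    obtain ⟨lam, hlam, hmul⟩ := central_scalar hθ c⁻¹ hcz
    have hconj : (⟨y, hy⟩ : R) * g * (⟨y, hy⟩ : R)⁻¹ = g * c⁻¹ := by
      rw [Subgroup.mem_center_iff.mp hcz g]
      apply Subtype.ext
      rw [hcdef]
      show y * (g : G) * y⁻¹ = ⁅(g : G), y⁆⁻¹ * (g : G)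
      rw [commutatorElement_def]
      group
    have h1 : θ (g * c⁻¹) = θ g := by
      rw [← hconj]
      exact hθcf g ⟨y, hy⟩
    rw [hmul g] at h1
    by_contra hne
    have hlam1 : lam = 1 := by
      have : lam * θ g = 1 * θ g := by rw [h1, one_mul]
      exact mul_right_cancel₀ hne this
    apply hcne
    have h2 := hmul 1
    rw [one_mul, hlam1, one_mul] at h2
    have h3 := ker_inv hθc h2
    rwa [inv_inv] at h3
  -- norm on `C`
  have hnormC : ∀ g : R, (g : G) ∈ C → θ g * conj (θ g) = (n : ℂ) ^ 2 := by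
    intro g hg
    obtain ⟨lam, hlam, hmul⟩ := central_scalar hθ g (hcenter g hg)
    have h2 := hmul 1
    rw [one_mul, hn] at h2
    rw [h2, Complex.mul_conj, Complex.normSq_eq_norm_sq, norm_mul, hlam, one_mul,
      Complex.norm_natCast]
    push_cast
    rfl
  have hsum : ∑ g : R, θ g * conj (θ g) = (Nat.card C : ℂ) * (n : ℂ) ^ 2 := by
    have h1 : ∀ g : R, θ g * conj (θ g) = if (g : G) ∈ C then (n : ℂ) ^ 2 else 0 := by
      intro g
      by_cases hg : (g : G) ∈ C
      · rw [if_pos hg, hnormC g hg]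
      · rw [if_neg hg, hvanish g hg, zero_mul]
    rw [Finset.sum_congr rfl (fun g _ => h1 g), Finset.sum_ite, Finset.sum_const_zero, add_zero,
      Finset.sum_const, nsmul_eq_mul]
    congr 2
    rw [← Nat.card_congr (Subgroup.subgroupOfEquivOfLe h.le).toEquiv, Nat.card_eq_fintype_card,
      Fintype.card_subtype]
    rfl
  have hself := irr_classInner_self hθ
  rw [Cfsg.Agent.Lib.helper3.IndFun.classInner_apply, hsum] at hself
  have hR0 : (Nat.card R : ℂ) ≠ 0 := by
    exact_mod_cast Nat.card_pos.ne'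
  have h3 : (Nat.card C : ℂ) * (n : ℂ) ^ 2 = (Nat.card R : ℂ) := by
    field_simp at hself
    exact hself
  have h4 : ((n ^ 2 * Nat.card C : ℕ) : ℂ) = ((Nat.card R : ℕ) : ℂ) := by
    push_cast
    rw [← h3]
    ring
  exact_mod_cast h4

/-- `P` acts semiregularly on the nontrivial cosets of `C` in `R`. -/
theorem card_mul_le [Finite G] {P R C : Subgroup G} (h : Config P R C) :
    (Nat.card P + 1) * Nat.card C ≤ Nat.card R := by
  classical
  obtain ⟨g₀, hg₀R, hg₀C⟩ := SetLike.exists_of_lt (lt_of_le_of_ne h.le h.ne)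
  have hconjR : ∀ y ∈ P, y * g₀ * y⁻¹ ∈ R := fun y hy =>
    (Subgroup.mem_normalizer_iff.mp (h.norm hy) g₀).mp hg₀R
  let F : Option P × C → R := fun pc =>
    match pc.1 with
    | some y => ⟨(y : G) * g₀ * (y : G)⁻¹ * pc.2, R.mul_mem (hconjR y y.2) (h.le pc.2.2)⟩
    | none => ⟨pc.2, h.le pc.2.2⟩
  have hFs : ∀ (y : P) (c : C), ((F (some y, c) : R) : G) = (y : G) * g₀ * (y : G)⁻¹ * c :=
    fun y c => rfl
  have hFn : ∀ c : C, ((F (none, c) : R) : G) = c := fun c => rfl
  have hF : Function.Injective F := by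
    rintro ⟨o, c⟩ ⟨o', c'⟩ hEq
    have hE : ((F (o, c) : R) : G) = ((F (o', c') : R) : G) := congrArg (fun r : R => (r : G)) hEq
    cases o with
    | none =>
      cases o' with
      | none =>
        rw [hFn, hFn] at hE
        rw [Subtype.ext hE]
      | some y' =>
        exfalso
        rw [hFn, hFs] at hE
        apply hg₀C
        have hk : (c : G) * (c' : G)⁻¹ ∈ C := C.mul_mem c.2 (C.inv_mem c'.2)
        have hcomm := h.cent _ hk y' y'.2
        have e : g₀ = (y' : G)⁻¹ * ((c : G) * (c' : G)⁻¹) * y' := by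
          rw [hE]
          group
        rw [e, mul_assoc, hcomm]
        have e2 : (y' : G)⁻¹ * ((y' : G) * ((c : G) * (c' : G)⁻¹)) = (c : G) * (c' : G)⁻¹ := by group
        rw [e2]
        exact hk
    | some y =>
      cases o' with
      | none =>
        exfalso
        rw [hFn, hFs] at hE
        apply hg₀C
        have hk : (c' : G) * (c : G)⁻¹ ∈ C := C.mul_mem c'.2 (C.inv_mem c.2)
        have hcomm := h.cent _ hk y y.2
        have e : g₀ = (y : G)⁻¹ * ((c' : G) * (c : G)⁻¹) * y := by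
          rw [← hE]
          group
        rw [e, mul_assoc, hcomm]
        have e2 : (y : G)⁻¹ * ((y : G) * ((c' : G) * (c : G)⁻¹)) = (c' : G) * (c : G)⁻¹ := by group
        rw [e2]
        exact hk
      | some y' =>
        rw [hFs, hFs] at hE
        have hk : (c' : G) * (c : G)⁻¹ ∈ C := C.mul_mem c'.2 (C.inv_mem c.2)
        have hcomm := h.cent _ hk y' y'.2
        have hxP : (y' : G)⁻¹ * y ∈ P := P.mul_mem (P.inv_mem y'.2) y.2
        have hkey : g₀⁻¹ * (((y' : G)⁻¹ * y) * g₀ * ((y' : G)⁻¹ * y)⁻¹) = (c' : G) * (c : G)⁻¹ := by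
          have e1 : (y : G) * g₀ * (y : G)⁻¹ = (y' : G) * g₀ * (y' : G)⁻¹ * ((c' : G) * (c : G)⁻¹) := by
            calc (y : G) * g₀ * (y : G)⁻¹ = ((y : G) * g₀ * (y : G)⁻¹ * c) * (c : G)⁻¹ := by group
              _ = ((y' : G) * g₀ * (y' : G)⁻¹ * c') * (c : G)⁻¹ := by rw [hE]
              _ = (y' : G) * g₀ * (y' : G)⁻¹ * ((c' : G) * (c : G)⁻¹) := by group
          calc g₀⁻¹ * (((y' : G)⁻¹ * y) * g₀ * ((y' : G)⁻¹ * y)⁻¹)
              = g₀⁻¹ * ((y' : G)⁻¹ * ((y : G) * g₀ * (y : G)⁻¹) * y') := by group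
            _ = g₀⁻¹ * ((y' : G)⁻¹ * ((y' : G) * g₀ * (y' : G)⁻¹ * ((c' : G) * (c : G)⁻¹)) * y') := by
                rw [e1]
            _ = (y' : G)⁻¹ * (((c' : G) * (c : G)⁻¹) * y') := by group
            _ = (y' : G)⁻¹ * ((y' : G) * ((c' : G) * (c : G)⁻¹)) := by rw [hcomm]
            _ = (c' : G) * (c : G)⁻¹ := by group
        have hx1 : (y' : G)⁻¹ * y = 1 := by
          by_contra hne
          apply hg₀C
          apply h.fix _ hxP hne g₀ hg₀R
          rw [hkey]
          exact hk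
        have hyy : y = y' := by
          apply Subtype.ext
          have : (y : G) = (y' : G) * ((y' : G)⁻¹ * y) := by group
          rw [this, hx1, mul_one]
        subst hyy
        have hcc : (c : G) = c' := mul_left_cancel hE
        rw [Subtype.ext hcc]
  have hcard := Nat.card_le_card_of_injective F hF
  rw [Nat.card_prod, Finite.card_option] at hcard
  exact hcard

/-- The main inequality: in the minimal configuration a faithful character has degree squared
larger than `|P|`. -/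
theorem card_lt_sq [Finite G] {P R C : Subgroup G} (h : Config P R C) {χ : G → ℂ}
    (hχ : IsCharacter G χ) (hfaith : ∀ g : G, χ g = χ 1 → g = 1) (d : ℕ) (hd : χ 1 = d) :
    Nat.card P < d ^ 2 := by
  classical
  letI : Fintype R := Fintype.ofFinite R
  letI : Fintype P := Fintype.ofFinite P
  have hcf := isClassFunction_of_isCharacter hχ
  have hχR := isCharacter_restrict hχ R
  have hdR : (fun r : R => χ r) 1 = d := hd
  obtain ⟨g₀, hg₀R, hg₀C⟩ := SetLike.exists_of_lt (lt_of_le_of_ne h.le h.ne)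
  have hg₀1 : g₀ ≠ 1 := by
    rintro rfl
    exact hg₀C C.one_mem
  -- a nontrivial irreducible constituent of the restriction
  obtain ⟨θ, hθm, r₀, hr₀⟩ : ∃ θ : IrrCharacter R,
      classInner (fun r : R => χ r) (θ : R → ℂ) ≠ 0 ∧
        ∃ r : R, (θ : R → ℂ) r ≠ (θ : R → ℂ) 1 := by
    by_contra hcon
    push Not at hcon
    apply hg₀1
    apply hfaith
    have hdec := isCharacter_eq_sum_classInner hχR
    have key : ∀ r : R, χ r = χ 1 := by
      intro r
      have e1 := congrFun hdec r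
      have e2 := congrFun hdec 1
      simp only [Finset.sum_apply, Pi.smul_apply, smul_eq_mul] at e1 e2
      rw [OneMemClass.coe_one] at e2
      rw [e1, e2]
      apply Finset.sum_congr rfl
      intro ψ _
      by_cases h0 : classInner (fun r : R => χ r) (ψ : R → ℂ) = 0
      · rw [h0, zero_mul, zero_mul]
      · rw [hcon ψ h0 r]
    exact key ⟨g₀, hg₀R⟩
  obtain ⟨n, hnpos, hn⟩ := exists_pos_nat_apply_one θ.2
  have hnd : n ≤ d := by
    have := card_mul_le_degree hχR d hdR (fun _ : Unit => θ)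
      (fun a b _ => Subsingleton.elim a b) n (fun _ => hn) (fun _ => hθm)
    simpa using this
  have hPne : P ≠ ⊥ := by
    intro hP
    have hc := h.comm
    rw [hP, Subgroup.commutator_bot_right] at hc
    rw [← hc, Subgroup.mem_bot] at hg₀R
    exact hg₀1 hg₀R
  have hP2 : 1 < Nat.card P := (Subgroup.one_lt_card_iff_ne_bot P).mpr hPne
  by_cases hn1 : n = 1
  · -- linear case
    subst hn1
    rw [Nat.cast_one] at hn
    have hθc := isCharacter_of_isIrrCharacter θ.2
    let f : P → IrrCharacter R := fun y =>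
      ⟨fun r => (θ : R → ℂ) (cjEquiv R y (h.norm y.2) r),
        isIrrCharacter_comp_mulEquiv (cjEquiv R y (h.norm y.2)) θ.2⟩
    have hf : Function.Injective f := by
      intro y y' hyy'
      by_contra hne
      have hx : (y : G) * (y' : G)⁻¹ ∈ P := P.mul_mem y.2 (P.inv_mem y'.2)
      have hx1 : (y : G) * (y' : G)⁻¹ ≠ 1 := by
        intro hh
        apply hne
        apply Subtype.ext
        exact mul_inv_eq_one.mp hh
      apply caseA h (θ : R → ℂ) hθc hn ⟨r₀, by rwa [hn] at hr₀⟩ hx hx1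
      intro s
      have e := congrFun (congrArg Subtype.val hyy')
        (cjEquiv R (y' : G)⁻¹ (Subgroup.inv_mem _ (h.norm y'.2)) s)
      have e' : (θ : R → ℂ) (cjEquiv R y (h.norm y.2)
            (cjEquiv R (y' : G)⁻¹ (Subgroup.inv_mem _ (h.norm y'.2)) s)) =
          (θ : R → ℂ) (cjEquiv R y' (h.norm y'.2)
            (cjEquiv R (y' : G)⁻¹ (Subgroup.inv_mem _ (h.norm y'.2)) s)) := e
      rw [cjEquiv_inv] at e'
      rw [← e']
      exact congrArg (θ : R → ℂ)
        (cjEquiv_mul R (h.norm y.2) (Subgroup.inv_mem _ (h.norm y'.2)) s)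
    have hle := card_mul_le_degree hχR d hdR f hf 1
      (fun y => by
        show (θ : R → ℂ) (cjEquiv R y (h.norm y.2) 1) = ((1 : ℕ) : ℂ)
        rw [map_one, hn, Nat.cast_one])
      (fun y => by
        show classInner (fun r : R => χ r)
          (fun r : R => (θ : R → ℂ) (cjEquiv R y (h.norm y.2) r)) ≠ 0
        rw [classInner_restrict_cj R hcf]
        exact hθm)
    rw [mul_one, ← Nat.card_eq_fintype_card] at hle
    nlinarith
  · -- nonlinear case
    have hB := caseB h (θ : R → ℂ) θ.2 n hn hn1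
    have hcnt := card_mul_le h
    rw [← hB] at hcnt
    have hCpos : 0 < Nat.card C := Nat.card_pos
    have h1 : Nat.card P + 1 ≤ n ^ 2 := Nat.le_of_mul_le_mul_right hcnt hCpos
    have h2 : n ^ 2 ≤ d ^ 2 := Nat.pow_le_pow_left hnd 2
    omega

end Cfsg.Agent.Lib.Helper5.TISyl
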