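import Mathlib

/-!
# Tensor products of bilinear forms (helper5's shared lemmas)

`tmul_apply`, `tmul_nondegenerate`.
-/

set_option autoImplicit false

namespace Cfsg.Agent.Lib.Helper5.Tmul

open TensorProduct

variable {F U W : Type*} [Field F] [AddCommGroup U] [Module F U]
  [AddCommGroup W] [Module F W]

theorem tmul_apply (B₁ : LinearMap.BilinForm F U) (B₂ : LinearMap.BilinForm F W) (u u' : U)
    (w w' : W) : (B₁.tmul B₂) (u ⊗ₜ w) (u' ⊗ₜ w') = B₁ u u' * B₂ w w' := by
  change B₂ w w' • B₁ u u' = _
  rw [smul_eq_mul, mul_comm]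

variable [FiniteDimensional F U] [FiniteDimensional F W]

theorem tmul_sepLeft (B₁ : LinearMap.BilinForm F U) (B₂ : LinearMap.BilinForm F W)
    (h₁ : B₁.Nondegenerate) (h₂ : B₂.Nondegenerate) : (B₁.tmul B₂).SeparatingLeft := by
  classical
  intro x hx
  let b := Module.finBasis F U
  let c := Module.finBasis F W
  let b' := B₁.dualBasis h₁ b
  let c' := B₂.dualBasis h₂ c
  let T := b'.tensorProduct c'
  have hT : T.repr x = 0 := by
    ext ⟨k, l⟩
    have hx' := hx (b k ⊗ₜ c l)
    rw [← T.sum_repr x] at hx'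
    simp only [map_sum, map_smul, LinearMap.sum_apply, LinearMap.smul_apply] at hx'
    rw [Finset.sum_eq_single (k, l)] at hx'
    · simp only [T, Module.Basis.tensorProduct_apply, tmul_apply, b', c',
        LinearMap.BilinForm.apply_dualBasis_left, if_true, mul_one, smul_eq_mul] at hx'
      simpa using hx'
    · rintro ⟨i, j⟩ _ hij
      simp only [T, Module.Basis.tensorProduct_apply, tmul_apply, b', c',
        LinearMap.BilinForm.apply_dualBasis_left]
      have : ¬ (k = i ∧ l = j) := by
        rintro ⟨rfl, rfl⟩; exact hij rfl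
      by_cases hk : k = i
      · have hl : ¬ l = j := fun h => this ⟨hk, h⟩
        simp [hl]
      · simp [hk]
    · intro h; exact absurd (Finset.mem_univ _) h
  have := T.repr.map_eq_zero_iff.1 hT
  exact this

theorem tmul_sepRight (B₁ : LinearMap.BilinForm F U) (B₂ : LinearMap.BilinForm F W)
    (h₁ : B₁.Nondegenerate) (h₂ : B₂.Nondegenerate) : (B₁.tmul B₂).SeparatingRight := by
  classical
  intro y hy
  let b := Module.finBasis F U
  let c := Module.finBasis F W
  let b' := B₁.flip.dualBasis h₁.flip b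
  let c' := B₂.flip.dualBasis h₂.flip c
  let T := b'.tensorProduct c'
  have hb' : ∀ i j, B₁ (b j) (b' i) = if j = i then 1 else 0 := fun i j =>
    LinearMap.BilinForm.apply_dualBasis_left h₁.flip b i j
  have hc' : ∀ i j, B₂ (c j) (c' i) = if j = i then 1 else 0 := fun i j =>
    LinearMap.BilinForm.apply_dualBasis_left h₂.flip c i j
  have hT : T.repr y = 0 := by
    ext ⟨k, l⟩
    have hy' := hy (b k ⊗ₜ c l)
    rw [← T.sum_repr y] at hy'
    simp only [map_sum, map_smul] at hy'
    rw [Finset.sum_eq_single (k, l)] at hy'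
    · simp only [T, Module.Basis.tensorProduct_apply, tmul_apply, hb', hc', if_true, mul_one,
        smul_eq_mul] at hy'
      simpa using hy'
    · rintro ⟨i, j⟩ _ hij
      simp only [T, Module.Basis.tensorProduct_apply, tmul_apply, hb', hc']
      have : ¬ (k = i ∧ l = j) := by
        rintro ⟨rfl, rfl⟩; exact hij rfl
      by_cases hk : k = i
      · have hl : ¬ l = j := fun h => this ⟨hk, h⟩
        simp [hl]
      · simp [hk]
    · intro h; exact absurd (Finset.mem_univ _) h
  have := T.repr.map_eq_zero_iff.1 hT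
  exact this

theorem tmul_nondegenerate (B₁ : LinearMap.BilinForm F U) (B₂ : LinearMap.BilinForm F W)
    (h₁ : B₁.Nondegenerate) (h₂ : B₂.Nondegenerate) : (B₁.tmul B₂).Nondegenerate :=
  ⟨tmul_sepLeft B₁ B₂ h₁ h₂, tmul_sepRight B₁ B₂ h₁ h₂⟩

end Cfsg.Agent.Lib.Helper5.Tmul
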