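import Mathlib
import Cfsg.Agent.Lib.Helper4.TwoTransC

/-!
# Assembly for S3401

A doubly transitive group of degree `≡ 2 mod 4`, `> 2`: unique minimal normal subgroup, simple,
doubly transitive, with trivial centralizer — given the key lemma that every transitive normal
subgroup is doubly transitive (hypothesis `hkey`).
-/

set_option autoImplicit false
set_option linter.unusedSectionVars false
set_option linter.style.haveILetI false
set_option linter.unusedVariables false

namespace Cfsg.Agent.Lib.Helper5.TwoMod4Asm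

open MulAction Cfsg.Agent.Lib.Helper4.MinNormal Cfsg.Agent.Lib.Helper4.TwoTransMin

variable {G : Type*} [Group G] [Finite G] {Ω : Type*} [Fintype Ω] [MulAction G Ω]
  [FaithfulSMul G Ω]

/-- three distinct points -/
theorem exists_three (hn2 : 2 < Fintype.card Ω) : ∃ a b c : Ω, a ≠ b ∧ a ≠ c ∧ b ≠ c := by
  have h := Fintype.two_lt_card_iff.mp hn2
  obtain ⟨a, b, c, hab, hac, hbc⟩ := h
  exact ⟨a, b, c, hab, hac, hbc⟩

/-- a doubly transitive subgroup on at least three points has non-trivial point stabilizers -/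
theorem exists_stab_ne_one (hn2 : 2 < Fintype.card Ω) (M : Subgroup G)
    (h2M : IsMultiplyPretransitive ↥M Ω 2) (a : Ω) :
    ∃ m : G, m ∈ M ∧ m ≠ 1 ∧ m • a = a := by
  obtain ⟨x, y, z, hxy, hxz, hyz⟩ := exists_three (Ω := Ω) hn2
  -- two distinct points different from `a`
  obtain ⟨b, c, hab, hac, hbc⟩ : ∃ b c : Ω, a ≠ b ∧ a ≠ c ∧ b ≠ c := by
    by_cases hax : a = x
    · exact ⟨y, z, hax ▸ hxy, hax ▸ hxz, hyz⟩
    · by_cases hay : a = y
      · exact ⟨x, z, hax, hay ▸ hyz, hxz⟩
      · exact ⟨x, y, hax, hay, hxy⟩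
  obtain ⟨m, hma, hmb⟩ := (is_two_pretransitive_iff.mp h2M) hab hac
  refine ⟨(m : G), m.2, ?_, hma⟩
  intro h1
  apply hbc
  have : (m : G) • b = c := hmb
  rw [h1, one_smul] at this
  exact this

theorem assembly (h2 : IsMultiplyPretransitive G Ω 2) (hn2 : 2 < Fintype.card Ω)
    (hkey : ∀ (M : Subgroup G), M.Normal → IsPretransitive ↥M Ω →
      IsMultiplyPretransitive ↥M Ω 2) :
    ∃ M : Subgroup G, M.Normal ∧ M ≠ ⊥ ∧ (∀ N : Subgroup G, N.Normal → N ≠ ⊥ → M ≤ N) ∧
      IsSimpleGroup ↥M ∧ IsMultiplyPretransitive ↥M Ω 2 ∧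
      Subgroup.centralizer (M : Set G) = ⊥ := by
  -- G is not trivial
  have htop : (⊤ : Subgroup G) ≠ ⊥ := by
    obtain ⟨a, b, c, hab, -, -⟩ := exists_three (Ω := Ω) hn2
    haveI : IsPretransitive G Ω := by
      haveI := h2
      exact isPretransitive_of_is_two_pretransitive
    obtain ⟨g, hg⟩ := exists_smul_eq G a b
    intro h
    have hg1 : g ∈ (⊥ : Subgroup G) := by rw [← h]; exact Subgroup.mem_top g
    rw [Subgroup.mem_bot] at hg1
    rw [hg1, one_smul] at hg
    exact hab hg
  obtain ⟨M, hMle, hMne, hMnorm, hMmin⟩ := exists_minNormalIn (⊤ : Subgroup G) htop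
  haveI hMn : M.Normal := Subgroup.normalizer_eq_top_iff.mp (top_le_iff.mp hMnorm)
  have hmin : ∀ M' : Subgroup G, M'.Normal → M' ≤ M → M' = ⊥ ∨ M' = M := by
    intro M' hM'n hM'le
    exact hMmin M' hM'le (by rw [Subgroup.normalizer_eq_top_iff.mpr hM'n])
  haveI hMtr : IsPretransitive ↥M Ω := isPretransitive_of_normal M h2 hMne
  have h2M := hkey M hMn hMtr
  obtain ⟨a⟩ : Nonempty Ω := by
    obtain ⟨a, -⟩ := exists_three (Ω := Ω) hn2
    exact ⟨a⟩
  obtain ⟨m₀, hm₀M, hm₀1, hm₀a⟩ := exists_stab_ne_one hn2 M h2M a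
  -- a transitive subgroup commuting with `M` cannot exist
  have hnocomm : ∀ N : Subgroup G, N.Normal → N ≠ ⊥ →
      (∀ s ∈ N, ∀ x ∈ M, s * x = x * s) → False := by
    intro N hNn hNne hc
    haveI := hNn
    haveI : IsPretransitive ↥N Ω := isPretransitive_of_normal N h2 hNne
    have htr : ∀ x y : Ω, ∃ s ∈ N, s • x = y := by
      intro x y
      obtain ⟨s, hs⟩ := exists_smul_eq ↥N x y
      exact ⟨(s : G), s.2, hs⟩
    exact hm₀1 (eq_one_of_commute_transitive N M hc htr a m₀ hm₀M hm₀a)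
  refine ⟨M, hMn, hMne, ?_, ?_, h2M, ?_⟩
  · -- uniqueness
    intro N hNn hNne
    by_contra hle
    have hinf : M ⊓ N = ⊥ := by
      haveI := hNn
      have hnorm : (M ⊓ N).Normal := inferInstance
      rcases hmin (M ⊓ N) hnorm inf_le_left with h | h
      · exact h
      · exfalso
        apply hle
        rw [← h]
        exact inf_le_right
    have hdis : Disjoint M N := disjoint_iff.mpr hinf
    apply hnocomm N hNn hNne
    intro s hs x hx
    exact ((Subgroup.commute_of_normal_of_disjoint M N hMn hNn hdis x s hx hs).eq).symm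
  · -- simplicity
    rcases burnside M h2 hMne hmin with ⟨-, -, hreg⟩ | ⟨hs, -⟩
    · exfalso
      have h1 : (⟨m₀, hm₀M⟩ : ↥M) ∈ stabilizer ↥M a := by
        rw [mem_stabilizer_iff]
        exact hm₀a
      rw [hreg a, Subgroup.mem_bot] at h1
      exact hm₀1 (congrArg Subtype.val h1)
    · exact hs
  · -- centralizer
    by_contra hC
    apply hnocomm (Subgroup.centralizer (M : Set G)) inferInstance hC
    intro s hs x hx
    exact ((Subgroup.mem_centralizer_iff.mp hs) x hx).symm

end Cfsg.Agent.Lib.Helper5.TwoMod4Asm
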