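import Mathlib
import Cfsg.Agent.H2.SignTransfer

/-!
# The sign step for S3401

A doubly transitive group `Y` on a set `F` with `2 * odd` points, a transitive normal subgroup `N`
whose point stabilizer acts with odd order, and a fixed-point-free involution `s ∈ N` on `F`:
then `F` has exactly two points.
-/

set_option autoImplicit false
set_option linter.unusedSectionVars false
set_option linter.style.haveILetI false
set_option linter.unusedVariables false

namespace Cfsg.Agent.Lib.Helper5.TwoMod4Sign

open MulAction

theorem card_eq_two {Y F : Type*} [Group Y] [Fintype F] [MulAction Y F]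
    (h2 : MulAction.IsMultiplyPretransitive Y F 2) (N : Subgroup Y) [hNn : N.Normal]
    (hNtr : ∀ x y : F, ∃ n ∈ N, n • x = y) (a : F)
    (hodd : ∀ g ∈ N, g • a = a → ∃ k : ℕ, Odd k ∧ ∀ x : F, g ^ k • x = x)
    (s : Y) (hsN : s ∈ N) (hs2 : ∀ x : F, s • s • x = x) (hsfix : ∀ x : F, s • x ≠ x)
    (m : ℕ) (hm : Odd m) (hcard : Fintype.card F = 2 * m) : Fintype.card F = 2 := by
  classical
  let ε : Y →* ℤˣ := Equiv.Perm.sign.comp (MulAction.toPermHom Y F)
  have hεs : ε s = -1 := by
    show Equiv.Perm.sign (MulAction.toPermHom Y F s) = -1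
    apply Cfsg.Agent.H2.SignTransfer.sign_eq_neg_one _ 1 m le_rfl
    · ext x
      simp only [pow_one, Equiv.Perm.coe_one, id_eq]
      rw [pow_two, Equiv.Perm.mul_apply]
      exact hs2 x
    · intro y
      simp only [Nat.sub_self, pow_zero, pow_one]
      exact hsfix y
    · rw [hcard, pow_one]
    · exact hm
  -- elements of `N` fixing `a` are even
  have hεfix : ∀ g ∈ N, g • a = a → ε g = 1 := by
    intro g hg hga
    obtain ⟨k, hk, hgk⟩ := hodd g hg hga
    have h1 : ε (g ^ k) = 1 := by
      show Equiv.Perm.sign (MulAction.toPermHom Y F (g ^ k)) = 1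
      have : MulAction.toPermHom Y F (g ^ k) = 1 := by
        ext x
        exact hgk x
      rw [this, map_one]
    rw [map_pow] at h1
    rcases Int.units_eq_one_or (ε g) with h | h
    · exact h
    · rw [h, hk.neg_one_pow] at h1
      exact absurd h1 (by decide)
  -- even elements of `N` fix `a`
  have hfix : ∀ n ∈ N, ε n = 1 → n • a = a := by
    intro n hn hεn
    by_contra hna
    -- then the even part of `N` is transitive
    have htr : ∀ y : F, ∃ n' ∈ N, ε n' = 1 ∧ n' • a = y := by
      intro y
      by_cases hy : y = a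
      · exact ⟨1, N.one_mem, map_one ε, by rw [one_smul, hy]⟩
      · obtain ⟨g, hga, hgn⟩ := (is_two_pretransitive_iff.mp h2) (Ne.symm hna) (Ne.symm hy)
        refine ⟨g * n * g⁻¹, hNn.conj_mem n hn g, ?_, ?_⟩
        · rw [map_mul, map_mul, map_inv, hεn, mul_one, mul_inv_cancel]
        · rw [mul_smul, mul_smul]
          have : g⁻¹ • a = a := by
            rw [inv_smul_eq_iff, hga]
          rw [this, hgn]
    obtain ⟨n', hn', hεn', hn'a⟩ := htr (s • a)
    have h1 : ε (s⁻¹ * n') = 1 := by
      apply hεfix _ (N.mul_mem (N.inv_mem hsN) hn')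
      rw [mul_smul, hn'a, inv_smul_smul]
    rw [map_mul, map_inv, hεn', mul_one, hεs] at h1
    exact absurd h1 (by decide)
  -- so `F = {a, s • a}`
  have hall : ∀ x : F, x = a ∨ x = s • a := by
    intro x
    obtain ⟨n, hn, hnx⟩ := hNtr a x
    rcases Int.units_eq_one_or (ε n) with h | h
    · left
      rw [← hnx]
      exact hfix n hn h
    · right
      have h1 : ε (s⁻¹ * n) = 1 := by
        rw [map_mul, map_inv, h, hεs]
        decide
      have h2' := hfix _ (N.mul_mem (N.inv_mem hsN) hn) h1
      rw [mul_smul, inv_smul_eq_iff] at h2'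
      rw [← hnx, h2']
  have hle : Fintype.card F ≤ 2 := by
    have hsub : (Finset.univ : Finset F) ⊆ {a, s • a} := by
      intro x _
      rcases hall x with h | h
      · rw [h]; exact Finset.mem_insert_self _ _
      · rw [h]; exact Finset.mem_insert_of_mem (Finset.mem_singleton_self _)
    calc Fintype.card F = (Finset.univ : Finset F).card := rfl
      _ ≤ ({a, s • a} : Finset F).card := Finset.card_le_card hsub
      _ ≤ 2 := Finset.card_le_two
  obtain ⟨j, hj⟩ := hm
  omega

end Cfsg.Agent.Lib.Helper5.TwoMod4Sign
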