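import Mathlib
import Cfsg.Agent.Lib.Lead.SylowAmb
import Cfsg.Agent.Lib.Helper5.TwoMod4Sign

set_option autoImplicit false
set_option linter.unusedSectionVars false
set_option linter.style.haveILetI false
set_option linter.unusedVariables false

namespace Cfsg.Agent.Lib.Helper5.TwoMod4Key

open MulAction

variable {G : Type*} [Group G] [Finite G] {Ω : Type*} [Fintype Ω] [MulAction G Ω]

/-- stabilizer in a subgroup, as a subgroup of the ambient group -/
theorem card_stab_sub (M : Subgroup G) (x : Ω) :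
    Nat.card ↥(stabilizer ↥M x) = Nat.card ↥(M ⊓ stabilizer G x) := by
  have h : (stabilizer ↥M x).map M.subtype = M ⊓ stabilizer G x := by
    ext g
    constructor
    · rintro ⟨m, hm, rfl⟩
      exact ⟨m.2, hm⟩
    · rintro ⟨hgM, hgx⟩
      exact ⟨⟨g, hgM⟩, hgx, rfl⟩
  rw [← h, Subgroup.card_map_of_injective M.subtype_injective]

/-- orbit–stabilizer for a transitive subgroup -/
theorem card_eq_mul (M : Subgroup G) [IsPretransitive ↥M Ω] (x : Ω) :
    Nat.card ↥M = Fintype.card Ω * Nat.card ↥(M ⊓ stabilizer G x) := by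
  have h1 := (stabilizer ↥M x).card_mul_index
  rw [index_stabilizer_of_transitive, card_stab_sub] at h1
  rw [← h1, mul_comm, Nat.card_eq_fintype_card]

/-- general orbit–stabilizer for a subgroup -/
theorem card_eq_orbit_mul (N : Subgroup G) (x : Ω) :
    Nat.card ↥N = (orbit ↥N x).ncard * Nat.card ↥(N ⊓ stabilizer G x) := by
  have h1 := (stabilizer ↥N x).card_mul_index
  rw [index_stabilizer, card_stab_sub] at h1
  rw [← h1, mul_comm]


omit [Finite G] [Fintype Ω] [MulAction G Ω] in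
theorem mem_map_conj_iff (Q : Subgroup G) (m y : G) :
    y ∈ Q.map (MulAut.conj m).toMonoidHom ↔ m⁻¹ * y * m ∈ Q := by
  constructor
  · rintro ⟨q, hq, rfl⟩
    have : m⁻¹ * ((MulAut.conj m).toMonoidHom q) * m = q := by
      show m⁻¹ * (m * q * m⁻¹) * m = q
      group
    rw [this]; exact hq
  · intro h
    refine ⟨m⁻¹ * y * m, h, ?_⟩
    show m * (m⁻¹ * y * m) * m⁻¹ = y
    group

omit [Fintype Ω] [MulAction G Ω] in
theorem card_map_conj (Q : Subgroup G) (m : G) :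
    Nat.card ↥(Q.map (MulAut.conj m).toMonoidHom) = Nat.card ↥Q :=
  Subgroup.card_map_of_injective (MulAut.conj m).injective

omit [Finite G] [Fintype Ω] [MulAction G Ω] in
theorem norm_of_conj (Q : Subgroup G) (m u : G)
    (h : ∀ y : G, y ∈ Q.map (MulAut.conj m).toMonoidHom ↔ u * y * u⁻¹ ∈ Q) :
    u * m ∈ Subgroup.normalizer (Q : Set G) := by
  rw [Subgroup.mem_normalizer_iff]
  intro q
  have h1 := h (m * q * m⁻¹)
  rw [mem_map_conj_iff] at h1
  have e1 : m⁻¹ * (m * q * m⁻¹) * m = q := by group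
  have e2 : u * (m * q * m⁻¹) * u⁻¹ = u * m * q * (u * m)⁻¹ := by group
  rw [e1, e2] at h1
  exact h1

/-- Sylow–Witt: `N_M(Q)` is transitive on the fixed points of `Q` -/
theorem exists_norm_smul (M : Subgroup G) [IsPretransitive ↥M Ω] (α : Ω) (Q : Subgroup G)
    (hQle : Q ≤ M ⊓ stabilizer G α)
    (hcQ : Nat.card Q = 2 ^ (Nat.card ↥(M ⊓ stabilizer G α)).factorization 2)
    (x : Ω) (hx : ∀ q ∈ Q, q • x = x) :
    ∃ g ∈ M, g ∈ Subgroup.normalizer (Q : Set G) ∧ g • α = x := by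
  haveI : Fact (Nat.Prime 2) := ⟨Nat.prime_two⟩
  obtain ⟨m, hm⟩ := exists_smul_eq ↥M α x
  have hmx : (m : G) • α = x := hm
  have hcardA : Nat.card ↥(M ⊓ stabilizer G x) = Nat.card ↥(M ⊓ stabilizer G α) := by
    have h1 := card_eq_mul M x
    have h2 := card_eq_mul M α
    rw [h1] at h2
    have hpos : 0 < Fintype.card Ω := Fintype.card_pos_iff.mpr ⟨α⟩
    exact Nat.eq_of_mul_eq_mul_left hpos h2
  have hQA : Q ≤ M ⊓ stabilizer G x := by
    intro q hq
    exact ⟨(hQle hq).1, mem_stabilizer_iff.mpr (hx q hq)⟩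
  have hQ'A : Q.map (MulAut.conj (m : G)).toMonoidHom ≤ M ⊓ stabilizer G x := by
    rintro _ ⟨q, hq, rfl⟩
    refine ⟨?_, ?_⟩
    · show (m : G) * q * (m : G)⁻¹ ∈ M
      exact M.mul_mem (M.mul_mem m.2 (hQle hq).1) (M.inv_mem m.2)
    · show ((m : G) * q * (m : G)⁻¹) ∈ stabilizer G x
      rw [mem_stabilizer_iff]
      rw [← hmx, mul_smul, mul_smul, inv_smul_smul, mem_stabilizer_iff.mp (hQle hq).2]
  obtain ⟨u, hu, huQ⟩ := Cfsg.Agent.Lib.Lead.SylowAmb.sylow_conj_in 2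
    (M ⊓ stabilizer G x) (M ⊓ stabilizer G x) Q (Q.map (MulAut.conj (m : G)).toMonoidHom)
    le_rfl hQA hQ'A (by rw [hcardA]; exact hcQ) (by rw [card_map_conj, hcardA]; exact hcQ)
  refine ⟨u * m, M.mul_mem hu.1 m.2, norm_of_conj Q m u huQ, ?_⟩
  rw [mul_smul, hmx]
  exact mem_stabilizer_iff.mp hu.2

/-- the stabilizer of `α` in `N_G(Q)` is transitive on the other fixed points of `Q` -/
theorem exists_norm_stab_smul (h2 : IsMultiplyPretransitive G Ω 2) (M : Subgroup G) [hMn : M.Normal]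
    (α : Ω) (Q : Subgroup G) (hQle : Q ≤ M ⊓ stabilizer G α)
    (hcQ : Nat.card Q = 2 ^ (Nat.card ↥(M ⊓ stabilizer G α)).factorization 2)
    (x y : Ω) (hx : ∀ q ∈ Q, q • x = x) (hy : ∀ q ∈ Q, q • y = y) (hxα : x ≠ α) (hyα : y ≠ α) :
    ∃ g : G, g • α = α ∧ g ∈ Subgroup.normalizer (Q : Set G) ∧ g • x = y := by
  haveI : Fact (Nat.Prime 2) := ⟨Nat.prime_two⟩
  obtain ⟨g, hgα, hgx⟩ := (is_two_pretransitive_iff.mp h2) (Ne.symm hxα) (Ne.symm hyα)
  have hQB : Q ≤ (M ⊓ stabilizer G α) ⊓ stabilizer G y := by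
    intro q hq
    exact ⟨hQle hq, mem_stabilizer_iff.mpr (hy q hq)⟩
  have hQ'B : Q.map (MulAut.conj g).toMonoidHom ≤ (M ⊓ stabilizer G α) ⊓ stabilizer G y := by
    rintro _ ⟨q, hq, rfl⟩
    refine ⟨⟨?_, ?_⟩, ?_⟩
    · show g * q * g⁻¹ ∈ M
      exact hMn.conj_mem q (hQle hq).1 g
    · show (g * q * g⁻¹) ∈ stabilizer G α
      rw [mem_stabilizer_iff]
      have : g⁻¹ • α = α := by rw [inv_smul_eq_iff, hgα]
      rw [mul_smul, mul_smul, this, mem_stabilizer_iff.mp (hQle hq).2, hgα]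
    · show (g * q * g⁻¹) ∈ stabilizer G y
      rw [mem_stabilizer_iff]
      rw [← hgx, mul_smul, mul_smul, inv_smul_smul, hx q hq]
  obtain ⟨u, hu, huQ⟩ := Cfsg.Agent.Lib.Lead.SylowAmb.sylow_conj_in 2
    (M ⊓ stabilizer G α) ((M ⊓ stabilizer G α) ⊓ stabilizer G y) Q
    (Q.map (MulAut.conj g).toMonoidHom) inf_le_left hQB hQ'B hcQ
    (by rw [card_map_conj]; exact hcQ)
  refine ⟨u * g, ?_, norm_of_conj Q g u huQ, ?_⟩
  · rw [mul_smul, hgα]
    exact mem_stabilizer_iff.mp hu.1.2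
  · rw [mul_smul, hgx]
    exact mem_stabilizer_iff.mp hu.2


section arith

theorem fac_of_dvd_dvd {a b k : ℕ} (h1 : 2 ^ k ∣ a) (h2 : a ∣ b) (hb : b ≠ 0)
    (hbk : b.factorization 2 = k) : a.factorization 2 = k := by
  have ha : a ≠ 0 := by
    rintro rfl
    exact hb (zero_dvd_iff.mp h2)
  have h3 : k ≤ a.factorization 2 :=
    (Nat.Prime.pow_dvd_iff_le_factorization Nat.prime_two ha).mp h1
  have h4 : a.factorization 2 ≤ b.factorization 2 :=
    (Nat.factorization_le_iff_dvd ha hb).mpr h2 2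
  omega

theorem two_mul_odd_of_fac {n : ℕ} (hn : n ≠ 0) (h : n.factorization 2 = 1) :
    ∃ m, Odd m ∧ n = 2 * m := by
  refine ⟨n / 2 ^ n.factorization 2, ?_, ?_⟩
  · rw [← Nat.not_even_iff_odd, even_iff_two_dvd]
    exact Nat.not_dvd_ordCompl Nat.prime_two hn
  · have := Nat.ordProj_mul_ordCompl_eq_self n 2
    rw [h, pow_one] at this
    rw [h, pow_one]
    exact this.symm

theorem fac_two_of_mod_four {n : ℕ} (h : n % 4 = 2) : n.factorization 2 = 1 := by
  have h2 : n = 2 * (n / 2) := by omega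
  have hodd : ¬ 2 ∣ n / 2 := by omega
  have hne : n / 2 ≠ 0 := by omega
  rw [h2, Nat.factorization_mul (by norm_num) hne]
  simp only [Finsupp.coe_add, Pi.add_apply]
  rw [Nat.Prime.factorization_self Nat.prime_two, Nat.factorization_eq_zero_of_not_dvd hodd]

end arith


/-- the fixed point set of a Sylow 2-subgroup `Q` of `M_α` has exactly two points -/
theorem fix_eq_pair (h2 : IsMultiplyPretransitive G Ω 2) (hn : Fintype.card Ω % 4 = 2)
    (M : Subgroup G) [hMn : M.Normal] [hM : IsPretransitive ↥M Ω] (α : Ω) (Q : Subgroup G)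
    (hQle : Q ≤ M ⊓ stabilizer G α)
    (hcQ : Nat.card Q = 2 ^ (Nat.card ↥(M ⊓ stabilizer G α)).factorization 2) :
    ∃ β : Ω, β ≠ α ∧ (∀ q ∈ Q, q • β = β) ∧
      ∀ x : Ω, (∀ q ∈ Q, q • x = x) → x = α ∨ x = β := by
  classical
  haveI : Fact (Nat.Prime 2) := ⟨Nat.prime_two⟩
  set A : Subgroup G := M ⊓ stabilizer G α with hA
  set k := (Nat.card ↥A).factorization 2 with hk
  have hApos : Nat.card ↥A ≠ 0 := Nat.card_pos.ne'
  have hMpos : Nat.card ↥M ≠ 0 := Nat.card_pos.ne'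
  have hΩpos : Fintype.card Ω ≠ 0 := by omega
  have hcM : Nat.card ↥M = Fintype.card Ω * Nat.card ↥A := card_eq_mul M α
  have hfM : (Nat.card ↥M).factorization 2 = k + 1 := by
    rw [hcM, Nat.factorization_mul hΩpos hApos]
    simp only [Finsupp.coe_add, Pi.add_apply]
    rw [fac_two_of_mod_four hn]
    omega
  have hcardx : ∀ x : Ω, Nat.card ↥(M ⊓ stabilizer G x) = Nat.card ↥A := by
    intro x
    have h1 := card_eq_mul M x
    rw [hcM] at h1
    exact (Nat.eq_of_mul_eq_mul_left (Nat.pos_of_ne_zero hΩpos) h1).symm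
  have hQM : Q ≤ M := fun q hq => (hQle hq).1
  have hαF : ∀ q ∈ Q, q • α = α := fun q hq => mem_stabilizer_iff.mp (hQle hq).2
  have hcQM : Nat.card ↥(Q.subgroupOf M) = 2 ^ k := by
    have h1 : (Q.subgroupOf M).map M.subtype = Q := by
      rw [Subgroup.subgroupOf_map_subtype, inf_eq_left.mpr hQM]
    rw [← Subgroup.card_map_of_injective M.subtype_injective, h1]
    exact hcQ
  obtain ⟨s, hsQ, hs2, hsnorm, hscard⟩ :=
    Cfsg.Agent.Lib.Lead.SylowAmb.exists_two_step (Q.subgroupOf M) k hcQM hfM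
  set K : Subgroup G := (Q.subgroupOf M ⊔ Subgroup.zpowers s).map M.subtype with hK
  have hcK : Nat.card ↥K = 2 ^ (k + 1) := by
    rw [hK, Subgroup.card_map_of_injective M.subtype_injective]
    exact hscard
  have hs2' : (s : G) * (s : G) ∈ Q := Subgroup.mem_subgroupOf.mp hs2
  have hsY : (s : G) ∈ Subgroup.normalizer (Q : Set G) := by
    rw [Subgroup.mem_normalizer_iff]
    intro q
    constructor
    · intro hq
      have := (hsnorm ⟨q, hQM hq⟩).mp (Subgroup.mem_subgroupOf.mpr hq)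
      exact Subgroup.mem_subgroupOf.mp this
    · intro hq
      have hqM : q ∈ M := by
        have h1 : (s : G)⁻¹ * ((s : G) * q * (s : G)⁻¹) * (s : G) ∈ M :=
          M.mul_mem (M.mul_mem (M.inv_mem s.2) (hQM hq)) s.2
        have e : (s : G)⁻¹ * ((s : G) * q * (s : G)⁻¹) * (s : G) = q := by group
        rwa [e] at h1
      have := (hsnorm ⟨q, hqM⟩).mpr (Subgroup.mem_subgroupOf.mpr hq)
      exact Subgroup.mem_subgroupOf.mp this
  -- `K` lies in a subgroup as soon as `Q` and `s` do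
  have hKle_of : ∀ L : Subgroup G, Q ≤ L → (s : G) ∈ L → K ≤ L := by
    intro L hQL hsL
    rw [hK, Subgroup.map_le_iff_le_comap]
    apply sup_le
    · intro q hq
      rw [Subgroup.mem_comap]
      exact hQL (Subgroup.mem_subgroupOf.mp hq)
    · rw [Subgroup.zpowers_le, Subgroup.mem_comap]
      exact hsL
  -- `s` has no fixed point on `Fix(Q)`
  have hsfix : ∀ x : Ω, (∀ q ∈ Q, q • x = x) → (s : G) • x ≠ x := by
    intro x hx hsx
    have hKle : K ≤ M ⊓ stabilizer G x :=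
      hKle_of _ (fun q hq => ⟨hQM hq, mem_stabilizer_iff.mpr (hx q hq)⟩)
        ⟨s.2, mem_stabilizer_iff.mpr hsx⟩
    have hdvd := Subgroup.card_dvd_of_le hKle
    rw [hcK, hcardx x] at hdvd
    exact Nat.pow_succ_factorization_not_dvd hApos Nat.prime_two hdvd
  set Y : Subgroup G := Subgroup.normalizer (Q : Set G) with hY
  have hQY : Q ≤ Y := Subgroup.le_normalizer
  have hFinv : ∀ y ∈ Y, ∀ x : Ω, (∀ q ∈ Q, q • x = x) → ∀ q ∈ Q, q • (y • x) = y • x := by
    intro y hy x hx q hq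
    have h1 : y⁻¹ * q * y ∈ Q := (Subgroup.mem_normalizer_iff''.mp hy q).mp hq
    have h2' := hx _ h1
    calc q • (y • x) = y • ((y⁻¹ * q * y) • x) := by
          rw [smul_smul, smul_smul]; congr 1; group
      _ = y • x := by rw [h2']
  let Fs : SubMulAction ↥Y Ω :=
    { carrier := {x | ∀ q ∈ Q, q • x = x}
      smul_mem' := fun y x hx => hFinv (y : G) y.2 x hx }
  haveI : Fintype ↥Fs := Fintype.ofFinite _
  have hcoe : ∀ (y : ↥Y) (x : ↥Fs), ((y • x : ↥Fs) : Ω) = (y : G) • (x : Ω) := fun y x => rfl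
  -- transitivity of `N_M(Q)` on `Fix(Q)`
  have hNtr : ∀ x y : ↥Fs, ∃ n ∈ M.subgroupOf Y, n • x = y := by
    intro x y
    obtain ⟨gx, hgxM, hgxY, hgx⟩ := exists_norm_smul M α Q hQle hcQ x.1 x.2
    obtain ⟨gy, hgyM, hgyY, hgy⟩ := exists_norm_smul M α Q hQle hcQ y.1 y.2
    refine ⟨⟨gy * gx⁻¹, Y.mul_mem hgyY (Y.inv_mem hgxY)⟩, ?_, ?_⟩
    · rw [Subgroup.mem_subgroupOf]
      exact M.mul_mem hgyM (M.inv_mem hgxM)
    · apply Subtype.ext
      rw [hcoe]
      show (gy * gx⁻¹) • (x : Ω) = (y : Ω)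
      rw [mul_smul, ← hgy]
      congr 1
      rw [inv_smul_eq_iff, hgx]
  -- double transitivity of `N_G(Q)` on `Fix(Q)`
  have h2Y : IsMultiplyPretransitive ↥Y ↥Fs 2 := by
    rw [is_two_pretransitive_iff]
    intro a b c d hab hcd
    obtain ⟨ga, hgaM, hgaY, hga⟩ := exists_norm_smul M α Q hQle hcQ a.1 a.2
    obtain ⟨gc, hgcM, hgcY, hgc⟩ := exists_norm_smul M α Q hQle hcQ c.1 c.2
    have hb' : ∀ q ∈ Q, q • (ga⁻¹ • (b : Ω)) = ga⁻¹ • (b : Ω) :=
      hFinv ga⁻¹ (Y.inv_mem hgaY) b.1 b.2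
    have hd' : ∀ q ∈ Q, q • (gc⁻¹ • (d : Ω)) = gc⁻¹ • (d : Ω) :=
      hFinv gc⁻¹ (Y.inv_mem hgcY) d.1 d.2
    have hbα : ga⁻¹ • (b : Ω) ≠ α := by
      intro h
      apply hab
      apply Subtype.ext
      rw [inv_smul_eq_iff] at h
      rw [h, hga]
    have hdα : gc⁻¹ • (d : Ω) ≠ α := by
      intro h
      apply hcd
      apply Subtype.ext
      rw [inv_smul_eq_iff] at h
      rw [h, hgc]
    obtain ⟨g0, hg0α, hg0Y, hg0⟩ :=
      exists_norm_stab_smul h2 M α Q hQle hcQ _ _ hb' hd' hbα hdα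
    refine ⟨⟨gc * g0 * ga⁻¹, Y.mul_mem (Y.mul_mem hgcY hg0Y) (Y.inv_mem hgaY)⟩, ?_, ?_⟩
    · apply Subtype.ext
      rw [hcoe]
      show (gc * g0 * ga⁻¹) • (a : Ω) = (c : Ω)
      have : ga⁻¹ • (a : Ω) = α := by rw [inv_smul_eq_iff, hga]
      rw [mul_smul, mul_smul, this, hg0α, hgc]
    · apply Subtype.ext
      rw [hcoe]
      show (gc * g0 * ga⁻¹) • (b : Ω) = (d : Ω)
      rw [mul_smul, mul_smul, hg0, smul_inv_smul]
  -- point stabilizers in `N_M(Q)` act with odd order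
  have hodd : ∀ g ∈ M.subgroupOf Y, g • (⟨α, hαF⟩ : ↥Fs) = ⟨α, hαF⟩ →
      ∃ k' : ℕ, Odd k' ∧ ∀ x : ↥Fs, g ^ k' • x = x := by
    intro g hg hgα
    have hgM : (g : G) ∈ M := Subgroup.mem_subgroupOf.mp hg
    have hgα' : (g : G) • α = α := congrArg Subtype.val hgα
    set B : Subgroup G := A ⊓ Y with hB
    have hgB : (g : G) ∈ B := ⟨⟨hgM, mem_stabilizer_iff.mpr hgα'⟩, g.2⟩
    have hQB : Q ≤ B := fun q hq => ⟨hQle hq, hQY hq⟩
    haveI : (Q.subgroupOf B).Normal :=
      (Subgroup.normal_subgroupOf_iff_le_normalizer hQB).mpr inf_le_right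
    have hcQB : Nat.card ↥(Q.subgroupOf B) = 2 ^ k := by
      have h1 : (Q.subgroupOf B).map B.subtype = Q := by
        rw [Subgroup.subgroupOf_map_subtype, inf_eq_left.mpr hQB]
      rw [← Subgroup.card_map_of_injective B.subtype_injective, h1]
      exact hcQ
    refine ⟨(Q.subgroupOf B).index, ?_, ?_⟩
    · by_contra hev
      rw [Nat.not_odd_iff_even, even_iff_two_dvd] at hev
      have h1 := (Q.subgroupOf B).card_mul_index
      rw [hcQB] at h1
      have h3 : 2 ^ (k + 1) ∣ Nat.card ↥B := by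
        rw [← h1, pow_succ]
        exact Nat.mul_dvd_mul_left _ hev
      have h4 : Nat.card ↥B ∣ Nat.card ↥A := Subgroup.card_dvd_of_le inf_le_left
      exact Nat.pow_succ_factorization_not_dvd hApos Nat.prime_two (h3.trans h4)
    · intro x
      have h1 : (⟨(g : G), hgB⟩ : ↥B) ^ (Q.subgroupOf B).index ∈ Q.subgroupOf B :=
        Subgroup.pow_index_mem _ _
      have h3 : (g : G) ^ (Q.subgroupOf B).index ∈ Q := Subgroup.mem_subgroupOf.mp h1
      apply Subtype.ext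
      rw [hcoe]
      show ((g ^ (Q.subgroupOf B).index : ↥Y) : G) • (x : Ω) = (x : Ω)
      rw [Subgroup.coe_pow]
      exact x.2 _ h3
  -- cardinality of `Fix(Q)`
  have hcardF : ∃ m : ℕ, Odd m ∧ Fintype.card ↥Fs = 2 * m := by
    set N' : Subgroup G := M ⊓ Y with hN'
    have horb : orbit ↥N' α = {x | ∀ q ∈ Q, q • x = x} := by
      ext x
      constructor
      · rintro ⟨n, rfl⟩
        exact hFinv (n : G) n.2.2 α hαF
      · intro hx
        obtain ⟨g, hgM, hgY, hgx⟩ := exists_norm_smul M α Q hQle hcQ x hx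
        exact ⟨⟨g, hgM, hgY⟩, hgx⟩
    have hcN' := card_eq_orbit_mul N' α
    have hN'pos : Nat.card ↥N' ≠ 0 := Nat.card_pos.ne'
    have hKN' : K ≤ N' := hKle_of _ (fun q hq => ⟨hQM hq, hQY hq⟩) ⟨s.2, hsY⟩
    have hfN' : (Nat.card ↥N').factorization 2 = k + 1 :=
      fac_of_dvd_dvd (by rw [← hcK]; exact Subgroup.card_dvd_of_le hKN')
        (Subgroup.card_dvd_of_le inf_le_left) hMpos hfM
    have hfNα : (Nat.card ↥(N' ⊓ stabilizer G α)).factorization 2 = k :=
      fac_of_dvd_dvd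
        (by rw [← hcQ]
            exact Subgroup.card_dvd_of_le
              (fun q hq => ⟨⟨hQM hq, hQY hq⟩, (hQle hq).2⟩))
        (Subgroup.card_dvd_of_le
          (show N' ⊓ stabilizer G α ≤ A from fun g hg => ⟨hg.1.1, hg.2⟩)) hApos rfl
    have ho : (orbit ↥N' α).ncard ≠ 0 := by
      intro h0
      rw [h0, zero_mul] at hcN'
      exact hN'pos hcN'
    have hc0 : Nat.card ↥(N' ⊓ stabilizer G α) ≠ 0 := Nat.card_pos.ne'
    have hfo : ((orbit ↥N' α).ncard).factorization 2 = 1 := by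
      have h1 : (Nat.card ↥N').factorization 2 =
          ((orbit ↥N' α).ncard * Nat.card ↥(N' ⊓ stabilizer G α)).factorization 2 := by
        rw [← hcN']
      rw [Nat.factorization_mul ho hc0] at h1
      simp only [Finsupp.coe_add, Pi.add_apply] at h1
      omega
    obtain ⟨m, hm, hom⟩ := two_mul_odd_of_fac ho hfo
    refine ⟨m, hm, ?_⟩
    rw [← hom, horb, ← Nat.card_coe_set_eq, ← Nat.card_eq_fintype_card]
    rfl
  obtain ⟨m, hm, hcard⟩ := hcardF
  have hcard2 : Fintype.card ↥Fs = 2 :=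
    Cfsg.Agent.Lib.Helper5.TwoMod4Sign.card_eq_two h2Y (M.subgroupOf Y) hNtr ⟨α, hαF⟩ hodd
      ⟨(s : G), hsY⟩ (Subgroup.mem_subgroupOf.mpr s.2)
      (fun x => by
        apply Subtype.ext
        rw [hcoe, hcoe]
        show (s : G) • (s : G) • (x : Ω) = (x : Ω)
        rw [smul_smul]
        exact x.2 _ hs2')
      (fun x h => hsfix x.1 x.2 (congrArg Subtype.val h)) m hm hcard
  refine ⟨(s : G) • α, hsfix α hαF, hFinv (s : G) hsY α hαF, ?_⟩
  intro x hx
  by_contra hne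
  rw [not_or] at hne
  have h3 : 2 < Fintype.card ↥Fs := by
    rw [Fintype.two_lt_card_iff]
    refine ⟨⟨α, hαF⟩, ⟨(s : G) • α, hFinv (s : G) hsY α hαF⟩, ⟨x, hx⟩, ?_, ?_, ?_⟩
    · intro h
      exact hsfix α hαF (congrArg Subtype.val h).symm
    · intro h
      exact hne.1 (congrArg Subtype.val h).symm
    · intro h
      exact hne.2 (congrArg Subtype.val h).symm
  omega


/-- **Key lemma for S3401**: in a doubly transitive group of degree `≡ 2 mod 4`, every transitive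
normal subgroup is doubly transitive. -/
theorem normal_two_transitive (h2 : IsMultiplyPretransitive G Ω 2)
    (hn : Fintype.card Ω % 4 = 2) (M : Subgroup G) [hMn : M.Normal]
    (hM : IsPretransitive ↥M Ω) : IsMultiplyPretransitive ↥M Ω 2 := by
  classical
  haveI : Fact (Nat.Prime 2) := ⟨Nat.prime_two⟩
  haveI := hM
  have hpos : 0 < Fintype.card Ω := by omega
  obtain ⟨α⟩ := Fintype.card_pos_iff.mp hpos
  set A : Subgroup G := M ⊓ stabilizer G α with hA
  obtain ⟨Q', hQ'⟩ := Sylow.exists_subgroup_card_pow_prime (G := ↥A) 2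
    (n := (Nat.card ↥A).factorization 2) (Nat.ordProj_dvd _ _)
  set Q : Subgroup G := Q'.map A.subtype with hQ
  have hQle : Q ≤ A := Subgroup.map_subtype_le _
  have hcQ : Nat.card Q = 2 ^ (Nat.card ↥A).factorization 2 := by
    rw [hQ, Subgroup.card_map_of_injective A.subtype_injective]
    exact hQ'
  obtain ⟨β, hβα, hβF, hF⟩ := fix_eq_pair h2 hn M α Q hQle hcQ
  -- `M_α` is transitive on the points different from `α`
  have hAn : stabilizer G α ≤ Subgroup.normalizer (A : Set G) := by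
    intro g hg
    rw [Subgroup.mem_normalizer_iff]
    intro a
    have hginv : g⁻¹ ∈ stabilizer G α := (stabilizer G α).inv_mem hg
    constructor
    · rintro ⟨haM, haα⟩
      exact ⟨hMn.conj_mem a haM g,
        (stabilizer G α).mul_mem ((stabilizer G α).mul_mem hg haα) hginv⟩
    · rintro ⟨haM, haα⟩
      have e : a = g⁻¹ * (g * a * g⁻¹) * g⁻¹⁻¹ := by group
      rw [e]
      exact ⟨hMn.conj_mem _ haM g⁻¹,
        (stabilizer G α).mul_mem ((stabilizer G α).mul_mem hginv haα)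
          ((stabilizer G α).inv_mem hginv)⟩
  have hkey : ∀ x : Ω, x ≠ α → ∃ a ∈ A, a • β = x := by
    intro x hx
    obtain ⟨h, hhα, hhβ⟩ := (is_two_pretransitive_iff.mp h2) (Ne.symm hβα) (Ne.symm hx)
    obtain ⟨a, haA, y, hyα, hyY, hay⟩ :=
      Cfsg.Agent.Lib.Lead.SylowAmb.frattini_in 2 (stabilizer G α) A Q inf_le_right hAn hQle hcQ
        h (mem_stabilizer_iff.mpr hhα)
    refine ⟨a, haA, ?_⟩
    -- `y` fixes `β`
    have hyβF : ∀ q ∈ Q, q • (y • β) = y • β := by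
      intro q hq
      have h1 : y⁻¹ * q * y ∈ Q := (Subgroup.mem_normalizer_iff''.mp hyY q).mp hq
      have h2' := hβF _ h1
      calc q • (y • β) = y • ((y⁻¹ * q * y) • β) := by
            rw [smul_smul, smul_smul]; congr 1; group
        _ = y • β := by rw [h2']
    have hyβ : y • β = β := by
      rcases hF _ hyβF with h1 | h1
      · exfalso
        apply hβα
        have h3 : y • β = y • α := by rw [h1, mem_stabilizer_iff.mp hyα]
        exact MulAction.injective y h3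
      · exact h1
    rw [← hhβ, hay, mul_smul, hyβ]
  have hAα : ∀ a ∈ A, a • α = α := fun a ha => mem_stabilizer_iff.mp ha.2
  rw [is_two_pretransitive_iff]
  intro a b c d hab hcd
  obtain ⟨m1, hm1⟩ := exists_smul_eq ↥M a α
  obtain ⟨m2, hm2⟩ := exists_smul_eq ↥M c α
  have hm1' : (m1 : G) • a = α := hm1
  have hm2' : (m2 : G) • c = α := hm2
  have hb1 : (m1 : G) • b ≠ α := by
    intro h
    apply hab
    rw [← hm1'] at h
    exact (MulAction.injective (m1 : G) h).symm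
  have hd1 : (m2 : G) • d ≠ α := by
    intro h
    apply hcd
    rw [← hm2'] at h
    exact (MulAction.injective (m2 : G) h).symm
  obtain ⟨a1, ha1A, ha1⟩ := hkey _ hb1
  obtain ⟨a2, ha2A, ha2⟩ := hkey _ hd1
  refine ⟨⟨(m2 : G)⁻¹ * a2 * a1⁻¹ * (m1 : G),
    M.mul_mem (M.mul_mem (M.mul_mem (M.inv_mem m2.2) ha2A.1) (M.inv_mem ha1A.1)) m1.2⟩, ?_, ?_⟩
  · show ((m2 : G)⁻¹ * a2 * a1⁻¹ * (m1 : G)) • a = c
    have e1 : a1⁻¹ • α = α := by rw [inv_smul_eq_iff, hAα a1 ha1A]
    rw [mul_smul, mul_smul, mul_smul, hm1', e1, hAα a2 ha2A, inv_smul_eq_iff, hm2']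
  · show ((m2 : G)⁻¹ * a2 * a1⁻¹ * (m1 : G)) • b = d
    have e1 : a1⁻¹ • ((m1 : G) • b) = β := by rw [inv_smul_eq_iff, ha1]
    rw [mul_smul, mul_smul, mul_smul, e1, ha2, inv_smul_smul]

end Cfsg.Agent.Lib.Helper5.TwoMod4Key
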