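import Mathlib

/-!
# Unipotent matrices in characteristic `p` (helper5)
-/

set_option autoImplicit false

namespace Cfsg.Agent.Lib.Helper5.Unipotent

open Matrix Polynomial

variable {F : Type*} [Field F]

/-- a nilpotent `d × d` matrix over a field has `N ^ d = 0` -/
theorem pow_card_eq_zero {d : ℕ} {N : Matrix (Fin d) (Fin d) F} (hN : IsNilpotent N) :
    N ^ d = 0 := by
  have h1 : N.charpoly = X ^ d := by
    have := Matrix.isNilpotent_charpoly_sub_pow_of_isNilpotent hN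
    rw [Fintype.card_fin] at this
    exact sub_eq_zero.mp this.eq_zero
  have h2 := Matrix.aeval_self_charpoly N
  rw [h1, map_pow, aeval_X] at h2
  exact h2

theorem pow_eq_zero_of_le {d k : ℕ} {N : Matrix (Fin d) (Fin d) F} (hN : IsNilpotent N)
    (hk : d ≤ k) : N ^ k = 0 := by
  obtain ⟨j, rfl⟩ := Nat.exists_eq_add_of_le hk
  rw [pow_add, pow_card_eq_zero hN, zero_mul]

/-- Frobenius on `u - 1` -/
theorem sub_one_pow_char_pow (p : ℕ) [Fact p.Prime] [CharP F p] {d : ℕ}
    (u : Matrix (Fin d) (Fin d) F) (k : ℕ) : (u - 1) ^ p ^ k = u ^ p ^ k - 1 := by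
  rcases Nat.eq_zero_or_pos d with rfl | hd
  · exact Subsingleton.elim _ _
  · have : Nonempty (Fin d) := ⟨⟨0, hd⟩⟩
    rw [sub_pow_char_pow_of_commute p k (Commute.one_right u), one_pow]

/-- a unipotent element of `GL_d` in characteristic `p` has `u ^ (p ^ k) = 1` as soon as `d ≤ p ^ k` -/
theorem pow_eq_one (p : ℕ) [Fact p.Prime] [CharP F p] {d : ℕ} (u : GL (Fin d) F)
    (hu : IsNilpotent ((u : Matrix (Fin d) (Fin d) F) - 1)) {k : ℕ} (hk : d ≤ p ^ k) :
    u ^ p ^ k = 1 := by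
  apply Units.ext
  rw [Units.val_pow_eq_pow_val, Units.val_one]
  have := sub_one_pow_char_pow p (u : Matrix (Fin d) (Fin d) F) k
  rw [pow_eq_zero_of_le hu hk] at this
  exact (sub_eq_zero.mp this.symm)

/-- if `u ^ (p ^ j) = 1` then `(u - 1) ^ (p ^ j) = 0` -/
theorem sub_one_pow_eq_zero (p : ℕ) [Fact p.Prime] [CharP F p] {d : ℕ} (u : GL (Fin d) F)
    {j : ℕ} (h : u ^ p ^ j = 1) : ((u : Matrix (Fin d) (Fin d) F) - 1) ^ p ^ j = 0 := by
  rw [sub_one_pow_char_pow p]
  have := congrArg (fun x : GL (Fin d) F => (x : Matrix (Fin d) (Fin d) F)) h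
  simp only [Units.val_pow_eq_pow_val, Units.val_one] at this
  rw [this, sub_self]

end Cfsg.Agent.Lib.Helper5.Unipotent
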