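import Mathlib
import Cfsg.Prelude.Def_Transfer
import Cfsg.Agent.H2.CoprimeFactor
import Cfsg.Agent.S0055

/-!
Ward's theorem (S3796), piece A (helper5): small general-purpose lemmas, all inside one ambient
finite group `X`.
-/

set_option autoImplicit false
open scoped commutatorElement IsMulCommutative

namespace Cfsg.Agent.Lib.Helper5.WardA

open Cfsg.Agent.H2.Transitivity Cfsg.Agent.H2.CoprimeFactor

variable {X : Type*} [Group X] [Finite X]

/-- a multiplicatively closed subset of a finite group containing `1` is a subgroup -/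
def ofMulClosed (S : Set X) (h1 : (1 : X) ∈ S) (hmul : ∀ x ∈ S, ∀ y ∈ S, x * y ∈ S) : Subgroup X where
  carrier := S
  one_mem' := h1
  mul_mem' := fun hx hy => hmul _ hx _ hy
  inv_mem' := by
    intro x hx
    have hpow : ∀ n : ℕ, x ^ n ∈ S := by
      intro n
      induction n with
      | zero => simpa using h1
      | succ n ih => rw [pow_succ]; exact hmul _ ih _ hx
    have hinv : x⁻¹ = x ^ (orderOf x - 1) := by
      have hpos : 0 < orderOf x := orderOf_pos x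
      have h2 : x ^ (orderOf x - 1) * x = 1 := by
        rw [← pow_succ, Nat.sub_add_cancel hpos, pow_orderOf_eq_one]
      exact (eq_inv_of_mul_eq_one_left h2).symm
    rw [hinv]; exact hpow _

theorem mem_ofMulClosed (S : Set X) (h1 : (1 : X) ∈ S) (hmul : ∀ x ∈ S, ∀ y ∈ S, x * y ∈ S) (x : X) :
    x ∈ ofMulClosed S h1 hmul ↔ x ∈ S := Iff.rfl

/-- the elements normalizing `Q` and acting trivially on `Q` modulo `L` -/
def trivAct (Q L : Subgroup X) : Subgroup X :=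
  ofMulClosed {x : X | (∀ q ∈ Q, x * q * x⁻¹ ∈ Q) ∧ ∀ q ∈ Q, q⁻¹ * (x * q * x⁻¹) ∈ L}
    (by
      refine ⟨fun q hq => by simpa using hq, fun q hq => ?_⟩
      have : q⁻¹ * (1 * q * (1 : X)⁻¹) = 1 := by group
      rw [this]; exact L.one_mem)
    (by
      rintro x ⟨hx1, hx2⟩ y ⟨hy1, hy2⟩
      refine ⟨fun q hq => ?_, fun q hq => ?_⟩
      · have : x * y * q * (x * y)⁻¹ = x * (y * q * y⁻¹) * x⁻¹ := by group
        rw [this]; exact hx1 _ (hy1 _ hq)
      · have : q⁻¹ * (x * y * q * (x * y)⁻¹) =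
            (q⁻¹ * (y * q * y⁻¹)) * ((y * q * y⁻¹)⁻¹ * (x * (y * q * y⁻¹) * x⁻¹)) := by group
        rw [this]; exact L.mul_mem (hy2 _ hq) (hx2 _ (hy1 _ hq)))

theorem mem_trivAct (Q L : Subgroup X) (x : X) :
    x ∈ trivAct Q L ↔ (∀ q ∈ Q, x * q * x⁻¹ ∈ Q) ∧ ∀ q ∈ Q, q⁻¹ * (x * q * x⁻¹) ∈ L := Iff.rfl

/-- if `b` normalizes `R` and has no nontrivial fixed point on `R`, every element of `R` is a
commutator `y⁻¹ · b y b⁻¹` -/
theorem exists_comm_eq (R : Subgroup X) (b : X) (hb : ∀ y ∈ R, b * y * b⁻¹ ∈ R)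
    (hfix : ∀ y ∈ R, b * y = y * b → y = 1) (z : X) (hz : z ∈ R) :
    ∃ y ∈ R, z = y⁻¹ * (b * y * b⁻¹) := by
  classical
  let f : R → R := fun y => ⟨(y : X)⁻¹ * (b * y * b⁻¹), R.mul_mem (R.inv_mem y.2) (hb _ y.2)⟩
  have hinj : Function.Injective f := by
    intro y y' h
    have h' : (y : X)⁻¹ * (b * y * b⁻¹) = (y' : X)⁻¹ * (b * y' * b⁻¹) := congrArg Subtype.val h
    have e1 : (y' : X) * (y : X)⁻¹ = b * ((y' : X) * (y : X)⁻¹) * b⁻¹ := by
      have h3 : (y' : X) * ((y : X)⁻¹ * (b * y * b⁻¹)) * (b * (y : X)⁻¹ * b⁻¹) =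
          (y' : X) * ((y' : X)⁻¹ * (b * y' * b⁻¹)) * (b * (y : X)⁻¹ * b⁻¹) := by rw [h']
      have l : (y' : X) * ((y : X)⁻¹ * (b * y * b⁻¹)) * (b * (y : X)⁻¹ * b⁻¹) =
          (y' : X) * (y : X)⁻¹ := by group
      have r : (y' : X) * ((y' : X)⁻¹ * (b * y' * b⁻¹)) * (b * (y : X)⁻¹ * b⁻¹) =
          b * ((y' : X) * (y : X)⁻¹) * b⁻¹ := by group
      rw [l, r] at h3; exact h3
    have ht : (y' : X) * (y : X)⁻¹ ∈ R := R.mul_mem y'.2 (R.inv_mem y.2)
    have hc : b * ((y' : X) * (y : X)⁻¹) = (y' : X) * (y : X)⁻¹ * b := by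
      have : b * ((y' : X) * (y : X)⁻¹) = b * ((y' : X) * (y : X)⁻¹) * b⁻¹ * b := by group
      rw [this, ← e1]
    have h1 := hfix _ ht hc
    have : (y' : X) = y := by
      have := mul_inv_eq_one.1 h1
      exact this
    exact Subtype.ext this.symm
  obtain ⟨y, hy⟩ := (Finite.injective_iff_surjective.1 hinj) ⟨z, hz⟩
  exact ⟨y, y.2, (congrArg Subtype.val hy).symm⟩

omit [Finite X] in
/-- elements of a join of two subgroups of a commutative subgroup are products -/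
theorem exists_mul_of_mem_sup (V H K : Subgroup X) [IsMulCommutative V] (hH : H ≤ V) (hK : K ≤ V) {x : X}
    (hx : x ∈ H ⊔ K) : ∃ h ∈ H, ∃ k ∈ K, x = h * k := by
  have hxV : x ∈ V := (sup_le hH hK) hx
  have h1 : (⟨x, hxV⟩ : V) ∈ (H ⊔ K).subgroupOf V := hx
  rw [Subgroup.subgroupOf_sup hH hK] at h1
  obtain ⟨y, hy, z, hz, hyz⟩ := Subgroup.mem_sup.1 h1
  refine ⟨y, hy, z, hz, ?_⟩
  have := congrArg Subtype.val hyz
  simpa using this.symm

/-- `[V, Y] ≤ V` when `Y` normalizes `V` -/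
theorem commutator_le_left (V Y : Subgroup X) (hY : Y ≤ Subgroup.normalizer (V : Set X)) : ⁅V, Y⁆ ≤ V := by
  rw [Subgroup.commutator_le]
  intro v hv y hy
  have h1 : y * v⁻¹ * y⁻¹ ∈ V := conj_mem_of_le_normalizer hY hy (V.inv_mem hv)
  have : ⁅v, y⁆ = v * (y * v⁻¹ * y⁻¹) := by rw [commutatorElement_def]; group
  rw [this]; exact V.mul_mem hv h1

/-- coprime action on an abelian group: `[V, Y] ∩ C(Y) = 1` -/
theorem commutator_inf_centralizer (V Y : Subgroup X) [IsMulCommutative V]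
    (hY : Y ≤ Subgroup.normalizer (V : Set X)) (hcop : (Nat.card Y).Coprime (Nat.card V)) :
    ⁅V, Y⁆ ⊓ Subgroup.centralizer (Y : Set X) = ⊥ := by
  have h := (Cfsg.Agent.S0055.result Y V hY hcop).1
  rw [eq_bot_iff]
  intro x hx
  rw [← h]
  exact ⟨⟨commutator_le_left V Y hY hx.1, hx.2⟩, hx.1⟩

/-- coprime action on an abelian group: if `Y` centralizes `[V, Y]` then `[V, Y] = 1` -/
theorem commutator_eq_bot_of_le_centralizer (V Y : Subgroup X) [IsMulCommutative V]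
    (hY : Y ≤ Subgroup.normalizer (V : Set X)) (hcop : (Nat.card Y).Coprime (Nat.card V))
    (h : ⁅V, Y⁆ ≤ Subgroup.centralizer (Y : Set X)) : ⁅V, Y⁆ = ⊥ := by
  rw [← commutator_inf_centralizer V Y hY hcop]
  exact (inf_eq_left.2 h).symm

/-- the key reformulation: if `Y` commutes with `B` and centralizes `C_V(B)` then `[V, Y] ≤ [V, B]` -/
theorem commutator_le_commutator (V B Y : Subgroup X) [IsMulCommutative V]
    (hB : B ≤ Subgroup.normalizer (V : Set X)) (hcop : (Nat.card B).Coprime (Nat.card V))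
    (hY : Y ≤ Subgroup.normalizer (V : Set X)) (hYB : Y ≤ Subgroup.centralizer (B : Set X))
    (h : ∀ y ∈ Y, ∀ v ∈ V ⊓ Subgroup.centralizer (B : Set X), y * v = v * y) :
    ⁅V, Y⁆ ≤ ⁅V, B⁆ := by
  have hdec := (Cfsg.Agent.S0055.result B V hB hcop).2
  have hVB : ⁅V, B⁆ ≤ V := commutator_le_left V B hB
  -- `Y` normalizes `[V, B]`
  have hYn : Y ≤ Subgroup.normalizer ((⁅V, B⁆ : Subgroup X) : Set X) := by
    exact normalizer_commutator hY (hYB.trans (Subgroup.centralizer_le_normalizer _))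
  rw [Subgroup.commutator_le]
  intro v hv y hy
  have hv' : v ∈ (V ⊓ Subgroup.centralizer (B : Set X)) ⊔ ⁅V, B⁆ := by rw [hdec]; exact hv
  obtain ⟨c, hc, m, hm, rfl⟩ := exists_mul_of_mem_sup V _ _ inf_le_left hVB hv'
  have hcy : y * c = c * y := h y hy c hc
  have hmy : y * m⁻¹ * y⁻¹ ∈ ⁅V, B⁆ := conj_mem_of_le_normalizer hYn hy (Subgroup.inv_mem _ hm)
  have hcm : c * m = m * c := by
    have := mul_comm (⟨c, hc.1⟩ : V) ⟨m, hVB hm⟩
    exact congrArg Subtype.val this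
  have hcm' : c * (y * m⁻¹ * y⁻¹) = (y * m⁻¹ * y⁻¹) * c := by
    have := mul_comm (⟨c, hc.1⟩ : V) ⟨y * m⁻¹ * y⁻¹, hVB hmy⟩
    exact congrArg Subtype.val this
  have e : ⁅c * m, y⁆ = m * (y * m⁻¹ * y⁻¹) := by
    rw [commutatorElement_def]
    have e1 : c * m * y * (c * m)⁻¹ * y⁻¹ = c * m * (y * m⁻¹ * y⁻¹) * (y * c⁻¹ * y⁻¹) := by group
    have e2 : y * c⁻¹ * y⁻¹ = c⁻¹ := by
      have : y * c⁻¹ = c⁻¹ * y := by
        have h8 : c⁻¹ * (y * c) * c⁻¹ = c⁻¹ * (c * y) * c⁻¹ := by rw [hcy]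
        have l : c⁻¹ * (y * c) * c⁻¹ = c⁻¹ * y := by group
        have r : c⁻¹ * (c * y) * c⁻¹ = y * c⁻¹ := by group
        rw [l, r] at h8; exact h8.symm
      rw [this]; group
    rw [e1, e2]
    -- c m n c⁻¹ = m n since c commutes with m and n
    have e3 : c * m * (y * m⁻¹ * y⁻¹) * c⁻¹ = m * (c * (y * m⁻¹ * y⁻¹)) * c⁻¹ := by
      rw [hcm]; group
    rw [e3, hcm']; group
  rw [e]
  exact Subgroup.mul_mem _ hm hmy

end Cfsg.Agent.Lib.Helper5.WardA
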