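import Mathlib
import Cfsg.Prelude.Def_Transfer
import Cfsg.Agent.H2.CoprimeFactor
import Cfsg.Agent.H2.HyperplaneGen
import Cfsg.Agent.H1.FrobFixC
import Cfsg.Agent.Lib.Helper5.WardA

/-!
Ward's theorem (S3796), piece B (helper5): subgroups of order `p` of `Z_p × Z_p`, generation by
their fixed points, and the Frobenius-group tool.
-/

set_option autoImplicit false
open scoped commutatorElement IsMulCommutative

namespace Cfsg.Agent.Lib.Helper5.WardB

open Cfsg.Agent.H2.Transitivity Cfsg.Agent.H2.CoprimeFactor Cfsg.Agent.Lib.Helper5.WardA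

variable {X : Type*} [Group X] [Finite X]

omit [Finite X] in
/-- `|U E|` divides `|U| |E|` when `E` normalizes `U` -/
theorem card_sup_dvd (U E : Subgroup X) (hEU : E ≤ Subgroup.normalizer (U : Set X)) :
    Nat.card ↥(U ⊔ E) ∣ Nat.card U * Nat.card E := by
  set K : Subgroup X := U ⊔ E with hK
  have hUK : U ≤ K := le_sup_left
  have hEK : E ≤ K := le_sup_right
  have hKN : K ≤ Subgroup.normalizer (U : Set X) := sup_le Subgroup.le_normalizer hEU
  have hn : (U.subgroupOf K).Normal := (Subgroup.normal_subgroupOf_iff_le_normalizer hUK).2 hKN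
  have h1 : (U.subgroupOf K) ⊔ (E.subgroupOf K) = ⊤ := by
    rw [← Subgroup.subgroupOf_sup hUK hEK, ← hK, Subgroup.subgroupOf_self]
  have h2 : (U.subgroupOf K).index = (U.subgroupOf K).relIndex (E.subgroupOf K) := by
    rw [← Subgroup.relIndex_top_right, ← h1, Subgroup.relIndex_sup_left]
  have h3 : (U.subgroupOf K).index ∣ Nat.card E := by
    rw [h2]
    have := Subgroup.relIndex_dvd_card (U.subgroupOf K) (E.subgroupOf K)
    rwa [Nat.card_congr (Subgroup.subgroupOfEquivOfLe hEK).toEquiv] at this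
  have h4 : Nat.card (U.subgroupOf K) * (U.subgroupOf K).index = Nat.card K :=
    Subgroup.card_mul_index _
  rw [Nat.card_congr (Subgroup.subgroupOfEquivOfLe hUK).toEquiv] at h4
  rw [← h4]
  exact Nat.mul_dvd_mul_left _ h3

section ZpZp

variable {p : ℕ} [hp : Fact p.Prime] (A : Subgroup X) (hAcard : Nat.card A = p ^ 2)

include hAcard

/-- two distinct subgroups of order `p` generate `A` -/
theorem sup_eq_of_ne {B B' : Subgroup X} (hB : B ≤ A) (hB' : B' ≤ A) (hcB : Nat.card B = p)
    (hcB' : Nat.card B' = p) (hne : B ≠ B') : B ⊔ B' = A := by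
  have hle : B ⊔ B' ≤ A := sup_le hB hB'
  have hdvd : Nat.card ↥(B ⊔ B') ∣ p ^ 2 := hAcard ▸ Subgroup.card_dvd_of_le hle
  obtain ⟨k, hk, hk2⟩ := (Nat.dvd_prime_pow hp.out).1 hdvd
  have hpd : p ∣ Nat.card ↥(B ⊔ B') := hcB ▸ Subgroup.card_dvd_of_le (le_sup_left : B ≤ B ⊔ B')
  have hk0 : k ≠ 0 := by
    rintro rfl
    rw [hk2, pow_zero] at hpd
    exact hp.out.one_lt.ne' (Nat.dvd_one.1 hpd)
  have hk1 : k ≠ 1 := by
    rintro rfl
    rw [pow_one] at hk2
    have e1 : B = B ⊔ B' := Subgroup.eq_of_le_of_card_ge le_sup_left (by rw [hk2, hcB])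
    have e2 : B' = B ⊔ B' := Subgroup.eq_of_le_of_card_ge le_sup_right (by rw [hk2, hcB'])
    exact hne (e1.trans e2.symm)
  have hk' : k = 2 := by omega
  subst hk'
  exact Subgroup.eq_of_le_of_card_ge hle (by rw [hk2, hAcard])

/-- an element centralizing two distinct subgroups of order `p` centralizes `A` -/
theorem mem_centralizer_of_two {B B' : Subgroup X} (hB : B ≤ A) (hB' : B' ≤ A) (hcB : Nat.card B = p)
    (hcB' : Nat.card B' = p) (hne : B ≠ B') {x : X} (hx : x ∈ Subgroup.centralizer (B : Set X))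
    (hx' : x ∈ Subgroup.centralizer (B' : Set X)) : x ∈ Subgroup.centralizer (A : Set X) := by
  have h1 : B ≤ Subgroup.centralizer ({x} : Set X) := by
    intro b hb
    rw [Subgroup.mem_centralizer_singleton_iff]
    exact (Subgroup.mem_centralizer_iff.1 hx b hb)
  have h2 : B' ≤ Subgroup.centralizer ({x} : Set X) := by
    intro b hb
    rw [Subgroup.mem_centralizer_singleton_iff]
    exact (Subgroup.mem_centralizer_iff.1 hx' b hb)
  have h3 : A ≤ Subgroup.centralizer ({x} : Set X) := by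
    rw [← sup_eq_of_ne A hAcard hB hB' hcB hcB' hne]
    exact sup_le h1 h2
  rw [Subgroup.mem_centralizer_iff]
  intro a ha
  have := h3 ha
  rw [Subgroup.mem_centralizer_singleton_iff] at this
  exact this

/-- fixed-point-freeness on the fixed points of another subgroup of order `p` -/
theorem inf_centralizer_eq_bot {S B B' : Subgroup X} (hS : S ⊓ Subgroup.centralizer (A : Set X) = ⊥)
    (hB : B ≤ A) (hB' : B' ≤ A) (hcB : Nat.card B = p) (hcB' : Nat.card B' = p) (hne : B ≠ B') :
    (S ⊓ Subgroup.centralizer (B : Set X)) ⊓ Subgroup.centralizer (B' : Set X) = ⊥ := by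
  rw [eq_bot_iff, ← hS]
  intro x hx
  exact ⟨hx.1.1, mem_centralizer_of_two A hAcard hB hB' hcB hcB' hne hx.1.2 hx.2⟩

/-- there is a subgroup of order `p` -/
theorem exists_card_eq : ∃ B : Subgroup X, B ≤ A ∧ Nat.card B = p := by
  have : p ^ 1 ∣ Nat.card A := by rw [hAcard]; exact pow_dvd_pow p (by norm_num)
  obtain ⟨K, hK⟩ := Sylow.exists_subgroup_card_pow_prime p this
  refine ⟨K.map A.subtype, Subgroup.map_subtype_le K, ?_⟩
  rw [Nat.card_congr (K.equivMapOfInjective A.subtype A.subtype_injective).symm.toEquiv, hK, pow_one]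

/-- generation by the fixed points of the subgroups of order `p` -/
theorem le_of_forall_fixed_le (hA : Cfsg.IsElementaryAbelian p A) (Y S : Subgroup X)
    (hY : ¬ p ∣ Nat.card Y) (hAY : A ≤ Subgroup.normalizer (Y : Set X))
    (h : ∀ B : Subgroup X, B ≤ A → Nat.card B = p → Y ⊓ Subgroup.centralizer (B : Set X) ≤ S) :
    Y ≤ S := by
  rw [Cfsg.Agent.H2.HyperGen.eq_hyperGen A Y hA hY hAY]
  unfold Cfsg.Agent.H2.HyperGen.hyperGen
  apply iSup_le
  rintro ⟨B, hBA, hidx⟩
  have h1 : Nat.card B * B.relIndex A = p ^ 2 := by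
    have := Subgroup.card_mul_index (B.subgroupOf A)
    rw [Nat.card_congr (Subgroup.subgroupOfEquivOfLe hBA).toEquiv, hAcard] at this
    exact this
  have hdvd : Nat.card B ∣ p ^ 2 := Dvd.intro _ h1
  obtain ⟨k, hk, hk2⟩ := (Nat.dvd_prime_pow hp.out).1 hdvd
  have hp1 : 1 < p := hp.out.one_lt
  interval_cases k
  · -- card B = 1: impossible since relIndex ≤ p
    exfalso
    rw [hk2, pow_zero, one_mul] at h1
    rw [h1] at hidx
    nlinarith
  · exact h B hBA (by rw [hk2, pow_one])
  · -- B = A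
    obtain ⟨B', hB'A, hB'⟩ := exists_card_eq A hAcard
    have hBeq : B = A := Subgroup.eq_of_le_of_card_ge hBA (by rw [hk2, hAcard])
    refine le_trans ?_ (h B' hB'A hB')
    refine inf_le_inf_left _ (Subgroup.centralizer_le ?_)
    show (B' : Set X) ⊆ (B : Set X)
    rw [hBeq]; exact hB'A

end ZpZp

/-- **the Frobenius tool**: `E` of prime order `p` acts fixed-point-freely on the `s`-group `U`;
if `U E` acts on the `r`-group `V'` and `C_{V'}(E) = 1` then `U` centralizes `V'`. -/
theorem frobenius_tool {p r s : ℕ} [Fact p.Prime] [Fact r.Prime] [Fact s.Prime] (hpr : p ≠ r) (hsr : s ≠ r)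
    (hps : p ≠ s) (V' U E : Subgroup X) (hE : Nat.card E = p) (hU : IsPGroup s U) (hV : IsPGroup r V')
    (hEU : E ≤ Subgroup.normalizer (U : Set X)) (hUV : U ≤ Subgroup.normalizer (V' : Set X))
    (hEV : E ≤ Subgroup.normalizer (V' : Set X))
    (hfpf : U ⊓ Subgroup.centralizer (E : Set X) = ⊥)
    (hC : V' ⊓ Subgroup.centralizer (E : Set X) = ⊥) : U ≤ Subgroup.centralizer (V' : Set X) := by
  classical
  have hp : p.Prime := Fact.out
  by_cases hU1 : U = ⊥
  · rw [hU1]; exact bot_le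
  have hE1 : E ≠ ⊥ := by
    intro h
    rw [h, Subgroup.card_bot] at hE
    exact hp.one_lt.ne hE
  obtain ⟨a, ha⟩ := IsPGroup.iff_card.1 hU
  obtain ⟨c, hc⟩ := IsPGroup.iff_card.1 hV
  have hsp : (s ^ a).Coprime p := Nat.Coprime.pow_left _ ((Nat.coprime_primes Fact.out hp).2 hps.symm)
  have hUE : U ⊓ E = ⊥ := by
    have h1 : Nat.card ↥(U ⊓ E) ∣ s ^ a := ha ▸ Subgroup.card_dvd_of_le inf_le_left
    have h2 : Nat.card ↥(U ⊓ E) ∣ p := hE ▸ Subgroup.card_dvd_of_le inf_le_right
    have h3 : Nat.card ↥(U ⊓ E) = 1 := Nat.eq_one_of_dvd_coprimes hsp h1 h2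
    exact Subgroup.card_eq_one.1 h3
  have hfix : ∀ e ∈ E, e ≠ 1 → ∀ u ∈ U, e * u = u * e → u = 1 := by
    intro e he hne u hu hcomm
    have hz : Subgroup.zpowers e = E := by
      have h1 : Subgroup.zpowers e ≤ E := by rw [Subgroup.zpowers_le]; exact he
      have h2 : Nat.card (Subgroup.zpowers e) ∣ p := hE ▸ Subgroup.card_dvd_of_le h1
      rcases (Nat.dvd_prime hp).1 h2 with h3 | h3
      · exfalso
        rw [Nat.card_zpowers] at h3
        exact hne (orderOf_eq_one_iff.1 h3)
      · exact Subgroup.eq_of_le_of_card_ge h1 (by rw [h3, hE])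
    have hu2 : u ∈ Subgroup.centralizer (E : Set X) := by
      rw [← hz, Subgroup.mem_centralizer_iff]
      intro x hx
      have hx' : x ∈ Subgroup.zpowers e := hx
      obtain ⟨k, rfl⟩ := Subgroup.mem_zpowers_iff.1 hx'
      exact ((Commute.zpow_left (show Commute e u from hcomm) k)).eq
    have hu' : u ∈ U ⊓ Subgroup.centralizer (E : Set X) := ⟨hu, hu2⟩
    rw [hfpf] at hu'
    exact Subgroup.mem_bot.1 hu'
  have hKV : U ⊔ E ≤ Subgroup.normalizer (V' : Set X) := sup_le hUV hEV
  have hsolv : Group.IsSolvable V' := by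
    have := hV.isNilpotent
    exact IsNilpotent.to_isSolvable
  have hcop : Nat.Coprime (Nat.card V') (Nat.card ↥(U ⊔ E)) := by
    have h1 := card_sup_dvd U E hEU
    rw [ha, hE] at h1
    rw [hc]
    refine Nat.Coprime.coprime_dvd_right h1 ?_
    refine Nat.Coprime.pow_left _ (Nat.Coprime.mul_right (Nat.Coprime.pow_right _ ?_) ?_)
    · exact (Nat.coprime_primes Fact.out Fact.out).2 hsr.symm
    · exact (Nat.coprime_primes Fact.out hp).2 hpr.symm
  have key := Cfsg.Agent.H1.FrobFix.frobenius_fix_internal U E V' hU1 hE1 hUE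
    (fun e he u hu => conj_mem_of_le_normalizer hEU he hu) hfix
    (fun x hx h hh => conj_mem_of_le_normalizer hKV hx hh) hsolv hcop
  have h1 : V' ⊓ Subgroup.centralizer ((U ⊔ E : Subgroup X) : Set X) = ⊥ := by
    rw [eq_bot_iff, ← hC]
    exact inf_le_inf_left _ (Subgroup.centralizer_le (show (E : Set X) ⊆ ((U ⊔ E : Subgroup X) : Set X) from
      fun x hx => (le_sup_right : E ≤ U ⊔ E) hx))
  rw [h1, hC, Subgroup.card_bot, one_pow, one_mul, one_mul] at key
  have h2 : V' ⊓ Subgroup.centralizer (U : Set X) = V' :=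
    Subgroup.eq_of_le_of_card_ge inf_le_left key.le
  have h3 : V' ≤ Subgroup.centralizer (U : Set X) := by
    rw [← h2]; exact inf_le_right
  exact Subgroup.le_centralizer_iff.1 h3

end Cfsg.Agent.Lib.Helper5.WardB
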