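import Mathlib
import Cfsg.Prelude.Def_Transfer
import Cfsg.Agent.Lib.Helper5.WardB

/-!
Ward's theorem (S3796), piece C (helper5): the configuration and the minimal configuration.
-/

set_option autoImplicit false
open scoped commutatorElement IsMulCommutative

namespace Cfsg.Agent.Lib.Helper5.WardC

open Cfsg.Agent.H2.Transitivity Cfsg.Agent.H2.CoprimeFactor Cfsg.Agent.Lib.Helper5.WardA
  Cfsg.Agent.Lib.Helper5.WardB

variable {X : Type*} [Group X] [Finite X]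

/-- the configuration: `A = Z_p × Z_p` acts on the `r`-group `V`, the `s`-group `Q` and the
`t`-group `R`; `Q R` acts on `V`, `R` acts on `Q`. -/
structure Cfg (p r s t : ℕ) (A V Q R : Subgroup X) : Prop where
  hA : Cfsg.IsElementaryAbelian p A
  hAcard : Nat.card A = p ^ 2
  hV : Cfsg.IsElementaryAbelian r V
  hQ : IsPGroup s Q
  hR : IsPGroup t R
  hQV : Q ≤ Subgroup.normalizer (V : Set X)
  hRV : R ≤ Subgroup.normalizer (V : Set X)
  hAV : A ≤ Subgroup.normalizer (V : Set X)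
  hRQ : R ≤ Subgroup.normalizer (Q : Set X)
  hAQ : A ≤ Subgroup.normalizer (Q : Set X)
  hAR : A ≤ Subgroup.normalizer (R : Set X)
  hfaith : Q ⊓ Subgroup.centralizer (V : Set X) = ⊥
  hCQ : Q ⊓ Subgroup.centralizer (A : Set X) = ⊥
  hCR : R ⊓ Subgroup.centralizer (A : Set X) = ⊥
  h1 : ∀ B : Subgroup X, B ≤ A → Nat.card B = p → ∀ q ∈ Q ⊓ Subgroup.centralizer (B : Set X),
    ∀ v ∈ V ⊓ Subgroup.centralizer (B : Set X), q * v = v * q
  h2 : ∀ B : Subgroup X, B ≤ A → Nat.card B = p → ∀ x ∈ R ⊓ Subgroup.centralizer (B : Set X),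
    ∀ q ∈ Q ⊓ Subgroup.centralizer (B : Set X), x * q = q * x

variable {p r s t : ℕ} {A V Q R : Subgroup X}

omit [Finite X] in
theorem Cfg.mono_R (h : Cfg p r s t A V Q R) (R' : Subgroup X) (hR' : R' ≤ R)
    (hAR' : A ≤ Subgroup.normalizer (R' : Set X)) : Cfg p r s t A V Q R' where
  hA := h.hA
  hAcard := h.hAcard
  hV := h.hV
  hQ := h.hQ
  hR := h.hR.to_le hR'
  hQV := h.hQV
  hRV := hR'.trans h.hRV
  hAV := h.hAV
  hRQ := hR'.trans h.hRQ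
  hAQ := h.hAQ
  hAR := hAR'
  hfaith := h.hfaith
  hCQ := h.hCQ
  hCR := by
    rw [eq_bot_iff, ← h.hCR]
    exact inf_le_inf_right _ hR'
  h1 := h.h1
  h2 := fun B hB hc x hx q hq => h.h2 B hB hc x ⟨hR' hx.1, hx.2⟩ q hq

omit [Finite X] in
theorem Cfg.mono_Q (h : Cfg p r s t A V Q R) (Q' : Subgroup X) (hQ' : Q' ≤ Q)
    (hRQ' : R ≤ Subgroup.normalizer (Q' : Set X)) (hAQ' : A ≤ Subgroup.normalizer (Q' : Set X)) :
    Cfg p r s t A V Q' R where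
  hA := h.hA
  hAcard := h.hAcard
  hV := h.hV
  hQ := h.hQ.to_le hQ'
  hR := h.hR
  hQV := hQ'.trans h.hQV
  hRV := h.hRV
  hAV := h.hAV
  hRQ := hRQ'
  hAQ := hAQ'
  hAR := h.hAR
  hfaith := by
    rw [eq_bot_iff, ← h.hfaith]
    exact inf_le_inf_right _ hQ'
  hCQ := by
    rw [eq_bot_iff, ← h.hCQ]
    exact inf_le_inf_right _ hQ'
  hCR := h.hCR
  h1 := fun B hB hc q hq v hv => h.h1 B hB hc q ⟨hQ' hq.1, hq.2⟩ v hv
  h2 := fun B hB hc x hx q hq => h.h2 B hB hc x hx q ⟨hQ' hq.1, hq.2⟩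

/-- the minimal configuration -/
structure MinCfg (p r s t : ℕ) (A V Q R : Subgroup X) : Prop extends Cfg p r s t A V Q R where
  hnc : ¬ R ≤ Subgroup.centralizer (Q : Set X)
  hRmin : ∀ R' : Subgroup X, R' < R → A ≤ Subgroup.normalizer (R' : Set X) →
    R' ≤ Subgroup.centralizer (Q : Set X)
  hQmin : ∀ U : Subgroup X, U < Q → R ⊔ A ≤ Subgroup.normalizer (U : Set X) →
    R ≤ Subgroup.centralizer (U : Set X)

/-- a counterexample contains a minimal configuration -/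
theorem exists_minCfg (h : Cfg p r s t A V Q R) (hnc : ¬ R ≤ Subgroup.centralizer (Q : Set X)) :
    ∃ Q' R' : Subgroup X, MinCfg p r s t A V Q' R' := by
  -- minimal `R`
  obtain ⟨R₀, ⟨hR₀R, hAR₀, hR₀nc⟩, hR₀min⟩ := wellFounded_lt.has_min
    {R' : Subgroup X | R' ≤ R ∧ A ≤ Subgroup.normalizer (R' : Set X) ∧
      ¬ R' ≤ Subgroup.centralizer (Q : Set X)} ⟨R, le_rfl, h.hAR, hnc⟩
  have h' : Cfg p r s t A V Q R₀ := h.mono_R R₀ hR₀R hAR₀
  -- minimal `Q`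
  obtain ⟨Q₀, ⟨hQ₀Q, hRAQ₀, hQ₀nc⟩, hQ₀min⟩ := wellFounded_lt.has_min
    {U : Subgroup X | U ≤ Q ∧ R₀ ⊔ A ≤ Subgroup.normalizer (U : Set X) ∧
      ¬ R₀ ≤ Subgroup.centralizer (U : Set X)} ⟨Q, le_rfl, sup_le h'.hRQ h'.hAQ, hR₀nc⟩
  have h'' : Cfg p r s t A V Q₀ R₀ :=
    h'.mono_Q Q₀ hQ₀Q (le_sup_left.trans hRAQ₀) (le_sup_right.trans hRAQ₀)
  refine ⟨Q₀, R₀, { toCfg := h'', hnc := hQ₀nc, hRmin := ?_, hQmin := ?_ }⟩
  · intro R' hR' hAR'
    by_contra hcon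
    have h3 : ¬ R' ≤ Subgroup.centralizer (Q : Set X) := by
      intro h4
      exact hcon (h4.trans (Subgroup.centralizer_le (show (Q₀ : Set X) ⊆ (Q : Set X) from hQ₀Q)))
    exact hR₀min R' ⟨hR'.le.trans hR₀R, hAR', h3⟩ hR'
  · intro U hU hRAU
    by_contra hcon
    exact hQ₀min U ⟨hU.le.trans hQ₀Q, hRAU, hcon⟩ hU

end Cfsg.Agent.Lib.Helper5.WardC
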