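import Mathlib
import Cfsg.Prelude.Def_Transfer
import Cfsg.Agent.H1.MinimalAction
import Cfsg.Agent.Lib.Helper5.WardC

/-!
Ward's theorem (S3796), piece D (helper5): first consequences of a minimal configuration.
-/

set_option autoImplicit false
set_option linter.unusedSectionVars false
set_option linter.style.haveILetI false
open scoped commutatorElement IsMulCommutative

namespace Cfsg.Agent.Lib.Helper5.WardD

open Cfsg.Agent.H2.Transitivity Cfsg.Agent.H2.CoprimeFactor Cfsg.Agent.Lib.Helper5.WardA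
  Cfsg.Agent.Lib.Helper5.WardB Cfsg.Agent.Lib.Helper5.WardC

variable {X : Type*} [Group X] [Finite X]

omit [Finite X] in
theorem isPGroup_of_elementary {r : ℕ} {V : Subgroup X} (hV : Cfsg.IsElementaryAbelian r V) :
    IsPGroup r V := by
  intro g
  refine ⟨1, ?_⟩
  rw [pow_one]
  exact Subtype.ext (by simpa using hV.2 g g.2)

omit [Finite X] in
theorem comm_of_elementary {r : ℕ} {V : Subgroup X} (hV : Cfsg.IsElementaryAbelian r V) {x y : X}
    (hx : x ∈ V) (hy : y ∈ V) : x * y = y * x := by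
  haveI := hV.1
  exact congrArg Subtype.val (mul_comm (⟨x, hx⟩ : V) ⟨y, hy⟩)

/-- an abelian group normalizing `Z` normalizes the fixed points in `Z` of each of its subgroups -/
theorem le_normalizer_inf_centralizer {A Z B : Subgroup X} (hcomm : ∀ x ∈ A, ∀ y ∈ A, x * y = y * x)
    (hZ : A ≤ Subgroup.normalizer (Z : Set X)) (hB : B ≤ A) :
    A ≤ Subgroup.normalizer ((Z ⊓ Subgroup.centralizer (B : Set X) : Subgroup X) : Set X) := by
  apply le_normalizer_of_conj_mem
  intro a ha u hu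
  refine ⟨conj_mem_of_le_normalizer hZ ha hu.1, ?_⟩
  show a * u * a⁻¹ ∈ Subgroup.centralizer (B : Set X)
  rw [Subgroup.mem_centralizer_iff]
  intro b hb
  have hab : a * b = b * a := hcomm a ha b (hB hb)
  have hub : b * u = u * b := Subgroup.mem_centralizer_iff.1 hu.2 b hb
  have hb' : a⁻¹ * b * a = b := by
    rw [mul_assoc, ← hab, ← mul_assoc, inv_mul_cancel, one_mul]
  have e1 : b * (a * u * a⁻¹) = a * ((a⁻¹ * b * a) * u) * a⁻¹ := by group
  have e2 : a * u * a⁻¹ * b = a * (u * (a⁻¹ * b * a)) * a⁻¹ := by group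
  rw [e1, e2, hb', hub]

section Min

variable {p r s t : ℕ} [hp : Fact p.Prime] [hr : Fact r.Prime] [hs : Fact s.Prime] [ht : Fact t.Prime]
  {A V Q R : Subgroup X}

theorem cfg_commA (h : Cfg p r s t A V Q R) : ∀ x ∈ A, ∀ y ∈ A, x * y = y * x :=
  fun _ hx _ hy => comm_of_elementary h.hA hx hy

/-- `p` does not divide the order of a `t`-group, `t ≠ p` -/
theorem not_dvd_card_of_isPGroup {t : ℕ} [Fact t.Prime] (hpt : p ≠ t) {R : Subgroup X} (hR : IsPGroup t R) :
    ¬ p ∣ Nat.card R := by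
  obtain ⟨k, hk⟩ := IsPGroup.iff_card.1 hR
  rw [hk]
  intro hd
  exact hpt ((Nat.prime_dvd_prime_iff_eq hp.out Fact.out).1 (hp.out.dvd_of_dvd_pow hd))

/-- Hall–Higman reduction for the minimal `Q` -/
theorem minCfg_structure (h : MinCfg p r s t A V Q R) (hts : t ≠ s) :
    ⁅Q, R⁆ = Q ∧ ∀ U : Subgroup X, (frattini ↥Q).map Q.subtype ≤ U → U ≤ Q →
      R ⊔ A ≤ Subgroup.normalizer (U : Set X) → U = (frattini ↥Q).map Q.subtype ∨ U = Q := by
  have hcop : (Nat.card R).Coprime s := by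
    obtain ⟨k, hk⟩ := IsPGroup.iff_card.1 h.hR
    rw [hk]
    exact Nat.Coprime.pow_left _ ((Nat.coprime_primes ht.out hs.out).2 hts)
  have hnt : ⁅Q, R⁆ ≠ ⊥ := by
    intro h0
    rw [Subgroup.commutator_eq_bot_iff_le_centralizer] at h0
    exact h.hnc (Subgroup.le_centralizer_iff.1 h0)
  have hmin : ∀ U : Subgroup X, U < Q → R ⊔ A ≤ Subgroup.normalizer (U : Set X) → ⁅U, R⁆ = ⊥ := by
    intro U hU hn
    rw [Subgroup.commutator_eq_bot_iff_le_centralizer]
    exact Subgroup.le_centralizer_iff.1 (h.hQmin U hU hn)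
  have key := Cfsg.Agent.H1.minimal_action_structure (p := s) (R ⊔ A) R Q h.hQ (sup_le h.hRQ h.hAQ)
    le_sup_left (sup_le Subgroup.le_normalizer h.hAR) hcop hnt hmin
  exact ⟨key.1, key.2.2.1⟩

/-- `R` is centralized by a subgroup `B₁` of order `p` -/
theorem minCfg_exists_B1 (h : MinCfg p r s t A V Q R) (hpt : p ≠ t) :
    ∃ B₁ : Subgroup X, B₁ ≤ A ∧ Nat.card B₁ = p ∧ R ≤ Subgroup.centralizer (B₁ : Set X) := by
  by_contra hcon
  push Not at hcon
  apply h.hnc
  refine le_of_forall_fixed_le A h.hAcard h.hA R _ (not_dvd_card_of_isPGroup hpt h.hR) h.hAR ?_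
  intro B hB hc
  refine h.hRmin _ (lt_of_le_of_ne inf_le_left ?_) (le_normalizer_inf_centralizer (cfg_commA h.toCfg) h.hAR hB)
  intro e
  exact hcon B hB hc (e ▸ inf_le_right)

/-- the other subgroups of order `p` act fixed-point-freely on `R` -/
theorem minCfg_R_fpf (h : MinCfg p r s t A V Q R) {B₁ B : Subgroup X} (hB₁ : B₁ ≤ A)
    (hc₁ : Nat.card B₁ = p) (hR₁ : R ≤ Subgroup.centralizer (B₁ : Set X)) (hB : B ≤ A)
    (hc : Nat.card B = p) (hne : B ≠ B₁) : R ⊓ Subgroup.centralizer (B : Set X) = ⊥ := by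
  have := inf_centralizer_eq_bot A h.hAcard h.hCR hB₁ hB hc₁ hc hne.symm
  rwa [inf_eq_left.2 hR₁] at this

/-- distinct subgroups of order `p` have no common fixed point on `Q` -/
theorem cfg_Q_fpf (h : Cfg p r s t A V Q R) {B B' : Subgroup X} (hB : B ≤ A) (hc : Nat.card B = p)
    (hB' : B' ≤ A) (hc' : Nat.card B' = p) (hne : B ≠ B') :
    (Q ⊓ Subgroup.centralizer (B : Set X)) ⊓ Subgroup.centralizer (B' : Set X) = ⊥ :=
  inf_centralizer_eq_bot A h.hAcard h.hCQ hB hB' hc hc' hne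

/-- `R` centralizes the fixed points of `B₁` on `Q` -/
theorem minCfg_R_centralizes (h : MinCfg p r s t A V Q R) {B₁ : Subgroup X} (hB₁ : B₁ ≤ A)
    (hc₁ : Nat.card B₁ = p) (hR₁ : R ≤ Subgroup.centralizer (B₁ : Set X)) :
    R ≤ Subgroup.centralizer ((Q ⊓ Subgroup.centralizer (B₁ : Set X) : Subgroup X) : Set X) := by
  intro x hx
  rw [Subgroup.mem_centralizer_iff]
  intro q hq
  exact (h.h2 B₁ hB₁ hc₁ x ⟨hx, hR₁ hx⟩ q hq).symm

end Min

end Cfsg.Agent.Lib.Helper5.WardD
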