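import Mathlib
import Cfsg.Prelude.Def_Transfer
import Cfsg.Agent.Lib.Helper5.WardD

/-!
Ward's theorem (S3796), piece E (helper5): the "special" endgame.  In a minimal configuration `Q` is
abelian with trivial Frattini subgroup.
-/

set_option autoImplicit false
set_option linter.unusedSectionVars false
set_option linter.style.haveILetI false
open scoped commutatorElement IsMulCommutative

namespace Cfsg.Agent.Lib.Helper5.WardE

open Cfsg.Agent.H2.Transitivity Cfsg.Agent.H2.CoprimeFactor Cfsg.Agent.Lib.Helper5.WardA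
  Cfsg.Agent.Lib.Helper5.WardB Cfsg.Agent.Lib.Helper5.WardC Cfsg.Agent.Lib.Helper5.WardD

variable {X : Type*} [Group X] [Finite X]

/-- a group normalizing `V'` normalizes its centralizer -/
theorem le_normalizer_centralizer {G V' : Subgroup X} (h : G ≤ Subgroup.normalizer (V' : Set X)) :
    G ≤ Subgroup.normalizer ((Subgroup.centralizer (V' : Set X) : Subgroup X) : Set X) := by
  apply le_normalizer_of_conj_mem
  intro g hg x hx
  rw [Subgroup.mem_centralizer_iff] at hx ⊢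
  intro v hv
  have hv' : g⁻¹ * v * g⁻¹⁻¹ ∈ V' := conj_mem_of_le_normalizer h (G.inv_mem hg) hv
  have h1 := hx _ hv'
  have e1 : v * (g * x * g⁻¹) = g * ((g⁻¹ * v * g⁻¹⁻¹) * x) * g⁻¹ := by group
  have e2 : g * x * g⁻¹ * v = g * (x * (g⁻¹ * v * g⁻¹⁻¹)) * g⁻¹ := by group
  rw [e1, e2, h1]

theorem le_normalizer_inf' {G Y C : Subgroup X} (hY : G ≤ Subgroup.normalizer (Y : Set X))
    (hC : G ≤ Subgroup.normalizer (C : Set X)) :
    G ≤ Subgroup.normalizer ((Y ⊓ C : Subgroup X) : Set X) := by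
  apply le_normalizer_of_conj_mem
  intro g hg x hx
  exact ⟨conj_mem_of_le_normalizer hY hg hx.1, conj_mem_of_le_normalizer hC hg hx.2⟩

/-- a nontrivial element of a group of prime order: commuting with it means centralizing the group -/
theorem mem_centralizer_of_prime {p : ℕ} [hp : Fact p.Prime] {E : Subgroup X} (hE : Nat.card E = p)
    {e : X} (he : e ∈ E) (hne : e ≠ 1) {u : X} (hcomm : e * u = u * e) :
    u ∈ Subgroup.centralizer (E : Set X) := by
  have hz : Subgroup.zpowers e = E := by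
    have h1 : Subgroup.zpowers e ≤ E := by rw [Subgroup.zpowers_le]; exact he
    have h2 : Nat.card (Subgroup.zpowers e) ∣ p := hE ▸ Subgroup.card_dvd_of_le h1
    rcases (Nat.dvd_prime hp.out).1 h2 with h3 | h3
    · exfalso
      rw [Nat.card_zpowers] at h3
      exact hne (orderOf_eq_one_iff.1 h3)
    · exact Subgroup.eq_of_le_of_card_ge h1 (by rw [h3, hE])
  rw [← hz, Subgroup.mem_centralizer_iff]
  intro x hx
  have hx' : x ∈ Subgroup.zpowers e := hx
  obtain ⟨k, rfl⟩ := Subgroup.mem_zpowers_iff.1 hx'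
  exact ((Commute.zpow_left (show Commute e u from hcomm) k)).eq

theorem exists_ne_one_of_card_prime {p : ℕ} [hp : Fact p.Prime] {E : Subgroup X} (hE : Nat.card E = p) :
    ∃ e ∈ E, e ≠ 1 := by
  have hne : E ≠ ⊥ := by
    intro h
    rw [h, Subgroup.card_bot] at hE
    exact hp.out.one_lt.ne hE
  obtain ⟨⟨e, he⟩, h1⟩ := Subgroup.ne_bot_iff_exists_ne_one.1 hne
  exact ⟨e, he, fun h => h1 (Subtype.ext h)⟩

section Min

variable {p r s t : ℕ} [hp : Fact p.Prime] [hr : Fact r.Prime] [hs : Fact s.Prime] [ht : Fact t.Prime]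
  {A V Q R : Subgroup X}

/-- `H ⊔ Φ(Q) = Q` forces `H = Q` -/
theorem eq_of_sup_frattini {Q H : Subgroup X} (hH : H ≤ Q)
    (h : H ⊔ (frattini ↥Q).map Q.subtype = Q) : H = Q := by
  have hΦ : (frattini ↥Q).map Q.subtype ≤ Q := Subgroup.map_subtype_le _
  have h1 : H.subgroupOf Q ⊔ frattini ↥Q = ⊤ := by
    have h2 : ((frattini ↥Q).map Q.subtype).subgroupOf Q = frattini ↥Q :=
      Subgroup.comap_map_eq_self_of_injective Q.subtype_injective _
    rw [← h2, ← Subgroup.subgroupOf_sup hH hΦ, h, Subgroup.subgroupOf_self]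
  have h3 := frattini_nongenerating h1
  exact le_antisymm hH (Subgroup.subgroupOf_eq_top.1 h3)

/-- **Case S**: there is no `Q R A`-invariant subgroup `V'` of `V` on which some `B₀` is fixed-point-free
and `Q` acts nontrivially. -/
theorem caseS (h : MinCfg p r s t A V Q R) (hsr : s ≠ r) (hts : t ≠ s) (hpr : p ≠ r) (hps : p ≠ s)
    (hpt : p ≠ t) (V' B₀ : Subgroup X) (hV'V : V' ≤ V) (hQV' : Q ≤ Subgroup.normalizer (V' : Set X))
    (hRV' : R ≤ Subgroup.normalizer (V' : Set X)) (hAV' : A ≤ Subgroup.normalizer (V' : Set X))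
    (hB₀ : B₀ ≤ A) (hc₀ : Nat.card B₀ = p) (hfix : V' ⊓ Subgroup.centralizer (B₀ : Set X) = ⊥)
    (hnc' : ¬ Q ≤ Subgroup.centralizer (V' : Set X)) : False := by
  have hcommA := cfg_commA h.toCfg
  obtain ⟨hQR, hsand⟩ := minCfg_structure h hts
  set Φ : Subgroup X := (frattini ↥Q).map Q.subtype with hΦdef
  have hΦQ : Φ ≤ Q := Subgroup.map_subtype_le _
  set K' : Subgroup X := Q ⊓ Subgroup.centralizer (V' : Set X) with hK'
  -- (1) the fixed points of the other `B` lie in `K'`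
  have h1 : ∀ B : Subgroup X, B ≤ A → Nat.card B = p → B ≠ B₀ →
      Q ⊓ Subgroup.centralizer (B : Set X) ≤ K' := by
    intro B hB hc hne
    refine le_inf inf_le_left ?_
    refine frobenius_tool hpr hsr hps V' _ B₀ hc₀ (h.hQ.to_le inf_le_left)
      ((isPGroup_of_elementary h.hV).to_le hV'V)
      (hB₀.trans (le_normalizer_inf_centralizer hcommA h.hAQ hB))
      (inf_le_left.trans hQV') (hB₀.trans hAV') (cfg_Q_fpf h.toCfg hB hc hB₀ hc₀ hne) hfix
  -- (2) `K'` is `R A`-invariant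
  have hK'n : R ⊔ A ≤ Subgroup.normalizer (K' : Set X) :=
    le_normalizer_inf' (sup_le h.hRQ h.hAQ) (le_normalizer_centralizer (sup_le hRV' hAV'))
  have hΦn : R ⊔ A ≤ Subgroup.normalizer (Φ : Set X) :=
    (sup_le h.hRQ h.hAQ).trans (Cfsg.Agent.H1.normalizer_le_normalizer_map_of_characteristic Q (frattini ↥Q))
  -- (3) `K' ≤ Φ`
  have hK'Φ : K' ≤ Φ := by
    rcases hsand (K' ⊔ Φ) le_sup_right (sup_le inf_le_left hΦQ) (normalizer_sup hK'n hΦn) with h3 | h3
    · rw [← h3]; exact le_sup_left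
    · exfalso
      have h4 : K' = Q := eq_of_sup_frattini inf_le_left h3
      apply hnc'
      rw [← h4]; exact inf_le_right
  -- (4) `B₀` centralizes `Q`
  have hQB₀ : Q ≤ Subgroup.centralizer (B₀ : Set X) := by
    have h5 : (Q ⊓ Subgroup.centralizer (B₀ : Set X)) ⊔ Φ = Q := by
      apply le_antisymm (sup_le inf_le_left hΦQ)
      refine le_of_forall_fixed_le A h.hAcard h.hA Q _ (not_dvd_card_of_isPGroup hps h.hQ) h.hAQ ?_
      intro B hB hc
      by_cases hne : B = B₀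
      · rw [hne]; exact le_sup_left
      · exact ((h1 B hB hc hne).trans hK'Φ).trans le_sup_right
    have h6 := eq_of_sup_frattini inf_le_left h5
    rw [← h6]; exact inf_le_right
  -- (5) the contradiction
  obtain ⟨B₁, hB₁, hc₁, hR₁⟩ := minCfg_exists_B1 h hpt
  by_cases hne : B₀ = B₁
  · apply h.hnc
    have h7 := minCfg_R_centralizes h hB₁ hc₁ hR₁
    rwa [← hne, inf_eq_left.2 hQB₀] at h7
  · have hRf : R ⊓ Subgroup.centralizer (B₀ : Set X) = ⊥ := minCfg_R_fpf h hB₁ hc₁ hR₁ hB₀ hc₀ hne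
    obtain ⟨b, hb, hb1⟩ := exists_ne_one_of_card_prime hc₀
    apply h.hnc
    intro x hx
    obtain ⟨y, hy, rfl⟩ := exists_comm_eq R b
      (fun y hy => conj_mem_of_le_normalizer h.hAR (hB₀ hb) hy)
      (fun y hy hcomm => by
        have : y ∈ R ⊓ Subgroup.centralizer (B₀ : Set X) :=
          ⟨hy, mem_centralizer_of_prime hc₀ hb hb1 hcomm⟩
        rw [hRf] at this
        exact Subgroup.mem_bot.1 this) x hx
    rw [Subgroup.mem_centralizer_iff]
    intro q hq
    -- `b` centralizes `Q`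
    have hbq : ∀ q' ∈ Q, b * q' = q' * b := by
      intro q' hq'
      exact (Subgroup.mem_centralizer_iff.1 (hQB₀ hq') b hb)
    have hq1 : y * q * y⁻¹ ∈ Q := conj_mem_of_le_normalizer h.hRQ hy hq
    have hq2 : y⁻¹ * q * y⁻¹⁻¹ ∈ Q := conj_mem_of_le_normalizer h.hRQ (R.inv_mem hy) hq
    -- conjugating by `b y b⁻¹` is conjugating by `y` on `Q`
    have e1 : b * y * b⁻¹ * q = y * q * y⁻¹ * (b * y * b⁻¹) := by
      have h8 : b⁻¹ * q * b = q := by
        rw [mul_assoc, ← hbq q hq, ← mul_assoc, inv_mul_cancel, one_mul]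
      have h9 : b * (y * q * y⁻¹) * b⁻¹ = y * q * y⁻¹ := by
        rw [hbq _ hq1, mul_assoc, mul_inv_cancel, mul_one]
      calc b * y * b⁻¹ * q = b * (y * (b⁻¹ * q * b) * y⁻¹) * b⁻¹ * (b * y * b⁻¹) := by group
        _ = b * (y * q * y⁻¹) * b⁻¹ * (b * y * b⁻¹) := by rw [h8]
        _ = y * q * y⁻¹ * (b * y * b⁻¹) := by rw [h9]
    calc q * (y⁻¹ * (b * y * b⁻¹)) = y⁻¹ * ((y * q * y⁻¹) * (b * y * b⁻¹)) := by group
      _ = y⁻¹ * (b * y * b⁻¹ * q) := by rw [e1]
      _ = y⁻¹ * (b * y * b⁻¹) * q := by group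

end Min

end Cfsg.Agent.Lib.Helper5.WardE
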