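import Mathlib
import Cfsg.Prelude.Def_Transfer
import Cfsg.Agent.Lib.Helper5.WardE

/-!
Ward's theorem (S3796), piece F (helper5): in a minimal configuration `Q` is abelian, has trivial
Frattini subgroup, and `R A` acts irreducibly on it.
-/

set_option autoImplicit false
set_option linter.unusedSectionVars false
set_option linter.style.haveILetI false
open scoped commutatorElement IsMulCommutative

namespace Cfsg.Agent.Lib.Helper5.WardF

open Cfsg.Agent.H2.Transitivity Cfsg.Agent.H2.CoprimeFactor Cfsg.Agent.Lib.Helper5.WardA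
  Cfsg.Agent.Lib.Helper5.WardB Cfsg.Agent.Lib.Helper5.WardC Cfsg.Agent.Lib.Helper5.WardD
  Cfsg.Agent.Lib.Helper5.WardE

variable {X : Type*} [Group X] [Finite X]

/-- groups of prime power order for different primes have coprime orders -/
theorem coprime_card_of_isPGroup {a b : ℕ} [ha : Fact a.Prime] [hb : Fact b.Prime] (hab : a ≠ b)
    {H K : Subgroup X} (hH : IsPGroup a H) (hK : IsPGroup b K) :
    (Nat.card H).Coprime (Nat.card K) := by
  obtain ⟨k, hk⟩ := IsPGroup.iff_card.1 hH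
  obtain ⟨l, hl⟩ := IsPGroup.iff_card.1 hK
  rw [hk, hl]
  exact Nat.Coprime.pow _ _ ((Nat.coprime_primes ha.out hb.out).2 hab)

omit [Finite X] in
theorem isPGroup_of_card_eq {p : ℕ} [Fact p.Prime] {B : Subgroup X} (hc : Nat.card B = p) :
    IsPGroup p B := IsPGroup.of_card (n := 1) (by rw [hc, pow_one])

variable {p r s t : ℕ} [hp : Fact p.Prime] [hr : Fact r.Prime] [hs : Fact s.Prime] [ht : Fact t.Prime]
  {A V Q R : Subgroup X}

omit [Finite X] in
theorem minCfg_Q_ne_bot (h : MinCfg p r s t A V Q R) : Q ≠ ⊥ := by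
  intro hQ0
  apply h.hnc
  intro x _
  rw [Subgroup.mem_centralizer_iff]
  intro q hq
  have hq' : q ∈ Q := hq
  rw [hQ0] at hq'
  rw [Subgroup.mem_bot.1 hq']
  simp

/-- a proper nontrivial `R A`-invariant subgroup of `Q` centralized by `Q` cannot exist -/
theorem caseS_apply (h : MinCfg p r s t A V Q R) (hsr : s ≠ r) (hts : t ≠ s) (hpr : p ≠ r) (hps : p ≠ s)
    (hpt : p ≠ t) (Y : Subgroup X) (hYQ : Y ≤ Q) (hYne : Y ≠ ⊥) (hYlt : Y ≠ Q)
    (hYn : R ⊔ A ≤ Subgroup.normalizer (Y : Set X))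
    (hQY : Q ≤ Subgroup.centralizer (Y : Set X)) : False := by
  haveI : IsMulCommutative V := h.hV.1
  have hcommA := cfg_commA h.toCfg
  have hRY : R ≤ Subgroup.centralizer (Y : Set X) := h.hQmin Y (lt_of_le_of_ne hYQ hYlt) hYn
  -- some `B₀` has fixed points on `Y`
  obtain ⟨B₀, hB₀, hc₀, hY₀⟩ : ∃ B₀ : Subgroup X, B₀ ≤ A ∧ Nat.card B₀ = p ∧
      Y ⊓ Subgroup.centralizer (B₀ : Set X) ≠ ⊥ := by
    by_contra hcon
    push Not at hcon
    apply hYne
    rw [eq_bot_iff]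
    exact le_of_forall_fixed_le A h.hAcard h.hA Y ⊥ (not_dvd_card_of_isPGroup hps (h.hQ.to_le hYQ))
      (le_sup_right.trans hYn) (fun B hB hc => (hcon B hB hc).le)
  set Y₀ : Subgroup X := Y ⊓ Subgroup.centralizer (B₀ : Set X) with hY₀def
  have hY₀Y : Y₀ ≤ Y := inf_le_left
  have hY₀Q : Y₀ ≤ Q := hY₀Y.trans hYQ
  have hY₀V : Y₀ ≤ Subgroup.normalizer (V : Set X) := hY₀Q.trans h.hQV
  have hcY : Subgroup.centralizer (Y : Set X) ≤ Subgroup.normalizer (Y₀ : Set X) :=
    (Subgroup.centralizer_le (show (Y₀ : Set X) ⊆ (Y : Set X) from hY₀Y)).trans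
      (Subgroup.centralizer_le_normalizer _)
  have hQY₀ : Q ≤ Subgroup.normalizer (Y₀ : Set X) := hQY.trans hcY
  have hRY₀ : R ≤ Subgroup.normalizer (Y₀ : Set X) := hRY.trans hcY
  have hAY₀ : A ≤ Subgroup.normalizer (Y₀ : Set X) :=
    le_normalizer_inf_centralizer hcommA (le_sup_right.trans hYn) hB₀
  have hcopB : (Nat.card B₀).Coprime (Nat.card V) :=
    coprime_card_of_isPGroup hpr (isPGroup_of_card_eq hc₀) (isPGroup_of_elementary h.hV)
  have hcopY : (Nat.card Y₀).Coprime (Nat.card V) :=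
    coprime_card_of_isPGroup hsr (h.hQ.to_le hY₀Q) (isPGroup_of_elementary h.hV)
  refine caseS h hsr hts hpr hps hpt ⁅V, Y₀⁆ B₀ (commutator_le_left V Y₀ hY₀V)
    (normalizer_commutator h.hQV hQY₀) (normalizer_commutator h.hRV hRY₀)
    (normalizer_commutator h.hAV hAY₀) hB₀ hc₀ ?_ ?_
  · rw [eq_bot_iff, ← commutator_inf_centralizer V B₀ (hB₀.trans h.hAV) hcopB]
    refine inf_le_inf_right _
      (commutator_le_commutator V B₀ Y₀ (hB₀.trans h.hAV) hcopB hY₀V inf_le_right ?_)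
    intro y hy v hv
    exact h.h1 B₀ hB₀ hc₀ y ⟨hYQ hy.1, hy.2⟩ v hv
  · intro hcon
    apply hY₀
    have h1 : ⁅V, Y₀⁆ ≤ Subgroup.centralizer (Y₀ : Set X) :=
      Subgroup.le_centralizer_iff.1 (hY₀Q.trans hcon)
    have h2 := commutator_eq_bot_of_le_centralizer V Y₀ hY₀V hcopY h1
    rw [Subgroup.commutator_eq_bot_iff_le_centralizer] at h2
    rw [eq_bot_iff, ← h.hfaith]
    exact le_inf hY₀Q (Subgroup.le_centralizer_iff.1 h2)

/-- `Q` is abelian -/
theorem minCfg_abelian (h : MinCfg p r s t A V Q R) (hsr : s ≠ r) (hts : t ≠ s) (hpr : p ≠ r)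
    (hps : p ≠ s) (hpt : p ≠ t) : ∀ x ∈ Q, ∀ y ∈ Q, x * y = y * x := by
  by_contra hcon
  have hn : R ⊔ A ≤ Subgroup.normalizer (Q : Set X) := sup_le h.hRQ h.hAQ
  refine caseS_apply h hsr hts hpr hps hpt (Q ⊓ Subgroup.centralizer (Q : Set X)) inf_le_left ?_ ?_
    (le_normalizer_inf' hn (le_normalizer_centralizer hn)) (Subgroup.le_centralizer_iff.1 inf_le_right)
  · haveI : Nontrivial ↥Q := (Subgroup.nontrivial_iff_ne_bot Q).2 (minCfg_Q_ne_bot h)
    haveI : Nontrivial (Subgroup.center ↥Q) := h.hQ.center_nontrivial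
    obtain ⟨⟨z, hz⟩, hz1⟩ := exists_ne (1 : Subgroup.center ↥Q)
    intro hY0
    apply hz1
    have hzc : (z : X) ∈ Q ⊓ Subgroup.centralizer (Q : Set X) := by
      refine ⟨z.2, ?_⟩
      show (z : X) ∈ Subgroup.centralizer (Q : Set X)
      rw [Subgroup.mem_centralizer_iff]
      intro q hq
      have := Subgroup.mem_center_iff.1 hz ⟨q, hq⟩
      exact congrArg Subtype.val this
    rw [hY0] at hzc
    apply Subtype.ext
    apply Subtype.ext
    exact Subgroup.mem_bot.1 hzc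
  · intro hYQ'
    apply hcon
    intro x hx y hy
    have hx' : x ∈ Q ⊓ Subgroup.centralizer (Q : Set X) := by rw [hYQ']; exact hx
    exact (Subgroup.mem_centralizer_iff.1 hx'.2 y hy).symm

/-- `Φ(Q) = 1` -/
theorem minCfg_frattini (h : MinCfg p r s t A V Q R) (hsr : s ≠ r) (hts : t ≠ s) (hpr : p ≠ r)
    (hps : p ≠ s) (hpt : p ≠ t) : (frattini ↥Q).map Q.subtype = ⊥ := by
  by_contra hΦ
  have hab := minCfg_abelian h hsr hts hpr hps hpt
  have hΦQ : (frattini ↥Q).map Q.subtype ≤ Q := Subgroup.map_subtype_le _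
  have hΦn : R ⊔ A ≤ Subgroup.normalizer (((frattini ↥Q).map Q.subtype : Subgroup X) : Set X) :=
    (sup_le h.hRQ h.hAQ).trans
      (Cfsg.Agent.H1.normalizer_le_normalizer_map_of_characteristic Q (frattini ↥Q))
  refine caseS_apply h hsr hts hpr hps hpt _ hΦQ hΦ ?_ hΦn ?_
  · intro hΦeq
    have : (⊥ : Subgroup X) = Q := eq_of_sup_frattini bot_le (by rw [bot_sup_eq]; exact hΦeq)
    exact minCfg_Q_ne_bot h this.symm
  · intro q hq
    rw [Subgroup.mem_centralizer_iff]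
    intro y hy
    exact hab y (hΦQ hy) q hq

/-- `R A` acts irreducibly on `Q` -/
theorem minCfg_irred (h : MinCfg p r s t A V Q R) (hsr : s ≠ r) (hts : t ≠ s) (hpr : p ≠ r)
    (hps : p ≠ s) (hpt : p ≠ t) (U : Subgroup X) (hUQ : U ≤ Q)
    (hUn : R ⊔ A ≤ Subgroup.normalizer (U : Set X)) : U = ⊥ ∨ U = Q := by
  have hΦ := minCfg_frattini h hsr hts hpr hps hpt
  rcases (minCfg_structure h hts).2 U (by rw [hΦ]; exact bot_le) hUQ hUn with h1 | h1
  · left; rw [h1, hΦ]
  · right; exact h1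

end Cfsg.Agent.Lib.Helper5.WardF
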