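import Mathlib
import Cfsg.Prelude.Def_Transfer
import Cfsg.Agent.Lib.Helper5.WardF

/-!
Ward's theorem (S3796), piece G (helper5): the abelian endgame, part 1.
-/

set_option autoImplicit false
set_option linter.unusedSectionVars false
set_option linter.style.haveILetI false
open scoped commutatorElement IsMulCommutative

namespace Cfsg.Agent.Lib.Helper5.WardG

open Cfsg.Agent.H2.Transitivity Cfsg.Agent.H2.CoprimeFactor Cfsg.Agent.Lib.Helper5.WardA
  Cfsg.Agent.Lib.Helper5.WardB Cfsg.Agent.Lib.Helper5.WardC Cfsg.Agent.Lib.Helper5.WardD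
  Cfsg.Agent.Lib.Helper5.WardE Cfsg.Agent.Lib.Helper5.WardF

variable {X : Type*} [Group X] [Finite X]

theorem zpowers_eq_of_card_prime {p : ℕ} [hp : Fact p.Prime] {E : Subgroup X} (hE : Nat.card E = p)
    {e : X} (he : e ∈ E) (hne : e ≠ 1) : Subgroup.zpowers e = E := by
  have h1 : Subgroup.zpowers e ≤ E := by rw [Subgroup.zpowers_le]; exact he
  have h2 : Nat.card (Subgroup.zpowers e) ∣ p := hE ▸ Subgroup.card_dvd_of_le h1
  rcases (Nat.dvd_prime hp.out).1 h2 with h3 | h3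
  · exfalso
    rw [Nat.card_zpowers] at h3
    exact hne (orderOf_eq_one_iff.1 h3)
  · exact Subgroup.eq_of_le_of_card_ge h1 (by rw [h3, hE])

/-- at most `p + 1` subgroups of order `p` in a group of order `p ^ 2` -/
theorem card_le_of_injective {p : ℕ} [hp : Fact p.Prime] (A : Subgroup X) (hAcard : Nat.card A = p ^ 2)
    {ι : Type*} [Finite ι] (f : ι → Subgroup X) (hf : Function.Injective f) (hfA : ∀ i, f i ≤ A)
    (hfc : ∀ i, Nat.card (f i) = p) : Nat.card ι ≤ p + 1 := by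
  classical
  haveI : Fintype ι := Fintype.ofFinite ι
  have hp2 : 2 ≤ p := hp.out.two_le
  have h1 : ∀ i, ((f i : Set X) \ {1}).ncard = p - 1 := by
    intro i
    rw [Set.ncard_sdiff_singleton_of_mem (show (1 : X) ∈ (f i : Set X) from (f i).one_mem)]
    have : ((f i : Set X)).ncard = Nat.card (f i) := (Nat.card_coe_set_eq (f i : Set X)).symm
    rw [this, hfc i]
  have h2 : Pairwise (Function.onFun Disjoint fun i => ((f i : Set X) \ {1})) := by
    intro i j hij
    show Disjoint ((f i : Set X) \ {1}) ((f j : Set X) \ {1})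
    rw [Set.disjoint_left]
    rintro b ⟨hbi, hb1⟩ ⟨hbj, -⟩
    have hb1' : b ≠ 1 := fun h => hb1 (by simp [h])
    apply hij
    apply hf
    rw [← zpowers_eq_of_card_prime (hfc i) hbi hb1', ← zpowers_eq_of_card_prime (hfc j) hbj hb1']
  have h3 := Set.ncard_iUnion_of_finite (s := fun i => ((f i : Set X) \ {1}))
    (fun i => Set.toFinite _) h2
  rw [finsum_eq_sum_of_fintype] at h3
  simp only [h1, Finset.sum_const, Finset.card_univ, smul_eq_mul] at h3
  have h4 : (⋃ i, ((f i : Set X) \ {1})) ⊆ (A : Set X) \ {1} := by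
    intro x hx
    obtain ⟨i, hi⟩ := Set.mem_iUnion.1 hx
    exact ⟨hfA i hi.1, hi.2⟩
  have h5 := Set.ncard_le_ncard h4 (Set.toFinite _)
  rw [h3, Set.ncard_sdiff_singleton_of_mem (show (1 : X) ∈ (A : Set X) from A.one_mem)] at h5
  have h6 : ((A : Set X)).ncard = Nat.card A := (Nat.card_coe_set_eq (A : Set X)).symm
  rw [h6, hAcard, ← Nat.card_eq_fintype_card] at h5
  obtain ⟨m, hm⟩ : ∃ m, p = m + 2 := ⟨p - 2, by omega⟩
  rw [hm] at h5 ⊢
  have h7 : (m + 2) ^ 2 - 1 = (m + 2 + 1) * (m + 2 - 1) := by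
    have : (m + 2) ^ 2 = (m + 2 + 1) * (m + 2 - 1) + 1 := by
      have e : m + 2 - 1 = m + 1 := by omega
      rw [e]; ring
    rw [this]; simp
  rw [h7] at h5
  exact Nat.le_of_mul_le_mul_right h5 (by omega)

/-- the configuration of the abelian endgame -/
structure AbCfg (p r s t : ℕ) (A V Q R B₁ : Subgroup X) : Prop extends MinCfg p r s t A V Q R where
  hsr : s ≠ r
  hts : t ≠ s
  hpr : p ≠ r
  hps : p ≠ s
  hpt : p ≠ t
  hQab : ∀ x ∈ Q, ∀ y ∈ Q, x * y = y * x
  hB₁ : B₁ ≤ A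
  hc₁ : Nat.card B₁ = p
  hR₁ : R ≤ Subgroup.centralizer (B₁ : Set X)
  hQ₁ : Q ⊓ Subgroup.centralizer (B₁ : Set X) = ⊥

/-- `C₀ = C_R(Q)` -/
abbrev C0 (Q R : Subgroup X) : Subgroup X := R ⊓ Subgroup.centralizer (Q : Set X)

/-- `M_B = [V, C_Q(B)]` -/
abbrev MB (V Q B : Subgroup X) : Subgroup X := ⁅V, Q ⊓ Subgroup.centralizer (B : Set X)⁆

variable {p r s t : ℕ} [hp : Fact p.Prime] [hr : Fact r.Prime] [hs : Fact s.Prime] [ht : Fact t.Prime]
  {A V Q R B₁ : Subgroup X}

theorem C0_normal_A (h : AbCfg p r s t A V Q R B₁) :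
    A ≤ Subgroup.normalizer ((C0 Q R : Subgroup X) : Set X) :=
  le_normalizer_inf' h.hAR (le_normalizer_centralizer h.hAQ)

theorem C0_normal_R (h : AbCfg p r s t A V Q R B₁) :
    R ≤ Subgroup.normalizer ((C0 Q R : Subgroup X) : Set X) :=
  le_normalizer_inf' Subgroup.le_normalizer (le_normalizer_centralizer h.hRQ)

omit [Finite X] in
theorem le_C0 (h : AbCfg p r s t A V Q R B₁) {R' : Subgroup X} (hR' : R' ≤ R)
    (hAR' : A ≤ Subgroup.normalizer (R' : Set X)) (hne : R' ≠ R) : R' ≤ C0 Q R :=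
  le_inf hR' (h.hRmin R' (lt_of_le_of_ne hR' hne) hAR')

omit [Finite X] in
theorem exists_not_mem_C0 (h : AbCfg p r s t A V Q R B₁) : ∃ x ∈ R, x ∉ C0 Q R := by
  by_contra hcon
  push Not at hcon
  exact h.hnc (fun x hx => (hcon x hx).2)

/-- the key fact on `R / C₀`: the subgroups `B ≠ B₁` act fixed-point-freely on it -/
theorem fact_D (h : AbCfg p r s t A V Q R B₁) {B : Subgroup X} (hB : B ≤ A) (hc : Nat.card B = p)
    (hne : B ≠ B₁) {b : X} (hb : b ∈ B) (hb1 : b ≠ 1) {x : X} (hx : x ∈ R)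
    (hxb : x⁻¹ * (b * x * b⁻¹) ∈ C0 Q R) : x ∈ C0 Q R := by
  by_contra hxC
  have hbA : b ∈ A := hB hb
  have hbR : ∀ y ∈ R, b * y * b⁻¹ ∈ R := fun y hy => conj_mem_of_le_normalizer h.hAR hbA hy
  have hcommA := cfg_commA h.toCfg
  let D : Subgroup X := ofMulClosed {y : X | y ∈ R ∧ y⁻¹ * (b * y * b⁻¹) ∈ C0 Q R}
    ⟨R.one_mem, by
      have : (1 : X)⁻¹ * (b * 1 * b⁻¹) = 1 := by group
      rw [this]; exact Subgroup.one_mem _⟩
    (by
      rintro y ⟨hy, hyc⟩ y' ⟨hy', hyc'⟩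
      refine ⟨R.mul_mem hy hy', ?_⟩
      have e : (y * y')⁻¹ * (b * (y * y') * b⁻¹) =
          (y'⁻¹ * (y⁻¹ * (b * y * b⁻¹)) * y'⁻¹⁻¹) * (y'⁻¹ * (b * y' * b⁻¹)) := by group
      rw [e]
      exact Subgroup.mul_mem _ (conj_mem_of_le_normalizer (C0_normal_R h) (R.inv_mem hy') hyc) hyc')
  have hDR : D ≤ R := fun y hy => hy.1
  have hDA : A ≤ Subgroup.normalizer (D : Set X) := by
    apply le_normalizer_of_conj_mem
    rintro a ha y ⟨hy, hyc⟩
    refine ⟨conj_mem_of_le_normalizer h.hAR ha hy, ?_⟩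
    have hab : a * b = b * a := hcommA a ha b hbA
    have hb' : a⁻¹ * b * a = b := by
      rw [mul_assoc, ← hab, ← mul_assoc, inv_mul_cancel, one_mul]
    have e : (a * y * a⁻¹)⁻¹ * (b * (a * y * a⁻¹) * b⁻¹) =
        a * (y⁻¹ * ((a⁻¹ * b * a) * y * (a⁻¹ * b * a)⁻¹)) * a⁻¹ := by group
    rw [e, hb']
    exact conj_mem_of_le_normalizer (C0_normal_A h) ha hyc
  have hDeq : D = R := by
    by_contra hDne
    exact hxC (le_C0 h hDR hDA hDne ⟨hx, hxb⟩)
  have hfpf : R ⊓ Subgroup.centralizer (B : Set X) = ⊥ :=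
    minCfg_R_fpf h.toMinCfg h.hB₁ h.hc₁ h.hR₁ hB hc hne
  apply h.hnc
  intro z hz
  obtain ⟨y, hy, rfl⟩ := exists_comm_eq R b hbR
    (fun y hy hcomm => by
      have : y ∈ R ⊓ Subgroup.centralizer (B : Set X) :=
        ⟨hy, mem_centralizer_of_prime hc hb hb1 hcomm⟩
      rw [hfpf] at this
      exact Subgroup.mem_bot.1 this) z hz
  have hyD : y ∈ D := by rw [hDeq]; exact hy
  exact hyD.2.2

section MBfacts

variable (h : AbCfg p r s t A V Q R B₁) {B : Subgroup X} (hB : B ≤ A) (hc : Nat.card B = p)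

include h hB

theorem QB_normal_A : A ≤ Subgroup.normalizer ((Q ⊓ Subgroup.centralizer (B : Set X) : Subgroup X) : Set X) :=
  le_normalizer_inf_centralizer (cfg_commA h.toCfg) h.hAQ hB

omit hB in
theorem QB_normal_Q (B : Subgroup X) :
    Q ≤ Subgroup.normalizer ((Q ⊓ Subgroup.centralizer (B : Set X) : Subgroup X) : Set X) := by
  refine le_trans ?_ (Subgroup.centralizer_le_normalizer _)
  intro q hq
  rw [Subgroup.mem_centralizer_iff]
  intro y hy
  exact h.hQab y hy.1 q hq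

omit hB in
theorem MB_le_V (B : Subgroup X) : MB V Q B ≤ V :=
  commutator_le_left V _ (inf_le_left.trans h.hQV)

theorem MB_normal_A : A ≤ Subgroup.normalizer ((MB V Q B : Subgroup X) : Set X) :=
  normalizer_commutator h.hAV (QB_normal_A h hB)

omit hB in
theorem MB_normal_Q (B : Subgroup X) : Q ≤ Subgroup.normalizer ((MB V Q B : Subgroup X) : Set X) :=
  normalizer_commutator h.hQV (QB_normal_Q h B)

include hc

theorem MB_inf_B : MB V Q B ⊓ Subgroup.centralizer (B : Set X) = ⊥ := by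
  haveI : IsMulCommutative V := h.hV.1
  have hcopB : (Nat.card B).Coprime (Nat.card V) :=
    coprime_card_of_isPGroup h.hpr (isPGroup_of_card_eq hc) (isPGroup_of_elementary h.hV)
  rw [eq_bot_iff, ← commutator_inf_centralizer V B (hB.trans h.hAV) hcopB]
  refine inf_le_inf_right _
    (commutator_le_commutator V B _ (hB.trans h.hAV) hcopB (inf_le_left.trans h.hQV) inf_le_right ?_)
  intro y hy v hv
  exact h.h1 B hB hc y hy v hv

omit hB hc in
theorem MB_inf_QB (B : Subgroup X) : MB V Q B ⊓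
    Subgroup.centralizer ((Q ⊓ Subgroup.centralizer (B : Set X) : Subgroup X) : Set X) = ⊥ := by
  haveI : IsMulCommutative V := h.hV.1
  exact commutator_inf_centralizer V _ (inf_le_left.trans h.hQV)
    (coprime_card_of_isPGroup h.hsr (h.hQ.to_le inf_le_left) (isPGroup_of_elementary h.hV))

theorem QB_le_centralizer_MB {B' : Subgroup X} (hB' : B' ≤ A) (hc' : Nat.card B' = p) (hne : B' ≠ B) :
    Q ⊓ Subgroup.centralizer (B' : Set X) ≤ Subgroup.centralizer ((MB V Q B : Subgroup X) : Set X) :=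
  frobenius_tool h.hpr h.hsr h.hps (MB V Q B) _ B hc (h.hQ.to_le inf_le_left)
    ((isPGroup_of_elementary h.hV).to_le (MB_le_V h B)) (hB.trans (QB_normal_A h hB'))
    (inf_le_left.trans (MB_normal_Q h B)) (hB.trans (MB_normal_A h hB))
    (cfg_Q_fpf h.toCfg hB' hc' hB hc hne) (MB_inf_B h hB hc)

end MBfacts

end Cfsg.Agent.Lib.Helper5.WardG
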