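import Mathlib
import Cfsg.Prelude.Def_Transfer
import Cfsg.Agent.Lib.Helper5.WardG

/-!
Ward's theorem (S3796), piece H (helper5): the abelian endgame, part 2.
-/

set_option autoImplicit false
set_option linter.unusedSectionVars false
set_option linter.style.haveILetI false
open scoped commutatorElement IsMulCommutative

namespace Cfsg.Agent.Lib.Helper5.WardH

open Cfsg.Agent.H2.Transitivity Cfsg.Agent.H2.CoprimeFactor Cfsg.Agent.Lib.Helper5.WardA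
  Cfsg.Agent.Lib.Helper5.WardB Cfsg.Agent.Lib.Helper5.WardC Cfsg.Agent.Lib.Helper5.WardD
  Cfsg.Agent.Lib.Helper5.WardE Cfsg.Agent.Lib.Helper5.WardF Cfsg.Agent.Lib.Helper5.WardG

variable {X : Type*} [Group X] [Finite X]

variable {p r s t : ℕ} [hp : Fact p.Prime] [hr : Fact r.Prime] [hs : Fact s.Prime] [ht : Fact t.Prime]
  {A V Q R B₁ : Subgroup X}

/-- **Lemma E**: `M_B ∩ w M_B w⁻¹ = 1` for `w ∈ R ∖ C₀`, `B ≠ B₁` -/
theorem lemma_E (h : AbCfg p r s t A V Q R B₁) (hQR : ⁅Q, R⁆ = Q) {B : Subgroup X} (hB : B ≤ A)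
    (hc : Nat.card B = p) (hne : B ≠ B₁) {w : X} (hw : w ∈ R) (hwC : w ∉ C0 Q R) {v : X}
    (hv : v ∈ MB V Q B) (hv' : w⁻¹ * v * w ∈ MB V Q B) : v = 1 := by
  classical
  have hcommA := cfg_commA h.toCfg
  haveI : IsMulCommutative Q := ⟨⟨fun a b => Subtype.ext (h.hQab a a.2 b b.2)⟩⟩
  set QB : Subgroup X := Q ⊓ Subgroup.centralizer (B : Set X) with hQB
  set K₁ : Subgroup X := Q ⊓ Subgroup.centralizer ((MB V Q B : Subgroup X) : Set X) with hK₁
  have hK₁Q : K₁ ≤ Q := inf_le_left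
  have hK₁A : A ≤ Subgroup.normalizer (K₁ : Set X) :=
    le_normalizer_inf' h.hAQ (le_normalizer_centralizer (MB_normal_A h hB))
  -- generation
  have hgen : Q ≤ QB ⊔ K₁ := by
    refine le_of_forall_fixed_le A h.hAcard h.hA Q _ (not_dvd_card_of_isPGroup h.hps h.hQ) h.hAQ ?_
    intro B' hB' hc'
    by_cases hne' : B' = B
    · rw [hne']; exact le_sup_left
    · exact (le_inf inf_le_left (QB_le_centralizer_MB h hB hc hB' hc' hne')).trans le_sup_right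
  -- `B` acts trivially on `Q / K₁`
  have hstar : ∀ b ∈ B, ∀ q ∈ Q, q⁻¹ * (b * q * b⁻¹) ∈ K₁ := by
    intro b hb q hq
    obtain ⟨q₁, hq₁, k, hk, rfl⟩ := exists_mul_of_mem_sup Q QB K₁ inf_le_left hK₁Q (hgen hq)
    have hbq : b * q₁ * b⁻¹ = q₁ := by
      have : b * q₁ = q₁ * b := Subgroup.mem_centralizer_iff.1 hq₁.2 b hb
      rw [this, mul_assoc, mul_inv_cancel, mul_one]
    have hk' : b * k * b⁻¹ ∈ K₁ := conj_mem_of_le_normalizer hK₁A (hB hb) hk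
    have e : (q₁ * k)⁻¹ * (b * (q₁ * k) * b⁻¹) = k⁻¹ * (q₁⁻¹ * (b * q₁ * b⁻¹)) * (b * k * b⁻¹) := by
      group
    rw [e, hbq]
    have e2 : k⁻¹ * (q₁⁻¹ * q₁) * (b * k * b⁻¹) = k⁻¹ * (b * k * b⁻¹) := by group
    rw [e2]
    exact K₁.mul_mem (K₁.inv_mem hk) hk'
  -- `L`
  set L : Subgroup X := Q ⊓ Subgroup.centralizer ({v} : Set X) with hL
  have hK₁L : K₁ ≤ L := by
    intro k hk
    refine ⟨hk.1, ?_⟩
    show k ∈ Subgroup.centralizer ({v} : Set X)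
    rw [Subgroup.mem_centralizer_singleton_iff]
    exact (Subgroup.mem_centralizer_iff.1 hk.2 v hv).symm
  have hwK₁L : ∀ k ∈ K₁, w * k * w⁻¹ ∈ L := by
    intro k hk
    refine ⟨conj_mem_of_le_normalizer h.hRQ hw hk.1, ?_⟩
    show w * k * w⁻¹ ∈ Subgroup.centralizer ({v} : Set X)
    rw [Subgroup.mem_centralizer_singleton_iff]
    have h1 : (w⁻¹ * v * w) * k = k * (w⁻¹ * v * w) := Subgroup.mem_centralizer_iff.1 hk.2 _ hv'
    calc w * k * w⁻¹ * v = w * (k * (w⁻¹ * v * w)) * w⁻¹ := by group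
      _ = w * ((w⁻¹ * v * w) * k) * w⁻¹ := by rw [h1]
      _ = v * (w * k * w⁻¹) := by group
  obtain ⟨b, hb, hb1⟩ := exists_ne_one_of_card_prime hc
  have hBT : B ≤ trivAct Q L := by
    intro b' hb'
    rw [mem_trivAct]
    exact ⟨fun q hq => conj_mem_of_le_normalizer h.hAQ (hB hb') hq,
      fun q hq => hK₁L (hstar b' hb' q hq)⟩
  have hwbT : w * b * w⁻¹ ∈ trivAct Q L := by
    rw [mem_trivAct]
    have hwbQ : ∀ q ∈ Q, (w * b * w⁻¹) * q * (w * b * w⁻¹)⁻¹ ∈ Q := by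
      intro q hq
      have h1 : w⁻¹ * q * w⁻¹⁻¹ ∈ Q := conj_mem_of_le_normalizer h.hRQ (R.inv_mem hw) hq
      have h2 : b * (w⁻¹ * q * w⁻¹⁻¹) * b⁻¹ ∈ Q := conj_mem_of_le_normalizer h.hAQ (hB hb) h1
      have h3 : w * (b * (w⁻¹ * q * w⁻¹⁻¹) * b⁻¹) * w⁻¹ ∈ Q :=
        conj_mem_of_le_normalizer h.hRQ hw h2
      have e : (w * b * w⁻¹) * q * (w * b * w⁻¹)⁻¹ = w * (b * (w⁻¹ * q * w⁻¹⁻¹) * b⁻¹) * w⁻¹ := by
        group
      rw [e]; exact h3
    refine ⟨hwbQ, fun q hq => ?_⟩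
    have h1 : w⁻¹ * q * w⁻¹⁻¹ ∈ Q := conj_mem_of_le_normalizer h.hRQ (R.inv_mem hw) hq
    have h2 := hwK₁L _ (hstar b hb _ h1)
    have e : q⁻¹ * ((w * b * w⁻¹) * q * (w * b * w⁻¹)⁻¹) =
        w * ((w⁻¹ * q * w⁻¹⁻¹)⁻¹ * (b * (w⁻¹ * q * w⁻¹⁻¹) * b⁻¹)) * w⁻¹ := by group
    rw [e]; exact h2
  have hz₁T : w * b * w⁻¹ * b⁻¹ ∈ trivAct Q L :=
    Subgroup.mul_mem _ hwbT (Subgroup.inv_mem _ (hBT hb))
  -- `T`
  set T : Subgroup X := trivAct Q L ⊓ R with hT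
  have hTR : T ≤ R := inf_le_right
  have hTB : B ≤ Subgroup.normalizer (T : Set X) :=
    le_normalizer_inf' (hBT.trans Subgroup.le_normalizer) (hB.trans h.hAR)
  have hTB₁ : B₁ ≤ Subgroup.normalizer (T : Set X) := by
    refine le_trans ?_ (Subgroup.centralizer_le_normalizer _)
    exact (Subgroup.le_centralizer_iff.1 h.hR₁).trans
      (Subgroup.centralizer_le (show (T : Set X) ⊆ (R : Set X) from hTR))
  have hTA : A ≤ Subgroup.normalizer (T : Set X) := by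
    rw [← sup_eq_of_ne A h.hAcard hB h.hB₁ hc h.hc₁ hne]
    exact sup_le hTB hTB₁
  have hz₁R : w * b * w⁻¹ * b⁻¹ ∈ R := by
    have h1 : b * w⁻¹ * b⁻¹ ∈ R := conj_mem_of_le_normalizer h.hAR (hB hb) (R.inv_mem hw)
    have e : w * b * w⁻¹ * b⁻¹ = w * (b * w⁻¹ * b⁻¹) := by group
    rw [e]; exact R.mul_mem hw h1
  have hTeq : T = R := by
    by_contra hTne
    have h1 : w * b * w⁻¹ * b⁻¹ ∈ C0 Q R := le_C0 h hTR hTA hTne ⟨hz₁T, hz₁R⟩
    have h2 : w⁻¹ ∈ C0 Q R := by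
      apply fact_D h hB hc hne hb hb1 (R.inv_mem hw)
      have e : w⁻¹⁻¹ * (b * w⁻¹ * b⁻¹) = w * b * w⁻¹ * b⁻¹ := by group
      rw [e]; exact h1
    exact hwC (by simpa using Subgroup.inv_mem _ h2)
  -- `[Q, R] ≤ L`
  have hQL : Q ≤ L := by
    have h3 : ⁅Q, R⁆ ≤ L := by
      rw [Subgroup.commutator_le]
      intro q hq x hx
      have hxT : x ∈ trivAct Q L := by
        have : x ∈ T := by rw [hTeq]; exact hx
        exact this.1
      have h4 := ((mem_trivAct Q L x).1 hxT).2 q⁻¹ (Q.inv_mem hq)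
      have e : ⁅q, x⁆ = q⁻¹⁻¹ * (x * q⁻¹ * x⁻¹) := by rw [commutatorElement_def]; group
      rw [e]; exact h4
    rwa [hQR] at h3
  -- conclusion
  have hvc : v ∈ Subgroup.centralizer ((QB : Subgroup X) : Set X) := by
    rw [Subgroup.mem_centralizer_iff]
    intro q hq
    have h5 : q ∈ Subgroup.centralizer ({v} : Set X) := (hQL hq.1).2
    rw [Subgroup.mem_centralizer_singleton_iff] at h5
    exact h5
  have h6 : v ∈ MB V Q B ⊓ Subgroup.centralizer ((QB : Subgroup X) : Set X) := ⟨hv, hvc⟩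
  rw [MB_inf_QB h B] at h6
  exact Subgroup.mem_bot.1 h6

/-- the set of nontrivial `Q`-invariant subgroups of `V` without fixed points of `Q` -/
def InW (V Q W : Subgroup X) : Prop :=
  W ≤ V ∧ W ≠ ⊥ ∧ Q ≤ Subgroup.normalizer (W : Set X) ∧ W ⊓ Subgroup.centralizer (Q : Set X) = ⊥

/-- the conjugate subgroup `x W x⁻¹` -/
abbrev conjS (x : X) (W : Subgroup X) : Subgroup X := W.map (MulAut.conj x).toMonoidHom

omit [Finite X] in
theorem mem_conjS {x y : X} {W : Subgroup X} : y ∈ conjS x W ↔ ∃ w ∈ W, x * w * x⁻¹ = y := by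
  rw [Subgroup.mem_map]
  rfl

omit [Finite X] in
theorem card_conjS (x : X) (W : Subgroup X) : Nat.card (conjS x W) = Nat.card W :=
  Subgroup.card_map_of_injective (MulAut.conj x).injective

theorem InW_conj (h : AbCfg p r s t A V Q R B₁) {W : Subgroup X} (hW : InW V Q W) {x : X}
    (hx : x ∈ R) : InW V Q (conjS x W) := by
  obtain ⟨hWV, hW0, hWQ, hWc⟩ := hW
  refine ⟨?_, ?_, ?_, ?_⟩
  · intro y hy
    obtain ⟨w, hw, rfl⟩ := mem_conjS.1 hy
    exact conj_mem_of_le_normalizer h.hRV hx (hWV hw)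
  · intro h0
    apply hW0
    have h1 : Nat.card (conjS x W) = 1 := by rw [h0]; exact Subgroup.card_bot
    rw [card_conjS] at h1
    exact Subgroup.card_eq_one.1 h1
  · apply le_normalizer_of_conj_mem
    intro q hq y hy
    obtain ⟨w, hw, rfl⟩ := mem_conjS.1 hy
    have h1 : x⁻¹ * q * x⁻¹⁻¹ ∈ Q := conj_mem_of_le_normalizer h.hRQ (R.inv_mem hx) hq
    have h2 : (x⁻¹ * q * x⁻¹⁻¹) * w * (x⁻¹ * q * x⁻¹⁻¹)⁻¹ ∈ W :=
      conj_mem_of_le_normalizer hWQ h1 hw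
    refine mem_conjS.2 ⟨_, h2, ?_⟩
    group
  · rw [eq_bot_iff]
    rintro y ⟨hy, hyc⟩
    obtain ⟨w, hw, rfl⟩ := mem_conjS.1 hy
    have hwc : w ∈ Subgroup.centralizer (Q : Set X) := by
      rw [Subgroup.mem_centralizer_iff]
      intro q hq
      have h1 : x * q * x⁻¹ ∈ Q := conj_mem_of_le_normalizer h.hRQ hx hq
      have h2 : (x * q * x⁻¹) * (x * w * x⁻¹) = (x * w * x⁻¹) * (x * q * x⁻¹) :=
        Subgroup.mem_centralizer_iff.1 hyc _ h1
      calc q * w = x⁻¹ * ((x * q * x⁻¹) * (x * w * x⁻¹)) * x := by group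
        _ = x⁻¹ * ((x * w * x⁻¹) * (x * q * x⁻¹)) * x := by rw [h2]
        _ = w * q := by group
    have h3 : w ∈ W ⊓ Subgroup.centralizer (Q : Set X) := ⟨hw, hwc⟩
    rw [hWc] at h3
    rw [Subgroup.mem_bot.1 h3]
    simp

/-- a member of `𝒲` of minimal order lies in some `M_B`, `B ≠ B₁` -/
theorem exists_B_of_minimal (h : AbCfg p r s t A V Q R B₁) {W : Subgroup X} (hW : InW V Q W)
    (hmin : ∀ W' : Subgroup X, InW V Q W' → Nat.card W ≤ Nat.card W') :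
    ∃ B : Subgroup X, B ≤ A ∧ Nat.card B = p ∧ B ≠ B₁ ∧ W ≤ MB V Q B := by
  obtain ⟨hWV, hW0, hWQ, hWc⟩ := hW
  haveI : IsMulCommutative W :=
    ⟨⟨fun a b => Subtype.ext (comm_of_elementary h.hV (hWV a.2) (hWV b.2))⟩⟩
  obtain ⟨B, hB, hc, hBW⟩ : ∃ B : Subgroup X, B ≤ A ∧ Nat.card B = p ∧
      ¬ (Q ⊓ Subgroup.centralizer (B : Set X) ≤ Subgroup.centralizer (W : Set X)) := by
    by_contra hcon
    push Not at hcon
    apply hW0
    have h1 : Q ≤ Subgroup.centralizer (W : Set X) :=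
      le_of_forall_fixed_le A h.hAcard h.hA Q _ (not_dvd_card_of_isPGroup h.hps h.hQ) h.hAQ hcon
    have h2 : W ≤ Subgroup.centralizer (Q : Set X) := Subgroup.le_centralizer_iff.1 h1
    rw [eq_bot_iff, ← hWc]
    exact le_inf le_rfl h2
  have hne : B ≠ B₁ := by
    rintro rfl
    apply hBW
    rw [h.hQ₁]; exact bot_le
  refine ⟨B, hB, hc, hne, ?_⟩
  set QB : Subgroup X := Q ⊓ Subgroup.centralizer (B : Set X) with hQB
  have hQBW : QB ≤ Subgroup.normalizer (W : Set X) := inf_le_left.trans hWQ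
  have hcop : (Nat.card QB).Coprime (Nat.card W) :=
    coprime_card_of_isPGroup h.hsr (h.hQ.to_le inf_le_left)
      ((isPGroup_of_elementary h.hV).to_le hWV)
  have hW'W : ⁅W, QB⁆ ≤ W := commutator_le_left W QB hQBW
  have hW'in : InW V Q ⁅W, QB⁆ := by
    refine ⟨hW'W.trans hWV, ?_, normalizer_commutator hWQ (QB_normal_Q h B), ?_⟩
    · intro h0
      rw [Subgroup.commutator_eq_bot_iff_le_centralizer] at h0
      exact hBW (Subgroup.le_centralizer_iff.1 h0)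
    · rw [eq_bot_iff, ← commutator_inf_centralizer W QB hQBW hcop]
      exact inf_le_inf_left _
        (Subgroup.centralizer_le (show (QB : Set X) ⊆ (Q : Set X) from inf_le_left))
  have heq : ⁅W, QB⁆ = W := Subgroup.eq_of_le_of_card_ge hW'W (hmin _ hW'in)
  calc W = ⁅W, QB⁆ := heq.symm
    _ ≤ ⁅V, QB⁆ := Subgroup.commutator_mono hWV le_rfl

end Cfsg.Agent.Lib.Helper5.WardH
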