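import Mathlib
import Cfsg.Prelude.Def_Transfer
import Cfsg.Agent.Lib.Helper5.WardH

/-!
Ward's theorem (S3796), piece I (helper5): the abelian endgame, final counting.
-/

set_option autoImplicit false
set_option linter.unusedSectionVars false
set_option linter.style.haveILetI false
open scoped commutatorElement IsMulCommutative

namespace Cfsg.Agent.Lib.Helper5.WardI

open Cfsg.Agent.H2.Transitivity Cfsg.Agent.H2.CoprimeFactor Cfsg.Agent.Lib.Helper5.WardA
  Cfsg.Agent.Lib.Helper5.WardB Cfsg.Agent.Lib.Helper5.WardC Cfsg.Agent.Lib.Helper5.WardD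
  Cfsg.Agent.Lib.Helper5.WardE Cfsg.Agent.Lib.Helper5.WardF Cfsg.Agent.Lib.Helper5.WardG
  Cfsg.Agent.Lib.Helper5.WardH

variable {X : Type*} [Group X] [Finite X]

variable {p r s t : ℕ} [hp : Fact p.Prime] [hr : Fact r.Prime] [hs : Fact s.Prime] [ht : Fact t.Prime]
  {A V Q R B₁ : Subgroup X}

/-- the abelian endgame configuration is contradictory -/
theorem abCfg_false (h : AbCfg p r s t A V Q R B₁) : False := by
  classical
  have hcommA := cfg_commA h.toCfg
  haveI : IsMulCommutative V := h.hV.1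
  obtain ⟨hQR, -⟩ := minCfg_structure h.toMinCfg h.hts
  -- `𝒲` is nonempty
  have hW₁ : InW V Q ⁅V, Q⁆ := by
    have hcop : (Nat.card Q).Coprime (Nat.card V) :=
      coprime_card_of_isPGroup h.hsr h.hQ (isPGroup_of_elementary h.hV)
    refine ⟨commutator_le_left V Q h.hQV, ?_, normalizer_commutator h.hQV Subgroup.le_normalizer,
      commutator_inf_centralizer V Q h.hQV hcop⟩
    intro h0
    rw [Subgroup.commutator_eq_bot_iff_le_centralizer] at h0
    have h1 : Q ≤ Q ⊓ Subgroup.centralizer (V : Set X) :=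
      le_inf le_rfl (Subgroup.le_centralizer_iff.1 h0)
    rw [h.hfaith] at h1
    exact minCfg_Q_ne_bot h.toMinCfg (eq_bot_iff.2 h1)
  obtain ⟨W, hW, hWmin⟩ := Set.exists_min_image {W : Subgroup X | InW V Q W}
    (fun W => Nat.card W) (Set.toFinite _) ⟨_, hW₁⟩
  have hW' : InW V Q W := hW
  -- the function `Bf`
  have key : ∀ x ∈ R, ∃ B : Subgroup X, B ≤ A ∧ Nat.card B = p ∧ B ≠ B₁ ∧
      conjS x W ≤ MB V Q B := by
    intro x hx
    refine exists_B_of_minimal h (InW_conj h hW' hx) ?_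
    intro W'' hW''
    rw [card_conjS]
    exact hWmin W'' hW''
  choose! Bf hBf using key
  -- a nonidentity element of `W`
  obtain ⟨w₀, hw₀, hw₀1⟩ : ∃ w₀ ∈ W, w₀ ≠ 1 := by
    obtain ⟨⟨e, he⟩, h1⟩ := Subgroup.ne_bot_iff_exists_ne_one.1 hW'.2.1
    exact ⟨e, he, fun h => h1 (Subtype.ext h)⟩
  -- injectivity modulo `C₀`
  have hinj : ∀ x ∈ R, ∀ y ∈ R, Bf x = Bf y → y * x⁻¹ ∈ C0 Q R := by
    intro x hx y hy hxy
    by_contra hwC
    obtain ⟨hBA, hBc, hBne, hBM⟩ := hBf x hx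
    have hv : y * w₀ * y⁻¹ ∈ MB V Q (Bf x) := by
      rw [hxy]; exact (hBf y hy).2.2.2 (mem_conjS.2 ⟨w₀, hw₀, rfl⟩)
    have hv' : (y * x⁻¹)⁻¹ * (y * w₀ * y⁻¹) * (y * x⁻¹) ∈ MB V Q (Bf x) := by
      have e : (y * x⁻¹)⁻¹ * (y * w₀ * y⁻¹) * (y * x⁻¹) = x * w₀ * x⁻¹ := by group
      rw [e]; exact hBM (mem_conjS.2 ⟨w₀, hw₀, rfl⟩)
    have h1 := lemma_E h hQR hBA hBc hBne (R.mul_mem hy (R.inv_mem hx)) hwC hv hv'
    apply hw₀1
    have e : w₀ = y⁻¹ * (y * w₀ * y⁻¹) * y := by group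
    rw [e, h1]; group
  -- the `p + 1` elements
  obtain ⟨x, hx, hxC⟩ := exists_not_mem_C0 h
  obtain ⟨B₂, hB₂, hc₂, hne₂⟩ : ∃ B₂ : Subgroup X, B₂ ≤ A ∧ Nat.card B₂ = p ∧ B₂ ≠ B₁ :=
    ⟨Bf 1, (hBf 1 R.one_mem).1, (hBf 1 R.one_mem).2.1, (hBf 1 R.one_mem).2.2.1⟩
  let e : Option ↥B₂ → X := fun o => o.elim 1 (fun c => (c : X) * x * (c : X)⁻¹)
  have heR : ∀ o, e o ∈ R := by
    intro o
    rcases o with _ | c
    · exact R.one_mem
    · exact conj_mem_of_le_normalizer h.hAR (hB₂ c.2) hx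
  have hconjC : ∀ a ∈ A, ∀ z : X, a * z * a⁻¹ ∈ C0 Q R → z ∈ C0 Q R := by
    intro a ha z hz
    have h1 := conj_mem_of_le_normalizer (C0_normal_A h) (A.inv_mem ha) hz
    have e1 : a⁻¹ * (a * z * a⁻¹) * a⁻¹⁻¹ = z := by group
    rwa [e1] at h1
  have hpair : ∀ o o' : Option ↥B₂, e o' * (e o)⁻¹ ∈ C0 Q R → o = o' := by
    intro o o' hoo
    rcases o with _ | c <;> rcases o' with _ | c'
    · rfl
    · exfalso
      apply hxC
      apply hconjC c' (hB₂ c'.2)
      have e1 : e (some c') * (e none)⁻¹ = (c' : X) * x * (c' : X)⁻¹ := by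
        show (c' : X) * x * (c' : X)⁻¹ * (1 : X)⁻¹ = _
        group
      rw [e1] at hoo
      exact hoo
    · exfalso
      apply hxC
      have e1 : e none * (e (some c))⁻¹ = ((c : X) * x * (c : X)⁻¹)⁻¹ := by
        show (1 : X) * ((c : X) * x * (c : X)⁻¹)⁻¹ = _
        group
      rw [e1] at hoo
      have h2 := Subgroup.inv_mem _ hoo
      rw [inv_inv] at h2
      exact hconjC c (hB₂ c.2) _ h2
    · by_contra hcc
      have hcc' : c ≠ c' := fun h => hcc (by rw [h])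
      set d : X := (c : X)⁻¹ * (c' : X) with hd
      have hdB : d ∈ B₂ := B₂.mul_mem (B₂.inv_mem c.2) c'.2
      have hd1 : d ≠ 1 := by
        intro h1
        apply hcc'
        apply Subtype.ext
        have h2 : (c : X) * d = c' := by rw [hd]; group
        rw [h1, mul_one] at h2
        exact h2
      have h1 : (c : X) * (d * x * d⁻¹ * x⁻¹) * (c : X)⁻¹ ∈ C0 Q R := by
        have e1 : (c : X) * (d * x * d⁻¹ * x⁻¹) * (c : X)⁻¹ = e (some c') * (e (some c))⁻¹ := by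
          show _ = ((c' : X) * x * (c' : X)⁻¹) * ((c : X) * x * (c : X)⁻¹)⁻¹
          rw [hd]; group
        rw [e1]; exact hoo
      have h2 : d * x * d⁻¹ * x⁻¹ ∈ C0 Q R := hconjC c (hB₂ c.2) _ h1
      have h3 : x⁻¹⁻¹ * (d * x⁻¹ * d⁻¹) ∈ C0 Q R := by
        have h4 := Subgroup.inv_mem _ h2
        have e2 : (d * x * d⁻¹ * x⁻¹)⁻¹ = x⁻¹⁻¹ * (d * x⁻¹ * d⁻¹) := by group
        rwa [e2] at h4
      have h4 := fact_D h hB₂ hc₂ hne₂ hdB hd1 (R.inv_mem hx) h3
      exact hxC (by simpa using Subgroup.inv_mem _ h4)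
  -- the injective family of `p + 2` subgroups of order `p`
  let f : Option (Option ↥B₂) → Subgroup X := fun o => o.elim B₁ (fun i => Bf (e i))
  have hf : Function.Injective f := by
    intro o o' hoo
    rcases o with _ | i <;> rcases o' with _ | j
    · rfl
    · exfalso
      have h1 : B₁ = Bf (e j) := hoo
      exact (hBf (e j) (heR j)).2.2.1 h1.symm
    · exfalso
      have h1 : Bf (e i) = B₁ := hoo
      exact (hBf (e i) (heR i)).2.2.1 h1
    · have h1 : Bf (e i) = Bf (e j) := hoo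
      have h2 := hpair i j (hinj (e i) (heR i) (e j) (heR j) h1)
      rw [h2]
  have hfA : ∀ o, f o ≤ A := by
    intro o
    rcases o with _ | i
    · exact h.hB₁
    · exact (hBf (e i) (heR i)).1
  have hfc : ∀ o, Nat.card (f o) = p := by
    intro o
    rcases o with _ | i
    · exact h.hc₁
    · exact (hBf (e i) (heR i)).2.1
  have hcount := card_le_of_injective A h.hAcard f hf hfA hfc
  rw [Finite.card_option, Finite.card_option, hc₂] at hcount
  omega

end Cfsg.Agent.Lib.Helper5.WardI
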