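import Mathlib
import Cfsg.Prelude.Def_Transfer
import Cfsg.Agent.Lib.Helper5.WardI

/-!
Ward's theorem (S3796), the heart (helper5): the configuration theorem.

`A = Z_p × Z_p` acts on an elementary abelian `r`-group `V`, an `s`-group `Q` and a `t`-group `R`
(all inside one finite group `X`), with `Q R` acting on `V`, `R` acting on `Q`, `Q` faithful on `V`,
`C_Q(A) = C_R(A) = 1`, and, for every subgroup `B` of order `p` of `A`, `C_Q(B)` centralizes
`C_V(B)` and `C_R(B)` centralizes `C_Q(B)`.  Then `R` centralizes `Q`.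
-/

set_option autoImplicit false
set_option linter.unusedSectionVars false
set_option linter.style.haveILetI false
open scoped commutatorElement IsMulCommutative

namespace Cfsg.Agent.Lib.Helper5.WardCfg

open Cfsg.Agent.H2.Transitivity Cfsg.Agent.H2.CoprimeFactor Cfsg.Agent.Lib.Helper5.WardA
  Cfsg.Agent.Lib.Helper5.WardB Cfsg.Agent.Lib.Helper5.WardC Cfsg.Agent.Lib.Helper5.WardD
  Cfsg.Agent.Lib.Helper5.WardE Cfsg.Agent.Lib.Helper5.WardF Cfsg.Agent.Lib.Helper5.WardG
  Cfsg.Agent.Lib.Helper5.WardH Cfsg.Agent.Lib.Helper5.WardI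

theorem ward_config {X : Type*} [Group X] [Finite X] {p r s t : ℕ} [Fact p.Prime] [Fact r.Prime]
    [Fact s.Prime] [Fact t.Prime] (hsr : s ≠ r) (hts : t ≠ s) (hpr : p ≠ r) (hps : p ≠ s)
    (hpt : p ≠ t) (A V Q R : Subgroup X) (hA : Cfsg.IsElementaryAbelian p A)
    (hAcard : Nat.card A = p ^ 2) (hV : Cfsg.IsElementaryAbelian r V) (hQ : IsPGroup s Q)
    (hR : IsPGroup t R) (hQV : Q ≤ Subgroup.normalizer (V : Set X))
    (hRV : R ≤ Subgroup.normalizer (V : Set X)) (hAV : A ≤ Subgroup.normalizer (V : Set X))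
    (hRQ : R ≤ Subgroup.normalizer (Q : Set X)) (hAQ : A ≤ Subgroup.normalizer (Q : Set X))
    (hAR : A ≤ Subgroup.normalizer (R : Set X))
    (hfaith : Q ⊓ Subgroup.centralizer (V : Set X) = ⊥)
    (hCQ : Q ⊓ Subgroup.centralizer (A : Set X) = ⊥)
    (hCR : R ⊓ Subgroup.centralizer (A : Set X) = ⊥)
    (h1 : ∀ B : Subgroup X, B ≤ A → Nat.card B = p →
      ∀ q ∈ Q ⊓ Subgroup.centralizer (B : Set X), ∀ v ∈ V ⊓ Subgroup.centralizer (B : Set X),
        q * v = v * q)
    (h2 : ∀ B : Subgroup X, B ≤ A → Nat.card B = p →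
      ∀ x ∈ R ⊓ Subgroup.centralizer (B : Set X), ∀ q ∈ Q ⊓ Subgroup.centralizer (B : Set X),
        x * q = q * x) :
    R ≤ Subgroup.centralizer (Q : Set X) := by
  by_contra hnc
  have hcfg : Cfg p r s t A V Q R :=
    { hA := hA, hAcard := hAcard, hV := hV, hQ := hQ, hR := hR, hQV := hQV, hRV := hRV, hAV := hAV,
      hRQ := hRQ, hAQ := hAQ, hAR := hAR, hfaith := hfaith, hCQ := hCQ, hCR := hCR, h1 := h1,
      h2 := h2 }
  obtain ⟨Q', R', hmin⟩ := exists_minCfg hcfg hnc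
  obtain ⟨B₁, hB₁, hc₁, hR₁⟩ := minCfg_exists_B1 hmin hpt
  have hQab := minCfg_abelian hmin hsr hts hpr hps hpt
  -- `C_{Q'}(B₁) = 1`
  have hQ₁ : Q' ⊓ Subgroup.centralizer (B₁ : Set X) = ⊥ := by
    have hn : R' ⊔ A ≤ Subgroup.normalizer (((Q' ⊓ Subgroup.centralizer (R' : Set X) : Subgroup X)) : Set X) :=
      le_normalizer_inf' (sup_le hmin.hRQ hmin.hAQ)
        (le_normalizer_centralizer (sup_le Subgroup.le_normalizer hmin.hAR))
    rcases minCfg_irred hmin hsr hts hpr hps hpt _ inf_le_left hn with h3 | h3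
    · rw [eq_bot_iff, ← h3]
      exact le_inf inf_le_left
        (Subgroup.le_centralizer_iff.1 (minCfg_R_centralizes hmin hB₁ hc₁ hR₁))
    · exfalso
      apply hmin.hnc
      have h4 : Q' ≤ Subgroup.centralizer (R' : Set X) := by
        rw [← h3]; exact inf_le_right
      exact Subgroup.le_centralizer_iff.1 h4
  exact abCfg_false
    { toMinCfg := hmin, hsr := hsr, hts := hts, hpr := hpr, hps := hps, hpt := hpt, hQab := hQab,
      hB₁ := hB₁, hc₁ := hc₁, hR₁ := hR₁, hQ₁ := hQ₁ }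

end Cfsg.Agent.Lib.Helper5.WardCfg
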